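import Mathlib
import Groth.Prelude.Def_EtBaseX

/-!
# The étale local ring at a geometric point is strictly henselian (S0111)
-/

set_option autoImplicit false
open CategoryTheory CategoryTheory.Limits AlgebraicGeometry Opposite
universe u

namespace Groth.Agent.Helper1.ELR

theorem isUnit_of_basicOpen_eq_top {Y : Scheme.{u}} (g : Γ(Y, ⊤)) (h : Y.basicOpen g = ⊤) :
    IsUnit g := by
  have h1 : IsUnit (Y.presheaf.map (homOfLE (Y.basicOpen_le g)).op g) :=
    RingedSpace.isUnit_res_basicOpen _ g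
  have h2 := h1.map (Y.presheaf.map (homOfLE h.ge).op).hom
  have h3 : (Y.presheaf.map (homOfLE h.ge).op).hom
      ((Y.presheaf.map (homOfLE (Y.basicOpen_le g)).op).hom g) = g := by
    rw [← CommRingCat.comp_apply, ← Functor.map_comp]
    have h4 : (homOfLE (Y.basicOpen_le g)).op ≫ (homOfLE h.ge).op = 𝟙 (op (⊤ : Y.Opens)) :=
      Subsingleton.elim _ _
    rw [h4, CategoryTheory.Functor.map_id]
    rfl
  rwa [h3] at h2

theorem iso_inv_hom_apply {A B : CommRingCat.{u}} (e : A ≅ B) (t : A) :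
    e.inv.hom (e.hom.hom t) = t := by
  have := congrArg (fun h => h.hom t) e.hom_inv_id
  exact this

theorem iso_hom_inv_apply {A B : CommRingCat.{u}} (e : A ≅ B) (t : B) :
    e.hom.hom (e.inv.hom t) = t := by
  have := congrArg (fun h => h.hom t) e.inv_hom_id
  exact this

theorem spec_ev_eq {Y : Scheme.{u}} [IsAffine Y] {K : CommRingCat.{u}} (p : Spec K ⟶ Y) :
    Spec.map (p.appTop ≫ (Scheme.ΓSpecIso K).hom) ≫ Y.isoSpec.inv = p := by
  rw [Spec.map_comp, SpecMap_ΓSpecIso_hom, Category.assoc, ← Scheme.toSpecΓ_naturality_assoc,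
    Scheme.toSpecΓ_isoSpec_inv, Category.comp_id]

theorem appTop_spec_eq {Y : Scheme.{u}} [IsAffine Y] {B : CommRingCat.{u}} (φ : Γ(Y, ⊤) ⟶ B) :
    (Spec.map φ ≫ Y.isoSpec.inv).appTop ≫ (Scheme.ΓSpecIso B).hom = φ := by
  rw [Scheme.Hom.comp_appTop, Category.assoc, Scheme.ΓSpecIso_naturality,
    ← Scheme.toSpecΓ_appTop, ← Category.assoc, ← Scheme.Hom.comp_appTop,
    Scheme.toSpecΓ_isoSpec_inv, Scheme.Hom.id_appTop, Category.id_comp]

section

variable {X : Scheme.{u}} {Ω : Type u} [Field Ω] [IsSepClosed Ω]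
  (ξ : Spec (CommRingCat.of Ω) ⟶ X)

/-- the point of the small étale site attached to `ξ` -/
noncomputable abbrev Φ := Scheme.pointSmallEtale ξ

/-- the underlying morphism of a lift of the geometric point -/
noncomputable def pt (U : X.Etale) (x : (Φ ξ).fiber.obj U) :
    Spec (CommRingCat.of Ω) ⟶ U.left :=
  CommaMorphism.left x

theorem pt_comp (U : X.Etale) (x : (Φ ξ).fiber.obj U) : pt ξ U x ≫ U.hom = ξ :=
  Over.w x

/-- constructor for lifts of the geometric point -/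
noncomputable def mkPt (U : X.Etale) (l : Spec (CommRingCat.of Ω) ⟶ U.left)
    (hl : l ≫ U.hom = ξ) : (Φ ξ).fiber.obj U :=
  Over.homMk l hl

theorem pt_mkPt (U : X.Etale) (l : Spec (CommRingCat.of Ω) ⟶ U.left)
    (hl : l ≫ U.hom = ξ) : pt ξ U (mkPt ξ U l hl) = l := rfl

theorem pt_ext (U : X.Etale) (x y : (Φ ξ).fiber.obj U) (h : pt ξ U x = pt ξ U y) : x = y :=
  Over.OverMorphism.ext h

theorem pt_map {U V : X.Etale} (g : U ⟶ V) (x : (Φ ξ).fiber.obj U) :
    pt ξ V ((Φ ξ).fiber.map g x) = pt ξ U x ≫ g.left := rfl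

/-- the canonical maps to the étale local ring -/
noncomputable def ρ (U : X.Etale) (x : (Φ ξ).fiber.obj U) :
    Γ(U.left, ⊤) ⟶ EtBase.etaleLocalRing ξ :=
  (Φ ξ).toPresheafFiber U x (EtBase.OO X)

theorem ρ_map {U V : X.Etale} (g : U ⟶ V) (x : (Φ ξ).fiber.obj U) :
    g.left.appTop ≫ ρ ξ U x = ρ ξ V ((Φ ξ).fiber.map g x) :=
  (Φ ξ).toPresheafFiber_w g x (EtBase.OO X)

theorem exists_rep (r : EtBase.etaleLocalRing ξ) :
    ∃ (U : X.Etale) (x : (Φ ξ).fiber.obj U) (s : Γ(U.left, ⊤)), (ρ ξ U x).hom s = r :=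
  (Φ ξ).toPresheafFiber_jointly_surjective r

theorem range_ρ_mono {U V : X.Etale} (g : U ⟶ V) (x : (Φ ξ).fiber.obj U)
    (y : (Φ ξ).fiber.obj V) (h : (Φ ξ).fiber.map g x = y) :
    Set.range (ρ ξ V y).hom ⊆ Set.range (ρ ξ U x).hom := by
  rintro _ ⟨s, rfl⟩
  refine ⟨g.left.appTop.hom s, ?_⟩
  rw [← h, ← ρ_map]
  rfl

/-- evaluation at the geometric point on an étale neighbourhood -/
noncomputable def evU (U : X.Etale) (x : (Φ ξ).fiber.obj U) :
    Γ(U.left, ⊤) ⟶ CommRingCat.of Ω :=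
  (pt ξ U x).appTop ≫ (Scheme.ΓSpecIso (CommRingCat.of Ω)).hom

theorem evU_compat ⦃U V : X.Etale⦄ (f : U ⟶ V) (x : (Φ ξ).fiber.obj U) :
    (EtBase.OO X).map f.op ≫ evU ξ U x = evU ξ V ((Φ ξ).fiber.map f x) := by
  show f.left.appTop ≫ (pt ξ U x).appTop ≫ _ = (pt ξ U x ≫ f.left).appTop ≫ _
  rw [Scheme.Hom.comp_appTop, Category.assoc]

/-- evaluation at the geometric point on the étale local ring -/
noncomputable def ev : EtBase.etaleLocalRing ξ ⟶ CommRingCat.of Ω :=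
  (Φ ξ).presheafFiberDesc (evU ξ) (evU_compat ξ)

theorem ρ_ev (U : X.Etale) (x : (Φ ξ).fiber.obj U) : ρ ξ U x ≫ ev ξ = evU ξ U x := by
  unfold ρ ev
  exact (Φ ξ).toPresheafFiber_presheafFiberDesc (P := EtBase.OO X) (evU ξ) (evU_compat ξ) U x

theorem ev_ρ_apply (U : X.Etale) (x : (Φ ξ).fiber.obj U) (s : Γ(U.left, ⊤)) :
    (ev ξ).hom ((ρ ξ U x).hom s) = (evU ξ U x).hom s :=
  congrArg (fun h => h.hom s) (ρ_ev ξ U x)

theorem ev_comp_ρ (U : X.Etale) (x : (Φ ξ).fiber.obj U) :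
    (ev ξ).hom.comp (ρ ξ U x).hom = (evU ξ U x).hom := by
  rw [← ρ_ev ξ U x]
  rfl

theorem isUnit_ρ_of_evU_ne_zero (U : X.Etale) (x : (Φ ξ).fiber.obj U)
    (s : Γ(U.left, ⊤)) (hs : (evU ξ U x).hom s ≠ 0) :
    IsUnit ((ρ ξ U x).hom s) := by
  haveI : Etale U.hom := U.prop
  let D : U.left.Opens := U.left.basicOpen s
  have hpre : (pt ξ U x) ⁻¹ᵁ D = ⊤ := by
    rw [Scheme.preimage_basicOpen_top]
    apply Scheme.basicOpen_of_isUnit
    have h1 : IsUnit ((evU ξ U x).hom s) := IsUnit.mk0 _ hs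
    have h2 := h1.map (Scheme.ΓSpecIso (CommRingCat.of Ω)).inv.hom
    have h3 : (Scheme.ΓSpecIso (CommRingCat.of Ω)).inv.hom ((evU ξ U x).hom s) =
        (pt ξ U x).appTop.hom s :=
      iso_inv_hom_apply (Scheme.ΓSpecIso (CommRingCat.of Ω)) _
    rw [h3] at h2
    exact h2
  have hrange : Set.range (pt ξ U x) ⊆ Set.range D.ι := by
    rw [Scheme.Opens.range_ι]
    rintro _ ⟨z, rfl⟩
    have hz : z ∈ ((pt ξ U x) ⁻¹ᵁ D) := by rw [hpre]; trivial
    exact hz
  let l : Spec (CommRingCat.of Ω) ⟶ D.toScheme := IsOpenImmersion.lift D.ι (pt ξ U x) hrange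
  have hl : l ≫ D.ι = pt ξ U x := IsOpenImmersion.lift_fac _ _ _
  let W : X.Etale := Scheme.Etale.mk (D.ι ≫ U.hom)
  let g : W ⟶ U := MorphismProperty.Over.homMk D.ι rfl trivial
  let w : (Φ ξ).fiber.obj W := mkPt ξ W l (by
    show l ≫ D.ι ≫ U.hom = ξ
    rw [← Category.assoc, hl]
    exact pt_comp ξ U x)
  have hw : (Φ ξ).fiber.map g w = x := by
    apply pt_ext
    exact hl
  have h3 : (ρ ξ U x).hom s = (ρ ξ W w).hom (D.ι.appTop.hom s) := by
    rw [← hw, ← ρ_map]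
    rfl
  rw [h3]
  apply IsUnit.map
  apply isUnit_of_basicOpen_eq_top
  exact (Scheme.preimage_basicOpen_top D.ι s).symm.trans D.ι_preimage_self

theorem isUnit_iff (r : EtBase.etaleLocalRing ξ) : IsUnit r ↔ (ev ξ).hom r ≠ 0 := by
  constructor
  · intro h
    exact (h.map (ev ξ).hom).ne_zero
  · intro h
    obtain ⟨U, x, s, rfl⟩ := exists_rep ξ r
    apply isUnit_ρ_of_evU_ne_zero
    rwa [ev_ρ_apply] at h

instance isLocalHom_ev : IsLocalHom (ev ξ).hom :=
  ⟨fun r hr => (isUnit_iff ξ r).2 hr.ne_zero⟩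

theorem isLocalRing : IsLocalRing (EtBase.etaleLocalRing ξ) :=
  RingHom.domain_isLocalRing (ev ξ).hom

theorem mem_maximalIdeal_iff (r : EtBase.etaleLocalRing ξ) :
    letI := isLocalRing ξ
    r ∈ IsLocalRing.maximalIdeal (EtBase.etaleLocalRing ξ) ↔ (ev ξ).hom r = 0 := by
  letI := isLocalRing ξ
  rw [IsLocalRing.mem_maximalIdeal, mem_nonunits_iff, isUnit_iff, not_not]

theorem exists_affine_refinement (U : X.Etale) (x : (Φ ξ).fiber.obj U) :
    ∃ (W : X.Etale) (w : (Φ ξ).fiber.obj W) (g : W ⟶ U),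
      IsAffine W.left ∧ (Φ ξ).fiber.map g w = x := by
  haveI : Etale U.hom := U.prop
  obtain ⟨R', j, hj, hmem, -⟩ := Scheme.exists_affine_mem_range_and_range_subset
    (x := (pt ξ U x) default) (U := ⊤) (by trivial)
  have hrange : Set.range (pt ξ U x) ⊆ Set.range j := by
    rintro _ ⟨a, rfl⟩
    rwa [Subsingleton.elim a default]
  let l := IsOpenImmersion.lift j (pt ξ U x) hrange
  have hl : l ≫ j = pt ξ U x := IsOpenImmersion.lift_fac _ _ _
  refine ⟨Scheme.Etale.mk (j ≫ U.hom), mkPt ξ _ l ?_,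
    MorphismProperty.Over.homMk j rfl trivial, ?_, ?_⟩
  · show l ≫ j ≫ U.hom = ξ
    rw [← Category.assoc, hl]
    exact pt_comp ξ U x
  · show IsAffine (Spec R')
    infer_instance
  · apply pt_ext
    exact hl

theorem exists_common (S : Finset (EtBase.etaleLocalRing ξ)) :
    ∃ (U : X.Etale) (x : (Φ ξ).fiber.obj U), IsAffine U.left ∧
      (↑S : Set (EtBase.etaleLocalRing ξ)) ⊆ Set.range (ρ ξ U x).hom := by
  classical
  induction S using Finset.induction_on with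
  | empty =>
    obtain ⟨U, x, s, -⟩ := exists_rep ξ (0 : EtBase.etaleLocalRing ξ)
    obtain ⟨W, w, g, hW, -⟩ := exists_affine_refinement ξ U x
    exact ⟨W, w, hW, by simp⟩
  | insert r S hr ih =>
    obtain ⟨U, x, -, hU⟩ := ih
    obtain ⟨V, y, s, hs⟩ := exists_rep ξ r
    let a : (Φ ξ).fiber.Elements := ⟨U, x⟩
    let b : (Φ ξ).fiber.Elements := ⟨V, y⟩
    let c := IsCofiltered.min a b
    let fa : c ⟶ a := IsCofiltered.minToLeft a b
    let fb : c ⟶ b := IsCofiltered.minToRight a b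
    obtain ⟨W, w, g, hW, hw⟩ := exists_affine_refinement ξ c.1 c.2
    refine ⟨W, w, hW, ?_⟩
    have h1 : Set.range (ρ ξ U x).hom ⊆ Set.range (ρ ξ W w).hom :=
      range_ρ_mono ξ (g ≫ fa.1) w x (by
        rw [FunctorToTypes.map_comp_apply, hw]
        exact fa.2)
    have h2 : Set.range (ρ ξ V y).hom ⊆ Set.range (ρ ξ W w).hom :=
      range_ρ_mono ξ (g ≫ fb.1) w y (by
        rw [FunctorToTypes.map_comp_apply, hw]
        exact fb.2)
    rw [Finset.coe_insert]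
    exact Set.insert_subset (h2 ⟨s, hs⟩) (hU.trans h1)

theorem exists_poly_lift (f : Polynomial (EtBase.etaleLocalRing ξ)) (hf : f.Monic) :
    ∃ (U : X.Etale) (x : (Φ ξ).fiber.obj U) (_ : IsAffine U.left)
      (F : Polynomial Γ(U.left, ⊤)), F.Monic ∧ F.map (ρ ξ U x).hom = f := by
  haveI := isLocalRing ξ
  obtain ⟨U, x, hU, hS⟩ := exists_common ξ f.coeffs
  have hlift : f ∈ Polynomial.lifts (ρ ξ U x).hom := by
    rw [Polynomial.lifts_iff_coeff_lifts]
    intro n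
    by_cases hn : f.coeff n = 0
    · exact ⟨0, by rw [map_zero, hn]⟩
    · exact hS (Finset.mem_coe.2 (Polynomial.coeff_mem_coeffs hn))
  obtain ⟨F, hF1, -, hF2⟩ := Polynomial.lifts_and_degree_eq_and_monic hlift hf
  exact ⟨U, x, hU, F, hF2, hF1⟩

theorem exists_root_nbhd (U : X.Etale) [IsAffine U.left] (x : (Φ ξ).fiber.obj U)
    (F : Polynomial Γ(U.left, ⊤)) (hF : F.Monic) (ω₀ : Ω)
    (h0 : Polynomial.eval₂ (evU ξ U x).hom ω₀ F = 0)
    (h1 : Polynomial.eval₂ (evU ξ U x).hom ω₀ (Polynomial.derivative F) ≠ 0) :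
    ∃ a : EtBase.etaleLocalRing ξ,
      Polynomial.eval₂ (ρ ξ U x).hom a F = 0 ∧ (ev ξ).hom a = ω₀ := by
  haveI : Etale U.hom := U.prop
  let A : CommRingCat.{u} := Γ(U.left, ⊤)
  let P : StandardEtalePair A := ⟨F, hF, Polynomial.derivative F, ⟨1, 0, 1, by simp⟩⟩
  letI : Algebra A Ω := (evU ξ U x).hom.toAlgebra
  have hmap : P.HasMap ω₀ := by
    refine ⟨?_, ?_⟩
    · show Polynomial.aeval ω₀ F = 0
      rw [Polynomial.aeval_def]
      exact h0
    · show IsUnit (Polynomial.aeval ω₀ (Polynomial.derivative F))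
      rw [Polynomial.aeval_def]
      exact IsUnit.mk0 _ h1
  let B : CommRingCat.{u} := CommRingCat.of P.Ring
  let φ : A ⟶ B := CommRingCat.ofHom (algebraMap A P.Ring)
  let ψ : P.Ring →ₐ[A] Ω := P.lift ω₀ hmap
  let ψ' : B ⟶ CommRingCat.of Ω := CommRingCat.ofHom ψ.toRingHom
  have hφψ : φ ≫ ψ' = evU ξ U x := by
    apply CommRingCat.hom_ext
    apply RingHom.ext
    intro t
    exact ψ.commutes t
  have hφ1 : (algebraMap A P.Ring).Etale := RingHom.etale_algebraMap.mpr inferInstance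
  haveI hφet : Etale (Spec.map φ) := (HasRingHomProperty.Spec_iff (P := @Etale)).2 hφ1
  let q : Spec B ⟶ U.left := Spec.map φ ≫ U.left.isoSpec.inv
  let W : X.Etale := Scheme.Etale.mk (q ≫ U.hom)
  let g : W ⟶ U := MorphismProperty.Over.homMk q rfl trivial
  let l : Spec (CommRingCat.of Ω) ⟶ Spec B := Spec.map ψ'
  have hl : l ≫ q = pt ξ U x := by
    show Spec.map ψ' ≫ Spec.map φ ≫ U.left.isoSpec.inv = pt ξ U x
    rw [← Category.assoc, ← Spec.map_comp, hφψ]
    exact spec_ev_eq (pt ξ U x)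
  let w : (Φ ξ).fiber.obj W := mkPt ξ W l (by
    show l ≫ q ≫ U.hom = ξ
    rw [← Category.assoc, hl]
    exact pt_comp ξ U x)
  have hw : (Φ ξ).fiber.map g w = x := by
    apply pt_ext
    exact hl
  -- the root
  let b : Γ(Spec B, ⊤) := (Scheme.ΓSpecIso B).inv.hom P.X
  have hb : (Scheme.ΓSpecIso B).hom.hom b = P.X := iso_hom_inv_apply _ _
  have hγ : (Scheme.ΓSpecIso B).hom.hom.comp q.appTop.hom = algebraMap A P.Ring := by
    have := appTop_spec_eq (Y := U.left) φ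
    exact congrArg (fun h => h.hom) this
  have hroot : Polynomial.eval₂ q.appTop.hom b F = 0 := by
    have hinj : Function.Injective (Scheme.ΓSpecIso B).hom.hom := by
      intro t₁ t₂ ht
      rw [← iso_inv_hom_apply (Scheme.ΓSpecIso B) t₁, ht, iso_inv_hom_apply]
    apply hinj
    rw [Polynomial.hom_eval₂, hγ, hb, map_zero]
    exact (P.hasMap_X).1
  have hρ : (ρ ξ U x).hom = (ρ ξ W w).hom.comp q.appTop.hom := by
    rw [← hw, ← ρ_map]
    rfl
  refine ⟨(ρ ξ W w).hom b, ?_, ?_⟩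
  · rw [hρ, ← Polynomial.hom_eval₂]
    exact (congrArg (ρ ξ W w).hom hroot).trans (map_zero _)
  · rw [ev_ρ_apply]
    show (Scheme.ΓSpecIso (CommRingCat.of Ω)).hom.hom ((Spec.map ψ').appTop.hom b) = ω₀
    have h5 := congrArg (fun h => h.hom b) (Scheme.ΓSpecIso_naturality ψ')
    have h6 : (Scheme.ΓSpecIso (CommRingCat.of Ω)).hom.hom ((Spec.map ψ').appTop.hom b) =
        ψ'.hom ((Scheme.ΓSpecIso B).hom.hom b) := h5
    rw [h6, hb]
    exact P.lift_X ω₀ hmap

theorem exists_root (f : Polynomial (EtBase.etaleLocalRing ξ)) (hf : f.Monic) (ω₀ : Ω)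
    (h0 : Polynomial.eval₂ (ev ξ).hom ω₀ f = 0)
    (h1 : Polynomial.eval₂ (ev ξ).hom ω₀ (Polynomial.derivative f) ≠ 0) :
    ∃ a : EtBase.etaleLocalRing ξ, f.IsRoot a ∧ (ev ξ).hom a = ω₀ := by
  obtain ⟨U, x, hU, F, hF, rfl⟩ := exists_poly_lift ξ f hf
  rw [Polynomial.eval₂_map, ev_comp_ρ] at h0
  rw [Polynomial.derivative_map, Polynomial.eval₂_map, ev_comp_ρ] at h1
  obtain ⟨a, ha, ha'⟩ := exists_root_nbhd ξ U x F hF ω₀ h0 h1
  refine ⟨a, ?_, ha'⟩
  rw [Polynomial.IsRoot.def, Polynomial.eval_map]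
  exact ha

theorem henselian : HenselianLocalRing (EtBase.etaleLocalRing ξ) := by
  haveI := isLocalRing ξ
  refine HenselianLocalRing.mk ?_
  intro f hf a₀ h0 h1
  have h0' : Polynomial.eval₂ (ev ξ).hom ((ev ξ).hom a₀) f = 0 := by
    rw [Polynomial.eval₂_at_apply]
    exact (mem_maximalIdeal_iff ξ _).1 h0
  have h1' : Polynomial.eval₂ (ev ξ).hom ((ev ξ).hom a₀) (Polynomial.derivative f) ≠ 0 := by
    rw [Polynomial.eval₂_at_apply]
    exact (isUnit_iff ξ _).1 h1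
  obtain ⟨a, ha, ha'⟩ := exists_root ξ f hf _ h0' h1'
  refine ⟨a, ha, ?_⟩
  rw [mem_maximalIdeal_iff, map_sub, ha', sub_self]

theorem isSepClosed_residueField :
    letI := isLocalRing ξ
    IsSepClosed (IsLocalRing.ResidueField (EtBase.etaleLocalRing ξ)) := by
  letI := isLocalRing ξ
  apply IsSepClosed.of_exists_root
  intro p hp hirr hsep
  have hlift : p ∈ Polynomial.lifts (IsLocalRing.residue (EtBase.etaleLocalRing ξ)) := by
    rw [Polynomial.lifts_iff_coeff_lifts]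
    intro n
    exact IsLocalRing.residue_surjective _
  obtain ⟨f, hf1, -, hf2⟩ := Polynomial.lifts_and_degree_eq_and_monic hlift hp
  let ι : IsLocalRing.ResidueField (EtBase.etaleLocalRing ξ) →+* Ω :=
    IsLocalRing.ResidueField.lift (ev ξ).hom
  have hι : ι.comp (IsLocalRing.residue (EtBase.etaleLocalRing ξ)) = (ev ξ).hom :=
    IsLocalRing.ResidueField.lift_comp_residue _
  have hdeg : (p.map ι).degree ≠ 0 := by
    rw [Polynomial.degree_map]
    exact (Polynomial.degree_pos_of_irreducible hirr).ne'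
  obtain ⟨ω₀, hω⟩ := IsSepClosed.exists_root (p.map ι) hdeg hsep.map
  have hω' : Polynomial.eval₂ ι ω₀ p = 0 := by
    rw [← Polynomial.eval_map]
    exact hω
  have e0 : Polynomial.eval₂ (ev ξ).hom ω₀ f = Polynomial.eval₂ ι ω₀ p := by
    rw [← hf1, Polynomial.eval₂_map, hι]
  have e1 : Polynomial.eval₂ (ev ξ).hom ω₀ (Polynomial.derivative f) =
      Polynomial.eval₂ ι ω₀ (Polynomial.derivative p) := by
    rw [← hf1, Polynomial.derivative_map, Polynomial.eval₂_map, hι]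
  have h0 : Polynomial.eval₂ (ev ξ).hom ω₀ f = 0 := by rw [e0]; exact hω'
  have h1 : Polynomial.eval₂ (ev ξ).hom ω₀ (Polynomial.derivative f) ≠ 0 := by
    rw [e1]
    exact hsep.eval₂_derivative_ne_zero ι hω'
  obtain ⟨a, ha, -⟩ := exists_root ξ f hf2 ω₀ h0 h1
  refine ⟨IsLocalRing.residue _ a, ?_⟩
  rw [← hf1, Polynomial.eval_map, Polynomial.eval₂_at_apply, Polynomial.IsRoot.def.1 ha, map_zero]

theorem main0111 : EtCoh.IsStrictlyHenselianLocalRing (EtBase.etaleLocalRing ξ) :=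
  ⟨henselian ξ, isSepClosed_residueField ξ⟩

end

end Groth.Agent.Helper1.ELR
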