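import Mathlib.RingTheory.Henselian
import Mathlib.RingTheory.AdjoinRoot
import Mathlib.RingTheory.Nakayama
import Mathlib.RingTheory.LocalRing.ResidueField.Basic
import Mathlib.LinearAlgebra.FreeModule.Basic

set_option autoImplicit false

/-! # Roots from idempotents in `R[X]/(f)` -/

namespace Groth.Agent.Helper1

open Polynomial IsLocalRing

lemma eq_zero_of_smul_eq_zero_of_notMem_smul_top {R M : Type*} [CommRing R] [IsLocalRing R]
    [AddCommGroup M] [Module R M] [Module.Free R M] (e : M)
    (he : e ∉ maximalIdeal R • (⊤ : Submodule R M)) (r : R) (h : r • e = 0) : r = 0 := by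
  let b := Module.Free.chooseBasis R M
  have : ∃ i, b.repr e i ∉ maximalIdeal R := by
    by_contra hcon
    push Not at hcon
    apply he
    rw [← b.linearCombination_repr e, Finsupp.linearCombination_apply]
    exact Submodule.sum_mem _ fun i _ ↦ Submodule.smul_mem_smul (hcon i) trivial
  obtain ⟨i, hi⟩ := this
  have hu : IsUnit (b.repr e i) := by
    rwa [mem_maximalIdeal, mem_nonunits_iff, not_not] at hi
  have : r * b.repr e i = 0 := by
    have := congr(b.repr $h i)
    simpa using this
  exact hu.mul_left_eq_zero.mp this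

lemma mk_mem_map_maximalIdeal_of_map_eq_zero {R : Type*} [CommRing R] [IsLocalRing R] (f p : R[X])
    (hp : p.map (residue R) = 0) :
    AdjoinRoot.mk f p ∈ (maximalIdeal R).map (algebraMap R (AdjoinRoot f)) := by
  have h1 : p ∈ (maximalIdeal R).map (C : R →+* R[X]) := by
    rw [Ideal.mem_map_C_iff]
    intro n
    have := congr(coeff $hp n)
    rw [coeff_map, coeff_zero] at this
    exact Ideal.Quotient.eq_zero_iff_mem.mp this
  have h2 : algebraMap R (AdjoinRoot f) = (AdjoinRoot.mk f).comp C := rfl
  rw [h2, ← Ideal.map_map]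
  exact Ideal.mem_map_of_mem _ h1

/-- Key lemma: an idempotent of `R[X]/(f)` cutting out a rank one factor gives a root of `f`. -/
theorem exists_root_of_idempotent {R : Type*} [CommRing R] [IsLocalRing R] (f : R[X])
    (hf : f.Monic) (a : R) (χ : AdjoinRoot f →ₐ[R] ResidueField R)
    (hχ : χ (AdjoinRoot.root f) = residue R a)
    (e : AdjoinRoot f) (he : IsIdempotentElem e) (hχe : χ e = 1)
    (hJ : (AdjoinRoot.root f - algebraMap R _ a) * e ∈
      (maximalIdeal R).map (algebraMap R (AdjoinRoot f))) :
    ∃ a' : R, f.IsRoot a' ∧ residue R a' = residue R a := by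
  have : Module.Finite R (AdjoinRoot f) := hf.finite_adjoinRoot
  have : Module.Free R (AdjoinRoot f) := hf.free_adjoinRoot
  set T := AdjoinRoot.root f with hT
  let N : Submodule R (AdjoinRoot f) := LinearMap.range (LinearMap.mulLeft R e)
  have hNfg : N.FG := by
    change (LinearMap.range (LinearMap.mulLeft R e)).FG
    rw [LinearMap.range_eq_map]
    exact (Module.Finite.fg_top).map _
  have hmemN : ∀ c, e * c ∈ N := fun c ↦ ⟨c, rfl⟩
  have hJN : ∀ j ∈ (maximalIdeal R).map (algebraMap R (AdjoinRoot f)), ∀ y,
      e * j * y ∈ maximalIdeal R • N := by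
    intro j hj y
    have hj' : j ∈ maximalIdeal R • (⊤ : Submodule R (AdjoinRoot f)) := by
      rw [Ideal.smul_top_eq_map]; exact hj
    refine Submodule.smul_induction_on (p := fun j ↦ e * j * y ∈ maximalIdeal R • N) hj' ?_ ?_
    · intro r hr c _
      have : e * r • c * y = r • (e * (c * y)) := by
        rw [mul_smul_comm, smul_mul_assoc, mul_assoc]
      rw [this]
      exact Submodule.smul_mem_smul hr (hmemN _)
    · intro x z hx hz
      rw [mul_add, add_mul]
      exact add_mem hx hz
  have hle : N ≤ Submodule.span R {e} ⊔ maximalIdeal R • N := by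
    rintro _ ⟨c, rfl⟩
    obtain ⟨p, rfl⟩ := AdjoinRoot.mk_surjective c
    obtain ⟨q, hq⟩ := X_sub_C_dvd_sub_C_eval (a := a) (p := p)
    have hp : p = (X - C a) * q + C (p.eval a) := by rw [← hq]; ring
    have h1 : AdjoinRoot.mk f p = (T - algebraMap R _ a) * AdjoinRoot.mk f q +
        algebraMap R _ (p.eval a) := by
      conv_lhs => rw [hp]
      simp [hT, AdjoinRoot.algebraMap_eq]
    change e * AdjoinRoot.mk f p ∈ _
    have h2 : e * AdjoinRoot.mk f p = e * ((T - algebraMap R _ a) * e) * AdjoinRoot.mk f q +
        (p.eval a) • e := by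
      rw [h1, Algebra.smul_def]
      have := he.eq
      linear_combination (-(T - algebraMap R _ a) * AdjoinRoot.mk f q) * this
    rw [h2, add_comm]
    exact Submodule.add_mem_sup (Submodule.smul_mem _ _ (Submodule.mem_span_singleton_self e))
      (hJN _ hJ _)
  have hN : N ≤ Submodule.span R {e} :=
    Submodule.le_of_le_smul_of_le_jacobson_bot hNfg
      (IsLocalRing.maximalIdeal_le_jacobson _) hle
  obtain ⟨a', ha'⟩ := Submodule.mem_span_singleton.mp (hN (hmemN T))
  have hpoly : ∀ p : R[X], AdjoinRoot.mk f p * e = (p.eval a') • e := by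
    intro p
    induction p using Polynomial.induction_on with
    | C r => simp [AdjoinRoot.algebraMap_eq, Algebra.smul_def]
    | add p q hp hq => rw [map_add, add_mul, hp, hq, eval_add, add_smul]
    | monomial n r ih =>
      have : AdjoinRoot.mk f (C r * X ^ (n + 1)) * e =
          AdjoinRoot.mk f (C r * X ^ n) * (e * T) := by
        rw [pow_succ, ← mul_assoc, map_mul _ _ X, AdjoinRoot.mk_X]; ring
      rw [this, ← ha', mul_smul_comm, ih, smul_smul]
      congr 1
      simp [pow_succ]; ring
  have hroot : f.eval a' = 0 := by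
    refine eq_zero_of_smul_eq_zero_of_notMem_smul_top e ?_ _ ?_
    · intro hmem
      rw [Ideal.smul_top_eq_map] at hmem
      have hker : (maximalIdeal R).map (algebraMap R (AdjoinRoot f)) ≤ RingHom.ker χ.toRingHom := by
        rw [Ideal.map_le_iff_le_comap]
        intro r hr
        rw [Ideal.mem_comap, RingHom.mem_ker]
        change χ (algebraMap R _ r) = 0
        rw [AlgHom.commutes]
        exact Ideal.Quotient.eq_zero_iff_mem.mpr hr
      have := hker hmem
      rw [RingHom.mem_ker] at this
      change χ e = 0 at this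
      rw [hχe] at this
      exact one_ne_zero this
    · rw [← hpoly, AdjoinRoot.mk_self, zero_mul]
  refine ⟨a', hroot, ?_⟩
  have h1 := congr(χ $ha')
  rw [map_smul, map_mul, hχe, hχ, Algebra.smul_def, mul_one, one_mul] at h1
  exact h1

end Groth.Agent.Helper1
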