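import Groth.Agent.Lib.Helper1.HenselFactor
import Groth.Agent.Lib.Helper1.HenselRoot
import Mathlib.RingTheory.QuasiFinite.Basic
import Mathlib.RingTheory.Idempotents

set_option autoImplicit false

/-! # Finite algebras over henselian local rings are products of local rings -/

namespace Groth.Agent.Helper1

open Polynomial IsLocalRing

universe u

/-- Over a local ring, a monic polynomial `P` and a polynomial `Q` whose reductions are coprime
are coprime. -/
theorem isCoprime_of_isCoprime_map_residue {R : Type*} [CommRing R] [IsLocalRing R] {P Q : R[X]}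
    (hP : P.Monic) (h : IsCoprime (P.map (residue R)) (Q.map (residue R))) : IsCoprime P Q := by
  have : Module.Finite R (AdjoinRoot P) := hP.finite_adjoinRoot
  obtain ⟨u₀, v₀, huv⟩ := h
  obtain ⟨u, rfl⟩ := Polynomial.map_surjective (residue R) residue_surjective u₀
  obtain ⟨v, rfl⟩ := Polynomial.map_surjective (residue R) residue_surjective v₀
  have h0 : (u * P + v * Q - 1).map (residue R) = 0 := by
    rw [Polynomial.map_sub, Polynomial.map_add, Polynomial.map_mul, Polynomial.map_mul, huv,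
      Polynomial.map_one, sub_self]
  have h3 := mk_mem_map_maximalIdeal_of_map_eq_zero P _ h0
  have htop : Ideal.span {AdjoinRoot.mk P Q} = ⊤ := by
    set I : Ideal (AdjoinRoot P) := Ideal.span {AdjoinRoot.mk P Q} with hI
    have hle : (⊤ : Submodule R (AdjoinRoot P)) ≤
        I.restrictScalars R ⊔ maximalIdeal R • (⊤ : Submodule R (AdjoinRoot P)) := by
      intro x _
      have hx : x = x * (AdjoinRoot.mk P v * AdjoinRoot.mk P Q) -
          x * AdjoinRoot.mk P (u * P + v * Q - 1) := by
        simp only [map_sub, map_add, map_mul, map_one, AdjoinRoot.mk_self]; ring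
      rw [hx]
      refine Submodule.sub_mem _ (Submodule.mem_sup_left ?_) (Submodule.mem_sup_right ?_)
      · change _ ∈ I
        exact I.mul_mem_left _ (I.mul_mem_left _ (Ideal.subset_span rfl))
      · rw [Ideal.smul_top_eq_map]
        exact Ideal.mul_mem_left _ _ h3
    have := Submodule.le_of_le_smul_of_le_jacobson_bot Module.Finite.fg_top
      (IsLocalRing.maximalIdeal_le_jacobson _) hle
    rw [eq_top_iff]
    intro x _
    exact this trivial
  obtain ⟨w, hw⟩ := Ideal.mem_span_singleton'.mp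
    (htop ▸ Submodule.mem_top : (1 : AdjoinRoot P) ∈ Ideal.span {AdjoinRoot.mk P Q})
  obtain ⟨w, rfl⟩ := AdjoinRoot.mk_surjective w
  have h4 : AdjoinRoot.mk P (w * Q - 1) = 0 := by
    rw [map_sub, map_mul, hw, map_one, sub_self]
  obtain ⟨t, ht⟩ := AdjoinRoot.mk_eq_zero.mp h4
  exact ⟨-t, w, by linear_combination ht⟩

/-- Separating idempotents in finite algebras over henselian local rings. -/
theorem exists_isIdempotentElem_mem_notMem {R : Type u} [CommRing R] [HenselianLocalRing R]
    {S : Type*} [CommRing S] [Algebra R S] [Module.Finite R S]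
    (Q₁ Q₂ : Ideal S) [hQ₁ : Q₁.IsMaximal] [hQ₂ : Q₂.IsMaximal] (hne : Q₁ ≠ Q₂) :
    ∃ e : S, IsIdempotentElem e ∧ e ∈ Q₁ ∧ e ∉ Q₂ := by
  obtain ⟨s, hs1, y, hy2, hsy⟩ := Submodule.mem_sup.mp
    ((Ideal.IsMaximal.coprime_of_ne hQ₁ hQ₂ hne) ▸ Submodule.mem_top : (1 : S) ∈ Q₁ ⊔ Q₂)
  obtain ⟨F, hFm, hF⟩ := Algebra.IsIntegral.isIntegral (R := R) s
  have hF' : aeval s F = 0 := hF
  have hFb0 : F.map (residue R) ≠ 0 := (hFm.map _).ne_zero
  obtain ⟨G₀, hG₀, hndvd⟩ :=
    exists_eq_pow_rootMultiplicity_mul_and_not_dvd (F.map (residue R)) hFb0 0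
  set k := rootMultiplicity 0 (F.map (residue R)) with hk
  simp only [C_0, sub_zero] at hG₀ hndvd
  have hG₀m : G₀.Monic := by
    have := hFm.map (residue R)
    rw [hG₀] at this
    exact (monic_X_pow k).of_mul_monic_left this
  have hcop : IsCoprime (X ^ k) G₀ :=
    IsCoprime.pow_left ((prime_X.irreducible.coprime_iff_not_dvd).mpr hndvd)
  obtain ⟨P, Q, hFPQ, hPm, hQm, hPb, hQb⟩ :=
    exists_monic_factor_lift R F hFm (X ^ k) G₀ (monic_X_pow k) hG₀m hcop hG₀
  obtain ⟨u, v, huv⟩ : IsCoprime P Q :=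
    isCoprime_of_isCoprime_map_residue hPm (by rw [hPb, hQb]; exact hcop)
  have hPQs : aeval s P * aeval s Q = 0 := by rw [← map_mul, ← hFPQ, hF']
  have hunit_notMem : ∀ (I : Ideal S) (_ : I ≠ ⊤) (r : R), residue R r ≠ 0 →
      algebraMap R S r ∉ I := by
    intro I hI r hr hmem
    exact hI (Ideal.eq_top_of_isUnit_mem _ hmem
      (((residue_ne_zero_iff_isUnit r).mp hr).map (algebraMap R S)))
  -- `Q(s) ∉ Q₁`
  have hQs1 : aeval s Q ∉ Q₁ := by
    intro hmem
    obtain ⟨q', hq'⟩ : X ∣ Q - C (Q.coeff 0) := X_dvd_sub_C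
    have h1 : aeval s Q - algebraMap R S (Q.coeff 0) = s * aeval s q' := by
      have := congr(aeval s $hq')
      simpa using this
    have h2 : algebraMap R S (Q.coeff 0) ∈ Q₁ := by
      have : algebraMap R S (Q.coeff 0) = aeval s Q - s * aeval s q' := by rw [← h1]; ring
      rw [this]
      exact Q₁.sub_mem hmem (Q₁.mul_mem_right _ hs1)
    refine hunit_notMem Q₁ hQ₁.ne_top _ ?_ h2
    have : residue R (Q.coeff 0) = G₀.coeff 0 := by rw [← hQb, coeff_map]
    rw [this]
    exact fun h0 ↦ hndvd (X_dvd_iff.mpr h0)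
  have hPs1 : aeval s P ∈ Q₁ :=
    (hQ₁.isPrime.mem_or_mem (hPQs ▸ Q₁.zero_mem)).resolve_right hQs1
  -- `P(s) ∉ Q₂`
  have hPs2 : aeval s P ∉ Q₂ := by
    intro hmem
    obtain ⟨q', hq'⟩ : X - C 1 ∣ P - C (P.eval 1) := X_sub_C_dvd_sub_C_eval
    have hs2 : s - 1 ∈ Q₂ := by
      have : s - 1 = -y := by rw [← hsy]; ring
      rw [this]; exact Q₂.neg_mem hy2
    have h1 : aeval s P - algebraMap R S (P.eval 1) = (s - 1) * aeval s q' := by
      have := congr(aeval s $hq')
      simpa using this
    have h2 : algebraMap R S (P.eval 1) ∈ Q₂ := by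
      have : algebraMap R S (P.eval 1) = aeval s P - (s - 1) * aeval s q' := by rw [← h1]; ring
      rw [this]
      exact Q₂.sub_mem hmem (Q₂.mul_mem_right _ hs2)
    refine hunit_notMem Q₂ hQ₂.ne_top _ ?_ h2
    have : residue R (P.eval 1) = (P.map (residue R)).eval 1 := by
      rw [eval_map, ← map_one (residue R), eval₂_hom]
    rw [this, hPb]
    simp
  have hQs2 : aeval s Q ∈ Q₂ :=
    (hQ₂.isPrime.mem_or_mem (hPQs ▸ Q₂.zero_mem)).resolve_left hPs2
  refine ⟨aeval s (u * P), ?_, ?_, ?_⟩
  · change _ * _ = _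
    have h5 : u * P * (u * P) = u * P - u * v * F := by
      rw [hFPQ]; linear_combination (u * P) * huv
    rw [← map_mul, h5, map_sub, map_mul _ (u * v) F, hF', mul_zero, sub_zero]
  · rw [map_mul]; exact Q₁.mul_mem_left _ hPs1
  · intro hmem
    have h6 : (1 : S) = aeval s (u * P) + aeval s v * aeval s Q := by
      rw [← map_mul, ← map_add, huv, map_one]
    exact hQ₂.ne_top ((Ideal.eq_top_iff_one _).mpr
      (h6 ▸ Q₂.add_mem hmem (Q₂.mul_mem_left _ hQs2)))

/-- A finite algebra over a henselian local ring has a complete family of orthogonal idempotents,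
indexed by its maximal ideals, cutting it into local rings. -/
theorem exists_completeOrthogonalIdempotents_forall_isLocalRing (R : Type u) [CommRing R]
    [HenselianLocalRing R] (S : Type*) [CommRing S] [Algebra R S] [Module.Finite R S] :
    ∃ (_ : Fintype (MaximalSpectrum S)) (e : MaximalSpectrum S → S),
      CompleteOrthogonalIdempotents e ∧ (∀ n, e n ∉ n.asIdeal) ∧
      ∀ n, IsLocalRing (S ⧸ Ideal.span {1 - e n}) := by
  classical
  have hfin : Finite (MaximalSpectrum S) := by
    have h1 : ((maximalIdeal R).primesOver S).Finite :=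
      Algebra.QuasiFinite.finite_primesOver _
    have : Finite ((maximalIdeal R).primesOver S) := h1
    refine Finite.of_injective (fun n : MaximalSpectrum S ↦
      (⟨n.asIdeal, n.isMaximal.isPrime, ⟨?_⟩⟩ : (maximalIdeal R).primesOver S)) ?_
    · have := Ideal.isMaximal_comap_of_isIntegral_of_isMaximal (R := R) n.asIdeal
        (hI := n.isMaximal)
      exact (IsLocalRing.eq_maximalIdeal this).symm
    · intro n n' h
      exact MaximalSpectrum.ext (congr_arg Subtype.val h)
  let _ : Fintype (MaximalSpectrum S) := Fintype.ofFinite _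
  have hsep : ∀ n' n : MaximalSpectrum S, n' ≠ n →
      ∃ e : S, IsIdempotentElem e ∧ e ∈ n'.asIdeal ∧ e ∉ n.asIdeal := by
    intro n' n hne
    have := n'.isMaximal
    have := n.isMaximal
    exact exists_isIdempotentElem_mem_notMem (R := R) n'.asIdeal n.asIdeal
      (fun h ↦ hne (MaximalSpectrum.ext h))
  let ε : MaximalSpectrum S → MaximalSpectrum S → S :=
    fun n' n ↦ if h : n' = n then 1 else (hsep n' n h).choose
  have hε_idem : ∀ n' n, IsIdempotentElem (ε n' n) := by
    intro n' n
    by_cases h : n' = n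
    · simp only [ε, dif_pos h]; exact IsIdempotentElem.one
    · simp only [ε, dif_neg h]; exact (hsep n' n h).choose_spec.1
  have hε_mem : ∀ n' n, n' ≠ n → ε n' n ∈ n'.asIdeal := by
    intro n' n h
    simp only [ε, dif_neg h]; exact (hsep n' n h).choose_spec.2.1
  have hε_notMem : ∀ n' n, ε n' n ∉ n.asIdeal := by
    intro n' n
    by_cases h : n' = n
    · simp only [ε, dif_pos h]
      exact fun h1 ↦ n.isMaximal.ne_top ((Ideal.eq_top_iff_one _).mpr h1)
    · simp only [ε, dif_neg h]; exact (hsep n' n h).choose_spec.2.2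
  let e : MaximalSpectrum S → S := fun n ↦ ∏ n', ε n' n
  have he_idem : ∀ n, IsIdempotentElem (e n) := fun n ↦
    Finset.prod_induction _ IsIdempotentElem (fun _ _ ha hb ↦ ha.mul hb) IsIdempotentElem.one
      (fun n' _ ↦ hε_idem n' n)
  have he_mem : ∀ n' n, n' ≠ n → e n ∈ n'.asIdeal := fun n' n h ↦
    Ideal.mem_of_dvd _ (Finset.dvd_prod_of_mem _ (Finset.mem_univ n')) (hε_mem n' n h)
  have he_notMem : ∀ n, e n ∉ n.asIdeal := by
    intro n h
    have := n.isMaximal.isPrime
    obtain ⟨n', -, hn'⟩ := Ideal.IsPrime.prod_mem_iff.mp h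
    exact hε_notMem n' n hn'
  have hzero : ∀ x : S, IsIdempotentElem x → (∀ n : MaximalSpectrum S, x ∈ n.asIdeal) →
      x = 0 := by
    intro x hx hmem
    have hu : IsUnit (1 - x) := by
      by_contra hnu
      obtain ⟨I, hI, hxI⟩ := exists_max_ideal_of_mem_nonunits (mem_nonunits_iff.mpr hnu)
      have := hmem ⟨I, hI⟩
      exact hI.ne_top ((Ideal.eq_top_iff_one _).mpr (by simpa using I.add_mem hxI this))
    have : x * (1 - x) = 0 := by rw [mul_sub, mul_one, hx.eq, sub_self]
    exact (hu.mul_left_eq_zero).mp this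
  have hortho : OrthogonalIdempotents e := by
    refine ⟨he_idem, fun n n' hne ↦ ?_⟩
    refine hzero _ ((he_idem n).mul (he_idem n')) fun N ↦ ?_
    by_cases hN : N = n
    · subst hN
      exact Ideal.mul_mem_left _ _ (he_mem N n' hne)
    · exact Ideal.mul_mem_right _ _ (he_mem N n hN)
  have hcomplete : ∑ n, e n = 1 := by
    have hs : IsIdempotentElem (∑ n, e n) := hortho.isIdempotentElem_sum
    have : 1 - ∑ n, e n = 0 := by
      refine hzero _ hs.one_sub fun N ↦ ?_
      have hprime := N.isMaximal.isPrime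
      have h0 : (∑ n, e n) * (1 - ∑ n, e n) ∈ N.asIdeal := by
        rw [mul_sub, mul_one, hs.eq, sub_self]; exact N.asIdeal.zero_mem
      refine (hprime.mem_or_mem h0).resolve_left fun hmem ↦ he_notMem N ?_
      rw [← Finset.add_sum_erase _ _ (Finset.mem_univ N)] at hmem
      have h2 : ∑ n ∈ Finset.univ.erase N, e n ∈ N.asIdeal :=
        N.asIdeal.sum_mem fun n hn ↦ he_mem N n (Finset.ne_of_mem_erase hn).symm
      exact (N.asIdeal.add_mem_iff_left h2).mp hmem
    exact (sub_eq_zero.mp this).symm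
  have he : CompleteOrthogonalIdempotents e := ⟨hortho, hcomplete⟩
  refine ⟨inferInstance, e, he, he_notMem, fun n ↦ ?_⟩
  have hprime := n.isMaximal.isPrime
  have h1mem : 1 - e n ∈ n.asIdeal := by
    have h0 : e n * (1 - e n) ∈ n.asIdeal := by
      rw [mul_sub, mul_one, (he_idem n).eq, sub_self]; exact n.asIdeal.zero_mem
    exact (hprime.mem_or_mem h0).resolve_left (he_notMem n)
  have hle : Ideal.span {1 - e n} ≤ n.asIdeal := (Ideal.span_singleton_le_iff_mem _).mpr h1mem
  have : Nontrivial (S ⧸ Ideal.span {1 - e n}) :=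
    Ideal.Quotient.nontrivial_iff.mpr (fun h ↦ n.isMaximal.ne_top (top_le_iff.mp (h ▸ hle)))
  have hunit : ∀ b : S, b ∉ n.asIdeal → IsUnit (Ideal.Quotient.mk (Ideal.span {1 - e n}) b) := by
    intro b hb
    have htop : Ideal.span {b} ⊔ Ideal.span {1 - e n} = ⊤ := by
      by_contra hne
      obtain ⟨N, hN, hle'⟩ := Ideal.exists_le_maximal _ hne
      have hbN : b ∈ N := hle' (Ideal.mem_sup_left (Ideal.mem_span_singleton_self b))
      have heN : 1 - e n ∈ N := hle' (Ideal.mem_sup_right (Ideal.mem_span_singleton_self _))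
      by_cases hNn : (⟨N, hN⟩ : MaximalSpectrum S) = n
      · exact hb (hNn ▸ hbN)
      · have := he_mem ⟨N, hN⟩ n hNn
        exact hN.ne_top ((Ideal.eq_top_iff_one _).mpr (by simpa using N.add_mem heN this))
    obtain ⟨x, hx, y, hy, hxy⟩ := Submodule.mem_sup.mp (htop ▸ Submodule.mem_top : (1 : S) ∈ _)
    obtain ⟨c, rfl⟩ := Ideal.mem_span_singleton'.mp hx
    refine IsUnit.of_mul_eq_one (Ideal.Quotient.mk _ c) ?_
    rw [mul_comm, ← map_mul, ← map_one (Ideal.Quotient.mk _), Ideal.Quotient.eq]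
    have : c * b - 1 = -y := by rw [← hxy]; ring
    rw [this]
    exact neg_mem hy
  refine IsLocalRing.of_isUnit_or_isUnit_one_sub_self fun a ↦ ?_
  obtain ⟨a, rfl⟩ := Ideal.Quotient.mk_surjective a
  by_cases ha : a ∈ n.asIdeal
  · right
    rw [← map_one (Ideal.Quotient.mk _), ← map_sub]
    refine hunit _ fun h ↦ ?_
    exact n.isMaximal.ne_top ((Ideal.eq_top_iff_one _).mpr (by simpa using n.asIdeal.add_mem h ha))
  · exact Or.inl (hunit a ha)

/-- A finite algebra over a henselian local ring is a finite product of local rings. -/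
theorem exists_ringEquiv_pi_isLocalRing (R : Type u) [CommRing R] [HenselianLocalRing R]
    (S : Type u) [CommRing S] [Algebra R S] [Module.Finite R S] :
    ∃ (ι : Type u) (_ : Fintype ι) (A : ι → Type u) (_ : ∀ i, CommRing (A i)),
      (∀ i, IsLocalRing (A i)) ∧ Nonempty (S ≃+* (∀ i, A i)) := by
  obtain ⟨hfin, e, he, -, hloc⟩ := exists_completeOrthogonalIdempotents_forall_isLocalRing R S
  exact ⟨MaximalSpectrum S, hfin, fun n ↦ S ⧸ Ideal.span {1 - e n}, inferInstance, hloc,
    ⟨RingEquiv.ofBijective _ he.bijective_pi⟩⟩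

end Groth.Agent.Helper1
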