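import Mathlib
import Groth.Agent.Lib.Helper1.HenselFinite
import Groth.Agent.S0505

/-!
# Finite algebras over strictly henselian local rings: idempotents and roots; abstract descent
from a filtered colimit (ring level part of the étale local structure of finite morphisms)
-/

set_option autoImplicit false
open Polynomial TensorProduct
universe u v w

namespace Groth.Agent.Helper1.FP

section Ker

theorem ker_eq_maximalIdeal_of_isLocalHom {O : Type*} [CommRing O] [IsLocalRing O] {Ω : Type*}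
    [Field Ω] (φ : O →+* Ω) [IsLocalHom φ] : RingHom.ker φ = IsLocalRing.maximalIdeal O := by
  ext a
  rw [RingHom.mem_ker, IsLocalRing.mem_maximalIdeal, mem_nonunits_iff]
  constructor
  · intro h hu
    have h2 := hu.map φ
    rw [h] at h2
    exact not_isUnit_zero h2
  · intro h
    by_contra h0
    exact h (IsLocalHom.map_nonunit a (IsUnit.mk0 _ h0))

theorem ker_isMaximal_of_isIntegral {O T : Type*} [CommRing O] [IsLocalRing O] [CommRing T]
    [Algebra O T] [Algebra.IsIntegral O T] {Ω : Type*} [Field Ω] (ev : T →+* Ω)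
    (hloc : IsLocalHom (ev.comp (algebraMap O T))) : (RingHom.ker ev).IsMaximal := by
  haveI := hloc
  haveI : (RingHom.ker ev).IsPrime := RingHom.ker_isPrime ev
  apply Ideal.isMaximal_of_isIntegral_of_isMaximal_comap (R := O)
  rw [RingHom.comap_ker, ker_eq_maximalIdeal_of_isLocalHom]
  exact IsLocalRing.maximalIdeal.isMaximal O

end Ker

section Root

/-- Simple roots in an overfield of the residue field lift to a strictly henselian local ring. -/
theorem exists_root_of_strict {T : Type*} [CommRing T] [HenselianLocalRing T]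
    [IsSepClosed (IsLocalRing.ResidueField T)] {Ω : Type*} [Field Ω] (ev : T →+* Ω)
    [IsLocalHom ev] (F : T[X]) (hF : F.Monic) (ω₀ : Ω) (h0 : F.eval₂ ev ω₀ = 0)
    (h1 : F.derivative.eval₂ ev ω₀ ≠ 0) : ∃ x : T, F.IsRoot x ∧ ev x = ω₀ := by
  let k := IsLocalRing.ResidueField T
  let ι : k →+* Ω := IsLocalRing.ResidueField.lift ev
  have hι : ι.comp (IsLocalRing.residue T) = ev := IsLocalRing.ResidueField.lift_comp_residue ev
  have hι' : ι.comp (algebraMap T k) = ev := hι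
  letI : Algebra k Ω := ι.toAlgebra
  have halg : algebraMap k Ω = ι := rfl
  let Fb : k[X] := F.map (IsLocalRing.residue T)
  have hFb0 : aeval ω₀ Fb = 0 := by
    rw [aeval_def, eval₂_map, halg, hι]
    exact h0
  have hFb1 : aeval ω₀ (derivative Fb) ≠ 0 := by
    rw [derivative_map, aeval_def, eval₂_map, halg, hι]
    exact h1
  have hint : IsIntegral k ω₀ := ⟨Fb, hF.map _, by rw [← aeval_def]; exact hFb0⟩
  obtain ⟨q, hq⟩ := minpoly.dvd k ω₀ hFb0
  have hm1 : aeval ω₀ (derivative (minpoly k ω₀)) ≠ 0 := by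
    intro h
    apply hFb1
    rw [hq, derivative_mul, map_add, map_mul, map_mul, h, minpoly.aeval, zero_mul, zero_mul,
      add_zero]
  have hsep : (minpoly k ω₀).Separable := by
    rw [separable_iff_derivative_ne_zero (minpoly.irreducible hint)]
    intro h
    apply hm1
    rw [h, map_zero]
  have hdeg := IsSepClosed.degree_eq_one_of_irreducible k (minpoly.irreducible hint) hsep
  obtain ⟨x₀, hx₀⟩ := minpoly.mem_range_of_degree_eq_one k ω₀ hdeg
  have hx₀' : ι x₀ = ω₀ := hx₀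
  have hroot : aeval x₀ F = 0 := by
    apply ι.injective
    rw [map_zero, aeval_def, hom_eval₂, hι', hx₀']
    exact h0
  have hroot1 : aeval x₀ (derivative F) ≠ 0 := by
    intro h
    apply h1
    have h2 := congrArg ι h
    rw [map_zero, aeval_def, hom_eval₂, hι', hx₀'] at h2
    exact h2
  have H : ∀ f : T[X], f.Monic → ∀ a₀ : IsLocalRing.ResidueField T, aeval a₀ f = 0 →
      aeval a₀ (derivative f) ≠ 0 → ∃ a : T, f.IsRoot a ∧ IsLocalRing.residue T a = a₀ :=
    ((HenselianLocalRing.TFAE T).out 0 1).mp ‹HenselianLocalRing T›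
  obtain ⟨x, hx, hxres⟩ := H F hF x₀ hroot hroot1
  refine ⟨x, hx, ?_⟩
  rw [← RingHom.congr_fun hι x, RingHom.comp_apply, hxres, hx₀']

end Root

section Alg

theorem isAlgebraic_of_surj {O T K L : Type*} [CommRing O] [CommRing T] [Algebra O T]
    [Algebra.IsIntegral O T] [Field K] [CommRing L] [Algebra K L] (res : O →+* K) (π : T →+* L)
    (hπ : Function.Surjective π) (hc : (algebraMap K L).comp res = π.comp (algebraMap O T)) :
    Algebra.IsAlgebraic K L := by
  constructor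
  intro z
  obtain ⟨t, rfl⟩ := hπ z
  obtain ⟨p, hp, hpt⟩ := Algebra.IsIntegral.isIntegral (R := O) t
  apply IsIntegral.isAlgebraic
  refine ⟨p.map res, hp.map _, ?_⟩
  rw [eval₂_map, hc, ← hom_eval₂, hpt, map_zero]

/-- Two points of an integral algebra over a local ring with separably closed residue field which
agree on the base and have the same kernel are equal. -/
theorem eq_of_ker_eq {O T : Type*} [CommRing O] [IsLocalRing O]
    [IsSepClosed (IsLocalRing.ResidueField O)] [CommRing T] [Algebra O T] [Algebra.IsIntegral O T]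
    {Ω : Type*} [Field Ω] (ev ev' : T →+* Ω) (hloc : IsLocalHom (ev.comp (algebraMap O T)))
    (hO : ev'.comp (algebraMap O T) = ev.comp (algebraMap O T))
    (hker : RingHom.ker ev' = RingHom.ker ev) : ev' = ev := by
  haveI := hloc
  have hmax : (RingHom.ker ev).IsMaximal := ker_isMaximal_of_isIntegral ev hloc
  obtain ⟨n₀, hn₀⟩ : ∃ n₀ : Ideal T, n₀ = RingHom.ker ev := ⟨_, rfl⟩
  haveI : n₀.IsMaximal := hn₀ ▸ hmax
  letI : Field (T ⧸ n₀) := Ideal.Quotient.field n₀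
  have hι0 : ∀ a ∈ n₀, ev a = 0 := fun a ha => RingHom.mem_ker.1 (hn₀ ▸ ha)
  have hι'0 : ∀ a ∈ n₀, ev' a = 0 := fun a ha => by
    have h2 : a ∈ RingHom.ker ev' := by rw [hker, ← hn₀]; exact ha
    exact RingHom.mem_ker.1 h2
  obtain ⟨ι, hι⟩ : ∃ ι : T ⧸ n₀ →+* Ω, ∀ t, ι (Ideal.Quotient.mk n₀ t) = ev t :=
    ⟨Ideal.Quotient.lift n₀ ev hι0, fun t => Ideal.Quotient.lift_mk n₀ ev hι0⟩
  obtain ⟨ι', hι'⟩ : ∃ ι' : T ⧸ n₀ →+* Ω, ∀ t, ι' (Ideal.Quotient.mk n₀ t) = ev' t :=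
    ⟨Ideal.Quotient.lift n₀ ev' hι'0, fun t => Ideal.Quotient.lift_mk n₀ ev' hι'0⟩
  obtain ⟨φ, hφ⟩ : ∃ φ : O →+* T ⧸ n₀, φ = (Ideal.Quotient.mk n₀).comp (algebraMap O T) :=
    ⟨_, rfl⟩
  have hιφ : ι.comp φ = ev.comp (algebraMap O T) := by
    ext a
    rw [hφ]
    exact hι _
  have hι'φ : ι'.comp φ = ev.comp (algebraMap O T) := by
    rw [← hO]
    ext a
    rw [hφ]
    exact hι' _
  haveI : IsLocalHom φ := ⟨fun a ha => hloc.map_nonunit a (by
    have h2 := ha.map ι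
    rwa [← RingHom.comp_apply, hιφ] at h2)⟩
  letI : Algebra (IsLocalRing.ResidueField O) (T ⧸ n₀) :=
    (IsLocalRing.ResidueField.lift φ).toAlgebra
  have halg : (algebraMap (IsLocalRing.ResidueField O) (T ⧸ n₀)).comp (IsLocalRing.residue O) = φ :=
    IsLocalRing.ResidueField.lift_comp_residue φ
  haveI : Algebra.IsAlgebraic (IsLocalRing.ResidueField O) (T ⧸ n₀) :=
    isAlgebraic_of_surj (IsLocalRing.residue O) (Ideal.Quotient.mk n₀)
      Ideal.Quotient.mk_surjective (by rw [halg, hφ])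
  have hinj := IsPurelyInseparable.injective_comp_algebraMap (IsLocalRing.ResidueField O)
    (T ⧸ n₀) Ω
  have hιι' : ι' = ι := by
    apply hinj
    show ι'.comp (algebraMap (IsLocalRing.ResidueField O) (T ⧸ n₀)) =
      ι.comp (algebraMap (IsLocalRing.ResidueField O) (T ⧸ n₀))
    rw [← RingHom.cancel_right (f := IsLocalRing.residue O) IsLocalRing.residue_surjective,
      RingHom.comp_assoc, RingHom.comp_assoc, halg, hιφ, hι'φ]
  ext t
  rw [← hι t, ← hι' t, hιι']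

/-- Every maximal ideal of an integral algebra over a local ring is the kernel of a point with
values in a given algebraically closed field over the residue field. -/
theorem exists_point_of_maximal {O T : Type*} [CommRing O] [IsLocalRing O] [CommRing T]
    [Algebra O T] [Algebra.IsIntegral O T] {Ω : Type*} [Field Ω] [IsAlgClosed Ω] (evO : O →+* Ω)
    [IsLocalHom evO] (n : Ideal T) [n.IsMaximal] :
    ∃ ev : T →+* Ω, ev.comp (algebraMap O T) = evO ∧ RingHom.ker ev = n := by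
  letI : Field (T ⧸ n) := Ideal.Quotient.field n
  obtain ⟨φ, hφ⟩ : ∃ φ : O →+* T ⧸ n, φ = (Ideal.Quotient.mk n).comp (algebraMap O T) :=
    ⟨_, rfl⟩
  have hcomap : (n.comap (algebraMap O T)).IsMaximal :=
    Ideal.isMaximal_comap_of_isIntegral_of_isMaximal n
  have hcm : n.comap (algebraMap O T) = IsLocalRing.maximalIdeal O :=
    IsLocalRing.eq_maximalIdeal hcomap
  haveI : IsLocalHom φ := by
    constructor
    intro a ha
    by_contra hna
    have hmem : a ∈ IsLocalRing.maximalIdeal O :=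
      (IsLocalRing.mem_maximalIdeal a).2 (mem_nonunits_iff.2 hna)
    rw [← hcm, Ideal.mem_comap] at hmem
    have h2 : φ a = 0 := by
      rw [hφ]
      exact Ideal.Quotient.eq_zero_iff_mem.2 hmem
    rw [h2] at ha
    exact not_isUnit_zero ha
  letI : Algebra (IsLocalRing.ResidueField O) (T ⧸ n) :=
    (IsLocalRing.ResidueField.lift φ).toAlgebra
  letI : Algebra (IsLocalRing.ResidueField O) Ω := (IsLocalRing.ResidueField.lift evO).toAlgebra
  have halg : (algebraMap (IsLocalRing.ResidueField O) (T ⧸ n)).comp (IsLocalRing.residue O) = φ :=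
    IsLocalRing.ResidueField.lift_comp_residue φ
  have halgΩ : (algebraMap (IsLocalRing.ResidueField O) Ω).comp (IsLocalRing.residue O) = evO :=
    IsLocalRing.ResidueField.lift_comp_residue evO
  haveI : Algebra.IsAlgebraic (IsLocalRing.ResidueField O) (T ⧸ n) :=
    isAlgebraic_of_surj (IsLocalRing.residue O) (Ideal.Quotient.mk n)
      Ideal.Quotient.mk_surjective (by rw [halg, hφ])
  let σ : T ⧸ n →ₐ[IsLocalRing.ResidueField O] Ω := IsAlgClosed.lift
  refine ⟨(σ : T ⧸ n →+* Ω).comp (Ideal.Quotient.mk n), ?_, ?_⟩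
  · rw [RingHom.comp_assoc, ← hφ, ← halg, ← RingHom.comp_assoc, ← halgΩ]
    congr 1
    exact σ.comp_algebraMap
  · ext t
    rw [RingHom.mem_ker, RingHom.comp_apply]
    show σ (Ideal.Quotient.mk n t) = 0 ↔ t ∈ n
    rw [map_eq_zero_iff σ σ.toRingHom.injective, Ideal.Quotient.eq_zero_iff_mem]

/-- Root lifting on a local factor of a finite algebra over a strictly henselian local ring. -/
theorem exists_root_on_factor {O : Type u} [CommRing O] [HenselianLocalRing O]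
    [IsSepClosed (IsLocalRing.ResidueField O)] {T : Type u} [CommRing T] [Algebra O T]
    [Module.Finite O T] {Ω : Type v} [Field Ω] (evT : T →+* Ω)
    (hloc : IsLocalHom (evT.comp (algebraMap O T)))
    (e₀ : T) (hidem : e₀ * e₀ = e₀) (hev_e : evT e₀ = 1)
    (hT₁loc : IsLocalRing (T ⧸ Ideal.span {1 - e₀}))
    {S' : Type w} [CommRing S'] (ψ : S' →+* T) (P : StandardEtalePair S') (ω₀ : Ω)
    (h0 : P.f.eval₂ (evT.comp ψ) ω₀ = 0)
    (h1 : IsUnit (P.g.eval₂ (evT.comp ψ) ω₀)) :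
    ∃ x y : T, P.f.eval₂ ψ x * e₀ = 0 ∧ (P.g.eval₂ ψ x * y - 1) * e₀ = 0 ∧ evT x = ω₀ := by
  classical
  letI : Algebra S' T := ψ.toAlgebra
  haveI : Algebra.IsIntegral O T := Algebra.IsIntegral.of_finite O T
  let I : Ideal T := Ideal.span {1 - e₀}
  haveI : IsLocalRing (T ⧸ I) := hT₁loc
  haveI : Module.Finite O (T ⧸ I) :=
    Module.Finite.of_surjective (Ideal.Quotient.mkₐ O I).toLinearMap
      (Ideal.Quotient.mkₐ_surjective O I)
  haveI : HenselianLocalRing (T ⧸ I) := Groth.Agent.S0505.result O (T ⧸ I)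
  haveI : Algebra.IsIntegral O (T ⧸ I) := Algebra.IsIntegral.of_finite O (T ⧸ I)
  have hI : ∀ a ∈ I, evT a = 0 := by
    intro a ha
    obtain ⟨c, rfl⟩ := Ideal.mem_span_singleton'.1 ha
    rw [map_mul, map_sub, map_one, hev_e, sub_self, mul_zero]
  let ev₁ : T ⧸ I →+* Ω := Ideal.Quotient.lift I evT hI
  have hev₁ : ∀ t, ev₁ (Ideal.Quotient.mk I t) = evT t := fun t => Ideal.Quotient.lift_mk I evT hI
  have hcO : ev₁.comp (algebraMap O (T ⧸ I)) = evT.comp (algebraMap O T) := by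
    ext a
    exact hev₁ _
  have hcS : ev₁.comp (algebraMap S' (T ⧸ I)) = evT.comp (algebraMap S' T) := by
    ext a
    exact hev₁ _
  have hloc₁ : IsLocalHom (ev₁.comp (algebraMap O (T ⧸ I))) := by
    rw [hcO]
    exact hloc
  have hmax₁ : (RingHom.ker ev₁).IsMaximal := ker_isMaximal_of_isIntegral ev₁ hloc₁
  haveI hlh : IsLocalHom ev₁ := by
    constructor
    intro a ha
    by_contra hna
    have hmem : a ∈ IsLocalRing.maximalIdeal (T ⧸ I) :=
      (IsLocalRing.mem_maximalIdeal a).2 (mem_nonunits_iff.2 hna)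
    rw [← IsLocalRing.eq_maximalIdeal hmax₁, RingHom.mem_ker] at hmem
    rw [hmem] at ha
    exact not_isUnit_zero ha
  haveI hla : IsLocalHom (algebraMap O (T ⧸ I)) :=
    ⟨fun a ha => hloc₁.map_nonunit a (ha.map ev₁)⟩
  haveI : Module.Finite (IsLocalRing.ResidueField O) (IsLocalRing.ResidueField (T ⧸ I)) :=
    inferInstance
  haveI : Algebra.IsAlgebraic (IsLocalRing.ResidueField O) (IsLocalRing.ResidueField (T ⧸ I)) :=
    Algebra.IsAlgebraic.of_finite _ _
  haveI : IsSepClosed (IsLocalRing.ResidueField (T ⧸ I)) :=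
    Algebra.IsAlgebraic.isSepClosed (F := IsLocalRing.ResidueField O)
  have h0' : P.f.eval₂ (evT.comp (algebraMap S' T)) ω₀ = 0 := h0
  have h1' : IsUnit (P.g.eval₂ (evT.comp (algebraMap S' T)) ω₀) := h1
  -- the derivative of `P.f` does not vanish at `ω₀`
  obtain ⟨p₁, p₂, n, hcond⟩ := P.cond
  have hd : P.f.derivative.eval₂ (evT.comp (algebraMap S' T)) ω₀ ≠ 0 := by
    intro hd0
    have h3 := congrArg (eval₂ (evT.comp (algebraMap S' T)) ω₀) hcond
    rw [eval₂_add, eval₂_mul, eval₂_mul, hd0, h0', zero_mul, zero_mul, add_zero, eval₂_pow] at h3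
    exact (h1'.pow n).ne_zero h3.symm
  let F₁ : (T ⧸ I)[X] := P.f.map (algebraMap S' (T ⧸ I))
  have hF₁ : F₁.Monic := P.monic_f.map _
  have hF₁0 : F₁.eval₂ ev₁ ω₀ = 0 := by
    rw [eval₂_map, hcS]
    exact h0'
  have hF₁1 : F₁.derivative.eval₂ ev₁ ω₀ ≠ 0 := by
    rw [derivative_map, eval₂_map, hcS]
    exact hd
  obtain ⟨x₁, hx₁, hx₁ev⟩ := exists_root_of_strict ev₁ F₁ hF₁ ω₀ hF₁0 hF₁1
  have hx₁' : aeval x₁ P.f = 0 := by
    rw [← eval_map_algebraMap]
    exact hx₁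
  have hg : IsUnit (aeval x₁ P.g) := by
    apply hlh.map_nonunit
    rw [aeval_def, hom_eval₂, hcS, hx₁ev]
    exact h1'
  obtain ⟨y₁, hy₁⟩ := hg.exists_right_inv
  obtain ⟨x, rfl⟩ := Ideal.Quotient.mk_surjective x₁
  obtain ⟨y, rfl⟩ := Ideal.Quotient.mk_surjective y₁
  have hmk : ∀ (p : S'[X]) (t : T),
      Ideal.Quotient.mk I (aeval t p) = aeval (Ideal.Quotient.mk I t) p := by
    intro p t
    exact (aeval_algHom_apply (Ideal.Quotient.mkₐ S' I) t p).symm
  have hkill : ∀ t : T, Ideal.Quotient.mk I t = 0 → t * e₀ = 0 := by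
    intro t ht
    rw [Ideal.Quotient.eq_zero_iff_mem, Ideal.mem_span_singleton'] at ht
    obtain ⟨c, rfl⟩ := ht
    rw [mul_assoc, sub_mul, one_mul, hidem, sub_self, mul_zero]
  refine ⟨x, y, hkill _ ?_, hkill _ ?_, ?_⟩
  · show Ideal.Quotient.mk I (aeval x P.f) = 0
    rw [hmk]
    exact hx₁'
  · show Ideal.Quotient.mk I (aeval x P.g * y - 1) = 0
    rw [map_sub, map_mul, hmk, map_one, hy₁, sub_self]
  · rw [← hev₁ x]
    exact hx₁ev

/-- The decomposition of a finite algebra over a strictly henselian local ring, indexed by its points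
with values in an algebraically closed field. -/
theorem exists_decomp_limit {O : Type u} [CommRing O] [HenselianLocalRing O]
    [IsSepClosed (IsLocalRing.ResidueField O)] {T : Type u} [CommRing T] [Algebra O T]
    [Module.Finite O T] {Ω : Type v} [Field Ω] [IsAlgClosed Ω] (evO : O →+* Ω)
    (hloc : IsLocalHom evO) {Pt : Type w} (ν : Pt → (T →+* Ω))
    (hν : ∀ c, (ν c).comp (algebraMap O T) = evO) (hinj : Function.Injective ν)
    (hsurj : ∀ ev : T →+* Ω, ev.comp (algebraMap O T) = evO → ∃ c, ν c = ev) :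
    ∃ (_ : Fintype Pt) (e : Pt → T), (∀ c, e c * e c = e c) ∧
      (∀ c c', c ≠ c' → e c * e c' = 0) ∧ ∑ c, e c = 1 ∧ (∀ c, ν c (e c) = 1) ∧
      ∀ c, IsLocalRing (T ⧸ Ideal.span {1 - e c}) := by
  classical
  haveI := hloc
  haveI : Algebra.IsIntegral O T := Algebra.IsIntegral.of_finite O T
  obtain ⟨hfin, e, he, hnot, hlocal⟩ := exists_completeOrthogonalIdempotents_forall_isLocalRing O T
  have hlocc : ∀ c, IsLocalHom ((ν c).comp (algebraMap O T)) := fun c => by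
    rw [hν c]; exact hloc
  let κ : Pt → MaximalSpectrum T := fun c =>
    ⟨RingHom.ker (ν c), ker_isMaximal_of_isIntegral (ν c) (hlocc c)⟩
  have hκinj : Function.Injective κ := by
    intro c c' hcc
    apply hinj
    have hk : RingHom.ker (ν c) = RingHom.ker (ν c') := congrArg MaximalSpectrum.asIdeal hcc
    exact eq_of_ker_eq (ν c') (ν c) (hlocc c') (by rw [hν c, hν c']) hk
  have hκsurj : Function.Surjective κ := by
    intro n
    haveI := n.isMaximal
    obtain ⟨ev, hev, hker⟩ := exists_point_of_maximal evO n.asIdeal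
    obtain ⟨c, hc⟩ := hsurj ev hev
    refine ⟨c, ?_⟩
    apply MaximalSpectrum.ext
    show RingHom.ker (ν c) = n.asIdeal
    rw [hc, hker]
  let εq : Pt ≃ MaximalSpectrum T := Equiv.ofBijective κ ⟨hκinj, hκsurj⟩
  letI : Fintype Pt := Fintype.ofEquiv _ εq.symm
  refine ⟨inferInstance, fun c => e (κ c), ?_, ?_, ?_, ?_, ?_⟩
  · intro c
    exact (he.idem (κ c)).eq
  · intro c c' hcc
    exact he.ortho (fun h => hcc (hκinj h))
  · rw [← he.complete]
    exact Fintype.sum_equiv εq _ _ (fun c => rfl)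
  · intro c
    have h2 : ν c (e (κ c)) ≠ 0 := fun h => hnot (κ c) (RingHom.mem_ker.2 h)
    have h3 : ν c (e (κ c)) * ν c (e (κ c)) = ν c (e (κ c)) := by
      rw [← map_mul, (he.idem (κ c)).eq]
    exact (mul_eq_right₀ h2).1 h3
  · intro c
    exact hlocal (κ c)

end Alg

section Descent

variable {R : Type u} [CommRing R] (S : Type u) [CommRing S] [Algebra R S]
  {O : Type u} [CommRing O] [Algebra R O]
  {I : Type w} (A : I → Type u) [∀ i, CommRing (A i)] [∀ i, Algebra R (A i)]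
  (ρ : ∀ i, A i →ₐ[R] O)

/-- A directed system of `R`-algebras with compatible maps to `O` exhibiting `O` as a filtered
colimit (in elementwise form). -/
structure IsSystem : Prop where
  surj : ∀ o : O, ∃ i a, ρ i a = o
  dir : ∀ i j, ∃ (k : I) (m₁ : A i →ₐ[R] A k) (m₂ : A j →ₐ[R] A k),
    (ρ k).comp m₁ = ρ i ∧ (ρ k).comp m₂ = ρ j
  eq : ∀ i (a b : A i), ρ i a = ρ i b →
    ∃ (k : I) (m : A i →ₐ[R] A k), (ρ k).comp m = ρ i ∧ m a = m b

/-- base change to `S` of an algebra map -/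
noncomputable abbrev tr {B C : Type u} [CommRing B] [CommRing C] [Algebra R B] [Algebra R C]
    (m : B →ₐ[R] C) : B ⊗[R] S →ₐ[R] C ⊗[R] S :=
  Algebra.TensorProduct.map m (AlgHom.id R S)

theorem tr_comp {B C D : Type u} [CommRing B] [CommRing C] [CommRing D] [Algebra R B]
    [Algebra R C] [Algebra R D] (m₂ : C →ₐ[R] D) (m₁ : B →ₐ[R] C) :
    (tr S m₂).comp (tr S m₁) = tr S (m₂.comp m₁) := by
  unfold tr
  rw [← Algebra.TensorProduct.map_comp, AlgHom.comp_id]

theorem tr_comp_apply {B C D : Type u} [CommRing B] [CommRing C] [CommRing D] [Algebra R B]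
    [Algebra R C] [Algebra R D] (m₂ : C →ₐ[R] D) (m₁ : B →ₐ[R] C) (z : B ⊗[R] S) :
    tr S m₂ (tr S m₁ z) = tr S (m₂.comp m₁) z := by
  rw [← tr_comp]
  rfl

variable {A ρ}

theorem IsSystem.exists_eq_fin (h : IsSystem A ρ) (n : ℕ) : ∀ (i : I) (a b : Fin n → A i),
    (∀ j, ρ i (a j) = ρ i (b j)) →
      ∃ (k : I) (m : A i →ₐ[R] A k), (ρ k).comp m = ρ i ∧ ∀ j, m (a j) = m (b j) := by
  induction n with
  | zero =>
    intro i a b _
    exact ⟨i, AlgHom.id R _, AlgHom.comp_id _, fun j => j.elim0⟩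
  | succ n ih =>
    intro i a b hab
    obtain ⟨k₁, m₁, hm₁, h₁⟩ := ih i (fun j => a j.castSucc) (fun j => b j.castSucc)
      (fun j => hab _)
    have h2 : ρ k₁ (m₁ (a (Fin.last n))) = ρ k₁ (m₁ (b (Fin.last n))) := by
      rw [← AlgHom.comp_apply, ← AlgHom.comp_apply, hm₁]
      exact hab _
    obtain ⟨k₂, m₂, hm₂, h₂⟩ := h.eq k₁ _ _ h2
    refine ⟨k₂, m₂.comp m₁, ?_, ?_⟩
    · rw [← AlgHom.comp_assoc, hm₂, hm₁]
    · intro j
      refine Fin.lastCases ?_ (fun j' => ?_) j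
      · exact h₂
      · show m₂ (m₁ (a j'.castSucc)) = m₂ (m₁ (b j'.castSucc))
        rw [h₁ j']

theorem IsSystem.exists_lift_fin (h : IsSystem A ρ) (n : ℕ) : ∀ (i : I) (y : Fin n → O),
    ∃ (k : I) (m : A i →ₐ[R] A k), (ρ k).comp m = ρ i ∧ ∃ b : Fin n → A k, ∀ l, ρ k (b l) = y l := by
  induction n with
  | zero =>
    intro i y
    exact ⟨i, AlgHom.id R _, AlgHom.comp_id _, fun l => l.elim0, fun l => l.elim0⟩
  | succ n ih =>
    intro i y
    obtain ⟨k₁, m₁, hm₁, b₁, hb₁⟩ := ih i (fun l => y l.castSucc)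
    obtain ⟨j, a, ha⟩ := h.surj (y (Fin.last n))
    obtain ⟨k₂, μ₁, μ₂, hμ₁, hμ₂⟩ := h.dir k₁ j
    refine ⟨k₂, μ₁.comp m₁, ?_,
      Fin.snoc (α := fun _ => A k₂) (fun l => μ₁ (b₁ l)) (μ₂ a), ?_⟩
    · rw [← AlgHom.comp_assoc, hμ₁, hm₁]
    · intro l
      refine Fin.lastCases ?_ (fun l' => ?_) l
      · rw [Fin.snoc_last, ← AlgHom.comp_apply, hμ₂, ha]
      · rw [Fin.snoc_castSucc, ← AlgHom.comp_apply, hμ₁, hb₁]

theorem IsSystem.π_tr (i k : I) (m : A i →ₐ[R] A k) (hm : (ρ k).comp m = ρ i) :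
    (tr S (ρ k)).comp (tr S m) = tr S (ρ i) := by
  rw [tr_comp, hm]

/-- every element of `O ⊗ S` comes from a finite stage -/
theorem IsSystem.exists_lift (h : IsSystem A ρ) (z : O ⊗[R] S) :
    ∃ (i : I) (z' : A i ⊗[R] S), tr S (ρ i) z' = z := by
  induction z using TensorProduct.induction_on with
  | zero =>
    obtain ⟨i, a, -⟩ := h.surj 0
    exact ⟨i, 0, map_zero _⟩
  | tmul o s =>
    obtain ⟨i, a, rfl⟩ := h.surj o
    exact ⟨i, a ⊗ₜ s, by rw [Algebra.TensorProduct.map_tmul]; rfl⟩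
  | add z₁ z₂ h₁ h₂ =>
    obtain ⟨i, z₁', rfl⟩ := h₁
    obtain ⟨j, z₂', rfl⟩ := h₂
    obtain ⟨k, m₁, m₂, hm₁, hm₂⟩ := h.dir i j
    refine ⟨k, tr S m₁ z₁' + tr S m₂ z₂', ?_⟩
    rw [map_add, tr_comp_apply, tr_comp_apply, hm₁, hm₂]

/-- every element of `O ⊗ S` comes from a finite stage refining a given one -/
theorem IsSystem.exists_lift_over (h : IsSystem A ρ) (i₀ : I) (z : O ⊗[R] S) :
    ∃ (k : I) (m : A i₀ →ₐ[R] A k), (ρ k).comp m = ρ i₀ ∧ ∃ z' : A k ⊗[R] S, tr S (ρ k) z' = z := by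
  obtain ⟨i, z', rfl⟩ := h.exists_lift S z
  obtain ⟨k, m₁, m₂, hm₁, hm₂⟩ := h.dir i₀ i
  exact ⟨k, m₁, hm₁, tr S m₂ z', by rw [tr_comp_apply, hm₂]⟩

theorem exists_repr [Module.Finite R S] {r : ℕ} (σ : Fin r → S)
    (hσ : Submodule.span R (Set.range σ) = ⊤) {B : Type u} [CommRing B] [Algebra R B]
    (z : B ⊗[R] S) : ∃ a : Fin r → B, z = ∑ j, a j ⊗ₜ[R] σ j := by
  induction z using TensorProduct.induction_on with
  | zero => exact ⟨fun _ => 0, by simp⟩
  | tmul b s =>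
    have hs : s ∈ Submodule.span R (Set.range σ) := by rw [hσ]; trivial
    obtain ⟨c, rfl⟩ := (Submodule.mem_span_range_iff_exists_fun R).1 hs
    refine ⟨fun j => c j • b, ?_⟩
    rw [tmul_sum]
    refine Finset.sum_congr rfl fun j _ => ?_
    rw [smul_tmul]
  | add z₁ z₂ h₁ h₂ =>
    obtain ⟨a₁, rfl⟩ := h₁
    obtain ⟨a₂, rfl⟩ := h₂
    refine ⟨fun j => a₁ j + a₂ j, ?_⟩
    rw [← Finset.sum_add_distrib]
    refine Finset.sum_congr rfl fun j _ => ?_
    rw [add_tmul]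

/-- an element of a finite stage dying in `O ⊗ S` dies at a finer finite stage -/
theorem IsSystem.exists_eq_zero [Module.Finite R S] (h : IsSystem A ρ) (i : I)
    (z : A i ⊗[R] S) (hz : tr S (ρ i) z = 0) :
    ∃ (k : I) (m : A i →ₐ[R] A k), (ρ k).comp m = ρ i ∧ tr S m z = 0 := by
  obtain ⟨r, σ, hσ⟩ := Module.Finite.exists_fin (R := R) (M := S)
  obtain ⟨a, rfl⟩ := exists_repr S σ hσ z
  have h1 : ∑ j, σ j ⊗ₜ[R] ρ i (a j) = 0 := by
    have h2 := congrArg (TensorProduct.comm R O S) hz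
    rw [map_zero, map_sum, map_sum] at h2
    rw [← h2]
    refine Finset.sum_congr rfl fun j _ => ?_
    rw [Algebra.TensorProduct.map_tmul, comm_tmul]
    rfl
  obtain ⟨κ, c, y, hy, hc⟩ := vanishesTrivially_of_sum_tmul_eq_zero R hσ h1
  obtain ⟨k₁, m₁, hm₁, b, hb⟩ := h.exists_lift_fin κ i y
  have hy' : ∀ j, ρ i (a j) = ∑ l, c j l • y l := hy
  have h3 : ∀ j, ρ k₁ (m₁ (a j)) = ρ k₁ (∑ l, c j l • b l) := by
    intro j
    rw [← AlgHom.comp_apply, hm₁, hy' j, map_sum]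
    refine Finset.sum_congr rfl fun l _ => ?_
    rw [map_smul, hb]
  obtain ⟨k₂, m₂, hm₂, h4⟩ := h.exists_eq_fin r k₁ (fun j => m₁ (a j))
    (fun j => ∑ l, c j l • b l) h3
  refine ⟨k₂, m₂.comp m₁, ?_, ?_⟩
  · rw [← AlgHom.comp_assoc, hm₂, hm₁]
  · rw [map_sum]
    have h5 : ∀ j, tr S (m₂.comp m₁) (a j ⊗ₜ[R] σ j) =
        ∑ l, m₂ (b l) ⊗ₜ[R] (c j l • σ j) := by
      intro j
      rw [Algebra.TensorProduct.map_tmul]
      show m₂ (m₁ (a j)) ⊗ₜ[R] σ j = _
      rw [h4 j, map_sum, sum_tmul]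
      refine Finset.sum_congr rfl fun l _ => ?_
      rw [map_smul, smul_tmul]
    rw [Finset.sum_congr rfl fun j _ => h5 j, Finset.sum_comm]
    refine Finset.sum_eq_zero fun l _ => ?_
    rw [← tmul_sum, hc l, tmul_zero]

theorem IsSystem.exists_lift_finset (h : IsSystem A ρ) (i₀ : I) (s : Finset (O ⊗[R] S)) :
    ∃ (k : I) (m : A i₀ →ₐ[R] A k), (ρ k).comp m = ρ i₀ ∧
      ∀ z ∈ s, ∃ z' : A k ⊗[R] S, tr S (ρ k) z' = z := by
  classical
  induction s using Finset.induction_on with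
  | empty =>
    exact ⟨i₀, AlgHom.id R _, AlgHom.comp_id _, fun z hz => absurd hz (Finset.notMem_empty z)⟩
  | insert a s ha ih =>
    obtain ⟨k₁, m₁, hm₁, h₁⟩ := ih
    obtain ⟨k₂, m₂, hm₂, a', ha'⟩ := h.exists_lift_over S k₁ a
    refine ⟨k₂, m₂.comp m₁, by rw [← AlgHom.comp_assoc, hm₂, hm₁], ?_⟩
    intro z hz
    rcases Finset.mem_insert.1 hz with rfl | hz
    · exact ⟨a', ha'⟩
    · obtain ⟨z', hz'⟩ := h₁ z hz
      exact ⟨tr S m₂ z', by rw [tr_comp_apply, hm₂, hz']⟩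

theorem IsSystem.exists_lift_fam (h : IsSystem A ρ) {ι : Type*} [Finite ι] (i₀ : I)
    (z : ι → O ⊗[R] S) :
    ∃ (k : I) (m : A i₀ →ₐ[R] A k), (ρ k).comp m = ρ i₀ ∧
      ∃ z' : ι → A k ⊗[R] S, ∀ j, tr S (ρ k) (z' j) = z j := by
  classical
  haveI := Fintype.ofFinite ι
  obtain ⟨k, m, hm, hk⟩ := h.exists_lift_finset S i₀ (Finset.univ.image z)
  refine ⟨k, m, hm, ?_⟩
  choose z' hz' using fun j => hk (z j) (Finset.mem_image_of_mem z (Finset.mem_univ j))
  exact ⟨z', hz'⟩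

theorem IsSystem.exists_eq_zero_finset [Module.Finite R S] (h : IsSystem A ρ) (i : I)
    (s : Finset (A i ⊗[R] S)) (hs : ∀ z ∈ s, tr S (ρ i) z = 0) :
    ∃ (k : I) (m : A i →ₐ[R] A k), (ρ k).comp m = ρ i ∧ ∀ z ∈ s, tr S m z = 0 := by
  classical
  induction s using Finset.induction_on with
  | empty =>
    exact ⟨i, AlgHom.id R _, AlgHom.comp_id _, fun z hz => absurd hz (Finset.notMem_empty z)⟩
  | insert a s ha ih =>
    obtain ⟨k₁, m₁, hm₁, h₁⟩ := ih (fun z hz => hs z (Finset.mem_insert_of_mem hz))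
    have h2 : tr S (ρ k₁) (tr S m₁ a) = 0 := by
      rw [tr_comp_apply, hm₁]
      exact hs a (Finset.mem_insert_self a s)
    obtain ⟨k₂, m₂, hm₂, h₂⟩ := h.exists_eq_zero S k₁ _ h2
    refine ⟨k₂, m₂.comp m₁, by rw [← AlgHom.comp_assoc, hm₂, hm₁], ?_⟩
    intro z hz
    rcases Finset.mem_insert.1 hz with rfl | hz
    · rw [← tr_comp_apply]
      exact h₂
    · rw [← tr_comp_apply, h₁ z hz, map_zero]

theorem IsSystem.exists_eq_zero_fam [Module.Finite R S] (h : IsSystem A ρ) {ι : Type*} [Finite ι]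
    (i : I) (z : ι → A i ⊗[R] S) (hz : ∀ j, tr S (ρ i) (z j) = 0) :
    ∃ (k : I) (m : A i →ₐ[R] A k), (ρ k).comp m = ρ i ∧ ∀ j, tr S m (z j) = 0 := by
  classical
  haveI := Fintype.ofFinite ι
  obtain ⟨k, m, hm, hk⟩ := h.exists_eq_zero_finset S i (Finset.univ.image z) (by
    intro w hw
    obtain ⟨j, -, rfl⟩ := Finset.mem_image.1 hw
    exact hz j)
  exact ⟨k, m, hm, fun j => hk _ (Finset.mem_image_of_mem z (Finset.mem_univ j))⟩

/-- the ring homomorphism `S → B ⊗[R] S` -/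
noncomputable abbrev incR (B : Type u) [CommRing B] [Algebra R B] : S →+* B ⊗[R] S :=
  (Algebra.TensorProduct.includeRight : S →ₐ[R] B ⊗[R] S).toRingHom

theorem tr_comp_incR {B C : Type u} [CommRing B] [CommRing C] [Algebra R B] [Algebra R C]
    (m : B →ₐ[R] C) : (tr S m).toRingHom.comp (incR S B) = incR S C := by
  ext s
  show Algebra.TensorProduct.map m (AlgHom.id R S) ((1 : B) ⊗ₜ[R] s) = (1 : C) ⊗ₜ[R] s
  rw [Algebra.TensorProduct.map_tmul, map_one]
  rfl

theorem tr_eval₂ {B C : Type u} [CommRing B] [CommRing C] [Algebra R B] [Algebra R C]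
    (m : B →ₐ[R] C) (p : S[X]) (z : B ⊗[R] S) :
    tr S m (p.eval₂ (incR S B) z) = p.eval₂ (incR S C) (tr S m z) := by
  have h := hom_eval₂ p (incR S B) (tr S m).toRingHom z
  rw [tr_comp_incR S] at h
  exact h

theorem productMap_comp_tr {B C : Type u} [CommRing B] [CommRing C] [Algebra R B] [Algebra R C]
    {Ω : Type v} [CommRing Ω] [Algebra R Ω] (m : B →ₐ[R] C) (a : C →ₐ[R] Ω) (b : S →ₐ[R] Ω)
    (z : B ⊗[R] S) :
    Algebra.TensorProduct.productMap a b (tr S m z) =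
      Algebra.TensorProduct.productMap (a.comp m) b z := by
  induction z using TensorProduct.induction_on with
  | zero => rw [map_zero, map_zero, map_zero]
  | tmul x y =>
    show Algebra.TensorProduct.productMap a b
      (Algebra.TensorProduct.map m (AlgHom.id R S) (x ⊗ₜ[R] y)) = _
    rw [Algebra.TensorProduct.map_tmul, Algebra.TensorProduct.productMap_apply_tmul,
      Algebra.TensorProduct.productMap_apply_tmul]
    rfl
  | add z₁ z₂ h₁ h₂ => rw [map_add, map_add, map_add, h₁, h₂]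

theorem productMap_comp_algebraMap {B : Type u} [CommRing B] [Algebra R B]
    {Ω : Type v} [CommRing Ω] [Algebra R Ω] (a : B →ₐ[R] Ω) (b : S →ₐ[R] Ω) :
    (Algebra.TensorProduct.productMap a b : B ⊗[R] S →+* Ω).comp (algebraMap B (B ⊗[R] S)) =
      (a : B →+* Ω) := by
  ext o
  have h2 : algebraMap B (B ⊗[R] S) o = o ⊗ₜ[R] (1 : S) := by
    rw [Algebra.TensorProduct.algebraMap_apply]
    rfl
  show Algebra.TensorProduct.productMap a b (algebraMap B (B ⊗[R] S) o) = a o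
  rw [h2, Algebra.TensorProduct.productMap_apply_tmul, map_one, mul_one]

theorem productMap_comp_incR {B : Type u} [CommRing B] [Algebra R B]
    {Ω : Type v} [CommRing Ω] [Algebra R Ω] (a : B →ₐ[R] Ω) (b : S →ₐ[R] Ω) :
    (Algebra.TensorProduct.productMap a b : B ⊗[R] S →+* Ω).comp (incR S B) = (b : S →+* Ω) := by
  ext s
  show Algebra.TensorProduct.productMap a b ((1 : B) ⊗ₜ[R] s) = b s
  rw [Algebra.TensorProduct.productMap_apply_tmul, map_one, one_mul]

/-- **Descent of the decomposition.** -/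
theorem IsSystem.exists_decomp [Module.Finite R S] [HenselianLocalRing O]
    [IsSepClosed (IsLocalRing.ResidueField O)] (h : IsSystem A ρ)
    {Ω : Type u} [Field Ω] [IsAlgClosed Ω] [Algebra R Ω] (evO : O →ₐ[R] Ω)
    (hloc : IsLocalHom (evO : O →+* Ω))
    (P : (S →ₐ[R] Ω) → StandardEtalePair S) (ω : (S →ₐ[R] Ω) → Ω)
    (h0 : ∀ c, (P c).f.eval₂ (c : S →+* Ω) (ω c) = 0)
    (h1 : ∀ c, IsUnit ((P c).g.eval₂ (c : S →+* Ω) (ω c))) :
    ∃ (_ : Fintype (S →ₐ[R] Ω)) (k : I) (e x y : (S →ₐ[R] Ω) → A k ⊗[R] S),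
      (∀ c, e c * e c = e c) ∧ (∀ c c', c ≠ c' → e c * e c' = 0) ∧ ∑ c, e c = 1 ∧
      (∀ c, (P c).f.eval₂ (incR S (A k)) (x c) * e c = 0) ∧
      (∀ c, ((P c).g.eval₂ (incR S (A k)) (x c) * y c - 1) * e c = 0) ∧
      (∀ c, Algebra.TensorProduct.productMap (evO.comp (ρ k)) c (e c) = 1) ∧
      (∀ c, Algebra.TensorProduct.productMap (evO.comp (ρ k)) c (x c) = ω c) := by
  classical
  let ν : (S →ₐ[R] Ω) → (O ⊗[R] S →+* Ω) := fun c =>
    (Algebra.TensorProduct.productMap evO c : O ⊗[R] S →+* Ω)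
  have hν : ∀ c, (ν c).comp (algebraMap O (O ⊗[R] S)) = (evO : O →+* Ω) := fun c =>
    productMap_comp_algebraMap S evO c
  have hνS : ∀ c, (ν c).comp (incR S O) = (c : S →+* Ω) := fun c => productMap_comp_incR S evO c
  have hinj : Function.Injective ν := by
    intro c c' hcc
    apply AlgHom.coe_ringHom_injective
    rw [← hνS c, ← hνS c', hcc]
  have hsurj : ∀ ev : O ⊗[R] S →+* Ω, ev.comp (algebraMap O (O ⊗[R] S)) = (evO : O →+* Ω) →
      ∃ c, ν c = ev := by
    intro ev hev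
    have hevO : ∀ o : O, ev (o ⊗ₜ[R] (1 : S)) = evO o := by
      intro o
      have h2 : algebraMap O (O ⊗[R] S) o = o ⊗ₜ[R] (1 : S) := by
        rw [Algebra.TensorProduct.algebraMap_apply]
        rfl
      rw [← h2]
      exact RingHom.congr_fun hev o
    let c : S →ₐ[R] Ω :=
      { ev.comp (incR S O) with
        commutes' := fun r => by
          show ev ((1 : O) ⊗ₜ[R] algebraMap R S r) = algebraMap R Ω r
          have h3 : (1 : O) ⊗ₜ[R] algebraMap R S r = algebraMap R O r ⊗ₜ[R] (1 : S) := by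
            rw [Algebra.algebraMap_eq_smul_one, Algebra.algebraMap_eq_smul_one, smul_tmul]
          rw [h3, hevO]
          exact evO.commutes r }
    refine ⟨c, RingHom.ext fun z => ?_⟩
    show Algebra.TensorProduct.productMap evO c z = ev z
    induction z using TensorProduct.induction_on with
    | zero => rw [map_zero, map_zero]
    | tmul o s =>
      rw [Algebra.TensorProduct.productMap_apply_tmul]
      show evO o * ev ((1 : O) ⊗ₜ[R] s) = ev (o ⊗ₜ[R] s)
      rw [← hevO o, ← map_mul, Algebra.TensorProduct.tmul_mul_tmul, mul_one, one_mul]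
    | add z₁ z₂ h₁ h₂ => rw [map_add, map_add, h₁, h₂]
  obtain ⟨hfin, e, hidem, horth, hsum, hev1, hlocal⟩ :=
    exists_decomp_limit (T := O ⊗[R] S) (evO : O →+* Ω) hloc ν hν hinj hsurj
  letI := hfin
  have hroot : ∀ c, ∃ x y : O ⊗[R] S, (P c).f.eval₂ (incR S O) x * e c = 0 ∧
      ((P c).g.eval₂ (incR S O) x * y - 1) * e c = 0 ∧ ν c x = ω c := by
    intro c
    refine exists_root_on_factor (ν c) (by rw [hν c]; exact hloc) (e c) (hidem c) (hev1 c)
      (hlocal c) (incR S O) (P c) (ω c) ?_ ?_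
    · rw [hνS c]
      exact h0 c
    · rw [hνS c]
      exact h1 c
  choose x y hf hg hx using hroot
  obtain ⟨i₀, -, -⟩ := h.surj 0
  obtain ⟨k₁, m₁, -, z', hz'⟩ := h.exists_lift_fam S i₀
    (Sum.elim e (Sum.elim x y) : (S →ₐ[R] Ω) ⊕ ((S →ₐ[R] Ω) ⊕ (S →ₐ[R] Ω)) → O ⊗[R] S)
  let e₁ : (S →ₐ[R] Ω) → A k₁ ⊗[R] S := fun c => z' (Sum.inl c)
  let x₁ : (S →ₐ[R] Ω) → A k₁ ⊗[R] S := fun c => z' (Sum.inr (Sum.inl c))
  let y₁ : (S →ₐ[R] Ω) → A k₁ ⊗[R] S := fun c => z' (Sum.inr (Sum.inr c))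
  have he₁ : ∀ c, tr S (ρ k₁) (e₁ c) = e c := fun c => hz' (Sum.inl c)
  have hx₁ : ∀ c, tr S (ρ k₁) (x₁ c) = x c := fun c => hz' (Sum.inr (Sum.inl c))
  have hy₁ : ∀ c, tr S (ρ k₁) (y₁ c) = y c := fun c => hz' (Sum.inr (Sum.inr c))
  let w : (S →ₐ[R] Ω) ⊕ ({p : (S →ₐ[R] Ω) × (S →ₐ[R] Ω) // p.1 ≠ p.2} ⊕ (Unit ⊕
      ((S →ₐ[R] Ω) ⊕ (S →ₐ[R] Ω)))) → A k₁ ⊗[R] S :=
    Sum.elim (fun c => e₁ c * e₁ c - e₁ c)
      (Sum.elim (fun p => e₁ p.1.1 * e₁ p.1.2)
        (Sum.elim (fun _ => ∑ c, e₁ c - 1)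
          (Sum.elim (fun c => (P c).f.eval₂ (incR S (A k₁)) (x₁ c) * e₁ c)
            (fun c => ((P c).g.eval₂ (incR S (A k₁)) (x₁ c) * y₁ c - 1) * e₁ c))))
  have hw : ∀ j, tr S (ρ k₁) (w j) = 0 := by
    rintro (c | p | u | c | c)
    · show tr S (ρ k₁) (e₁ c * e₁ c - e₁ c) = 0
      rw [map_sub, map_mul, he₁, hidem c, sub_self]
    · show tr S (ρ k₁) (e₁ p.1.1 * e₁ p.1.2) = 0
      rw [map_mul, he₁, he₁, horth _ _ p.2]
    · show tr S (ρ k₁) (∑ c, e₁ c - 1) = 0
      rw [map_sub, map_sum, Finset.sum_congr rfl (fun c _ => he₁ c), hsum, map_one, sub_self]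
    · show tr S (ρ k₁) ((P c).f.eval₂ (incR S (A k₁)) (x₁ c) * e₁ c) = 0
      rw [map_mul, tr_eval₂, hx₁, he₁, hf c]
    · show tr S (ρ k₁) (((P c).g.eval₂ (incR S (A k₁)) (x₁ c) * y₁ c - 1) * e₁ c) = 0
      rw [map_mul, map_sub, map_mul, map_one, tr_eval₂, hx₁, hy₁, he₁, hg c]
  obtain ⟨k, m, hm, hwk⟩ := h.exists_eq_zero_fam S k₁ w hw
  have hev : ∀ (c : S →ₐ[R] Ω) (t : A k₁ ⊗[R] S),
      Algebra.TensorProduct.productMap (evO.comp (ρ k)) c (tr S m t) = ν c (tr S (ρ k₁) t) := by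
    intro c t
    rw [← productMap_comp_tr S (ρ k) evO c, tr_comp_apply, hm]
    rfl
  refine ⟨hfin, k, fun c => tr S m (e₁ c), fun c => tr S m (x₁ c), fun c => tr S m (y₁ c),
    ?_, ?_, ?_, ?_, ?_, ?_, ?_⟩
  · intro c
    have h' : tr S m (e₁ c * e₁ c - e₁ c) = 0 := hwk (Sum.inl c)
    rw [map_sub, map_mul, sub_eq_zero] at h'
    exact h'
  · intro c c' hcc
    have h' : tr S m (e₁ c * e₁ c') = 0 := hwk (Sum.inr (Sum.inl ⟨(c, c'), hcc⟩))
    rw [map_mul] at h'
    exact h'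
  · have h' : tr S m (∑ c, e₁ c - 1) = 0 := hwk (Sum.inr (Sum.inr (Sum.inl ())))
    rw [map_sub, map_sum, map_one, sub_eq_zero] at h'
    exact h'
  · intro c
    have h' : tr S m ((P c).f.eval₂ (incR S (A k₁)) (x₁ c) * e₁ c) = 0 :=
      hwk (Sum.inr (Sum.inr (Sum.inr (Sum.inl c))))
    rw [map_mul, tr_eval₂] at h'
    exact h'
  · intro c
    have h' : tr S m (((P c).g.eval₂ (incR S (A k₁)) (x₁ c) * y₁ c - 1) * e₁ c) = 0 :=
      hwk (Sum.inr (Sum.inr (Sum.inr (Sum.inr c))))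
    rw [map_mul, map_sub, map_mul, map_one, tr_eval₂] at h'
    exact h'
  · intro c
    rw [hev c, he₁ c]
    exact hev1 c
  · intro c
    rw [hev c, hx₁ c]
    exact hx c

end Descent

end Groth.Agent.Helper1.FP
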