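import Mathlib
import Groth.Agent.Lib.Helper1.FP1
import Groth.Agent.Lib.Helper1.ELR1

/-!
# Étale local structure of finite morphisms: the affine case, at the level of global sections
-/

set_option autoImplicit false
open CategoryTheory CategoryTheory.Limits AlgebraicGeometry Opposite Polynomial TensorProduct
universe u

namespace Groth.Agent.Helper1.FP

open Groth.Agent.Helper1.ELR

section Pts

variable {Ω : Type u} [Field Ω]

/-- evaluation of global sections at a point with values in a field -/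
noncomputable def evPt {Z : Scheme.{u}} (z : Spec (CommRingCat.of Ω) ⟶ Z) : Γ(Z, ⊤) →+* Ω :=
  (z.appTop ≫ (Scheme.ΓSpecIso (CommRingCat.of Ω)).hom).hom

theorem evPt_comp {Z Z' : Scheme.{u}} (z : Spec (CommRingCat.of Ω) ⟶ Z) (g : Z ⟶ Z') :
    evPt (z ≫ g) = (evPt z).comp g.appTop.hom := by
  unfold evPt
  rw [Scheme.Hom.comp_appTop, Category.assoc]
  rfl

theorem evPt_comp_apply {Z Z' : Scheme.{u}} (z : Spec (CommRingCat.of Ω) ⟶ Z) (g : Z ⟶ Z')
    (s : Γ(Z', ⊤)) : evPt (z ≫ g) s = evPt z (g.appTop.hom s) := by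
  rw [evPt_comp]
  rfl

/-- the point of an affine scheme attached to a ring map -/
noncomputable def ptOf {Z : Scheme.{u}} [IsAffine Z] (φ : Γ(Z, ⊤) →+* Ω) :
    Spec (CommRingCat.of Ω) ⟶ Z :=
  Spec.map (CommRingCat.ofHom φ) ≫ Z.isoSpec.inv

theorem evPt_ptOf {Z : Scheme.{u}} [IsAffine Z] (φ : Γ(Z, ⊤) →+* Ω) : evPt (ptOf φ) = φ := by
  unfold evPt ptOf
  rw [appTop_spec_eq]
  rfl

theorem ptOf_evPt {Z : Scheme.{u}} [IsAffine Z] (z : Spec (CommRingCat.of Ω) ⟶ Z) :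
    ptOf (evPt z) = z := by
  unfold evPt ptOf
  exact spec_ev_eq z

theorem evPt_ext {Z : Scheme.{u}} [IsAffine Z] (z z' : Spec (CommRingCat.of Ω) ⟶ Z)
    (h : evPt z = evPt z') : z = z' := by
  rw [← ptOf_evPt z, ← ptOf_evPt z', h]

end Pts

section Sys

variable {Y : Scheme.{u}} {Ω : Type u} [Field Ω] [IsSepClosed Ω]
  (η : Spec (CommRingCat.of Ω) ⟶ Y)

/-- étale neighbourhoods of `η` -/
abbrev Nb := Σ V : Y.Etale, (Φ η).fiber.obj V

/-- the base point of the trivial neighbourhood -/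
noncomputable def x₀ : (Φ η).fiber.obj (EtCoh.top Y) :=
  mkPt η (EtCoh.top Y) η (Category.comp_id η)

/-- sections over an étale `Y`-scheme as an algebra over the global sections of `Y` -/
noncomputable def algΓ (V : Y.Etale) : Algebra Γ(Y, ⊤) Γ(V.left, ⊤) := V.hom.appTop.hom.toAlgebra

/-- the étale local ring as an algebra over the global sections of `Y` -/
noncomputable def algO : Algebra Γ(Y, ⊤) (EtBase.etaleLocalRing η) :=
  ((ρ η (EtCoh.top Y) (x₀ η)).hom : Γ(Y, ⊤) →+* EtBase.etaleLocalRing η).toAlgebra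

attribute [local instance] algΓ algO

theorem ρ_algebraMap (V : Y.Etale) (x : (Φ η).fiber.obj V) (r : Γ(Y, ⊤)) :
    (ρ η V x).hom (V.hom.appTop.hom r) = (ρ η (EtCoh.top Y) (x₀ η)).hom r := by
  let g : V ⟶ EtCoh.top Y := MorphismProperty.Over.homMk V.hom (Category.comp_id _) trivial
  have h1 : (Φ η).fiber.map g x = x₀ η := by
    apply pt_ext
    rw [pt_map]
    exact pt_comp η V x
  have h2 := ρ_map η g x
  rw [h1] at h2
  exact congrArg (fun k => k.hom r) h2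

/-- the canonical maps to the étale local ring, as algebra maps -/
noncomputable def ρA (i : Nb η) : Γ(i.1.left, ⊤) →ₐ[Γ(Y, ⊤)] EtBase.etaleLocalRing η :=
  { (ρ η i.1 i.2).hom with
    commutes' := fun r => ρ_algebraMap η i.1 i.2 r }

/-- restriction maps as algebra maps -/
noncomputable def resA {V V' : Y.Etale} (g : V' ⟶ V) :
    Γ(V.left, ⊤) →ₐ[Γ(Y, ⊤)] Γ(V'.left, ⊤) :=
  { g.left.appTop.hom with
    commutes' := fun r => by
      show g.left.appTop.hom (V.hom.appTop.hom r) = V'.hom.appTop.hom r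
      have h : g.left ≫ V.hom = V'.hom := MorphismProperty.Over.w g
      rw [← h, Scheme.Hom.comp_appTop]
      rfl }

theorem ρA_comp_resA {V V' : Y.Etale} (g : V' ⟶ V) (x' : (Φ η).fiber.obj V')
    (x : (Φ η).fiber.obj V) (hx : (Φ η).fiber.map g x' = x) :
    (ρA η ⟨V', x'⟩).comp (resA g) = ρA η ⟨V, x⟩ := by
  ext s
  have h2 := ρ_map η g x'
  rw [hx] at h2
  exact congrArg (fun k => k.hom s) h2

theorem isSystem : IsSystem (fun i : Nb η => Γ(i.1.left, ⊤)) (ρA η) where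
  surj o := by
    obtain ⟨U, x, s, hs⟩ := exists_rep η o
    exact ⟨⟨U, x⟩, s, hs⟩
  dir i j := by
    let a : (Φ η).fiber.Elements := ⟨i.1, i.2⟩
    let b : (Φ η).fiber.Elements := ⟨j.1, j.2⟩
    let c := IsCofiltered.min a b
    let fa : c ⟶ a := IsCofiltered.minToLeft a b
    let fb : c ⟶ b := IsCofiltered.minToRight a b
    exact ⟨⟨c.1, c.2⟩, resA fa.1, resA fb.1, ρA_comp_resA η fa.1 c.2 i.2 fa.2,
      ρA_comp_resA η fb.1 c.2 j.2 fb.2⟩
  eq i a b hab := by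
    have hab' : (Φ η).toPresheafFiber i.1 i.2 (EtBase.OO Y) a =
        (Φ η).toPresheafFiber i.1 i.2 (EtBase.OO Y) b := hab
    obtain ⟨V', g, v, hv, hg⟩ :=
      ((Φ η).toPresheafFiber_eq_iff' (P := EtBase.OO Y) i.1 i.2 a b).1 hab'
    exact ⟨⟨V', v⟩, resA g, ρA_comp_resA η g v i.2 hv, hg⟩

/-- **Decomposition over an étale neighbourhood, affine case, in terms of global sections.** -/
theorem exists_decomp_affine [IsAlgClosed Ω] [IsAffine Y] {X : Scheme.{u}} [IsAffine X]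
    (f : X ⟶ Y) (hfin : f.appTop.hom.Finite)
    (P : {ξ : Spec (CommRingCat.of Ω) ⟶ X // ξ ≫ f = η} → StandardEtalePair Γ(X, ⊤))
    (ω : {ξ : Spec (CommRingCat.of Ω) ⟶ X // ξ ≫ f = η} → Ω)
    (h0 : ∀ ξ, (P ξ).f.eval₂ (evPt ξ.1) (ω ξ) = 0)
    (h1 : ∀ ξ, IsUnit ((P ξ).g.eval₂ (evPt ξ.1) (ω ξ))) :
    ∃ (_ : Fintype {ξ : Spec (CommRingCat.of Ω) ⟶ X // ξ ≫ f = η}) (V : Y.Etale)
      (v : Spec (CommRingCat.of Ω) ⟶ V.left) (_ : v ≫ V.hom = η),
      ∀ (Z : Scheme.{u}) (p : Z ⟶ V.left) (q : Z ⟶ X), p ≫ V.hom = q ≫ f →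
        ∃ e x y : {ξ : Spec (CommRingCat.of Ω) ⟶ X // ξ ≫ f = η} → Γ(Z, ⊤),
          (∀ c, e c * e c = e c) ∧ (∀ c c', c ≠ c' → e c * e c' = 0) ∧ ∑ c, e c = 1 ∧
          (∀ c, (P c).f.eval₂ q.appTop.hom (x c) * e c = 0) ∧
          (∀ c, ((P c).g.eval₂ q.appTop.hom (x c) * y c - 1) * e c = 0) ∧
          ∀ (c : {ξ : Spec (CommRingCat.of Ω) ⟶ X // ξ ≫ f = η})
            (z : Spec (CommRingCat.of Ω) ⟶ Z), z ≫ p = v → z ≫ q = c.1 →
              evPt z (e c) = 1 ∧ evPt z (x c) = ω c := by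
  classical
  letI : Algebra Γ(Y, ⊤) Γ(X, ⊤) := f.appTop.hom.toAlgebra
  haveI : Module.Finite Γ(Y, ⊤) Γ(X, ⊤) := hfin
  letI : Algebra Γ(Y, ⊤) Ω := (evPt η).toAlgebra
  haveI : HenselianLocalRing (EtBase.etaleLocalRing η) := henselian η
  haveI : IsSepClosed (IsLocalRing.ResidueField (EtBase.etaleLocalRing η)) :=
    isSepClosed_residueField η
  let evO : EtBase.etaleLocalRing η →ₐ[Γ(Y, ⊤)] Ω :=
    { (ev η).hom with
      commutes' := fun r => by
        show (ev η).hom ((ρ η (EtCoh.top Y) (x₀ η)).hom r) = evPt η r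
        rw [ev_ρ_apply]
        rfl }
  have hloc : IsLocalHom (evO : EtBase.etaleLocalRing η →+* Ω) := isLocalHom_ev η
  -- correspondence between lifts and algebra maps
  let cOf : {ξ : Spec (CommRingCat.of Ω) ⟶ X // ξ ≫ f = η} → (Γ(X, ⊤) →ₐ[Γ(Y, ⊤)] Ω) :=
    fun ξ =>
    { evPt ξ.1 with
      commutes' := fun r => by
        show evPt ξ.1 (f.appTop.hom r) = evPt η r
        rw [← evPt_comp_apply, ξ.2] }
  have hξOf : ∀ c : Γ(X, ⊤) →ₐ[Γ(Y, ⊤)] Ω, ptOf (c : Γ(X, ⊤) →+* Ω) ≫ f = η := by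
    intro c
    apply evPt_ext
    rw [evPt_comp, evPt_ptOf]
    ext r
    exact c.commutes r
  let ξOf : (Γ(X, ⊤) →ₐ[Γ(Y, ⊤)] Ω) → {ξ : Spec (CommRingCat.of Ω) ⟶ X // ξ ≫ f = η} :=
    fun c => ⟨ptOf (c : Γ(X, ⊤) →+* Ω), hξOf c⟩
  have hcξ : ∀ c, cOf (ξOf c) = c := by
    intro c
    apply AlgHom.coe_ringHom_injective
    exact evPt_ptOf _
  have hξc : ∀ ξ, ξOf (cOf ξ) = ξ := by
    intro ξ
    apply Subtype.ext
    exact ptOf_evPt ξ.1
  have hcoe : ∀ c : Γ(X, ⊤) →ₐ[Γ(Y, ⊤)] Ω, evPt (ξOf c).1 = (c : Γ(X, ⊤) →+* Ω) :=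
    fun c => evPt_ptOf _
  obtain ⟨hfinPt, k, e, x, y, hidem, horth, hsum, hf, hg, hev, hevx⟩ :=
    (isSystem η).exists_decomp Γ(X, ⊤) evO hloc (fun c => P (ξOf c)) (fun c => ω (ξOf c))
      (fun c => by
        have h2 := h0 (ξOf c)
        rwa [hcoe c] at h2)
      (fun c => by
        have h2 := h1 (ξOf c)
        rwa [hcoe c] at h2)
  let εq : {ξ : Spec (CommRingCat.of Ω) ⟶ X // ξ ≫ f = η} ≃ (Γ(X, ⊤) →ₐ[Γ(Y, ⊤)] Ω) :=
    ⟨cOf, ξOf, hξc, hcξ⟩
  letI := hfinPt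
  letI : Fintype {ξ : Spec (CommRingCat.of Ω) ⟶ X // ξ ≫ f = η} := Fintype.ofEquiv _ εq.symm
  refine ⟨inferInstance, k.1, pt η k.1 k.2, pt_comp η k.1 k.2, ?_⟩
  intro Z p q hpq
  letI : Algebra Γ(Y, ⊤) Γ(Z, ⊤) := (p ≫ k.1.hom).appTop.hom.toAlgebra
  let pA : Γ(k.1.left, ⊤) →ₐ[Γ(Y, ⊤)] Γ(Z, ⊤) :=
    { p.appTop.hom with
      commutes' := fun r => by
        show p.appTop.hom (k.1.hom.appTop.hom r) = (p ≫ k.1.hom).appTop.hom r
        rw [Scheme.Hom.comp_appTop]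
        rfl }
  let qA : Γ(X, ⊤) →ₐ[Γ(Y, ⊤)] Γ(Z, ⊤) :=
    { q.appTop.hom with
      commutes' := fun r => by
        show q.appTop.hom (f.appTop.hom r) = (p ≫ k.1.hom).appTop.hom r
        rw [hpq, Scheme.Hom.comp_appTop]
        rfl }
  let θ := Algebra.TensorProduct.productMap pA qA
  have hθq : (θ : Γ(k.1.left, ⊤) ⊗[Γ(Y, ⊤)] Γ(X, ⊤) →+* Γ(Z, ⊤)).comp
      (incR Γ(X, ⊤) Γ(k.1.left, ⊤)) = q.appTop.hom :=
    productMap_comp_incR Γ(X, ⊤) pA qA
  have hθeval : ∀ (pp : Polynomial Γ(X, ⊤)) (t : Γ(k.1.left, ⊤) ⊗[Γ(Y, ⊤)] Γ(X, ⊤)),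
      θ (pp.eval₂ (incR Γ(X, ⊤) Γ(k.1.left, ⊤)) t) = pp.eval₂ q.appTop.hom (θ t) := by
    intro pp t
    have h := hom_eval₂ pp (incR Γ(X, ⊤) Γ(k.1.left, ⊤))
      (θ : Γ(k.1.left, ⊤) ⊗[Γ(Y, ⊤)] Γ(X, ⊤) →+* Γ(Z, ⊤)) t
    rw [hθq] at h
    exact h
  refine ⟨fun ξ => θ (e (cOf ξ)), fun ξ => θ (x (cOf ξ)), fun ξ => θ (y (cOf ξ)),
    ?_, ?_, ?_, ?_, ?_, ?_⟩
  · intro c
    rw [← map_mul, hidem]
  · intro c c' hcc
    rw [← map_mul, horth (cOf c) (cOf c') (fun h => hcc (εq.injective h)), map_zero]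
  · have h2 : ∑ ξ, θ (e (cOf ξ)) = θ (∑ c, e c) := by
      rw [map_sum]
      exact Fintype.sum_equiv εq _ _ (fun ξ => rfl)
    rw [h2, hsum, map_one]
  · intro c
    have h2 := congrArg θ (hf (cOf c))
    beta_reduce at h2
    rw [map_mul, hθeval, map_zero, hξc c] at h2
    exact h2
  · intro c
    have h2 := congrArg θ (hg (cOf c))
    beta_reduce at h2
    rw [map_mul, map_sub, map_mul, map_one, hθeval, map_zero, hξc c] at h2
    exact h2
  · intro c z hzp hzq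
    have key : ∀ t, evPt z (θ t) =
        Algebra.TensorProduct.productMap (evO.comp (ρA η k)) (cOf c) t := by
      intro t
      induction t using TensorProduct.induction_on with
      | zero => rw [map_zero, map_zero, map_zero]
      | tmul a s =>
        rw [Algebra.TensorProduct.productMap_apply_tmul,
          Algebra.TensorProduct.productMap_apply_tmul, map_mul]
        congr 1
        · show evPt z (p.appTop.hom a) = (ev η).hom ((ρ η k.1 k.2).hom a)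
          rw [← evPt_comp_apply, hzp, ev_ρ_apply]
          rfl
        · show evPt z (q.appTop.hom s) = evPt c.1 s
          rw [← evPt_comp_apply, hzq]
      | add t₁ t₂ h₁ h₂ => rw [map_add, map_add, map_add, h₁, h₂]
    constructor
    · rw [key]
      exact hev (cOf c)
    · rw [key, hevx (cOf c), hξc c]

end Sys

end Groth.Agent.Helper1.FP
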