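import Mathlib
import Groth.Agent.Lib.Helper1.FP2

/-!
# Étale local structure of finite morphisms: geometric form, affine base
-/

set_option autoImplicit false
open CategoryTheory CategoryTheory.Limits AlgebraicGeometry Opposite Polynomial TensorProduct
universe u

namespace Groth.Agent.Helper1.FP

open Groth.Agent.Helper1.ELR

section Geom

/-- morphism to an affine scheme from a map on global sections -/
noncomputable def homOfΓ {Z A : Scheme.{u}} [IsAffine A] (φ : Γ(A, ⊤) ⟶ Γ(Z, ⊤)) : Z ⟶ A :=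
  Z.toSpecΓ ≫ Spec.map φ ≫ A.isoSpec.inv

theorem homOfΓ_appTop {Z A : Scheme.{u}} [IsAffine A] (φ : Γ(A, ⊤) ⟶ Γ(Z, ⊤)) :
    (homOfΓ φ).appTop = φ := by
  unfold homOfΓ
  rw [Scheme.Hom.comp_appTop, Scheme.toSpecΓ_appTop]
  exact appTop_spec_eq (Y := A) φ

theorem basicOpen_disjoint_of_mul_eq_zero {Z : Scheme.{u}} (a b : Γ(Z, ⊤)) (h : a * b = 0) :
    Disjoint (Z.basicOpen a) (Z.basicOpen b) := by
  rw [disjoint_iff, ← Scheme.basicOpen_mul, h, Scheme.basicOpen_zero]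

theorem iSup_basicOpen_eq_top {Z : Scheme.{u}} {ι : Type*} [Fintype ι] (e : ι → Γ(Z, ⊤))
    (h : ∑ c, e c = 1) : (⨆ c, Z.basicOpen (e c)) = ⊤ := by
  rw [eq_top_iff]
  intro z _
  rw [TopologicalSpace.Opens.mem_iSup]
  by_contra hcon
  push_neg at hcon
  have h1 : ∀ c, Z.presheaf.germ ⊤ z trivial (e c) ∈
      IsLocalRing.maximalIdeal (Z.presheaf.stalk z) := by
    intro c
    rw [IsLocalRing.mem_maximalIdeal, mem_nonunits_iff]
    intro hu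
    exact hcon c ((Z.mem_basicOpen_top (e c) z).2 hu)
  have h2 : Z.presheaf.germ ⊤ z trivial (∑ c, e c) ∈
      IsLocalRing.maximalIdeal (Z.presheaf.stalk z) := by
    rw [map_sum]
    exact Ideal.sum_mem _ (fun c _ => h1 c)
  rw [h, map_one] at h2
  exact (IsLocalRing.maximalIdeal.isMaximal _).ne_top ((Ideal.eq_top_iff_one _).2 h2)

theorem univ_of_presentation {R A : Type u} [CommRing R] [CommRing A] [Algebra R A]
    (𝓟 : StandardEtalePresentation R A) (B : Type u) [CommRing B] (φ : R →+* B) (b : B)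
    (h0 : 𝓟.P.f.eval₂ φ b = 0) (h1 : IsUnit (𝓟.P.g.eval₂ φ b)) :
    ∃! ψ : A →+* B, ψ.comp (algebraMap R A) = φ ∧ ψ 𝓟.x = b := by
  letI : Algebra R B := φ.toAlgebra
  have hmap : 𝓟.P.HasMap b := ⟨h0, h1⟩
  let L : 𝓟.P.Ring →ₐ[R] B := 𝓟.P.lift b hmap
  have hLX : L 𝓟.P.X = b := 𝓟.P.lift_X b hmap
  let ψ : A →ₐ[R] B := L.comp 𝓟.equivRing.toAlgHom
  refine ⟨ψ.toRingHom, ⟨?_, ?_⟩, ?_⟩
  · ext r
    exact ψ.commutes r
  · show L (𝓟.equivRing 𝓟.x) = b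
    rw [𝓟.equivRing_x]
    exact hLX
  · rintro ψ' ⟨h1', h2'⟩
    let ψ'A : A →ₐ[R] B := { ψ' with commutes' := fun r => RingHom.congr_fun h1' r }
    have h3 : ψ'A.comp 𝓟.equivRing.symm.toAlgHom = L := by
      apply StandardEtalePair.hom_ext
      show ψ' (𝓟.equivRing.symm 𝓟.P.X) = L 𝓟.P.X
      rw [𝓟.equivRing_symm_X, h2', hLX]
    ext a
    have h4 := congrArg (fun k : 𝓟.P.Ring →ₐ[R] B => k (𝓟.equivRing a)) h3
    have h5 : ψ' (𝓟.equivRing.symm (𝓟.equivRing a)) = L (𝓟.equivRing a) := h4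
    rw [AlgEquiv.symm_apply_apply] at h5
    exact h5

/-- A standard étale chart: the global sections of `U'` are, as an algebra over those of `X`, the
standard étale algebra of a pair; stated through the universal property. -/
structure StdChart {X U' : Scheme.{u}} (g' : U' ⟶ X) where
  P : StandardEtalePair Γ(X, ⊤)
  x : Γ(U', ⊤)
  hf : P.f.eval₂ g'.appTop.hom x = 0
  hg : IsUnit (P.g.eval₂ g'.appTop.hom x)
  univ : ∀ (B : Type u) [CommRing B] (φ : Γ(X, ⊤) →+* B) (b : B), P.f.eval₂ φ b = 0 →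
    IsUnit (P.g.eval₂ φ b) → ∃! ψ : Γ(U', ⊤) →+* B, ψ.comp g'.appTop.hom = φ ∧ ψ x = b

theorem nonempty_stdChart {X U' : Scheme.{u}} (g' : U' ⟶ X)
    (h : @Algebra.IsStandardEtale Γ(X, ⊤) Γ(U', ⊤) _ _ g'.appTop.hom.toAlgebra) :
    Nonempty (StdChart g') := by
  letI : Algebra Γ(X, ⊤) Γ(U', ⊤) := g'.appTop.hom.toAlgebra
  obtain ⟨𝓟⟩ := Algebra.IsStandardEtale.nonempty_standardEtalePresentation
    (R := Γ(X, ⊤)) (S := Γ(U', ⊤))
  refine ⟨⟨𝓟.P, 𝓟.x, 𝓟.hasMap.1, 𝓟.hasMap.2, ?_⟩⟩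
  intro B _ φ b h0 h1
  exact univ_of_presentation 𝓟 B φ b h0 h1

theorem appLE_topIso_inv {X U : Scheme.{u}} (g : U ⟶ X) (D : U.Opens) (hle₁ : D ≤ g ⁻¹ᵁ ⊤) :
    g.appLE ⊤ D hle₁ ≫ D.topIso.inv = (D.ι ≫ g).appTop := by
  rw [Scheme.Hom.comp_appTop, Scheme.Opens.ι_appTop, Scheme.Hom.appLE, Category.assoc,
    Scheme.Opens.topIso_inv]
  congr 1
  exact (U.presheaf.map_comp _ _).symm

theorem exists_stdChart {X U : Scheme.{u}} [IsAffine X] (g : U ⟶ X) [Etale g] (u : U) :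
    ∃ (U₁ : U.Opens), IsAffineOpen U₁ ∧ u ∈ U₁ ∧ Nonempty (StdChart (U₁.ι ≫ g)) := by
  obtain ⟨U₀, hU₀, huU₀, -⟩ := exists_isAffineOpen_mem_and_subset (x := u) (U := ⊤) trivial
  have hX : IsAffineOpen (⊤ : X.Opens) := isAffineOpen_top X
  have hle : U₀ ≤ g ⁻¹ᵁ ⊤ := le_top
  let ψ : Γ(X, ⊤) ⟶ Γ(U, U₀) := g.appLE ⊤ U₀ hle
  have hψ : RingHom.Etale ψ.hom :=
    HasRingHomProperty.appLE @Etale g inferInstance ⟨⊤, hX⟩ ⟨U₀, hU₀⟩ hle
  letI : Algebra Γ(X, ⊤) Γ(U, U₀) := ψ.hom.toAlgebra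
  haveI : Algebra.Etale Γ(X, ⊤) Γ(U, U₀) := hψ
  let q := hU₀.primeIdealOf ⟨u, huU₀⟩
  haveI : Algebra.IsEtaleAt Γ(X, ⊤) q.asIdeal := by
    have h1 : q ∈ Algebra.etaleLocus Γ(X, ⊤) Γ(U, U₀) := by
      rw [Algebra.etaleLocus_eq_univ_iff.2 inferInstance]; trivial
    exact h1
  obtain ⟨b, hbq, hb⟩ := Algebra.IsEtaleAt.exists_isStandardEtale (R := Γ(X, ⊤)) q.asIdeal
  have hU₁ : IsAffineOpen (U.basicOpen b) := hU₀.basicOpen b
  have hU₁le : U.basicOpen b ≤ U₀ := U.basicOpen_le b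
  have huU₁ : u ∈ U.basicOpen b := by
    have h1 : q ∈ hU₀.fromSpec ⁻¹ᵁ U.basicOpen b := by
      rw [hU₀.fromSpec_preimage_basicOpen]
      exact (PrimeSpectrum.mem_basicOpen b q).2 hbq
    have h2 : hU₀.fromSpec.base q = u := hU₀.fromSpec_primeIdealOf ⟨u, huU₀⟩
    rw [← h2]
    exact h1
  have hle₁ : U.basicOpen b ≤ g ⁻¹ᵁ ⊤ := le_top
  let ψ₁ : Γ(X, ⊤) ⟶ Γ(U, U.basicOpen b) := g.appLE ⊤ (U.basicOpen b) hle₁
  letI : Algebra Γ(X, ⊤) Γ(U, U.basicOpen b) := ψ₁.hom.toAlgebra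
  haveI : IsScalarTower Γ(X, ⊤) Γ(U, U₀) Γ(U, U.basicOpen b) := by
    apply IsScalarTower.of_algebraMap_eq'
    have h1 := g.appLE_map hle (homOfLE hU₁le).op
    exact congrArg CommRingCat.Hom.hom h1.symm
  haveI : IsLocalization.Away b Γ(U, U.basicOpen b) := hU₀.isLocalization_basicOpen b
  haveI : Algebra.IsStandardEtale Γ(X, ⊤) Γ(U, U.basicOpen b) :=
    Algebra.IsStandardEtale.of_equiv
      ((IsLocalization.algEquiv (Submonoid.powers b) (Localization.Away b)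
        Γ(U, U.basicOpen b)).restrictScalars Γ(X, ⊤))
  refine ⟨U.basicOpen b, hU₁, huU₁, ?_⟩
  apply nonempty_stdChart
  letI : Algebra Γ(X, ⊤) Γ((U.basicOpen b).toScheme, ⊤) :=
    ((U.basicOpen b).ι ≫ g).appTop.hom.toAlgebra
  have hcomm : ψ₁ ≫ (U.basicOpen b).topIso.inv = ((U.basicOpen b).ι ≫ g).appTop := by
    exact appLE_topIso_inv g (U.basicOpen b) hle₁
  let ε : Γ(U, U.basicOpen b) ≃ₐ[Γ(X, ⊤)] Γ((U.basicOpen b).toScheme, ⊤) :=
    { (U.basicOpen b).topIso.symm.commRingCatIsoToRingEquiv with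
      commutes' := fun r => congrArg (fun k => k.hom r) hcomm }
  exact Algebra.IsStandardEtale.of_equiv ε

theorem exists_hom_of_root {Ω : Type u} [Field Ω] {X U' Z : Scheme.{u}} [IsAffine X]
    [IsAffine U'] (g' : U' ⟶ X) (C : StdChart g') (q : Z ⟶ X) (e x y : Γ(Z, ⊤))
    (he : e * e = e) (hf : C.P.f.eval₂ q.appTop.hom x * e = 0)
    (hg : (C.P.g.eval₂ q.appTop.hom x * y - 1) * e = 0) :
    ∃ h : (Z.basicOpen e).toScheme ⟶ U', h ≫ g' = (Z.basicOpen e).ι ≫ q ∧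
      ∀ (z : Spec (CommRingCat.of Ω) ⟶ Z) (ū : Spec (CommRingCat.of Ω) ⟶ U'), evPt z e ≠ 0 →
        ū ≫ g' = z ≫ q → evPt ū C.x = evPt z x →
        ∃ w : Spec (CommRingCat.of Ω) ⟶ (Z.basicOpen e).toScheme,
          w ≫ (Z.basicOpen e).ι = z ∧ w ≫ h = ū := by
  obtain ⟨W, hW⟩ : ∃ W : Z.Opens, W = Z.basicOpen e := ⟨_, rfl⟩
  rw [← hW]
  let res : Γ(Z, ⊤) →+* Γ(W.toScheme, ⊤) := W.ι.appTop.hom
  have hue : IsUnit (res e) := by
    have h2 : W.toScheme.basicOpen (W.ι.appTop.hom e) = ⊤ := by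
      rw [← Scheme.preimage_basicOpen_top W.ι e, ← hW]
      exact W.ι_preimage_self
    exact isUnit_of_basicOpen_eq_top _ h2
  let φ : Γ(X, ⊤) →+* Γ(W.toScheme, ⊤) := (W.ι ≫ q).appTop.hom
  have hφ : φ = res.comp q.appTop.hom := by
    show (W.ι ≫ q).appTop.hom = _
    rw [Scheme.Hom.comp_appTop]
    rfl
  have h0 : C.P.f.eval₂ φ (res x) = 0 := by
    have h2 := congrArg res hf
    rw [map_mul, map_zero, hom_eval₂, ← hφ] at h2
    exact (hue.mul_left_eq_zero).1 h2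
  have h1 : IsUnit (C.P.g.eval₂ φ (res x)) := by
    have h2 := congrArg res hg
    rw [map_mul, map_zero, map_sub, map_mul, map_one, hom_eval₂, ← hφ] at h2
    have h3 := (hue.mul_left_eq_zero).1 h2
    exact IsUnit.of_mul_eq_one (res y) (sub_eq_zero.1 h3)
  obtain ⟨ψ, ⟨hψ1, hψ2⟩, -⟩ := C.univ Γ(W.toScheme, ⊤) φ (res x) h0 h1
  let h : W.toScheme ⟶ U' := homOfΓ (CommRingCat.ofHom ψ)
  have hh : h.appTop = CommRingCat.ofHom ψ := homOfΓ_appTop _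
  have hcomm : h ≫ g' = W.ι ≫ q := by
    apply ext_of_isAffine
    rw [Scheme.Hom.comp_appTop, hh]
    ext r
    exact RingHom.congr_fun hψ1 r
  refine ⟨h, hcomm, ?_⟩
  intro z ū hze hū hx
  have hpre : z ⁻¹ᵁ W = ⊤ := by
    rw [hW, Scheme.preimage_basicOpen_top]
    apply Scheme.basicOpen_of_isUnit
    have h2 : IsUnit (evPt z e) := IsUnit.mk0 _ hze
    have h3 := h2.map (Scheme.ΓSpecIso (CommRingCat.of Ω)).inv.hom
    have h4 : (Scheme.ΓSpecIso (CommRingCat.of Ω)).inv.hom (evPt z e) = z.appTop.hom e :=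
      iso_inv_hom_apply (Scheme.ΓSpecIso (CommRingCat.of Ω)) _
    rw [h4] at h3
    exact h3
  have hrange : Set.range z ⊆ Set.range W.ι := by
    rw [Scheme.Opens.range_ι]
    rintro _ ⟨a, rfl⟩
    have hz : a ∈ (z ⁻¹ᵁ W) := by rw [hpre]; trivial
    exact hz
  let w := IsOpenImmersion.lift W.ι z hrange
  have hw : w ≫ W.ι = z := IsOpenImmersion.lift_fac _ _ _
  refine ⟨w, hw, ?_⟩
  apply evPt_ext
  have hb0 : C.P.f.eval₂ (evPt (z ≫ q)) (evPt z x) = 0 := by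
    have h2 := congrArg (evPt ū) C.hf
    rw [map_zero, hom_eval₂, ← evPt_comp, hū, hx] at h2
    exact h2
  have hb1 : IsUnit (C.P.g.eval₂ (evPt (z ≫ q)) (evPt z x)) := by
    have h2 := C.hg.map (evPt ū)
    rw [hom_eval₂, ← evPt_comp, hū, hx] at h2
    exact h2
  obtain ⟨ψ₀, -, huniq⟩ := C.univ Ω (evPt (z ≫ q)) (evPt z x) hb0 hb1
  have e1 : evPt (w ≫ h) = ψ₀ := by
    apply huniq
    constructor
    · rw [← evPt_comp, Category.assoc, hcomm, ← Category.assoc, hw]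
    · rw [evPt_comp_apply, hh]
      show evPt w (ψ C.x) = _
      rw [hψ2]
      show evPt w (W.ι.appTop.hom x) = _
      rw [← evPt_comp_apply, hw]
  have e2 : evPt ū = ψ₀ := by
    apply huniq
    exact ⟨by rw [← evPt_comp, hū], hx⟩
  rw [e1, e2]

/-- **Étale local structure of a finite morphism over an affine base.** -/
theorem exists_decomp_affine_geom {Ω : Type u} [Field Ω] [IsAlgClosed Ω] {X Y : Scheme.{u}}
    [IsAffine Y] (f : X ⟶ Y) [IsFinite f] (η : Spec (CommRingCat.of Ω) ⟶ Y)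
    (U : {ξ : Spec (CommRingCat.of Ω) ⟶ X // ξ ≫ f = η} → X.Etale)
    (ū : ∀ ξ : {ξ : Spec (CommRingCat.of Ω) ⟶ X // ξ ≫ f = η},
      Spec (CommRingCat.of Ω) ⟶ (U ξ).left)
    (hū : ∀ ξ, ū ξ ≫ (U ξ).hom = ξ.1) :
    ∃ (_ : Fintype {ξ : Spec (CommRingCat.of Ω) ⟶ X // ξ ≫ f = η}) (V : Y.Etale)
      (v : Spec (CommRingCat.of Ω) ⟶ V.left) (_ : v ≫ V.hom = η),
      ∀ (Z : Scheme.{u}) (p : Z ⟶ V.left) (q : Z ⟶ X), p ≫ V.hom = q ≫ f →
        ∃ W : {ξ : Spec (CommRingCat.of Ω) ⟶ X // ξ ≫ f = η} → Z.Opens,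
          (∀ c c', c ≠ c' → Disjoint (W c) (W c')) ∧ (⨆ c, W c) = ⊤ ∧
          ∀ c, ∃ h : (W c).toScheme ⟶ (U c).left, h ≫ (U c).hom = (W c).ι ≫ q ∧
            ∀ z : Spec (CommRingCat.of Ω) ⟶ Z, z ≫ p = v → z ≫ q = c.1 →
              ∃ w : Spec (CommRingCat.of Ω) ⟶ (W c).toScheme,
                w ≫ (W c).ι = z ∧ w ≫ h = ū c := by
  classical
  haveI : IsAffine X := isAffine_of_isAffineHom f
  have hfin : f.appTop.hom.Finite := f.finite_appTop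
  have hchart : ∀ ξ : {ξ : Spec (CommRingCat.of Ω) ⟶ X // ξ ≫ f = η},
      ∃ (U₁ : (U ξ).left.Opens), IsAffineOpen U₁ ∧ (ū ξ) default ∈ U₁ ∧
        Nonempty (StdChart (U₁.ι ≫ (U ξ).hom)) := by
    intro ξ
    haveI : Etale (U ξ).hom := (U ξ).prop
    exact exists_stdChart (X := X) (U ξ).hom ((ū ξ) default)
  choose U₁ hU₁ hmem hC using hchart
  let C : ∀ ξ, StdChart ((U₁ ξ).ι ≫ (U ξ).hom) := fun ξ => (hC ξ).some
  have hrange : ∀ ξ, Set.range (ū ξ) ⊆ Set.range (U₁ ξ).ι := by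
    intro ξ
    rw [Scheme.Opens.range_ι]
    rintro _ ⟨a, rfl⟩
    rw [Subsingleton.elim a default]
    exact hmem ξ
  let ū' : ∀ ξ, Spec (CommRingCat.of Ω) ⟶ (U₁ ξ).toScheme := fun ξ =>
    IsOpenImmersion.lift (U₁ ξ).ι (ū ξ) (hrange ξ)
  have hū' : ∀ ξ, ū' ξ ≫ (U₁ ξ).ι = ū ξ := fun ξ => IsOpenImmersion.lift_fac _ _ _
  have hū'g : ∀ ξ, ū' ξ ≫ ((U₁ ξ).ι ≫ (U ξ).hom) = ξ.1 := fun ξ => by
    rw [← Category.assoc, hū', hū]
  haveI : ∀ ξ, IsAffine (U₁ ξ).toScheme := fun ξ => hU₁ ξ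
  obtain ⟨hF, V, v, hv, H⟩ := exists_decomp_affine η f hfin (fun ξ => (C ξ).P)
    (fun ξ => evPt (ū' ξ) (C ξ).x)
    (fun ξ => by
      have h2 := congrArg (evPt (ū' ξ)) (C ξ).hf
      rw [map_zero, hom_eval₂, ← evPt_comp, hū'g] at h2
      exact h2)
    (fun ξ => by
      have h2 := (C ξ).hg.map (evPt (ū' ξ))
      rw [hom_eval₂, ← evPt_comp, hū'g] at h2
      exact h2)
  refine ⟨hF, V, v, hv, ?_⟩
  intro Z p q hpq
  obtain ⟨e, x, y, hidem, horth, hsum, hf, hg, hpt⟩ := H Z p q hpq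
  letI := hF
  refine ⟨fun c => Z.basicOpen (e c), ?_, ?_, ?_⟩
  · intro c c' hcc
    exact basicOpen_disjoint_of_mul_eq_zero _ _ (horth c c' hcc)
  · exact iSup_basicOpen_eq_top e hsum
  · intro c
    obtain ⟨h', hh', hpts⟩ := exists_hom_of_root (Ω := Ω) (X := X) ((U₁ c).ι ≫ (U c).hom) (C c) q
      (e c) (x c) (y c) (hidem c) (hf c) (hg c)
    refine ⟨h' ≫ (U₁ c).ι, ?_, ?_⟩
    · rw [Category.assoc]
      exact hh'
    · intro z hzp hzq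
      obtain ⟨h1, h2⟩ := hpt c z hzp hzq
      obtain ⟨w, hw1, hw2⟩ := hpts z (ū' c) (by rw [h1]; exact one_ne_zero)
        (by rw [hū'g, hzq]) h2.symm
      exact ⟨w, hw1, by rw [← Category.assoc, hw2, hū']⟩

end Geom

end Groth.Agent.Helper1.FP
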