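import Mathlib
import Groth.Agent.Lib.Helper1.FP3

/-!
# Étale local structure of finite morphisms: general base
-/

set_option autoImplicit false
open CategoryTheory CategoryTheory.Limits AlgebraicGeometry Opposite
universe u

namespace Groth.Agent.Helper1.FP

/-- the structure morphism of an object of the small étale site, with its target displayed -/
abbrev homX {X : Scheme.{u}} (U : X.Etale) : U.left ⟶ X := U.hom

/-- **Étale local structure of a finite morphism.** For a finite morphism `f : X ⟶ Y`, a geometric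
point `η` of `Y` with algebraically closed field, and an étale neighbourhood `(U ξ, ū ξ)` of every
lift `ξ` of `η` to `X`: there are finitely many lifts, and there is an étale neighbourhood `(V, v)`
of `η` such that for every commutative square `Z → V`, `Z → X` over `Y`, the scheme `Z` is a disjoint
union of opens `W ξ`, each mapping to `U ξ` over `X`, compatibly with the points. -/
theorem exists_decomp_geom {Ω : Type u} [Field Ω] [IsAlgClosed Ω] {X Y : Scheme.{u}}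
    (f : X ⟶ Y) [IsFinite f] (η : Spec (CommRingCat.of Ω) ⟶ Y)
    (U : {ξ : Spec (CommRingCat.of Ω) ⟶ X // ξ ≫ f = η} → X.Etale)
    (ū : ∀ ξ : {ξ : Spec (CommRingCat.of Ω) ⟶ X // ξ ≫ f = η},
      Spec (CommRingCat.of Ω) ⟶ (U ξ).left)
    (hū : ∀ ξ, ū ξ ≫ (U ξ).hom = ξ.1) :
    ∃ (_ : Fintype {ξ : Spec (CommRingCat.of Ω) ⟶ X // ξ ≫ f = η}) (V : Y.Etale)
      (v : Spec (CommRingCat.of Ω) ⟶ V.left) (_ : v ≫ V.hom = η),
      ∀ (Z : Scheme.{u}) (p : Z ⟶ V.left) (q : Z ⟶ X), p ≫ V.hom = q ≫ f →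
        ∃ W : {ξ : Spec (CommRingCat.of Ω) ⟶ X // ξ ≫ f = η} → Z.Opens,
          (∀ c c', c ≠ c' → Disjoint (W c) (W c')) ∧ (⨆ c, W c) = ⊤ ∧
          ∀ c, ∃ h : (W c).toScheme ⟶ (U c).left, h ≫ (U c).hom = (W c).ι ≫ q ∧
            ∀ z : Spec (CommRingCat.of Ω) ⟶ Z, z ≫ p = v → z ≫ q = c.1 →
              ∃ w : Spec (CommRingCat.of Ω) ⟶ (W c).toScheme,
                w ≫ (W c).ι = z ∧ w ≫ h = ū c := by
  obtain ⟨R', j, hj, hmem, -⟩ := Scheme.exists_affine_mem_range_and_range_subset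
    (x := η default) (U := ⊤) (by trivial)
  have hrange : Set.range η ⊆ Set.range j := by
    rintro _ ⟨a, rfl⟩
    rwa [Subsingleton.elim a default]
  let η₀ : Spec (CommRingCat.of Ω) ⟶ Spec R' := IsOpenImmersion.lift j η hrange
  have hη₀ : η₀ ≫ j = η := IsOpenImmersion.lift_fac _ _ _
  let f₀ : pullback f j ⟶ Spec R' := pullback.snd f j
  let j' : pullback f j ⟶ X := pullback.fst f j
  have hcond : j' ≫ f = f₀ ≫ j := pullback.condition
  let E : {ξ₀ : Spec (CommRingCat.of Ω) ⟶ pullback f j // ξ₀ ≫ f₀ = η₀} ≃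
      {ξ : Spec (CommRingCat.of Ω) ⟶ X // ξ ≫ f = η} :=
    { toFun := fun ξ₀ => ⟨ξ₀.1 ≫ j', by
        rw [Category.assoc, hcond, ← Category.assoc, ξ₀.2, hη₀]⟩
      invFun := fun ξ => ⟨pullback.lift ξ.1 η₀ (by rw [ξ.2, hη₀]), pullback.lift_snd _ _ _⟩
      left_inv := fun ξ₀ => by
        apply Subtype.ext
        apply pullback.hom_ext
        · exact pullback.lift_fst _ _ _
        · rw [pullback.lift_snd]
          exact ξ₀.2.symm
      right_inv := fun ξ => by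
        apply Subtype.ext
        exact pullback.lift_fst _ _ _ }
  have hE : ∀ ξ₀, (E ξ₀).1 = ξ₀.1 ≫ j' := fun ξ₀ => rfl
  let U₀ : {ξ₀ : Spec (CommRingCat.of Ω) ⟶ pullback f j // ξ₀ ≫ f₀ = η₀} →
      (pullback f j).Etale := fun ξ₀ =>
    haveI : Etale (homX (U (E ξ₀))) := (U (E ξ₀)).prop
    Scheme.Etale.mk (pullback.snd (homX (U (E ξ₀))) j')
  let ū₀ : ∀ ξ₀, Spec (CommRingCat.of Ω) ⟶ (U₀ ξ₀).left := fun ξ₀ =>
    pullback.lift (ū (E ξ₀)) ξ₀.1 (hū (E ξ₀))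
  obtain ⟨hF₀, V₀, v₀, hv₀, H₀⟩ := exists_decomp_affine_geom f₀ η₀ U₀ ū₀
    (fun ξ₀ => pullback.lift_snd _ _ _)
  letI := hF₀
  haveI : Etale (homX V₀) := V₀.prop
  refine ⟨Fintype.ofEquiv _ E, Scheme.Etale.mk (homX V₀ ≫ j), v₀, ?_, ?_⟩
  · show v₀ ≫ V₀.hom ≫ j = η
    rw [← Category.assoc, hv₀, hη₀]
  intro Z p q hpq
  let p₀ : Z ⟶ V₀.left := p
  have hpq' : q ≫ f = (p₀ ≫ homX V₀) ≫ j := by
    rw [Category.assoc]
    exact hpq.symm
  let q₀ : Z ⟶ pullback f j := pullback.lift q (p₀ ≫ homX V₀) hpq'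
  have hq₀1 : q₀ ≫ j' = q := pullback.lift_fst _ _ _
  have hq₀2 : q₀ ≫ f₀ = p₀ ≫ homX V₀ := pullback.lift_snd _ _ _
  obtain ⟨W₀, hdis, hcov, hW₀⟩ := H₀ Z p₀ q₀ hq₀2.symm
  refine ⟨fun c => W₀ (E.symm c), ?_, ?_, ?_⟩
  · intro c c' hcc
    exact hdis _ _ (fun h => hcc (E.symm.injective h))
  · rw [← hcov]
    exact E.symm.iSup_comp (g := W₀)
  · intro c
    obtain ⟨c₀, rfl⟩ := E.surjective c
    show ∃ h : (W₀ (E.symm (E c₀))).toScheme ⟶ (U (E c₀)).left,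
      h ≫ (U (E c₀)).hom = (W₀ (E.symm (E c₀))).ι ≫ q ∧
      ∀ z : Spec (CommRingCat.of Ω) ⟶ Z, z ≫ p = v₀ → z ≫ q = (E c₀).1 →
        ∃ w : Spec (CommRingCat.of Ω) ⟶ (W₀ (E.symm (E c₀))).toScheme,
          w ≫ (W₀ (E.symm (E c₀))).ι = z ∧ w ≫ h = ū (E c₀)
    rw [E.symm_apply_apply]
    obtain ⟨h₀, hh₀, hpts⟩ := hW₀ c₀
    let h₀' : (W₀ c₀).toScheme ⟶ pullback (homX (U (E c₀))) j' := h₀
    refine ⟨h₀' ≫ pullback.fst (homX (U (E c₀))) j', ?_, ?_⟩
    · have h2 : h₀' ≫ pullback.snd (homX (U (E c₀))) j' = (W₀ c₀).ι ≫ q₀ := hh₀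
      show (h₀' ≫ pullback.fst (homX (U (E c₀))) j') ≫ homX (U (E c₀)) = (W₀ c₀).ι ≫ q
      have hc : pullback.fst (homX (U (E c₀))) j' ≫ homX (U (E c₀)) =
          pullback.snd (homX (U (E c₀))) j' ≫ j' := pullback.condition
      rw [Category.assoc, hc, ← Category.assoc, h2, Category.assoc, hq₀1]
    · intro z hzp hzq
      have hz : z ≫ q₀ = c₀.1 := by
        apply pullback.hom_ext
        · rw [Category.assoc]
          show z ≫ q₀ ≫ j' = c₀.1 ≫ j'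
          rw [hq₀1]
          exact hzq
        · rw [Category.assoc]
          show z ≫ q₀ ≫ f₀ = c₀.1 ≫ f₀
          have hv₀' : v₀ ≫ homX V₀ = η₀ := hv₀
          have hzp' : z ≫ p₀ = v₀ := hzp
          rw [hq₀2, ← Category.assoc, hzp', hv₀']
          exact c₀.2.symm
      obtain ⟨w, hw1, hw2⟩ := hpts z hzp hz
      refine ⟨w, hw1, ?_⟩
      have hw2' : w ≫ h₀' = pullback.lift (ū (E c₀)) c₀.1 (hū (E c₀)) := hw2
      rw [← Category.assoc, hw2']
      exact pullback.lift_fst _ _ _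

end Groth.Agent.Helper1.FP
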