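import Mathlib
import Groth.Prelude.Def_EtCore
import Groth.Agent.Lib.Helper26.EtSecPt1

/-!
# Sections = stalk at the geometric closed point over a strictly henselian local ring (helper1)
-/

set_option autoImplicit false
set_option linter.unusedSectionVars false
set_option linter.style.haveILetI false

open CategoryTheory CategoryTheory.Limits AlgebraicGeometry Opposite

namespace Groth.Agent.Helper1.SHC

universe u v

/-- A section of an étale morphism is an open immersion. -/
theorem isOpenImmersion_of_section {X Z : Scheme.{u}} (s : X ⟶ Z) (e : Z ⟶ X) [Etale e]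
    (h : s ≫ e = 𝟙 X) : IsOpenImmersion s := by
  haveI : Etale (s ≫ e) := by rw [h]; infer_instance
  haveI : Etale s := MorphismProperty.of_postcomp (W := @Etale) (W' := @Etale) s e ‹_› ‹_›
  haveI : Mono (s ≫ e) := by rw [h]; infer_instance
  haveI : Mono s := mono_of_mono s e
  exact IsOpenImmersion.of_flat_of_mono s

section

variable (R : Type u) [CommRing R] [HenselianLocalRing R]
  [IsSepClosed (IsLocalRing.ResidueField R)]

/-- the geometric closed point -/
noncomputable abbrev sR : Spec (CommRingCat.of (IsLocalRing.ResidueField R)) ⟶ Spec (CommRingCat.of R) :=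
  Spec.map (CommRingCat.ofHom (IsLocalRing.residue R))

theorem exists_section_fiber (Y : (Spec (CommRingCat.of R)).Etale)
    (x₀ : (Scheme.pointSmallEtale (sR R)).fiber.obj (EtCoh.top (Spec (CommRingCat.of R))))
    (y : (Scheme.pointSmallEtale (sR R)).fiber.obj Y) :
    ∃ σ : EtCoh.top (Spec (CommRingCat.of R)) ⟶ Y,
      (Scheme.pointSmallEtale (sR R)).fiber.map σ x₀ = y := by
  let xl : Spec (CommRingCat.of (IsLocalRing.ResidueField R)) ⟶ Spec (CommRingCat.of R) := x₀.left
  let yl : Spec (CommRingCat.of (IsLocalRing.ResidueField R)) ⟶ Y.left := y.left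
  have hx₀ : xl = sR R := by
    have h := Over.w x₀
    exact (Category.comp_id xl).symm.trans h
  have hy : yl ≫ Y.hom = sR R := Over.w y
  let pt : Spec (CommRingCat.of (IsLocalRing.ResidueField R)) := default
  have hpt : Y.hom.base (yl.base pt) = IsLocalRing.closedPoint R := by
    have h1 : Y.hom.base (yl.base pt) = (yl ≫ Y.hom).base pt := rfl
    rw [h1, hy]
    exact Groth.Agent.Helper26.EtSecPt.residue_base R pt
  haveI : Etale Y.hom := Y.prop
  obtain ⟨u, hu1, hu2⟩ := Groth.Agent.Helper26.EtSecPt.exists_section_through R Y.left Y.hom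
    (yl.base pt) hpt
  haveI : IsOpenImmersion u := isOpenImmersion_of_section u Y.hom hu1
  have hrange : Set.range yl.base ⊆ Set.range u.base := by
    rintro _ ⟨a, rfl⟩
    obtain rfl : a = pt := Subsingleton.elim _ _
    exact ⟨_, hu2⟩
  have hl : IsOpenImmersion.lift u yl hrange ≫ u = yl := IsOpenImmersion.lift_fac _ _ _
  have hl2 : IsOpenImmersion.lift u yl hrange = sR R := by
    calc IsOpenImmersion.lift u yl hrange
        = IsOpenImmersion.lift u yl hrange ≫ (u ≫ Y.hom) := by rw [hu1, Category.comp_id]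
      _ = (IsOpenImmersion.lift u yl hrange ≫ u) ≫ Y.hom := (Category.assoc _ _ _).symm
      _ = yl ≫ Y.hom := by rw [hl]
      _ = sR R := hy
  have hsu : sR R ≫ u = yl := by rw [← hl2, hl]
  have hV : u ≫ Y.hom = (EtCoh.top (Spec (CommRingCat.of R))).hom := hu1
  refine ⟨MorphismProperty.Over.homMk u hV trivial, ?_⟩
  apply Over.OverMorphism.ext
  have : xl ≫ u = yl := by rw [hx₀, hsu]
  exact this

theorem preservesFilteredColimits_forget :
    PreservesFilteredColimitsOfSize.{u, u} (forget AddCommGrpCat.{u + 1}) :=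
  preservesFilteredColimitsOfSize_shrink.{u, u + 1, u, u + 1} _

theorem bijective_toPresheafFiber (F : EtCoh.Ab (Spec (CommRingCat.of R)))
    (x₀ : (Scheme.pointSmallEtale (sR R)).fiber.obj (EtCoh.top (Spec (CommRingCat.of R)))) :
    Function.Bijective ((Scheme.pointSmallEtale (sR R)).toPresheafFiber
        (EtCoh.top (Spec (CommRingCat.of R))) x₀ F.obj) := by
  haveI := preservesFilteredColimits_forget.{u}
  constructor
  · intro z₁ z₂ h
    obtain ⟨Y, f, y, hy, hz⟩ :=
      ((Scheme.pointSmallEtale (sR R)).toPresheafFiber_eq_iff' _ x₀ z₁ z₂).1 h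
    obtain ⟨σ, -⟩ := exists_section_fiber R Y x₀ y
    have hσ : σ ≫ f = 𝟙 _ := (EtCore.topIsTerminal _).hom_ext _ _
    have h1 : ∀ z : ToType (F.obj.obj (op (EtCoh.top (Spec (CommRingCat.of R))))),
        F.obj.map σ.op (F.obj.map f.op z) = z := by
      intro z
      rw [← ConcreteCategory.comp_apply, ← F.obj.map_comp, ← op_comp, hσ, op_id, F.obj.map_id]
      rfl
    rw [← h1 z₁, hz, h1 z₂]
  · intro p
    obtain ⟨Y, y, z, rfl⟩ := (Scheme.pointSmallEtale (sR R)).toPresheafFiber_jointly_surjective p
    obtain ⟨σ, hσ⟩ := exists_section_fiber R Y x₀ y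
    refine ⟨F.obj.map σ.op z, ?_⟩
    rw [← hσ]
    exact (Scheme.pointSmallEtale (sR R)).toPresheafFiber_w_apply σ x₀ F.obj z

end

end Groth.Agent.Helper1.SHC
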