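import Mathlib
import Groth.Prelude.Def_EtCore
import Groth.Agent.Lib.Helper1.SHC2

/-!
# Stalks of pushforward along a closed immersion outside the closed subscheme (helper1)
-/

set_option autoImplicit false
set_option linter.unusedSectionVars false
set_option linter.style.haveILetI false

open CategoryTheory CategoryTheory.Limits AlgebraicGeometry Opposite

namespace Groth.Agent.Helper1.SHC

universe u

/-- the empty sieve covers an étale scheme with empty underlying space -/
theorem bot_mem_of_isEmpty {Z : Scheme.{u}} (V : Z.Etale) [IsEmpty V.left] :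
    (⊥ : Sieve V) ∈ Z.smallEtaleTopology V := by
  have eZ : Z.smallEtaleTopology =
      (Z.smallPretopology (P := EtCoh.etaleMP) (Q := EtCoh.etaleMP)).toGrothendieck :=
    Scheme.smallGrothendieckTopology_eq_toGrothendieck_smallPretopology Z le_rfl
  rw [eZ]
  refine (Scheme.mem_toGrothendieck_smallPretopology V _).2 ?_
  intro x
  exact isEmptyElim x

theorem subsingleton_sections_of_isEmpty {Z : Scheme.{u}} (G : EtCoh.Ab Z) (V : Z.Etale)
    [IsEmpty V.left] : Subsingleton (G.obj.obj (op V)) := by
  have hT := Sheaf.isTerminalOfBotCover G V (bot_mem_of_isEmpty V)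
  have hZ : IsZero (G.obj.obj (op V)) :=
    (isZero_zero _).of_iso (hT.uniqueUpToIso HasZeroObject.zeroIsTerminal)
  exact AddCommGrpCat.subsingleton_of_isZero hZ

set_option backward.isDefEq.respectTransparency.types false in
theorem isZero_stalk_push {Z X : Scheme.{u}} (i : Z ⟶ X) [IsClosedImmersion i]
    (G : EtCoh.Ab Z) {Ω : Type u} [Field Ω] [IsSepClosed Ω] (ξ : Spec (CommRingCat.of Ω) ⟶ X)
    (hξ : Disjoint (Set.range ξ.base) (Set.range i.base)) :
    IsZero ((EtCoh.stalk ξ).obj ((EtCoh.push i).obj G)) := by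
  haveI := preservesFilteredColimits_forget.{u}
  suffices h : ∀ p : ToType ((Scheme.pointSmallEtale ξ).presheafFiber.obj
      ((EtCoh.push i).obj G).obj), p = 0 by
    haveI : Subsingleton (ToType ((Scheme.pointSmallEtale ξ).presheafFiber.obj
      ((EtCoh.push i).obj G).obj)) := ⟨fun a b => (h a).trans (h b).symm⟩
    exact AddCommGrpCat.isZero_of_subsingleton
      ((Scheme.pointSmallEtale ξ).presheafFiber.obj ((EtCoh.push i).obj G).obj)
  intro p
  obtain ⟨U, y, z, rfl⟩ := (Scheme.pointSmallEtale ξ).toPresheafFiber_jointly_surjective p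
  let O : X.Opens := ⟨(Set.range i.base)ᶜ, i.isClosedEmbedding.isClosed_range.isOpen_compl⟩
  let W : U.left.Opens := U.hom ⁻¹ᵁ O
  let U' : X.Etale := Scheme.Etale.mk (W.ι ≫ U.hom)
  let f : U' ⟶ U := MorphismProperty.Over.homMk W.ι rfl trivial
  let yl : Spec (CommRingCat.of Ω) ⟶ U.left := y.left
  have hy : yl ≫ U.hom = ξ := Over.w y
  have hrange : Set.range yl.base ⊆ Set.range W.ι.base := by
    rintro _ ⟨a, rfl⟩
    rw [Scheme.Opens.range_ι]
    change U.hom.base (yl.base a) ∈ (Set.range i.base)ᶜ
    have h1 : U.hom.base (yl.base a) = ξ.base a := by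
      rw [← hy]; rfl
    rw [h1]
    exact Set.disjoint_left.1 hξ ⟨a, rfl⟩
  let l : Spec (CommRingCat.of Ω) ⟶ W.toScheme := IsOpenImmersion.lift W.ι yl hrange
  have hl : l ≫ W.ι = yl := IsOpenImmersion.lift_fac _ _ _
  have hl' : l ≫ U'.hom = ξ := by
    change l ≫ (W.ι ≫ U.hom) = ξ
    rw [← Category.assoc, hl, hy]
  let y' : (Scheme.pointSmallEtale ξ).fiber.obj U' := Over.homMk l hl'
  have hy' : (Scheme.pointSmallEtale ξ).fiber.map f y' = y := by
    apply Over.OverMorphism.ext
    exact hl
  haveI : IsEmpty ((EtCoh.bc i).obj U').left := by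
    constructor
    intro t
    let a : U'.left := (pullback.fst U'.hom i : ((EtCoh.bc i).obj U').left ⟶ U'.left).base t
    let b : Z := (pullback.snd U'.hom i : ((EtCoh.bc i).obj U').left ⟶ Z).base t
    have hab : U'.hom.base a = i.base b := by
      have h2 := congrArg (fun φ => φ.base t) (pullback.condition (f := U'.hom) (g := i))
      exact h2
    have ha : U.hom.base (W.ι.base a) ∈ (Set.range i.base)ᶜ := a.2
    exact ha ⟨b, hab.symm⟩
  haveI := subsingleton_sections_of_isEmpty G ((EtCoh.bc i).obj U')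
  rw [← hy', ← (Scheme.pointSmallEtale ξ).toPresheafFiber_w_apply f y' _ z]
  have hz : ((EtCoh.push i).obj G).obj.map f.op z = 0 :=
    Subsingleton.elim (α := G.obj.obj (op ((EtCoh.bc i).obj U'))) _ _
  rw [hz, map_zero]

end Groth.Agent.Helper1.SHC
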