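import Mathlib
import Groth.Prelude.Def_EtCore
import Groth.Agent.Lib.Helper1.SHC2

/-!
# Sections = stalk at the geometric closed point, for presheaves with values in a concrete
category (helper1)
-/

set_option autoImplicit false
set_option linter.unusedSectionVars false
set_option linter.style.haveILetI false

open CategoryTheory CategoryTheory.Limits AlgebraicGeometry Opposite

namespace Groth.Agent.Helper1.SHC

universe u v' u' w'

section

variable (R : Type u) [CommRing R] [HenselianLocalRing R]
  [IsSepClosed (IsLocalRing.ResidueField R)]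
  {A : Type u'} [Category.{v'} A] [HasColimitsOfSize.{u, u} A]
  {FC : A → A → Type*} {CC : A → Type w'}
  [∀ (X Y : A), FunLike (FC X Y) (CC X) (CC Y)]
  [ConcreteCategory.{w'} A FC]
  [PreservesFilteredColimitsOfSize.{u, u} (forget A)]

theorem bijective_toPresheafFiber_gen (P : (Spec (CommRingCat.of R)).Etaleᵒᵖ ⥤ A)
    (x₀ : (Scheme.pointSmallEtale (sR R)).fiber.obj (EtCoh.top (Spec (CommRingCat.of R)))) :
    Function.Bijective ((Scheme.pointSmallEtale (sR R)).toPresheafFiber
        (EtCoh.top (Spec (CommRingCat.of R))) x₀ P) := by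
  constructor
  · intro z₁ z₂ h
    obtain ⟨Y, f, y, hy, hz⟩ :=
      ((Scheme.pointSmallEtale (sR R)).toPresheafFiber_eq_iff' _ x₀ z₁ z₂).1 h
    obtain ⟨σ, -⟩ := exists_section_fiber R Y x₀ y
    have hσ : σ ≫ f = 𝟙 _ := (EtCore.topIsTerminal _).hom_ext _ _
    have h1 : ∀ z : ToType (P.obj (op (EtCoh.top (Spec (CommRingCat.of R))))),
        P.map σ.op (P.map f.op z) = z := by
      intro z
      rw [← ConcreteCategory.comp_apply, ← P.map_comp, ← op_comp, hσ, op_id, P.map_id,
        ConcreteCategory.id_apply]
    rw [← h1 z₁, hz, h1 z₂]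
  · intro p
    obtain ⟨Y, y, z, rfl⟩ := (Scheme.pointSmallEtale (sR R)).toPresheafFiber_jointly_surjective p
    obtain ⟨σ, hσ⟩ := exists_section_fiber R Y x₀ y
    refine ⟨P.map σ.op z, ?_⟩
    rw [← hσ]
    exact (Scheme.pointSmallEtale (sR R)).toPresheafFiber_w_apply σ x₀ P z

end

theorem preservesFilteredColimits_forget_type :
    PreservesFilteredColimitsOfSize.{u, u} (forget (Type (u + 1))) := by
  change PreservesFilteredColimitsOfSize.{u, u} (𝟭 (Type (u + 1)))
  infer_instance

end Groth.Agent.Helper1.SHC
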