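import Mathlib
import Groth.Prelude.Def_EtCore
import Groth.Agent.Lib.Helper1.SHC4

/-!
# Geometric stalks detect locally injective / locally surjective morphisms (helper1)
-/

set_option autoImplicit false
set_option linter.unusedSectionVars false
set_option linter.style.haveILetI false

open CategoryTheory CategoryTheory.Limits AlgebraicGeometry Opposite

namespace Groth.Agent.Helper1.SHC

universe u v' u' w'

/-- a geometric point through a given point of an étale scheme -/
theorem exists_geom_point {X : Scheme.{u}} (U : X.Etale) (x : U.left) :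
    ∃ (Ω : Type u) (_ : Field Ω) (_ : IsSepClosed Ω) (ξ : Spec (CommRingCat.of Ω) ⟶ X)
      (y : (Scheme.pointSmallEtale ξ).fiber.obj U),
      (y.left : Spec (CommRingCat.of Ω) ⟶ U.left).base (default : Spec (CommRingCat.of Ω)) = x := by
  let κ : Type u := U.left.residueField x
  let Ω : Type u := SeparableClosure κ
  let t : Spec (CommRingCat.of Ω) ⟶ U.left :=
    Spec.map (CommRingCat.ofHom (algebraMap κ Ω)) ≫ U.left.fromSpecResidueField x
  have ht : t.base (default : Spec (CommRingCat.of Ω)) = x := by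
    change (U.left.fromSpecResidueField x).base _ = x
    exact Scheme.fromSpecResidueField_apply _ _
  let ξ : Spec (CommRingCat.of Ω) ⟶ X := t ≫ U.hom
  let y : (Scheme.pointSmallEtale ξ).fiber.obj U :=
    (Over.homMk t rfl : Over.mk ξ ⟶ (Scheme.Etale.forget X).obj U)
  refine ⟨Ω, (inferInstance : Field (SeparableClosure κ)),
    (inferInstance : IsSepClosed (SeparableClosure κ)), ξ, y, ?_⟩
  exact ht

/-- pointwise criterion for covering sieves of the small étale site -/
theorem mem_of_pointwise {X : Scheme.{u}} (U : X.Etale) (S : Sieve U)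
    (h : ∀ x : U.left, ∃ (V : X.Etale) (g : V ⟶ U) (v : V.left), S g ∧ g.left.base v = x) :
    S ∈ X.smallEtaleTopology U := by
  have eX : X.smallEtaleTopology =
      (X.smallPretopology (P := EtCoh.etaleMP) (Q := EtCoh.etaleMP)).toGrothendieck :=
    Scheme.smallGrothendieckTopology_eq_toGrothendieck_smallPretopology X le_rfl
  rw [eX]
  refine (Scheme.mem_toGrothendieck_smallPretopology U S).2 ?_
  intro x
  obtain ⟨V, g, v, hg, hv⟩ := h x
  exact ⟨V, g, v, hg, (inferInstance : Etale g.left), hv⟩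

section

variable {X : Scheme.{u}}
  {A : Type u'} [Category.{v'} A] [HasColimitsOfSize.{u, u} A]
  {FC : A → A → Type*} {CC : A → Type w'}
  [∀ (X Y : A), FunLike (FC X Y) (CC X) (CC Y)]
  [ConcreteCategory.{w'} A FC]
  [PreservesFilteredColimitsOfSize.{u, u} (forget A)]

theorem isLocallyInjective_of_stalks {P Q : X.Etaleᵒᵖ ⥤ A} (f : P ⟶ Q)
    (h : ∀ (Ω : Type u) [Field Ω] [IsSepClosed Ω] (ξ : Spec (CommRingCat.of Ω) ⟶ X),
      Function.Injective ((Scheme.pointSmallEtale ξ).presheafFiber.map f)) :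
    Presheaf.IsLocallyInjective X.smallEtaleTopology f := by
  constructor
  intro U s t hst
  apply mem_of_pointwise
  intro x
  obtain ⟨Ω, _, _, ξ, y, hy⟩ := exists_geom_point U.unop x
  have h1 : (Scheme.pointSmallEtale ξ).toPresheafFiber U.unop y P s =
      (Scheme.pointSmallEtale ξ).toPresheafFiber U.unop y P t := by
    apply h Ω ξ
    rw [(Scheme.pointSmallEtale ξ).toPresheafFiber_naturality_apply,
      (Scheme.pointSmallEtale ξ).toPresheafFiber_naturality_apply]
    exact congrArg _ hst
  obtain ⟨V, g, v, hv, hg⟩ := ((Scheme.pointSmallEtale ξ).toPresheafFiber_eq_iff' _ y s t).1 h1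
  refine ⟨V, g, (v.left : Spec (CommRingCat.of Ω) ⟶ V.left).base (default : Spec (CommRingCat.of Ω)), hg, ?_⟩
  rw [← hy, ← hv]
  rfl

theorem isLocallySurjective_of_stalks {P Q : X.Etaleᵒᵖ ⥤ A} (f : P ⟶ Q)
    (h : ∀ (Ω : Type u) [Field Ω] [IsSepClosed Ω] (ξ : Spec (CommRingCat.of Ω) ⟶ X),
      Function.Surjective ((Scheme.pointSmallEtale ξ).presheafFiber.map f)) :
    Presheaf.IsLocallySurjective X.smallEtaleTopology f := by
  constructor
  intro U t
  apply mem_of_pointwise
  intro x
  obtain ⟨Ω, _, _, ξ, y, hy⟩ := exists_geom_point U x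
  obtain ⟨p, hp⟩ := h Ω ξ ((Scheme.pointSmallEtale ξ).toPresheafFiber U y Q t)
  obtain ⟨V, v, s, rfl⟩ := (Scheme.pointSmallEtale ξ).toPresheafFiber_jointly_surjective p
  rw [(Scheme.pointSmallEtale ξ).toPresheafFiber_naturality_apply] at hp
  let a : (Scheme.pointSmallEtale ξ).fiber.Elements := ⟨V, v⟩
  let b : (Scheme.pointSmallEtale ξ).fiber.Elements := ⟨U, y⟩
  let c := IsCofiltered.min a b
  let g₁ : c ⟶ a := IsCofiltered.minToLeft a b
  let g₂ : c ⟶ b := IsCofiltered.minToRight a b
  have e₁ : (Scheme.pointSmallEtale ξ).fiber.map g₁.val c.2 = v := g₁.property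
  have e₂ : (Scheme.pointSmallEtale ξ).fiber.map g₂.val c.2 = y := g₂.property
  have hp' : (Scheme.pointSmallEtale ξ).toPresheafFiber c.1 c.2 Q
        (Q.map g₁.val.op (f.app (op V) s)) =
      (Scheme.pointSmallEtale ξ).toPresheafFiber c.1 c.2 Q (Q.map g₂.val.op t) := by
    rw [(Scheme.pointSmallEtale ξ).toPresheafFiber_w_apply,
      (Scheme.pointSmallEtale ξ).toPresheafFiber_w_apply, e₁, e₂]
    exact hp
  obtain ⟨W', k, w', hw', hk⟩ :=
    ((Scheme.pointSmallEtale ξ).toPresheafFiber_eq_iff' _ c.2 _ _).1 hp'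
  refine ⟨W', k ≫ g₂.val, (w'.left : Spec (CommRingCat.of Ω) ⟶ W'.left).base (default : Spec (CommRingCat.of Ω)),
    ⟨P.map (k ≫ g₁.val).op s, ?_⟩, ?_⟩
  · rw [NatTrans.naturality_apply]
    rw [op_comp, Q.map_comp, ConcreteCategory.comp_apply, hk, ← ConcreteCategory.comp_apply,
      ← Q.map_comp, ← op_comp]
  · have hcomp : (Scheme.pointSmallEtale ξ).fiber.map (k ≫ g₂.val) w' = y := by
      rw [Functor.map_comp_apply]
      exact (congrArg ((Scheme.pointSmallEtale ξ).fiber.map g₂.val) hw').trans e₂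
    exact (congrArg (fun z : (Scheme.pointSmallEtale ξ).fiber.obj U =>
      (z.left : Spec (CommRingCat.of Ω) ⟶ U.left).base (default : Spec (CommRingCat.of Ω)))
        hcomp).trans hy

end

end Groth.Agent.Helper1.SHC
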