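import Mathlib
import Groth.Agent.Lib.Helper26.EtSecPt1

/-!
# Zariski-local sections of étale morphisms at points with strictly henselian local ring
-/

universe u
set_option linter.unusedSectionVars false
set_option linter.style.haveILetI false
open CategoryTheory CategoryTheory.Limits AlgebraicGeometry TopologicalSpace Opposite

namespace Groth.Agent.Helper1.SZ

/-- A morphism from the spectrum of a local ring lands in any open containing the image of the
closed point. -/
lemma range_subset_of_closedPoint_mem {R : CommRingCat.{u}} [IsLocalRing R] {U : Scheme.{u}}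
    (ρ : Spec R ⟶ U) (U' : U.Opens) (h : ρ.base (IsLocalRing.closedPoint R) ∈ U') :
    Set.range ρ.base ⊆ Set.range U'.ι.base := by
  have h1 : (ρ ⁻¹ᵁ U') = ⊤ := (IsLocalRing.closedPoint_mem_iff (R := R) (ρ ⁻¹ᵁ U')).1 h
  rintro _ ⟨y, rfl⟩
  have h2 : y ∈ ρ ⁻¹ᵁ U' := by rw [h1]; trivial
  rw [Scheme.Opens.range_ι]
  exact h2

theorem exists_zariski_section {S U : Scheme.{u}} [IsAffine S] (j : U ⟶ S) [Etale j] (u : U)
    (s : S) (hs : j.base u = s) [HenselianLocalRing (S.presheaf.stalk s)]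
    [IsSepClosed (IsLocalRing.ResidueField (S.presheaf.stalk s))] :
    ∃ (V : S.Opens) (σ : V.toScheme ⟶ U), s ∈ V ∧ σ ≫ j = V.ι := by
  classical
  -- Step 1: a section over `Spec (S.presheaf.stalk s)`
  obtain ⟨p, hp1, hp2⟩ := Scheme.Pullback.exists_preimage_pullback (f := j)
    (g := S.fromSpecStalk s) u (IsLocalRing.closedPoint (S.presheaf.stalk s))
    (by rw [Scheme.fromSpecStalk_closedPoint]; exact hs)
  have key := @Groth.Agent.Helper26.EtSecPt.exists_section_through (S.presheaf.stalk s) _ _ _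
  obtain ⟨τ, hτ1, hτ2⟩ := key
    (pullback j (S.fromSpecStalk s)) (pullback.snd j (S.fromSpecStalk s)) p hp2
  let ρ : Spec (S.presheaf.stalk s) ⟶ U := τ ≫ pullback.fst j (S.fromSpecStalk s)
  have hρj : ρ ≫ j = S.fromSpecStalk s := by
    show (τ ≫ pullback.fst j (S.fromSpecStalk s)) ≫ j = _
    rw [Category.assoc, pullback.condition, ← Category.assoc]
    exact (congrArg (fun z => z ≫ S.fromSpecStalk s) hτ1).trans (Category.id_comp _)
  have hρu : ρ.base (IsLocalRing.closedPoint (S.presheaf.stalk s)) = u := by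
    show (τ ≫ pullback.fst j (S.fromSpecStalk s)).base (IsLocalRing.closedPoint (S.presheaf.stalk s)) = u
    rw [Scheme.Hom.comp_base, TopCat.comp_app, hτ2, hp1]
  -- Step 2: affine opens
  obtain ⟨U', hU', huU'⟩ : ∃ U' : U.Opens, IsAffineOpen U' ∧ u ∈ U' := by
    obtain ⟨_, ⟨U', hU', rfl⟩, huU', -⟩ :=
      U.isBasis_affineOpens.exists_subset_of_mem_open (Set.mem_univ u) isOpen_univ
    exact ⟨U', hU', huU'⟩
  have htop : IsAffineOpen (⊤ : S.Opens) := isAffineOpen_top S
  have e : U' ≤ j ⁻¹ᵁ ⊤ := by simp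
  let φ : Γ(S, ⊤) ⟶ Γ(U, U') := j.appLE ⊤ U' e
  have hφ : φ.hom.FinitePresentation :=
    (HasRingHomProperty.appLE (P := @Etale) j inferInstance ⟨⊤, htop⟩ ⟨U', hU'⟩ e).finitePresentation
  -- Step 3: `ρ` factors through `U'`
  have hrange : Set.range ρ.base ⊆ Set.range U'.ι.base :=
    range_subset_of_closedPoint_mem ρ U' (by rw [hρu]; exact huU')
  let ρ' : Spec (S.presheaf.stalk s) ⟶ U'.toScheme := IsOpenImmersion.lift U'.ι ρ hrange
  have hρ' : ρ' ≫ U'.ι = ρ := IsOpenImmersion.lift_fac _ _ _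
  let β : Γ(U, U') ⟶ (S.presheaf.stalk s) := Spec.preimage (ρ' ≫ hU'.isoSpec.hom)
  have hβ : Spec.map β = ρ' ≫ hU'.isoSpec.hom := Spec.map_preimage _
  have hβ2 : Spec.map β ≫ hU'.fromSpec = ρ := by
    rw [hβ, ← hU'.isoSpec_inv_ι, Category.assoc, Iso.hom_inv_id_assoc, hρ']
  -- Step 4: compatibility with the germ map
  let γ : Γ(S, ⊤) ⟶ (S.presheaf.stalk s) := S.presheaf.germ ⊤ s trivial
  have hγ : φ ≫ β = γ := by
    apply Spec.map_injective
    rw [← cancel_mono htop.fromSpec, Spec.map_comp, Category.assoc,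
      IsAffineOpen.SpecMap_appLE_fromSpec j htop hU' e, ← Category.assoc, hβ2, hρj]
    exact (htop.fromSpecStalk_eq_fromSpecStalk (x := s) trivial).symm
  -- Step 5: the finite presentation argument
  let F : (OpenNhds s)ᵒᵖ ⥤ CommRingCat.{u} := (OpenNhds.inclusion s).op ⋙ S.presheaf
  let α : (Functor.const (OpenNhds s)ᵒᵖ).obj Γ(S, ⊤) ⟶ F :=
    { app := fun i => S.presheaf.map (homOfLE (le_top : i.unop.1 ≤ ⊤)).op
      naturality := fun i k f => by
        simp only [Functor.const_obj_obj, Functor.const_obj_map, Category.id_comp]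
        refine Eq.trans ?_ (S.presheaf.map_comp _ _)
        exact congrArg S.presheaf.map (Quiver.Hom.unop_inj (Subsingleton.elim _ _)) }
  have hg : ∀ i : (OpenNhds s)ᵒᵖ, φ ≫ β = α.app i ≫ (colimit.cocone F).ι.app i := by
    intro i
    rw [hγ]
    exact (S.presheaf.germ_res (homOfLE (le_top : i.unop.1 ≤ ⊤)) s i.unop.2).symm
  obtain ⟨i, g', hg'1, -⟩ := RingHom.EssFiniteType.exists_eq_comp_ι_app_of_isColimit
    Γ(S, ⊤) F α φ (colimit.cocone F) (colimit.isColimit F) hφ β hg
  -- Step 6: the section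
  let V : S.Opens := i.unop.1
  have hsV : s ∈ V := i.unop.2
  let ψ : Γ(U, U') ⟶ Γ(V.toScheme, ⊤) := g' ≫ V.topIso.inv
  have hψ : φ ≫ ψ = V.ι.appTop := by
    show φ ≫ g' ≫ V.topIso.inv = _
    rw [← Category.assoc, hg'1, Scheme.Opens.ι_appTop]
    show S.presheaf.map _ ≫ S.presheaf.map _ = _
    rw [← S.presheaf.map_comp]
    rfl
  refine ⟨V, V.toScheme.toSpecΓ ≫ Spec.map ψ ≫ hU'.fromSpec, hsV, ?_⟩
  rw [Category.assoc, Category.assoc, ← IsAffineOpen.SpecMap_appLE_fromSpec j htop hU' e,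
    ← Category.assoc (Spec.map ψ), ← Spec.map_comp, hψ, IsAffineOpen.fromSpec_top,
    ← Category.assoc, ← Scheme.toSpecΓ_naturality, Category.assoc, ← Scheme.isoSpec_hom,
    Iso.hom_inv_id, Category.comp_id]

end Groth.Agent.Helper1.SZ
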