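import Mathlib
import Groth.Prelude.Def_EtCore
import Groth.Prelude.Def_EtZar
import Groth.Agent.Lib.Helper1.SZ1
import Groth.Agent.Lib.Helper1.SHC5

/-!
# Zero-dimensional affine schemes with separably closed residue fields: preliminaries
-/

universe u
set_option linter.unusedSectionVars false
set_option linter.style.haveILetI false
open CategoryTheory CategoryTheory.Limits AlgebraicGeometry TopologicalSpace Opposite

namespace Groth.Agent.Helper1.SZ

/-- a local ring whose maximal ideal consists of nilpotent elements is henselian -/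
theorem henselian_of_nil (R : Type*) [CommRing R] [IsLocalRing R]
    (h : ∀ r ∈ IsLocalRing.maximalIdeal R, IsNilpotent r) : HenselianLocalRing R where
  is_henselian f _ a₀ h₁ h₂ := by
    have hn : IsNilpotent (Polynomial.aeval a₀ f) := by
      rw [Polynomial.coe_aeval_eq_eval]; exact h _ h₁
    have hu : IsUnit (Polynomial.aeval a₀ (Polynomial.derivative f)) := by
      rw [Polynomial.coe_aeval_eq_eval]; exact h₂
    obtain ⟨r, ⟨hr1, hr2⟩, -⟩ := Polynomial.existsUnique_nilpotent_sub_and_aeval_eq_zero hn hu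
    refine ⟨r, ?_, ?_⟩
    · rw [Polynomial.coe_aeval_eq_eval] at hr2
      exact hr2
    · have h3 : IsNilpotent (r - a₀) := by
        rw [← neg_sub]
        exact hr1.neg
      exact nilradical_le_prime (IsLocalRing.maximalIdeal R) (mem_nilradical.2 h3)

/-- the local rings of a `T1` scheme have nil maximal ideal -/
theorem isNilpotent_of_mem_maximalIdeal_stalk {S : Scheme.{u}} [T1Space S] (x : S)
    (r : S.presheaf.stalk x) (hr : r ∈ IsLocalRing.maximalIdeal (S.presheaf.stalk x)) :
    IsNilpotent r := by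
  have hsub : ∀ a b : PrimeSpectrum (S.presheaf.stalk x), a = b := by
    intro a b
    have hinj : Function.Injective (S.fromSpecStalk x) := (S.fromSpecStalk x).isEmbedding.injective
    apply hinj
    have ha : (S.fromSpecStalk x) a ⤳ x := by
      have h : (S.fromSpecStalk x) a ∈ Set.range (S.fromSpecStalk x) := ⟨a, rfl⟩
      rw [Scheme.range_fromSpecStalk] at h
      exact h
    have hb : (S.fromSpecStalk x) b ⤳ x := by
      have h : (S.fromSpecStalk x) b ∈ Set.range (S.fromSpecStalk x) := ⟨b, rfl⟩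
      rw [Scheme.range_fromSpecStalk] at h
      exact h
    rw [ha.eq, hb.eq]
  rw [← mem_nilradical, nilradical_eq_sInf, Ideal.mem_sInf]
  intro J hJ
  have h1 : (⟨J, hJ⟩ : PrimeSpectrum (S.presheaf.stalk x)) =
      IsLocalRing.closedPoint (S.presheaf.stalk x) := hsub _ _
  have hJm : J = IsLocalRing.maximalIdeal (S.presheaf.stalk x) :=
    congrArg PrimeSpectrum.asIdeal h1
  rw [hJm]
  exact hr

theorem henselian_stalk {S : Scheme.{u}} [T1Space S] (x : S) :
    HenselianLocalRing (S.presheaf.stalk x) :=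
  henselian_of_nil _ (isNilpotent_of_mem_maximalIdeal_stalk x)

/-- basic opens of a `T1` affine scheme are closed -/
theorem isClosed_basicOpen {S : Scheme.{u}} [IsAffine S] [T1Space S] (f : Γ(S, ⊤)) :
    IsClosed ((S.basicOpen f : S.Opens) : Set S) := by
  haveI : T1Space (PrimeSpectrum Γ(S, ⊤)) :=
    (Scheme.homeoOfIso S.isoSpec).symm.isEmbedding.t1Space
  have h1 : IsClosed ((PrimeSpectrum.basicOpen f : Opens (PrimeSpectrum Γ(S, ⊤))) :
      Set (PrimeSpectrum Γ(S, ⊤))) := by
    apply PrimeSpectrum.isClosed_of_stableUnderSpecialization_of_isConstructible _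
      PrimeSpectrum.isConstructible_basicOpen
    intro a b hab ha
    rwa [← hab.eq]
  have h2 : ((S.basicOpen f : S.Opens) : Set S) =
      S.toSpecΓ ⁻¹' ((PrimeSpectrum.basicOpen f : Opens (PrimeSpectrum Γ(S, ⊤))) :
        Set (PrimeSpectrum Γ(S, ⊤))) := by
    rw [← Scheme.toSpecΓ_preimage_basicOpen]
    rfl
  rw [h2]
  exact h1.preimage S.toSpecΓ.continuous

/-- clopen neighbourhoods -/
theorem exists_clopen_nhd {S : Scheme.{u}} [IsAffine S] [T1Space S] (x : S) (V : S.Opens)
    (hx : x ∈ V) : ∃ W : S.Opens, IsClosed (W : Set S) ∧ x ∈ W ∧ W ≤ V := by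
  obtain ⟨_, ⟨f, rfl⟩, hxf, hfV⟩ := Opens.isBasis_iff_nbhd.1 (isBasis_basicOpen S) hx
  exact ⟨S.basicOpen f, isClosed_basicOpen f, hxf, hfV⟩

lemma projective_int : Projective (AddCommGrpCat.of (ULift.{u + 1} ℤ)) := by
  refine ⟨fun {E X} f e he => ?_⟩
  rw [AddCommGrpCat.epi_iff_surjective] at he
  obtain ⟨t, ht⟩ := he (f.hom (ULift.up 1))
  let φ : ULift.{u + 1} ℤ →+ E :=
    (zmultiplesHom E t).comp (AddEquiv.ulift (α := ℤ)).toAddMonoidHom
  refine ⟨AddCommGrpCat.ofHom φ, ?_⟩
  apply AddCommGrpCat.hom_ext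
  apply AddMonoidHom.ext
  intro n
  obtain ⟨n⟩ := n
  show e.hom (n • t) = f.hom ⟨n⟩
  rw [map_zsmul, ht, ← map_zsmul]
  congr 1
  apply ULift.ext
  simp

/-- if global sections preserve epimorphisms then higher cohomology vanishes -/
theorem subsingleton_H_of_sections_surjective {X : Scheme.{u}}
    (h : ∀ {F G : EtCoh.Ab X} (e : F ⟶ G) [Epi e] (g : G.obj.obj (op (EtCoh.top X))),
      ∃ t : F.obj.obj (op (EtCoh.top X)), e.hom.app (op (EtCoh.top X)) t = g)
    (F : EtCoh.Ab X) (i : ℕ) (hi : 1 ≤ i) : Subsingleton (EtCoh.H X F i) := by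
  let adj := constantSheafAdj X.smallEtaleTopology AddCommGrpCat.{u + 1} (EtCore.topIsTerminal X)
  haveI : ((sheafSections X.smallEtaleTopology AddCommGrpCat.{u + 1}).obj
      (op (EtCoh.top X))).PreservesEpimorphisms :=
    ⟨fun {F G} e _ => (AddCommGrpCat.epi_iff_surjective _).2 (fun g => h e g)⟩
  haveI : Projective ((constantSheaf X.smallEtaleTopology AddCommGrpCat.{u + 1}).obj
      (AddCommGrpCat.of (ULift.{u + 1} ℤ))) :=
    adj.map_projective _ projective_int
  obtain ⟨k, rfl⟩ : ∃ k, i = k + 1 := ⟨i - 1, by omega⟩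
  exact ⟨fun a b => (Abelian.Ext.eq_zero_of_projective a).trans
    (Abelian.Ext.eq_zero_of_projective b).symm⟩

/-- converse of `SHC.mem_of_pointwise` -/
theorem pointwise_of_mem {X : Scheme.{u}} (U : X.Etale) (R : Sieve U)
    (h : R ∈ X.smallEtaleTopology U) (x : U.left) :
    ∃ (V : X.Etale) (g : V ⟶ U) (v : V.left), R g ∧ g.left.base v = x := by
  have eX : X.smallEtaleTopology =
      (X.smallPretopology (P := EtCoh.etaleMP) (Q := EtCoh.etaleMP)).toGrothendieck :=
    Scheme.smallGrothendieckTopology_eq_toGrothendieck_smallPretopology X le_rfl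
  rw [eX] at h
  obtain ⟨V, g, v, hg, -, hv⟩ := (Scheme.mem_toGrothendieck_smallPretopology U R).1 h x
  exact ⟨V, g, v, hg, hv⟩

end Groth.Agent.Helper1.SZ
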