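import Mathlib
import Groth.Prelude.Def_EtCore
import Groth.Prelude.Def_EtZar
import Groth.Agent.Lib.Helper1.SZ2
import Groth.Agent.Lib.Helper1.SHC3
import Groth.Agent.Lib.Helper1.SHC5

/-!
# Vanishing of étale cohomology on zero-dimensional affine schemes with separably closed
residue fields (S0088)
-/

universe u
set_option linter.unusedSectionVars false
set_option linter.style.haveILetI false
open CategoryTheory CategoryTheory.Limits AlgebraicGeometry TopologicalSpace Opposite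

namespace Groth.Agent.Helper1.SZ

variable {S : Scheme.{u}}

/-- the étale object attached to an open -/
noncomputable abbrev oE (W : S.Opens) : S.Etale := (EtZar.zarToEt S).obj W

/-- the morphism attached to an inclusion of opens -/
noncomputable abbrev oM {W W' : S.Opens} (h : W ≤ W') : oE W ⟶ oE W' :=
  (EtZar.zarToEt S).map (homOfLE h)

/-- the map to the terminal object -/
noncomputable abbrev oT (W : S.Opens) : oE W ⟶ EtCoh.top S := (EtCore.topIsTerminal S).from _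

lemma oM_oT {W W' : S.Opens} (h : W ≤ W') : oM h ≫ oT W' = oT W :=
  (EtCore.topIsTerminal S).hom_ext _ _

instance mono_oM {W W' : S.Opens} (h : W ≤ W') : Mono (oM h) := by
  refine ⟨fun {T} a b hab => ?_⟩
  apply MorphismProperty.Over.Hom.ext
  have h1 : a.left ≫ S.homOfLE h = b.left ≫ S.homOfLE h := congrArg (fun m => m.left) hab
  exact (cancel_mono (S.homOfLE h)).1 h1

lemma isEmpty_of_eq_bot (W : S.Opens) (h : W = ⊥) : IsEmpty (oE W).left := by
  subst h
  refine ⟨fun z => ?_⟩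
  have hz : (⊥ : S.Opens).ι.base z ∈ (((⊥ : S.Opens)) : Set S) := by
    rw [← Scheme.Opens.range_ι]
    exact ⟨z, rfl⟩
  exact hz

/-- the two-member family covering `W1 ⊔ W2` -/
noncomputable def fam (W1 W2 : S.Opens) (b : Bool) : S.Etale := oE (cond b W1 W2)

lemma cond_le (W1 W2 : S.Opens) (b : Bool) : cond b W1 W2 ≤ W1 ⊔ W2 := by
  cases b
  · exact le_sup_right
  · exact le_sup_left

noncomputable def famπ (W1 W2 : S.Opens) (b : Bool) : fam W1 W2 b ⟶ oE (W1 ⊔ W2) :=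
  oM (cond_le W1 W2 b)

instance mono_famπ (W1 W2 : S.Opens) (b : Bool) : Mono (famπ W1 W2 b) :=
  mono_oM (cond_le W1 W2 b)

lemma exists_preimage_of_mem {W W' : S.Opens} (h : W ≤ W') (z : (oE W').left)
    (hz : W'.ι.base z ∈ (W : Set S)) : ∃ v : (oE W).left, (oM h).left.base v = z := by
  rw [← Scheme.Opens.range_ι] at hz
  obtain ⟨v, hv⟩ := hz
  refine ⟨v, ?_⟩
  apply W'.ι.isOpenEmbedding.injective
  rw [← hv]
  have h1 : (S.homOfLE h ≫ W'.ι).base v = W.ι.base v := by rw [S.homOfLE_ι]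
  exact h1

lemma fam_cover (W1 W2 : S.Opens) :
    Sieve.generate (Presieve.ofArrows (fam W1 W2) (famπ W1 W2)) ∈
      S.smallEtaleTopology (oE (W1 ⊔ W2)) := by
  apply SHC.mem_of_pointwise
  intro z
  have hz : (W1 ⊔ W2).ι.base z ∈ ((W1 ⊔ W2 : S.Opens) : Set S) := by
    rw [← Scheme.Opens.range_ι]
    exact ⟨z, rfl⟩
  rw [Opens.coe_sup] at hz
  rcases hz with h | h
  · obtain ⟨v, hv⟩ := exists_preimage_of_mem (le_sup_left : W1 ≤ W1 ⊔ W2) z h
    exact ⟨fam W1 W2 true, famπ W1 W2 true, v,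
      ⟨_, 𝟙 _, famπ W1 W2 true, Presieve.ofArrows.mk true, Category.id_comp _⟩, hv⟩
  · obtain ⟨v, hv⟩ := exists_preimage_of_mem (le_sup_right : W2 ≤ W1 ⊔ W2) z h
    exact ⟨fam W1 W2 false, famπ W1 W2 false, v,
      ⟨_, 𝟙 _, famπ W1 W2 false, Presieve.ofArrows.mk false, Category.id_comp _⟩, hv⟩

lemma presieve_isSheaf (F : EtCoh.Ab S) :
    Presieve.IsSheaf S.smallEtaleTopology (F.obj ⋙ forget AddCommGrpCat.{u + 1}) :=
  (isSheaf_iff_isSheaf_of_type _ _).1
    ((Presheaf.isSheaf_iff_isSheaf_forget _ F.obj (forget _)).1 F.2)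

lemma mem_of_hom {T : S.Etale} {W : S.Opens} (a : T ⟶ oE W) (z : T.left) :
    T.hom.base z ∈ (W : Set S) := by
  rw [← MorphismProperty.Over.w a, ← Scheme.Opens.range_ι]
  exact ⟨a.left.base z, rfl⟩

lemma fam_compat (F : EtCoh.Ab S) (W1 W2 : S.Opens) (hd : W1 ⊓ W2 = ⊥)
    (x : ∀ b, (F.obj ⋙ forget AddCommGrpCat.{u + 1}).obj (op (fam W1 W2 b))) :
    Presieve.Arrows.Compatible (F.obj ⋙ forget AddCommGrpCat.{u + 1}) (famπ W1 W2) x := by
  intro b b' T a a' haa'
  by_cases hbb : b = b'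
  · subst hbb
    have : a = a' := (cancel_mono (famπ W1 W2 b)).1 haa'
    rw [this]
  · haveI : IsEmpty T.left := by
      refine ⟨fun z => ?_⟩
      have h1 : T.hom.base z ∈ ((cond b W1 W2 : S.Opens) : Set S) := mem_of_hom a z
      have h2 : T.hom.base z ∈ ((cond b' W1 W2 : S.Opens) : Set S) := mem_of_hom a' z
      have h3 : T.hom.base z ∈ ((W1 : Set S) ∩ (W2 : Set S)) := by
        cases b <;> cases b'
        · exact absurd rfl hbb
        · exact ⟨h2, h1⟩
        · exact ⟨h1, h2⟩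
        · exact absurd rfl hbb
      have h4 : T.hom.base z ∈ ((W1 ⊓ W2 : S.Opens) : Set S) := h3
      rw [hd] at h4
      exact h4
    haveI := SHC.subsingleton_sections_of_isEmpty F T
    exact Subsingleton.elim (α := F.obj.obj (op T)) _ _

theorem glue (F : EtCoh.Ab S) (W1 W2 : S.Opens) (hd : W1 ⊓ W2 = ⊥)
    (t1 : F.obj.obj (op (oE W1))) (t2 : F.obj.obj (op (oE W2))) :
    ∃ t : F.obj.obj (op (oE (W1 ⊔ W2))),
      F.obj.map (oM (le_sup_left : W1 ≤ W1 ⊔ W2)).op t = t1 ∧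
      F.obj.map (oM (le_sup_right : W2 ≤ W1 ⊔ W2)).op t = t2 := by
  have hSF := (Presieve.isSheafFor_iff_generate _).2 (presieve_isSheaf F _ (fam_cover W1 W2))
  rw [Presieve.isSheafFor_arrows_iff] at hSF
  let x : ∀ b, (F.obj ⋙ forget AddCommGrpCat.{u + 1}).obj (op (fam W1 W2 b)) := fun b =>
    match b with
    | true => t1
    | false => t2
  obtain ⟨t, ht, -⟩ := hSF x (fam_compat F W1 W2 hd x)
  exact ⟨t, ht true, ht false⟩

theorem sep (G : EtCoh.Ab S) (W1 W2 : S.Opens) (a b : G.obj.obj (op (oE (W1 ⊔ W2))))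
    (h1 : G.obj.map (oM (le_sup_left : W1 ≤ W1 ⊔ W2)).op a =
      G.obj.map (oM (le_sup_left : W1 ≤ W1 ⊔ W2)).op b)
    (h2 : G.obj.map (oM (le_sup_right : W2 ≤ W1 ⊔ W2)).op a =
      G.obj.map (oM (le_sup_right : W2 ≤ W1 ⊔ W2)).op b) : a = b := by
  have hSF := (Presieve.isSheafFor_iff_generate _).2 (presieve_isSheaf G _ (fam_cover W1 W2))
  refine hSF.isSeparatedFor.ext ?_
  rintro Y f ⟨i⟩
  cases i
  · exact h2
  · exact h1

section Lift

variable {F G : EtCoh.Ab S} (e : F ⟶ G) (g : G.obj.obj (op (EtCoh.top S)))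

/-- `g` restricted to `W` lifts to `F` -/
def Lifts (W : S.Opens) : Prop :=
  ∃ t : F.obj.obj (op (oE W)), e.hom.app (op (oE W)) t = G.obj.map (oT W).op g

lemma map_map {A B C : S.Etale} (a : A ⟶ B) (b : B ⟶ C) (y : G.obj.obj (op C)) :
    G.obj.map a.op (G.obj.map b.op y) = G.obj.map (a ≫ b).op y := by
  rw [op_comp, G.obj.map_comp]
  rfl

variable {e g}

lemma Lifts.mono {W W' : S.Opens} (h : W' ≤ W) (hl : Lifts e g W) : Lifts e g W' := by
  obtain ⟨t, ht⟩ := hl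
  refine ⟨F.obj.map (oM h).op t, ?_⟩
  rw [NatTrans.naturality_apply e.hom (oM h).op t, ht, map_map, oM_oT]

lemma Lifts.sup {W1 W2 : S.Opens} (hd : W1 ⊓ W2 = ⊥) (h1 : Lifts e g W1) (h2 : Lifts e g W2) :
    Lifts e g (W1 ⊔ W2) := by
  obtain ⟨t1, ht1⟩ := h1
  obtain ⟨t2, ht2⟩ := h2
  obtain ⟨t, hta, htb⟩ := glue F W1 W2 hd t1 t2
  refine ⟨t, sep G W1 W2 _ _ ?_ ?_⟩
  · rw [← NatTrans.naturality_apply e.hom (oM le_sup_left).op t, hta, ht1, map_map, oM_oT]
  · rw [← NatTrans.naturality_apply e.hom (oM le_sup_right).op t, htb, ht2, map_map, oM_oT]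

variable (e g)

lemma lifts_of_eq_bot (W : S.Opens) (h : W = ⊥) : Lifts e g W := by
  haveI := isEmpty_of_eq_bot W h
  haveI := SHC.subsingleton_sections_of_isEmpty G (oE W)
  exact ⟨0, Subsingleton.elim (α := G.obj.obj (op (oE W))) _ _⟩

/-- hereditary lifting -/
def QQ (W : S.Opens) : Prop :=
  ∀ W' : S.Opens, IsClosed (W' : Set S) → W' ≤ W → Lifts e g W'

def PP (T : Set S) : Prop :=
  ∃ W : S.Opens, IsClosed (W : Set S) ∧ T ⊆ (W : Set S) ∧ QQ e g W

lemma QQ_sup {Wa Wb : S.Opens} (hac : IsClosed (Wa : Set S)) (hQa : QQ e g Wa)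
    (hQb : QQ e g Wb) : QQ e g (Wa ⊔ Wb) := by
  intro W' hW'c hW'
  let Wac : S.Opens := ⟨(Wa : Set S)ᶜ, hac.isOpen_compl⟩
  have hW1c : IsClosed ((W' ⊓ Wa : S.Opens) : Set S) := hW'c.inter hac
  have hW2c : IsClosed ((W' ⊓ Wac : S.Opens) : Set S) := hW'c.inter Wa.isOpen.isClosed_compl
  have hW2b : W' ⊓ Wac ≤ Wb := by
    intro z hz
    have hz1 : z ∈ ((Wa ⊔ Wb : S.Opens) : Set S) := hW' hz.1
    rw [Opens.coe_sup] at hz1
    rcases hz1 with h | h
    · exact absurd h hz.2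
    · exact h
  have hdis : (W' ⊓ Wa) ⊓ (W' ⊓ Wac) = ⊥ := by
    apply Opens.ext
    ext z
    constructor
    · rintro ⟨⟨_, ha⟩, ⟨_, hna⟩⟩
      exact absurd ha hna
    · intro h
      simp at h
  have hsup : (W' ⊓ Wa) ⊔ (W' ⊓ Wac) = W' := by
    apply Opens.ext
    ext z
    rw [Opens.coe_sup]
    constructor
    · rintro (h | h)
      · exact h.1
      · exact h.1
    · intro h
      by_cases ha : z ∈ (Wa : Set S)
      · exact Or.inl ⟨h, ha⟩
      · exact Or.inr ⟨h, ha⟩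
  have := Lifts.sup hdis (hQa _ hW1c inf_le_right) (hQb _ hW2c hW2b)
  rw [hsup] at this
  exact this

end Lift

theorem exists_lift [IsAffine S] (h1 : ∀ s : S, IsClosed ({s} : Set S))
    (h2 : ∀ s : S, IsSepClosed (S.residueField s)) {F G : EtCoh.Ab S} (e : F ⟶ G) [Epi e]
    (g : G.obj.obj (op (EtCoh.top S))) :
    ∃ t : F.obj.obj (op (EtCoh.top S)), e.hom.app (op (EtCoh.top S)) t = g := by
  haveI : T1Space S := ⟨h1⟩
  haveI := SHC.preservesFilteredColimits_forget.{u}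
  haveI hls : Sheaf.IsLocallySurjective e :=
    (Sheaf.isLocallySurjective_iff_epi' _ e).2 inferInstance
  -- local lifts
  have hloc : ∀ x : S, ∃ V0 : S.Opens, x ∈ V0 ∧ Lifts e g V0 := by
    intro x
    have hmem := hls.imageSieve_mem g
    obtain ⟨V, f, v, hf, hv⟩ := pointwise_of_mem _ _ hmem x
    obtain ⟨t, ht⟩ := hf
    haveI : Etale V.hom := V.prop
    haveI := henselian_stalk (S := S) x
    haveI : IsSepClosed (IsLocalRing.ResidueField (S.presheaf.stalk x)) := h2 x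
    let jV : V.left ⟶ S := V.hom
    haveI : Etale jV := V.prop
    have hw : f.left = jV := by
      have hw' : f.left ≫ 𝟙 S = V.hom := MorphismProperty.Over.w f
      exact (Category.comp_id f.left).symm.trans hw'
    have hVx : jV.base v = x := by
      rw [← hw]
      exact hv
    obtain ⟨V0, σ, hxV0, hσ⟩ := exists_zariski_section jV v x hVx
    let m : oE V0 ⟶ V := MorphismProperty.Over.homMk σ hσ trivial
    refine ⟨V0, hxV0, F.obj.map m.op t, ?_⟩
    rw [NatTrans.naturality_apply e.hom m.op t, ht, map_map]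
    have hm : m ≫ f = oT V0 := (EtCore.topIsTerminal S).hom_ext _ _
    rw [hm]
  -- compactness
  have hp : PP e g Set.univ := by
    refine isCompact_univ.induction_on (p := PP e g) ?_ ?_ ?_ ?_
    · refine ⟨⊥, by simp, by simp, ?_⟩
      intro W' _ hW'
      exact lifts_of_eq_bot e g W' (le_bot_iff.1 hW')
    · rintro T1 T2 h12 ⟨W, hWc, hT, hQ⟩
      exact ⟨W, hWc, h12.trans hT, hQ⟩
    · rintro T1 T2 ⟨Wa, hac, hTa, hQa⟩ ⟨Wb, hbc, hTb, hQb⟩
      refine ⟨Wa ⊔ Wb, ?_, ?_, QQ_sup e g hac hQa hQb⟩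
      · rw [Opens.coe_sup]
        exact hac.union hbc
      · rw [Opens.coe_sup]
        exact Set.union_subset_union hTa hTb
    · intro x _
      obtain ⟨V0, hxV0, hl⟩ := hloc x
      obtain ⟨W, hWc, hxW, hWV⟩ := exists_clopen_nhd x V0 hxV0
      refine ⟨(W : Set S), mem_nhdsWithin_of_mem_nhds (W.isOpen.mem_nhds hxW),
        W, hWc, subset_rfl, ?_⟩
      intro W' _ hW'
      exact hl.mono (hW'.trans hWV)
  obtain ⟨W, hWc, hT, hQ⟩ := hp
  have hWtop : (⊤ : S.Opens) ≤ W := fun z _ => hT (Set.mem_univ z)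
  obtain ⟨t, ht⟩ := hQ ⊤ (by simp) hWtop
  -- transfer to the terminal object
  let b : EtCoh.top S ⟶ oE (⊤ : S.Opens) :=
    MorphismProperty.Over.homMk S.topIso.inv
      (show S.topIso.inv ≫ (⊤ : S.Opens).ι = 𝟙 S by
        rw [← Scheme.topIso_hom]; exact Iso.inv_hom_id _) trivial
  refine ⟨F.obj.map b.op t, ?_⟩
  rw [NatTrans.naturality_apply e.hom b.op t, ht, map_map]
  have hb : b ≫ oT ⊤ = 𝟙 _ := (EtCore.topIsTerminal S).hom_ext _ _
  rw [hb, op_id, G.obj.map_id]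
  rfl

theorem main0088 (S : Scheme.{u}) [IsAffine S] (h1 : ∀ s : S, IsClosed ({s} : Set S))
    (h2 : ∀ s : S, IsSepClosed (S.residueField s)) (F : EtCoh.Ab S) (i : ℕ) (hi : 1 ≤ i) :
    Subsingleton (EtCoh.H S F i) :=
  subsingleton_H_of_sections_surjective (fun e _ g => exists_lift h1 h2 e g) F i hi

end Groth.Agent.Helper1.SZ
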