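import Mathlib
import Groth.Agent.Lib.Helper1.FP4
import Groth.Agent.Lib.Helper1.SZ3

/-!
# Direct image along a finite morphism is exact (étale topology)
-/

set_option autoImplicit false
set_option linter.unusedSectionVars false
set_option linter.style.haveILetI false
open CategoryTheory CategoryTheory.Limits AlgebraicGeometry Opposite
universe u

namespace Groth.Agent.Helper1.FP

/-- a geometric point with algebraically closed field over any point of a scheme -/
theorem exists_geomPoint {V : Scheme.{u}} (y : V) :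
    ∃ (Ω : Type u) (_ : Field Ω) (_ : IsAlgClosed Ω) (η : Spec (CommRingCat.of Ω) ⟶ V),
      η default = y := by
  refine ⟨AlgebraicClosure (V.residueField y), inferInstance, inferInstance,
    Spec.map (CommRingCat.ofHom (algebraMap (V.residueField y)
      (AlgebraicClosure (V.residueField y)))) ≫ V.fromSpecResidueField y, ?_⟩
  rw [Scheme.Hom.comp_apply]
  exact Scheme.fromSpecResidueField_apply _ _

theorem map_map' {X : Scheme.{u}} (G : EtCoh.Ab X) {A B C : X.Etale} (a : A ⟶ B) (b : B ⟶ C)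
    (y : G.obj.obj (op C)) :
    G.obj.map a.op (G.obj.map b.op y) = G.obj.map (a ≫ b).op y := by
  rw [op_comp, G.obj.map_comp]
  rfl

/-- **Refinement of coverings along a finite morphism.** -/
theorem exists_refinement_of_cover {X Y : Scheme.{u}} (f : X ⟶ Y) [IsFinite f] (V : Y.Etale)
    (R : Sieve ((EtCoh.bc f).obj V)) (hR : R ∈ X.smallEtaleTopology ((EtCoh.bc f).obj V))
    (y : V.left) :
    ∃ (V' : Y.Etale) (g : V' ⟶ V), (∃ v : V'.left, g.left.base v = y) ∧
      ∃ (ι : Type u) (_ : Finite ι) (W : ι → X.Etale) (w : ∀ a, W a ⟶ (EtCoh.bc f).obj V'),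
        (∀ a, Mono (w a).left) ∧
        (∀ a b, a ≠ b → ∀ (za : (W a).left) (zb : (W b).left),
          (w a).left.base za ≠ (w b).left.base zb) ∧
        (∀ x : ((EtCoh.bc f).obj V').left, ∃ (a : ι) (z : (W a).left), (w a).left.base z = x) ∧
        ∀ a, R (w a ≫ (EtCoh.bc f).map g) := by
  obtain ⟨Ω, hΩ1, hΩ2, η', hη'⟩ := exists_geomPoint y
  letI := hΩ1
  haveI := hΩ2
  let f' : ((EtCoh.bc f).obj V).left ⟶ V.left := (pullback.fst V.hom f : _)
  haveI : IsFinite f' := inferInstanceAs (IsFinite (pullback.fst V.hom f))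
  have hdata : ∀ ξ : {ξ : Spec (CommRingCat.of Ω) ⟶ ((EtCoh.bc f).obj V).left // ξ ≫ f' = η'},
      ∃ (U : X.Etale) (u : U ⟶ (EtCoh.bc f).obj V) (l : Spec (CommRingCat.of Ω) ⟶ U.left),
        R u ∧ l ≫ u.left = ξ.1 := by
    intro ξ
    obtain ⟨U, u, z, hu, hz⟩ := SZ.pointwise_of_mem _ R hR (ξ.1 default)
    obtain ⟨l, hl, -⟩ := Scheme.exists_fac_of_etale_of_isSepClosed u.left ξ.1 z hz
    exact ⟨U, u, l, hu, hl⟩
  choose U u l hu hl using hdata
  obtain ⟨hF, V₁, v₁, hv₁, H⟩ := exists_decomp_geom f' η'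
    (fun ξ => Scheme.Etale.mk (u ξ).left) l hl
  haveI : Etale (homX V₁) := V₁.prop
  haveI : Etale (homX V) := V.prop
  let V' : Y.Etale := Scheme.Etale.mk (homX V₁ ≫ homX V)
  let g : V' ⟶ V := MorphismProperty.Over.homMk (homX V₁) rfl trivial
  refine ⟨V', g, ⟨v₁ default, ?_⟩, ?_⟩
  · show (homX V₁) (v₁ default) = y
    rw [← hη', ← hv₁]
    rfl
  let p : ((EtCoh.bc f).obj V').left ⟶ V₁.left := (pullback.fst V'.hom f : _)
  let q : ((EtCoh.bc f).obj V').left ⟶ ((EtCoh.bc f).obj V).left := ((EtCoh.bc f).map g).left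
  have hpq : p ≫ homX V₁ = q ≫ f' := (EtCoh.isPullback_bc_map f g).w.symm
  obtain ⟨W, hdis, hcov, hW⟩ := H _ p q hpq
  choose h hh hpts using hW
  letI := hF
  haveI : Etale (homX ((EtCoh.bc f).obj V')) := ((EtCoh.bc f).obj V').prop
  let Wobj : {ξ : Spec (CommRingCat.of Ω) ⟶ ((EtCoh.bc f).obj V).left // ξ ≫ f' = η'} →
      X.Etale := fun c => Scheme.Etale.mk ((W c).ι ≫ homX ((EtCoh.bc f).obj V'))
  let w : ∀ c, Wobj c ⟶ (EtCoh.bc f).obj V' := fun c =>
    MorphismProperty.Over.homMk (W c).ι rfl trivial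
  refine ⟨_, Finite.of_fintype _, Wobj, w, ?_, ?_, ?_, ?_⟩
  · intro a
    show Mono (W a).ι
    infer_instance
  · intro a b hab za zb heq
    have ha : (W a).ι.base za ∈ W a := za.2
    have hb : (W a).ι.base za ∈ W b := by
      have heq' : (W a).ι.base za = (W b).ι.base zb := heq
      rw [heq']
      exact zb.2
    exact (hdis a b hab).le_bot ⟨ha, hb⟩
  · intro x
    have hx : x ∈ (⨆ c, W c) := by rw [hcov]; trivial
    obtain ⟨a, ha⟩ := TopologicalSpace.Opens.mem_iSup.1 hx
    exact ⟨a, ⟨x, ha⟩, rfl⟩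
  · intro c
    have hm : h c ≫ (U c).hom = (Wobj c).hom := by
      have e1 : (u c).left ≫ ((EtCoh.bc f).obj V).hom = (U c).hom :=
        MorphismProperty.Over.w (u c)
      have e2 : q ≫ ((EtCoh.bc f).obj V).hom = ((EtCoh.bc f).obj V').hom :=
        MorphismProperty.Over.w ((EtCoh.bc f).map g)
      have e3 : h c ≫ (u c).left = (W c).ι ≫ q := hh c
      calc h c ≫ (U c).hom = h c ≫ ((u c).left ≫ ((EtCoh.bc f).obj V).hom) :=
            congrArg (fun k => h c ≫ k) e1.symm
        _ = (h c ≫ (u c).left) ≫ ((EtCoh.bc f).obj V).hom := (Category.assoc _ _ _).symm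
        _ = ((W c).ι ≫ q) ≫ ((EtCoh.bc f).obj V).hom :=
            congrArg (fun k => k ≫ ((EtCoh.bc f).obj V).hom) e3
        _ = (W c).ι ≫ (q ≫ ((EtCoh.bc f).obj V).hom) := Category.assoc _ _ _
        _ = (W c).ι ≫ ((EtCoh.bc f).obj V').hom := congrArg (fun k => (W c).ι ≫ k) e2
        _ = (Wobj c).hom := rfl
    let m : Wobj c ⟶ U c := MorphismProperty.Over.homMk (h c) hm trivial
    have hfac : w c ≫ (EtCoh.bc f).map g = m ≫ u c :=
      MorphismProperty.Over.Hom.ext (hh c).symm
    rw [hfac]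
    exact R.downward_closed (hu c) m

/-- gluing local lifts along a decomposition into disjoint open pieces -/
theorem exists_glue {X : Scheme.{u}} {F G : EtCoh.Ab X} (e : F ⟶ G) {T : X.Etale} {ι : Type*}
    (W : ι → X.Etale) (w : ∀ a, W a ⟶ T) (hmono : ∀ a, Mono (w a).left)
    (hdisj : ∀ a b, a ≠ b → ∀ (za : (W a).left) (zb : (W b).left),
      (w a).left.base za ≠ (w b).left.base zb)
    (hsurj : ∀ x : T.left, ∃ (a : ι) (z : (W a).left), (w a).left.base z = x)
    (g : G.obj.obj (op T))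
    (hloc : ∀ a, ∃ l : F.obj.obj (op (W a)), e.hom.app (op (W a)) l = G.obj.map (w a).op g) :
    ∃ t : F.obj.obj (op T), e.hom.app (op T) t = g := by
  classical
  choose l hl using hloc
  have hcov : Sieve.generate (Presieve.ofArrows W w) ∈ X.smallEtaleTopology T := by
    apply SHC.mem_of_pointwise
    intro z
    obtain ⟨a, za, hza⟩ := hsurj z
    exact ⟨W a, w a, za, ⟨_, 𝟙 _, w a, Presieve.ofArrows.mk a, Category.id_comp _⟩, hza⟩
  have hcompat : ∀ (P : EtCoh.Ab X)
      (x : ∀ a, (P.obj ⋙ forget AddCommGrpCat.{u + 1}).obj (op (W a))),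
      Presieve.Arrows.Compatible (P.obj ⋙ forget AddCommGrpCat.{u + 1}) w x := by
    intro P x a b Z ga gb hab
    by_cases hab' : a = b
    · subst hab'
      have hgg : ga = gb := by
        apply MorphismProperty.Over.Hom.ext
        have h1 : ga.left ≫ (w a).left = gb.left ≫ (w a).left :=
          congrArg (fun m => m.left) hab
        haveI := hmono a
        exact (cancel_mono _).1 h1
      rw [hgg]
    · haveI : IsEmpty Z.left := by
        refine ⟨fun p => ?_⟩
        have h1 : (ga ≫ w a).left.base p = (gb ≫ w b).left.base p := by rw [hab]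
        exact hdisj a b hab' (ga.left.base p) (gb.left.base p) h1
      haveI := SHC.subsingleton_sections_of_isEmpty P Z
      exact Subsingleton.elim (α := P.obj.obj (op Z)) _ _
  have hSF := (Presieve.isSheafFor_iff_generate _).2 (SZ.presieve_isSheaf F _ hcov)
  rw [Presieve.isSheafFor_arrows_iff] at hSF
  obtain ⟨t, ht, -⟩ := hSF l (hcompat F l)
  refine ⟨t, ?_⟩
  have hSG := (Presieve.isSheafFor_iff_generate _).2 (SZ.presieve_isSheaf G _ hcov)
  refine hSG.isSeparatedFor.ext ?_
  rintro Y f ⟨a⟩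
  have h1 := NatTrans.naturality_apply e.hom (w a).op t
  have h2 : F.obj.map (w a).op t = l a := ht a
  show G.obj.map (w a).op (e.hom.app (op T) t) = G.obj.map (w a).op g
  rw [← h1, h2, hl a]

theorem epi_push_map_finite {X Y : Scheme.{u}} (f : X ⟶ Y) [IsFinite f] {F G : EtCoh.Ab X}
    (e : F ⟶ G) [Epi e] : Epi ((EtCoh.push f).map e) := by
  haveI := SHC.preservesFilteredColimits_forget.{u}
  haveI hls : Sheaf.IsLocallySurjective e :=
    (Sheaf.isLocallySurjective_iff_epi' _ e).2 inferInstance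
  refine (Sheaf.isLocallySurjective_iff_epi' _ ((EtCoh.push f).map e)).1 ?_
  refine ⟨fun {V} s => ?_⟩
  apply SHC.mem_of_pointwise
  intro y
  have hR := hls.imageSieve_mem (U := (EtCoh.bc f).obj V) s
  obtain ⟨V', g, ⟨v, hv⟩, ι, hι, W, w, hmono, hdisj, hsurj, hRw⟩ :=
    exists_refinement_of_cover f V _ hR y
  refine ⟨V', g, v, ?_, hv⟩
  have hloc : ∀ a, ∃ l : F.obj.obj (op (W a)), e.hom.app (op (W a)) l =
      G.obj.map (w a).op (G.obj.map ((EtCoh.bc f).map g).op s) := by
    intro a
    obtain ⟨l, hl⟩ := hRw a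
    refine ⟨l, ?_⟩
    rw [map_map']
    exact hl
  obtain ⟨t, ht⟩ := exists_glue e W w hmono hdisj hsurj _ hloc
  exact ⟨t, ht⟩

theorem preservesFiniteLimits_push' {X Y : Scheme.{u}} (j : X ⟶ Y) :
    PreservesFiniteLimits (EtCoh.push j) := by
  have : PreservesLimitsOfSize.{0, 0} (EtCoh.push j) :=
    (EtCoh.pullPushAdj j).rightAdjoint_preservesLimits
  exact PreservesLimitsOfSize.preservesFiniteLimits _

theorem preservesFiniteColimits_push_finite {X Y : Scheme.{u}} (f : X ⟶ Y) [IsFinite f] :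
    PreservesFiniteColimits (EtCoh.push f) := by
  haveI := preservesFiniteLimits_push' f
  rw [Functor.preservesFiniteColimits_iff_forall_exact_map_and_epi]
  intro S hS
  have h1 := (Functor.preservesFiniteLimits_iff_forall_exact_map_and_mono (EtCoh.push f)).1
    inferInstance S hS
  haveI := hS.epi_g
  exact ⟨h1.1, epi_push_map_finite f S.g⟩

/-- an exact functor has vanishing higher right derived functors. -/
theorem isZero_rightDerived_of_exact' {A B : Type*} [Category A] [Abelian A] [Category B]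
    [Abelian B] [HasInjectiveResolutions A] (F : A ⥤ B) [F.Additive] [PreservesFiniteLimits F]
    [PreservesFiniteColimits F] (n : ℕ) (X : A) : IsZero ((F.rightDerived (n + 1)).obj X) := by
  refine IsZero.of_iso ?_ ((injectiveResolution X).isoRightDerivedObj F (n + 1))
  refine (HomologicalComplex.exactAt_iff_isZero_homology _ _).1 ?_
  have h := (injectiveResolution X).cocomplex_exactAt_succ n
  exact ShortComplex.Exact.map h F

theorem isZero_Rpush_finite {X Y : Scheme.{u}} (f : X ⟶ Y) [IsFinite f] (F : EtCoh.Ab X)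
    (q : ℕ) (hq : 1 ≤ q) : IsZero ((EtCoh.Rpush f q).obj F) := by
  obtain ⟨n, rfl⟩ : ∃ n, q = n + 1 := ⟨q - 1, by omega⟩
  haveI := preservesFiniteLimits_push' f
  haveI := preservesFiniteColimits_push_finite f
  exact isZero_rightDerived_of_exact' (EtCoh.push f) n F

end Groth.Agent.Helper1.FP
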