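import Mathlib
import Groth.Agent.Lib.Helper1.FP5

/-!
# Finite morphisms: the two core statements behind the stalk formula for direct images
-/

set_option autoImplicit false
set_option linter.unusedSectionVars false
set_option linter.style.haveILetI false
open CategoryTheory CategoryTheory.Limits AlgebraicGeometry Opposite
universe u w

namespace Groth.Agent.Helper1.FP

open Groth.Agent.Helper1.ELR

section Lift

variable {X Y : Scheme.{u}} (f : X ⟶ Y) {Ω : Type u} [Field Ω] [IsSepClosed Ω]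
  (η : Spec (CommRingCat.of Ω) ⟶ Y)

/-- the lifts of a geometric point -/
abbrev Lifts := {ξ : Spec (CommRingCat.of Ω) ⟶ X // ξ ≫ f = η}

/-- the point of `X ×_Y V` over `ξ` and a point of `V` over `η` -/
noncomputable def liftPt (ξ : Lifts f η) (V : Y.Etale) (x : (Φ η).fiber.obj V) :
    (Φ ξ.1).fiber.obj ((EtCoh.bc f).obj V) :=
  mkPt ξ.1 ((EtCoh.bc f).obj V)
    (pullback.lift (pt η V x) ξ.1 (by rw [pt_comp, ξ.2])) (pullback.lift_snd _ _ _)

theorem pt_liftPt_fst (ξ : Lifts f η) (V : Y.Etale) (x : (Φ η).fiber.obj V) :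
    pt ξ.1 _ (liftPt f η ξ V x) ≫ (pullback.fst V.hom f : ((EtCoh.bc f).obj V).left ⟶ V.left) =
      pt η V x :=
  pullback.lift_fst _ _ _

theorem pt_liftPt_snd (ξ : Lifts f η) (V : Y.Etale) (x : (Φ η).fiber.obj V) :
    pt ξ.1 _ (liftPt f η ξ V x) ≫ ((EtCoh.bc f).obj V).hom = ξ.1 :=
  pullback.lift_snd _ _ _

/-- points of `X ×_Y V` are determined by their two projections -/
theorem pt_bc_ext {Z : Scheme.{u}} (V : Y.Etale) (a b : Z ⟶ ((EtCoh.bc f).obj V).left)
    (h1 : a ≫ (pullback.fst V.hom f : ((EtCoh.bc f).obj V).left ⟶ V.left) =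
      b ≫ (pullback.fst V.hom f : ((EtCoh.bc f).obj V).left ⟶ V.left))
    (h2 : a ≫ ((EtCoh.bc f).obj V).hom = b ≫ ((EtCoh.bc f).obj V).hom) : a = b :=
  pullback.hom_ext h1 h2

theorem liftPt_map (ξ : Lifts f η) {V V' : Y.Etale} (g : V' ⟶ V) (x' : (Φ η).fiber.obj V') :
    (Φ ξ.1).fiber.map ((EtCoh.bc f).map g) (liftPt f η ξ V' x') =
      liftPt f η ξ V ((Φ η).fiber.map g x') := by
  apply pt_ext
  rw [pt_map]
  apply pt_bc_ext f V
  · have h1 : ((EtCoh.bc f).map g).left ≫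
        (pullback.fst V.hom f : ((EtCoh.bc f).obj V).left ⟶ V.left) =
        (pullback.fst V'.hom f : ((EtCoh.bc f).obj V').left ⟶ V'.left) ≫ g.left :=
      (EtCoh.isPullback_bc_map f g).w
    calc (pt ξ.1 _ (liftPt f η ξ V' x') ≫ ((EtCoh.bc f).map g).left) ≫
          (pullback.fst V.hom f : ((EtCoh.bc f).obj V).left ⟶ V.left)
        = pt ξ.1 _ (liftPt f η ξ V' x') ≫ (((EtCoh.bc f).map g).left ≫
          (pullback.fst V.hom f : ((EtCoh.bc f).obj V).left ⟶ V.left)) := Category.assoc _ _ _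
      _ = pt ξ.1 _ (liftPt f η ξ V' x') ≫
          ((pullback.fst V'.hom f : ((EtCoh.bc f).obj V').left ⟶ V'.left) ≫ g.left) :=
          congrArg (fun k => pt ξ.1 _ (liftPt f η ξ V' x') ≫ k) h1
      _ = (pt ξ.1 _ (liftPt f η ξ V' x') ≫
          (pullback.fst V'.hom f : ((EtCoh.bc f).obj V').left ⟶ V'.left)) ≫ g.left :=
          (Category.assoc _ _ _).symm
      _ = pt η V' x' ≫ g.left := congrArg (fun k => k ≫ g.left) (pt_liftPt_fst f η ξ V' x')
      _ = pt η V ((Φ η).fiber.map g x') := (pt_map η g x').symm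
      _ = _ := (pt_liftPt_fst f η ξ V _).symm
  · have h2 : ((EtCoh.bc f).map g).left ≫ ((EtCoh.bc f).obj V).hom =
        ((EtCoh.bc f).obj V').hom := MorphismProperty.Over.w ((EtCoh.bc f).map g)
    calc (pt ξ.1 _ (liftPt f η ξ V' x') ≫ ((EtCoh.bc f).map g).left) ≫
          ((EtCoh.bc f).obj V).hom
        = pt ξ.1 _ (liftPt f η ξ V' x') ≫ (((EtCoh.bc f).map g).left ≫
          ((EtCoh.bc f).obj V).hom) := Category.assoc _ _ _
      _ = pt ξ.1 _ (liftPt f η ξ V' x') ≫ ((EtCoh.bc f).obj V').hom :=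
          congrArg (fun k => pt ξ.1 _ (liftPt f η ξ V' x') ≫ k) h2
      _ = ξ.1 := pt_liftPt_snd f η ξ V' x'
      _ = _ := (pt_liftPt_snd f η ξ V _).symm

end Lift

section Glue

variable {X : Scheme.{u}} (P : X.Etaleᵒᵖ ⥤ Type w)
  (hP : Presieve.IsSheaf X.smallEtaleTopology P)

include hP in
theorem subsingleton_of_isEmpty_type (Z : X.Etale) [IsEmpty Z.left] :
    Subsingleton (P.obj (op Z)) := by
  have hcov : (⊥ : Sieve Z) ∈ X.smallEtaleTopology Z :=
    SHC.mem_of_pointwise Z ⊥ (fun x => (IsEmpty.false x).elim)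
  refine ⟨fun s s' => (hP _ hcov).isSeparatedFor.ext ?_⟩
  intro Z' g hg
  exact hg.elim

theorem cover_mem {T : X.Etale} {ι : Type*} (W : ι → X.Etale) (w : ∀ a, W a ⟶ T)
    (hsurj : ∀ x : T.left, ∃ (a : ι) (z : (W a).left), (w a).left.base z = x) :
    Sieve.generate (Presieve.ofArrows W w) ∈ X.smallEtaleTopology T := by
  apply SHC.mem_of_pointwise
  intro z
  obtain ⟨a, za, hza⟩ := hsurj z
  exact ⟨W a, w a, za, ⟨_, 𝟙 _, w a, Presieve.ofArrows.mk a, Category.id_comp _⟩, hza⟩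

include hP in
theorem exists_glue_type {T : X.Etale} {ι : Type*} (W : ι → X.Etale) (w : ∀ a, W a ⟶ T)
    (hmono : ∀ a, Mono (w a).left)
    (hdisj : ∀ a b, a ≠ b → ∀ (za : (W a).left) (zb : (W b).left),
      (w a).left.base za ≠ (w b).left.base zb)
    (hsurj : ∀ x : T.left, ∃ (a : ι) (z : (W a).left), (w a).left.base z = x)
    (l : ∀ a, P.obj (op (W a))) : ∃ t : P.obj (op T), ∀ a, P.map (w a).op t = l a := by
  classical
  have hcov := cover_mem W w hsurj
  have hcompat : Presieve.Arrows.Compatible P w l := by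
    intro a b Z ga gb hab
    by_cases hab' : a = b
    · subst hab'
      have hgg : ga = gb := by
        apply MorphismProperty.Over.Hom.ext
        have h1 : ga.left ≫ (w a).left = gb.left ≫ (w a).left :=
          congrArg (fun m => m.left) hab
        haveI := hmono a
        exact (cancel_mono _).1 h1
      rw [hgg]
    · haveI : IsEmpty Z.left := by
        refine ⟨fun p => ?_⟩
        have h1 : (ga ≫ w a).left.base p = (gb ≫ w b).left.base p := by rw [hab]
        exact hdisj a b hab' (ga.left.base p) (gb.left.base p) h1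
      haveI := subsingleton_of_isEmpty_type P hP Z
      exact Subsingleton.elim _ _
  have hSF := (Presieve.isSheafFor_iff_generate _).2 (hP _ hcov)
  rw [Presieve.isSheafFor_arrows_iff] at hSF
  obtain ⟨t, ht, -⟩ := hSF l hcompat
  exact ⟨t, ht⟩

include hP in
theorem ext_of_cover_type {T : X.Etale} {ι : Type*} (W : ι → X.Etale) (w : ∀ a, W a ⟶ T)
    (hsurj : ∀ x : T.left, ∃ (a : ι) (z : (W a).left), (w a).left.base z = x)
    (t t' : P.obj (op T)) (h : ∀ a, P.map (w a).op t = P.map (w a).op t') : t = t' := by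
  have hcov := cover_mem W w hsurj
  have hSG := (Presieve.isSheafFor_iff_generate _).2 (hP _ hcov)
  refine hSG.isSeparatedFor.ext ?_
  rintro Y f ⟨a⟩
  exact h a

end Glue

section Core

variable {X Y : Scheme.{u}} (f : X ⟶ Y) [IsFinite f] {Ω : Type u} [Field Ω] [IsAlgClosed Ω]

/-- **Refinement of a sieve covering the geometric fibre.** -/
theorem exists_refinement_at (V : Y.Etale) (η' : Spec (CommRingCat.of Ω) ⟶ V.left)
    (R : Sieve ((EtCoh.bc f).obj V))
    (hR : ∀ ξ' : Spec (CommRingCat.of Ω) ⟶ ((EtCoh.bc f).obj V).left,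
      ξ' ≫ (pullback.fst V.hom f : ((EtCoh.bc f).obj V).left ⟶ V.left) = η' →
      ∃ (U : X.Etale) (u : U ⟶ (EtCoh.bc f).obj V) (l : Spec (CommRingCat.of Ω) ⟶ U.left),
        R u ∧ l ≫ u.left = ξ') :
    ∃ (V' : Y.Etale) (g : V' ⟶ V) (v' : Spec (CommRingCat.of Ω) ⟶ V'.left), v' ≫ g.left = η' ∧
      ∃ (ι : Type u) (_ : Finite ι) (W : ι → X.Etale) (w : ∀ a, W a ⟶ (EtCoh.bc f).obj V'),
        (∀ a, Mono (w a).left) ∧
        (∀ a b, a ≠ b → ∀ (za : (W a).left) (zb : (W b).left),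
          (w a).left.base za ≠ (w b).left.base zb) ∧
        (∀ x : ((EtCoh.bc f).obj V').left, ∃ (a : ι) (z : (W a).left), (w a).left.base z = x) ∧
        ∀ a, R (w a ≫ (EtCoh.bc f).map g) := by
  let f' : ((EtCoh.bc f).obj V).left ⟶ V.left := (pullback.fst V.hom f : _)
  haveI : IsFinite f' := inferInstanceAs (IsFinite (pullback.fst V.hom f))
  have hdata : ∀ ξ : {ξ : Spec (CommRingCat.of Ω) ⟶ ((EtCoh.bc f).obj V).left // ξ ≫ f' = η'},
      ∃ (U : X.Etale) (u : U ⟶ (EtCoh.bc f).obj V) (l : Spec (CommRingCat.of Ω) ⟶ U.left),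
        R u ∧ l ≫ u.left = ξ.1 := fun ξ => hR ξ.1 ξ.2
  choose U u l hu hl using hdata
  obtain ⟨hF, V₁, v₁, hv₁, H⟩ := exists_decomp_geom f' η'
    (fun ξ => Scheme.Etale.mk (u ξ).left) l hl
  haveI : Etale (homX V₁) := V₁.prop
  haveI : Etale (homX V) := V.prop
  let V' : Y.Etale := Scheme.Etale.mk (homX V₁ ≫ homX V)
  let g : V' ⟶ V := MorphismProperty.Over.homMk (homX V₁) rfl trivial
  refine ⟨V', g, v₁, hv₁, ?_⟩
  let p : ((EtCoh.bc f).obj V').left ⟶ V₁.left := (pullback.fst V'.hom f : _)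
  let q : ((EtCoh.bc f).obj V').left ⟶ ((EtCoh.bc f).obj V).left := ((EtCoh.bc f).map g).left
  have hpq : p ≫ homX V₁ = q ≫ f' := (EtCoh.isPullback_bc_map f g).w.symm
  obtain ⟨W, hdis, hcov, hW⟩ := H _ p q hpq
  choose h hh hpts using hW
  letI := hF
  haveI : Etale (homX ((EtCoh.bc f).obj V')) := ((EtCoh.bc f).obj V').prop
  let Wobj : {ξ : Spec (CommRingCat.of Ω) ⟶ ((EtCoh.bc f).obj V).left // ξ ≫ f' = η'} →
      X.Etale := fun c => Scheme.Etale.mk ((W c).ι ≫ homX ((EtCoh.bc f).obj V'))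
  let w : ∀ c, Wobj c ⟶ (EtCoh.bc f).obj V' := fun c =>
    MorphismProperty.Over.homMk (W c).ι rfl trivial
  refine ⟨_, Finite.of_fintype _, Wobj, w, ?_, ?_, ?_, ?_⟩
  · intro a
    show Mono (W a).ι
    infer_instance
  · intro a b hab za zb heq
    have ha : (W a).ι.base za ∈ W a := za.2
    have hb : (W a).ι.base za ∈ W b := by
      have heq' : (W a).ι.base za = (W b).ι.base zb := heq
      rw [heq']
      exact zb.2
    exact (hdis a b hab).le_bot ⟨ha, hb⟩
  · intro x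
    have hx : x ∈ (⨆ c, W c) := by rw [hcov]; trivial
    obtain ⟨a, ha⟩ := TopologicalSpace.Opens.mem_iSup.1 hx
    exact ⟨a, ⟨x, ha⟩, rfl⟩
  · intro c
    have hm : h c ≫ (U c).hom = (Wobj c).hom := by
      have e1 : (u c).left ≫ ((EtCoh.bc f).obj V).hom = (U c).hom :=
        MorphismProperty.Over.w (u c)
      have e2 : q ≫ ((EtCoh.bc f).obj V).hom = ((EtCoh.bc f).obj V').hom :=
        MorphismProperty.Over.w ((EtCoh.bc f).map g)
      have e3 : h c ≫ (u c).left = (W c).ι ≫ q := hh c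
      calc h c ≫ (U c).hom = h c ≫ ((u c).left ≫ ((EtCoh.bc f).obj V).hom) :=
            congrArg (fun k => h c ≫ k) e1.symm
        _ = (h c ≫ (u c).left) ≫ ((EtCoh.bc f).obj V).hom := (Category.assoc _ _ _).symm
        _ = ((W c).ι ≫ q) ≫ ((EtCoh.bc f).obj V).hom :=
            congrArg (fun k => k ≫ ((EtCoh.bc f).obj V).hom) e3
        _ = (W c).ι ≫ (q ≫ ((EtCoh.bc f).obj V).hom) := Category.assoc _ _ _
        _ = (W c).ι ≫ ((EtCoh.bc f).obj V').hom := congrArg (fun k => (W c).ι ≫ k) e2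
        _ = (Wobj c).hom := rfl
    let m : Wobj c ⟶ U c := MorphismProperty.Over.homMk (h c) hm trivial
    have hfac : w c ≫ (EtCoh.bc f).map g = m ≫ u c :=
      MorphismProperty.Over.Hom.ext (hh c).symm
    rw [hfac]
    exact R.downward_closed (hu c) m

variable (η : Spec (CommRingCat.of Ω) ⟶ Y) (P : X.Etaleᵒᵖ ⥤ Type w)
  (hP : Presieve.IsSheaf X.smallEtaleTopology P)

include hP in
/-- **Injectivity core.** Two sections of the direct image which agree near every lift of the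
geometric point agree over an étale neighbourhood of the geometric point. -/
theorem inj_core (V : Y.Etale) (x : (Φ η).fiber.obj V) (s s' : P.obj (op ((EtCoh.bc f).obj V)))
    (hss : ∀ ξ : Lifts f η, ∃ (U : X.Etale) (u : U ⟶ (EtCoh.bc f).obj V)
      (l : (Φ ξ.1).fiber.obj U), (Φ ξ.1).fiber.map u l = liftPt f η ξ V x ∧
        P.map u.op s = P.map u.op s') :
    ∃ (V' : Y.Etale) (g : V' ⟶ V) (x' : (Φ η).fiber.obj V'), (Φ η).fiber.map g x' = x ∧
      P.map ((EtCoh.bc f).map g).op s = P.map ((EtCoh.bc f).map g).op s' := by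
  let R : Sieve ((EtCoh.bc f).obj V) :=
    { arrows := fun U u => P.map u.op s = P.map u.op s'
      downward_closed := by
        intro U U' u hu m
        show P.map (m ≫ u).op s = P.map (m ≫ u).op s'
        rw [op_comp, P.map_comp]
        show P.map m.op (P.map u.op s) = P.map m.op (P.map u.op s')
        rw [hu] }
  have hR : ∀ ξ' : Spec (CommRingCat.of Ω) ⟶ ((EtCoh.bc f).obj V).left,
      ξ' ≫ (pullback.fst V.hom f : ((EtCoh.bc f).obj V).left ⟶ V.left) = pt η V x →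
      ∃ (U : X.Etale) (u : U ⟶ (EtCoh.bc f).obj V) (l : Spec (CommRingCat.of Ω) ⟶ U.left),
        R u ∧ l ≫ u.left = ξ' := by
    intro ξ' hξ'
    have hξ : (ξ' ≫ ((EtCoh.bc f).obj V).hom) ≫ f = η := by
      have hc : ((EtCoh.bc f).obj V).hom ≫ f =
          (pullback.fst V.hom f : ((EtCoh.bc f).obj V).left ⟶ V.left) ≫ V.hom :=
        pullback.condition.symm
      calc (ξ' ≫ ((EtCoh.bc f).obj V).hom) ≫ f = ξ' ≫ (((EtCoh.bc f).obj V).hom ≫ f) :=
            Category.assoc _ _ _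
        _ = ξ' ≫ ((pullback.fst V.hom f : ((EtCoh.bc f).obj V).left ⟶ V.left) ≫ V.hom) :=
            congrArg (fun k => ξ' ≫ k) hc
        _ = (ξ' ≫ (pullback.fst V.hom f : ((EtCoh.bc f).obj V).left ⟶ V.left)) ≫ V.hom :=
            (Category.assoc _ _ _).symm
        _ = pt η V x ≫ V.hom := congrArg (fun k => k ≫ V.hom) hξ'
        _ = η := pt_comp η V x
    obtain ⟨U, u, l, hl, hu⟩ := hss ⟨ξ' ≫ ((EtCoh.bc f).obj V).hom, hξ⟩
    refine ⟨U, u, pt _ U l, hu, ?_⟩
    have h2 := congrArg (pt _ ((EtCoh.bc f).obj V)) hl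
    rw [pt_map] at h2
    rw [h2]
    apply pt_bc_ext f V
    · rw [pt_liftPt_fst, hξ']
    · rw [pt_liftPt_snd]
  obtain ⟨V', g, v', hv', ι, hι, W, w, hmono, hdisj, hsurj, hRw⟩ :=
    exists_refinement_at f V (pt η V x) R hR
  have hx' : v' ≫ V'.hom = η := by
    have h1 : g.left ≫ V.hom = V'.hom := MorphismProperty.Over.w g
    rw [← h1, ← Category.assoc, hv', pt_comp]
  refine ⟨V', g, mkPt η V' v' hx', ?_, ?_⟩
  · apply pt_ext
    rw [pt_map, pt_mkPt]
    exact hv'
  · apply ext_of_cover_type P hP W w hsurj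
    intro a
    have h1 : P.map (w a ≫ (EtCoh.bc f).map g).op s = P.map (w a ≫ (EtCoh.bc f).map g).op s' :=
      hRw a
    rw [op_comp, P.map_comp] at h1
    exact h1

include hP in
/-- **Surjectivity core.** Germs at all the lifts of the geometric point are simultaneously
realised by one section of the direct image over an étale neighbourhood of the point. -/
theorem surj_core (U : Lifts f η → X.Etale) (l : ∀ ξ : Lifts f η, (Φ ξ.1).fiber.obj (U ξ))
    (a : ∀ ξ : Lifts f η, P.obj (op (U ξ))) :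
    ∃ (V : Y.Etale) (x : (Φ η).fiber.obj V) (s : P.obj (op ((EtCoh.bc f).obj V))),
      ∀ ξ : Lifts f η, ∃ (W : X.Etale) (w : W ⟶ (EtCoh.bc f).obj V) (m : W ⟶ U ξ)
        (z : (Φ ξ.1).fiber.obj W), (Φ ξ.1).fiber.map w z = liftPt f η ξ V x ∧
          (Φ ξ.1).fiber.map m z = l ξ ∧ P.map w.op s = P.map m.op (a ξ) := by
  obtain ⟨hF, V, v, hv, H⟩ := exists_decomp_geom f η U (fun ξ => pt ξ.1 (U ξ) (l ξ))
    (fun ξ => pt_comp ξ.1 (U ξ) (l ξ))
  let p : ((EtCoh.bc f).obj V).left ⟶ V.left := (pullback.fst V.hom f : _)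
  have hpq : p ≫ V.hom = ((EtCoh.bc f).obj V).hom ≫ f := pullback.condition
  obtain ⟨W, hdis, hcov, hW⟩ := H _ p ((EtCoh.bc f).obj V).hom hpq
  choose h hh hpts using hW
  haveI : Etale (homX ((EtCoh.bc f).obj V)) := ((EtCoh.bc f).obj V).prop
  let Wobj : Lifts f η → X.Etale := fun c =>
    Scheme.Etale.mk ((W c).ι ≫ homX ((EtCoh.bc f).obj V))
  let w : ∀ c, Wobj c ⟶ (EtCoh.bc f).obj V := fun c =>
    MorphismProperty.Over.homMk (W c).ι rfl trivial
  let m : ∀ c, Wobj c ⟶ U c := fun c => MorphismProperty.Over.homMk (h c) (hh c) trivial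
  have hmono : ∀ c, Mono (w c).left := by
    intro c
    show Mono (W c).ι
    infer_instance
  have hdisj : ∀ c c', c ≠ c' → ∀ (za : (Wobj c).left) (zb : (Wobj c').left),
      (w c).left.base za ≠ (w c').left.base zb := by
    intro c c' hcc za zb heq
    have ha : (W c).ι.base za ∈ W c := za.2
    have hb : (W c).ι.base za ∈ W c' := by
      have heq' : (W c).ι.base za = (W c').ι.base zb := heq
      rw [heq']
      exact zb.2
    exact (hdis c c' hcc).le_bot ⟨ha, hb⟩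
  have hsurj : ∀ x : ((EtCoh.bc f).obj V).left, ∃ (c : Lifts f η) (z : (Wobj c).left),
      (w c).left.base z = x := by
    intro x
    have hx : x ∈ (⨆ c, W c) := by rw [hcov]; trivial
    obtain ⟨c, hc⟩ := TopologicalSpace.Opens.mem_iSup.1 hx
    exact ⟨c, ⟨x, hc⟩, rfl⟩
  obtain ⟨s, hs⟩ := exists_glue_type P hP Wobj w hmono hdisj hsurj
    (fun c => P.map (m c).op (a c))
  refine ⟨V, mkPt η V v hv, s, ?_⟩
  intro ξ
  have hz1 : pt ξ.1 _ (liftPt f η ξ V (mkPt η V v hv)) ≫ p = v := by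
    rw [pt_liftPt_fst, pt_mkPt]
  have hz2 : pt ξ.1 _ (liftPt f η ξ V (mkPt η V v hv)) ≫ ((EtCoh.bc f).obj V).hom = ξ.1 :=
    pt_liftPt_snd f η ξ V _
  obtain ⟨wb, hw1, hw2⟩ := hpts ξ _ hz1 hz2
  have hwb : wb ≫ (Wobj ξ).hom = ξ.1 := by
    show wb ≫ (W ξ).ι ≫ ((EtCoh.bc f).obj V).hom = ξ.1
    rw [← Category.assoc, hw1]
    exact hz2
  refine ⟨Wobj ξ, w ξ, m ξ, mkPt ξ.1 (Wobj ξ) wb hwb, ?_, ?_, hs ξ⟩
  · apply pt_ext
    rw [pt_map, pt_mkPt]
    exact hw1
  · apply pt_ext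
    rw [pt_map, pt_mkPt]
    exact hw2

end Core

end Groth.Agent.Helper1.FP
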