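import Mathlib
import Groth.Agent.Lib.Helper1.FP6

/-!
# The stalk of a direct image along a finite morphism (abelian sheaves)
-/

set_option autoImplicit false
set_option linter.unusedSectionVars false
set_option linter.style.haveILetI false
open CategoryTheory CategoryTheory.Limits AlgebraicGeometry Opposite
universe u

namespace Groth.Agent.Helper1.FP

open Groth.Agent.Helper1.ELR

section Stalk

variable {X Y : Scheme.{u}} (f : X ⟶ Y) [IsFinite f] (F : EtCoh.Ab X) {Ω : Type u} [Field Ω]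
  [IsAlgClosed Ω] (η : Spec (CommRingCat.of Ω) ⟶ Y)

/-- the comparison map from the stalk of the direct image to the stalk at a lift -/
noncomputable def stalkMap (ξ : Lifts f η) :
    (EtCoh.stalk η).obj ((EtCoh.push f).obj F) ⟶ (EtCoh.stalk ξ.1).obj F :=
  (Φ η).presheafFiberDesc (P := ((EtCoh.push f).obj F).obj)
    (fun V x => (Φ ξ.1).toPresheafFiber ((EtCoh.bc f).obj V) (liftPt f η ξ V x) F.obj)
    (by
      intro V' V g x'
      rw [← liftPt_map]
      exact (Φ ξ.1).toPresheafFiber_w ((EtCoh.bc f).map g) (liftPt f η ξ V' x') F.obj)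

theorem stalkMap_germ (ξ : Lifts f η) (V : Y.Etale) (x : (Φ η).fiber.obj V)
    (s : F.obj.obj (op ((EtCoh.bc f).obj V))) :
    (stalkMap f F η ξ) ((Φ η).toPresheafFiber V x ((EtCoh.push f).obj F).obj s) =
      (Φ ξ.1).toPresheafFiber ((EtCoh.bc f).obj V) (liftPt f η ξ V x) F.obj s := by
  unfold stalkMap
  have h := (Φ η).toPresheafFiber_presheafFiberDesc (P := ((EtCoh.push f).obj F).obj)
    (fun V x => (Φ ξ.1).toPresheafFiber ((EtCoh.bc f).obj V) (liftPt f η ξ V x) F.obj)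
    (by
      intro V' V g x'
      rw [← liftPt_map]
      exact (Φ ξ.1).toPresheafFiber_w ((EtCoh.bc f).map g) (liftPt f η ξ V' x') F.obj) V x
  exact congrArg (fun k => k s) h

theorem stalkMap_injective (a b : (EtCoh.stalk η).obj ((EtCoh.push f).obj F))
    (h : ∀ ξ : Lifts f η, stalkMap f F η ξ a = stalkMap f F η ξ b) : a = b := by
  haveI := SHC.preservesFilteredColimits_forget.{u}
  obtain ⟨V, x, s, s', rfl, rfl⟩ :=
    (Φ η).toPresheafFiber_jointly_surjective₂ (P := ((EtCoh.push f).obj F).obj) a b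
  have hss : ∀ ξ : Lifts f η, ∃ (U : X.Etale) (u : U ⟶ (EtCoh.bc f).obj V)
      (l : (Φ ξ.1).fiber.obj U), (Φ ξ.1).fiber.map u l = liftPt f η ξ V x ∧
        (F.obj ⋙ forget AddCommGrpCat.{u + 1}).map u.op s =
          (F.obj ⋙ forget AddCommGrpCat.{u + 1}).map u.op s' := by
    intro ξ
    have h1 := h ξ
    rw [stalkMap_germ, stalkMap_germ] at h1
    obtain ⟨U, u, l, hl, hu⟩ :=
      ((Φ ξ.1).toPresheafFiber_eq_iff' (P := F.obj) _ (liftPt f η ξ V x) s s').1 h1
    exact ⟨U, u, l, hl, hu⟩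
  obtain ⟨V', g, x', hx', hg⟩ := inj_core f η (F.obj ⋙ forget AddCommGrpCat.{u + 1})
    (SZ.presieve_isSheaf F) V x s s' hss
  have e1 := (Φ η).toPresheafFiber_w_apply g x' ((EtCoh.push f).obj F).obj s
  have e2 := (Φ η).toPresheafFiber_w_apply g x' ((EtCoh.push f).obj F).obj s'
  rw [hx'] at e1 e2
  rw [← e1, ← e2]
  exact congrArg ((Φ η).toPresheafFiber V' x' ((EtCoh.push f).obj F).obj) hg

theorem stalkMap_surjective (t : ∀ ξ : Lifts f η, (EtCoh.stalk ξ.1).obj F) :
    ∃ a : (EtCoh.stalk η).obj ((EtCoh.push f).obj F), ∀ ξ, stalkMap f F η ξ a = t ξ := by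
  haveI := SHC.preservesFilteredColimits_forget.{u}
  choose U l a ha using fun ξ : Lifts f η =>
    (Φ ξ.1).toPresheafFiber_jointly_surjective (P := F.obj) (t ξ)
  obtain ⟨V, x, s, hs⟩ := surj_core f η (F.obj ⋙ forget AddCommGrpCat.{u + 1})
    (SZ.presieve_isSheaf F) U l a
  refine ⟨(Φ η).toPresheafFiber V x ((EtCoh.push f).obj F).obj s, ?_⟩
  intro ξ
  obtain ⟨W, w, m, z, hz1, hz2, hsW⟩ := hs ξ
  have e1 := (Φ ξ.1).toPresheafFiber_w_apply w z F.obj s
  have e2 := (Φ ξ.1).toPresheafFiber_w_apply m z F.obj (a ξ)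
  rw [hz1] at e1
  rw [hz2] at e2
  rw [stalkMap_germ, ← ha ξ, ← e1, ← e2]
  exact congrArg ((Φ ξ.1).toPresheafFiber W z F.obj) hsW

theorem nonempty_fintype_lifts : Nonempty (Fintype (Lifts f η)) := by
  obtain ⟨hF, -⟩ := exists_decomp_geom f η (fun _ => EtCoh.top X) (fun ξ => ξ.1)
    (fun ξ => Category.comp_id ξ.1)
  exact ⟨hF⟩

theorem nonempty_stalk_push_iso :
    Nonempty ((EtCoh.stalk η).obj ((EtCoh.push f).obj F) ≅
      ∐ fun ξ : Lifts f η => (EtCoh.stalk ξ.1).obj F) := by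
  obtain ⟨hF⟩ := nonempty_fintype_lifts f η
  haveI : Finite (Lifts f η) := Finite.of_fintype _
  let T : Lifts f η → AddCommGrpCat.{u + 1} := fun ξ => (EtCoh.stalk ξ.1).obj F
  let Ψ : (EtCoh.stalk η).obj ((EtCoh.push f).obj F) ⟶ ∏ᶜ T :=
    Pi.lift (fun ξ => stalkMap f F η ξ)
  have key : ∀ (ξ : Lifts f η) (a : (EtCoh.stalk η).obj ((EtCoh.push f).obj F)),
      Pi.π T ξ (Ψ a) = stalkMap f F η ξ a := by
    intro ξ a
    rw [← ConcreteCategory.comp_apply]
    have h2 : Ψ ≫ Pi.π T ξ = stalkMap f F η ξ := Pi.lift_π _ _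
    rw [h2]
  haveI : IsIso Ψ := by
    rw [← isIso_iff_of_reflects_iso _ (forget AddCommGrpCat.{u + 1}), isIso_iff_bijective]
    constructor
    · intro a b hab
      apply stalkMap_injective f F η a b
      intro ξ
      rw [← key ξ a, ← key ξ b]
      exact congrArg (fun t => Pi.π T ξ t) hab
    · intro t
      obtain ⟨a, ha⟩ := stalkMap_surjective f F η (Concrete.productEquiv T t)
      refine ⟨a, ?_⟩
      apply (Concrete.productEquiv T).injective
      funext ξ
      rw [Concrete.productEquiv_apply_apply]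
      exact (key ξ a).trans (ha ξ)
  exact ⟨asIso Ψ ≪≫ (biproduct.isoProduct T).symm ≪≫ biproduct.isoCoproduct T⟩

end Stalk

end Groth.Agent.Helper1.FP
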