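import Mathlib
import Groth.Agent.Lib.Helper1.FP7
import Groth.Prelude.Def_SGA4b

/-!
# The stalk of a direct image along a finite morphism (sheaves of sets), functorially
-/

set_option autoImplicit false
set_option linter.unusedSectionVars false
set_option linter.style.haveILetI false
open CategoryTheory CategoryTheory.Limits AlgebraicGeometry Opposite
universe u

namespace Groth.Agent.Helper1.FP

open Groth.Agent.Helper1.ELR

/-- elements of the value of a product of `Type`-valued functors are determined by their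
projections -/
theorem pi_obj_ext {D : Type*} [Category D] {J : Type u} (G : J → D ⥤ Type (u + 1)) (d : D)
    (t t' : (∏ᶜ G).obj d) (h : ∀ j, (Pi.π G j).app d t = (Pi.π G j).app d t') : t = t' := by
  have hinj : Function.Injective (piObjIso G d).hom :=
    ((isIso_iff_bijective (piObjIso G d).hom).1 inferInstance).1
  apply hinj
  apply (Concrete.productEquiv (fun j => (G j).obj d)).injective
  funext j
  rw [Concrete.productEquiv_apply_apply, Concrete.productEquiv_apply_apply]
  have e : ∀ s : (∏ᶜ G).obj d, Pi.π (fun j => (G j).obj d) j ((piObjIso G d).hom s) =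
      (Pi.π G j).app d s := by
    intro s
    have h2 := piObjIso_hom_comp_π G d j
    exact congrArg (fun k => k s) h2
  rw [e, e]
  exact h j

section StalkSets

variable {X Y : Scheme.{u}} (f : X ⟶ Y) [IsFinite f] {Ω : Type u} [Field Ω]
  [IsAlgClosed Ω] (η : Spec (CommRingCat.of Ω) ⟶ Y)

theorem sh_isSheaf (F : EtDesc.Sh X) : Presieve.IsSheaf X.smallEtaleTopology F.obj :=
  (isSheaf_iff_isSheaf_of_type _ _).1 F.2

/-- the comparison map from the stalk of the direct image to the stalk at a lift -/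
noncomputable def stalkMapS (F : EtDesc.Sh X) (ξ : Lifts f η) :
    (Φ η).presheafFiber.obj ((EtDesc.pushSh f).obj F).obj ⟶ (Φ ξ.1).presheafFiber.obj F.obj :=
  (Φ η).presheafFiberDesc (P := ((EtDesc.pushSh f).obj F).obj)
    (fun V x => (Φ ξ.1).toPresheafFiber ((EtCoh.bc f).obj V) (liftPt f η ξ V x) F.obj)
    (by
      intro V' V g x'
      rw [← liftPt_map]
      exact (Φ ξ.1).toPresheafFiber_w ((EtCoh.bc f).map g) (liftPt f η ξ V' x') F.obj)

theorem stalkMapS_comp (F : EtDesc.Sh X) (ξ : Lifts f η) (V : Y.Etale) (x : (Φ η).fiber.obj V) :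
    (Φ η).toPresheafFiber V x ((EtDesc.pushSh f).obj F).obj ≫ stalkMapS f η F ξ =
      (Φ ξ.1).toPresheafFiber ((EtCoh.bc f).obj V) (liftPt f η ξ V x) F.obj := by
  unfold stalkMapS
  exact (Φ η).toPresheafFiber_presheafFiberDesc (P := ((EtDesc.pushSh f).obj F).obj)
    (fun V x => (Φ ξ.1).toPresheafFiber ((EtCoh.bc f).obj V) (liftPt f η ξ V x) F.obj)
    (by
      intro V' V g x'
      rw [← liftPt_map]
      exact (Φ ξ.1).toPresheafFiber_w ((EtCoh.bc f).map g) (liftPt f η ξ V' x') F.obj) V x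

theorem stalkMapS_germ (F : EtDesc.Sh X) (ξ : Lifts f η) (V : Y.Etale) (x : (Φ η).fiber.obj V)
    (s : F.obj.obj (op ((EtCoh.bc f).obj V))) :
    (stalkMapS f η F ξ) ((Φ η).toPresheafFiber V x ((EtDesc.pushSh f).obj F).obj s) =
      (Φ ξ.1).toPresheafFiber ((EtCoh.bc f).obj V) (liftPt f η ξ V x) F.obj s :=
  congrArg (fun k => k s) (stalkMapS_comp f η F ξ V x)

theorem stalkMapS_injective (F : EtDesc.Sh X)
    (a b : (Φ η).presheafFiber.obj ((EtDesc.pushSh f).obj F).obj)
    (h : ∀ ξ : Lifts f η, stalkMapS f η F ξ a = stalkMapS f η F ξ b) : a = b := by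
  obtain ⟨V, x, s, s', rfl, rfl⟩ :=
    (Φ η).toPresheafFiber_jointly_surjective₂ (P := ((EtDesc.pushSh f).obj F).obj) a b
  have hss : ∀ ξ : Lifts f η, ∃ (U : X.Etale) (u : U ⟶ (EtCoh.bc f).obj V)
      (l : (Φ ξ.1).fiber.obj U), (Φ ξ.1).fiber.map u l = liftPt f η ξ V x ∧
        F.obj.map u.op s = F.obj.map u.op s' := by
    intro ξ
    have h1 := h ξ
    rw [stalkMapS_germ, stalkMapS_germ] at h1
    obtain ⟨U, u, l, hl, hu⟩ :=
      ((Φ ξ.1).toPresheafFiber_eq_iff' (P := F.obj) _ (liftPt f η ξ V x) s s').1 h1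
    exact ⟨U, u, l, hl, hu⟩
  obtain ⟨V', g, x', hx', hg⟩ := inj_core f η F.obj (sh_isSheaf F) V x s s' hss
  have e1 := (Φ η).toPresheafFiber_w_apply g x' ((EtDesc.pushSh f).obj F).obj s
  have e2 := (Φ η).toPresheafFiber_w_apply g x' ((EtDesc.pushSh f).obj F).obj s'
  rw [hx'] at e1 e2
  rw [← e1, ← e2]
  exact congrArg ((Φ η).toPresheafFiber V' x' ((EtDesc.pushSh f).obj F).obj) hg

theorem stalkMapS_surjective (F : EtDesc.Sh X)
    (t : ∀ ξ : Lifts f η, (Φ ξ.1).presheafFiber.obj F.obj) :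
    ∃ a : (Φ η).presheafFiber.obj ((EtDesc.pushSh f).obj F).obj,
      ∀ ξ, stalkMapS f η F ξ a = t ξ := by
  choose U l a ha using fun ξ : Lifts f η =>
    (Φ ξ.1).toPresheafFiber_jointly_surjective (P := F.obj) (t ξ)
  obtain ⟨V, x, s, hs⟩ := surj_core f η F.obj (sh_isSheaf F) U l a
  refine ⟨(Φ η).toPresheafFiber V x ((EtDesc.pushSh f).obj F).obj s, ?_⟩
  intro ξ
  obtain ⟨W, w, m, z, hz1, hz2, hsW⟩ := hs ξ
  have e1 := (Φ ξ.1).toPresheafFiber_w_apply w z F.obj s
  have e2 := (Φ ξ.1).toPresheafFiber_w_apply m z F.obj (a ξ)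
  rw [hz1] at e1
  rw [hz2] at e2
  rw [stalkMapS_germ, ← ha ξ, ← e1, ← e2]
  exact congrArg ((Φ ξ.1).toPresheafFiber W z F.obj) hsW

/-- the comparison maps as a natural transformation of fibre functors -/
noncomputable def stalkNat (ξ : Lifts f η) :
    EtDesc.pushSh f ⋙ (Φ η).sheafFiber (A := Type (u + 1)) ⟶
      ((Φ ξ.1).sheafFiber (A := Type (u + 1)) : EtDesc.Sh X ⥤ Type (u + 1)) where
  app F := stalkMapS f η F ξ
  naturality F G e := by
    apply (Φ η).presheafFiber_hom_ext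
    intro V x
    show (Φ η).toPresheafFiber V x ((EtDesc.pushSh f).obj F).obj ≫
        ((Φ η).presheafFiber.map ((EtDesc.pushSh f).map e).hom ≫ stalkMapS f η G ξ) =
      (Φ η).toPresheafFiber V x ((EtDesc.pushSh f).obj F).obj ≫
        (stalkMapS f η F ξ ≫ (Φ ξ.1).presheafFiber.map e.hom)
    rw [(Φ η).toPresheafFiber_naturality_assoc, stalkMapS_comp, ← Category.assoc,
      stalkMapS_comp]
    exact ((Φ ξ.1).toPresheafFiber_naturality e.hom ((EtCoh.bc f).obj V)
      (liftPt f η ξ V x)).symm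

/-- the comparison map to the product of the fibre functors at the lifts -/
noncomputable def stalkPi :
    EtDesc.pushSh f ⋙ (Φ η).sheafFiber (A := Type (u + 1)) ⟶
      ∏ᶜ fun ξ : Lifts f η =>
        ((Φ ξ.1).sheafFiber (A := Type (u + 1)) : EtDesc.Sh X ⥤ Type (u + 1)) :=
  Pi.lift (stalkNat f η)

theorem stalkPi_π_app (F : EtDesc.Sh X) (ξ : Lifts f η)
    (a : (Φ η).presheafFiber.obj ((EtDesc.pushSh f).obj F).obj) :
    (Pi.π (fun ξ : Lifts f η =>
        ((Φ ξ.1).sheafFiber (A := Type (u + 1)) : EtDesc.Sh X ⥤ Type (u + 1))) ξ).app F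
      ((stalkPi f η).app F a) = stalkMapS f η F ξ a := by
  have h2 : stalkPi f η ≫ Pi.π (fun ξ : Lifts f η =>
      ((Φ ξ.1).sheafFiber (A := Type (u + 1)) : EtDesc.Sh X ⥤ Type (u + 1))) ξ =
      stalkNat f η ξ := Pi.lift_π _ _
  have h3 := congrArg (fun k => k.app F) h2
  exact congrArg (fun k => k a) h3

theorem isIso_stalkPi : IsIso (stalkPi f η) := by
  haveI : ∀ F, IsIso ((stalkPi f η).app F) := by
    intro F
    rw [isIso_iff_bijective]
    constructor
    · intro a b hab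
      apply stalkMapS_injective f η F a b
      intro ξ
      rw [← stalkPi_π_app f η F ξ a, ← stalkPi_π_app f η F ξ b]
      exact congrArg _ hab
    · intro t
      obtain ⟨a, ha⟩ := stalkMapS_surjective f η F (fun ξ =>
        (Pi.π (fun ξ : Lifts f η =>
          ((Φ ξ.1).sheafFiber (A := Type (u + 1)) : EtDesc.Sh X ⥤ Type (u + 1))) ξ).app F t)
      refine ⟨a, ?_⟩
      apply pi_obj_ext
      intro ξ
      rw [stalkPi_π_app]
      exact ha ξ
  exact NatIso.isIso_of_isIso_app _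

theorem nonempty_stalk_pushSh_iso :
    Nonempty (EtDesc.pushSh f ⋙ (Φ η).sheafFiber (A := Type (u + 1)) ≅
      ∏ᶜ fun ξ : Lifts f η =>
        ((Φ ξ.1).sheafFiber (A := Type (u + 1)) : EtDesc.Sh X ⥤ Type (u + 1))) := by
  haveI := isIso_stalkPi f η
  exact ⟨asIso (stalkPi f η)⟩

end StalkSets

end Groth.Agent.Helper1.FP
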