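import Mathlib
import Groth.Prelude.Def_EtCore

/-!
# Morphisms between base changes to a closed subscheme extend étale locally (helper1)
-/

set_option autoImplicit false
set_option linter.unusedSectionVars false
set_option linter.style.haveILetI false

open CategoryTheory CategoryTheory.Limits AlgebraicGeometry Opposite

namespace Groth.Agent.Helper1.CI

universe u

theorem exists_open_graph {Z X : Scheme.{u}} (i : Z ⟶ X) [IsClosedImmersion i]
    {U U' : Scheme.{u}} (f : U ⟶ X) (f' : U' ⟶ X) [Etale f] [Etale f']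
    (hl : pullback f i ⟶ pullback f' i) (hh : hl ≫ pullback.snd f' i = pullback.snd f i) :
    ∃ (W : (pullback f f').Opens) (gW : pullback f i ⟶ W.toScheme),
      gW ≫ W.ι ≫ pullback.fst f f' = pullback.fst f i ∧
      gW ≫ W.ι ≫ pullback.snd f f' = hl ≫ pullback.fst f' i ∧
      IsPullback gW (pullback.snd f i) (W.ι ≫ pullback.fst f f' ≫ f) i := by
  -- the graph
  have hg : pullback.fst f i ≫ f = (hl ≫ pullback.fst f' i) ≫ f' := by
    rw [pullback.condition, Category.assoc, pullback.condition, ← Category.assoc, hh]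
  let g : pullback f i ⟶ pullback f f' :=
    pullback.lift (pullback.fst f i) (hl ≫ pullback.fst f' i) hg
  have hg1 : g ≫ pullback.fst f f' = pullback.fst f i := pullback.lift_fst _ _ _
  have hg2 : g ≫ pullback.snd f f' = hl ≫ pullback.fst f' i := pullback.lift_snd _ _ _
  -- base change of P to Z
  let c : pullback (pullback.fst f f' ≫ f) i ⟶ pullback f f' :=
    pullback.fst (pullback.fst f f' ≫ f) i
  let s : pullback (pullback.fst f f' ≫ f) i ⟶ Z := pullback.snd (pullback.fst f f' ≫ f) i
  have hγ : g ≫ (pullback.fst f f' ≫ f) = pullback.snd f i ≫ i := by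
    rw [← Category.assoc, hg1, pullback.condition]
  let γ : pullback f i ⟶ pullback (pullback.fst f f' ≫ f) i :=
    pullback.lift g (pullback.snd f i) hγ
  have hγ1 : γ ≫ c = g := pullback.lift_fst _ _ _
  have hγ2 : γ ≫ s = pullback.snd f i := pullback.lift_snd _ _ _
  haveI : Etale s := by dsimp only [s]; infer_instance
  haveI : Etale (γ ≫ s) := by rw [hγ2]; infer_instance
  haveI : Etale γ :=
    MorphismProperty.of_postcomp (W := @Etale) (W' := @Etale) γ s inferInstance inferInstance
  haveI : Mono g := by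
    haveI : Mono (g ≫ pullback.fst f f') := by rw [hg1]; infer_instance
    exact mono_of_mono g (pullback.fst f f')
  haveI : Mono γ := by
    haveI : Mono (γ ≫ c) := by rw [hγ1]; infer_instance
    exact mono_of_mono γ c
  haveI : IsOpenImmersion γ := IsOpenImmersion.of_flat_of_mono γ
  let G : Set ↥(pullback (pullback.fst f f' ≫ f) i) := Set.range γ.base
  have hGo : IsOpen G := γ.isOpenEmbedding.isOpen_range
  have hc : Topology.IsClosedEmbedding c.base := c.isClosedEmbedding
  let W : (pullback f f').Opens :=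
    ⟨(c.base '' Gᶜ)ᶜ, (hc.isClosedMap _ hGo.isClosed_compl).isOpen_compl⟩
  have hW : ∀ z, c.base z ∈ (W : Set ↥(pullback f f')) ↔ z ∈ G := by
    intro z
    constructor
    · intro h
      by_contra hz
      exact h ⟨z, hz, rfl⟩
    · rintro hz ⟨w, hw, hwz⟩
      exact hw (hc.injective hwz ▸ hz)
  have hgr : Set.range g.base ⊆ Set.range W.ι.base := by
    rw [Scheme.Opens.range_ι]
    rintro _ ⟨z, rfl⟩
    have h1 : g.base z = c.base (γ.base z) := congrArg (fun φ => φ.base z) hγ1.symm
    rw [h1]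
    exact (hW _).2 ⟨z, rfl⟩
  let gW : pullback f i ⟶ W.toScheme := IsOpenImmersion.lift W.ι g hgr
  have hgW : gW ≫ W.ι = g := IsOpenImmersion.lift_fac _ _ _
  have key : ∀ (T : Scheme.{u}) (a : T ⟶ W.toScheme) (b : T ⟶ Z),
      a ≫ (W.ι ≫ pullback.fst f f' ≫ f) = b ≫ i →
      ∃ ε : T ⟶ pullback f i, ε ≫ gW = a ∧ ε ≫ pullback.snd f i = b := by
    intro T a b hab
    have hδ : (a ≫ W.ι) ≫ (pullback.fst f f' ≫ f) = b ≫ i := by
      rw [Category.assoc]; exact hab
    let δ : T ⟶ pullback (pullback.fst f f' ≫ f) i := pullback.lift (a ≫ W.ι) b hδ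
    have hδ1 : δ ≫ c = a ≫ W.ι := pullback.lift_fst _ _ _
    have hδ2 : δ ≫ s = b := pullback.lift_snd _ _ _
    have hδr : Set.range δ.base ⊆ Set.range γ.base := by
      rintro _ ⟨t, rfl⟩
      apply (hW _).1
      have h1 : c.base (δ.base t) = W.ι.base (a.base t) := congrArg (fun φ => φ.base t) hδ1
      rw [h1]
      exact (a.base t).2
    let ε : T ⟶ pullback f i := IsOpenImmersion.lift γ δ hδr
    have hε : ε ≫ γ = δ := IsOpenImmersion.lift_fac _ _ _
    refine ⟨ε, ?_, ?_⟩
    · rw [← cancel_mono W.ι, Category.assoc, hgW, ← hγ1, ← Category.assoc, hε, hδ1]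
    · rw [← hγ2, ← Category.assoc, hε, hδ2]
  have hw : gW ≫ (W.ι ≫ pullback.fst f f' ≫ f) = pullback.snd f i ≫ i := by
    rw [← Category.assoc, hgW]; exact hγ
  have h1 : gW ≫ W.ι ≫ pullback.fst f f' = pullback.fst f i := by
    rw [← Category.assoc, hgW, hg1]
  refine ⟨W, gW, h1, ?_, ?_⟩
  · rw [← Category.assoc, hgW, hg2]
  · refine ⟨⟨hw⟩, ⟨PullbackCone.IsLimit.mk hw
      (fun sc => (key sc.pt sc.fst sc.snd sc.condition).choose)
      (fun sc => (key sc.pt sc.fst sc.snd sc.condition).choose_spec.1)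
      (fun sc => (key sc.pt sc.fst sc.snd sc.condition).choose_spec.2) ?_⟩⟩
    intro sc m hm1 hm2
    have e1 := (key sc.pt sc.fst sc.snd sc.condition).choose_spec.1
    have e2 := (key sc.pt sc.fst sc.snd sc.condition).choose_spec.2
    generalize (key sc.pt sc.fst sc.snd sc.condition).choose = ε at e1 e2 ⊢
    apply pullback.hom_ext
    · have t1 : m ≫ pullback.fst f i = (m ≫ gW) ≫ W.ι ≫ pullback.fst f f' := by
        rw [Category.assoc, h1]
      have t2 : ε ≫ pullback.fst f i = (ε ≫ gW) ≫ W.ι ≫ pullback.fst f f' := by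
        rw [Category.assoc, h1]
      rw [t1, t2, hm1, e1]
    · rw [hm2, e2]

end Groth.Agent.Helper1.CI
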