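import Mathlib
import Groth.Prelude.Def_EtCore
import Groth.Agent.Lib.Helper1.CI5

/-!
# Base change to a closed subscheme is "locally full" (helper1)
-/

set_option autoImplicit false
set_option linter.unusedSectionVars false
set_option linter.style.haveILetI false

open CategoryTheory CategoryTheory.Limits AlgebraicGeometry Opposite

namespace Groth.Agent.Helper1.CI

universe u

set_option backward.isDefEq.respectTransparency.types false in
theorem bc_map_fst {X Y : Scheme.{u}} (f : X ⟶ Y) {U V : Y.Etale} (g : V ⟶ U) :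
    (((EtCoh.bc f).map g).left : pullback V.hom f ⟶ pullback U.hom f) ≫ pullback.fst U.hom f =
      pullback.fst V.hom f ≫ g.left :=
  (EtCoh.isPullback_bc_map f g).w

set_option backward.isDefEq.respectTransparency.types false in
theorem bc_map_snd {X Y : Scheme.{u}} (f : X ⟶ Y) {U V : Y.Etale} (g : V ⟶ U) :
    (((EtCoh.bc f).map g).left : pullback V.hom f ⟶ pullback U.hom f) ≫ pullback.snd U.hom f =
      pullback.snd V.hom f := by
  dsimp [EtCoh.bc]
  exact pullback.lift_snd _ _ _

set_option backward.isDefEq.respectTransparency.types false in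
theorem main0660 {Z X : Scheme.{u}} (i : Z ⟶ X) [IsClosedImmersion i] (U U' : X.Etale)
    (h : (EtCoh.bc i).obj U ⟶ (EtCoh.bc i).obj U') :
    ∃ (W : X.Etale) (a : W ⟶ U) (b : W ⟶ U'), IsIso ((EtCoh.bc i).map a) ∧
      (EtCoh.bc i).map a ≫ h = (EtCoh.bc i).map b := by
  let hl : pullback U.hom i ⟶ pullback U'.hom i := h.left
  have hh : hl ≫ pullback.snd U'.hom i = pullback.snd U.hom i := Over.w h.hom
  obtain ⟨W₀, gW, h1, h2, hpb⟩ := exists_open_graph i U.hom U'.hom hl hh
  let W : X.Etale := Scheme.Etale.mk (W₀.ι ≫ pullback.fst U.hom U'.hom ≫ U.hom)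
  let a : W ⟶ U := MorphismProperty.Over.homMk (W₀.ι ≫ pullback.fst U.hom U'.hom)
    (Category.assoc _ _ _) trivial
  have hb : (W₀.ι ≫ pullback.snd U.hom U'.hom) ≫ U'.hom =
      W₀.ι ≫ pullback.fst U.hom U'.hom ≫ U.hom := by
    rw [Category.assoc, ← pullback.condition]
  let b : W ⟶ U' := MorphismProperty.Over.homMk (W₀.ι ≫ pullback.snd U.hom U'.hom) hb trivial
  let ma : pullback W.hom i ⟶ pullback U.hom i := ((EtCoh.bc i).map a).left
  let mb : pullback W.hom i ⟶ pullback U'.hom i := ((EtCoh.bc i).map b).left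
  have ea1 : ma ≫ pullback.fst U.hom i =
      pullback.fst W.hom i ≫ (W₀.ι ≫ pullback.fst U.hom U'.hom) := bc_map_fst i a
  have ea2 : ma ≫ pullback.snd U.hom i = pullback.snd W.hom i := bc_map_snd i a
  have eb1 : mb ≫ pullback.fst U'.hom i =
      pullback.fst W.hom i ≫ (W₀.ι ≫ pullback.snd U.hom U'.hom) := bc_map_fst i b
  have eb2 : mb ≫ pullback.snd U'.hom i = pullback.snd W.hom i := bc_map_snd i b
  let e : pullback U.hom i ≅ pullback W.hom i := hpb.isoPullback
  have ee1 : e.hom ≫ pullback.fst W.hom i = gW := hpb.isoPullback_hom_fst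
  have ee2 : e.hom ≫ pullback.snd W.hom i = pullback.snd U.hom i := hpb.isoPullback_hom_snd
  have key1 : e.hom ≫ ma = 𝟙 _ := by
    apply pullback.hom_ext
    · rw [Category.assoc, ea1, ← Category.assoc, ee1, Category.id_comp]
      exact h1
    · rw [Category.assoc, ea2, ee2, Category.id_comp]
  have key2 : ma ≫ e.hom = 𝟙 _ := by
    have h3 : ma = e.inv := by
      rw [← Category.id_comp ma, ← e.inv_hom_id, Category.assoc, key1, Category.comp_id]
    rw [h3, e.inv_hom_id]
  let inv : (EtCoh.bc i).obj U ⟶ (EtCoh.bc i).obj W :=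
    MorphismProperty.Over.homMk e.hom ee2 trivial
  refine ⟨W, a, b, ⟨inv, ?_, ?_⟩, ?_⟩
  · apply MorphismProperty.Over.Hom.ext
    exact key2
  · apply MorphismProperty.Over.Hom.ext
    exact key1
  · apply MorphismProperty.Over.Hom.ext
    change ma ≫ hl = mb
    rw [← cancel_epi e.hom, ← Category.assoc, key1, Category.id_comp]
    apply pullback.hom_ext
    · rw [Category.assoc, eb1, ← Category.assoc, ee1]
      exact h2.symm
    · rw [Category.assoc, eb2, ee2]
      exact hh

end Groth.Agent.Helper1.CI
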