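import Mathlib

/-!
# Germs and the stalk-of-pullback isomorphism (helper1)

Compatibility of Mathlib's `sheafFiberComapIso` with germs and the unit of the
pullback-pushforward adjunction.
-/

set_option autoImplicit false
set_option linter.unusedSectionVars false

open CategoryTheory CategoryTheory.Limits Opposite

namespace Groth.Agent.Helper1.PT

universe w v

open GrothendieckTopology

variable {C D : Type*} [Category* C] [Category* D]
  {K : GrothendieckTopology D}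
  (Φ : Point.{w} K) (F : C ⥤ D) [RepresentablyFlat F] {J : GrothendieckTopology C}
  (hF : CoverPreserving J K F)
  [InitiallySmall (F ⋙ Φ.fiber).Elements]
  (A : Type*) [Category.{v} A] [HasProducts.{w} A]
  [Functor.IsContinuous F J K]
  [(F.sheafPushforwardContinuous A J K).IsRightAdjoint]
  [HasColimitsOfSize.{w, w} A]

/-- germs of the unit of a skyscraper adjunction -/
theorem skyUnit_app_π (Ψ : Point.{w} J) (P : Sheaf J A) (X : C) (x : Ψ.fiber.obj X) :
    (Ψ.skyscraperSheafAdjunction.unit.app P).hom.app (op X) ≫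
      Pi.π (fun _ : Ψ.fiber.obj X => Ψ.presheafFiber.obj P.obj) x =
      Ψ.toPresheafFiber X x P.obj := by
  have h1 : (Ψ.skyscraperSheafAdjunction.unit.app P).hom =
      Ψ.skyscraperPresheafHomEquiv (𝟙 (Ψ.presheafFiber.obj P.obj)) := by
    rw [← Adjunction.homEquiv_id]
    exact Ψ.skyscraperSheafAdjunction_homEquiv_apply_hom (𝟙 (Ψ.presheafFiber.obj P.obj))
  rw [h1]
  exact (Ψ.skyscraperPresheafHomEquiv_app_π (𝟙 _) X x).trans (Category.comp_id _)

/-- germs of the counit of a skyscraper adjunction -/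
theorem toPresheafFiber_skyCounit (Ψ : Point.{w} J) (M : A) (X : C) (x : Ψ.fiber.obj X) :
    Ψ.toPresheafFiber X x (Ψ.skyscraperPresheaf M) ≫
      Ψ.skyscraperSheafAdjunction.counit.app M =
      Pi.π (fun _ : Ψ.fiber.obj X => M) x := by
  have h1 : Ψ.skyscraperSheafAdjunction.counit.app M =
      Ψ.skyscraperPresheafHomEquiv.symm (𝟙 (Ψ.skyscraperPresheaf M)) := by
    rw [← Adjunction.homEquiv_symm_id]
    exact Ψ.skyscraperSheafAdjunction_homEquiv_symm_apply (𝟙 (Ψ.skyscraperSheaf M))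
  rw [h1]
  exact (Ψ.toPresheafFiber_skyscraperPresheafHomEquiv_symm (𝟙 _) X x).trans (Category.id_comp _)

set_option backward.isDefEq.respectTransparency.types false in
/-- compatibility of `sheafFiberComapIso` with germs -/
theorem toPresheafFiber_comapIso_hom (G : Sheaf J A) (X : C) (x : Φ.fiber.obj (F.obj X)) :
    (Φ.comap F hF).toPresheafFiber X x G.obj ≫ (Φ.sheafFiberComapIso F hF A).hom.app G =
      ((F.sheafAdjunctionContinuous A J K).unit.app G).hom.app (op X) ≫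
        Φ.toPresheafFiber (F.obj X) x ((F.sheafPullback A J K).obj G).obj := by
  rw [Point.sheafFiberComapIso_hom_app]
  have e3 : (Φ.comap F hF).sheafFiber.map
      ((Φ.skyscraperSheafFunctorCompSheafPushforwardContinuous F hF A).hom.app
        (Φ.sheafFiber.obj ((F.sheafPullback A J K).obj G))) = 𝟙 _ :=
    (Φ.comap F hF).sheafFiber.map_id _
  rw [e3]
  erw [Category.id_comp]
  let Ψ := Φ.comap F hF
  let u := (F.sheafAdjunctionContinuous A J K).unit.app G
  let pG := (F.sheafPullback A J K).obj G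
  let su := Φ.skyscraperSheafAdjunction.unit.app pG
  let m2 := (F.sheafPushforwardContinuous A J K).map su
  have n1 : Ψ.toPresheafFiber X x G.obj ≫ Ψ.presheafFiber.map u.hom =
      u.hom.app (op X) ≫ Ψ.toPresheafFiber X x ((F.sheafPushforwardContinuous A J K).obj pG).obj :=
    Ψ.toPresheafFiber_naturality u.hom X x
  have n2 : Ψ.toPresheafFiber X x ((F.sheafPushforwardContinuous A J K).obj pG).obj ≫
      Ψ.presheafFiber.map m2.hom =
      m2.hom.app (op X) ≫ Ψ.toPresheafFiber X x (Ψ.skyscraperPresheaf (Φ.sheafFiber.obj pG)) :=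
    Ψ.toPresheafFiber_naturality m2.hom X x
  have n3 : Ψ.toPresheafFiber X x (Ψ.skyscraperPresheaf (Φ.sheafFiber.obj pG)) ≫
      Ψ.skyscraperSheafAdjunction.counit.app (Φ.sheafFiber.obj pG) =
      Pi.π (fun _ : Ψ.fiber.obj X => Φ.sheafFiber.obj pG) x :=
    toPresheafFiber_skyCounit A Ψ (Φ.sheafFiber.obj pG) X x
  have n4 : su.hom.app (op (F.obj X)) ≫
      Pi.π (fun _ : Φ.fiber.obj (F.obj X) => Φ.presheafFiber.obj pG.obj) x =
      Φ.toPresheafFiber (F.obj X) x pG.obj := skyUnit_app_π A Φ pG (F.obj X) x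
  change Ψ.toPresheafFiber X x G.obj ≫ Ψ.presheafFiber.map u.hom ≫
    Ψ.presheafFiber.map m2.hom ≫
    Ψ.skyscraperSheafAdjunction.counit.app (Φ.sheafFiber.obj pG) =
    u.hom.app (op X) ≫ Φ.toPresheafFiber (F.obj X) x pG.obj
  let a0 := Ψ.toPresheafFiber X x G.obj
  let b1 := Ψ.presheafFiber.map u.hom
  let b2 := Ψ.presheafFiber.map m2.hom
  let c3 := Ψ.skyscraperSheafAdjunction.counit.app (Φ.sheafFiber.obj pG)
  let a1 := Ψ.toPresheafFiber X x ((F.sheafPushforwardContinuous A J K).obj pG).obj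
  let a2 := Ψ.toPresheafFiber X x (Ψ.skyscraperPresheaf (Φ.sheafFiber.obj pG))
  let u0 := u.hom.app (op X)
  let v0 := m2.hom.app (op X)
  have s1 : a0 ≫ b1 ≫ b2 ≫ c3 = (a0 ≫ b1) ≫ b2 ≫ c3 := (Category.assoc _ _ _).symm
  have s2 : (a0 ≫ b1) ≫ b2 ≫ c3 = (u0 ≫ a1) ≫ b2 ≫ c3 :=
    congrArg (fun t => t ≫ b2 ≫ c3) n1
  have s3 : (u0 ≫ a1) ≫ b2 ≫ c3 = u0 ≫ (a1 ≫ b2) ≫ c3 :=
    (Category.assoc u0 a1 (b2 ≫ c3)).trans
      (congrArg (fun t => u0 ≫ t) (Category.assoc a1 b2 c3).symm)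
  have s4 : u0 ≫ (a1 ≫ b2) ≫ c3 = u0 ≫ (v0 ≫ a2) ≫ c3 :=
    congrArg (fun t => u0 ≫ t ≫ c3) n2
  have s5 : u0 ≫ (v0 ≫ a2) ≫ c3 = u0 ≫ v0 ≫ (a2 ≫ c3) :=
    congrArg (fun t => u0 ≫ t) (Category.assoc v0 a2 c3)
  have s6 : u0 ≫ v0 ≫ (a2 ≫ c3) =
      u0 ≫ v0 ≫ Pi.π (fun _ : Ψ.fiber.obj X => Φ.sheafFiber.obj pG) x :=
    congrArg (fun t => u0 ≫ v0 ≫ t) n3
  have s7 : u0 ≫ v0 ≫ Pi.π (fun _ : Ψ.fiber.obj X => Φ.sheafFiber.obj pG) x =
      u0 ≫ Φ.toPresheafFiber (F.obj X) x pG.obj :=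
    congrArg (fun t => u0 ≫ t) n4
  exact s1.trans (s2.trans (s3.trans (s4.trans (s5.trans (s6.trans s7)))))

end Groth.Agent.Helper1.PT
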