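import Mathlib
import Groth.Prelude.Def_EtCore

/-!
# Stalks of the inverse image of an étale sheaf (helper1)
-/

set_option autoImplicit false
set_option linter.unusedSectionVars false
set_option linter.style.haveILetI false

open CategoryTheory CategoryTheory.Limits AlgebraicGeometry Opposite

namespace Groth.Agent.Helper1.SHC

universe u w v₁ u₁

section Elements

variable {C : Type u₁} [Category.{v₁} C] {F₁ F₂ : C ⥤ Type w}

theorem inv_hom_apply (e : F₁ ≅ F₂) (c : C) (x : F₁.obj c) :
    e.inv.app c (e.hom.app c x) = x := by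
  have := ConcreteCategory.congr_hom (e.hom_inv_id_app c) x
  simpa using this

theorem hom_inv_apply (e : F₁ ≅ F₂) (c : C) (x : F₂.obj c) :
    e.hom.app c (e.inv.app c x) = x := by
  have := ConcreteCategory.congr_hom (e.inv_hom_id_app c) x
  simpa using this

theorem isEquivalence_map (e : F₁ ≅ F₂) : (CategoryOfElements.map e.hom).IsEquivalence := by
  haveI : (CategoryOfElements.map e.hom).Faithful := ⟨fun {t₁ t₂} a b h => by
    apply CategoryOfElements.ext
    have h' := congrArg (fun z => z.val) h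
    exact h'⟩
  haveI : (CategoryOfElements.map e.hom).Full := ⟨fun {t₁ t₂} k => by
    refine ⟨⟨k.1, ?_⟩, CategoryOfElements.ext _ _ _ rfl⟩
    have h1 : F₂.map k.1 (e.hom.app _ t₁.2) = e.hom.app _ t₂.2 := k.2
    have h2 : e.hom.app t₂.1 (F₁.map k.1 t₁.2) = F₂.map k.1 (e.hom.app _ t₁.2) :=
      NatTrans.naturality_apply e.hom k.1 t₁.2
    have h3 := congrArg (e.inv.app t₂.1) (h2.trans h1)
    rwa [inv_hom_apply, inv_hom_apply] at h3⟩
  haveI : (CategoryOfElements.map e.hom).EssSurj := ⟨fun s =>
    ⟨⟨s.1, e.inv.app s.1 s.2⟩, ⟨CategoryOfElements.isoMk _ _ (Iso.refl _) (by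
      change F₂.map (𝟙 _) (e.hom.app s.1 (e.inv.app s.1 s.2)) = s.2
      rw [hom_inv_apply, F₂.map_id]
      rfl)⟩⟩⟩
  exact { }

theorem initiallySmall_of_iso (e : F₁ ≅ F₂) [InitiallySmall.{w} F₁.Elements] :
    InitiallySmall.{w} F₂.Elements := by
  haveI := isEquivalence_map e
  exact initiallySmall_of_initial_of_initiallySmall (CategoryOfElements.map e.hom)

end Elements

end Groth.Agent.Helper1.SHC
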