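import Mathlib
import Groth.Prelude.Def_EtCore
import Groth.Agent.Lib.Helper1.SHC10

/-!
# Stalks of the inverse image of an étale sheaf, II (helper1)
-/

set_option autoImplicit false
set_option linter.unusedSectionVars false
set_option linter.style.haveILetI false

open CategoryTheory CategoryTheory.Limits AlgebraicGeometry Opposite

namespace Groth.Agent.Helper1.SHC

universe u

section

variable {X Y : Scheme.{u}} (f : X ⟶ Y) {Ω : Type u} [Field Ω] [IsSepClosed Ω]
  (ξ : Spec (CommRingCat.of Ω) ⟶ X)

theorem fiberEquiv_aux (V : Y.Etale) (tl : Spec (CommRingCat.of Ω) ⟶ pullback V.hom f)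
    (h1 : tl ≫ pullback.snd V.hom f = ξ) : (tl ≫ pullback.fst V.hom f) ≫ V.hom = ξ ≫ f := by
  rw [Category.assoc, pullback.condition, ← Category.assoc, h1]

set_option backward.isDefEq.respectTransparency.types false in
/-- points of `V ×_Y X` over `ξ` are points of `V` over `ξ ≫ f` -/
noncomputable def fiberEquiv (V : Y.Etale) :
    (EtCoh.bc f ⋙ (Scheme.pointSmallEtale ξ).fiber).obj V ≃
      (Scheme.pointSmallEtale (ξ ≫ f)).fiber.obj V where
  toFun t := (Over.homMk ((t.left : Spec (CommRingCat.of Ω) ⟶ pullback V.hom f) ≫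
      pullback.fst V.hom f) (fiberEquiv_aux f ξ V _ (Over.w t)) :
      Over.mk (ξ ≫ f) ⟶ (Scheme.Etale.forget Y).obj V)
  invFun s := (Over.homMk (pullback.lift (s.left : Spec (CommRingCat.of Ω) ⟶ V.left) ξ
      (Over.w s)) (pullback.lift_snd _ _ _) :
      Over.mk ξ ⟶ (Scheme.Etale.forget X).obj ((EtCoh.bc f).obj V))
  left_inv t := by
    apply Over.OverMorphism.ext
    have h1 : (t.left : Spec (CommRingCat.of Ω) ⟶ pullback V.hom f) ≫
      pullback.snd V.hom f = ξ := Over.w t
    apply pullback.hom_ext
    · exact pullback.lift_fst _ _ _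
    · exact (pullback.lift_snd _ _ _).trans h1.symm
  right_inv s := by
    apply Over.OverMorphism.ext
    exact pullback.lift_fst _ _ _

set_option backward.isDefEq.respectTransparency.types false in
/-- the fiber functor of the composite geometric point -/
noncomputable def fiberIso :
    EtCoh.bc f ⋙ (Scheme.pointSmallEtale ξ).fiber ≅ (Scheme.pointSmallEtale (ξ ≫ f)).fiber :=
  NatIso.ofComponents (fun V => (fiberEquiv f ξ V).toIso) (by
    intro V V' g
    ext t
    apply Over.OverMorphism.ext
    change (((t.left : Spec (CommRingCat.of Ω) ⟶ pullback V.hom f) ≫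
      (((EtCoh.bc f).map g).left : pullback V.hom f ⟶ pullback V'.hom f)) ≫
        pullback.fst V'.hom f) =
      ((t.left : Spec (CommRingCat.of Ω) ⟶ pullback V.hom f) ≫ pullback.fst V.hom f) ≫ g.left
    rw [Category.assoc, Category.assoc]
    congr 1
    exact (EtCoh.isPullback_bc_map f g).w)

theorem initiallySmall_comap :
    InitiallySmall.{u} (EtCoh.bc f ⋙ (Scheme.pointSmallEtale ξ).fiber).Elements :=
  initiallySmall_of_iso (fiberIso f ξ).symm

/-- the point of `Y_et` induced by `ξ` and base change along `f` -/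
noncomputable def comapPoint : GrothendieckTopology.Point.{u} Y.smallEtaleTopology :=
  haveI := initiallySmall_comap f ξ
  (Scheme.pointSmallEtale ξ).comap (EtCoh.bc f) (EtCoh.coverPreserving_bc f)

/-- it is isomorphic to the composite geometric point -/
noncomputable def pointIso : comapPoint f ξ ≅ Scheme.pointSmallEtale (ξ ≫ f) where
  hom := ⟨(fiberIso f ξ).inv⟩
  inv := ⟨(fiberIso f ξ).hom⟩
  hom_inv_id := by
    apply GrothendieckTopology.Point.hom_ext
    exact (fiberIso f ξ).hom_inv_id
  inv_hom_id := by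
    apply GrothendieckTopology.Point.hom_ext
    exact (fiberIso f ξ).inv_hom_id

theorem nonempty_stalk_pull_iso (G : EtCoh.Ab Y) :
    Nonempty ((EtCoh.stalk ξ).obj ((EtCoh.pull f).obj G) ≅ (EtCoh.stalk (ξ ≫ f)).obj G) := by
  haveI := initiallySmall_comap f ξ
  haveI : (EtCoh.push f).IsRightAdjoint := (EtCoh.pullPushAdj f).isRightAdjoint
  let e1 := ((Scheme.pointSmallEtale ξ).sheafFiberComapIso (EtCoh.bc f)
    (EtCoh.coverPreserving_bc f) AddCommGrpCat.{u + 1}).app G
  let i := pointIso f ξ
  let e2 : (Scheme.pointSmallEtale (ξ ≫ f)).sheafFiber.obj G ≅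
      (comapPoint f ξ).sheafFiber.obj G :=
    { hom := (GrothendieckTopology.Point.Hom.sheafFiber i.hom).app G
      inv := (GrothendieckTopology.Point.Hom.sheafFiber i.inv).app G
      hom_inv_id := by
        rw [← NatTrans.comp_app, ← GrothendieckTopology.Point.Hom.sheafFiber_comp, i.inv_hom_id,
          GrothendieckTopology.Point.Hom.sheafFiber_id]
        rfl
      inv_hom_id := by
        rw [← NatTrans.comp_app, ← GrothendieckTopology.Point.Hom.sheafFiber_comp, i.hom_inv_id,
          GrothendieckTopology.Point.Hom.sheafFiber_id]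
        rfl }
  exact ⟨e1.symm ≪≫ e2.symm⟩

end

end Groth.Agent.Helper1.SHC
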