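import Mathlib
import Groth.Prelude.Def_EtCore
import Groth.Agent.Lib.Helper1.SHC5
import Groth.Agent.Lib.Helper1.SHC11

/-!
# Refined stalk criteria (enough geometric points) and the natural stalk-of-pullback iso (helper1)
-/

set_option autoImplicit false
set_option linter.unusedSectionVars false
set_option linter.style.haveILetI false

open CategoryTheory CategoryTheory.Limits AlgebraicGeometry Opposite

namespace Groth.Agent.Helper1.SHC

universe u v' u' w'

section Crit

variable {X : Scheme.{u}}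
  {A : Type u'} [Category.{v'} A] [HasColimitsOfSize.{u, u} A]
  {FC : A → A → Type*} {CC : A → Type w'}
  [∀ (X Y : A), FunLike (FC X Y) (CC X) (CC Y)]
  [ConcreteCategory.{w'} A FC]
  [PreservesFilteredColimitsOfSize.{u, u} (forget A)]

theorem isLocallyInjective_of_enough {P Q : X.Etaleᵒᵖ ⥤ A} (f : P ⟶ Q)
    (h : ∀ (U : X.Etale) (x : U.left), ∃ (Ω : Type u) (_ : Field Ω) (_ : IsSepClosed Ω)
      (ξ : Spec (CommRingCat.of Ω) ⟶ X) (y : (Scheme.pointSmallEtale ξ).fiber.obj U),
      (y.left : Spec (CommRingCat.of Ω) ⟶ U.left).base (default : Spec (CommRingCat.of Ω)) = x ∧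
      Function.Injective ((Scheme.pointSmallEtale ξ).presheafFiber.map f)) :
    Presheaf.IsLocallyInjective X.smallEtaleTopology f := by
  constructor
  intro U s t hst
  apply mem_of_pointwise
  intro x
  obtain ⟨Ω, _, _, ξ, y, hy, hinj⟩ := h U.unop x
  have h1 : (Scheme.pointSmallEtale ξ).toPresheafFiber U.unop y P s =
      (Scheme.pointSmallEtale ξ).toPresheafFiber U.unop y P t := by
    apply hinj
    rw [(Scheme.pointSmallEtale ξ).toPresheafFiber_naturality_apply,
      (Scheme.pointSmallEtale ξ).toPresheafFiber_naturality_apply]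
    exact congrArg _ hst
  obtain ⟨V, g, v, hv, hg⟩ := ((Scheme.pointSmallEtale ξ).toPresheafFiber_eq_iff' _ y s t).1 h1
  refine ⟨V, g, (v.left : Spec (CommRingCat.of Ω) ⟶ V.left).base
    (default : Spec (CommRingCat.of Ω)), hg, ?_⟩
  rw [← hy, ← hv]
  rfl

theorem isLocallySurjective_of_enough {P Q : X.Etaleᵒᵖ ⥤ A} (f : P ⟶ Q)
    (h : ∀ (U : X.Etale) (x : U.left), ∃ (Ω : Type u) (_ : Field Ω) (_ : IsSepClosed Ω)
      (ξ : Spec (CommRingCat.of Ω) ⟶ X) (y : (Scheme.pointSmallEtale ξ).fiber.obj U),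
      (y.left : Spec (CommRingCat.of Ω) ⟶ U.left).base (default : Spec (CommRingCat.of Ω)) = x ∧
      Function.Surjective ((Scheme.pointSmallEtale ξ).presheafFiber.map f)) :
    Presheaf.IsLocallySurjective X.smallEtaleTopology f := by
  constructor
  intro U t
  apply mem_of_pointwise
  intro x
  obtain ⟨Ω, _, _, ξ, y, hy, hsurj⟩ := h U x
  obtain ⟨p, hp⟩ := hsurj ((Scheme.pointSmallEtale ξ).toPresheafFiber U y Q t)
  obtain ⟨V, v, s, rfl⟩ := (Scheme.pointSmallEtale ξ).toPresheafFiber_jointly_surjective p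
  rw [(Scheme.pointSmallEtale ξ).toPresheafFiber_naturality_apply] at hp
  let a : (Scheme.pointSmallEtale ξ).fiber.Elements := ⟨V, v⟩
  let b : (Scheme.pointSmallEtale ξ).fiber.Elements := ⟨U, y⟩
  let c := IsCofiltered.min a b
  let g₁ : c ⟶ a := IsCofiltered.minToLeft a b
  let g₂ : c ⟶ b := IsCofiltered.minToRight a b
  have e₁ : (Scheme.pointSmallEtale ξ).fiber.map g₁.val c.2 = v := g₁.property
  have e₂ : (Scheme.pointSmallEtale ξ).fiber.map g₂.val c.2 = y := g₂.property
  have hp' : (Scheme.pointSmallEtale ξ).toPresheafFiber c.1 c.2 Q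
        (Q.map g₁.val.op (f.app (op V) s)) =
      (Scheme.pointSmallEtale ξ).toPresheafFiber c.1 c.2 Q (Q.map g₂.val.op t) := by
    rw [(Scheme.pointSmallEtale ξ).toPresheafFiber_w_apply,
      (Scheme.pointSmallEtale ξ).toPresheafFiber_w_apply, e₁, e₂]
    exact hp
  obtain ⟨W', k, w', hw', hk⟩ :=
    ((Scheme.pointSmallEtale ξ).toPresheafFiber_eq_iff' _ c.2 _ _).1 hp'
  refine ⟨W', k ≫ g₂.val, (w'.left : Spec (CommRingCat.of Ω) ⟶ W'.left).base
    (default : Spec (CommRingCat.of Ω)), ⟨P.map (k ≫ g₁.val).op s, ?_⟩, ?_⟩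
  · rw [NatTrans.naturality_apply]
    rw [op_comp, Q.map_comp, ConcreteCategory.comp_apply, hk, ← ConcreteCategory.comp_apply,
      ← Q.map_comp, ← op_comp]
  · have hcomp : (Scheme.pointSmallEtale ξ).fiber.map (k ≫ g₂.val) w' = y := by
      rw [Functor.map_comp_apply]
      exact (congrArg ((Scheme.pointSmallEtale ξ).fiber.map g₂.val) hw').trans e₂
    exact (congrArg (fun z : (Scheme.pointSmallEtale ξ).fiber.obj U =>
      (z.left : Spec (CommRingCat.of Ω) ⟶ U.left).base (default : Spec (CommRingCat.of Ω)))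
        hcomp).trans hy

/-- two morphisms of presheaves into a separated presheaf which agree on enough stalks agree -/
theorem eq_of_enough {P Q : X.Etaleᵒᵖ ⥤ A} (f g : P ⟶ Q)
    (hQ : Presieve.IsSeparated X.smallEtaleTopology (Q ⋙ forget A))
    (h : ∀ (U : X.Etale) (x : U.left), ∃ (Ω : Type u) (_ : Field Ω) (_ : IsSepClosed Ω)
      (ξ : Spec (CommRingCat.of Ω) ⟶ X) (y : (Scheme.pointSmallEtale ξ).fiber.obj U),
      (y.left : Spec (CommRingCat.of Ω) ⟶ U.left).base (default : Spec (CommRingCat.of Ω)) = x ∧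
      ∀ p, (Scheme.pointSmallEtale ξ).presheafFiber.map f p =
        (Scheme.pointSmallEtale ξ).presheafFiber.map g p) :
    f = g := by
  apply NatTrans.ext
  funext U
  apply ConcreteCategory.hom_ext
  intro s
  refine (hQ (Presheaf.equalizerSieve (F := Q) (X := U) (f.app U s) (g.app U s)) ?_).ext
    (fun Y k hk => hk)
  apply mem_of_pointwise
  intro x
  obtain ⟨Ω, _, _, ξ, y, hy, heq⟩ := h U.unop x
  have h1 : (Scheme.pointSmallEtale ξ).toPresheafFiber U.unop y Q (f.app U s) =
      (Scheme.pointSmallEtale ξ).toPresheafFiber U.unop y Q (g.app U s) := by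
    have := heq ((Scheme.pointSmallEtale ξ).toPresheafFiber U.unop y P s)
    rw [(Scheme.pointSmallEtale ξ).toPresheafFiber_naturality_apply,
      (Scheme.pointSmallEtale ξ).toPresheafFiber_naturality_apply] at this
    exact this
  obtain ⟨V, k, v, hv, hk⟩ :=
    ((Scheme.pointSmallEtale ξ).toPresheafFiber_eq_iff' _ y _ _).1 h1
  refine ⟨V, k, (v.left : Spec (CommRingCat.of Ω) ⟶ V.left).base
    (default : Spec (CommRingCat.of Ω)), hk, ?_⟩
  rw [← hy, ← hv]
  rfl

end Crit

end Groth.Agent.Helper1.SHC
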