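import Mathlib
import Groth.Prelude.Def_EtCore
import Groth.Prelude.Def_SGA4b
import Groth.Agent.Lib.Helper1.SHC12

/-!
# Natural stalk-of-pullback iso; consequences for surjective morphisms (helper1)
-/

set_option autoImplicit false
set_option linter.unusedSectionVars false
set_option linter.style.haveILetI false

open CategoryTheory CategoryTheory.Limits AlgebraicGeometry Opposite

namespace Groth.Agent.Helper1.SHC

universe u v' u'

/-- isomorphic points have isomorphic fibre functors -/
noncomputable def sheafFiberIsoOfIso (A : Type u') [Category.{v'} A] [HasColimitsOfSize.{u, u} A]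
    {C : Type*} [Category C] {J : GrothendieckTopology C}
    {Φ₁ Φ₂ : GrothendieckTopology.Point.{u} J} (i : Φ₁ ≅ Φ₂) :
    Φ₂.sheafFiber (A := A) ≅ Φ₁.sheafFiber where
  hom := GrothendieckTopology.Point.Hom.sheafFiber i.hom
  inv := GrothendieckTopology.Point.Hom.sheafFiber i.inv
  hom_inv_id := by
    rw [← GrothendieckTopology.Point.Hom.sheafFiber_comp, i.inv_hom_id,
      GrothendieckTopology.Point.Hom.sheafFiber_id]
  inv_hom_id := by
    rw [← GrothendieckTopology.Point.Hom.sheafFiber_comp, i.hom_inv_id,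
      GrothendieckTopology.Point.Hom.sheafFiber_id]

section Pull

variable {X Y : Scheme.{u}} (f : X ⟶ Y) {Ω : Type u} [Field Ω] [IsSepClosed Ω]
  (ξ : Spec (CommRingCat.of Ω) ⟶ X)
  (A : Type u') [Category.{v'} A] [HasProducts.{u} A] [HasColimitsOfSize.{u, u} A]
  [((EtCoh.bc f).sheafPushforwardContinuous A Y.smallEtaleTopology
    X.smallEtaleTopology).IsRightAdjoint]

/-- the stalk of the inverse image, as a natural isomorphism -/
noncomputable def stalkPullIso :
    (EtCoh.bc f).sheafPullback A Y.smallEtaleTopology X.smallEtaleTopology ⋙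
      (Scheme.pointSmallEtale ξ).sheafFiber ≅ (Scheme.pointSmallEtale (ξ ≫ f)).sheafFiber :=
  haveI := initiallySmall_comap f ξ
  ((Scheme.pointSmallEtale ξ).sheafFiberComapIso (EtCoh.bc f)
    (EtCoh.coverPreserving_bc f) A).symm ≪≫ (sheafFiberIsoOfIso A (pointIso f ξ)).symm

theorem stalk_map_eq {F G : Sheaf Y.smallEtaleTopology A} (v : F ⟶ G) :
    (Scheme.pointSmallEtale (ξ ≫ f)).sheafFiber.map v =
      (stalkPullIso f ξ A).inv.app F ≫
        (Scheme.pointSmallEtale ξ).sheafFiber.map
          (((EtCoh.bc f).sheafPullback A Y.smallEtaleTopology X.smallEtaleTopology).map v) ≫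
        (stalkPullIso f ξ A).hom.app G := by
  have h := (stalkPullIso f ξ A).inv.naturality v
  rw [← Category.assoc, ← Functor.comp_map, ← h, Category.assoc, Iso.inv_hom_id_app,
    Category.comp_id]

end Pull

set_option backward.isDefEq.respectTransparency.types false in
theorem exists_geom_point_of_surjective {X' X : Scheme.{u}} (f : X' ⟶ X) [Surjective f]
    (U : X.Etale) (x : U.left) :
    ∃ (Ω : Type u) (_ : Field Ω) (_ : IsSepClosed Ω) (ξ' : Spec (CommRingCat.of Ω) ⟶ X')
      (y : (Scheme.pointSmallEtale (ξ' ≫ f)).fiber.obj U),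
      (y.left : Spec (CommRingCat.of Ω) ⟶ U.left).base (default : Spec (CommRingCat.of Ω)) = x := by
  obtain ⟨x', hx'⟩ := f.surjective (U.hom.base x)
  obtain ⟨z, hz1, hz2⟩ := Scheme.Pullback.exists_preimage_pullback (f := U.hom) (g := f)
    x x' hx'.symm
  obtain ⟨Ω, i1, i2, ξ', y', hy'⟩ := exists_geom_point ((EtCoh.bc f).obj U) z
  refine ⟨Ω, i1, i2, ξ', fiberEquiv f ξ' U y', ?_⟩
  change (pullback.fst U.hom f).base ((y'.left : Spec (CommRingCat.of Ω) ⟶
    pullback U.hom f).base (default : Spec (CommRingCat.of Ω))) = x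
  rw [hy', hz1]

end Groth.Agent.Helper1.SHC
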