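import Mathlib
import Groth.Prelude.Def_EtCore
import Groth.Agent.Lib.Helper1.SHC5

/-!
# The largest open on which a section of an étale sheaf vanishes (helper1)
-/

set_option autoImplicit false
set_option linter.unusedSectionVars false
set_option linter.style.haveILetI false

open CategoryTheory CategoryTheory.Limits AlgebraicGeometry Opposite

namespace Groth.Agent.Helper1.SHC

universe u

/-- a section of an abelian étale sheaf which vanishes on a covering sieve vanishes -/
theorem eq_of_equalizerSieve_mem {S : Scheme.{u}} (F : EtCoh.Ab S) (V : S.Etale)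
    (a b : F.obj.obj (op V))
    (h : Presheaf.equalizerSieve (F := F.obj) (X := op V) a b ∈ S.smallEtaleTopology V) :
    a = b := by
  have hsep : Presieve.IsSeparated S.smallEtaleTopology (F.obj ⋙ forget AddCommGrpCat.{u + 1}) := by
    apply Presieve.IsSheaf.isSeparated
    rw [← isSheaf_iff_isSheaf_of_type]
    exact ((sheafCompose S.smallEtaleTopology (forget AddCommGrpCat.{u + 1})).obj F).2
  exact (hsep _ h).ext (fun Y f hf => hf)

theorem exists_vanishing_open {S : Scheme.{u}} (F : EtCoh.Ab S) (U : S.Etale)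
    (σ : EtCoh.sect F U) :
    ∃ W : U.left.Opens, ∀ (V : S.Etale) (φ : V ⟶ U),
      F.obj.map φ.op σ = 0 ↔ Set.range φ.left.base ⊆ (W : Set U.left) := by
  let W : U.left.Opens :=
    ⟨⋃ (V : S.Etale) (φ : V ⟶ U) (_ : F.obj.map φ.op σ = 0), Set.range φ.left.base, by
      apply isOpen_iUnion; intro V; apply isOpen_iUnion; intro φ; apply isOpen_iUnion; intro _
      exact φ.left.isOpenMap.isOpen_range⟩
  refine ⟨W, fun V φ => ⟨fun h x hx => ?_, fun h => ?_⟩⟩
  · exact Set.mem_iUnion.2 ⟨V, Set.mem_iUnion₂.2 ⟨φ, h, hx⟩⟩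
  · apply eq_of_equalizerSieve_mem F V
    apply mem_of_pointwise
    intro x
    have hx : φ.left.base x ∈ (W : Set U.left) := h ⟨x, rfl⟩
    obtain ⟨V₁, hV₁⟩ := Set.mem_iUnion.1 hx
    obtain ⟨φ₁, hφ₁, ⟨v₁, hv₁⟩⟩ := Set.mem_iUnion₂.1 hV₁
    obtain ⟨z, hz1, -⟩ := Scheme.Pullback.exists_preimage_pullback (f := φ.left) (g := φ₁.left)
      x v₁ hv₁.symm
    let V' : S.Etale := Scheme.Etale.mk (pullback.fst φ.left φ₁.left ≫ V.hom)
    let k : V' ⟶ V := MorphismProperty.Over.homMk (pullback.fst φ.left φ₁.left) rfl trivial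
    have hw : pullback.snd φ.left φ₁.left ≫ V₁.hom = pullback.fst φ.left φ₁.left ≫ V.hom := by
      have e1 : φ₁.left ≫ U.hom = V₁.hom := Over.w φ₁.hom
      have e2 : φ.left ≫ U.hom = V.hom := Over.w φ.hom
      rw [← e1, ← e2, ← Category.assoc, ← Category.assoc, pullback.condition]
    let k₁ : V' ⟶ V₁ := MorphismProperty.Over.homMk (pullback.snd φ.left φ₁.left) hw trivial
    have hk : k ≫ φ = k₁ ≫ φ₁ := by
      apply MorphismProperty.Over.Hom.ext
      exact pullback.condition
    refine ⟨V', k, z, ?_, hz1⟩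
    change F.obj.map k.op (F.obj.map φ.op σ) = F.obj.map k.op 0
    rw [map_zero, ← ConcreteCategory.comp_apply, ← F.obj.map_comp, ← op_comp, hk, op_comp,
      F.obj.map_comp, ConcreteCategory.comp_apply, hφ₁, map_zero]

end Groth.Agent.Helper1.SHC
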