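import Mathlib
import Groth.Prelude.Def_EtCore
import Groth.Agent.Lib.Helper1.PT1
import Groth.Agent.Lib.Helper1.SHC13
import Groth.Agent.Lib.Helper1.SHC9
import Groth.Agent.Lib.Helper1.CI6

/-!
# The locus where two sections agree is open and commutes with base change (helper1)
-/

set_option autoImplicit false
set_option linter.unusedSectionVars false
set_option linter.style.haveILetI false

open CategoryTheory CategoryTheory.Limits AlgebraicGeometry Opposite

namespace Groth.Agent.Helper1.PT

universe u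

open Groth.Agent.Helper1.SHC Groth.Agent.Helper1.CI

set_option backward.isDefEq.respectTransparency.types false in
/-- germ compatibility for the unit of `f^{-1} ⊣ f_*` at a geometric point -/
theorem germ_unit_eq_zero {T S : Scheme.{u}} (f : T ⟶ S) (F : EtCoh.Ab S) (V : S.Etale)
    (σ : EtCoh.sect F V)
    (hσ : ((EtCoh.pullPushAdj f).unit.app F).hom.app (op V) σ = 0)
    {Ω : Type u} [Field Ω] [IsSepClosed Ω] (ξ' : Spec (CommRingCat.of Ω) ⟶ T)
    (y' : (Scheme.pointSmallEtale ξ').fiber.obj ((EtCoh.bc f).obj V)) :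
    ∃ (V' : S.Etale) (g : V' ⟶ V)
      (v : (Scheme.pointSmallEtale ξ').fiber.obj ((EtCoh.bc f).obj V')),
      (Scheme.pointSmallEtale ξ').fiber.map ((EtCoh.bc f).map g) v = y' ∧
        F.obj.map g.op σ = 0 := by
  haveI := preservesFilteredColimits_forget.{u}
  haveI := initiallySmall_comap f ξ'
  haveI : (EtCoh.push f).IsRightAdjoint := (EtCoh.pullPushAdj f).isRightAdjoint
  let Φ := Scheme.pointSmallEtale ξ'
  let Ψ := Φ.comap (EtCoh.bc f) (EtCoh.coverPreserving_bc f)
  have key := toPresheafFiber_comapIso_hom Φ (EtCoh.bc f) (EtCoh.coverPreserving_bc f)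
    AddCommGrpCat.{u + 1} F V y'
  have k2 := ConcreteCategory.congr_hom key σ
  have k2' : ((Φ.sheafFiberComapIso (EtCoh.bc f) (EtCoh.coverPreserving_bc f)
      AddCommGrpCat.{u + 1}).hom.app F) (Ψ.toPresheafFiber V y' F.obj σ) =
      Φ.toPresheafFiber ((EtCoh.bc f).obj V) y' ((EtCoh.pull f).obj F).obj
        (((EtCoh.pullPushAdj f).unit.app F).hom.app (op V) σ) :=
    (ConcreteCategory.comp_apply _ _ _).symm.trans (k2.trans (ConcreteCategory.comp_apply _ _ _))
  have k3 : ((Φ.sheafFiberComapIso (EtCoh.bc f) (EtCoh.coverPreserving_bc f)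
      AddCommGrpCat.{u + 1}).hom.app F) (Ψ.toPresheafFiber V y' F.obj σ) = 0 :=
    k2'.trans ((congrArg _ hσ).trans (map_zero _))
  have inj : Function.Injective ((Φ.sheafFiberComapIso (EtCoh.bc f) (EtCoh.coverPreserving_bc f)
      AddCommGrpCat.{u + 1}).hom.app F) :=
    (ConcreteCategory.bijective_of_isIso _).1
  have k4 : Ψ.toPresheafFiber V y' F.obj σ = Ψ.toPresheafFiber V y' F.obj 0 := by
    apply inj
    exact k3.trans ((congrArg _ (map_zero _)).trans (map_zero _)).symm
  obtain ⟨V', g, v, hv, hg⟩ := (Ψ.toPresheafFiber_eq_iff' V y' σ 0).1 k4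
  exact ⟨V', g, v, hv, hg.trans (map_zero _)⟩

set_option backward.isDefEq.respectTransparency.types false in
theorem main0634 {S : Scheme.{u}} (F : EtCoh.Ab S) (s t : EtCoh.sect F (EtCoh.top S)) :
    ∃ W : S.Opens, ∀ (T : Scheme.{u}) (f : T ⟶ S),
      Set.range f.base ⊆ (W : Set S) ↔
        ((EtCoh.pullPushAdj f).unit.app F).hom.app (op (EtCoh.top S)) s =
          ((EtCoh.pullPushAdj f).unit.app F).hom.app (op (EtCoh.top S)) t := by
  obtain ⟨W₀, hW⟩ := exists_vanishing_open F (EtCoh.top S) (s - t)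
  let W : S.Opens := W₀
  refine ⟨W, fun T f => ⟨fun hf => ?_, fun heq => ?_⟩⟩
  · let u := (EtCoh.pullPushAdj f).unit.app F
    let Wt : S.Etale := Scheme.Etale.mk W.ι
    let ι : Wt ⟶ EtCoh.top S := MorphismProperty.Over.homMk W.ι (Category.comp_id _) trivial
    have h0 : F.obj.map ι.op (s - t) = 0 := by
      rw [hW Wt ι]
      rintro _ ⟨a, rfl⟩
      exact a.2
    have h1 : F.obj.map ι.op s = F.obj.map ι.op t := by
      rw [map_sub] at h0
      exact sub_eq_zero.1 h0
    apply eq_of_equalizerSieve_mem ((EtCoh.pull f).obj F) ((EtCoh.bc f).obj (EtCoh.top S))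
    apply mem_of_pointwise
    intro x
    let fstT : pullback (𝟙 S) f ⟶ S := pullback.fst (𝟙 S) f
    let sndT : pullback (𝟙 S) f ⟶ T := pullback.snd (𝟙 S) f
    have hx : fstT.base x ∈ (W : Set S) := by
      have e1 : fstT.base x = f.base (sndT.base x) := by
        have e2 := congrArg (fun φ : pullback (𝟙 S) f ⟶ S => φ.base x)
          (pullback.condition (f := 𝟙 S) (g := f))
        exact e2
      rw [e1]
      exact hf ⟨_, rfl⟩
    have sq := EtCoh.isPullback_bc_map f ι
    obtain ⟨z, hz1, -⟩ := Scheme.Pullback.exists_preimage_pullback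
      (f := fstT) (g := W.ι) x ⟨fstT.base x, hx⟩ rfl
    refine ⟨(EtCoh.bc f).obj Wt, (EtCoh.bc f).map ι, sq.isoPullback.inv.base z, ?_, ?_⟩
    · change ((EtCoh.pull f).obj F).obj.map ((EtCoh.bc f).map ι).op (u.hom.app _ s) =
        ((EtCoh.pull f).obj F).obj.map ((EtCoh.bc f).map ι).op (u.hom.app _ t)
      have n := u.hom.naturality ι.op
      have n1 := ConcreteCategory.congr_hom n s
      have n2 := ConcreteCategory.congr_hom n t
      rw [ConcreteCategory.comp_apply, ConcreteCategory.comp_apply] at n1 n2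
      exact n1.symm.trans ((congrArg _ h1).trans n2)
    · rw [← hz1, ← Scheme.Hom.comp_apply, IsPullback.isoPullback_inv_fst]
      rfl
  · rintro _ ⟨x, rfl⟩
    have hσ : ((EtCoh.pullPushAdj f).unit.app F).hom.app (op (EtCoh.top S)) (s - t) = 0 := by
      rw [map_sub, heq, sub_self]
    obtain ⟨z, hz1, hz2⟩ := Scheme.Pullback.exists_preimage_pullback
      (f := 𝟙 S) (g := f) (f.base x) x rfl
    obtain ⟨Ω, i1, i2, ξ', y', hy'⟩ := exists_geom_point ((EtCoh.bc f).obj (EtCoh.top S)) z
    obtain ⟨V', g, v, hv, hg⟩ := germ_unit_eq_zero f F (EtCoh.top S) (s - t) hσ ξ' y'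
    have hsub := (hW V' g).1 hg
    let vl : Spec (CommRingCat.of Ω) ⟶ pullback V'.hom f := v.left
    let p : ↥(pullback V'.hom f) := vl.base (default : Spec (CommRingCat.of Ω))
    let m : pullback V'.hom f ⟶ pullback (𝟙 S) f := ((EtCoh.bc f).map g).left
    have e1 : m.base p = z := by
      rw [← hy', ← hv]
      rfl
    have e2 : m ≫ pullback.fst (𝟙 S) f = pullback.fst V'.hom f ≫ g.left := bc_map_fst f g
    have e3 : (pullback.fst (𝟙 S) f).base (m.base p) =
        g.left.base ((pullback.fst V'.hom f).base p) :=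
      congrArg (fun φ : pullback V'.hom f ⟶ S => φ.base p) e2
    rw [e1, hz1] at e3
    have : f.base x ∈ Set.range g.left.base := ⟨_, e3.symm⟩
    exact hsub this

end Groth.Agent.Helper1.PT
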