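import Mathlib
import Groth.Prelude.Def_EtCore
import Groth.Prelude.Def_SGA4b
import Groth.Agent.Lib.Helper1.SHC13

/-!
# Inverse image along a surjective morphism is faithful and conservative; unit is mono (helper1)
-/

set_option autoImplicit false
set_option linter.unusedSectionVars false
set_option linter.style.haveILetI false

open CategoryTheory CategoryTheory.Limits AlgebraicGeometry Opposite

namespace Groth.Agent.Helper1.SHC

universe u

section Sets

variable {X' X : Scheme.{u}} (f : X' ⟶ X) [Surjective f]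

theorem faithful_pullSh : (EtDesc.pullSh f).Faithful := by
  haveI := preservesFilteredColimits_forget_type.{u}
  constructor
  intro F G v w hvw
  have hQ : Presieve.IsSeparated X.smallEtaleTopology (G.obj ⋙ forget (Type (u + 1))) := by
    apply Presieve.IsSheaf.isSeparated
    rw [← isSheaf_iff_isSheaf_of_type]
    exact ((sheafCompose X.smallEtaleTopology (forget (Type (u + 1)))).obj G).2
  apply Sheaf.hom_ext
  apply eq_of_enough v.hom w.hom hQ
  intro U x
  obtain ⟨Ω, i1, i2, ξ', y, hy⟩ := exists_geom_point_of_surjective f U x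
  refine ⟨Ω, i1, i2, ξ' ≫ f, y, hy, ?_⟩
  intro p
  have h1 := stalk_map_eq f ξ' (Type (u + 1)) v
  have h2 := stalk_map_eq f ξ' (Type (u + 1)) w
  have hvw' : ((EtCoh.bc f).sheafPullback (Type (u + 1)) X.smallEtaleTopology
      X'.smallEtaleTopology).map v = ((EtCoh.bc f).sheafPullback (Type (u + 1))
      X.smallEtaleTopology X'.smallEtaleTopology).map w := hvw
  rw [hvw', ← h2] at h1
  exact ConcreteCategory.congr_hom h1 p

theorem reflectsIso_pullSh : (EtDesc.pullSh f).ReflectsIsomorphisms := by
  haveI := preservesFilteredColimits_forget_type.{u}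
  constructor
  intro F G v hv
  have key : ∀ (U : X.Etale) (x : U.left), ∃ (Ω : Type u) (_ : Field Ω) (_ : IsSepClosed Ω)
      (ξ : Spec (CommRingCat.of Ω) ⟶ X) (y : (Scheme.pointSmallEtale ξ).fiber.obj U),
      (y.left : Spec (CommRingCat.of Ω) ⟶ U.left).base (default : Spec (CommRingCat.of Ω)) = x ∧
      Function.Bijective ((Scheme.pointSmallEtale ξ).presheafFiber.map v.hom) := by
    intro U x
    obtain ⟨Ω, i1, i2, ξ', y, hy⟩ := exists_geom_point_of_surjective f U x
    refine ⟨Ω, i1, i2, ξ' ≫ f, y, hy, ?_⟩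
    have h1 := stalk_map_eq f ξ' (Type (u + 1)) v
    haveI : IsIso (((EtCoh.bc f).sheafPullback (Type (u + 1)) X.smallEtaleTopology
      X'.smallEtaleTopology).map v) := hv
    have h3 : IsIso ((Scheme.pointSmallEtale (ξ' ≫ f)).sheafFiber.map v) := by
      rw [h1]; infer_instance
    exact (isIso_iff_bijective _).1 h3
  haveI : Sheaf.IsLocallyInjective v := isLocallyInjective_of_enough v.hom (fun U x => by
    obtain ⟨Ω, i1, i2, ξ, y, hy, hb⟩ := key U x
    exact ⟨Ω, i1, i2, ξ, y, hy, hb.1⟩)
  haveI : Sheaf.IsLocallySurjective v := isLocallySurjective_of_enough v.hom (fun U x => by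
    obtain ⟨Ω, i1, i2, ξ, y, hy, hb⟩ := key U x
    exact ⟨Ω, i1, i2, ξ, y, hy, hb.2⟩)
  haveI : Mono v := Sheaf.mono_of_isLocallyInjective v
  haveI : Epi v := (Sheaf.isLocallySurjective_iff_epi v).mp inferInstance
  exact isIso_of_mono_of_epi v

end Sets

section Ab

variable {Y Y' : Scheme.{u}} (g : Y' ⟶ Y) [Surjective g]

theorem mono_unit_of_surjective (F : EtCoh.Ab Y) :
    Mono ((EtCoh.pullPushAdj g).unit.app F) := by
  haveI := preservesFilteredColimits_forget.{u}
  haveI : Sheaf.IsLocallyInjective ((EtCoh.pullPushAdj g).unit.app F) := by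
    apply isLocallyInjective_of_enough
    intro U x
    obtain ⟨Ω, i1, i2, ξ', y, hy⟩ := exists_geom_point_of_surjective g U x
    refine ⟨Ω, i1, i2, ξ' ≫ g, y, hy, ?_⟩
    have h1 := stalk_map_eq g ξ' AddCommGrpCat.{u + 1} ((EtCoh.pullPushAdj g).unit.app F)
    have hsplit : (EtCoh.pull g).map ((EtCoh.pullPushAdj g).unit.app F) ≫
        (EtCoh.pullPushAdj g).counit.app ((EtCoh.pull g).obj F) = 𝟙 _ :=
      (EtCoh.pullPushAdj g).left_triangle_components F
    haveI : IsSplitMono ((EtCoh.pull g).map ((EtCoh.pullPushAdj g).unit.app F)) :=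
      IsSplitMono.mk' ⟨_, hsplit⟩
    have h3 : Mono ((Scheme.pointSmallEtale (ξ' ≫ g)).sheafFiber.map
        ((EtCoh.pullPushAdj g).unit.app F)) := by
      rw [h1]
      infer_instance
    exact (AddCommGrpCat.mono_iff_injective _).1 h3
  exact Sheaf.mono_of_isLocallyInjective _

end Ab

end Groth.Agent.Helper1.SHC
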