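import Mathlib
import Groth.Prelude.Def_EtCore
import Groth.Agent.Lib.Helper1.FP7
import Groth.Agent.Lib.Helper1.PT2
import Groth.Agent.Lib.Helper1.SHC14

/-!
# Base change for direct images along finite morphisms (degree zero)
-/

set_option autoImplicit false
set_option linter.unusedSectionVars false
set_option linter.style.haveILetI false
open CategoryTheory CategoryTheory.Limits AlgebraicGeometry Opposite
universe u

namespace Groth.Agent.Helper1.FP

open Groth.Agent.Helper1.ELR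

section BC

variable {X Y X' Y' : Scheme.{u}} (f : X ⟶ Y) (g : Y' ⟶ Y) (f' : X' ⟶ Y') (g' : X' ⟶ X)
  (w : g' ≫ f = f' ≫ g)

/-- the comparison `X' ×_{Y'} (Y' ×_Y V) ⟶ X' ×_X (X ×_Y V)` -/
noncomputable def ιBC (V : Y.Etale) :
    (EtCoh.bc f').obj ((EtCoh.bc g).obj V) ⟶ (EtCoh.bc g').obj ((EtCoh.bc f).obj V) :=
  (MorphismProperty.Over.pullbackComp (P := EtCoh.etaleMP) (Q := ⊤) f' g).inv.app V ≫
    (MorphismProperty.Over.pullbackCongr (P := EtCoh.etaleMP) (Q := ⊤) w).inv.app V ≫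
    (MorphismProperty.Over.pullbackComp (P := EtCoh.etaleMP) (Q := ⊤) g' f).hom.app V

/-- the adjoint of the base change map -/
noncomputable def θBC (F : EtCoh.Ab X) :
    (EtCoh.push f).obj F ⟶ (EtCoh.push g).obj ((EtCoh.push f').obj ((EtCoh.pull g').obj F)) :=
  (EtCoh.push f).map ((EtCoh.pullPushAdj g').unit.app F) ≫ (EtCoh.pushComp f g').hom.app _ ≫
      (EtCoh.pushCongr w).hom.app _ ≫ (EtCoh.pushComp g f').inv.app _

theorem unit_comp_baseChange0 (F : EtCoh.Ab X) :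
    (EtCoh.pullPushAdj g).unit.app _ ≫ (EtCoh.push g).map (EtCoh.baseChange0 f g f' g' w F) =
      θBC f g f' g' w F :=
  ((EtCoh.pullPushAdj g).homEquiv_unit _ _ _).symm.trans (Equiv.apply_symm_apply _ _)

set_option backward.isDefEq.respectTransparency.types false in
theorem θBC_app (F : EtCoh.Ab X) (V : Y.Etale) (σ : F.obj.obj (op ((EtCoh.bc f).obj V))) :
    (θBC f g f' g' w F).hom.app (op V) σ =
      ((EtCoh.pull g').obj F).obj.map (ιBC f g f' g' w V).op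
        (((EtCoh.pullPushAdj g').unit.app F).hom.app (op ((EtCoh.bc f).obj V)) σ) := by
  let a : (EtCoh.bc (g' ≫ f)).obj V ⟶ (EtCoh.bc g').obj ((EtCoh.bc f).obj V) :=
    (MorphismProperty.Over.pullbackComp (P := EtCoh.etaleMP) (Q := ⊤) g' f).hom.app V
  let b : (EtCoh.bc (f' ≫ g)).obj V ⟶ (EtCoh.bc (g' ≫ f)).obj V :=
    (MorphismProperty.Over.pullbackCongr (P := EtCoh.etaleMP) (Q := ⊤) w).inv.app V
  let c : (EtCoh.bc f').obj ((EtCoh.bc g).obj V) ⟶ (EtCoh.bc (f' ≫ g)).obj V :=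
    (MorphismProperty.Over.pullbackComp (P := EtCoh.etaleMP) (Q := ⊤) f' g).inv.app V
  let H := ((EtCoh.pull g').obj F).obj
  have h1 : (θBC f g f' g' w F).hom.app (op V) σ =
      H.map c.op (H.map b.op (H.map a.op
        (((EtCoh.pullPushAdj g').unit.app F).hom.app (op ((EtCoh.bc f).obj V)) σ))) := rfl
  have h2 : ιBC f g f' g' w V = c ≫ b ≫ a := rfl
  rw [h1, h2, op_comp, op_comp, H.map_comp, H.map_comp]
  rfl

theorem baseChange0_unit_app (F : EtCoh.Ab X) (V : Y.Etale)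
    (σ : F.obj.obj (op ((EtCoh.bc f).obj V))) :
    (EtCoh.baseChange0 f g f' g' w F).hom.app (op ((EtCoh.bc g).obj V))
      (((EtCoh.pullPushAdj g).unit.app ((EtCoh.push f).obj F)).hom.app (op V) σ) =
      ((EtCoh.pull g').obj F).obj.map (ιBC f g f' g' w V).op
        (((EtCoh.pullPushAdj g').unit.app F).hom.app (op ((EtCoh.bc f).obj V)) σ) := by
  rw [← θBC_app, ← unit_comp_baseChange0]
  rfl

set_option backward.isDefEq.respectTransparency.types false in
theorem ιBC_fst_fst (V : Y.Etale) :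
    (ιBC f g f' g' w V).left ≫ pullback.fst ((EtCoh.bc f).obj V).hom g' ≫ pullback.fst V.hom f =
      pullback.fst ((EtCoh.bc g).obj V).hom f' ≫ pullback.fst V.hom g := by
  let a : (EtCoh.bc (g' ≫ f)).obj V ⟶ (EtCoh.bc g').obj ((EtCoh.bc f).obj V) :=
    (MorphismProperty.Over.pullbackComp (P := EtCoh.etaleMP) (Q := ⊤) g' f).hom.app V
  let b : (EtCoh.bc (f' ≫ g)).obj V ⟶ (EtCoh.bc (g' ≫ f)).obj V :=
    (MorphismProperty.Over.pullbackCongr (P := EtCoh.etaleMP) (Q := ⊤) w).inv.app V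
  let b' : (EtCoh.bc (g' ≫ f)).obj V ⟶ (EtCoh.bc (f' ≫ g)).obj V :=
    (MorphismProperty.Over.pullbackCongr (P := EtCoh.etaleMP) (Q := ⊤) w).hom.app V
  let c : (EtCoh.bc f').obj ((EtCoh.bc g).obj V) ⟶ (EtCoh.bc (f' ≫ g)).obj V :=
    (MorphismProperty.Over.pullbackComp (P := EtCoh.etaleMP) (Q := ⊤) f' g).inv.app V
  let c' : (EtCoh.bc (f' ≫ g)).obj V ⟶ (EtCoh.bc f').obj ((EtCoh.bc g).obj V) :=
    (MorphismProperty.Over.pullbackComp (P := EtCoh.etaleMP) (Q := ⊤) f' g).hom.app V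
  have ha : a.left ≫ pullback.fst ((EtCoh.bc f).obj V).hom g' ≫ pullback.fst V.hom f =
      pullback.fst V.hom (g' ≫ f) :=
    MorphismProperty.Over.pullbackComp_left_fst_fst (P := EtCoh.etaleMP) (Q := ⊤) g' f V
  have hb' : b'.left ≫ pullback.fst V.hom (f' ≫ g) = pullback.fst V.hom (g' ≫ f) :=
    MorphismProperty.Over.pullbackCongr_hom_app_left_fst (P := EtCoh.etaleMP) (Q := ⊤) w V
  have hc' : c'.left ≫ pullback.fst ((EtCoh.bc g).obj V).hom f' ≫ pullback.fst V.hom g =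
      pullback.fst V.hom (f' ≫ g) :=
    MorphismProperty.Over.pullbackComp_left_fst_fst (P := EtCoh.etaleMP) (Q := ⊤) f' g V
  have hbb : b ≫ b' = 𝟙 _ := Iso.inv_hom_id_app _ _
  have hcc : c ≫ c' = 𝟙 _ := Iso.inv_hom_id_app _ _
  have hb : b.left ≫ pullback.fst V.hom (g' ≫ f) = pullback.fst V.hom (f' ≫ g) := by
    have h1 : (b ≫ b').left = 𝟙 _ := by rw [hbb]; rfl
    calc b.left ≫ pullback.fst V.hom (g' ≫ f)
        = b.left ≫ b'.left ≫ pullback.fst V.hom (f' ≫ g) := by rw [hb']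
      _ = (b ≫ b').left ≫ pullback.fst V.hom (f' ≫ g) := (Category.assoc _ _ _).symm
      _ = pullback.fst V.hom (f' ≫ g) := by rw [h1]; exact Category.id_comp _
  have hc : c.left ≫ pullback.fst V.hom (f' ≫ g) =
      pullback.fst ((EtCoh.bc g).obj V).hom f' ≫ pullback.fst V.hom g := by
    have h1 : (c ≫ c').left = 𝟙 _ := by rw [hcc]; rfl
    calc c.left ≫ pullback.fst V.hom (f' ≫ g)
        = c.left ≫ c'.left ≫ pullback.fst ((EtCoh.bc g).obj V).hom f' ≫ pullback.fst V.hom g := by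
          rw [hc']
      _ = (c ≫ c').left ≫ pullback.fst ((EtCoh.bc g).obj V).hom f' ≫ pullback.fst V.hom g :=
          (Category.assoc _ _ _).symm
      _ = _ := by rw [h1]; exact Category.id_comp _
  have h2 : (ιBC f g f' g' w V).left = c.left ≫ b.left ≫ a.left := rfl
  rw [h2, Category.assoc, Category.assoc, ha, hb, hc]

end BC

section UpDown

variable {X X' : Scheme.{u}} (k : X' ⟶ X) {Ω : Type u} [Field Ω] [IsSepClosed Ω]
  (ξ' : Spec (CommRingCat.of Ω) ⟶ X')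

/-- points of `U ×_X X'` over `ξ'` give points of `U` over `ξ' ≫ k` -/
noncomputable def dn (U : X.Etale) (l' : (Φ ξ').fiber.obj ((EtCoh.bc k).obj U)) :
    (Φ (ξ' ≫ k)).fiber.obj U :=
  mkPt (ξ' ≫ k) U
    (pt ξ' _ l' ≫ (pullback.fst U.hom k : ((EtCoh.bc k).obj U).left ⟶ U.left)) (by
      have hc : (pullback.fst U.hom k : ((EtCoh.bc k).obj U).left ⟶ U.left) ≫ homX U =
          ((EtCoh.bc k).obj U).hom ≫ k := pullback.condition
      calc (pt ξ' _ l' ≫ (pullback.fst U.hom k : ((EtCoh.bc k).obj U).left ⟶ U.left)) ≫ homX U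
          = pt ξ' _ l' ≫ ((pullback.fst U.hom k : ((EtCoh.bc k).obj U).left ⟶ U.left) ≫
            homX U) := Category.assoc _ _ _
        _ = pt ξ' _ l' ≫ (((EtCoh.bc k).obj U).hom ≫ k) :=
            congrArg (fun m => pt ξ' _ l' ≫ m) hc
        _ = (pt ξ' _ l' ≫ ((EtCoh.bc k).obj U).hom) ≫ k := (Category.assoc _ _ _).symm
        _ = ξ' ≫ k := congrArg (fun m => m ≫ k) (pt_comp ξ' _ l'))

/-- points of `U` over `ξ' ≫ k` give points of `U ×_X X'` over `ξ'` -/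
noncomputable def up (U : X.Etale) (l : (Φ (ξ' ≫ k)).fiber.obj U) :
    (Φ ξ').fiber.obj ((EtCoh.bc k).obj U) :=
  mkPt ξ' ((EtCoh.bc k).obj U) (pullback.lift (pt (ξ' ≫ k) U l) ξ' (pt_comp _ U l))
    (pullback.lift_snd _ _ _)

theorem pt_dn (U : X.Etale) (l' : (Φ ξ').fiber.obj ((EtCoh.bc k).obj U)) :
    pt (ξ' ≫ k) U (dn k ξ' U l') =
      pt ξ' _ l' ≫ (pullback.fst U.hom k : ((EtCoh.bc k).obj U).left ⟶ U.left) := rfl

theorem dn_up (U : X.Etale) (l : (Φ (ξ' ≫ k)).fiber.obj U) : dn k ξ' U (up k ξ' U l) = l := by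
  apply pt_ext
  exact pullback.lift_fst _ _ _

theorem up_dn (U : X.Etale) (l' : (Φ ξ').fiber.obj ((EtCoh.bc k).obj U)) :
    up k ξ' U (dn k ξ' U l') = l' := by
  apply pt_ext
  apply pullback.hom_ext
  · exact pullback.lift_fst _ _ _
  · exact (pullback.lift_snd _ _ _).trans (pt_comp ξ' _ l').symm

theorem dn_injective (U : X.Etale) (a b : (Φ ξ').fiber.obj ((EtCoh.bc k).obj U))
    (h : dn k ξ' U a = dn k ξ' U b) : a = b := by
  rw [← up_dn k ξ' U a, ← up_dn k ξ' U b, h]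

theorem dn_map {U U' : X.Etale} (u : U ⟶ U') (l' : (Φ ξ').fiber.obj ((EtCoh.bc k).obj U)) :
    dn k ξ' U' ((Φ ξ').fiber.map ((EtCoh.bc k).map u) l') =
      (Φ (ξ' ≫ k)).fiber.map u (dn k ξ' U l') := by
  apply pt_ext
  rw [pt_dn, pt_map, pt_map, pt_dn, Category.assoc, Category.assoc]
  exact congrArg (fun m => pt ξ' _ l' ≫ m) (EtCoh.isPullback_bc_map k u).w

end UpDown

section Comap

variable {X X' : Scheme.{u}} (k : X' ⟶ X) {Ω : Type u} [Field Ω] [IsSepClosed Ω]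
  (ξ' : Spec (CommRingCat.of Ω) ⟶ X')

/-- the stalk of an inverse image: comparison with the stalk at the induced point -/
noncomputable def cmp (H : EtCoh.Ab X) :
    (SHC.comapPoint k ξ').sheafFiber.obj H ≅ (Φ ξ').sheafFiber.obj ((EtCoh.pull k).obj H) :=
  haveI := SHC.initiallySmall_comap k ξ'
  haveI : (EtCoh.push k).IsRightAdjoint := (EtCoh.pullPushAdj k).isRightAdjoint
  ((Φ ξ').sheafFiberComapIso (EtCoh.bc k) (EtCoh.coverPreserving_bc k)
    AddCommGrpCat.{u + 1}).app H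

set_option backward.isDefEq.respectTransparency.types false in
theorem cmp_germ (H : EtCoh.Ab X) (U : X.Etale) (l' : (Φ ξ').fiber.obj ((EtCoh.bc k).obj U))
    (σ : H.obj.obj (op U)) :
    (cmp k ξ' H).hom ((SHC.comapPoint k ξ').toPresheafFiber U l' H.obj σ) =
      (Φ ξ').toPresheafFiber ((EtCoh.bc k).obj U) l' ((EtCoh.pull k).obj H).obj
        (((EtCoh.pullPushAdj k).unit.app H).hom.app (op U) σ) := by
  haveI := SHC.initiallySmall_comap k ξ'
  haveI : (EtCoh.push k).IsRightAdjoint := (EtCoh.pullPushAdj k).isRightAdjoint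
  have key := PT.toPresheafFiber_comapIso_hom (Φ ξ') (EtCoh.bc k) (EtCoh.coverPreserving_bc k)
    AddCommGrpCat.{u + 1} H U l'
  have k2 := ConcreteCategory.congr_hom key σ
  exact (ConcreteCategory.comp_apply _ _ _).symm.trans
    (k2.trans (ConcreteCategory.comp_apply _ _ _))

theorem cmp_hom_injective (H : EtCoh.Ab X) : Function.Injective (cmp k ξ' H).hom :=
  (ConcreteCategory.bijective_of_isIso (cmp k ξ' H).hom).1

theorem cmp_hom_surjective (H : EtCoh.Ab X) : Function.Surjective (cmp k ξ' H).hom :=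
  (ConcreteCategory.bijective_of_isIso (cmp k ξ' H).hom).2

end Comap

section Main

variable {X Y X' Y' : Scheme.{u}} (f : X ⟶ Y) (g : Y' ⟶ Y) (f' : X' ⟶ Y')
  (g' : X' ⟶ X) (h : IsPullback g' f' f g) (F : EtCoh.Ab X) {Ω : Type u} [Field Ω] [IsAlgClosed Ω]
  (η' : Spec (CommRingCat.of Ω) ⟶ Y')

/-- a lift of `η'` to `X'` gives a lift of `η' ≫ g` to `X` -/
noncomputable def liftDn (ξ' : Lifts f' η') : Lifts f (η' ≫ g) :=
  ⟨ξ'.1 ≫ g', by rw [Category.assoc, h.w, ← Category.assoc, ξ'.2]⟩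

theorem exists_liftDn (ξ : Lifts f (η' ≫ g)) : ∃ ξ' : Lifts f' η', ξ = liftDn f g f' g' h η' ξ' :=
  ⟨⟨h.lift ξ.1 η' ξ.2, h.lift_snd _ _ _⟩, Subtype.ext (h.lift_fst _ _ _).symm⟩

theorem liftDn_injective (a b : Lifts f' η')
    (hab : liftDn f g f' g' h η' a = liftDn f g f' g' h η' b) : a = b := by
  apply Subtype.ext
  apply h.hom_ext
  · exact congrArg Subtype.val hab
  · rw [a.2, b.2]

/-- the image in `X' ×_X (X ×_Y V)` of the canonical point of `X' ×_{Y'} (Y' ×_Y V)` -/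
noncomputable def yLift (ξ' : Lifts f' η') (V : Y.Etale)
    (y : (Φ η').fiber.obj ((EtCoh.bc g).obj V)) :
    (Φ ξ'.1).fiber.obj ((EtCoh.bc g').obj ((EtCoh.bc f).obj V)) :=
  (Φ ξ'.1).fiber.map (ιBC f g f' g' h.w V) (liftPt f' η' ξ' ((EtCoh.bc g).obj V) y)

theorem dn_yLift (ξ' : Lifts f' η') (V : Y.Etale) (y : (Φ η').fiber.obj ((EtCoh.bc g).obj V)) :
    dn g' ξ'.1 ((EtCoh.bc f).obj V) (yLift f g f' g' h η' ξ' V y) =
      liftPt f (η' ≫ g) (liftDn f g f' g' h η' ξ') V (dn g η' V y) := by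
  apply pt_ext
  apply pt_bc_ext f V
  · have hR : pt (liftDn f g f' g' h η' ξ').1 _
        (liftPt f (η' ≫ g) (liftDn f g f' g' h η' ξ') V (dn g η' V y)) ≫
        (pullback.fst V.hom f : ((EtCoh.bc f).obj V).left ⟶ V.left) =
        pt (η' ≫ g) V (dn g η' V y) :=
      pt_liftPt_fst f (η' ≫ g) (liftDn f g f' g' h η' ξ') V (dn g η' V y)
    refine Eq.trans ?_ hR.symm
    show ((pt ξ'.1 _ (liftPt f' η' ξ' ((EtCoh.bc g).obj V) y) ≫ (ιBC f g f' g' h.w V).left) ≫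
          (pullback.fst ((EtCoh.bc f).obj V).hom g' :
            ((EtCoh.bc g').obj ((EtCoh.bc f).obj V)).left ⟶ ((EtCoh.bc f).obj V).left)) ≫
          (pullback.fst V.hom f : ((EtCoh.bc f).obj V).left ⟶ V.left) =
        pt η' _ y ≫ (pullback.fst V.hom g : ((EtCoh.bc g).obj V).left ⟶ V.left)
    have h1 := ιBC_fst_fst f g f' g' h.w V
    have h2 := pt_liftPt_fst f' η' ξ' ((EtCoh.bc g).obj V) y
    calc ((pt ξ'.1 _ (liftPt f' η' ξ' ((EtCoh.bc g).obj V) y) ≫ (ιBC f g f' g' h.w V).left) ≫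
          (pullback.fst ((EtCoh.bc f).obj V).hom g' :
            ((EtCoh.bc g').obj ((EtCoh.bc f).obj V)).left ⟶ ((EtCoh.bc f).obj V).left)) ≫
          (pullback.fst V.hom f : ((EtCoh.bc f).obj V).left ⟶ V.left)
        = pt ξ'.1 _ (liftPt f' η' ξ' ((EtCoh.bc g).obj V) y) ≫
          ((ιBC f g f' g' h.w V).left ≫ pullback.fst ((EtCoh.bc f).obj V).hom g' ≫
            pullback.fst V.hom f) := by
          simp only [Category.assoc]
      _ = pt ξ'.1 _ (liftPt f' η' ξ' ((EtCoh.bc g).obj V) y) ≫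
          (pullback.fst ((EtCoh.bc g).obj V).hom f' ≫ pullback.fst V.hom g) :=
          congrArg (fun m => pt ξ'.1 _ (liftPt f' η' ξ' ((EtCoh.bc g).obj V) y) ≫ m) h1
      _ = (pt ξ'.1 _ (liftPt f' η' ξ' ((EtCoh.bc g).obj V) y) ≫
          (pullback.fst ((EtCoh.bc g).obj V).hom f' :
            ((EtCoh.bc f').obj ((EtCoh.bc g).obj V)).left ⟶ ((EtCoh.bc g).obj V).left)) ≫
          pullback.fst V.hom g := (Category.assoc _ _ _).symm
      _ = pt η' _ y ≫ (pullback.fst V.hom g : ((EtCoh.bc g).obj V).left ⟶ V.left) :=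
          congrArg (fun m => m ≫ (pullback.fst V.hom g : ((EtCoh.bc g).obj V).left ⟶ V.left)) h2
  · exact (pt_comp _ _ _).trans
      (pt_liftPt_snd f (η' ≫ g) (liftDn f g f' g' h η' ξ') V (dn g η' V y)).symm

variable [IsFinite f']

theorem stalk_formula (ξ' : Lifts f' η') (V : Y.Etale)
    (y : (Φ η').fiber.obj ((EtCoh.bc g).obj V)) (σ : F.obj.obj (op ((EtCoh.bc f).obj V))) :
    stalkMap f' ((EtCoh.pull g').obj F) η' ξ'
      (((Φ η').presheafFiber.map (EtCoh.baseChange0 f g f' g' h.w F).hom)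
        ((cmp g η' ((EtCoh.push f).obj F)).hom
          ((SHC.comapPoint g η').toPresheafFiber V y ((EtCoh.push f).obj F).obj σ))) =
    (cmp g' ξ'.1 F).hom ((SHC.comapPoint g' ξ'.1).toPresheafFiber ((EtCoh.bc f).obj V)
      (yLift f g f' g' h η' ξ' V y) F.obj σ) := by
  rw [cmp_germ, cmp_germ]
  have e2 := (Φ η').toPresheafFiber_naturality_apply (EtCoh.baseChange0 f g f' g' h.w F).hom
    ((EtCoh.bc g).obj V) y
    (((EtCoh.pullPushAdj g).unit.app ((EtCoh.push f).obj F)).hom.app (op V) σ)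
  rw [e2, baseChange0_unit_app, stalkMap_germ]
  exact (Φ ξ'.1).toPresheafFiber_w_apply (ιBC f g f' g' h.w V)
    (liftPt f' η' ξ' ((EtCoh.bc g).obj V) y) ((EtCoh.pull g').obj F).obj _

variable [IsFinite f]

theorem stalk_bc_injective :
    Function.Injective ((Φ η').presheafFiber.map (EtCoh.baseChange0 f g f' g' h.w F).hom) := by
  haveI := SHC.preservesFilteredColimits_forget.{u}
  intro a b hab
  obtain ⟨a₀, rfl⟩ := cmp_hom_surjective g η' ((EtCoh.push f).obj F) a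
  obtain ⟨b₀, rfl⟩ := cmp_hom_surjective g η' ((EtCoh.push f).obj F) b
  apply congrArg
  obtain ⟨V, y, σ, σ', rfl, rfl⟩ := (SHC.comapPoint g η').toPresheafFiber_jointly_surjective₂
    (P := ((EtCoh.push f).obj F).obj) a₀ b₀
  have hss : ∀ ξ : Lifts f (η' ≫ g), ∃ (U : X.Etale) (u : U ⟶ (EtCoh.bc f).obj V)
      (l : (Φ ξ.1).fiber.obj U), (Φ ξ.1).fiber.map u l = liftPt f (η' ≫ g) ξ V (dn g η' V y) ∧
        (F.obj ⋙ forget AddCommGrpCat.{u + 1}).map u.op σ =
          (F.obj ⋙ forget AddCommGrpCat.{u + 1}).map u.op σ' := by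
    intro ξ
    obtain ⟨ξ', rfl⟩ := exists_liftDn f g f' g' h η' ξ
    have h1 := congrArg (stalkMap f' ((EtCoh.pull g').obj F) η' ξ') hab
    rw [stalk_formula f g f' g' h F η' ξ' V y σ, stalk_formula f g f' g' h F η' ξ' V y σ'] at h1
    have h2 := cmp_hom_injective g' ξ'.1 F h1
    obtain ⟨U, u, l', hl', hu⟩ := ((SHC.comapPoint g' ξ'.1).toPresheafFiber_eq_iff' (P := F.obj)
      _ (yLift f g f' g' h η' ξ' V y) σ σ').1 h2
    refine ⟨U, u, dn g' ξ'.1 U l', ?_, hu⟩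
    have hl'' : (Φ ξ'.1).fiber.map ((EtCoh.bc g').map u) l' = yLift f g f' g' h η' ξ' V y := hl'
    rw [← dn_yLift, ← hl'']
    exact (dn_map g' ξ'.1 u l').symm
  obtain ⟨V₁, e, x₁, hx₁, he⟩ := inj_core f (η' ≫ g) (F.obj ⋙ forget AddCommGrpCat.{u + 1})
    (SZ.presieve_isSheaf F) V (dn g η' V y) σ σ' hss
  let y₁ := up g η' V₁ x₁
  have hy₁ : (Φ η').fiber.map ((EtCoh.bc g).map e) y₁ = y := by
    apply dn_injective g η' V
    rw [dn_map, dn_up]
    exact hx₁
  have e1 := (SHC.comapPoint g η').toPresheafFiber_w_apply e y₁ ((EtCoh.push f).obj F).obj σ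
  have e2 := (SHC.comapPoint g η').toPresheafFiber_w_apply e y₁ ((EtCoh.push f).obj F).obj σ'
  have hy₁' : (SHC.comapPoint g η').fiber.map e y₁ = y := hy₁
  rw [hy₁'] at e1 e2
  rw [← e1, ← e2]
  exact congrArg ((SHC.comapPoint g η').toPresheafFiber V₁ y₁ ((EtCoh.push f).obj F).obj) he

theorem stalk_bc_surjective :
    Function.Surjective ((Φ η').presheafFiber.map (EtCoh.baseChange0 f g f' g' h.w F).hom) := by
  haveI := SHC.preservesFilteredColimits_forget.{u}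
  intro r
  have hdata : ∀ ξ : Lifts f (η' ≫ g), ∃ (U : X.Etale) (l : (Φ ξ.1).fiber.obj U)
      (a : F.obj.obj (op U)), ∀ ξ' : Lifts f' η', liftDn f g f' g' h η' ξ' = ξ →
        ∃ l' : (Φ ξ'.1).fiber.obj ((EtCoh.bc g').obj U),
          pt _ U (dn g' ξ'.1 U l') = pt ξ.1 U l ∧
          (cmp g' ξ'.1 F).hom ((SHC.comapPoint g' ξ'.1).toPresheafFiber U l' F.obj a) =
            stalkMap f' ((EtCoh.pull g').obj F) η' ξ' r := by
    intro ξ
    obtain ⟨ξ'₀, rfl⟩ := exists_liftDn f g f' g' h η' ξ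
    obtain ⟨t, ht⟩ := cmp_hom_surjective g' ξ'₀.1 F
      (stalkMap f' ((EtCoh.pull g').obj F) η' ξ'₀ r)
    obtain ⟨U, l', a, rfl⟩ := (SHC.comapPoint g' ξ'₀.1).toPresheafFiber_jointly_surjective
      (P := F.obj) t
    refine ⟨U, dn g' ξ'₀.1 U l', a, ?_⟩
    intro ξ' hξ'
    obtain rfl : ξ' = ξ'₀ := liftDn_injective f g f' g' h η' ξ' ξ'₀ hξ'
    exact ⟨l', rfl, ht⟩
  choose U l a hP using hdata
  obtain ⟨V, x, s, hs⟩ := surj_core f (η' ≫ g) (F.obj ⋙ forget AddCommGrpCat.{u + 1})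
    (SZ.presieve_isSheaf F) U l a
  let y := up g η' V x
  refine ⟨(cmp g η' ((EtCoh.push f).obj F)).hom
    ((SHC.comapPoint g η').toPresheafFiber V y ((EtCoh.push f).obj F).obj s), ?_⟩
  apply stalkMap_injective f' ((EtCoh.pull g').obj F) η'
  intro ξ'
  rw [stalk_formula f g f' g' h F η' ξ' V y s]
  obtain ⟨l', hpt, hl'⟩ := hP (liftDn f g f' g' h η' ξ') ξ' rfl
  rw [← hl']
  apply congrArg
  obtain ⟨W, w, m, z, hz1, hz2, hsW⟩ := hs (liftDn f g f' g' h η' ξ')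
  let z' : (Φ ξ'.1).fiber.obj ((EtCoh.bc g').obj W) := up g' ξ'.1 W z
  have hw : (SHC.comapPoint g' ξ'.1).fiber.map w z' = yLift f g f' g' h η' ξ' V y := by
    show (Φ ξ'.1).fiber.map ((EtCoh.bc g').map w) z' = yLift f g f' g' h η' ξ' V y
    apply dn_injective g' ξ'.1
    rw [dn_map, dn_up, dn_yLift, dn_up]
    exact hz1
  have hm : (SHC.comapPoint g' ξ'.1).fiber.map m z' = l' := by
    show (Φ ξ'.1).fiber.map ((EtCoh.bc g').map m) z' = l'
    apply dn_injective g' ξ'.1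
    rw [dn_map, dn_up]
    apply pt_ext
    rw [hpt]
    exact congrArg (pt _ _) hz2
  have e1 := (SHC.comapPoint g' ξ'.1).toPresheafFiber_w_apply w z' F.obj s
  have e2 := (SHC.comapPoint g' ξ'.1).toPresheafFiber_w_apply m z' F.obj
    (a (liftDn f g f' g' h η' ξ'))
  rw [hw] at e1
  rw [hm] at e2
  rw [← e1, ← e2]
  exact congrArg ((SHC.comapPoint g' ξ'.1).toPresheafFiber W z' F.obj) hsW

end Main

/-- **Base change for direct images along a finite morphism, in degree zero.** -/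
theorem isIso_baseChange0_finite {X Y X' Y' : Scheme.{u}} (f : X ⟶ Y) [IsFinite f] (g : Y' ⟶ Y)
    (f' : X' ⟶ Y') (g' : X' ⟶ X) (h : IsPullback g' f' f g) (F : EtCoh.Ab X) :
    IsIso (EtCoh.baseChange0 f g f' g' h.w F) := by
  haveI : IsFinite f' := MorphismProperty.of_isPullback (P := @IsFinite) h inferInstance
  haveI := SHC.preservesFilteredColimits_forget.{u}
  have key : ∀ (U : Y'.Etale) (x : U.left), ∃ (Ω : Type u) (_ : Field Ω) (_ : IsSepClosed Ω)
      (ξ : Spec (CommRingCat.of Ω) ⟶ Y') (y : (Scheme.pointSmallEtale ξ).fiber.obj U),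
      (y.left : Spec (CommRingCat.of Ω) ⟶ U.left).base (default : Spec (CommRingCat.of Ω)) = x ∧
      Function.Bijective ((Scheme.pointSmallEtale ξ).presheafFiber.map
        (EtCoh.baseChange0 f g f' g' h.w F).hom) := by
    intro U x
    obtain ⟨Ω, hΩ1, hΩ2, η₀, hη₀⟩ := exists_geomPoint x
    letI := hΩ1
    haveI := hΩ2
    exact ⟨Ω, hΩ1, inferInstance, η₀ ≫ U.hom, mkPt (η₀ ≫ U.hom) U η₀ rfl, hη₀,
      stalk_bc_injective f g f' g' h F (η₀ ≫ U.hom),
      stalk_bc_surjective f g f' g' h F (η₀ ≫ U.hom)⟩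
  haveI : Sheaf.IsLocallyInjective (EtCoh.baseChange0 f g f' g' h.w F) := by
    apply SHC.isLocallyInjective_of_enough
    intro U x
    obtain ⟨Ω, i1, i2, ξ, y, hy, hb⟩ := key U x
    exact ⟨Ω, i1, i2, ξ, y, hy, hb.1⟩
  haveI : Sheaf.IsLocallySurjective (EtCoh.baseChange0 f g f' g' h.w F) := by
    apply SHC.isLocallySurjective_of_enough
    intro U x
    obtain ⟨Ω, i1, i2, ξ, y, hy, hb⟩ := key U x
    exact ⟨Ω, i1, i2, ξ, y, hy, hb.2⟩
  haveI : Mono (EtCoh.baseChange0 f g f' g' h.w F) := Sheaf.mono_of_isLocallyInjective _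
  haveI : Epi (EtCoh.baseChange0 f g f' g' h.w F) :=
    (Sheaf.isLocallySurjective_iff_epi' _ _).1 inferInstance
  exact isIso_of_mono_of_epi _

end Groth.Agent.Helper1.FP
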