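import Mathlib

/-!
# Restriction of locally constant functions along a dense map with locally preconnected preimages
-/

set_option linter.unusedSectionVars false
set_option linter.style.haveILetI false
open TopologicalSpace

namespace Groth.Agent.Helper1.LC

theorem comap_bijective {Q V : Type*} [TopologicalSpace Q] [TopologicalSpace V] {M : Type*}
    (π : C(Q, V)) (hd : DenseRange π)
    (hloc : ∀ v : V, ∃ O : Set V, IsOpen O ∧ v ∈ O ∧ IsPreconnected (π ⁻¹' O)) :
    Function.Bijective (LocallyConstant.comap π : LocallyConstant V M → LocallyConstant Q M) := by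
  classical
  constructor
  · intro F F' h
    letI : TopologicalSpace M := ⊥
    haveI : DiscreteTopology M := ⟨rfl⟩
    have h1 : (F : V → M) ∘ π = (F' : V → M) ∘ π := by
      funext q
      have := congrArg (fun s : LocallyConstant Q M => s q) h
      exact this
    have h2 : (F : V → M) = F' := hd.equalizer F.continuous F'.continuous h1
    exact LocallyConstant.ext (congrFun h2)
  · intro s
    choose O hO hvO hpre using hloc
    have hne : ∀ v : V, ∃ q : Q, π q ∈ O v := by
      intro v
      obtain ⟨q, hq⟩ := hd.exists_mem_open (hO v) ⟨v, hvO v⟩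
      exact ⟨q, hq⟩
    choose q hq using hne
    have hconst : ∀ (v : V) (a b : Q), π a ∈ O v → π b ∈ O v → s a = s b := by
      intro v a b ha hb
      exact s.isLocallyConstant.apply_eq_of_isPreconnected (hpre v) ha hb
    let F : V → M := fun v => s (q v)
    have hF : IsLocallyConstant F := by
      rw [IsLocallyConstant.iff_exists_open]
      intro v
      refine ⟨O v, hO v, hvO v, ?_⟩
      intro v' hv'
      obtain ⟨q'', hq''⟩ := hd.exists_mem_open ((hO v).inter (hO v')) ⟨v', hv', hvO v'⟩
      show s (q v') = s (q v)
      rw [hconst v' (q v') q'' (hq v') hq''.2, hconst v q'' (q v) hq''.1 (hq v)]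
    refine ⟨⟨F, hF⟩, ?_⟩
    refine LocallyConstant.ext fun a => ?_
    show s (q (π a)) = s a
    exact hconst (π a) (q (π a)) a (hq (π a)) (hvO (π a))

end Groth.Agent.Helper1.LC
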