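import Mathlib
import Groth.Agent.Lib.Helper16.Sch.NormalEtaleSch
import Groth.Agent.Lib.Helper1.LC5

/-!
# Étale schemes over a normal integral scheme are locally irreducible; consequences for locally
constant functions
-/

universe u
set_option linter.unusedSectionVars false
set_option linter.style.haveILetI false
open CategoryTheory CategoryTheory.Limits AlgebraicGeometry TopologicalSpace Opposite

namespace Groth.Agent.Helper1.LC

theorem lqf_of_etale {X Y : Scheme.{u}} (f : X ⟶ Y) [Etale f] : LocallyQuasiFinite f := by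
  refine ⟨fun {U} hU {V} hV e => ?_⟩
  have h := f.etale_appLE hU hV e
  algebraize [(f.appLE U V e).hom]
  show Algebra.QuasiFinite _ _
  infer_instance

variable {X P : Scheme.{u}} [IsIntegral X] (c : P ⟶ X) [Etale c]

/-- every point has a generization over the generic point -/
theorem exists_generic_specializes (y : P) :
    ∃ ξ : P, c.base ξ = genericPoint X ∧ ξ ⤳ y := by
  haveI : Flat c := inferInstance
  obtain ⟨ξ, h1, h2⟩ := Flat.generalizingMap c (genericPoint_specializes (c.base y))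
  exact ⟨ξ, h2, h1⟩

variable (hN : ∀ x : X, IsIntegrallyClosed (X.presheaf.stalk x))
include hN

/-- the generization over the generic point is unique -/
theorem generic_unique (y ξ₁ ξ₂ : P) (h₁ : ξ₁ ⤳ y) (h₂ : ξ₂ ⤳ y)
    (hc₁ : c.base ξ₁ = genericPoint X) (hc₂ : c.base ξ₂ = genericPoint X) : ξ₁ = ξ₂ := by
  haveI := hN (c.base y)
  haveI : IsDomain (P.presheaf.stalk y) :=
    (Groth.Agent.Helper16.NormalEtale.stalk_normal_of_etale c y).1
  let b : Spec (P.presheaf.stalk y) := (⊥ : PrimeSpectrum (P.presheaf.stalk y))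
  let ζ : P := (P.fromSpecStalk y).base b
  have hζ : ∀ z : P, z ⤳ y → ζ ⤳ z := by
    intro z hz
    have hmem : z ∈ Set.range (P.fromSpecStalk y).base := by
      rw [Scheme.range_fromSpecStalk]
      exact hz
    obtain ⟨p, rfl⟩ := hmem
    let p' : PrimeSpectrum (P.presheaf.stalk y) := p
    have h1 : (⊥ : PrimeSpectrum (P.presheaf.stalk y)) ⤳ p' := by
      rw [← PrimeSpectrum.le_iff_specializes]
      exact bot_le
    have h1' : b ⤳ p := h1
    exact h1'.map (P.fromSpecStalk y).continuous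
  have hcζ : c.base ζ = genericPoint X := by
    have h1 : c.base ζ ⤳ c.base ξ₁ := (hζ ξ₁ h₁).map c.continuous
    rw [hc₁] at h1
    exact (h1.antisymm (genericPoint_specializes _)).eq
  haveI := lqf_of_etale c
  have hdisc := c.isDiscrete_preimage_singleton (genericPoint X)
  rw [isDiscrete_iff_forall_mem_exists_isOpen] at hdisc
  have key : ∀ ξ : P, c.base ξ = genericPoint X → ζ ⤳ ξ → ζ = ξ := by
    intro ξ hξ hsp
    obtain ⟨O, hO, hOs⟩ := hdisc ξ hξ
    have hξO : ξ ∈ O := by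
      have : ξ ∈ O ∩ c.base ⁻¹' {genericPoint X} := by rw [hOs]; rfl
      exact this.1
    have hζO : ζ ∈ O := hsp.mem_open hO hξO
    have : ζ ∈ O ∩ c.base ⁻¹' {genericPoint X} := ⟨hζO, hcζ⟩
    rw [hOs] at this
    exact this
  rw [← key ξ₁ hc₁ (hζ ξ₁ h₁), ← key ξ₂ hc₂ (hζ ξ₂ h₂)]

/-- étale schemes over a normal integral scheme are locally irreducible -/
theorem exists_irreducible_nbhd (y : P) :
    ∃ (O : Set P) (ξ : P), IsOpen O ∧ y ∈ O ∧ ξ ∈ O ∧ c.base ξ = genericPoint X ∧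
      O ⊆ closure {ξ} := by
  classical
  obtain ⟨ξ, hcξ, hξy⟩ := exists_generic_specializes c y
  obtain ⟨W₀, hW₀, hyW₀⟩ : ∃ W₀ : X.Opens, IsAffineOpen W₀ ∧ c.base y ∈ W₀ := by
    obtain ⟨_, ⟨W₀, hW₀, rfl⟩, hy, -⟩ :=
      X.isBasis_affineOpens.exists_subset_of_mem_open (Set.mem_univ (c.base y)) isOpen_univ
    exact ⟨W₀, hW₀, hy⟩
  obtain ⟨O', hO', hyO', hO'W₀⟩ : ∃ O' : P.Opens, IsAffineOpen O' ∧ y ∈ O' ∧ O' ≤ c ⁻¹ᵁ W₀ := by
    obtain ⟨_, ⟨O', hO', rfl⟩, hy, hsub⟩ :=
      P.isBasis_affineOpens.exists_subset_of_mem_open (show y ∈ ((c ⁻¹ᵁ W₀ : P.Opens) : Set P)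
        from hyW₀) (c ⁻¹ᵁ W₀).2
    exact ⟨O', hO', hy, hsub⟩
  let c' : O'.toScheme ⟶ W₀.toScheme := c.resLE W₀ O' hO'W₀
  haveI : IsAffine O'.toScheme := hO'
  haveI : IsAffine W₀.toScheme := hW₀
  haveI : Etale c' := inferInstanceAs (Etale (c.resLE W₀ O' hO'W₀))
  haveI := lqf_of_etale c'
  have hηW₀ : genericPoint X ∈ W₀ :=
    (genericPoint_specializes (c.base y)).mem_open W₀.2 hyW₀
  have hfin : (c'.base ⁻¹' {⟨genericPoint X, hηW₀⟩}).Finite := c'.finite_preimage_singleton _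
  let F : Set P := O'.ι.base '' (c'.base ⁻¹' {⟨genericPoint X, hηW₀⟩})
  have hFfin : F.Finite := hfin.image _
  have hcomp : ∀ p : O'.toScheme, W₀.ι.base (c'.base p) = c.base (O'.ι.base p) := by
    intro p
    have := congrArg (fun g => g.base p) (Scheme.Hom.resLE_comp_ι c hO'W₀)
    exact this
  have hF : ∀ p : P, p ∈ O' → c.base p = genericPoint X → p ∈ F := by
    intro p hp hcp
    refine ⟨⟨p, hp⟩, ?_, rfl⟩
    show c'.base ⟨p, hp⟩ = ⟨genericPoint X, hηW₀⟩
    apply W₀.ι.isOpenEmbedding.injective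
    rw [hcomp]
    exact hcp
  have hF' : ∀ p ∈ F, c.base p = genericPoint X := by
    rintro _ ⟨p, hp, rfl⟩
    rw [← hcomp]
    have hp' : c'.base p = ⟨genericPoint X, hηW₀⟩ := hp
    rw [hp']
    rfl
  let T : Set P := ⋃ p ∈ F \ {ξ}, closure {p}
  have hT : IsClosed T := (hFfin.subset Set.diff_subset).isClosed_biUnion fun _ _ => isClosed_closure
  have hmemT : ∀ z : P, z ∈ T ↔ ∃ p, (p ∈ F ∧ p ≠ ξ) ∧ z ∈ closure {p} := by
    intro z
    simp only [T, Set.mem_iUnion, Set.mem_diff, Set.mem_singleton_iff, exists_prop]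
  refine ⟨(O' : Set P) \ T, ξ, O'.2.sdiff hT, ⟨hyO', ?_⟩, ⟨?_, ?_⟩, hcξ, ?_⟩
  · intro hyT
    obtain ⟨p, ⟨hpF, hpξ⟩, hyp⟩ := (hmemT y).1 hyT
    exact hpξ (generic_unique c hN y p ξ (specializes_iff_mem_closure.2 hyp) hξy (hF' p hpF) hcξ)
  · exact hξy.mem_open O'.2 hyO'
  · intro hξT
    obtain ⟨p, ⟨hpF, hpξ⟩, hξp⟩ := (hmemT ξ).1 hξT
    exact hpξ (generic_unique c hN ξ p ξ (specializes_iff_mem_closure.2 hξp) specializes_rfl
      (hF' p hpF) hcξ)
  · rintro y' ⟨hy'O', hy'T⟩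
    obtain ⟨ξ', hcξ', hξ'y'⟩ := exists_generic_specializes c y'
    have hξ'O' : ξ' ∈ O' := hξ'y'.mem_open O'.2 hy'O'
    have hξ'F : ξ' ∈ F := hF ξ' hξ'O' hcξ'
    by_cases h : ξ' = ξ
    · rw [← h]
      exact specializes_iff_mem_closure.1 hξ'y'
    · exfalso
      exact hy'T ((hmemT y').2 ⟨ξ', ⟨hξ'F, h⟩, specializes_iff_mem_closure.1 hξ'y'⟩)

variable {Z : Scheme.{u}} (f : Z ⟶ X) [IsPreimmersion f]
  (hf : genericPoint X ∈ Set.range f.base)
include hf

omit hN in
theorem denseRange_fst : DenseRange (pullback.fst c f).base := by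
  rw [DenseRange, dense_iff_inter_open]
  rintro O hO ⟨y, hy⟩
  obtain ⟨ξ, hcξ, hξy⟩ := exists_generic_specializes c y
  refine ⟨ξ, hξy.mem_open hO hy, ?_⟩
  rw [Scheme.Pullback.range_fst]
  show c.base ξ ∈ Set.range f.base
  rw [hcξ]
  exact hf

theorem exists_open_preconnected (y : P) :
    ∃ O : Set P, IsOpen O ∧ y ∈ O ∧ _root_.IsPreconnected ((pullback.fst c f).base ⁻¹' O) := by
  obtain ⟨O, ξ, hO, hyO, hξO, hcξ, hOξ⟩ := exists_irreducible_nbhd c hN y
  refine ⟨O, hO, hyO, ?_⟩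
  have hind : Topology.IsInducing (pullback.fst c f).base :=
    (pullback.fst c f).isEmbedding.isInducing
  rw [← hind.isPreconnected_image, Set.image_preimage_eq_inter_range]
  have hξr : ξ ∈ Set.range (pullback.fst c f).base := by
    rw [Scheme.Pullback.range_fst]
    show c.base ξ ∈ Set.range f.base
    rw [hcξ]
    exact hf
  exact isPreconnected_singleton.subset_closure (Set.singleton_subset_iff.2 ⟨hξO, hξr⟩)
    (fun z hz => hOξ hz.1)

theorem comap_fst_bijective (M : Type*) :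
    Function.Bijective (LocallyConstant.comap (pullback.fst c f).base.hom :
      LocallyConstant P M → LocallyConstant ↥(pullback c f) M) :=
  comap_bijective _ (denseRange_fst c f hf) (exists_open_preconnected c hN f hf)

end Groth.Agent.Helper1.LC
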