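import Mathlib
import Groth.Prelude.Def_EtCore
import Groth.Agent.Lib.Helper1.FP12
import Groth.Agent.Lib.Helper1.LC6

/-!
# Sections of inverse images: étale-local agreement of sections and local representability
-/

set_option autoImplicit false
set_option linter.unusedSectionVars false
set_option linter.style.haveILetI false
open CategoryTheory CategoryTheory.Limits AlgebraicGeometry Opposite
universe u

namespace Groth.Agent.Helper1.US

open Groth.Agent.Helper1.ELR Groth.Agent.Helper1.FP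

section Agree

variable {X : Scheme.{u}} (G : EtCoh.Ab X)

/-- two sections agree on an étale neighbourhood of the point `z` -/
def AgreeAt (T : X.Etale) (α β : G.obj.obj (op T)) (z : T.left) : Prop :=
  ∃ (M : X.Etale) (μ : M ⟶ T) (m : M.left), μ.left.base m = z ∧
    G.obj.map μ.op α = G.obj.map μ.op β

theorem germ_eq_of_agreeAt {Ω : Type u} [Field Ω] [IsSepClosed Ω]
    (ξ : Spec (CommRingCat.of Ω) ⟶ X) (T : X.Etale) (l : (Φ ξ).fiber.obj T)
    (α β : G.obj.obj (op T)) (h : AgreeAt G T α β ((pt ξ T l).base default)) :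
    (Φ ξ).toPresheafFiber T l G.obj α = (Φ ξ).toPresheafFiber T l G.obj β := by
  obtain ⟨M, μ, m, hm, hαβ⟩ := h
  obtain ⟨mb, hmb, -⟩ := Scheme.exists_fac_of_etale_of_isSepClosed μ.left (pt ξ T l) m hm
  have hM : mb ≫ M.hom = ξ := by
    have e1 : μ.left ≫ T.hom = M.hom := MorphismProperty.Over.w μ
    calc mb ≫ M.hom = mb ≫ (μ.left ≫ T.hom) := congrArg (fun k => mb ≫ k) e1.symm
      _ = (mb ≫ μ.left) ≫ T.hom := (Category.assoc _ _ _).symm
      _ = pt ξ T l ≫ T.hom := congrArg (fun k => k ≫ T.hom) hmb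
      _ = ξ := pt_comp ξ T l
  let lM : (Φ ξ).fiber.obj M := mkPt ξ M mb hM
  have hl : (Φ ξ).fiber.map μ lM = l := by
    apply pt_ext
    rw [pt_map]
    exact hmb
  have e1 := (Φ ξ).toPresheafFiber_w_apply μ lM G.obj α
  have e2 := (Φ ξ).toPresheafFiber_w_apply μ lM G.obj β
  rw [hl] at e1 e2
  rw [← e1, ← e2, hαβ]

theorem agreeAt_of_germ_eq {Ω : Type u} [Field Ω] [IsSepClosed Ω]
    (ξ : Spec (CommRingCat.of Ω) ⟶ X) (T : X.Etale) (l : (Φ ξ).fiber.obj T)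
    (α β : G.obj.obj (op T))
    (h : (Φ ξ).toPresheafFiber T l G.obj α = (Φ ξ).toPresheafFiber T l G.obj β) :
    AgreeAt G T α β ((pt ξ T l).base default) := by
  haveI := SHC.preservesFilteredColimits_forget.{u}
  obtain ⟨M, μ, l', hl', hμ⟩ := ((Φ ξ).toPresheafFiber_eq_iff' (P := G.obj) T l α β).1 h
  refine ⟨M, μ, (pt ξ M l').base default, ?_, hμ⟩
  rw [← hl']
  rfl

theorem isOpen_agreeAt (T : X.Etale) (α β : G.obj.obj (op T)) :
    IsOpen {z : T.left | AgreeAt G T α β z} := by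
  rw [isOpen_iff_forall_mem_open]
  rintro z ⟨M, μ, m, hm, h⟩
  refine ⟨Set.range μ.left.base, ?_, μ.left.isOpenMap.isOpen_range, ⟨m, hm⟩⟩
  rintro _ ⟨m', rfl⟩
  exact ⟨M, μ, m', rfl, h⟩

theorem eq_of_forall_agreeAt (T : X.Etale) (α β : G.obj.obj (op T))
    (h : ∀ z, AgreeAt G T α β z) : α = β := by
  let R : Sieve T :=
    { arrows := fun M μ => G.obj.map μ.op α = G.obj.map μ.op β
      downward_closed := by
        intro M M' μ hμ ν
        show G.obj.map (ν ≫ μ).op α = G.obj.map (ν ≫ μ).op β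
        rw [← map_map' G ν μ α, ← map_map' G ν μ β, hμ] }
  have hcov : R ∈ X.smallEtaleTopology T := by
    apply SHC.mem_of_pointwise
    intro z
    obtain ⟨M, μ, m, hm, hμ⟩ := h z
    exact ⟨M, μ, m, hμ, hm⟩
  exact ((SZ.presieve_isSheaf G) R hcov).isSeparatedFor.ext (fun M μ hμ => hμ)

theorem agreeAt_of_map {T N : X.Etale} (φ : N ⟶ T) (α β : G.obj.obj (op T)) (n : N.left)
    (h : AgreeAt G N (G.obj.map φ.op α) (G.obj.map φ.op β) n) :
    AgreeAt G T α β (φ.left.base n) := by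
  obtain ⟨M, μ, m, hm, hμ⟩ := h
  refine ⟨M, μ ≫ φ, m, ?_, ?_⟩
  · rw [← hm]
    rfl
  · rw [← map_map' G μ φ α, ← map_map' G μ φ β]
    exact hμ

theorem agreeAt_map {T N : X.Etale} (φ : N ⟶ T) (α β : G.obj.obj (op T)) (n : N.left)
    (h : AgreeAt G T α β (φ.left.base n)) :
    AgreeAt G N (G.obj.map φ.op α) (G.obj.map φ.op β) n := by
  obtain ⟨Ω, hΩ1, hΩ2, nb, hnb⟩ := exists_geomPoint n
  letI := hΩ1
  haveI := hΩ2
  let ξ : Spec (CommRingCat.of Ω) ⟶ X := nb ≫ N.hom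
  let lN : (Φ ξ).fiber.obj N := mkPt ξ N nb rfl
  let lT : (Φ ξ).fiber.obj T := (Φ ξ).fiber.map φ lN
  have hptN : (pt ξ N lN).base default = n := hnb
  have hptT : (pt ξ T lT).base default = φ.left.base n := by
    rw [← hptN]
    rfl
  have g1 := germ_eq_of_agreeAt G ξ T lT α β (by rw [hptT]; exact h)
  have w1 := (Φ ξ).toPresheafFiber_w_apply φ lN G.obj α
  have w2 := (Φ ξ).toPresheafFiber_w_apply φ lN G.obj β
  have g2 := agreeAt_of_germ_eq G ξ N lN (G.obj.map φ.op α) (G.obj.map φ.op β)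
    (w1.trans (g1.trans w2.symm))
  rw [hptN] at g2
  exact g2

end Agree

section Rep

variable {X S : Scheme.{u}} (f : X ⟶ S) (F : EtCoh.Ab S)

/-- the inverse image sheaf -/
noncomputable abbrev pG : EtCoh.Ab X := (EtCoh.pull f).obj F

/-- the adjunction unit on sections -/
noncomputable abbrev uA (V : S.Etale) (a : F.obj.obj (op V)) :
    (pG f F).obj.obj (op ((EtCoh.bc f).obj V)) :=
  ((EtCoh.pullPushAdj f).unit.app F).hom.app (op V) a

/-- the projection `X ×_S V ⟶ V` -/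
noncomputable abbrev prV (V : S.Etale) : ((EtCoh.bc f).obj V).left ⟶ V.left :=
  pullback.fst V.hom f

theorem uA_map {V W : S.Etale} (ψ : W ⟶ V) (a : F.obj.obj (op V)) :
    uA f F W (F.obj.map ψ.op a) =
      (pG f F).obj.map ((EtCoh.bc f).map ψ).op (uA f F V a) :=
  NatTrans.naturality_apply ((EtCoh.pullPushAdj f).unit.app F).hom ψ.op a

/-- sections of the inverse image are étale-locally inverse images of sections -/
theorem exists_local_rep {Ω : Type u} [Field Ω] [IsSepClosed Ω]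
    (xb : Spec (CommRingCat.of Ω) ⟶ X) (V : S.Etale)
    (yb : (Φ xb).fiber.obj ((EtCoh.bc f).obj V))
    (α : (pG f F).obj.obj (op ((EtCoh.bc f).obj V))) :
    ∃ (V₂ : S.Etale) (ψ : V₂ ⟶ V) (y₂ : (Φ xb).fiber.obj ((EtCoh.bc f).obj V₂))
      (a₂ : F.obj.obj (op V₂)),
      (Φ xb).fiber.map ((EtCoh.bc f).map ψ) y₂ = yb ∧
      AgreeAt (pG f F) ((EtCoh.bc f).obj V₂)
        ((pG f F).obj.map ((EtCoh.bc f).map ψ).op α) (uA f F V₂ a₂)
        ((pt xb _ y₂).base default) := by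
  haveI := SHC.preservesFilteredColimits_forget.{u}
  obtain ⟨e, he⟩ := cmp_hom_surjective f xb F
    ((Φ xb).toPresheafFiber ((EtCoh.bc f).obj V) yb (pG f F).obj α)
  obtain ⟨V₁, y₁, a₁, rfl⟩ := (SHC.comapPoint f xb).toPresheafFiber_jointly_surjective
    (P := F.obj) e
  haveI := (SHC.comapPoint f xb).isCofiltered
  let A : (SHC.comapPoint f xb).fiber.Elements := ⟨V, yb⟩
  let B : (SHC.comapPoint f xb).fiber.Elements := ⟨V₁, y₁⟩
  let p : IsCofiltered.min A B ⟶ A := IsCofiltered.minToLeft A B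
  let q : IsCofiltered.min A B ⟶ B := IsCofiltered.minToRight A B
  let V₂ : S.Etale := (IsCofiltered.min A B).1
  let y₂ : (Φ xb).fiber.obj ((EtCoh.bc f).obj V₂) := (IsCofiltered.min A B).2
  let ψ : V₂ ⟶ V := p.1
  let ψ₁ : V₂ ⟶ V₁ := q.1
  have hp : (Φ xb).fiber.map ((EtCoh.bc f).map ψ) y₂ = yb := p.2
  have hq : (SHC.comapPoint f xb).fiber.map ψ₁ y₂ = y₁ := q.2
  refine ⟨V₂, ψ, y₂, F.obj.map ψ₁.op a₁, hp, ?_⟩
  apply agreeAt_of_germ_eq
  have e1 := (Φ xb).toPresheafFiber_w_apply ((EtCoh.bc f).map ψ) y₂ (pG f F).obj α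
  rw [hp] at e1
  have e2 := (SHC.comapPoint f xb).toPresheafFiber_w_apply ψ₁ y₂ F.obj a₁
  rw [hq] at e2
  have e3 := cmp_germ f xb F V₂ y₂ (F.obj.map ψ₁.op a₁)
  rw [e2, he] at e3
  exact e1.trans e3

/-- **Agreement propagates along the fibres of `V₂`.** If two sections `a₂, b₂` of `F` over `V₂`
have inverse images agreeing near a point `n'` of an étale `N ⟶ X ×_S V₂`, they agree near any
other point `n` of `N` with the same image in `V₂`. -/
theorem agreeAt_of_same_image (V₂ : S.Etale) (a₂ b₂ : F.obj.obj (op V₂)) (N : X.Etale)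
    (ν : N ⟶ (EtCoh.bc f).obj V₂) (n n' : N.left)
    (hnn : (prV f V₂).base (ν.left.base n) = (prV f V₂).base (ν.left.base n'))
    (h : AgreeAt (pG f F) N ((pG f F).obj.map ν.op (uA f F V₂ a₂))
      ((pG f F).obj.map ν.op (uA f F V₂ b₂)) n') :
    AgreeAt (pG f F) N ((pG f F).obj.map ν.op (uA f F V₂ a₂))
      ((pG f F).obj.map ν.op (uA f F V₂ b₂)) n := by
  haveI := SHC.preservesFilteredColimits_forget.{u}
  -- Part 1: the germs of `a₂`, `b₂` agree at the image of `n'`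
  obtain ⟨Ω', hΩ'1, hΩ'2, nb', hnb'⟩ := exists_geomPoint n'
  letI := hΩ'1
  haveI := hΩ'2
  let xb' : Spec (CommRingCat.of Ω') ⟶ X := nb' ≫ N.hom
  let lN' : (Φ xb').fiber.obj N := mkPt xb' N nb' rfl
  have hpt' : (pt xb' N lN').base default = n' := hnb'
  have g1 := germ_eq_of_agreeAt (pG f F) xb' N lN' ((pG f F).obj.map ν.op (uA f F V₂ a₂))
    ((pG f F).obj.map ν.op (uA f F V₂ b₂)) (by rw [hpt']; exact h)
  let y₂' : (Φ xb').fiber.obj ((EtCoh.bc f).obj V₂) := (Φ xb').fiber.map ν lN'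
  have w1 := (Φ xb').toPresheafFiber_w_apply ν lN' (pG f F).obj (uA f F V₂ a₂)
  have w2 := (Φ xb').toPresheafFiber_w_apply ν lN' (pG f F).obj (uA f F V₂ b₂)
  have g2 : (Φ xb').toPresheafFiber _ y₂' (pG f F).obj (uA f F V₂ a₂) =
      (Φ xb').toPresheafFiber _ y₂' (pG f F).obj (uA f F V₂ b₂) := w1.symm.trans (g1.trans w2)
  have c1 := cmp_germ f xb' F V₂ y₂' a₂
  have c2 := cmp_germ f xb' F V₂ y₂' b₂
  have g3 : (SHC.comapPoint f xb').toPresheafFiber V₂ y₂' F.obj a₂ =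
      (SHC.comapPoint f xb').toPresheafFiber V₂ y₂' F.obj b₂ :=
    cmp_hom_injective f xb' F (c1.trans (g2.trans c2.symm))
  obtain ⟨V₃, ψ₃, y₃, hy₃, hab⟩ := ((SHC.comapPoint f xb').toPresheafFiber_eq_iff' (P := F.obj)
    V₂ y₂' a₂ b₂).1 g3
  have hsq : ((EtCoh.bc f).map ψ₃).left ≫ prV f V₂ = prV f V₃ ≫ ψ₃.left :=
    (EtCoh.isPullback_bc_map f ψ₃).w
  let y₃' : (Φ xb').fiber.obj ((EtCoh.bc f).obj V₃) := y₃
  have hy₃' : pt xb' _ y₃' ≫ ((EtCoh.bc f).map ψ₃).left = nb' ≫ ν.left := by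
    have h1 : (Φ xb').fiber.map ((EtCoh.bc f).map ψ₃) y₃' = y₂' := hy₃
    have h2 := congrArg (pt xb' _) h1
    exact h2
  let v₃ : V₃.left := (pt xb' _ y₃' ≫ prV f V₃).base default
  have hv₃ : ψ₃.left.base v₃ = (prV f V₂).base (ν.left.base n') := by
    have hm3 : (pt xb' _ y₃' ≫ prV f V₃) ≫ ψ₃.left = (nb' ≫ ν.left) ≫ prV f V₂ := by
      calc (pt xb' _ y₃' ≫ prV f V₃) ≫ ψ₃.left
          = pt xb' _ y₃' ≫ (prV f V₃ ≫ ψ₃.left) := Category.assoc _ _ _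
        _ = pt xb' _ y₃' ≫ (((EtCoh.bc f).map ψ₃).left ≫ prV f V₂) :=
            congrArg (fun k => pt xb' _ y₃' ≫ k) hsq.symm
        _ = (pt xb' _ y₃' ≫ ((EtCoh.bc f).map ψ₃).left) ≫ prV f V₂ := (Category.assoc _ _ _).symm
        _ = (nb' ≫ ν.left) ≫ prV f V₂ := congrArg (fun k => k ≫ prV f V₂) hy₃'
    have h4 := congrArg (fun k => k.base default) hm3
    have h5 : ((nb' ≫ ν.left) ≫ prV f V₂).base default =
        (prV f V₂).base (ν.left.base (nb'.base default)) := rfl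
    have h6 : nb'.base default = n' := hnb'
    rw [h6] at h5
    exact h4.trans h5
  -- Part 2: transport to the point `n`
  obtain ⟨Ω, hΩ1, hΩ2, nb, hnb⟩ := exists_geomPoint n
  letI := hΩ1
  haveI := hΩ2
  let xb : Spec (CommRingCat.of Ω) ⟶ X := nb ≫ N.hom
  let lN : (Φ xb).fiber.obj N := mkPt xb N nb rfl
  have hpt : (pt xb N lN).base default = n := hnb
  let y₂ : (Φ xb).fiber.obj ((EtCoh.bc f).obj V₂) := (Φ xb).fiber.map ν lN
  let vb₂ : Spec (CommRingCat.of Ω) ⟶ V₂.left := pt xb _ y₂ ≫ prV f V₂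
  have hvb₂ : ψ₃.left.base v₃ = vb₂.base default := by
    have h5 : vb₂.base default = (prV f V₂).base (ν.left.base (nb.base default)) := rfl
    have h6 : nb.base default = n := hnb
    rw [h6] at h5
    rw [h5, hnn]
    exact hv₃
  obtain ⟨vb₃, hvb₃, -⟩ := Scheme.exists_fac_of_etale_of_isSepClosed ψ₃.left vb₂ v₃ hvb₂
  have hcond : vb₃ ≫ V₃.hom = xb ≫ f := by
    have e1 : ψ₃.left ≫ V₂.hom = V₃.hom := MorphismProperty.Over.w ψ₃
    have c1 : prV f V₂ ≫ V₂.hom = ((EtCoh.bc f).obj V₂).hom ≫ f := pullback.condition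
    calc vb₃ ≫ V₃.hom = vb₃ ≫ (ψ₃.left ≫ V₂.hom) := congrArg (fun k => vb₃ ≫ k) e1.symm
      _ = (vb₃ ≫ ψ₃.left) ≫ V₂.hom := (Category.assoc _ _ _).symm
      _ = (pt xb _ y₂ ≫ prV f V₂) ≫ V₂.hom := congrArg (fun k => k ≫ V₂.hom) hvb₃
      _ = pt xb _ y₂ ≫ (prV f V₂ ≫ V₂.hom) := Category.assoc _ _ _
      _ = pt xb _ y₂ ≫ (((EtCoh.bc f).obj V₂).hom ≫ f) :=
          congrArg (fun k => pt xb _ y₂ ≫ k) c1
      _ = (pt xb _ y₂ ≫ ((EtCoh.bc f).obj V₂).hom) ≫ f := (Category.assoc _ _ _).symm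
      _ = xb ≫ f := congrArg (fun k => k ≫ f) (pt_comp xb _ y₂)
  let z₃ : Spec (CommRingCat.of Ω) ⟶ ((EtCoh.bc f).obj V₃).left := pullback.lift vb₃ xb hcond
  have hz₃1 : z₃ ≫ prV f V₃ = vb₃ := pullback.lift_fst _ _ _
  have hz₃2 : z₃ ≫ ((EtCoh.bc f).obj V₃).hom = xb := pullback.lift_snd _ _ _
  let yt₃ : (Φ xb).fiber.obj ((EtCoh.bc f).obj V₃) := mkPt xb _ z₃ hz₃2
  have hyt₃ : (Φ xb).fiber.map ((EtCoh.bc f).map ψ₃) yt₃ = y₂ := by
    apply pt_ext
    rw [pt_map]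
    show z₃ ≫ ((EtCoh.bc f).map ψ₃).left = pt xb _ y₂
    apply pt_bc_ext f V₂
    · calc (z₃ ≫ ((EtCoh.bc f).map ψ₃).left) ≫ prV f V₂
          = z₃ ≫ (((EtCoh.bc f).map ψ₃).left ≫ prV f V₂) := Category.assoc _ _ _
        _ = z₃ ≫ (prV f V₃ ≫ ψ₃.left) := congrArg (fun k => z₃ ≫ k) hsq
        _ = (z₃ ≫ prV f V₃) ≫ ψ₃.left := (Category.assoc _ _ _).symm
        _ = vb₃ ≫ ψ₃.left := congrArg (fun k => k ≫ ψ₃.left) hz₃1
        _ = pt xb _ y₂ ≫ prV f V₂ := hvb₃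
    · have e2 : ((EtCoh.bc f).map ψ₃).left ≫ ((EtCoh.bc f).obj V₂).hom =
          ((EtCoh.bc f).obj V₃).hom := MorphismProperty.Over.w ((EtCoh.bc f).map ψ₃)
      calc (z₃ ≫ ((EtCoh.bc f).map ψ₃).left) ≫ ((EtCoh.bc f).obj V₂).hom
          = z₃ ≫ (((EtCoh.bc f).map ψ₃).left ≫ ((EtCoh.bc f).obj V₂).hom) :=
            Category.assoc _ _ _
        _ = z₃ ≫ ((EtCoh.bc f).obj V₃).hom := congrArg (fun k => z₃ ≫ k) e2
        _ = xb := hz₃2
        _ = pt xb _ y₂ ≫ ((EtCoh.bc f).obj V₂).hom := (pt_comp xb _ y₂).symm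
  have t1 := (Φ xb).toPresheafFiber_w_apply ((EtCoh.bc f).map ψ₃) yt₃ (pG f F).obj
    (uA f F V₂ a₂)
  have t2 := (Φ xb).toPresheafFiber_w_apply ((EtCoh.bc f).map ψ₃) yt₃ (pG f F).obj
    (uA f F V₂ b₂)
  rw [hyt₃] at t1 t2
  have hab' : uA f F V₃ (F.obj.map ψ₃.op a₂) = uA f F V₃ (F.obj.map ψ₃.op b₂) :=
    congrArg (uA f F V₃) hab
  have hmid : (pG f F).obj.map ((EtCoh.bc f).map ψ₃).op (uA f F V₂ a₂) =
      (pG f F).obj.map ((EtCoh.bc f).map ψ₃).op (uA f F V₂ b₂) :=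
    (uA_map f F ψ₃ a₂).symm.trans (hab'.trans (uA_map f F ψ₃ b₂))
  have g4 : (Φ xb).toPresheafFiber _ y₂ (pG f F).obj (uA f F V₂ a₂) =
      (Φ xb).toPresheafFiber _ y₂ (pG f F).obj (uA f F V₂ b₂) :=
    t1.symm.trans ((congrArg ((Φ xb).toPresheafFiber _ yt₃ (pG f F).obj) hmid).trans t2)
  have w1' := (Φ xb).toPresheafFiber_w_apply ν lN (pG f F).obj (uA f F V₂ a₂)
  have w2' := (Φ xb).toPresheafFiber_w_apply ν lN (pG f F).obj (uA f F V₂ b₂)
  have g5 := agreeAt_of_germ_eq (pG f F) xb N lN ((pG f F).obj.map ν.op (uA f F V₂ a₂))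
    ((pG f F).obj.map ν.op (uA f F V₂ b₂)) (w1'.trans (g4.trans w2'.symm))
  rw [hpt] at g5
  exact g5

end Rep

end Groth.Agent.Helper1.US
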