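import Mathlib
import Groth.Prelude.Def_SGA4b
import Groth.Agent.Lib.Helper1.US1
import Groth.Agent.Lib.Helper1.FP9

/-!
# Germ calculus for sheaves of sets on the small étale site (helper1)

Sets-valued versions of `FP12.cmp`, `US1.AgreeAt`, `US1.exists_local_rep`.
-/

set_option autoImplicit false
set_option linter.unusedSectionVars false
set_option linter.style.haveILetI false
open CategoryTheory CategoryTheory.Limits AlgebraicGeometry Opposite
universe u

namespace Groth.Agent.Helper1.SG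

open Groth.Agent.Helper1.ELR Groth.Agent.Helper1.FP

section Basic

variable {X : Scheme.{u}} (G : EtDesc.Sh X)

theorem map_mapS {A B C : X.Etale} (a : A ⟶ B) (b : B ⟶ C) (s : G.obj.obj (op C)) :
    G.obj.map a.op (G.obj.map b.op s) = G.obj.map (a ≫ b).op s := by
  rw [op_comp, G.obj.map_comp]
  rfl

theorem map_idS (A : X.Etale) (s : G.obj.obj (op A)) : G.obj.map (𝟙 A).op s = s := by
  rw [op_id, G.obj.map_id]
  rfl

/-- two sections agree on an étale neighbourhood of the point `z` -/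
def AgreeAt (T : X.Etale) (α β : G.obj.obj (op T)) (z : T.left) : Prop :=
  ∃ (M : X.Etale) (μ : M ⟶ T) (m : M.left), μ.left.base m = z ∧
    G.obj.map μ.op α = G.obj.map μ.op β

theorem germ_eq_of_agreeAt {Ω : Type u} [Field Ω] [IsSepClosed Ω]
    (ξ : Spec (CommRingCat.of Ω) ⟶ X) (T : X.Etale) (l : (Φ ξ).fiber.obj T)
    (α β : G.obj.obj (op T)) (h : AgreeAt G T α β ((pt ξ T l).base default)) :
    (Φ ξ).toPresheafFiber T l G.obj α = (Φ ξ).toPresheafFiber T l G.obj β := by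
  obtain ⟨M, μ, m, hm, hαβ⟩ := h
  obtain ⟨mb, hmb, -⟩ := Scheme.exists_fac_of_etale_of_isSepClosed μ.left (pt ξ T l) m hm
  have hM : mb ≫ M.hom = ξ := by
    have e1 : μ.left ≫ T.hom = M.hom := MorphismProperty.Over.w μ
    calc mb ≫ M.hom = mb ≫ (μ.left ≫ T.hom) := congrArg (fun k => mb ≫ k) e1.symm
      _ = (mb ≫ μ.left) ≫ T.hom := (Category.assoc _ _ _).symm
      _ = pt ξ T l ≫ T.hom := congrArg (fun k => k ≫ T.hom) hmb
      _ = ξ := pt_comp ξ T l
  let lM : (Φ ξ).fiber.obj M := mkPt ξ M mb hM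
  have hl : (Φ ξ).fiber.map μ lM = l := by
    apply pt_ext
    rw [pt_map]
    exact hmb
  have e1 := (Φ ξ).toPresheafFiber_w_apply μ lM G.obj α
  have e2 := (Φ ξ).toPresheafFiber_w_apply μ lM G.obj β
  rw [hl] at e1 e2
  rw [← e1, ← e2, hαβ]

theorem agreeAt_of_germ_eq {Ω : Type u} [Field Ω] [IsSepClosed Ω]
    (ξ : Spec (CommRingCat.of Ω) ⟶ X) (T : X.Etale) (l : (Φ ξ).fiber.obj T)
    (α β : G.obj.obj (op T))
    (h : (Φ ξ).toPresheafFiber T l G.obj α = (Φ ξ).toPresheafFiber T l G.obj β) :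
    AgreeAt G T α β ((pt ξ T l).base default) := by
  obtain ⟨M, μ, l', hl', hμ⟩ := ((Φ ξ).toPresheafFiber_eq_iff' (P := G.obj) T l α β).1 h
  refine ⟨M, μ, (pt ξ M l').base default, ?_, hμ⟩
  rw [← hl']
  rfl

theorem isOpen_agreeAt (T : X.Etale) (α β : G.obj.obj (op T)) :
    IsOpen {z : T.left | AgreeAt G T α β z} := by
  rw [isOpen_iff_forall_mem_open]
  rintro z ⟨M, μ, m, hm, h⟩
  refine ⟨Set.range μ.left.base, ?_, μ.left.isOpenMap.isOpen_range, ⟨m, hm⟩⟩
  rintro _ ⟨m', rfl⟩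
  exact ⟨M, μ, m', rfl, h⟩

theorem eq_of_forall_agreeAt (T : X.Etale) (α β : G.obj.obj (op T))
    (h : ∀ z, AgreeAt G T α β z) : α = β := by
  let R : Sieve T :=
    { arrows := fun M μ => G.obj.map μ.op α = G.obj.map μ.op β
      downward_closed := by
        intro M M' μ hμ ν
        show G.obj.map (ν ≫ μ).op α = G.obj.map (ν ≫ μ).op β
        rw [← map_mapS G ν μ α, ← map_mapS G ν μ β, hμ] }
  have hcov : R ∈ X.smallEtaleTopology T := by
    apply SHC.mem_of_pointwise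
    intro z
    obtain ⟨M, μ, m, hm, hμ⟩ := h z
    exact ⟨M, μ, m, hμ, hm⟩
  exact ((sh_isSheaf G) R hcov).isSeparatedFor.ext (fun M μ hμ => hμ)

theorem agreeAt_of_map {T N : X.Etale} (φ : N ⟶ T) (α β : G.obj.obj (op T)) (n : N.left)
    (h : AgreeAt G N (G.obj.map φ.op α) (G.obj.map φ.op β) n) :
    AgreeAt G T α β (φ.left.base n) := by
  obtain ⟨M, μ, m, hm, hμ⟩ := h
  refine ⟨M, μ ≫ φ, m, ?_, ?_⟩
  · rw [← hm]
    rfl
  · rw [← map_mapS G μ φ α, ← map_mapS G μ φ β]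
    exact hμ

theorem agreeAt_map {T N : X.Etale} (φ : N ⟶ T) (α β : G.obj.obj (op T)) (n : N.left)
    (h : AgreeAt G T α β (φ.left.base n)) :
    AgreeAt G N (G.obj.map φ.op α) (G.obj.map φ.op β) n := by
  obtain ⟨Ω, hΩ1, hΩ2, nb, hnb⟩ := exists_geomPoint n
  letI := hΩ1
  haveI := hΩ2
  let ξ : Spec (CommRingCat.of Ω) ⟶ X := nb ≫ N.hom
  let lN : (Φ ξ).fiber.obj N := mkPt ξ N nb rfl
  let lT : (Φ ξ).fiber.obj T := (Φ ξ).fiber.map φ lN
  have hptN : (pt ξ N lN).base default = n := hnb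
  have hptT : (pt ξ T lT).base default = φ.left.base n := by
    rw [← hptN]
    rfl
  have g1 := germ_eq_of_agreeAt G ξ T lT α β (by rw [hptT]; exact h)
  have w1 := (Φ ξ).toPresheafFiber_w_apply φ lN G.obj α
  have w2 := (Φ ξ).toPresheafFiber_w_apply φ lN G.obj β
  have g2 := agreeAt_of_germ_eq G ξ N lN (G.obj.map φ.op α) (G.obj.map φ.op β)
    (w1.trans (g1.trans w2.symm))
  rw [hptN] at g2
  exact g2

end Basic

section Comap

variable {X X' : Scheme.{u}} (k : X' ⟶ X) {Ω : Type u} [Field Ω] [IsSepClosed Ω]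
  (ξ' : Spec (CommRingCat.of Ω) ⟶ X')

/-- the stalk of an inverse image (sheaves of sets) -/
noncomputable def cmpS (H : EtDesc.Sh X) :
    (SHC.comapPoint k ξ').sheafFiber.obj H ≅ (Φ ξ').sheafFiber.obj ((EtDesc.pullSh k).obj H) :=
  haveI := SHC.initiallySmall_comap k ξ'
  haveI : (EtDesc.pushSh k).IsRightAdjoint := (EtDesc.adjSh k).isRightAdjoint
  ((Φ ξ').sheafFiberComapIso (EtCoh.bc k) (EtCoh.coverPreserving_bc k)
    (Type (u + 1))).app H

set_option backward.isDefEq.respectTransparency.types false in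
theorem cmpS_germ (H : EtDesc.Sh X) (U : X.Etale) (l' : (Φ ξ').fiber.obj ((EtCoh.bc k).obj U))
    (σ : H.obj.obj (op U)) :
    (cmpS k ξ' H).hom ((SHC.comapPoint k ξ').toPresheafFiber U l' H.obj σ) =
      (Φ ξ').toPresheafFiber ((EtCoh.bc k).obj U) l' ((EtDesc.pullSh k).obj H).obj
        (((EtDesc.adjSh k).unit.app H).hom.app (op U) σ) := by
  haveI := SHC.initiallySmall_comap k ξ'
  haveI : (EtDesc.pushSh k).IsRightAdjoint := (EtDesc.adjSh k).isRightAdjoint
  have key := PT.toPresheafFiber_comapIso_hom (Φ ξ') (EtCoh.bc k) (EtCoh.coverPreserving_bc k)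
    (Type (u + 1)) H U l'
  have k2 := ConcreteCategory.congr_hom key σ
  exact (ConcreteCategory.comp_apply _ _ _).symm.trans
    (k2.trans (ConcreteCategory.comp_apply _ _ _))

theorem cmpS_hom_injective (H : EtDesc.Sh X) : Function.Injective (cmpS k ξ' H).hom :=
  (ConcreteCategory.bijective_of_isIso (cmpS k ξ' H).hom).1

theorem cmpS_hom_surjective (H : EtDesc.Sh X) : Function.Surjective (cmpS k ξ' H).hom :=
  (ConcreteCategory.bijective_of_isIso (cmpS k ξ' H).hom).2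

end Comap

end Groth.Agent.Helper1.SG
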