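import Mathlib
import Groth.Prelude.Def_SGA4b
import Groth.Agent.Lib.Helper1.SG1

/-!
# The adjunction unit on sections for sheaves of sets (helper1)
-/

set_option autoImplicit false
set_option linter.unusedSectionVars false
set_option linter.style.haveILetI false
open CategoryTheory CategoryTheory.Limits AlgebraicGeometry Opposite
universe u

namespace Groth.Agent.Helper1.SG

open Groth.Agent.Helper1.ELR Groth.Agent.Helper1.FP

section Unit

variable {X S : Scheme.{u}} (f : X ⟶ S) (F : EtDesc.Sh S)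

/-- the inverse image sheaf -/
noncomputable abbrev pGS : EtDesc.Sh X := (EtDesc.pullSh f).obj F

/-- the adjunction unit on sections -/
noncomputable abbrev uS (V : S.Etale) (a : F.obj.obj (op V)) :
    (pGS f F).obj.obj (op ((EtCoh.bc f).obj V)) :=
  ((EtDesc.adjSh f).unit.app F).hom.app (op V) a

theorem uS_map {V W : S.Etale} (ψ : W ⟶ V) (a : F.obj.obj (op V)) :
    uS f F W (F.obj.map ψ.op a) =
      (pGS f F).obj.map ((EtCoh.bc f).map ψ).op (uS f F V a) :=
  NatTrans.naturality_apply ((EtDesc.adjSh f).unit.app F).hom ψ.op a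

theorem agreeAt_unit_of_agreeAt (V : S.Etale) (a b : F.obj.obj (op V))
    (w : ((EtCoh.bc f).obj V).left) (h : AgreeAt F V a b ((US.prV f V).base w)) :
    AgreeAt (pGS f F) ((EtCoh.bc f).obj V) (uS f F V a) (uS f F V b) w := by
  obtain ⟨M, μ, m, hm, hμ⟩ := h
  have sq := EtCoh.isPullback_bc_map f μ
  obtain ⟨z, hz1, -⟩ := Scheme.Pullback.exists_preimage_pullback
    (f := US.prV f V) (g := μ.left) w m hm.symm
  refine ⟨(EtCoh.bc f).obj M, (EtCoh.bc f).map μ, sq.isoPullback.inv z, ?_, ?_⟩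
  · rw [← hz1, ← Scheme.Hom.comp_apply, IsPullback.isoPullback_inv_fst]
  · rw [← uS_map, ← uS_map, hμ]

theorem agreeAt_of_agreeAt_unit (V : S.Etale) (a b : F.obj.obj (op V))
    (w : ((EtCoh.bc f).obj V).left)
    (h : AgreeAt (pGS f F) ((EtCoh.bc f).obj V) (uS f F V a) (uS f F V b) w) :
    AgreeAt F V a b ((US.prV f V).base w) := by
  obtain ⟨Ω, hΩ1, hΩ2, nb, hnb⟩ := exists_geomPoint w
  letI := hΩ1
  haveI := hΩ2
  let xb : Spec (CommRingCat.of Ω) ⟶ X := nb ≫ ((EtCoh.bc f).obj V).hom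
  let l' : (Φ xb).fiber.obj ((EtCoh.bc f).obj V) := mkPt xb _ nb rfl
  have hpt : (pt xb _ l').base default = w := hnb
  have g1 := germ_eq_of_agreeAt (pGS f F) xb _ l' (uS f F V a) (uS f F V b)
    (by rw [hpt]; exact h)
  have c1 := cmpS_germ f xb F V l' a
  have c2 := cmpS_germ f xb F V l' b
  have g3 : (SHC.comapPoint f xb).toPresheafFiber V l' F.obj a =
      (SHC.comapPoint f xb).toPresheafFiber V l' F.obj b :=
    cmpS_hom_injective f xb F (c1.trans (g1.trans c2.symm))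
  obtain ⟨V₃, ψ₃, y₃, hy₃, hab⟩ := ((SHC.comapPoint f xb).toPresheafFiber_eq_iff' (P := F.obj)
    V l' a b).1 g3
  let y₃' : (Φ xb).fiber.obj ((EtCoh.bc f).obj V₃) := y₃
  have hy₃' : pt xb _ y₃' ≫ ((EtCoh.bc f).map ψ₃).left = nb := by
    have h1 : (Φ xb).fiber.map ((EtCoh.bc f).map ψ₃) y₃' = l' := hy₃
    have h2 := congrArg (pt xb _) h1
    exact h2
  refine ⟨V₃, ψ₃, (pt xb _ y₃' ≫ US.prV f V₃).base default, ?_, hab⟩
  have hsq : ((EtCoh.bc f).map ψ₃).left ≫ US.prV f V = US.prV f V₃ ≫ ψ₃.left :=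
    (EtCoh.isPullback_bc_map f ψ₃).w
  have hm3 : (pt xb _ y₃' ≫ US.prV f V₃) ≫ ψ₃.left = nb ≫ US.prV f V := by
    calc (pt xb _ y₃' ≫ US.prV f V₃) ≫ ψ₃.left
        = pt xb _ y₃' ≫ (US.prV f V₃ ≫ ψ₃.left) := Category.assoc _ _ _
      _ = pt xb _ y₃' ≫ (((EtCoh.bc f).map ψ₃).left ≫ US.prV f V) :=
          congrArg (fun k => pt xb _ y₃' ≫ k) hsq.symm
      _ = (pt xb _ y₃' ≫ ((EtCoh.bc f).map ψ₃).left) ≫ US.prV f V := (Category.assoc _ _ _).symm
      _ = nb ≫ US.prV f V := congrArg (fun k => k ≫ US.prV f V) hy₃'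
  have h4 := congrArg (fun k => k.base default) hm3
  have h5 : (nb ≫ US.prV f V).base default = (US.prV f V).base (nb.base default) := rfl
  rw [hnb] at h5
  exact h4.trans h5

theorem agreeAt_unit_iff (V : S.Etale) (a b : F.obj.obj (op V))
    (w : ((EtCoh.bc f).obj V).left) :
    AgreeAt (pGS f F) ((EtCoh.bc f).obj V) (uS f F V a) (uS f F V b) w ↔
      AgreeAt F V a b ((US.prV f V).base w) :=
  ⟨agreeAt_of_agreeAt_unit f F V a b w, agreeAt_unit_of_agreeAt f F V a b w⟩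

theorem prV_surjective (hf : Function.Surjective f.base) (V : S.Etale) :
    Function.Surjective (US.prV f V).base := by
  intro z
  obtain ⟨x, hx⟩ := hf (V.hom.base z)
  obtain ⟨w, hw1, -⟩ := Scheme.Pullback.exists_preimage_pullback (f := V.hom) (g := f) z x hx.symm
  exact ⟨w, hw1⟩

/-- the unit is injective on sections if `f` is surjective -/
theorem uS_injective (hf : Function.Surjective f.base) (V : S.Etale) (a b : F.obj.obj (op V))
    (h : uS f F V a = uS f F V b) : a = b := by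
  apply eq_of_forall_agreeAt F V a b
  intro z
  obtain ⟨w, hw⟩ := prV_surjective f hf V z
  rw [← hw]
  apply agreeAt_of_agreeAt_unit
  exact ⟨_, 𝟙 _, w, rfl, by rw [h]⟩

/-- sections of the inverse image are étale-locally inverse images of sections -/
theorem exists_local_rep {Ω : Type u} [Field Ω] [IsSepClosed Ω]
    (xb : Spec (CommRingCat.of Ω) ⟶ X) (V : S.Etale)
    (yb : (Φ xb).fiber.obj ((EtCoh.bc f).obj V))
    (α : (pGS f F).obj.obj (op ((EtCoh.bc f).obj V))) :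
    ∃ (V₂ : S.Etale) (ψ : V₂ ⟶ V) (y₂ : (Φ xb).fiber.obj ((EtCoh.bc f).obj V₂))
      (a₂ : F.obj.obj (op V₂)),
      (Φ xb).fiber.map ((EtCoh.bc f).map ψ) y₂ = yb ∧
      AgreeAt (pGS f F) ((EtCoh.bc f).obj V₂)
        ((pGS f F).obj.map ((EtCoh.bc f).map ψ).op α) (uS f F V₂ a₂)
        ((pt xb _ y₂).base default) := by
  obtain ⟨e, he⟩ := cmpS_hom_surjective f xb F
    ((Φ xb).toPresheafFiber ((EtCoh.bc f).obj V) yb (pGS f F).obj α)
  obtain ⟨V₁, y₁, a₁, rfl⟩ := (SHC.comapPoint f xb).toPresheafFiber_jointly_surjective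
    (P := F.obj) e
  haveI := (SHC.comapPoint f xb).isCofiltered
  let A : (SHC.comapPoint f xb).fiber.Elements := ⟨V, yb⟩
  let B : (SHC.comapPoint f xb).fiber.Elements := ⟨V₁, y₁⟩
  let p : IsCofiltered.min A B ⟶ A := IsCofiltered.minToLeft A B
  let q : IsCofiltered.min A B ⟶ B := IsCofiltered.minToRight A B
  let V₂ : S.Etale := (IsCofiltered.min A B).1
  let y₂ : (Φ xb).fiber.obj ((EtCoh.bc f).obj V₂) := (IsCofiltered.min A B).2
  let ψ : V₂ ⟶ V := p.1
  let ψ₁ : V₂ ⟶ V₁ := q.1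
  have hp : (Φ xb).fiber.map ((EtCoh.bc f).map ψ) y₂ = yb := p.2
  have hq : (SHC.comapPoint f xb).fiber.map ψ₁ y₂ = y₁ := q.2
  refine ⟨V₂, ψ, y₂, F.obj.map ψ₁.op a₁, hp, ?_⟩
  apply agreeAt_of_germ_eq
  have e1 := (Φ xb).toPresheafFiber_w_apply ((EtCoh.bc f).map ψ) y₂ (pGS f F).obj α
  rw [hp] at e1
  have e2 := (SHC.comapPoint f xb).toPresheafFiber_w_apply ψ₁ y₂ F.obj a₁
  rw [hq] at e2
  have e3 := cmpS_germ f xb F V₂ y₂ (F.obj.map ψ₁.op a₁)
  rw [e2, he] at e3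
  exact e1.trans e3

end Unit

end Groth.Agent.Helper1.SG
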