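import Mathlib
import Groth.Prelude.Def_SGA4b
import Groth.Agent.Lib.Helper1.SG2

/-!
# Units and the composition isomorphisms of inverse images of sheaves of sets (helper1)
-/

set_option autoImplicit false
set_option linter.unusedSectionVars false
set_option linter.style.haveILetI false
open CategoryTheory CategoryTheory.Limits AlgebraicGeometry Opposite
universe u

namespace Groth.Agent.Helper1.SG

open Groth.Agent.Helper1.ELR Groth.Agent.Helper1.FP

section Comp

variable {T S X : Scheme.{u}} (g : T ⟶ S) (a : S ⟶ X) (F : EtDesc.Sh X)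

/-- canonical map `bc_{g ≫ a} U ⟶ bc_g (bc_a U)` -/
noncomputable abbrev cU (U : X.Etale) :
    (EtCoh.bc (g ≫ a)).obj U ⟶ (EtCoh.bc g).obj ((EtCoh.bc a).obj U) :=
  (MorphismProperty.Over.pullbackComp (P := EtCoh.etaleMP) (Q := ⊤) g a).hom.app U

/-- canonical map `bc_g (bc_a U) ⟶ bc_{g ≫ a} U` -/
noncomputable abbrev dU (U : X.Etale) :
    (EtCoh.bc g).obj ((EtCoh.bc a).obj U) ⟶ (EtCoh.bc (g ≫ a)).obj U :=
  (MorphismProperty.Over.pullbackComp (P := EtCoh.etaleMP) (Q := ⊤) g a).inv.app U

theorem dU_cU (U : X.Etale) : dU g a U ≫ cU g a U = 𝟙 _ := Iso.inv_hom_id_app _ _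

theorem cU_dU (U : X.Etale) : cU g a U ≫ dU g a U = 𝟙 _ := Iso.hom_inv_id_app _ _

set_option backward.isDefEq.respectTransparency.types false in
theorem pullComp_unit (U : X.Etale) (σ : F.obj.obj (op U)) :
    ((EtDesc.pullCompSh g a).hom.app F).hom.app (op ((EtCoh.bc (g ≫ a)).obj U))
        (uS (g ≫ a) F U σ) =
      ((EtDesc.pullSh g).obj ((EtDesc.pullSh a).obj F)).obj.map (cU g a U).op
        (uS g ((EtDesc.pullSh a).obj F) ((EtCoh.bc a).obj U) (uS a F U σ)) := by
  have h := Adjunction.unit_leftAdjointUniq_hom_app (EtDesc.adjSh (g ≫ a))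
    (((EtDesc.adjSh a).comp (EtDesc.adjSh g)).ofNatIsoRight (EtDesc.pushCompSh a g)) F
  have h2 := congrArg (fun m => m.hom.app (op U) σ) h
  exact h2

/-- transport of the composition formula to the inverse -/
theorem pullComp_inv_unit (U : X.Etale) (σ : F.obj.obj (op U)) :
    ((EtDesc.pullCompSh g a).inv.app F).hom.app (op ((EtCoh.bc g).obj ((EtCoh.bc a).obj U)))
        (uS g ((EtDesc.pullSh a).obj F) ((EtCoh.bc a).obj U) (uS a F U σ)) =
      ((EtDesc.pullSh (g ≫ a)).obj F).obj.map (dU g a U).op (uS (g ≫ a) F U σ) := by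
  let G := (EtDesc.pullSh g).obj ((EtDesc.pullSh a).obj F)
  let G' := (EtDesc.pullSh (g ≫ a)).obj F
  let Θh := (EtDesc.pullCompSh g a).hom.app F
  let Θi := (EtDesc.pullCompSh g a).inv.app F
  let A := uS g ((EtDesc.pullSh a).obj F) ((EtCoh.bc a).obj U) (uS a F U σ)
  let x := uS (g ≫ a) F U σ
  have h1 : Θh.hom.app (op ((EtCoh.bc (g ≫ a)).obj U)) x = G.obj.map (cU g a U).op A :=
    pullComp_unit g a F U σ
  have h2 : A = G.obj.map (dU g a U).op (Θh.hom.app (op ((EtCoh.bc (g ≫ a)).obj U)) x) := by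
    rw [h1, map_mapS, dU_cU, map_idS]
  have h3 : ∀ y : G'.obj.obj (op ((EtCoh.bc (g ≫ a)).obj U)),
      Θi.hom.app (op ((EtCoh.bc (g ≫ a)).obj U))
        (Θh.hom.app (op ((EtCoh.bc (g ≫ a)).obj U)) y) = y := by
    intro y
    have e : Θh ≫ Θi = 𝟙 _ := Iso.hom_inv_id_app _ _
    exact congrArg (fun m => m.hom.app (op ((EtCoh.bc (g ≫ a)).obj U)) y) e
  have h4 := NatTrans.naturality_apply Θi.hom (dU g a U).op
    (Θh.hom.app (op ((EtCoh.bc (g ≫ a)).obj U)) x)
  show Θi.hom.app _ A = G'.obj.map (dU g a U).op x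
  rw [h2]
  refine h4.trans ?_
  rw [h3]

end Comp

section Congr

variable {T X : Scheme.{u}}

set_option backward.isDefEq.respectTransparency.types false in
theorem pullbackCongr_refl_app (h : T ⟶ X) (U : X.Etale) :
    (MorphismProperty.Over.pullbackCongr (P := EtCoh.etaleMP) (Q := ⊤) (rfl : h = h)).hom.app U =
      𝟙 _ := by
  apply MorphismProperty.Over.Hom.ext
  apply pullback.hom_ext
  · have := MorphismProperty.Over.pullbackCongr_hom_app_left_fst (P := EtCoh.etaleMP) (Q := ⊤)
      (rfl : h = h) U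
    refine this.trans ?_
    exact (Category.id_comp _).symm
  · have h1 := MorphismProperty.Over.w
      ((MorphismProperty.Over.pullbackCongr (P := EtCoh.etaleMP) (Q := ⊤) (rfl : h = h)).hom.app U)
    refine h1.trans ?_
    exact (Category.id_comp _).symm

set_option backward.isDefEq.respectTransparency.types false in
theorem pullCongr_unit {h h' : T ⟶ X} (e : h' = h) (F : EtDesc.Sh X) (U : X.Etale)
    (σ : F.obj.obj (op U)) :
    ((EtDesc.pullCongrSh e).hom.app F).hom.app (op ((EtCoh.bc h').obj U)) (uS h' F U σ) =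
      ((EtDesc.pullSh h).obj F).obj.map
        ((MorphismProperty.Over.pullbackCongr (P := EtCoh.etaleMP) (Q := ⊤) e).hom.app U).op
        (uS h F U σ) := by
  subst e
  rw [pullbackCongr_refl_app]
  have h1 : (EtDesc.pullCongrSh (rfl : h' = h')).hom.app F = 𝟙 _ := by
    unfold EtDesc.pullCongrSh
    simp
  rw [h1]
  exact (map_idS _ _ _).symm

end Congr

section Via

variable {T S X : Scheme.{u}} (g : T ⟶ S) (a : S ⟶ X) (b : T ⟶ X) (w : g ≫ a = b)
  (F : EtDesc.Sh X)

/-- canonical iso `bc_g (bc_a U) ≅ bc_b U` for `g ≫ a = b` -/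
noncomputable def kapIso (U : X.Etale) :
    (EtCoh.bc g).obj ((EtCoh.bc a).obj U) ≅ (EtCoh.bc b).obj U :=
  (MorphismProperty.Over.pullbackComp (P := EtCoh.etaleMP) (Q := ⊤) g a).symm.app U ≪≫
    (MorphismProperty.Over.pullbackCongr (P := EtCoh.etaleMP) (Q := ⊤) w).app U

/-- canonical map `bc_g (bc_a U) ⟶ bc_b U` for `g ≫ a = b` -/
noncomputable abbrev kap (U : X.Etale) :
    (EtCoh.bc g).obj ((EtCoh.bc a).obj U) ⟶ (EtCoh.bc b).obj U := (kapIso g a b w U).hom

theorem kap_eq (U : X.Etale) : kap g a b w U =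
    dU g a U ≫ (MorphismProperty.Over.pullbackCongr (P := EtCoh.etaleMP) (Q := ⊤) w).hom.app U := rfl

set_option backward.isDefEq.respectTransparency.types false in
theorem kap_left_fst (U : X.Etale) :
    (kap g a b w U).left ≫ pullback.fst U.hom b =
      pullback.fst ((EtCoh.bc a).obj U).hom g ≫ pullback.fst U.hom a := by
  have hc' : (cU g a U).left ≫ pullback.fst ((EtCoh.bc a).obj U).hom g ≫ pullback.fst U.hom a =
      pullback.fst U.hom (g ≫ a) :=
    MorphismProperty.Over.pullbackComp_left_fst_fst (P := EtCoh.etaleMP) (Q := ⊤) g a U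
  have hcg : ((MorphismProperty.Over.pullbackCongr (P := EtCoh.etaleMP) (Q := ⊤) w).hom.app U).left ≫
      pullback.fst U.hom b = pullback.fst U.hom (g ≫ a) :=
    MorphismProperty.Over.pullbackCongr_hom_app_left_fst (P := EtCoh.etaleMP) (Q := ⊤) w U
  have h1 : (dU g a U ≫ cU g a U).left = 𝟙 _ := by rw [dU_cU]; rfl
  have h2 : (kap g a b w U).left = (dU g a U).left ≫
      ((MorphismProperty.Over.pullbackCongr (P := EtCoh.etaleMP) (Q := ⊤) w).hom.app U).left := rfl
  calc (kap g a b w U).left ≫ pullback.fst U.hom b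
      = ((dU g a U).left ≫
        ((MorphismProperty.Over.pullbackCongr (P := EtCoh.etaleMP) (Q := ⊤) w).hom.app U).left) ≫
          pullback.fst U.hom b := congrArg (fun m => m ≫ pullback.fst U.hom b) h2
    _ = (dU g a U).left ≫
        (((MorphismProperty.Over.pullbackCongr (P := EtCoh.etaleMP) (Q := ⊤) w).hom.app U).left ≫
          pullback.fst U.hom b) := Category.assoc _ _ _
    _ = (dU g a U).left ≫ pullback.fst U.hom (g ≫ a) := congrArg (fun m => (dU g a U).left ≫ m) hcg
    _ = (dU g a U).left ≫ ((cU g a U).left ≫ pullback.fst ((EtCoh.bc a).obj U).hom g ≫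
          pullback.fst U.hom a) := congrArg (fun m => (dU g a U).left ≫ m) hc'.symm
    _ = (dU g a U ≫ cU g a U).left ≫ pullback.fst ((EtCoh.bc a).obj U).hom g ≫
          pullback.fst U.hom a := (Category.assoc _ _ _).symm
    _ = 𝟙 _ ≫ pullback.fst ((EtCoh.bc a).obj U).hom g ≫ pullback.fst U.hom a :=
        congrArg (fun m => m ≫ pullback.fst ((EtCoh.bc a).obj U).hom g ≫ pullback.fst U.hom a) h1
    _ = _ := Category.id_comp _

set_option backward.isDefEq.respectTransparency.types false in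
theorem pullVia_hom_eq :
    (EtDesc.pullVia g a b w F).hom =
      (EtDesc.pullCompSh g a).inv.app F ≫ (EtDesc.pullCongrSh w).hom.app F := rfl


set_option backward.isDefEq.respectTransparency.types false in
theorem pullVia_unit (U : X.Etale) (σ : F.obj.obj (op U)) :
    (EtDesc.pullVia g a b w F).hom.hom.app (op ((EtCoh.bc g).obj ((EtCoh.bc a).obj U)))
        (uS g ((EtDesc.pullSh a).obj F) ((EtCoh.bc a).obj U) (uS a F U σ)) =
      ((EtDesc.pullSh b).obj F).obj.map (kap g a b w U).op (uS b F U σ) := by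
  let G' := (EtDesc.pullSh (g ≫ a)).obj F
  let Gb := (EtDesc.pullSh b).obj F
  let Θi := (EtDesc.pullCompSh g a).inv.app F
  let Ce := (EtDesc.pullCongrSh w).hom.app F
  let A := uS g ((EtDesc.pullSh a).obj F) ((EtCoh.bc a).obj U) (uS a F U σ)
  have h1 : Θi.hom.app _ A = G'.obj.map (dU g a U).op (uS (g ≫ a) F U σ) :=
    pullComp_inv_unit g a F U σ
  have h2 := pullCongr_unit w F U σ
  have h3 := NatTrans.naturality_apply Ce.hom (dU g a U).op (uS (g ≫ a) F U σ)
  have h4 : (EtDesc.pullVia g a b w F).hom.hom.app (op ((EtCoh.bc g).obj ((EtCoh.bc a).obj U))) A =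
      Ce.hom.app _ (Θi.hom.app _ A) :=
    congrArg (fun m => m.hom.app (op ((EtCoh.bc g).obj ((EtCoh.bc a).obj U))) A)
      (pullVia_hom_eq g a b w F)
  refine h4.trans ?_
  refine (congrArg (Ce.hom.app _) h1).trans ?_
  refine h3.trans ?_
  refine (congrArg (Gb.obj.map (dU g a U).op) h2).trans ?_
  exact map_mapS Gb _ _ _

end Via

section Can

variable {X' X : Scheme.{u}} (f : X' ⟶ X) (F : EtDesc.Sh X)

/-- the canonical isomorphism `pr₁^*(X' ×_X U) ≅ pr₂^*(X' ×_X U)` over `X' ×_X X'` -/
noncomputable def swp (U : X.Etale) :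
    (EtCoh.bc (pullback.fst f f)).obj ((EtCoh.bc f).obj U) ⟶
      (EtCoh.bc (pullback.snd f f)).obj ((EtCoh.bc f).obj U) :=
  (kapIso (pullback.fst f f) f (pullback.fst f f ≫ f) rfl U).hom ≫
    (kapIso (pullback.snd f f) f (pullback.fst f f ≫ f) pullback.condition.symm U).inv

theorem swp_comp_kap (U : X.Etale) :
    swp f U ≫ kap (pullback.snd f f) f (pullback.fst f f ≫ f) pullback.condition.symm U =
      kap (pullback.fst f f) f (pullback.fst f f ≫ f) rfl U := by
  unfold swp
  rw [Category.assoc, Iso.inv_hom_id, Category.comp_id]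

theorem swp_left_fst_fst (U : X.Etale) :
    (swp f U).left ≫ pullback.fst ((EtCoh.bc f).obj U).hom (pullback.snd f f) ≫
        pullback.fst U.hom f =
      pullback.fst ((EtCoh.bc f).obj U).hom (pullback.fst f f) ≫ pullback.fst U.hom f := by
  have h1 := kap_left_fst (pullback.fst f f) f (pullback.fst f f ≫ f) rfl U
  have h2 := kap_left_fst (pullback.snd f f) f (pullback.fst f f ≫ f) pullback.condition.symm U
  have h3 := congrArg (fun m => m.left) (swp_comp_kap f U)
  have e1 : (swp f U).left ≫ pullback.fst ((EtCoh.bc f).obj U).hom (pullback.snd f f) ≫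
        pullback.fst U.hom f = (swp f U).left ≫
          ((kap (pullback.snd f f) f (pullback.fst f f ≫ f) pullback.condition.symm U).left ≫
            pullback.fst U.hom (pullback.fst f f ≫ f)) :=
    congrArg (fun m => (swp f U).left ≫ m) h2.symm
  have e2 : (swp f U).left ≫
          ((kap (pullback.snd f f) f (pullback.fst f f ≫ f) pullback.condition.symm U).left ≫
            pullback.fst U.hom (pullback.fst f f ≫ f)) =
      (swp f U ≫
          kap (pullback.snd f f) f (pullback.fst f f ≫ f) pullback.condition.symm U).left ≫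
            pullback.fst U.hom (pullback.fst f f ≫ f) := (Category.assoc _ _ _).symm
  have e3 : (swp f U ≫
          kap (pullback.snd f f) f (pullback.fst f f ≫ f) pullback.condition.symm U).left ≫
            pullback.fst U.hom (pullback.fst f f ≫ f) =
      (kap (pullback.fst f f) f (pullback.fst f f ≫ f) rfl U).left ≫
            pullback.fst U.hom (pullback.fst f f ≫ f) :=
    congrArg (fun m => m ≫ pullback.fst U.hom (pullback.fst f f ≫ f)) h3
  exact e1.trans (e2.trans (e3.trans h1))


set_option backward.isDefEq.respectTransparency.types false in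
theorem canIso_hom_eq :
    (EtDesc.canIso f F).hom =
      (EtDesc.pullVia (pullback.fst f f) f (pullback.fst f f ≫ f) rfl F).hom ≫
        (EtDesc.pullVia (pullback.snd f f) f (pullback.fst f f ≫ f)
          pullback.condition.symm F).inv := by
  rw [EtDesc.canIso, Iso.trans_hom, Iso.symm_hom]



theorem shComp_app {Z : Scheme.{u}} {A B C : EtDesc.Sh Z} (φ : A ⟶ B) (ψ : B ⟶ C) (W : Z.Etale)
    (x : A.obj.obj (op W)) :
    (φ ≫ ψ).hom.app (op W) x = ψ.hom.app (op W) (φ.hom.app (op W) x) := rfl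

theorem shIso_hom_inv_app {Z : Scheme.{u}} {A B : EtDesc.Sh Z} (e : A ≅ B) (W : Z.Etale)
    (y : A.obj.obj (op W)) : e.inv.hom.app (op W) (e.hom.hom.app (op W) y) = y := by
  rw [← shComp_app, e.hom_inv_id]
  rfl

theorem shIso_inv_hom_app {Z : Scheme.{u}} {A B : EtDesc.Sh Z} (e : A ≅ B) (W : Z.Etale)
    (y : B.obj.obj (op W)) : e.hom.hom.app (op W) (e.inv.hom.app (op W) y) = y := by
  rw [← shComp_app, e.inv_hom_id]
  rfl

theorem canIso_app (W : (pullback f f).Etale)
    (A : ((EtDesc.pullSh (pullback.fst f f)).obj ((EtDesc.pullSh f).obj F)).obj.obj (op W)) :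
    (EtDesc.canIso f F).hom.hom.app (op W) A =
      (EtDesc.pullVia (pullback.snd f f) f (pullback.fst f f ≫ f)
          pullback.condition.symm F).inv.hom.app (op W)
        ((EtDesc.pullVia (pullback.fst f f) f (pullback.fst f f ≫ f) rfl F).hom.hom.app (op W) A) :=
  (congrArg (fun m => m.hom.app (op W) A) (canIso_hom_eq f F)).trans (shComp_app _ _ W A)

/-- abstract form of the comparison -/
theorem can_abstract {Z : Scheme.{u}} {A B C : EtDesc.Sh Z} (P1 : A ≅ B) (P2 : C ≅ B)
    {W1 W2 Wh : Z.Etale} (s : W1 ⟶ W2) (κ1 : W1 ⟶ Wh) (κ2 : W2 ⟶ Wh) (hs : s ≫ κ2 = κ1)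
    (a : A.obj.obj (op W1)) (b : C.obj.obj (op W2)) (x : B.obj.obj (op Wh))
    (e1 : P1.hom.hom.app (op W1) a = B.obj.map κ1.op x)
    (e2 : P2.hom.hom.app (op W2) b = B.obj.map κ2.op x) :
    P2.inv.hom.app (op W1) (P1.hom.hom.app (op W1) a) = C.obj.map s.op b := by
  have n := NatTrans.naturality_apply P2.hom.hom s.op b
  have h2 : P2.hom.hom.app (op W1) (C.obj.map s.op b) = B.obj.map κ1.op x := by
    refine n.trans ?_
    rw [e2, map_mapS, hs]
  rw [e1, ← h2]
  exact shIso_hom_inv_app P2 W1 _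

set_option backward.isDefEq.respectTransparency.types false in
theorem canIso_unit (U : X.Etale) (σ : F.obj.obj (op U)) :
    (EtDesc.canIso f F).hom.hom.app
        (op ((EtCoh.bc (pullback.fst f f)).obj ((EtCoh.bc f).obj U)))
        (uS (pullback.fst f f) ((EtDesc.pullSh f).obj F) ((EtCoh.bc f).obj U) (uS f F U σ)) =
      ((EtDesc.pullSh (pullback.snd f f)).obj ((EtDesc.pullSh f).obj F)).obj.map (swp f U).op
        (uS (pullback.snd f f) ((EtDesc.pullSh f).obj F) ((EtCoh.bc f).obj U) (uS f F U σ)) :=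
  (canIso_app f F _ _).trans
    (can_abstract
      (EtDesc.pullVia (pullback.fst f f) f (pullback.fst f f ≫ f) rfl F)
      (EtDesc.pullVia (pullback.snd f f) f (pullback.fst f f ≫ f) pullback.condition.symm F)
      (swp f U) (kap (pullback.fst f f) f (pullback.fst f f ≫ f) rfl U)
      (kap (pullback.snd f f) f (pullback.fst f f ≫ f) pullback.condition.symm U)
      (swp_comp_kap f U) _ _ (uS (pullback.fst f f ≫ f) F U σ)
      (pullVia_unit (pullback.fst f f) f (pullback.fst f f ≫ f) rfl F U σ)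
      (pullVia_unit (pullback.snd f f) f (pullback.fst f f ≫ f) pullback.condition.symm F U σ))

end Can
end Groth.Agent.Helper1.SG
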