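import Mathlib
import Groth.Prelude.Def_SGA4b
import Groth.Agent.Lib.Helper1.SG3

/-!
# Descent of sections of sheaves of sets along universally submersive morphisms (helper1)
-/

set_option autoImplicit false
set_option linter.unusedSectionVars false
set_option linter.style.haveILetI false
open CategoryTheory CategoryTheory.Limits AlgebraicGeometry Opposite
universe u

namespace Groth.Agent.Helper1.SG

open Groth.Agent.Helper1.ELR Groth.Agent.Helper1.FP

section Gen

/-- terminal map in the small étale site -/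
noncomputable abbrev toTop {Z : Scheme.{u}} (W : Z.Etale) : W ⟶ EtCoh.top Z :=
  (EtCore.topIsTerminal Z).from W

theorem toTop_comp {Z : Scheme.{u}} {W W' : Z.Etale} (m : W' ⟶ W) : m ≫ toTop W = toTop W' :=
  (EtCore.topIsTerminal Z).hom_ext _ _

theorem toTop_top (Z : Scheme.{u}) : toTop (EtCoh.top Z) = 𝟙 _ :=
  (EtCore.topIsTerminal Z).hom_ext _ _

theorem agreeAt_hom {Z : Scheme.{u}} {A B : EtDesc.Sh Z} (φ : A ⟶ B) (T : Z.Etale)
    (α β : A.obj.obj (op T)) (z : T.left) (h : AgreeAt A T α β z) :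
    AgreeAt B T (φ.hom.app (op T) α) (φ.hom.app (op T) β) z := by
  obtain ⟨M, μ, m, hm, hμ⟩ := h
  refine ⟨M, μ, m, hm, ?_⟩
  have n1 := NatTrans.naturality_apply φ.hom μ.op α
  have n2 := NatTrans.naturality_apply φ.hom μ.op β
  rw [← n1, ← n2, hμ]

theorem secPull_eq {T S : Scheme.{u}} (p : T ⟶ S) (G : EtDesc.Sh S)
    (s : G.obj.obj (op (EtCoh.top S))) :
    EtDesc.secPull p G s =
      (pGS p G).obj.map (EtCore.bcTopIso p).inv.op (uS p G (EtCoh.top S) s) := rfl

theorem secPull_restrict {T S : Scheme.{u}} (p : T ⟶ S) (G : EtDesc.Sh S)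
    (s : G.obj.obj (op (EtCoh.top S))) (V : S.Etale) (W : T.Etale)
    (m : W ⟶ (EtCoh.bc p).obj V) :
    (pGS p G).obj.map m.op (uS p G V (G.obj.map (toTop V).op s)) =
      (pGS p G).obj.map (toTop W).op (EtDesc.secPull p G s) := by
  have e : m ≫ (EtCoh.bc p).map (toTop V) = toTop W ≫ (EtCore.bcTopIso p).inv :=
    (EtCore.bcTopIsTerminal p).hom_ext _ _
  rw [uS_map, map_mapS, secPull_eq, map_mapS, e]

theorem secPull_injective {T S : Scheme.{u}} (p : T ⟶ S) (hp : Function.Surjective p.base)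
    (G : EtDesc.Sh S) : Function.Injective (EtDesc.secPull p G) := by
  intro s t h
  apply uS_injective p G hp (EtCoh.top S)
  rw [secPull_eq, secPull_eq] at h
  have h2 := congrArg ((pGS p G).obj.map (EtCore.bcTopIso p).hom.op) h
  rw [map_mapS, map_mapS, Iso.hom_inv_id, map_idS, map_idS] at h2
  exact h2

end Gen

end Groth.Agent.Helper1.SG
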