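import Mathlib
import Groth.Prelude.Def_SGA4b
import Groth.Agent.Lib.Helper1.SG4

/-!
# Descent of sections of sheaves of sets: saturation from the descent condition (helper1)
-/

set_option autoImplicit false
set_option linter.unusedSectionVars false
set_option linter.style.haveILetI false
open CategoryTheory CategoryTheory.Limits AlgebraicGeometry Opposite
universe u

namespace Groth.Agent.Helper1.SG

open Groth.Agent.Helper1.ELR Groth.Agent.Helper1.FP

theorem sat_abstract {Z : Scheme.{u}} {G1 G2 : EtDesc.Sh Z} (can : G1 ⟶ G2)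
    (t1 : G1.obj.obj (op (EtCoh.top Z))) (t2 : G2.obj.obj (op (EtCoh.top Z)))
    (hDC : can.hom.app (op (EtCoh.top Z)) t1 = t2)
    {W1 W2 : Z.Etale} (sw : W1 ⟶ W2)
    (α1 β1 : G1.obj.obj (op W1)) (α2 β2 : G2.obj.obj (op W2)) (z : W1.left)
    (r1 : α1 = G1.obj.map (toTop W1).op t1)
    (r2 : G2.obj.map sw.op α2 = G2.obj.map (toTop W1).op t2)
    (c2 : can.hom.app (op W1) β1 = G2.obj.map sw.op β2)
    (a1 : AgreeAt G1 W1 α1 β1 z) : AgreeAt G2 W2 α2 β2 (sw.left.base z) := by
  have a2 := agreeAt_hom can W1 _ _ z a1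
  have c1 : can.hom.app (op W1) α1 = G2.obj.map sw.op α2 := by
    have n := NatTrans.naturality_apply can.hom (toTop W1).op t1
    exact (congrArg (can.hom.app (op W1)) r1).trans
      ((n.trans (congrArg (G2.obj.map (toTop W1).op) hDC)).trans r2.symm)
  rw [c1, c2] at a2
  exact agreeAt_of_map G2 sw _ _ z a2

section Sat

variable {X' X : Scheme.{u}} (f : X' ⟶ X) (F : EtDesc.Sh X)

/-- the scheme of pairs of points of `X' ×_X U` with the same image in `U` maps to
`pr₁^*(X' ×_X U)` -/
theorem exists_lift_swp (U : X.Etale) :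
    ∃ θ : pullback (US.prV f U) (US.prV f U) ⟶
        ((EtCoh.bc (pullback.fst f f)).obj ((EtCoh.bc f).obj U)).left,
      θ ≫ US.prV (pullback.fst f f) ((EtCoh.bc f).obj U) =
          pullback.fst (US.prV f U) (US.prV f U) ∧
      θ ≫ (swp f U).left ≫ US.prV (pullback.snd f f) ((EtCoh.bc f).obj U) =
          pullback.snd (US.prV f U) (US.prV f U) := by
  let U' : X'.Etale := (EtCoh.bc f).obj U
  let α1 : pullback (US.prV f U) (US.prV f U) ⟶ U'.left := pullback.fst _ _
  let α2 : pullback (US.prV f U) (US.prV f U) ⟶ U'.left := pullback.snd _ _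
  have hα : α1 ≫ US.prV f U = α2 ≫ US.prV f U := pullback.condition
  have hU' : U'.hom ≫ f = US.prV f U ≫ U.hom := (pullback.condition (f := U.hom) (g := f)).symm
  have hζ : (α1 ≫ U'.hom) ≫ f = (α2 ≫ U'.hom) ≫ f := by
    rw [Category.assoc, Category.assoc, hU', ← Category.assoc, ← Category.assoc, hα]
  let ζ : pullback (US.prV f U) (US.prV f U) ⟶ pullback f f :=
    pullback.lift (α1 ≫ U'.hom) (α2 ≫ U'.hom) hζ
  have hζ1 : ζ ≫ pullback.fst f f = α1 ≫ U'.hom := pullback.lift_fst _ _ _
  have hζ2 : ζ ≫ pullback.snd f f = α2 ≫ U'.hom := pullback.lift_snd _ _ _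
  let θ : pullback (US.prV f U) (US.prV f U) ⟶
      ((EtCoh.bc (pullback.fst f f)).obj U').left :=
    pullback.lift α1 ζ hζ1.symm
  have hθ1 : θ ≫ pullback.fst U'.hom (pullback.fst f f) = α1 := pullback.lift_fst _ _ _
  have hθ2 : θ ≫ pullback.snd U'.hom (pullback.fst f f) = ζ := pullback.lift_snd _ _ _
  refine ⟨θ, hθ1, ?_⟩
  apply pullback.hom_ext
  · have h1 := swp_left_fst_fst f U
    calc (θ ≫ (swp f U).left ≫ US.prV (pullback.snd f f) U') ≫ pullback.fst U.hom f
        = θ ≫ ((swp f U).left ≫ pullback.fst U'.hom (pullback.snd f f) ≫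
            pullback.fst U.hom f) := by simp only [Category.assoc]
      _ = θ ≫ (pullback.fst U'.hom (pullback.fst f f) ≫ pullback.fst U.hom f) :=
          congrArg (fun m => θ ≫ m) h1
      _ = (θ ≫ pullback.fst U'.hom (pullback.fst f f)) ≫ pullback.fst U.hom f :=
          (Category.assoc _ _ _).symm
      _ = α1 ≫ pullback.fst U.hom f := congrArg (fun m => m ≫ pullback.fst U.hom f) hθ1
      _ = α2 ≫ pullback.fst U.hom f := hα
  · have hw : (swp f U).left ≫ pullback.snd U'.hom (pullback.snd f f) =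
        pullback.snd U'.hom (pullback.fst f f) := MorphismProperty.Over.w (swp f U)
    have hc2 : pullback.fst U'.hom (pullback.snd f f) ≫ U'.hom =
        pullback.snd U'.hom (pullback.snd f f) ≫ pullback.snd f f := pullback.condition
    calc (θ ≫ (swp f U).left ≫ US.prV (pullback.snd f f) U') ≫ pullback.snd U.hom f
        = θ ≫ (swp f U).left ≫ (pullback.fst U'.hom (pullback.snd f f) ≫ U'.hom) := by
          simp only [Category.assoc]; rfl
      _ = θ ≫ (swp f U).left ≫ (pullback.snd U'.hom (pullback.snd f f) ≫ pullback.snd f f) :=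
          congrArg (fun m => θ ≫ (swp f U).left ≫ m) hc2
      _ = θ ≫ ((swp f U).left ≫ pullback.snd U'.hom (pullback.snd f f)) ≫ pullback.snd f f := by
          simp only [Category.assoc]
      _ = θ ≫ pullback.snd U'.hom (pullback.fst f f) ≫ pullback.snd f f :=
          congrArg (fun m => θ ≫ m ≫ pullback.snd f f) hw
      _ = (θ ≫ pullback.snd U'.hom (pullback.fst f f)) ≫ pullback.snd f f :=
          (Category.assoc _ _ _).symm
      _ = ζ ≫ pullback.snd f f := congrArg (fun m => m ≫ pullback.snd f f) hθ2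
      _ = α2 ≫ U'.hom := hζ2

theorem exists_point_swp (U : X.Etale) (w1 w2 : ((EtCoh.bc f).obj U).left)
    (hw : (US.prV f U).base w1 = (US.prV f U).base w2) :
    ∃ z : ((EtCoh.bc (pullback.fst f f)).obj ((EtCoh.bc f).obj U)).left,
      (US.prV (pullback.fst f f) ((EtCoh.bc f).obj U)).base z = w1 ∧
      (US.prV (pullback.snd f f) ((EtCoh.bc f).obj U)).base ((swp f U).left.base z) = w2 := by
  obtain ⟨θ, h1, h2⟩ := exists_lift_swp f U
  obtain ⟨q, hq1, hq2⟩ := Scheme.Pullback.exists_preimage_pullback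
    (f := US.prV f U) (g := US.prV f U) w1 w2 hw
  refine ⟨θ.base q, ?_, ?_⟩
  · have := congrArg (fun k => k.base q) h1
    exact this.trans hq1
  · have := congrArg (fun k => k.base q) h2
    exact this.trans hq2


theorem saturated_of_descent
    (s' : (pGS f F).obj.obj (op (EtCoh.top X')))
    (hDC : (EtDesc.canIso f F).hom.hom.app (op (EtCoh.top (pullback f f)))
        (EtDesc.secPull (pullback.fst f f) (pGS f F) s') =
      EtDesc.secPull (pullback.snd f f) (pGS f F) s')
    (V : X.Etale) (a : F.obj.obj (op V)) (w1 w2 : ((EtCoh.bc f).obj V).left)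
    (h1 : AgreeAt (pGS f F) ((EtCoh.bc f).obj V)
      ((pGS f F).obj.map (toTop ((EtCoh.bc f).obj V)).op s') (uS f F V a) w1)
    (hw : (US.prV f V).base w1 = (US.prV f V).base w2) :
    AgreeAt (pGS f F) ((EtCoh.bc f).obj V)
      ((pGS f F).obj.map (toTop ((EtCoh.bc f).obj V)).op s') (uS f F V a) w2 := by
  obtain ⟨z, hz1, hz2⟩ := exists_point_swp f V w1 w2 hw
  have key := sat_abstract (EtDesc.canIso f F).hom _ _ hDC (swp f V) _ _ _ _ z
    ((map_idS _ _ _).symm.trans (secPull_restrict (pullback.fst f f) (pGS f F) s'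
      ((EtCoh.bc f).obj V) _ (𝟙 _)))
    (secPull_restrict (pullback.snd f f) (pGS f F) s' ((EtCoh.bc f).obj V) _ (swp f V))
    (canIso_unit f F V a)
    (agreeAt_unit_of_agreeAt (pullback.fst f f) (pGS f F) ((EtCoh.bc f).obj V) _ _ z
      (by rw [hz1]; exact h1))
  have a4 := agreeAt_of_agreeAt_unit (pullback.snd f f) (pGS f F) ((EtCoh.bc f).obj V) _ _ _ key
  rw [hz2] at a4
  exact a4

end Sat

end Groth.Agent.Helper1.SG
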