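import Mathlib
import Groth.Prelude.Def_SGA4b
import Groth.Agent.Lib.Helper1.SG5

/-!
# Descent of sections of sheaves of sets along universally submersive morphisms:
the exactness of `Γ(X,F) → Γ(X',F') ⇉ Γ(X'',F'')` (helper1)
-/

set_option autoImplicit false
set_option linter.unusedSectionVars false
set_option linter.style.haveILetI false
open CategoryTheory CategoryTheory.Limits AlgebraicGeometry Opposite
universe u

namespace Groth.Agent.Helper1.SG

open Groth.Agent.Helper1.ELR Groth.Agent.Helper1.FP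

variable {X' X : Scheme.{u}} (f : X' ⟶ X) (F : EtDesc.Sh X)

theorem surjective_of_univSubmersive (hf : EtDesc.IsUnivSubmersive f) :
    Function.Surjective f.base := by
  intro x
  obtain ⟨q, hq⟩ := (hf X (𝟙 X)).1 x
  refine ⟨(pullback.fst f (𝟙 X)).base q, ?_⟩
  have h1 : (pullback.fst f (𝟙 X) ≫ f).base q = (pullback.snd f (𝟙 X) ≫ 𝟙 X).base q :=
    congrArg (fun k => k.base q) (pullback.condition (f := f) (g := 𝟙 X))
  rw [Category.comp_id] at h1
  exact h1.trans hq

/-- the sieve of étale `V → X` over which `s'` comes from a section of `F` -/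
noncomputable def repSieve (s' : (pGS f F).obj.obj (op (EtCoh.top X'))) :
    Sieve (EtCoh.top X) where
  arrows := fun V _ => ∃ a : F.obj.obj (op V),
    uS f F V a = (pGS f F).obj.map (toTop ((EtCoh.bc f).obj V)).op s'
  downward_closed := by
    rintro V W φ ⟨a, ha⟩ ψ
    refine ⟨F.obj.map ψ.op a, ?_⟩
    rw [uS_map, ha, map_mapS, toTop_comp]

theorem repSieve_mem (hf : EtDesc.IsUnivSubmersive f)
    (s' : (pGS f F).obj.obj (op (EtCoh.top X')))
    (hDC : (EtDesc.canIso f F).hom.hom.app (op (EtCoh.top (pullback f f)))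
        (EtDesc.secPull (pullback.fst f f) (pGS f F) s') =
      EtDesc.secPull (pullback.snd f f) (pGS f F) s') :
    repSieve f F s' ∈ X.smallEtaleTopology (EtCoh.top X) := by
  have hsurj := surjective_of_univSubmersive f hf
  apply SHC.mem_of_pointwise
  intro s
  obtain ⟨x, hx⟩ := hsurj s
  obtain ⟨Ω, hΩ1, hΩ2, xb, hxb⟩ := exists_geomPoint x
  letI := hΩ1
  haveI := hΩ2
  have hc0 : (xb ≫ f) ≫ (EtCoh.top X).hom = xb ≫ f := Category.comp_id _
  let zb : Spec (CommRingCat.of Ω) ⟶ ((EtCoh.bc f).obj (EtCoh.top X)).left :=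
    pullback.lift (xb ≫ f) xb hc0
  have hzb1 : zb ≫ US.prV f (EtCoh.top X) = xb ≫ f := pullback.lift_fst _ _ _
  let yb : (Φ xb).fiber.obj ((EtCoh.bc f).obj (EtCoh.top X)) :=
    mkPt xb _ zb (pullback.lift_snd _ _ _)
  let τ : (pGS f F).obj.obj (op ((EtCoh.bc f).obj (EtCoh.top X))) :=
    (pGS f F).obj.map (toTop ((EtCoh.bc f).obj (EtCoh.top X))).op s'
  obtain ⟨V₂, ψ, y₂, a₂, hy₂, hag⟩ := exists_local_rep f F xb (EtCoh.top X) yb τ
  let α₂ : (pGS f F).obj.obj (op ((EtCoh.bc f).obj V₂)) :=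
    (pGS f F).obj.map (toTop ((EtCoh.bc f).obj V₂)).op s'
  have hα₂ : (pGS f F).obj.map ((EtCoh.bc f).map ψ).op τ = α₂ := by
    show (pGS f F).obj.map ((EtCoh.bc f).map ψ).op
      ((pGS f F).obj.map (toTop ((EtCoh.bc f).obj (EtCoh.top X))).op s') = _
    rw [map_mapS, toTop_comp]
  rw [hα₂] at hag
  let E' : Set ((EtCoh.bc f).obj V₂).left :=
    {z | AgreeAt (pGS f F) ((EtCoh.bc f).obj V₂) α₂ (uS f F V₂ a₂) z}
  have hE' : IsOpen E' := isOpen_agreeAt _ _ _ _
  have hsat : ∀ z z₂, z ∈ E' → (US.prV f V₂).base z₂ = (US.prV f V₂).base z → z₂ ∈ E' :=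
    fun z z₂ hz hzz => saturated_of_descent f F s' hDC V₂ a₂ z z₂ hz hzz.symm
  let E : Set V₂.left := (US.prV f V₂).base '' E'
  have hpre : (US.prV f V₂).base ⁻¹' E = E' := by
    ext t
    constructor
    · rintro ⟨z, hz, hzt⟩
      exact hsat z t hz hzt.symm
    · intro ht
      exact ⟨t, ht, rfl⟩
  have hE : IsOpen E := by
    have hq := (hf V₂.left V₂.hom).2
    have hsym : (pullbackSymmetry f V₂.hom).hom ≫ US.prV f V₂ = pullback.snd f V₂.hom :=
      pullbackSymmetry_hom_comp_fst _ _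
    rw [← hq.isCoinducing.isOpen_preimage]
    have h1 : (pullback.snd f V₂.hom).base ⁻¹' E =
        (pullbackSymmetry f V₂.hom).hom.base ⁻¹' E' := by
      rw [← hpre, ← hsym]
      rfl
    rw [h1]
    exact hE'.preimage (pullbackSymmetry f V₂.hom).hom.continuous
  let EO : V₂.left.Opens := ⟨E, hE⟩
  haveI : Etale (homX V₂) := V₂.prop
  let VE : X.Etale := Scheme.Etale.mk (EO.ι ≫ homX V₂)
  let j : VE ⟶ V₂ := MorphismProperty.Over.homMk EO.ι rfl trivial
  have hz₀ : (pt xb _ y₂).base default ∈ E' := hag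
  let v₀ : V₂.left := (US.prV f V₂).base ((pt xb _ y₂).base default)
  have hv₀ : v₀ ∈ E := ⟨_, hz₀, rfl⟩
  refine ⟨VE, j ≫ ψ, (⟨v₀, hv₀⟩ : EO), ?_, ?_⟩
  · refine ⟨F.obj.map j.op a₂, ?_⟩
    rw [uS_map]
    have h2 : (pGS f F).obj.map (toTop ((EtCoh.bc f).obj VE)).op s' =
        (pGS f F).obj.map ((EtCoh.bc f).map j).op α₂ := by
      show _ = (pGS f F).obj.map ((EtCoh.bc f).map j).op
        ((pGS f F).obj.map (toTop ((EtCoh.bc f).obj V₂)).op s')
      rw [map_mapS, toTop_comp]
    rw [h2]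
    symm
    apply eq_of_forall_agreeAt
    intro z'
    apply agreeAt_map
    have hsq := (EtCoh.isPullback_bc_map f j).w
    have h3 : (US.prV f V₂).base (((EtCoh.bc f).map j).left.base z') =
        j.left.base ((US.prV f VE).base z') := congrArg (fun k => k.base z') hsq
    have hz'E : (US.prV f V₂).base (((EtCoh.bc f).map j).left.base z') ∈ E := by
      rw [h3]
      exact ((US.prV f VE).base z').2
    have h4 : ((EtCoh.bc f).map j).left.base z' ∈ (US.prV f V₂).base ⁻¹' E := hz'E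
    rw [hpre] at h4
    exact h4
  · have hsq := (EtCoh.isPullback_bc_map f ψ).w
    have h3 : (US.prV f (EtCoh.top X)).base (((EtCoh.bc f).map ψ).left.base
        ((pt xb _ y₂).base default)) = ψ.left.base v₀ :=
      congrArg (fun k => k.base ((pt xb _ y₂).base default)) hsq
    have h4 : ((EtCoh.bc f).map ψ).left.base ((pt xb _ y₂).base default) =
        (pt xb _ ((Φ xb).fiber.map ((EtCoh.bc f).map ψ) y₂)).base default := rfl
    rw [h4, hy₂] at h3
    have h5 : (US.prV f (EtCoh.top X)).base ((pt xb _ yb).base default) =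
        (xb ≫ f).base default := congrArg (fun k => k.base default) hzb1
    have h6 : (xb ≫ f).base default = f.base (xb.base default) := rfl
    have h7 : xb.base default = x := hxb
    have h8 : (j ≫ ψ).left.base (⟨v₀, hv₀⟩ : EO) = ψ.left.base v₀ := rfl
    rw [h8, ← h3, h5, h6, h7]
    exact hx

theorem pushSh_map_eq {T S : Scheme.{u}} (p : T ⟶ S) (G : EtDesc.Sh T) {V W : S.Etale}
    (φ : W ⟶ V) (x : G.obj.obj (op ((EtCoh.bc p).obj V))) :
    ((EtDesc.pushSh p).obj G).obj.map φ.op x = G.obj.map ((EtCoh.bc p).map φ).op x := rfl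

/-- **Descent of sections**: a section of `f^*F` whose two pullbacks to `X' ×_X X'` agree comes
from a section of `F`. -/
theorem exists_of_descent (hf : EtDesc.IsUnivSubmersive f)
    (s' : (pGS f F).obj.obj (op (EtCoh.top X')))
    (hDC : (EtDesc.canIso f F).hom.hom.app (op (EtCoh.top (pullback f f)))
        (EtDesc.secPull (pullback.fst f f) (pGS f F) s') =
      EtDesc.secPull (pullback.snd f f) (pGS f F) s') :
    ∃ s : F.obj.obj (op (EtCoh.top X)), EtDesc.secPull f F s = s' := by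
  have hsurj := surjective_of_univSubmersive f hf
  have hR := repSieve_mem f F hf s' hDC
  let R := repSieve f F s'
  let F' := pGS f F
  have hSF := (sh_isSheaf F) R hR
  let xfam : Presieve.FamilyOfElements F.obj R.arrows := fun V φ h => h.choose
  have hspec : ∀ (V : X.Etale) (φ : V ⟶ EtCoh.top X) (h : R φ),
      uS f F V (xfam φ h) = F'.obj.map (toTop ((EtCoh.bc f).obj V)).op s' :=
    fun V φ h => h.choose_spec
  have hcompat : xfam.SieveCompatible := by
    intro V W φ ψ hφ
    apply uS_injective f F hsurj W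
    rw [hspec, uS_map, hspec, map_mapS, toTop_comp]
  have hcompat' := (Presieve.compatible_iff_sieveCompatible xfam).2 hcompat
  refine ⟨hSF.amalgamate xfam hcompat', ?_⟩
  have hglue : ∀ (V : X.Etale) (φ : V ⟶ EtCoh.top X) (hφ : R φ),
      F.obj.map φ.op (hSF.amalgamate xfam hcompat') = xfam φ hφ :=
    fun V φ hφ => hSF.valid_glue hcompat' φ hφ
  let P : EtDesc.Sh X := (EtDesc.pushSh f).obj F'
  let τ : F'.obj.obj (op ((EtCoh.bc f).obj (EtCoh.top X))) :=
    F'.obj.map (toTop ((EtCoh.bc f).obj (EtCoh.top X))).op s'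
  have hτ : uS f F (EtCoh.top X) (hSF.amalgamate xfam hcompat') = τ := by
    refine ((sh_isSheaf P) R hR).isSeparatedFor.ext ?_
    intro V φ hφ
    show P.obj.map φ.op (uS f F (EtCoh.top X) (hSF.amalgamate xfam hcompat')) = P.obj.map φ.op τ
    rw [pushSh_map_eq, pushSh_map_eq]
    have h1 := (uS_map f F φ (hSF.amalgamate xfam hcompat')).symm
    have h2 : F.obj.map φ.op (hSF.amalgamate xfam hcompat') = xfam φ hφ := hglue V φ hφ
    refine h1.trans ((congrArg (uS f F V) h2).trans ((hspec V φ hφ).trans ?_))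
    show _ = F'.obj.map ((EtCoh.bc f).map φ).op
      (F'.obj.map (toTop ((EtCoh.bc f).obj (EtCoh.top X))).op s')
    rw [map_mapS, toTop_comp]
  rw [secPull_eq, hτ]
  show F'.obj.map (EtCore.bcTopIso f).inv.op
    (F'.obj.map (toTop ((EtCoh.bc f).obj (EtCoh.top X))).op s') = s'
  rw [map_mapS, toTop_comp, toTop_top, map_idS]

theorem secPull_abstract {Z : Scheme.{u}} {G1 G2 : EtDesc.Sh Z} (can : G1 ⟶ G2)
    {W1 W2 : Z.Etale} (sw : W1 ⟶ W2) (A : G1.obj.obj (op W1)) (B : G2.obj.obj (op W2))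
    (c : can.hom.app (op W1) A = G2.obj.map sw.op B)
    (k1 : EtCoh.top Z ⟶ W1) (k2 : EtCoh.top Z ⟶ W2) (hk : k1 ≫ sw = k2) :
    can.hom.app (op (EtCoh.top Z)) (G1.obj.map k1.op A) = G2.obj.map k2.op B := by
  have n := NatTrans.naturality_apply can.hom k1.op A
  refine n.trans ?_
  rw [c, map_mapS, hk]

/-- canonical map from the top of `T` to `bc_p (bc_g top)` -/
noncomputable abbrev kk {T S Y : Scheme.{u}} (p : T ⟶ S) (g : S ⟶ Y) :
    EtCoh.top T ⟶ (EtCoh.bc p).obj ((EtCoh.bc g).obj (EtCoh.top Y)) :=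
  (EtCore.bcTopIso p).inv ≫ (EtCoh.bc p).map (EtCore.bcTopIso g).inv

theorem secPull_secPull {T S Y : Scheme.{u}} (p : T ⟶ S) (g : S ⟶ Y) (G : EtDesc.Sh Y)
    (s : G.obj.obj (op (EtCoh.top Y))) :
    EtDesc.secPull p (pGS g G) (EtDesc.secPull g G s) =
      (pGS p (pGS g G)).obj.map (kk p g).op
        (uS p (pGS g G) ((EtCoh.bc g).obj (EtCoh.top Y)) (uS g G (EtCoh.top Y) s)) := by
  rw [secPull_eq, secPull_eq, uS_map, map_mapS]

/-- `bc_p (bc_g top)` is terminal -/
noncomputable def bcBcTopIsTerminal {T S Y : Scheme.{u}} (p : T ⟶ S) (g : S ⟶ Y) :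
    IsTerminal ((EtCoh.bc p).obj ((EtCoh.bc g).obj (EtCoh.top Y))) :=
  IsTerminal.ofIso (EtCore.bcTopIsTerminal p) ((EtCoh.bc p).mapIso (EtCore.bcTopIso g).symm)

/-- the inverse image of a section of `F` satisfies the descent condition -/
theorem canIso_secPull (s : F.obj.obj (op (EtCoh.top X))) :
    (EtDesc.canIso f F).hom.hom.app (op (EtCoh.top (pullback f f)))
        (EtDesc.secPull (pullback.fst f f) (pGS f F) (EtDesc.secPull f F s)) =
      EtDesc.secPull (pullback.snd f f) (pGS f F) (EtDesc.secPull f F s) := by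
  rw [secPull_secPull, secPull_secPull]
  exact secPull_abstract (EtDesc.canIso f F).hom (swp f (EtCoh.top X)) _ _
    (canIso_unit f F (EtCoh.top X) s) (kk (pullback.fst f f) f) (kk (pullback.snd f f) f)
    ((bcBcTopIsTerminal (pullback.snd f f) f).hom_ext _ _)

/-- transport of an equation of sections along a (definitional) equality of objects; used to
keep the kernel from unfolding sheaf morphisms when the objects are only defeq -/
theorem app_bridge {Z : Scheme.{u}} {G1 G2 : EtDesc.Sh Z} (can : G1 ⟶ G2) (T1 T2 : Z.Etale)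
    (h : T1 = T2) (x1 : G1.obj.obj (op T1)) (x2 : G1.obj.obj (op T2)) (hx : HEq x1 x2)
    (y1 : G2.obj.obj (op T1)) (y2 : G2.obj.obj (op T2)) (hy : HEq y1 y2)
    (hxy : can.hom.app (op T2) x2 = y2) : can.hom.app (op T1) x1 = y1 := by
  subst h
  obtain rfl := eq_of_heq hx
  obtain rfl := eq_of_heq hy
  exact hxy

end Groth.Agent.Helper1.SG
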