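import Mathlib
import Groth.Prelude.Def_SGA4b
import Groth.Agent.Lib.Helper1.SG6

/-!
# The étale sheaf of subsets of the underlying point sets (helper1)

`subS Z` is the sheaf `W ↦ Set W.left` on the small étale site of `Z`; used as a test sheaf.
-/

set_option autoImplicit false
set_option linter.unusedSectionVars false
set_option linter.style.haveILetI false
open CategoryTheory CategoryTheory.Limits AlgebraicGeometry Opposite
universe u

namespace Groth.Agent.Helper1.AC

open Groth.Agent.Helper1.ELR Groth.Agent.Helper1.FP Groth.Agent.Helper1.SG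

/-- the presheaf of subsets of the underlying point sets -/
def subP (Z : Scheme.{u}) : Z.Etaleᵒᵖ ⥤ Type (u + 1) where
  obj W := ULift.{u + 1} (Set W.unop.left)
  map φ := ↾fun S => ULift.up (φ.unop.left.base ⁻¹' S.down)
  map_id W := by
    refine ConcreteCategory.hom_ext _ _ fun S => ?_
    rfl
  map_comp φ ψ := by
    refine ConcreteCategory.hom_ext _ _ fun S => ?_
    rfl

theorem subP_map_down {Z : Scheme.{u}} {W W' : Z.Etale} (φ : W' ⟶ W)
    (S : (subP Z).obj (op W)) :
    ((subP Z).map φ.op S).down = φ.left.base ⁻¹' S.down := rfl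

/-- fibre products of étale `Z`-schemes, on points -/
theorem exists_common {Z : Scheme.{u}} {W M M' : Z.Etale} (μ : M ⟶ W) (μ' : M' ⟶ W)
    (m : M.left) (m' : M'.left) (h : μ.left.base m = μ'.left.base m') :
    ∃ (N : Z.Etale) (p : N ⟶ M) (p' : N ⟶ M') (n : N.left), p ≫ μ = p' ≫ μ' ∧
      p.left.base n = m ∧ p'.left.base n = m' := by
  haveI : Etale M.hom := M.prop
  haveI : Etale μ'.left := inferInstance
  obtain ⟨n, hn1, hn2⟩ := Scheme.Pullback.exists_preimage_pullback
    (f := μ.left) (g := μ'.left) m m' h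
  let N : Z.Etale := Scheme.Etale.mk (pullback.fst μ.left μ'.left ≫ M.hom)
  have e1 : μ.left ≫ W.hom = M.hom := MorphismProperty.Over.w μ
  have e2 : μ'.left ≫ W.hom = M'.hom := MorphismProperty.Over.w μ'
  have hp' : pullback.snd μ.left μ'.left ≫ M'.hom = pullback.fst μ.left μ'.left ≫ M.hom := by
    rw [← e1, ← e2, ← Category.assoc, ← Category.assoc, pullback.condition]
  let p : N ⟶ M := MorphismProperty.Over.homMk (pullback.fst μ.left μ'.left) rfl trivial
  let p' : N ⟶ M' := MorphismProperty.Over.homMk (pullback.snd μ.left μ'.left) hp' trivial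
  refine ⟨N, p, p', n, ?_, hn1, hn2⟩
  apply MorphismProperty.Over.Hom.ext
  exact pullback.condition

theorem subP_isSheaf (Z : Scheme.{u}) : Presieve.IsSheaf Z.smallEtaleTopology (subP Z) := by
  intro W R hR x hx
  let S : Set W.left := {w | ∃ (M : Z.Etale) (μ : M ⟶ W) (h : R μ) (m : M.left),
    μ.left.base m = w ∧ m ∈ (x μ h).down}
  have key : ∀ (M : Z.Etale) (μ : M ⟶ W) (h : R μ), μ.left.base ⁻¹' S = (x μ h).down := by
    intro M μ h
    ext m
    constructor
    · rintro ⟨M', μ', h', m', hm', hmem⟩
      obtain ⟨N, p, p', n, hpp, hn1, hn2⟩ := exists_common μ μ' m m' hm'.symm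
      have hc := hx p p' h h' hpp
      have hc' := congrArg ULift.down hc
      rw [subP_map_down, subP_map_down] at hc'
      have : n ∈ p'.left.base ⁻¹' (x μ' h').down := by
        show p'.left.base n ∈ (x μ' h').down
        rw [hn2]
        exact hmem
      rw [← hc'] at this
      have h3 : p.left.base n ∈ (x μ h).down := this
      rw [hn1] at h3
      exact h3
    · intro hm
      exact ⟨M, μ, h, m, rfl, hm⟩
  refine ⟨ULift.up S, ?_, ?_⟩
  · intro M μ h
    apply ULift.ext
    rw [subP_map_down]
    exact key M μ h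
  · intro S' hS'
    apply ULift.ext
    show S'.down = S
    ext w
    obtain ⟨M, μ, m, hμ, hm⟩ := SZ.pointwise_of_mem W R hR w
    have h1 := congrArg ULift.down (hS' μ hμ)
    rw [subP_map_down] at h1
    have h2 := key M μ hμ
    rw [← hm]
    show m ∈ μ.left.base ⁻¹' S'.down ↔ m ∈ μ.left.base ⁻¹' S
    rw [h1, h2]

/-- the sheaf of subsets of the underlying point sets -/
def subS (Z : Scheme.{u}) : EtDesc.Sh Z :=
  ⟨subP Z, (isSheaf_iff_isSheaf_of_type _ _).2 (subP_isSheaf Z)⟩

end Groth.Agent.Helper1.AC
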