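import Mathlib

/-!
# Étale sheaf criterion: Zariski sheaf + affine surjective single arrows (helper1)
-/

set_option autoImplicit false
set_option linter.unusedSectionVars false
set_option linter.style.haveILetI false

open CategoryTheory CategoryTheory.Limits AlgebraicGeometry Opposite TopologicalSpace

universe u w t

namespace Groth.Agent.Helper1.ZA

section Generic

variable {C : Type*} [Category C] [HasPullbacks C] (J : GrothendieckTopology C)

/-- one-hypercovers whose components all lie in a class of objects that covers everything -/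
theorem exists_oneHypercover (A : C → Prop)
    (hA : ∀ S : C, ∃ (ι : Type t) (U : ι → C) (f : ∀ i, U i ⟶ S),
      (∀ i, A (U i)) ∧ Sieve.ofArrows U f ∈ J S) (S : C) :
    ∃ E : GrothendieckTopology.OneHypercover.{t} J S, (∀ i, A (E.X i)) ∧
      ∀ (i j : E.I₀) (k : E.I₁ i j), A (E.Y k) := by
  choose ι U f hU hf using hA
  let E₀ : PreOneHypercover.{t} S :=
    { I₀ := ι S
      X := U S
      f := f S
      I₁ := fun i j => ι (pullback (f S i) (f S j))
      Y := fun i j k => U (pullback (f S i) (f S j)) k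
      p₁ := fun i j k => f _ k ≫ pullback.fst _ _
      p₂ := fun i j k => f _ k ≫ pullback.snd _ _
      w := fun i j k => by simp only [Category.assoc, pullback.condition] }
  refine ⟨{ toPreOneHypercover := E₀, mem₀ := hf S, mem₁ := fun i j W p₁ p₂ hp => ?_ },
    fun i => hU S i, fun i j k => hU _ k⟩
  refine J.superset_covering ?_
    (J.pullback_stable (pullback.lift p₁ p₂ hp) (hf (pullback (f S i) (f S j))))
  rintro T g ⟨Z, s, _, ⟨k⟩, fac⟩
  refine ⟨k, s, ?_, ?_⟩
  · show g ≫ p₁ = s ≫ (f _ k ≫ pullback.fst _ _)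
    rw [← Category.assoc, fac, Category.assoc, pullback.lift_fst]
  · show g ≫ p₂ = s ≫ (f _ k ≫ pullback.snd _ _)
    rw [← Category.assoc, fac, Category.assoc, pullback.lift_snd]

end Generic

section Etale

variable {X : Scheme.{u}}

/-- the Zariski topology on the small étale site -/
noncomputable abbrev zar (X : Scheme.{u}) : GrothendieckTopology X.Etale :=
  X.smallGrothendieckTopology (P := @IsOpenImmersion)

theorem isOpenImmersion_le_etale : (@IsOpenImmersion : MorphismProperty Scheme.{u}) ≤ @Etale :=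
  fun _ _ f hf => by
    haveI : IsOpenImmersion f := hf
    infer_instance

theorem mem_zar (U : X.Etale) (R : Sieve U) :
    R ∈ zar X U ↔ ∀ x : U.left, ∃ (Y : X.Etale) (f : Y ⟶ U) (y : Y.left),
      R f ∧ IsOpenImmersion f.left ∧ f.left.base y = x := by
  have e : zar X = (X.smallPretopology (P := @IsOpenImmersion) (Q := @Etale)).toGrothendieck :=
    Scheme.smallGrothendieckTopology_eq_toGrothendieck_smallPretopology X isOpenImmersion_le_etale
  rw [e]
  exact Scheme.mem_toGrothendieck_smallPretopology U R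

theorem mem_et (U : X.Etale) (R : Sieve U) :
    R ∈ X.smallEtaleTopology U ↔ ∀ x : U.left, ∃ (Y : X.Etale) (f : Y ⟶ U) (y : Y.left),
      R f ∧ f.left.base y = x := by
  have e : X.smallEtaleTopology =
      (X.smallPretopology (P := @Etale) (Q := @Etale)).toGrothendieck :=
    Scheme.smallGrothendieckTopology_eq_toGrothendieck_smallPretopology X le_rfl
  rw [e]
  refine (Scheme.mem_toGrothendieck_smallPretopology U R).trans ?_
  constructor
  · intro h x
    obtain ⟨Y, f, y, hf, -, hy⟩ := h x
    exact ⟨Y, f, y, hf, hy⟩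
  · intro h x
    obtain ⟨Y, f, y, hf, hy⟩ := h x
    exact ⟨Y, f, y, hf, inferInstance, hy⟩

theorem zar_le_et : zar X ≤ X.smallEtaleTopology := by
  intro T S hS
  rw [mem_et]
  intro x
  obtain ⟨Y, f, y, hf, -, hy⟩ := (mem_zar T S).1 hS x
  exact ⟨Y, f, y, hf, hy⟩

/-- an open subscheme of an étale `X`-scheme, as an étale `X`-scheme -/
noncomputable def opn (T : X.Etale) (O : T.left.Opens) : X.Etale :=
  haveI : Etale T.hom := T.prop
  Scheme.Etale.mk (O.ι ≫ T.hom)

/-- the inclusion of an open subscheme -/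
noncomputable def opnι (T : X.Etale) (O : T.left.Opens) : opn T O ⟶ T :=
  MorphismProperty.Over.homMk O.ι rfl trivial

theorem zar_of_cover (T : X.Etale) (R : Sieve T)
    (h : ∀ t : T.left, ∃ O : T.left.Opens, t ∈ O ∧ R (opnι T O)) : R ∈ zar X T := by
  rw [mem_zar]
  intro t
  obtain ⟨O, htO, hR⟩ := h t
  refine ⟨opn T O, opnι T O, (⟨t, htO⟩ : O), hR, ?_, rfl⟩
  show IsOpenImmersion O.ι
  infer_instance

theorem exists_affine_nhd (T : X.Etale) (t : T.left) :
    ∃ O : T.left.Opens, IsAffineOpen O ∧ t ∈ O := by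
  obtain ⟨O, hO, htO, -⟩ := (Opens.isBasis_iff_nbhd.mp T.left.isBasis_affineOpens)
    (show t ∈ (⊤ : T.left.Opens) from trivial)
  exact ⟨O, hO, htO⟩

theorem exists_affine_nhd_le (T : Scheme.{u}) (O : T.Opens) (t : T) (ht : t ∈ O) :
    ∃ D : T.Opens, IsAffineOpen D ∧ t ∈ D ∧ D ≤ O := by
  obtain ⟨D, hD, htD, hDO⟩ := (Opens.isBasis_iff_nbhd.mp T.isBasis_affineOpens) ht
  exact ⟨D, hD, htD, hDO⟩

theorem exists_affine_family (S : X.Etale) :
    ∃ (ι : Type u) (U : ι → X.Etale) (f : ∀ i, U i ⟶ S),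
      (∀ i, IsAffine (U i).left) ∧ Sieve.ofArrows U f ∈ zar X S := by
  refine ⟨S.left.affineOpens, fun i => opn S i.1, fun i => opnι S i.1, fun i => i.2, ?_⟩
  apply zar_of_cover
  intro t
  obtain ⟨O, hO, htO⟩ := exists_affine_nhd S t
  exact ⟨O, htO, Sieve.ofArrows_mk _ _ (⟨O, hO⟩ : S.left.affineOpens)⟩

theorem isPullback_left {U V T : X.Etale} (p : V ⟶ U) (g : T ⟶ U) :
    IsPullback (pullback.fst p g).left (pullback.snd p g).left p.left g.left :=
  (IsPullback.of_hasPullback p g).map (Scheme.Etale.forget X ⋙ Over.forget X)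

variable (F : X.Etaleᵒᵖ ⥤ Type w)

theorem isSheafFor_pullback_affine
    (ha : ∀ (U V : X.Etale) [IsAffine U.left] [IsAffine V.left] (f : V ⟶ U) [Surjective f.left],
      Presieve.IsSheafFor F (Presieve.singleton f))
    {U V T : X.Etale} [IsAffine U.left] [IsAffine V.left] [IsAffine T.left] (p : V ⟶ U)
    [Surjective p.left] (g : T ⟶ U) :
    Presieve.IsSheafFor F ((Sieve.generate (Presieve.singleton p)).pullback g).arrows := by
  have hpb := isPullback_left p g
  haveI : IsAffine (pullback p g).left := .of_isIso hpb.isoPullback.hom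
  haveI : Surjective (pullback.snd p g).left :=
    MorphismProperty.of_isPullback (P := @Surjective) hpb inferInstance
  rw [← Sieve.pullbackArrows_comm, Presieve.pullback_singleton, ← Presieve.isSheafFor_iff_generate]
  exact ha T (pullback p g) (pullback.snd p g)

theorem singleton_mem (hz : Presieve.IsSheaf (zar X) F)
    (ha : ∀ (U V : X.Etale) [IsAffine U.left] [IsAffine V.left] (f : V ⟶ U) [Surjective f.left],
      Presieve.IsSheafFor F (Presieve.singleton f))
    {U V : X.Etale} [IsAffine U.left] [IsAffine V.left] (p : V ⟶ U) [Surjective p.left] :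
    Sieve.generate (Presieve.singleton p) ∈ Sheaf.finestTopologySingle F U := by
  intro Y f
  obtain ⟨E, hE0, hE1⟩ := exists_oneHypercover.{u} (zar X) (fun T => IsAffine T.left)
    exists_affine_family Y
  refine E.isSheafFor_sieve_of_pullback hz (fun i => ?_) (fun i j k => ?_)
  · haveI := hE0 i
    rw [← Sieve.pullback_comp]
    exact isSheafFor_pullback_affine F ha p (E.f i ≫ f)
  · haveI := hE1 i j k
    rw [← Sieve.pullback_comp]
    exact (isSheafFor_pullback_affine F ha p ((E.p₁ k ≫ E.f i) ≫ f)).isSeparatedFor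

theorem mem_of_local (hz : Presieve.IsSheaf (zar X) F) (T : X.Etale) (R : Sieve T)
    (h : ∀ t : T.left, ∃ O : T.left.Opens, t ∈ O ∧
      R.pullback (opnι T O) ∈ Sheaf.finestTopologySingle F (opn T O)) :
    R ∈ Sheaf.finestTopologySingle F T := by
  let K := Sheaf.finestTopologySingle F
  have hzK : ∀ (T : X.Etale) (S : Sieve T), S ∈ zar X T → S ∈ K T := fun T S hS =>
    (show ∀ (Y : X.Etale) (f : Y ⟶ T), Presieve.IsSheafFor F (S.pullback f).arrows from
      fun Y f => hz _ ((zar X).pullback_stable f hS))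
  let S : Sieve T :=
    { arrows := fun Y g => R.pullback g ∈ K Y
      downward_closed := by
        intro Y Z g hg k
        show R.pullback (k ≫ g) ∈ K Z
        rw [Sieve.pullback_comp]
        exact K.pullback_stable k hg }
  have hS : S ∈ K T := hzK _ _ (zar_of_cover T S h)
  exact K.transitive hS R (fun Y g hg => hg)

theorem mem_of_et_affine (hz : Presieve.IsSheaf (zar X) F)
    (ha : ∀ (U V : X.Etale) [IsAffine U.left] [IsAffine V.left] (f : V ⟶ U) [Surjective f.left],
      Presieve.IsSheafFor F (Presieve.singleton f))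
    (U : X.Etale) [IsAffine U.left] (R : Sieve U) (hR : R ∈ X.smallEtaleTopology U) :
    R ∈ Sheaf.finestTopologySingle F U := by
  apply mem_of_local F hz
  intro x
  obtain ⟨Y, f, y, hf, hy⟩ := (mem_et U R).1 hR x
  obtain ⟨W, hW, hyW⟩ := exists_affine_nhd Y y
  let g : W.toScheme ⟶ U.left := W.ι ≫ f.left
  haveI : IsAffine W.toScheme := hW
  have hgo : IsOpen (Set.range g.base) := g.isOpenMap.isOpen_range
  let O : U.left.Opens := ⟨Set.range g.base, hgo⟩
  have hxO : x ∈ O := ⟨⟨y, hyW⟩, hy⟩
  obtain ⟨D, hD, hxD, hDO⟩ := exists_affine_nhd_le U.left O x hxO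
  refine ⟨D, hxD, ?_⟩
  let W' : W.toScheme.Opens := g ⁻¹ᵁ D
  have hW' : IsAffineOpen W' := hD.preimage g
  have hrange : Set.range (W'.ι ≫ g).base ⊆ Set.range D.ι.base := by
    rintro _ ⟨w, rfl⟩
    rw [Scheme.Opens.range_ι]
    exact w.2
  let ql : W'.toScheme ⟶ D.toScheme := IsOpenImmersion.lift D.ι (W'.ι ≫ g) hrange
  have hql : ql ≫ D.ι = W'.ι ≫ g := IsOpenImmersion.lift_fac _ _ _
  have hw : f.left ≫ U.hom = Y.hom := Over.w f.hom
  let q : opn (opn Y W) W' ⟶ opn U D := MorphismProperty.Over.homMk ql (by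
    show ql ≫ (D.ι ≫ U.hom) = W'.ι ≫ (W.ι ≫ Y.hom)
    rw [← Category.assoc, hql, ← hw]
    simp only [g, Category.assoc]) trivial
  have key : q ≫ opnι U D = (opnι (opn Y W) W' ≫ opnι Y W) ≫ f := by
    apply MorphismProperty.Over.Hom.ext
    show ql ≫ D.ι = (W'.ι ≫ W.ι) ≫ f.left
    rw [hql]
    simp only [g, Category.assoc]
  haveI : IsAffine (opn U D).left := hD
  haveI : IsAffine (opn (opn Y W) W').left := hW'
  haveI : Surjective q.left := by
    refine ⟨fun d => ?_⟩
    obtain ⟨w0, hw0⟩ : d.1 ∈ Set.range g.base := hDO d.2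
    have hw0' : w0 ∈ W' := by
      show g.base w0 ∈ D
      rw [hw0]
      exact d.2
    refine ⟨⟨w0, hw0'⟩, ?_⟩
    apply Subtype.ext
    have h1 : (ql ≫ D.ι).base ⟨w0, hw0'⟩ = (W'.ι ≫ g).base ⟨w0, hw0'⟩ := by rw [hql]
    exact h1.trans hw0
  have hq : Sieve.generate (Presieve.singleton q) ∈ Sheaf.finestTopologySingle F (opn U D) :=
    singleton_mem F hz ha q
  refine (Sheaf.finestTopologySingle F).superset_covering ?_ hq
  rw [Sieve.generate_le_iff]
  rintro Z _ ⟨⟩
  show R (q ≫ opnι U D)
  rw [key]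
  exact R.downward_closed hf _

theorem et_le (hz : Presieve.IsSheaf (zar X) F)
    (ha : ∀ (U V : X.Etale) [IsAffine U.left] [IsAffine V.left] (f : V ⟶ U) [Surjective f.left],
      Presieve.IsSheafFor F (Presieve.singleton f))
    (T : X.Etale) (R : Sieve T) (hR : R ∈ X.smallEtaleTopology T) :
    R ∈ Sheaf.finestTopologySingle F T := by
  apply mem_of_local F hz
  intro t
  obtain ⟨O, hO, htO⟩ := exists_affine_nhd T t
  refine ⟨O, htO, ?_⟩
  haveI : IsAffine (opn T O).left := hO
  exact mem_of_et_affine F hz ha _ _ (X.smallEtaleTopology.pullback_stable _ hR)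

theorem isSheaf_iff :
    Presieve.IsSheaf X.smallEtaleTopology F ↔
      Presieve.IsSheaf (X.smallGrothendieckTopology (P := @IsOpenImmersion)) F ∧
        ∀ (U V : X.Etale) [IsAffine U.left] [IsAffine V.left] (f : V ⟶ U) [Surjective f.left],
          Presieve.IsSheafFor F (Presieve.singleton f) := by
  constructor
  · intro h
    refine ⟨Presieve.isSheaf_of_le F zar_le_et h, fun U V _ _ f _ => ?_⟩
    rw [Presieve.isSheafFor_iff_generate]
    apply h
    rw [mem_et]
    intro x
    obtain ⟨v, hv⟩ := (inferInstance : Surjective f.left).surj x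
    exact ⟨V, f, v, ⟨_, 𝟙 _, f, Presieve.singleton_self f, Category.id_comp _⟩, hv⟩
  · rintro ⟨hz, ha⟩ T R hR
    have := et_le F hz ha T R hR T (𝟙 T)
    rwa [Sieve.pullback_id] at this

end Etale

end Groth.Agent.Helper1.ZA
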