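import Mathlib
import Groth.Prelude.Def_SGA4b
import Groth.Agent.Lib.Helper1.AC1
import Groth.Agent.Lib.Helper1.ZA1

/-!
# Monomorphisms of sheaves of sets and the unit of the inverse image adjunction (helper1)
-/

set_option autoImplicit false
set_option linter.unusedSectionVars false
set_option linter.style.haveILetI false
open CategoryTheory CategoryTheory.Limits AlgebraicGeometry Opposite
universe u

namespace Groth.Agent.Helper1.AC

open Groth.Agent.Helper1.ELR Groth.Agent.Helper1.FP Groth.Agent.Helper1.SG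

theorem inj_of_mono {Z : Scheme.{u}} {F G : EtDesc.Sh Z} (φ : F ⟶ G) [Mono φ] (U : Z.Etale) :
    Function.Injective (φ.hom.app (op U)) := by
  have h1 : Mono φ.hom := (Sheaf.Hom.mono_iff_presheaf_mono _ _ φ).1 inferInstance
  have h2 : Mono (φ.hom.app (op U)) := (NatTrans.mono_iff_mono_app φ.hom).1 h1 (op U)
  exact (mono_iff_injective _).1 h2

theorem mono_of_inj {Z : Scheme.{u}} {F G : EtDesc.Sh Z} (φ : F ⟶ G)
    (h : ∀ U : Z.Etale, Function.Injective (φ.hom.app (op U))) : Mono φ := by
  have h2 : ∀ U : Z.Etaleᵒᵖ, Mono (φ.hom.app U) := fun U => (mono_iff_injective _).2 (h U.unop)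
  have h1 : Mono φ.hom := (NatTrans.mono_iff_mono_app φ.hom).2 h2
  exact (Sheaf.Hom.mono_iff_presheaf_mono _ _ φ).2 h1

/-- the unit of a surjective morphism is a monomorphism -/
theorem mono_unit_of_surjective {X' Z : Scheme.{u}} (p : X' ⟶ Z) (hp : Function.Surjective p.base)
    (F : EtDesc.Sh Z) : Mono ((EtDesc.adjSh p).unit.app F) :=
  mono_of_inj _ fun U a b h => uS_injective p F hp U a b h

end Groth.Agent.Helper1.AC
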