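import Mathlib
import Groth.Prelude.Def_SGA4b
import Groth.Prelude.Def_EtAcyc
import Groth.Agent.Lib.Helper1.AC2

/-!
# (-1)-acyclic morphisms are the surjective ones (helper1)
-/

set_option autoImplicit false
set_option linter.unusedSectionVars false
set_option linter.style.haveILetI false
open CategoryTheory CategoryTheory.Limits AlgebraicGeometry Opposite
universe u

namespace Groth.Agent.Helper1.AC

open Groth.Agent.Helper1.ELR Groth.Agent.Helper1.FP Groth.Agent.Helper1.SG

/-- if no point of `X'` maps into the locally closed set `B ∩ T ∋ z₀`, the unit of the sheaf of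
subsets is not a monomorphism -/
theorem not_mono_unit {X' Z : Scheme.{u}} (p : X' ⟶ Z) (B : Z.Opens) (T : Set Z)
    (hT : IsClosed T) (z₀ : Z) (hz₀B : z₀ ∈ B) (hz₀T : z₀ ∈ T)
    (hp : ∀ x' : X', ¬ (p.base x' ∈ B ∧ p.base x' ∈ T)) :
    ¬ Mono ((EtDesc.adjSh p).unit.app (subS Z)) := by
  intro hmono
  let W : Z.Etale := Scheme.Etale.mk B.ι
  let F := subS Z
  let a : F.obj.obj (op W) := ULift.up Set.univ
  let b : F.obj.obj (op W) := ULift.up {w : W.left | B.ι.base w ∉ T}
  have hne : a ≠ b := by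
    intro hab
    have h1 := congrArg ULift.down hab
    have h2 : (⟨z₀, hz₀B⟩ : B) ∈ (Set.univ : Set B) := trivial
    have h3 : (⟨z₀, hz₀B⟩ : W.left) ∈ {w : W.left | B.ι.base w ∉ T} := by
      rw [← show a.down = {w : W.left | B.ι.base w ∉ T} from h1]
      trivial
    exact h3 hz₀T
  have hag : ∀ w : W.left, B.ι.base w ∉ T → AgreeAt F W a b w := by
    intro w hw
    have hO : IsOpen {w : W.left | B.ι.base w ∉ T} :=
      hT.isOpen_compl.preimage B.ι.continuous
    let O : W.left.Opens := ⟨{w : W.left | B.ι.base w ∉ T}, hO⟩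
    refine ⟨ZA.opn W O, ZA.opnι W O, (⟨w, hw⟩ : O), rfl, ?_⟩
    apply ULift.ext
    show (ZA.opnι W O).left.base ⁻¹' a.down = (ZA.opnι W O).left.base ⁻¹' b.down
    ext m
    constructor
    · intro _
      have h1 : O.ι.base m ∈ Set.range O.ι.base := ⟨m, rfl⟩
      rw [Scheme.Opens.range_ι] at h1
      exact h1
    · intro _
      trivial
  have hall : ∀ z : ((EtCoh.bc p).obj W).left, AgreeAt (pGS p F) ((EtCoh.bc p).obj W)
      (uS p F W a) (uS p F W b) z := by
    intro z
    apply agreeAt_unit_of_agreeAt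
    apply hag
    intro hT'
    have hc : (pullback.fst W.hom p ≫ W.hom).base z = (pullback.snd W.hom p ≫ p).base z :=
      congrArg (fun k => k.base z) (pullback.condition (f := W.hom) (g := p))
    have h1 : B.ι.base ((US.prV p W).base z) = p.base ((pullback.snd W.hom p).base z) := hc
    have h2 : B.ι.base ((US.prV p W).base z) ∈ B := by
      have h3 : B.ι.base ((US.prV p W).base z) ∈ Set.range B.ι.base := ⟨_, rfl⟩
      rw [Scheme.Opens.range_ι] at h3
      exact h3
    rw [h1] at h2 hT'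
    exact hp _ ⟨h2, hT'⟩
  have heq : uS p F W a = uS p F W b := eq_of_forall_agreeAt _ _ _ _ hall
  exact hne (inj_of_mono _ W heq)

/-- a point outside the image of a quasi-compact morphism has a locally closed neighbourhood in
its closure missing the image -/
theorem exists_open_closed {X Y : Scheme.{u}} (g : X ⟶ Y) [QuasiCompact g] (y : Y)
    (hy : y ∉ Set.range g.base) :
    ∃ (B : Y.Opens) (T : Set Y), IsClosed T ∧ y ∈ B ∧ y ∈ T ∧
      ∀ x : X, ¬ (g.base x ∈ B ∧ g.base x ∈ T) := by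
  obtain ⟨U, hU, hyU, -⟩ := exists_isAffineOpen_mem_and_subset
    (TopologicalSpace.Opens.mem_top y)
  have hc : IsCompact ((g ⁻¹ᵁ U : X.Opens) : Set X) := g.isCompact_preimage hU.isCompact
  obtain ⟨R, k, hk⟩ := isCompact_iff_exists.1 hc
  have hr : Set.range (k ≫ g).base ⊆ Set.range hU.fromSpec.base := by
    rw [hU.range_fromSpec]
    rintro _ ⟨q, rfl⟩
    have h1 : k.base q ∈ Set.range k.base := ⟨q, rfl⟩
    rw [hk] at h1
    exact h1
  let ψ : Spec R ⟶ Spec Γ(Y, U) := IsOpenImmersion.lift hU.fromSpec (k ≫ g) hr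
  have hψ : ψ ≫ hU.fromSpec = k ≫ g := IsOpenImmersion.lift_fac _ _ _
  let φ : Γ(Y, U) ⟶ R := Spec.preimage ψ
  have hφ : Spec.map φ = ψ := Spec.map_preimage ψ
  have hyr : y ∈ Set.range hU.fromSpec.base := by
    rw [hU.range_fromSpec]
    exact hyU
  obtain ⟨p, hp⟩ := hyr
  have hψq : ∀ q : Spec R, hU.fromSpec.base (ψ.base q) = g.base (k.base q) := fun q =>
    congrArg (fun m => m.base q) hψ
  have hcomap : ∀ q : Spec R, ψ.base q = PrimeSpectrum.comap φ.hom q := by
    intro q
    rw [← hφ]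
    rfl
  have hpr : p ∉ Set.range (PrimeSpectrum.comap φ.hom) := by
    rintro ⟨q, hq⟩
    apply hy
    exact ⟨k.base q, ((hψq q).symm.trans
      (congrArg hU.fromSpec.base ((hcomap q).trans hq))).trans hp⟩
  replace hpr := mt (PrimeSpectrum.mem_range_comap_iff (f := φ.hom) (p := p)).2 hpr
  have hex : ∃ s, s ∈ (p.asIdeal.map φ.hom).comap φ.hom ∧ s ∉ p.asIdeal := by
    by_contra hcon
    push Not at hcon
    exact hpr (le_antisymm hcon Ideal.le_comap_map)
  obtain ⟨s, hs1, hs2⟩ := hex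
  let B : Y.Opens := hU.fromSpec ''ᵁ (PrimeSpectrum.basicOpen s)
  refine ⟨B, closure {y}, isClosed_closure, ⟨p, hs2, hp⟩, subset_closure rfl, ?_⟩
  rintro x ⟨⟨p', hp's, hp'x⟩, hxT⟩
  have hxU : x ∈ ((g ⁻¹ᵁ U : X.Opens) : Set X) := by
    show g.base x ∈ U
    rw [← hp'x]
    have h1 : hU.fromSpec.base p' ∈ Set.range hU.fromSpec.base := ⟨p', rfl⟩
    rw [hU.range_fromSpec] at h1
    exact h1
  rw [← hk] at hxU
  obtain ⟨q, rfl⟩ := hxU
  have hq : ψ.base q = p' := by
    apply hU.fromSpec.isOpenEmbedding.injective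
    exact (hψq q).trans hp'x.symm
  have hsp : p ⤳ p' := by
    have h1 : y ⤳ g.base (k.base q) := specializes_iff_mem_closure.2 hxT
    rw [← hp, ← hp'x] at h1
    exact (hU.fromSpec.isOpenEmbedding.isInducing.specializes_iff).1 h1
  have hle : p.asIdeal ≤ p'.asIdeal := (PrimeSpectrum.le_iff_specializes p p').2 hsp
  have h3 : (PrimeSpectrum.comap φ.hom q).asIdeal = p'.asIdeal :=
    congrArg PrimeSpectrum.asIdeal ((hcomap q).symm.trans hq)
  have h3' : Ideal.comap φ.hom q.asIdeal = p'.asIdeal := h3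
  have h2 : p.asIdeal.map φ.hom ≤ q.asIdeal :=
    Ideal.map_le_iff_le_comap.2 (hle.trans h3'.ge)
  have h4 : φ.hom s ∈ q.asIdeal := h2 hs1
  have h5 : s ∈ Ideal.comap φ.hom q.asIdeal := h4
  rw [h3'] at h5
  exact hp's h5

theorem surjective_prj {X Y : Scheme.{u}} (g : X ⟶ Y) (hg : Function.Surjective g.base)
    (V : Y.Etale) : Function.Surjective (EtAcyc.prj g V).base :=
  prV_surjective g hg V

theorem minusOneAcyclic_of_surjective {X Y : Scheme.{u}} (g : X ⟶ Y)
    (hg : Function.Surjective g.base) : EtAcyc.IsMinusOneAcyclic g :=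
  fun V F => mono_unit_of_surjective (EtAcyc.prj g V) (surjective_prj g hg V) F

theorem surjective_of_minusOneAcyclic {X Y : Scheme.{u}} (g : X ⟶ Y) [QuasiCompact g]
    (h : EtAcyc.IsMinusOneAcyclic g) : Function.Surjective g.base := by
  by_contra hns
  obtain ⟨y, hy⟩ : ∃ y : Y, y ∉ Set.range g.base := by
    by_contra hcon
    push Not at hcon
    exact hns hcon
  obtain ⟨B, T, hT, hyB, hyT, hx⟩ := exists_open_closed g y hy
  let V : Y.Etale := EtCoh.top Y
  have hm := h V (subS V.left)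
  refine not_mono_unit (EtAcyc.prj g V) B T hT y hyB hyT ?_ hm
  rintro x' ⟨h1, h2⟩
  have hc : (pullback.fst V.hom g ≫ V.hom).base x' = (pullback.snd V.hom g ≫ g).base x' :=
    congrArg (fun k => k.base x') (pullback.condition (f := V.hom) (g := g))
  have hc' : (EtAcyc.prj g V).base x' = g.base ((pullback.snd V.hom g).base x') := hc
  rw [hc'] at h1 h2
  exact hx _ ⟨h1, h2⟩

end Groth.Agent.Helper1.AC
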