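import Mathlib

/-!
# A left adjoint whose right adjoint is a product of right adjoints is a coproduct of left adjoints
-/

set_option autoImplicit false

namespace Groth.Agent.Helper1.AS

open CategoryTheory Limits Opposite

universe w v₁ v₂ u₁ u₂

section Adj

variable {𝒰 : Type u₁} [Category.{v₁} 𝒰] {𝒜 : Type u₂} [Category.{v₂} 𝒜] {I : Type w}
  {L : 𝒰 ⥤ 𝒜} {R : 𝒜 ⥤ 𝒰} (a : L ⊣ R)
  {Lu : I → (𝒰 ⥤ 𝒜)} {Ru : I → (𝒜 ⥤ 𝒰)} (b : ∀ i, Lu i ⊣ Ru i)
  (p : ∀ i, R ⟶ Ru i)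

/-- The comparison maps `L_i F ⟶ L F`. -/
def inj (F : 𝒰) (i : I) : (Lu i).obj F ⟶ L.obj F :=
  ((b i).homEquiv F (L.obj F)).symm (a.unit.app F ≫ (p i).app (L.obj F))

theorem inj_comp (F : 𝒰) (i : I) {A : 𝒜} (g : L.obj F ⟶ A) :
    inj a b p F i ≫ g = ((b i).homEquiv F A).symm (a.homEquiv F A g ≫ (p i).app A) := by
  have h1 : a.homEquiv F A g ≫ (p i).app A =
      (a.unit.app F ≫ (p i).app (L.obj F)) ≫ (Ru i).map g := by
    rw [Adjunction.homEquiv_unit, Category.assoc, Category.assoc, (p i).naturality]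
  rw [h1, Adjunction.homEquiv_naturality_right_symm]
  rfl

theorem isColimit_cofan
    (hp : ∀ A : 𝒜, Nonempty (IsLimit (Fan.mk (R.obj A) (fun i => (p i).app A)))) (F : 𝒰) :
    Nonempty (IsColimit (Cofan.mk (L.obj F) (inj a b p F))) := by
  have hl : ∀ A : 𝒜, IsLimit (Fan.mk (R.obj A) (fun i => (p i).app A)) := fun A => (hp A).some
  refine ⟨mkCofanColimit _
    (fun s => (a.homEquiv F s.pt).symm
      (Fan.IsLimit.lift (hl s.pt) (fun i => (b i).homEquiv F s.pt (s.inj i)))) ?_ ?_⟩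
  · intro s i
    change inj a b p F i ≫ _ = _
    rw [inj_comp, Equiv.apply_symm_apply]
    have h := Fan.IsLimit.fac (hl s.pt) (fun i => (b i).homEquiv F s.pt (s.inj i)) i
    change _ ≫ (p i).app s.pt = _ at h
    rw [h, Equiv.symm_apply_apply]
  · intro s m hm
    apply (a.homEquiv F s.pt).injective
    rw [Equiv.apply_symm_apply]
    apply Fan.IsLimit.hom_ext (hl s.pt)
    intro i
    rw [Fan.IsLimit.fac]
    change a.homEquiv F s.pt m ≫ (p i).app s.pt = _
    have h := hm i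
    change inj a b p F i ≫ m = s.inj i at h
    rw [inj_comp] at h
    rw [← h, Equiv.apply_symm_apply]

include a b in
theorem nonempty_iso_sigma
    (hp : ∀ A : 𝒜, Nonempty (IsLimit (Fan.mk (R.obj A) (fun i => (p i).app A)))) (F : 𝒰)
    [HasCoproduct (fun i => (Lu i).obj F)] :
    Nonempty (L.obj F ≅ ∐ (fun i => (Lu i).obj F)) := by
  obtain ⟨h⟩ := isColimit_cofan a b p hp F
  exact ⟨h.coconePointUniqueUpToIso (coproductIsCoproduct _)⟩

end Adj

end Groth.Agent.Helper1.AS
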