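import Mathlib

/-!
# Pushforward of a skyscraper sheaf along a continuous functor as a product of skyscraper sheaves
-/

set_option autoImplicit false

namespace Groth.Agent.Helper1.AS

open CategoryTheory Limits Opposite

universe w v₁ v₂ v₃ u₁ u₂ u₃

section Pointwise

variable {A : Type u₃} [Category.{v₃} A] [HasProducts.{w} A]

theorem isLimit_fan_of_bijective {I : Type w} {S : I → Type w} {T : Type w}
    (ι : ∀ i, S i → T) (hι : Function.Bijective (fun x : Σ i, S i => ι x.1 x.2)) (M : A) :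
    Nonempty (IsLimit (Fan.mk (∏ᶜ fun _ : T => M)
      (fun i => (Pi.map' (ι i) (fun _ => 𝟙 M) : (∏ᶜ fun _ : T => M) ⟶ ∏ᶜ fun _ : S i => M)))) := by
  let e : (Σ i, S i) ≃ T := Equiv.ofBijective _ hι
  have he : ∀ (i : I) (y : S i), e.symm (ι i y) = ⟨i, y⟩ := fun i y => e.symm_apply_apply ⟨i, y⟩
  refine ⟨Fan.IsLimit.mk _
    (fun s => Pi.lift (fun t => s.proj (e.symm t).1 ≫ Pi.π (fun _ : S (e.symm t).1 => M) (e.symm t).2))
    ?_ ?_⟩
  · intro s i
    apply Pi.hom_ext
    intro y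
    rw [Category.assoc]
    change _ ≫ Pi.map' (ι i) _ ≫ Pi.π _ y = _
    rw [Pi.map'_comp_π, Category.comp_id, Pi.lift_π]
    exact congrArg (fun x : Σ i, S i => s.proj x.1 ≫ Pi.π (fun _ : S x.1 => M) x.2) (he i y)
  · intro s m hm
    change s.pt ⟶ ∏ᶜ fun _ : T => M at m
    refine Pi.hom_ext (f := fun _ : T => M) m _ ?_
    intro t
    rw [Pi.lift_π]
    obtain ⟨⟨i, y⟩, rfl⟩ := e.surjective t
    have h1 : s.proj (e.symm (e ⟨i, y⟩)).1 ≫
        Pi.π (fun _ : S (e.symm (e ⟨i, y⟩)).1 => M) (e.symm (e ⟨i, y⟩)).2 =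
        s.proj i ≫ Pi.π (fun _ : S i => M) y :=
      congrArg (fun x : Σ i, S i => s.proj x.1 ≫ Pi.π (fun _ : S x.1 => M) x.2)
        (e.symm_apply_apply ⟨i, y⟩)
    have hm' : m ≫ (Pi.map' (ι i) (fun _ => 𝟙 M) :
        (∏ᶜ fun _ : T => M) ⟶ ∏ᶜ fun _ : S i => M) = s.proj i := hm i
    rw [h1, ← hm', Category.assoc, Pi.map'_comp_π, Category.comp_id]
    rfl

end Pointwise

section Sites

variable {C : Type u₁} [Category.{v₁} C] {J : GrothendieckTopology C}
  {D : Type u₂} [Category.{v₂} D] {K : GrothendieckTopology D}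
  (G : C ⥤ D) [G.IsContinuous J K]
  (Ψ : GrothendieckTopology.Point.{w} K) {I : Type w} (Φ : I → GrothendieckTopology.Point.{w} J)
  (ι : ∀ i (V : C), (Φ i).fiber.obj V → Ψ.fiber.obj (G.obj V))
  (hnat : ∀ i {V V' : C} (g : V' ⟶ V) (y : (Φ i).fiber.obj V'),
      ι i V ((Φ i).fiber.map g y) = Ψ.fiber.map (G.map g) (ι i V' y))
  {A : Type u₃} [Category.{v₃} A] [HasProducts.{w} A]

/-- The projection from the pushforward of a skyscraper to a skyscraper. -/
noncomputable def proj (i : I) :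
    Ψ.skyscraperSheafFunctor ⋙ G.sheafPushforwardContinuous A J K ⟶
      (Φ i).skyscraperSheafFunctor where
  app M := ⟨{ app := fun V => (Pi.map' (ι i V.unop) (fun _ => 𝟙 M) :
                (∏ᶜ fun _ : Ψ.fiber.obj (G.obj V.unop) => M) ⟶
                  ∏ᶜ fun _ : (Φ i).fiber.obj V.unop => M)
              naturality := by
                intro V V' f
                refine Pi.hom_ext _ _ (fun y => ?_)
                change ((Pi.map' (fun t => Ψ.fiber.map (G.map f.unop) t) (fun _ => 𝟙 M) :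
                    (∏ᶜ fun _ : Ψ.fiber.obj (G.obj V.unop) => M) ⟶
                      ∏ᶜ fun _ : Ψ.fiber.obj (G.obj V'.unop) => M) ≫
                  (Pi.map' (ι i V'.unop) (fun _ => 𝟙 M) :
                    (∏ᶜ fun _ : Ψ.fiber.obj (G.obj V'.unop) => M) ⟶
                      ∏ᶜ fun _ : (Φ i).fiber.obj V'.unop => M)) ≫ Pi.π _ y =
                  ((Pi.map' (ι i V.unop) (fun _ => 𝟙 M) :
                    (∏ᶜ fun _ : Ψ.fiber.obj (G.obj V.unop) => M) ⟶
                      ∏ᶜ fun _ : (Φ i).fiber.obj V.unop => M) ≫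
                    (Pi.map' (fun t => (Φ i).fiber.map f.unop t) (fun _ => 𝟙 M) :
                      (∏ᶜ fun _ : (Φ i).fiber.obj V.unop => M) ⟶
                        ∏ᶜ fun _ : (Φ i).fiber.obj V'.unop => M)) ≫ Pi.π _ y
                simp only [Category.assoc, Pi.map'_comp_π, Category.comp_id]
                exact (congrArg (fun t => Pi.π (fun _ : Ψ.fiber.obj (G.obj V.unop) => M) t)
                  (hnat i f.unop y)).symm }⟩
  naturality M N f := by
    ext V
    change (Limits.Pi.map (fun _ => f) :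
        (∏ᶜ fun _ : Ψ.fiber.obj (G.obj V.unop) => M) ⟶
          ∏ᶜ fun _ : Ψ.fiber.obj (G.obj V.unop) => N) ≫
        (Pi.map' (ι i V.unop) (fun _ => 𝟙 N) :
          (∏ᶜ fun _ : Ψ.fiber.obj (G.obj V.unop) => N) ⟶
            ∏ᶜ fun _ : (Φ i).fiber.obj V.unop => N) =
      (Pi.map' (ι i V.unop) (fun _ => 𝟙 M) :
          (∏ᶜ fun _ : Ψ.fiber.obj (G.obj V.unop) => M) ⟶
            ∏ᶜ fun _ : (Φ i).fiber.obj V.unop => M) ≫
        (Limits.Pi.map (fun _ => f) :
          (∏ᶜ fun _ : (Φ i).fiber.obj V.unop => M) ⟶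
            ∏ᶜ fun _ : (Φ i).fiber.obj V.unop => N)
    rw [Pi.map_comp_map', Pi.map'_comp_map]
    simp only [Category.comp_id, Category.id_comp]

theorem isLimit_proj
    (hι : ∀ V : C, Function.Bijective (fun x : Σ i, (Φ i).fiber.obj V => ι x.1 V x.2)) (M : A) :
    Nonempty (IsLimit (Fan.mk
      ((Ψ.skyscraperSheafFunctor ⋙ G.sheafPushforwardContinuous A J K).obj M)
      (fun i => (proj G Ψ Φ ι hnat i).app M))) := by
  refine ⟨isLimitOfIsLimitFanMkObj (sheafToPresheaf J A) _ _ ?_⟩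
  refine evaluationJointlyReflectsLimits _ (fun V => ?_)
  refine (isLimitMapConeFanMkEquiv ((evaluation Cᵒᵖ A).obj V) _ _).symm ?_
  exact (isLimit_fan_of_bijective (fun i => ι i V.unop) (hι V.unop) M).some

end Sites

end Groth.Agent.Helper1.AS
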