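import Mathlib
import Groth.Prelude.Def_EtShriek2
import Groth.Agent.Lib.Helper1.AS1
import Groth.Agent.Lib.Helper1.AS2

/-!
# Stalks of extension by zero along an étale morphism
-/

set_option autoImplicit false
set_option linter.unusedSectionVars false
set_option linter.style.haveILetI false

open CategoryTheory CategoryTheory.Limits AlgebraicGeometry Opposite

namespace Groth.Agent.Helper1.AS

universe u

theorem main0647 {U X : Scheme.{u}} (j : U ⟶ X) [AlgebraicGeometry.Etale j] [EtShriek.JCont j]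
    (F : EtCoh.Ab U) {Ω : Type u} [Field Ω] [IsSepClosed Ω] (ξ : Spec (CommRingCat.of Ω) ⟶ X) :
    Nonempty ((EtCoh.stalk ξ).obj ((EtShriek.extZero j).obj F) ≅
      ∐ fun u : {u : Spec (CommRingCat.of Ω) ⟶ U // u ≫ j = ξ} => (EtCoh.stalk u.1).obj F) := by
  let I := {u : Spec (CommRingCat.of Ω) ⟶ U // u ≫ j = ξ}
  let Ψ : GrothendieckTopology.Point.{u} X.smallEtaleTopology := Scheme.pointSmallEtale ξ
  let Φ : I → GrothendieckTopology.Point.{u} U.smallEtaleTopology :=
    fun u => Scheme.pointSmallEtale u.1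
  let ι : ∀ (u : I) (V : U.Etale), (Φ u).fiber.obj V → Ψ.fiber.obj ((EtShriek.compEtale j).obj V) :=
    fun u V v => (Over.homMk (v : Over.mk u.1 ⟶ (Scheme.Etale.forget U).obj V).left (by
      have h := Over.w (v : Over.mk u.1 ⟶ (Scheme.Etale.forget U).obj V)
      change _ ≫ V.hom = u.1 at h
      change _ ≫ V.hom ≫ j = ξ
      rw [← Category.assoc, h]
      exact u.2) : Over.mk ξ ⟶ (Scheme.Etale.forget X).obj ((EtShriek.compEtale j).obj V))
  have hnat : ∀ (u : I) {V V' : U.Etale} (g : V' ⟶ V) (y : (Φ u).fiber.obj V'),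
      ι u V ((Φ u).fiber.map g y) = Ψ.fiber.map ((EtShriek.compEtale j).map g) (ι u V' y) := by
    intro u V V' g y
    apply Over.OverMorphism.ext
    rfl
  have hι : ∀ V : U.Etale,
      Function.Bijective (fun x : Σ u, (Φ u).fiber.obj V => ι x.1 V x.2) := by
    intro V
    constructor
    · rintro ⟨u, v⟩ ⟨u', v'⟩ h
      have hl : (v : Over.mk u.1 ⟶ (Scheme.Etale.forget U).obj V).left =
          (v' : Over.mk u'.1 ⟶ (Scheme.Etale.forget U).obj V).left :=
        congrArg (fun w : Over.mk ξ ⟶ (Scheme.Etale.forget X).obj ((EtShriek.compEtale j).obj V) =>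
          w.left) h
      have h1 := Over.w (v : Over.mk u.1 ⟶ (Scheme.Etale.forget U).obj V)
      have h2 := Over.w (v' : Over.mk u'.1 ⟶ (Scheme.Etale.forget U).obj V)
      change _ ≫ V.hom = u.1 at h1
      change _ ≫ V.hom = u'.1 at h2
      obtain rfl : u = u' := Subtype.ext (by rw [← h1, ← h2, hl])
      have : v = v' := Over.OverMorphism.ext hl
      rw [this]
    · intro w
      let wl : Spec (CommRingCat.of Ω) ⟶ V.left :=
        (w : Over.mk ξ ⟶ (Scheme.Etale.forget X).obj ((EtShriek.compEtale j).obj V)).left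
      have hw : wl ≫ V.hom ≫ j = ξ :=
        Over.w (w : Over.mk ξ ⟶ (Scheme.Etale.forget X).obj ((EtShriek.compEtale j).obj V))
      refine ⟨⟨⟨wl ≫ V.hom, by rw [Category.assoc]; exact hw⟩,
        (Over.homMk wl rfl : Over.mk (wl ≫ V.hom) ⟶ (Scheme.Etale.forget U).obj V)⟩, ?_⟩
      apply Over.OverMorphism.ext
      rfl
  have key := nonempty_iso_sigma
    ((EtShriek.extZeroAdj j).comp (Ψ.skyscraperSheafAdjunction (A := AddCommGrpCat.{u + 1})))
    (fun u => (Φ u).skyscraperSheafAdjunction (A := AddCommGrpCat.{u + 1}))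
    (fun u => proj (EtShriek.compEtale j) Ψ Φ ι hnat u)
    (fun A => isLimit_proj (EtShriek.compEtale j) Ψ Φ ι hnat hι A) F
  exact key

end Groth.Agent.Helper1.AS
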