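import Mathlib
import Groth.Prelude.Def_AlgSpOX3
import Groth.Prelude.Def_EtBase
import Groth.Agent.Lib.Helper15.AlgSpEtStalkRing
import Groth.Agent.Lib.Helper1.ELR1

/-!
# The étale local ring of an algebraic space at a geometric point is strictly henselian (S10223)

Port of `ELR1` (the scheme case, S0111) to the category `EtNbhd p` of étale neighbourhoods of a
geometric point of an algebraic space.
-/

set_option autoImplicit false
open CategoryTheory CategoryTheory.Limits AlgebraicGeometry Opposite AlgSp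
open Groth.Agent.Helper15
universe u

namespace Groth.Agent.Helper1.ASH

open Groth.Agent.Helper1.ELR (isUnit_of_basicOpen_eq_top iso_inv_hom_apply iso_hom_inv_apply
  spec_ev_eq appTop_spec_eq)

variable {S : Scheme.{u}} {X : Sp S} (p : FieldPt X)

/-- the underlying scheme of a neighbourhood -/
abbrev sch (N : EtNbhd p) : Scheme.{u} := N.1.obj.left.left

/-- the lifted point -/
noncomputable def pt (N : EtNbhd p) : Spec (CommRingCat.of p.K) ⟶ sch p N := N.2.1.left

theorem pt_map {N' N : EtNbhd p} (f : N' ⟶ N) : pt p N' ≫ f.1.hom.left.left = pt p N := by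
  have h := congrArg (fun z => z.1.left) f.2
  exact h

/-- the canonical maps to the étale local ring -/
noncomputable def ρ (N : EtNbhd p) : Γ(sch p N, ⊤) →+* ↥(OEtStalk p) :=
  RingHom.comp
    (show ULift.{u + 1} Γ(sch p N, ⊤) →+* ↥(OEtStalk p) from (stalkEtι p (OEt X) N).hom)
    ((ULift.ringEquiv.{u, u + 1} (R := Γ(sch p N, ⊤))).symm :
      Γ(sch p N, ⊤) →+* ULift.{u + 1} Γ(sch p N, ⊤))

theorem ρ_map {N' N : EtNbhd p} (f : N' ⟶ N) (s : Γ(sch p N, ⊤)) :
    ρ p N' (f.1.hom.left.left.appTop.hom s) = ρ p N s := by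
  have h := congrArg (fun h => h.hom (ULift.up s : ↑((OEt X).obj.obj (op N.1))))
    (colimit.w (stalkEtDiagram p (OEt X)) f.op)
  exact h

theorem range_ρ_mono {N' N : EtNbhd p} (f : N' ⟶ N) :
    Set.range (ρ p N) ⊆ Set.range (ρ p N') := by
  rintro _ ⟨s, rfl⟩
  exact ⟨f.1.hom.left.left.appTop.hom s, ρ_map p f s⟩

/-- evaluation at the geometric point on a neighbourhood -/
noncomputable def evU (N : EtNbhd p) : Γ(sch p N, ⊤) →+* p.K :=
  ((pt p N).appTop ≫ (Scheme.ΓSpecIso (CommRingCat.of p.K)).hom).hom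

theorem evU_map {N' N : EtNbhd p} (f : N' ⟶ N) (s : Γ(sch p N, ⊤)) :
    evU p N' (f.1.hom.left.left.appTop.hom s) = evU p N s := by
  have h : (pt p N).appTop = f.1.hom.left.left.appTop ≫ (pt p N').appTop := by
    rw [← Scheme.Hom.comp_appTop, pt_map]
  unfold evU
  rw [h, Category.assoc]
  rfl

/-- the cocone of evaluations -/
noncomputable def evCocone : Cocone (stalkEtDiagram p (OEt X)) where
  pt := CommRingCat.of (ULift.{u + 1} p.K)
  ι :=
    { app := fun N => CommRingCat.ofHom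
        (RingHom.comp ((ULift.ringEquiv.{u, u + 1} (R := p.K)).symm : p.K →+* ULift.{u + 1} p.K)
          (RingHom.comp (evU p N.unop)
            ((ULift.ringEquiv.{u, u + 1} (R := Γ(sch p N.unop, ⊤))) :
              ULift.{u + 1} Γ(sch p N.unop, ⊤) →+* Γ(sch p N.unop, ⊤))))
      naturality := by
        intro N N' f
        apply CommRingCat.hom_ext
        apply RingHom.ext
        intro s
        show ULift.up (evU p N'.unop (f.unop.1.hom.left.left.appTop.hom s.down)) =
          ULift.up (evU p N.unop s.down)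
        rw [evU_map] }

/-- evaluation at the geometric point on the étale local ring -/
noncomputable def ev : ↥(OEtStalk p) →+* p.K :=
  RingHom.comp ((ULift.ringEquiv.{u, u + 1} (R := p.K)) : ULift.{u + 1} p.K →+* p.K)
    (colimit.desc (stalkEtDiagram p (OEt X)) (evCocone p)).hom

theorem ev_ρ (N : EtNbhd p) (s : Γ(sch p N, ⊤)) : ev p (ρ p N s) = evU p N s := by
  have h := congrArg
    (fun h => (h.hom (ULift.up s : ↑((OEt X).obj.obj (op N.1)))).down)
    (colimit.ι_desc (evCocone p) (op N))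
  exact h

theorem ev_comp_ρ (N : EtNbhd p) : (ev p).comp (ρ p N) = evU p N :=
  RingHom.ext (ev_ρ p N)

section nb

variable {p}
variable (N : EtNbhd p) {W : Scheme.{u}} (q : W ⟶ sch p N) [Etale q]

/-- an étale scheme over a neighbourhood, as an object of the site -/
noncomputable def nbE : EtOver X :=
  (EtOver.ofChart N.1.obj.hom N.1.property).obj (Scheme.Etale.mk q)

/-- its structure map -/
noncomputable def nbι : nbE N q ⟶ N.1 :=
  EtOver.homMk (EtOver.homOfEtale (Scheme.Etale.mk q)) rfl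

theorem nbι_left : (nbι N q).hom.left.left = q := rfl

variable (l : Spec (CommRingCat.of p.K) ⟶ W) (hl : l ≫ q = pt p N)

include hl in
theorem nb_aux1 : l ≫ q ≫ N.1.obj.left.hom = p.str := by
  rw [← Category.assoc, hl]
  exact Over.w N.2.1

/-- the lift of the point -/
noncomputable def nbLift : p.pt ⟶ (nbE N q).obj.left := Over.homMk l (nb_aux1 N q l hl)

theorem nbLift_comp : nbLift N q l hl ≫ (nbι N q).hom.left = N.2.1 :=
  Over.OverMorphism.ext hl

/-- the new neighbourhood -/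
noncomputable def nb : EtNbhd p :=
  ⟨nbE N q, ⟨nbLift N q l hl, by
    show (yon S).map (nbLift N q l hl) ≫ (yon S).map (nbι N q).hom.left ≫ N.1.obj.hom = p.toHom
    rw [← Category.assoc, ← Functor.map_comp, nbLift_comp]
    exact N.2.2⟩⟩

/-- the map from the new neighbourhood -/
noncomputable def nbHom : nb N q l hl ⟶ N :=
  ⟨nbι N q, Subtype.ext (nbLift_comp N q l hl)⟩

theorem nbHom_left : (nbHom N q l hl).1.hom.left.left = q := rfl

theorem pt_nb : pt p (nb N q l hl) = l := rfl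

end nb

theorem isUnit_ρ_of_evU_ne_zero (N : EtNbhd p) (s : Γ(sch p N, ⊤)) (hs : evU p N s ≠ 0) :
    IsUnit (ρ p N s) := by
  let D : (sch p N).Opens := (sch p N).basicOpen s
  have hpre : (pt p N) ⁻¹ᵁ D = ⊤ := by
    rw [Scheme.preimage_basicOpen_top]
    apply Scheme.basicOpen_of_isUnit
    have h1 : IsUnit (evU p N s) := IsUnit.mk0 _ hs
    have h2 := h1.map (Scheme.ΓSpecIso (CommRingCat.of p.K)).inv.hom
    have h3 : (Scheme.ΓSpecIso (CommRingCat.of p.K)).inv.hom (evU p N s) =
        (pt p N).appTop.hom s :=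
      iso_inv_hom_apply (Scheme.ΓSpecIso (CommRingCat.of p.K)) _
    rw [h3] at h2
    exact h2
  have hrange : Set.range (pt p N) ⊆ Set.range D.ι := by
    rw [Scheme.Opens.range_ι]
    rintro _ ⟨z, rfl⟩
    have hz : z ∈ ((pt p N) ⁻¹ᵁ D) := by rw [hpre]; trivial
    exact hz
  let l : Spec (CommRingCat.of p.K) ⟶ D.toScheme := IsOpenImmersion.lift D.ι (pt p N) hrange
  have hl : l ≫ D.ι = pt p N := IsOpenImmersion.lift_fac _ _ _
  have h3 : ρ p N s = ρ p (nb N D.ι l hl) (D.ι.appTop.hom s) :=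
    (ρ_map p (nbHom N D.ι l hl) s).symm
  rw [h3]
  apply IsUnit.map
  apply isUnit_of_basicOpen_eq_top
  exact (Scheme.preimage_basicOpen_top D.ι s).symm.trans D.ι_preimage_self

theorem exists_affine_refinement (N : EtNbhd p) :
    ∃ (N' : EtNbhd p) (_ : N' ⟶ N), IsAffine (sch p N') := by
  obtain ⟨R', j, hj, hmem, -⟩ := Scheme.exists_affine_mem_range_and_range_subset
    (x := (pt p N) default) (U := ⊤) (by trivial)
  have hrange : Set.range (pt p N) ⊆ Set.range j := by
    rintro _ ⟨a, rfl⟩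
    rwa [Subsingleton.elim a default]
  let l := IsOpenImmersion.lift j (pt p N) hrange
  have hl : l ≫ j = pt p N := IsOpenImmersion.lift_fac _ _ _
  refine ⟨nb N j l hl, nbHom N j l hl, ?_⟩
  show IsAffine (Spec R')
  infer_instance

section main

variable (hX : IsAlgSpace X) (hp : p.IsGeometric)

include hX hp in
theorem exists_rep (r : ↥(OEtStalk p)) :
    ∃ (N : EtNbhd p) (s : Γ(sch p N, ⊤)), ρ p N s = r := by
  haveI := isCofiltered_etNbhd hX p hp
  haveI := preservesColimitsOfShape_etNbhd_forget_commRing p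
  obtain ⟨N, σ, h⟩ := stalkEtPsh_jointly_surjective p (OEt X).obj r
  exact ⟨N, σ.down, h⟩

include hX hp in
theorem isUnit_iff (r : ↥(OEtStalk p)) : IsUnit r ↔ ev p r ≠ 0 := by
  constructor
  · intro h
    exact (h.map (ev p)).ne_zero
  · intro h
    obtain ⟨N, s, rfl⟩ := exists_rep p hX hp r
    apply isUnit_ρ_of_evU_ne_zero
    rwa [ev_ρ] at h

include hX hp in
theorem isLocalHom_ev : IsLocalHom (ev p) :=
  ⟨fun r hr => (isUnit_iff p hX hp r).2 hr.ne_zero⟩

include hX hp in
theorem isLocalRing : IsLocalRing ↥(OEtStalk p) :=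
  haveI := isLocalHom_ev p hX hp
  RingHom.domain_isLocalRing (ev p)

include hX hp in
theorem mem_maximalIdeal_iff (r : ↥(OEtStalk p)) :
    letI := isLocalRing p hX hp
    r ∈ IsLocalRing.maximalIdeal ↥(OEtStalk p) ↔ ev p r = 0 := by
  letI := isLocalRing p hX hp
  rw [IsLocalRing.mem_maximalIdeal, mem_nonunits_iff, isUnit_iff p hX hp, not_not]

include hX hp in
theorem exists_common (T : Finset ↥(OEtStalk p)) :
    ∃ (N : EtNbhd p), IsAffine (sch p N) ∧
      (↑T : Set ↥(OEtStalk p)) ⊆ Set.range (ρ p N) := by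
  classical
  haveI := isCofiltered_etNbhd hX p hp
  induction T using Finset.induction_on with
  | empty =>
    obtain ⟨N, s, -⟩ := exists_rep p hX hp (0 : ↥(OEtStalk p))
    obtain ⟨W, g, hW⟩ := exists_affine_refinement p N
    exact ⟨W, hW, by simp⟩
  | insert r T hr ih =>
    obtain ⟨N₁, -, hU⟩ := ih
    obtain ⟨N₂, s, hs⟩ := exists_rep p hX hp r
    let c := IsCofiltered.min N₁ N₂
    let fa : c ⟶ N₁ := IsCofiltered.minToLeft N₁ N₂
    let fb : c ⟶ N₂ := IsCofiltered.minToRight N₁ N₂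
    obtain ⟨W, g, hW⟩ := exists_affine_refinement p c
    refine ⟨W, hW, ?_⟩
    have h1 : Set.range (ρ p N₁) ⊆ Set.range (ρ p W) := range_ρ_mono p (g ≫ fa)
    have h2 : Set.range (ρ p N₂) ⊆ Set.range (ρ p W) := range_ρ_mono p (g ≫ fb)
    rw [Finset.coe_insert]
    exact Set.insert_subset (h2 ⟨s, hs⟩) (hU.trans h1)

include hX hp in
theorem exists_poly_lift (f : Polynomial ↥(OEtStalk p)) (hf : f.Monic) :
    ∃ (N : EtNbhd p) (_ : IsAffine (sch p N))
      (F : Polynomial Γ(sch p N, ⊤)), F.Monic ∧ F.map (ρ p N) = f := by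
  haveI := isLocalRing p hX hp
  obtain ⟨N, hN, hS⟩ := exists_common p hX hp f.coeffs
  have hlift : f ∈ Polynomial.lifts (ρ p N) := by
    rw [Polynomial.lifts_iff_coeff_lifts]
    intro n
    by_cases hn : f.coeff n = 0
    · exact ⟨0, by rw [map_zero, hn]⟩
    · exact hS (Finset.mem_coe.2 (Polynomial.coeff_mem_coeffs hn))
  obtain ⟨F, hF1, -, hF2⟩ := Polynomial.lifts_and_degree_eq_and_monic hlift hf
  exact ⟨N, hN, F, hF2, hF1⟩

theorem exists_root_nbhd (N : EtNbhd p) [IsAffine (sch p N)]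
    (F : Polynomial Γ(sch p N, ⊤)) (hF : F.Monic) (ω₀ : p.K)
    (h0 : Polynomial.eval₂ (evU p N) ω₀ F = 0)
    (h1 : Polynomial.eval₂ (evU p N) ω₀ (Polynomial.derivative F) ≠ 0) :
    ∃ a : ↥(OEtStalk p),
      Polynomial.eval₂ (ρ p N) a F = 0 ∧ ev p a = ω₀ := by
  let A : CommRingCat.{u} := Γ(sch p N, ⊤)
  let P : StandardEtalePair A := ⟨F, hF, Polynomial.derivative F, ⟨1, 0, 1, by simp⟩⟩
  letI : Algebra A p.K := (evU p N).toAlgebra
  have hmap : P.HasMap ω₀ := by
    refine ⟨?_, ?_⟩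
    · show Polynomial.aeval ω₀ F = 0
      rw [Polynomial.aeval_def]
      exact h0
    · show IsUnit (Polynomial.aeval ω₀ (Polynomial.derivative F))
      rw [Polynomial.aeval_def]
      exact IsUnit.mk0 _ h1
  let B : CommRingCat.{u} := CommRingCat.of P.Ring
  let φ : A ⟶ B := CommRingCat.ofHom (algebraMap A P.Ring)
  let ψ : P.Ring →ₐ[A] p.K := P.lift ω₀ hmap
  let ψ' : B ⟶ CommRingCat.of p.K := CommRingCat.ofHom ψ.toRingHom
  have hφψ : φ ≫ ψ' = (pt p N).appTop ≫ (Scheme.ΓSpecIso (CommRingCat.of p.K)).hom := by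
    apply CommRingCat.hom_ext
    apply RingHom.ext
    intro t
    exact ψ.commutes t
  have hφ1 : (algebraMap A P.Ring).Etale := RingHom.etale_algebraMap.mpr inferInstance
  haveI hφet : Etale (Spec.map φ) := (HasRingHomProperty.Spec_iff (P := @Etale)).2 hφ1
  let q : Spec B ⟶ sch p N := Spec.map φ ≫ (sch p N).isoSpec.inv
  haveI hq : Etale q := by
    show Etale (Spec.map φ ≫ (sch p N).isoSpec.inv)
    infer_instance
  let l : Spec (CommRingCat.of p.K) ⟶ Spec B := Spec.map ψ'
  have hl : l ≫ q = pt p N := by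
    show Spec.map ψ' ≫ Spec.map φ ≫ (sch p N).isoSpec.inv = pt p N
    rw [← Category.assoc, ← Spec.map_comp, hφψ]
    exact spec_ev_eq (pt p N)
  -- the root
  let b : Γ(Spec B, ⊤) := (Scheme.ΓSpecIso B).inv.hom P.X
  have hb : (Scheme.ΓSpecIso B).hom.hom b = P.X := iso_hom_inv_apply _ _
  have hγ : (Scheme.ΓSpecIso B).hom.hom.comp q.appTop.hom = algebraMap A P.Ring := by
    have := appTop_spec_eq (Y := sch p N) φ
    exact congrArg (fun h => h.hom) this
  have hroot : Polynomial.eval₂ q.appTop.hom b F = 0 := by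
    have hinj : Function.Injective (Scheme.ΓSpecIso B).hom.hom := by
      intro t₁ t₂ ht
      rw [← iso_inv_hom_apply (Scheme.ΓSpecIso B) t₁, ht, iso_inv_hom_apply]
    apply hinj
    rw [Polynomial.hom_eval₂, hγ, hb, map_zero]
    exact (P.hasMap_X).1
  have hρ : ρ p N = (ρ p (nb N q l hl)).comp q.appTop.hom :=
    RingHom.ext (fun s => (ρ_map p (nbHom N q l hl) s).symm)
  refine ⟨ρ p (nb N q l hl) b, ?_, ?_⟩
  · rw [hρ, ← Polynomial.hom_eval₂]
    exact (congrArg (ρ p (nb N q l hl)) hroot).trans (map_zero _)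
  · rw [ev_ρ]
    show (Scheme.ΓSpecIso (CommRingCat.of p.K)).hom.hom ((Spec.map ψ').appTop.hom b) = ω₀
    have h5 := congrArg (fun h => h.hom b) (Scheme.ΓSpecIso_naturality ψ')
    have h6 : (Scheme.ΓSpecIso (CommRingCat.of p.K)).hom.hom ((Spec.map ψ').appTop.hom b) =
        ψ'.hom ((Scheme.ΓSpecIso B).hom.hom b) := h5
    rw [h6, hb]
    exact P.lift_X ω₀ hmap

include hX hp in
theorem exists_root (f : Polynomial ↥(OEtStalk p)) (hf : f.Monic) (ω₀ : p.K)
    (h0 : Polynomial.eval₂ (ev p) ω₀ f = 0)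
    (h1 : Polynomial.eval₂ (ev p) ω₀ (Polynomial.derivative f) ≠ 0) :
    ∃ a : ↥(OEtStalk p), f.IsRoot a ∧ ev p a = ω₀ := by
  obtain ⟨N, hN, F, hF, rfl⟩ := exists_poly_lift p hX hp f hf
  rw [Polynomial.eval₂_map, ev_comp_ρ] at h0
  rw [Polynomial.derivative_map, Polynomial.eval₂_map, ev_comp_ρ] at h1
  obtain ⟨a, ha, ha'⟩ := exists_root_nbhd p N F hF ω₀ h0 h1
  refine ⟨a, ?_, ha'⟩
  rw [Polynomial.IsRoot.def, Polynomial.eval_map]
  exact ha

include hX hp in
theorem henselian : HenselianLocalRing ↥(OEtStalk p) := by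
  haveI := isLocalRing p hX hp
  refine HenselianLocalRing.mk ?_
  intro f hf a₀ h0 h1
  have h0' : Polynomial.eval₂ (ev p) (ev p a₀) f = 0 := by
    rw [Polynomial.eval₂_at_apply]
    exact (mem_maximalIdeal_iff p hX hp _).1 h0
  have h1' : Polynomial.eval₂ (ev p) (ev p a₀) (Polynomial.derivative f) ≠ 0 := by
    rw [Polynomial.eval₂_at_apply]
    exact (isUnit_iff p hX hp _).1 h1
  obtain ⟨a, ha, ha'⟩ := exists_root p hX hp f hf _ h0' h1'
  refine ⟨a, ha, ?_⟩
  rw [mem_maximalIdeal_iff p hX hp, map_sub, ha', sub_self]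

include hX hp in
theorem isSepClosed_residueField :
    letI := isLocalRing p hX hp
    IsSepClosed (IsLocalRing.ResidueField ↥(OEtStalk p)) := by
  letI := isLocalRing p hX hp
  haveI : IsAlgClosed p.K := hp
  haveI := isLocalHom_ev p hX hp
  apply IsSepClosed.of_exists_root
  intro P hP hirr hsep
  have hlift : P ∈ Polynomial.lifts (IsLocalRing.residue ↥(OEtStalk p)) := by
    rw [Polynomial.lifts_iff_coeff_lifts]
    intro n
    exact IsLocalRing.residue_surjective _
  obtain ⟨f, hf1, -, hf2⟩ := Polynomial.lifts_and_degree_eq_and_monic hlift hP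
  let ι : IsLocalRing.ResidueField ↥(OEtStalk p) →+* p.K :=
    IsLocalRing.ResidueField.lift (ev p)
  have hι : ι.comp (IsLocalRing.residue ↥(OEtStalk p)) = ev p :=
    IsLocalRing.ResidueField.lift_comp_residue _
  have hdeg : (P.map ι).degree ≠ 0 := by
    rw [Polynomial.degree_map]
    exact (Polynomial.degree_pos_of_irreducible hirr).ne'
  obtain ⟨ω₀, hω⟩ := IsSepClosed.exists_root (P.map ι) hdeg hsep.map
  have hω' : Polynomial.eval₂ ι ω₀ P = 0 := by
    rw [← Polynomial.eval_map]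
    exact hω
  have e0 : Polynomial.eval₂ (ev p) ω₀ f = Polynomial.eval₂ ι ω₀ P := by
    rw [← hf1, Polynomial.eval₂_map, hι]
  have e1 : Polynomial.eval₂ (ev p) ω₀ (Polynomial.derivative f) =
      Polynomial.eval₂ ι ω₀ (Polynomial.derivative P) := by
    rw [← hf1, Polynomial.derivative_map, Polynomial.eval₂_map, hι]
  have h0 : Polynomial.eval₂ (ev p) ω₀ f = 0 := by rw [e0]; exact hω'
  have h1 : Polynomial.eval₂ (ev p) ω₀ (Polynomial.derivative f) ≠ 0 := by
    rw [e1]
    exact hsep.eval₂_derivative_ne_zero ι hω'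
  obtain ⟨a, ha, -⟩ := exists_root p hX hp f hf2 ω₀ h0 h1
  refine ⟨IsLocalRing.residue _ a, ?_⟩
  rw [← hf1, Polynomial.eval_map, Polynomial.eval₂_at_apply, Polynomial.IsRoot.def.1 ha, map_zero]

include hX hp in
theorem main10223 :
    IsLocalRing ↥(OEtStalk p) ∧ EtCoh.IsStrictlyHenselianLocalRing ↥(OEtStalk p) :=
  ⟨isLocalRing p hX hp, ⟨henselian p hX hp, isSepClosed_residueField p hX hp⟩⟩

end main

end Groth.Agent.Helper1.ASH
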