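import Mathlib
import Groth.Agent.Lib.Helper1.ASH1
import Groth.Agent.Lib.Helper15.AlgSpRedStalk

/-!
# Reducedness of the étale local ring of an algebraic space (S10225)
-/

set_option autoImplicit false
open CategoryTheory CategoryTheory.Limits AlgebraicGeometry Opposite AlgSp
open Groth.Agent.Helper15
universe u

namespace Groth.Agent.Helper1.ASH

variable {S : Scheme.{u}} {X : Sp S} (p : FieldPt X)

theorem appTop_ι_eq_zero {Y : Scheme.{u}} (W : Y.Opens) (s : Γ(Y, ⊤)) (iU : W ⟶ ⊤)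
    (h : (Y.presheaf.map iU.op).hom s = 0) : W.ι.appTop.hom s = 0 := by
  rw [Scheme.Opens.ι_appTop]
  have e : (homOfLE (le_top : W.ι ''ᵁ ⊤ ≤ ⊤)).op =
      iU.op ≫ (homOfLE (le_of_eq W.ι_image_top)).op := Subsingleton.elim _ _
  rw [e, Functor.map_comp]
  show (Y.presheaf.map (homOfLE (le_of_eq W.ι_image_top)).op).hom
    ((Y.presheaf.map iU.op).hom s) = 0
  rw [h, map_zero]

theorem stalkMap_injective_of_flat {W U : Scheme.{u}} (g : W ⟶ U) [Flat g] (w : W) :
    Function.Injective (g.stalkMap w).hom := by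
  have hfl := Flat.stalkMap g w
  algebraize [(g.stalkMap w).hom]
  haveI : IsLocalHom (algebraMap (U.presheaf.stalk (g w)) (W.presheaf.stalk w)) :=
    g.toLRSHom.prop w
  haveI : Module.FaithfullyFlat (U.presheaf.stalk (g w)) (W.presheaf.stalk w) :=
    Module.FaithfullyFlat.of_flat_of_isLocalHom
  exact FaithfulSMul.algebraMap_injective (U.presheaf.stalk (g w)) (W.presheaf.stalk w)

theorem germ_eq_zero_of_appTop {Y' Y : Scheme.{u}} (g : Y' ⟶ Y) [Flat g] (y' : Y')
    (s : Γ(Y, ⊤)) (h : g.appTop.hom s = 0) :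
    (Y.presheaf.germ ⊤ (g y') trivial).hom s = 0 := by
  apply stalkMap_injective_of_flat g y'
  rw [map_zero]
  have h1 := Scheme.Hom.germ_stalkMap_apply g ⊤ y' trivial s
  refine h1.trans ?_
  have h2 : (Y'.presheaf.germ (g ⁻¹ᵁ ⊤) y' trivial).hom (g.appTop.hom s) =
      (Y'.presheaf.germ (g ⁻¹ᵁ ⊤) y' trivial).hom 0 := congrArg _ h
  exact h2.trans (map_zero _)

theorem exists_opens_of_germ_eq_zero {Y : Scheme.{u}} (y : Y) (s : Γ(Y, ⊤))
    (h : (Y.presheaf.germ ⊤ y trivial).hom s = 0) :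
    ∃ (W : Y.Opens), y ∈ W ∧ W.ι.appTop.hom s = 0 := by
  have h0 : (Y.presheaf.germ ⊤ y trivial) s = (Y.presheaf.germ ⊤ y trivial) 0 := by
    have h1 : (Y.presheaf.germ ⊤ y trivial).hom 0 = 0 := map_zero _
    exact h.trans h1.symm
  obtain ⟨W, hW, iU, iV, e⟩ := TopCat.Presheaf.germ_eq Y.presheaf (U := ⊤) (V := ⊤) y
    trivial trivial s 0 h0
  have e' : (Y.presheaf.map iU.op).hom s = 0 := by
    have h2 : (Y.presheaf.map iV.op).hom 0 = 0 := map_zero _
    exact e.trans h2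
  exact ⟨W, hW, appTop_ι_eq_zero W s iU e'⟩

/-- the closed point of `Spec K` -/
noncomputable abbrev cp : ↥(Spec (CommRingCat.of p.K)) := IsLocalRing.closedPoint p.K

/-- the image of the point in a neighbourhood -/
noncomputable abbrev pv (N : EtNbhd p) : ↥(sch p N) := (pt p N) (cp p)

theorem pv_map {N' N : EtNbhd p} (f : N' ⟶ N) : f.1.hom.left.left (pv p N') = pv p N := by
  have h := pt_map p f
  show f.1.hom.left.left ((pt p N') (cp p)) = (pt p N) (cp p)
  rw [← h]
  rfl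

theorem ρ_eq_zero_of_germ (N : EtNbhd p) (s : Γ(sch p N, ⊤))
    (h : ((sch p N).presheaf.germ ⊤ (pv p N) trivial).hom s = 0) : ρ p N s = 0 := by
  obtain ⟨W, hW, e'⟩ := exists_opens_of_germ_eq_zero (pv p N) s h
  have hrange : Set.range (pt p N) ⊆ Set.range W.ι := by
    rw [Scheme.Opens.range_ι]
    rintro _ ⟨a, rfl⟩
    have ha : a = cp p := Subsingleton.elim _ _
    rw [ha]
    exact hW
  let l := IsOpenImmersion.lift W.ι (pt p N) hrange
  have hl : l ≫ W.ι = pt p N := IsOpenImmersion.lift_fac _ _ _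
  rw [← ρ_map p (nbHom N W.ι l hl) s]
  have h5 : ρ p (nb N W.ι l hl) (W.ι.appTop.hom s) = ρ p (nb N W.ι l hl) 0 :=
    congrArg (ρ p (nb N W.ι l hl)) e'
  exact h5.trans (map_zero _)

section main

variable (hX : IsAlgSpace X) (hp : p.IsGeometric)

include hX hp in
theorem germ_eq_zero_of_ρ (N : EtNbhd p) (s : Γ(sch p N, ⊤)) (h : ρ p N s = 0) :
    ((sch p N).presheaf.germ ⊤ (pv p N) trivial).hom s = 0 := by
  haveI := isCofiltered_etNbhd hX p hp
  haveI := preservesColimitsOfShape_etNbhd_forget_commRing p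
  have h0 : (colimit.ι ((EtNbhd.toEtOver p).op ⋙ (OEt X).obj) (op N))
        (ULift.up s : ↑((OEt X).obj.obj (op N.1))) =
      (colimit.ι ((EtNbhd.toEtOver p).op ⋙ (OEt X).obj) (op N))
        (ULift.up 0 : ↑((OEt X).obj.obj (op N.1))) := by
    have h1 : ρ p N 0 = 0 := map_zero _
    exact h.trans h1.symm
  obtain ⟨N', f, hf⟩ := (stalkEtPsh_ι_eq_iff p (OEt X).obj N _ _).1 h0
  have hf' : f.1.hom.left.left.appTop.hom s = 0 := by
    have h2 := congrArg ULift.down hf
    have h3 : f.1.hom.left.left.appTop.hom 0 = 0 := map_zero _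
    exact h2.trans h3
  haveI : Etale f.1.hom.left.left := EtOver.etale_left f.1
  have h4 := germ_eq_zero_of_appTop f.1.hom.left.left (pv p N') s hf'
  rw [pv_map p f] at h4
  exact h4

include hX hp in
theorem isReduced_OEtStalk
    (h : HasAt (fun U u => _root_.IsReduced ↥(U.presheaf.stalk u)) X (Points.mk p)) :
    _root_.IsReduced ↥(OEtStalk p) := by
  constructor
  intro r hr
  obtain ⟨n, hn⟩ := hr
  obtain ⟨N, s, rfl⟩ := exists_rep p hX hp r
  have hred : _root_.IsReduced ↥((sch p N).presheaf.stalk (pv p N)) :=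
    hasAt_forall_chart etInv_isReduced_stalk _ h N.1.obj.left N.1.obj.hom (pv p N)
      N.1.property (ofPt_liftsTo p N.2)
  have h1 : ρ p N (s ^ n) = 0 := by rw [map_pow]; exact hn
  have h2 := germ_eq_zero_of_ρ p hX hp N (s ^ n) h1
  rw [map_pow] at h2
  have h3 : ((sch p N).presheaf.germ ⊤ (pv p N) trivial).hom s = 0 :=
    IsReduced.eq_zero _ ⟨n, h2⟩
  exact ρ_eq_zero_of_germ p N s h3

include hX hp in
theorem hasAt_of_isReduced (h : _root_.IsReduced ↥(OEtStalk p)) :
    HasAt (fun U u => _root_.IsReduced ↥(U.presheaf.stalk u)) X (Points.mk p) := by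
  haveI := isCofiltered_etNbhd hX p hp
  obtain ⟨N0⟩ : Nonempty (EtNbhd p) := IsCofiltered.nonempty
  obtain ⟨N, -, hN⟩ := exists_affine_refinement p N0
  refine ⟨N.1.obj.left, N.1.obj.hom, pv p N, N.1.property, ofPt_liftsTo p N.2, ?_⟩
  show _root_.IsReduced ↥((sch p N).presheaf.stalk (pv p N))
  constructor
  intro g hg
  obtain ⟨n, hn⟩ := hg
  letI := TopCat.Presheaf.algebra_section_stalk (sch p N).presheaf
    (⟨pv p N, trivial⟩ : (⊤ : (sch p N).Opens))
  haveI := (isAffineOpen_top (sch p N)).isLocalization_stalk ⟨pv p N, trivial⟩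
  obtain ⟨⟨s, t⟩, hst⟩ := IsLocalization.surj
    ((isAffineOpen_top (sch p N)).primeIdealOf ⟨pv p N, trivial⟩).asIdeal.primeCompl g
  have hunit : IsUnit (algebraMap Γ(sch p N, ⊤) ((sch p N).presheaf.stalk (pv p N)) ↑t) :=
    IsLocalization.map_units _ t
  have hst' : g * algebraMap Γ(sch p N, ⊤) ((sch p N).presheaf.stalk (pv p N)) ↑t =
      ((sch p N).presheaf.germ ⊤ (pv p N) trivial).hom s := hst
  have hs : (((sch p N).presheaf.germ ⊤ (pv p N) trivial).hom s) ^ n = 0 := by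
    rw [← hst', mul_pow, hn, zero_mul]
  have hs' : ((sch p N).presheaf.germ ⊤ (pv p N) trivial).hom (s ^ n) = 0 := by
    rw [map_pow]; exact hs
  have h1 := ρ_eq_zero_of_germ p N (s ^ n) hs'
  rw [map_pow] at h1
  have h2 : ρ p N s = 0 := IsReduced.eq_zero _ ⟨n, h1⟩
  have h3 := germ_eq_zero_of_ρ p hX hp N s h2
  have h4 : g * algebraMap Γ(sch p N, ⊤) ((sch p N).presheaf.stalk (pv p N)) ↑t = 0 :=
    hst'.trans h3
  exact (hunit.mul_left_eq_zero).1 h4

include hX hp in
theorem main10225 :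
    HasAt (fun U u => _root_.IsReduced ↥(U.presheaf.stalk u)) X (Points.mk p) ↔
      _root_.IsReduced ↥(OEtStalk p) :=
  ⟨isReduced_OEtStalk p hX hp, hasAt_of_isReduced p hX hp⟩

end main

end Groth.Agent.Helper1.ASH
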