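import Mathlib
import Groth.Agent.Lib.Helper1.ASH2
import Groth.Agent.Lib.Helper15.AlgSpDimEt

/-!
# Krull dimension of the étale local ring of an algebraic space (S10224)
-/

set_option autoImplicit false
open CategoryTheory CategoryTheory.Limits AlgebraicGeometry Opposite AlgSp
open Groth.Agent.Helper15
universe u v

namespace Groth.Agent.Helper1.ASH

open Groth.Agent.Helper1.ELR (iso_inv_hom_apply)

/-! ### Abstract lemmas -/

theorem flat_of_levels {R : Type u} {B : Type v} [CommRing R] [CommRing B] (ψ : R →+* B)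
    (H : ∀ (l : ℕ) (f : Fin l → R) (x : Fin l → B), ∑ i, ψ (f i) * x i = 0 →
      ∃ (A' : Type u) (_ : CommRing A') (α : R →+* A') (φ : A' →+* B),
        φ.comp α = ψ ∧ α.Flat ∧
          ∃ x' : Fin l → A', (∀ i, φ (x' i) = x i) ∧ ∑ i, α (f i) * x' i = 0) :
    ψ.Flat := by
  letI := ψ.toAlgebra
  show Module.Flat R B
  apply Module.Flat.of_forall_isTrivialRelation
  intro l f x hfx
  have hsm : ∀ (r : R) (b : B), r • b = ψ r * b := fun r b => rfl
  have hfx' : ∑ i, ψ (f i) * x i = 0 := by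
    refine Eq.trans (Finset.sum_congr rfl fun i _ => ?_) hfx
    exact (hsm _ _).symm
  obtain ⟨A', _, α, φ, hφα, hα, x', hx', hrel⟩ := H l f x hfx'
  letI := α.toAlgebra
  haveI : Module.Flat R A' := hα
  obtain ⟨k, a, y', h1, h2⟩ := Module.Flat.isTrivialRelation_of_sum_smul_eq_zero
    (R := R) (M := A') (f := f) (x := x') (by
      refine Eq.trans (Finset.sum_congr rfl fun i _ => ?_) hrel
      rfl)
  refine ⟨k, a, fun j => φ (y' j), ?_, h2⟩
  intro i
  have e1 : x i = φ (∑ j, a i j • y' j) := by rw [← h1 i, hx' i]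
  rw [e1, map_sum]
  refine Finset.sum_congr rfl fun j _ => ?_
  show φ (α (a i j) * y' j) = ψ (a i j) * φ (y' j)
  rw [map_mul]
  congr 1
  exact congrArg (fun h => h (a i j)) hφα

theorem height_le_of_goingDown {R : Type u} {S : Type v} [CommRing R] [CommRing S] [Algebra R S]
    [Algebra.HasGoingDown R S] (q : Ideal R) [hq : q.IsPrime] (Q : Ideal S) [hQ : Q.IsPrime]
    [hQq : Q.LiesOver q] : q.height ≤ Q.height := by
  have h1 : q.height = Order.height (⟨q, hq⟩ : PrimeSpectrum R) :=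
    PrimeSpectrum.height_eq_orderHeight ⟨q, hq⟩
  have h2 : Q.height = Order.height (⟨Q, hQ⟩ : PrimeSpectrum S) :=
    PrimeSpectrum.height_eq_orderHeight ⟨Q, hQ⟩
  rw [h1, h2]
  apply Order.height_le
  intro l hl
  haveI : Q.LiesOver l.last.asIdeal := by
    rw [hl]
    exact hQq
  obtain ⟨L, hlen, hlast, -⟩ := Ideal.exists_ltSeries_of_hasGoingDown l Q
  rw [← hlen]
  have h3 : (L.length : ℕ∞) ≤ Order.height L.last := Order.length_le_height_last
  rw [hlast] at h3
  exact h3

theorem height_le_of_contraction {B : Type v} [CommRing B] (𝔮 : Ideal B) [h𝔮 : 𝔮.IsPrime]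
    (d : ℕ∞)
    (H : ∀ T : Finset B, ∃ (A : Type u) (_ : CommRing A) (φ : A →+* B),
      (↑T : Set B) ⊆ Set.range φ ∧ (𝔮.comap φ).height ≤ d) :
    𝔮.height ≤ d := by
  classical
  have e0 : 𝔮.height = Order.height (⟨𝔮, h𝔮⟩ : PrimeSpectrum B) :=
    PrimeSpectrum.height_eq_orderHeight ⟨𝔮, h𝔮⟩
  rw [e0]
  apply Order.height_le
  intro l hl
  have hex : ∀ i : Fin l.length,
      ∃ b : B, b ∈ (l i.succ).asIdeal ∧ b ∉ (l i.castSucc).asIdeal := by
    intro i
    have hlt : (l i.castSucc).asIdeal < (l i.succ).asIdeal :=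
      (PrimeSpectrum.asIdeal_lt_asIdeal _ _).2 (l.step i)
    obtain ⟨b, hb1, hb2⟩ := SetLike.exists_of_lt hlt
    exact ⟨b, hb1, hb2⟩
  choose b hb1 hb2 using hex
  obtain ⟨A, _, φ, hT, hht⟩ := H (Finset.univ.image b)
  have hpre : ∀ i, ∃ a : A, φ a = b i := fun i =>
    hT (Finset.mem_coe.2 (Finset.mem_image_of_mem b (Finset.mem_univ i)))
  choose a ha using hpre
  let l' : LTSeries (PrimeSpectrum A) :=
    { length := l.length
      toFun := fun i => ⟨Ideal.comap φ (l i).asIdeal, inferInstance⟩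
      step := fun i => by
        refine (PrimeSpectrum.asIdeal_lt_asIdeal
          (⟨Ideal.comap φ (l i.castSucc).asIdeal, inferInstance⟩ : PrimeSpectrum A)
          ⟨Ideal.comap φ (l i.succ).asIdeal, inferInstance⟩).1 ?_
        show Ideal.comap φ (l i.castSucc).asIdeal < Ideal.comap φ (l i.succ).asIdeal
        refine lt_of_le_of_ne (Ideal.comap_mono
          ((PrimeSpectrum.asIdeal_le_asIdeal _ _).2 (le_of_lt (l.step i)))) ?_
        intro heq
        apply hb2 i
        have h1 : a i ∈ Ideal.comap φ (l i.succ).asIdeal := by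
          rw [Ideal.mem_comap, ha]
          exact hb1 i
        rw [← heq, Ideal.mem_comap, ha] at h1
        exact h1 }
  have h1 : (l'.length : ℕ∞) ≤ Order.height l'.last := Order.length_le_height_last
  have h2 : Order.height l'.last = (Ideal.comap φ (l.last).asIdeal).height :=
    (PrimeSpectrum.height_eq_orderHeight l'.last).symm
  have h3 : (l.last).asIdeal = 𝔮 := congrArg PrimeSpectrum.asIdeal hl
  rw [h2, h3] at h1
  exact h1.trans hht

/-! ### The étale local ring -/

variable {S : Scheme.{u}} {X : Sp S} (p : FieldPt X)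

theorem appTop_comp {N'' N' N : EtNbhd p} (a : N'' ⟶ N') (b : N' ⟶ N) (s : Γ(sch p N, ⊤)) :
    (a ≫ b).1.hom.left.left.appTop.hom s =
      a.1.hom.left.left.appTop.hom (b.1.hom.left.left.appTop.hom s) := by
  have h : (a ≫ b).1.hom.left.left = a.1.hom.left.left ≫ b.1.hom.left.left := rfl
  rw [h, Scheme.Hom.comp_appTop]
  rfl

theorem pv_mem_basicOpen_iff (N : EtNbhd p) (s : Γ(sch p N, ⊤)) :
    pv p N ∈ (sch p N).basicOpen s ↔ evU p N s ≠ 0 := by
  have hpre : (pt p N) ⁻¹ᵁ ((sch p N).basicOpen s) =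
      (Spec (CommRingCat.of p.K)).basicOpen ((pt p N).appTop.hom s) :=
    Scheme.preimage_basicOpen_top (pt p N) s
  have hmem : pv p N ∈ (sch p N).basicOpen s ↔
      cp p ∈ (Spec (CommRingCat.of p.K)).basicOpen ((pt p N).appTop.hom s) := by
    rw [← hpre]
    rfl
  rw [hmem]
  have hev : evU p N s =
      (Scheme.ΓSpecIso (CommRingCat.of p.K)).hom.hom ((pt p N).appTop.hom s) := rfl
  constructor
  · intro h h0
    have h1 : (pt p N).appTop.hom s = 0 := by
      have h2 := iso_inv_hom_apply (Scheme.ΓSpecIso (CommRingCat.of p.K))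
        ((pt p N).appTop.hom s)
      rw [← h2, ← hev, h0, map_zero]
    rw [h1, Scheme.basicOpen_zero] at h
    exact h
  · intro h
    have h1 : IsUnit (evU p N s) := IsUnit.mk0 _ h
    have h2 := h1.map (Scheme.ΓSpecIso (CommRingCat.of p.K)).inv.hom
    have h3 : (Scheme.ΓSpecIso (CommRingCat.of p.K)).inv.hom (evU p N s) =
        (pt p N).appTop.hom s :=
      iso_inv_hom_apply (Scheme.ΓSpecIso (CommRingCat.of p.K)) _
    rw [h3] at h2
    rw [Scheme.basicOpen_of_isUnit _ h2]
    trivial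

theorem ker_evU_eq (N : EtNbhd p) [IsAffine (sch p N)] :
    RingHom.ker (evU p N) =
      ((isAffineOpen_top (sch p N)).primeIdealOf ⟨pv p N, trivial⟩).asIdeal := by
  letI := TopCat.Presheaf.algebra_section_stalk (sch p N).presheaf
    (⟨pv p N, trivial⟩ : (⊤ : (sch p N).Opens))
  haveI := (isAffineOpen_top (sch p N)).isLocalization_stalk ⟨pv p N, trivial⟩
  ext s
  rw [RingHom.mem_ker]
  have h1 : IsUnit (algebraMap Γ(sch p N, ⊤) ((sch p N).presheaf.stalk (pv p N)) s) ↔
      s ∈ (((isAffineOpen_top (sch p N)).primeIdealOf ⟨pv p N, trivial⟩).asIdeal).primeCompl :=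
    IsLocalization.AtPrime.isUnit_to_map_iff
      (S := (sch p N).presheaf.stalk (pv p N))
      (I := ((isAffineOpen_top (sch p N)).primeIdealOf ⟨pv p N, trivial⟩).asIdeal) s
  have h2 : pv p N ∈ (sch p N).basicOpen s ↔
      IsUnit ((sch p N).presheaf.germ ⊤ (pv p N) trivial s) :=
    (sch p N).mem_basicOpen_top s (pv p N)
  have h3 := pv_mem_basicOpen_iff p N s
  constructor
  · intro h0
    by_contra hs
    have h4 : IsUnit (algebraMap Γ(sch p N, ⊤) ((sch p N).presheaf.stalk (pv p N)) s) :=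
      h1.2 hs
    exact (h3.1 (h2.2 h4)) h0
  · intro hs
    by_contra h0
    have h4 : IsUnit ((sch p N).presheaf.germ ⊤ (pv p N) trivial s) := h2.1 (h3.2 h0)
    exact (h1.1 h4) hs

instance ker_evU_isPrime (N : EtNbhd p) : (RingHom.ker (evU p N)).IsPrime :=
  RingHom.ker_isPrime _

theorem ringKrullDim_stalk_eq_height (N : EtNbhd p) [IsAffine (sch p N)] :
    ringKrullDim ↥((sch p N).presheaf.stalk (pv p N)) =
      ((RingHom.ker (evU p N)).height : WithBot ℕ∞) := by
  letI := TopCat.Presheaf.algebra_section_stalk (sch p N).presheaf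
    (⟨pv p N, trivial⟩ : (⊤ : (sch p N).Opens))
  haveI := (isAffineOpen_top (sch p N)).isLocalization_stalk ⟨pv p N, trivial⟩
  rw [ker_evU_eq]
  exact IsLocalization.AtPrime.ringKrullDim_eq_height _ _

theorem height_ker_evU_eq {N' N : EtNbhd p} (f : N' ⟶ N) [IsAffine (sch p N')]
    [IsAffine (sch p N)] :
    (RingHom.ker (evU p N')).height = (RingHom.ker (evU p N)).height := by
  haveI : Etale f.1.hom.left.left := EtOver.etale_left f.1
  have h1 := ringKrullDim_stalk_eq_of_etale f.1.hom.left.left (pv p N')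
  rw [pv_map p f] at h1
  rw [ringKrullDim_stalk_eq_height, ringKrullDim_stalk_eq_height] at h1
  exact WithBot.coe_injective h1

section main

variable (hX : IsAlgSpace X) (hp : p.IsGeometric)

include hX hp in
theorem exists_restrict_eq_zero (N : EtNbhd p) (s : Γ(sch p N, ⊤)) (h : ρ p N s = 0) :
    ∃ (N' : EtNbhd p) (f : N' ⟶ N), f.1.hom.left.left.appTop.hom s = 0 := by
  haveI := isCofiltered_etNbhd hX p hp
  haveI := preservesColimitsOfShape_etNbhd_forget_commRing p
  have h0 : (colimit.ι ((EtNbhd.toEtOver p).op ⋙ (OEt X).obj) (op N))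
        (ULift.up s : ↑((OEt X).obj.obj (op N.1))) =
      (colimit.ι ((EtNbhd.toEtOver p).op ⋙ (OEt X).obj) (op N))
        (ULift.up 0 : ↑((OEt X).obj.obj (op N.1))) := by
    have h1 : ρ p N 0 = 0 := map_zero _
    exact h.trans h1.symm
  obtain ⟨N', f, hf⟩ := (stalkEtPsh_ι_eq_iff p (OEt X).obj N _ _).1 h0
  refine ⟨N', f, ?_⟩
  have h2 := congrArg ULift.down hf
  have h3 : f.1.hom.left.left.appTop.hom 0 = 0 := map_zero _
  exact h2.trans h3

include hX hp in
theorem comap_ρ_maximalIdeal (N : EtNbhd p) :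
    letI := isLocalRing p hX hp
    Ideal.comap (ρ p N) (IsLocalRing.maximalIdeal ↥(OEtStalk p)) = RingHom.ker (evU p N) := by
  letI := isLocalRing p hX hp
  ext s
  rw [Ideal.mem_comap, mem_maximalIdeal_iff p hX hp, ev_ρ, RingHom.mem_ker]

include hX hp in
theorem exists_level (N0 : EtNbhd p) (l : ℕ) (f : Fin l → Γ(sch p N0, ⊤))
    (x : Fin l → ↥(OEtStalk p)) (hfx : ∑ i, ρ p N0 (f i) * x i = 0) :
    ∃ (N : EtNbhd p) (g : N ⟶ N0) (_ : IsAffine (sch p N)) (x' : Fin l → Γ(sch p N, ⊤)),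
      (∀ i, ρ p N (x' i) = x i) ∧
        ∑ i, g.1.hom.left.left.appTop.hom (f i) * x' i = 0 := by
  classical
  haveI := isCofiltered_etNbhd hX p hp
  obtain ⟨N1, -, hN1⟩ := exists_common p hX hp (Finset.univ.image x)
  let c := IsCofiltered.min N1 N0
  let fa : c ⟶ N1 := IsCofiltered.minToLeft N1 N0
  let fb : c ⟶ N0 := IsCofiltered.minToRight N1 N0
  have hx3 : ∀ i, ∃ y : Γ(sch p c, ⊤), ρ p c y = x i := by
    intro i
    have h1 : x i ∈ Set.range (ρ p N1) :=
      hN1 (Finset.mem_coe.2 (Finset.mem_image_of_mem x (Finset.mem_univ i)))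
    exact range_ρ_mono p fa h1
  choose x3 hx3 using hx3
  have hrel : ρ p c (∑ i, fb.1.hom.left.left.appTop.hom (f i) * x3 i) = 0 := by
    rw [map_sum]
    refine Eq.trans ?_ hfx
    refine Finset.sum_congr rfl fun i _ => ?_
    rw [map_mul, ρ_map p fb, hx3]
  obtain ⟨N4, k, hk⟩ := exists_restrict_eq_zero p hX hp c _ hrel
  obtain ⟨N5, m, hN5⟩ := exists_affine_refinement p N4
  refine ⟨N5, (m ≫ k) ≫ fb, hN5, fun i => (m ≫ k).1.hom.left.left.appTop.hom (x3 i), ?_, ?_⟩
  · intro i
    rw [ρ_map p (m ≫ k), hx3]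
  · have e3 : ∑ i, ((m ≫ k) ≫ fb).1.hom.left.left.appTop.hom (f i) *
          (m ≫ k).1.hom.left.left.appTop.hom (x3 i) =
        (m ≫ k).1.hom.left.left.appTop.hom
          (∑ i, fb.1.hom.left.left.appTop.hom (f i) * x3 i) := by
      rw [map_sum]
      refine Finset.sum_congr rfl fun i _ => ?_
      rw [map_mul, appTop_comp p (m ≫ k) fb]
    rw [e3, appTop_comp p m k, hk, map_zero]

include hX hp in
theorem flat_ρ (N0 : EtNbhd p) [IsAffine (sch p N0)] : (ρ p N0).Flat := by
  apply flat_of_levels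
  intro l f x hfx
  obtain ⟨N, g, hN, x', hx', hrel⟩ := exists_level p hX hp N0 l f x hfx
  haveI := hN
  haveI : Etale g.1.hom.left.left := EtOver.etale_left g.1
  refine ⟨Γ(sch p N, ⊤), inferInstance, g.1.hom.left.left.appTop.hom, ρ p N, ?_, ?_, x', hx',
    hrel⟩
  · exact RingHom.ext (ρ_map p g)
  · exact HasRingHomProperty.appTop (P := @Flat) g.1.hom.left.left inferInstance

include hX hp in
theorem height_maximalIdeal_eq (N0 : EtNbhd p) [IsAffine (sch p N0)] :
    letI := isLocalRing p hX hp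
    (IsLocalRing.maximalIdeal ↥(OEtStalk p)).height = (RingHom.ker (evU p N0)).height := by
  letI := isLocalRing p hX hp
  apply le_antisymm
  · apply height_le_of_contraction.{u, u + 1}
    intro T
    classical
    haveI := isCofiltered_etNbhd hX p hp
    obtain ⟨N1, -, hN1⟩ := exists_common p hX hp T
    obtain ⟨N3, m, hN3⟩ := exists_affine_refinement p (IsCofiltered.min N1 N0)
    haveI := hN3
    refine ⟨Γ(sch p N3, ⊤), inferInstance, ρ p N3, ?_, ?_⟩
    · exact hN1.trans (range_ρ_mono p (m ≫ IsCofiltered.minToLeft N1 N0))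
    · exact le_of_eq (by
        rw [comap_ρ_maximalIdeal p hX hp N3,
          height_ker_evU_eq p (m ≫ IsCofiltered.minToRight N1 N0)])
  · letI := (ρ p N0).toAlgebra
    haveI : Module.Flat Γ(sch p N0, ⊤) ↥(OEtStalk p) := flat_ρ p hX hp N0
    haveI : (IsLocalRing.maximalIdeal ↥(OEtStalk p)).LiesOver (RingHom.ker (evU p N0)) :=
      ⟨(comap_ρ_maximalIdeal p hX hp N0).symm⟩
    exact height_le_of_goingDown (RingHom.ker (evU p N0))
      (IsLocalRing.maximalIdeal ↥(OEtStalk p))

include hX hp in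
theorem ringKrullDim_OEtStalk (N0 : EtNbhd p) [IsAffine (sch p N0)] :
    ringKrullDim ↥(OEtStalk p) = ringKrullDim ↥((sch p N0).presheaf.stalk (pv p N0)) := by
  letI := isLocalRing p hX hp
  rw [ringKrullDim_stalk_eq_height, ← height_maximalIdeal_eq p hX hp N0]
  exact (IsLocalRing.maximalIdeal_height_eq_ringKrullDim).symm

include hX hp in
theorem main10224 (d : ℕ∞) :
    HasAt (fun U u => ringKrullDim ↥(U.presheaf.stalk u) = (d : WithBot ℕ∞)) X (Points.mk p) ↔
      ringKrullDim ↥(OEtStalk p) = (d : WithBot ℕ∞) := by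
  haveI := isCofiltered_etNbhd hX p hp
  obtain ⟨N0'⟩ : Nonempty (EtNbhd p) := IsCofiltered.nonempty
  obtain ⟨N0, -, hN0⟩ := exists_affine_refinement p N0'
  haveI := hN0
  rw [ringKrullDim_OEtStalk p hX hp N0]
  constructor
  · intro h
    exact hasAt_forall_chart (etInv_ringKrullDim_stalk _) _ h N0.1.obj.left N0.1.obj.hom
      (pv p N0) N0.1.property (ofPt_liftsTo p N0.2)
  · intro h
    exact ⟨N0.1.obj.left, N0.1.obj.hom, pv p N0, N0.1.property, ofPt_liftsTo p N0.2, h⟩

end main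

end Groth.Agent.Helper1.ASH
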