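import Groth.Agent.Lib.Helper1.HFlat8

/-!
# Regularity passes to and from the henselization
-/

set_option autoImplicit false

namespace Groth.Agent.Helper1.HFlat

open Polynomial IsLocalRing

universe u

section

variable {R S : Type u} [CommRing R] [IsLocalRing R] [CommRing S] [HenselianLocalRing S]
  {ψ : R →+* S}

theorem IsHensHom.exists_sub_mem_pow (h : IsHensHom ψ) (n : ℕ) (s : S) :
    ∃ e : R, s - ψ e ∈ maximalIdeal S ^ n := by
  letI := ψ.toAlgebra
  haveI : IsLocalHom (algebraMap R S) := h.isLocalHom
  haveI : Hensel.IsHenselization R S := ⟨inferInstance, h.universal⟩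
  obtain ⟨y, hy⟩ := (Hzn.quotientMap_pow_bijective R S n).2 (Ideal.Quotient.mk _ s)
  obtain ⟨e, rfl⟩ := Ideal.Quotient.mk_surjective y
  refine ⟨e, ?_⟩
  rw [Ideal.quotientMap_mk, Ideal.Quotient.eq, Ideal.map_pow,
    Hzn.map_maximalIdeal_eq_of_isHenselization R S] at hy
  have := Ideal.neg_mem_iff _ |>.mpr hy
  rwa [neg_sub] at this

theorem IsHensHom.comap_maximalIdeal (h : IsHensHom ψ) :
    (maximalIdeal S).comap ψ = maximalIdeal R := by
  rw [← h.map_maximalIdeal, h.comap_map]

theorem spanFinrank_maximalIdeal_eq_of_isHensHom [IsNoetherianRing R] (hψ : IsHensHom ψ) :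
    (maximalIdeal S).spanFinrank = (maximalIdeal R).spanFinrank := by
  classical
  haveI : IsLocalHom ψ := hψ.isLocalHom
  haveI : IsNoetherianRing S := isNoetherianRing_of_isHensHom hψ
  apply le_antisymm
  · rw [← hψ.map_maximalIdeal]
    exact Ideal.spanFinrank_map_le_of_fg ψ (IsNoetherian.noetherian _)
  · obtain ⟨s, hs1, hs2⟩ := Submodule.FG.exists_span_finset_card_eq_spanFinrank
      (IsNoetherian.noetherian (maximalIdeal S))
    have hr : ∀ x : S, ∃ r : R, x - ψ r ∈ maximalIdeal S ^ 2 := hψ.exists_sub_mem_pow 2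
    choose r hr using hr
    obtain ⟨I, hI⟩ : ∃ I : Ideal R, I = Ideal.span (r '' (s : Set S)) := ⟨_, rfl⟩
    have hsm : ∀ x ∈ s, x ∈ maximalIdeal S := fun x hx => by
      rw [← hs2]; exact Submodule.subset_span hx
    have hpow : maximalIdeal S ^ 2 ≤ maximalIdeal S := Ideal.pow_le_self two_ne_zero
    have hψr : ∀ x ∈ s, ψ (r x) ∈ maximalIdeal S := fun x hx => by
      have h1 := hpow (hr x)
      have h2 := (maximalIdeal S).sub_mem (hsm x hx) h1
      rwa [sub_sub_cancel] at h2
    have hle : I.map ψ ≤ maximalIdeal S := by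
      rw [hI, Ideal.map_span, Ideal.span_le]
      rintro _ ⟨_, ⟨x, hx, rfl⟩, rfl⟩
      exact hψr x hx
    have hge : maximalIdeal S ≤ I.map ψ := by
      apply Submodule.le_of_le_smul_of_le_jacobson_bot (I := maximalIdeal S)
        (IsNoetherian.noetherian _)
      · rw [IsLocalRing.jacobson_eq_maximalIdeal ⊥ bot_ne_top]
      · rw [← hs2] 
        change Ideal.span (s : Set S) ≤ _
        rw [Ideal.span_le]
        intro x hx
        have h1 : x = ψ (r x) + (x - ψ (r x)) := by ring
        rw [h1]
        refine Submodule.add_mem_sup ?_ ?_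
        · rw [hI]
          exact Ideal.mem_map_of_mem ψ (Ideal.subset_span ⟨x, hx, rfl⟩)
        · have h2 := hr x
          rw [pow_two] at h2
          rw [hs2, smul_eq_mul]
          exact h2
    have hIm : I = maximalIdeal R := by
      rw [← hψ.comap_map I, le_antisymm hle hge, hψ.comap_maximalIdeal]
    rw [← hs1, ← hIm, hI]
    refine (Submodule.spanFinrank_span_le_ncard_of_finite
      ((s.finite_toSet).image r)).trans ?_
    refine (Set.ncard_image_le s.finite_toSet).trans ?_
    rw [Set.ncard_coe_finset]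

end

theorem isRegularLocalRing_iff_of_isHenselization (R : Type u) [CommRing R] [IsLocalRing R]
    (S : Type u) [CommRing S] [IsLocalRing S] [Algebra R S] [IsLocalHom (algebraMap R S)]
    [Hensel.IsHenselization R S] [IsNoetherianRing R] :
    IsRegularLocalRing R ↔ IsRegularLocalRing S := by
  haveI hS : HenselianLocalRing S := Hensel.IsHenselization.henselian (R := R)
  haveI : IsNoetherianRing S := (isNoetherianRing_iff_of_isHenselization R S).mp inferInstance
  rw [isRegularLocalRing_iff, isRegularLocalRing_iff, ringKrullDim_eq_of_isHenselization R S,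
    spanFinrank_maximalIdeal_eq_of_isHensHom (IsHensHom.of_isHenselization R S)]

end Groth.Agent.Helper1.HFlat
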