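import Groth.Agent.Lib.Helper1.SH7
import Groth.Agent.Lib.Helper4.HensUNR
import Groth.Agent.Lib.Helper3.DiagFlat

/-!
# The henselization and the strict henselization are weakly étale
-/

set_option autoImplicit false

namespace Groth.Agent.Helper1.WE

open TensorProduct IsLocalRing Groth.Agent.Helper1.HFlat

universe u

section Generic

variable {R S : Type u} [CommRing R] [CommRing S] [Algebra R S]

/-- the additive subgroup of `S ⊗ S` spanned by pure tensors of elements of `U` -/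
def tensorSpan (U : Subring S) : AddSubgroup (S ⊗[R] S) :=
  AddSubgroup.closure {x | ∃ u ∈ U, ∃ v ∈ U, x = u ⊗ₜ[R] v}

theorem tensorSpan_mono {U V : Subring S} (h : U ≤ V) :
    tensorSpan (R := R) U ≤ tensorSpan (R := R) V := by
  apply AddSubgroup.closure_mono
  rintro _ ⟨u, hu, v, hv, rfl⟩
  exact ⟨u, h hu, v, h hv, rfl⟩

theorem exists_mem_tensorSpan (Good : Subring S → Prop)
    (hdir : ∀ U₁ U₂, Good U₁ → Good U₂ → ∃ U₃, Good U₃ ∧ U₁ ≤ U₃ ∧ U₂ ≤ U₃)
    (hex : ∀ s : S, ∃ U, Good U ∧ s ∈ U) (ε : S ⊗[R] S) :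
    ∃ U, Good U ∧ ε ∈ tensorSpan (R := R) U := by
  induction ε using TensorProduct.induction_on with
  | zero =>
    obtain ⟨U, hU, -⟩ := hex 0
    exact ⟨U, hU, zero_mem _⟩
  | tmul s s' =>
    obtain ⟨U₁, hU₁, hs⟩ := hex s
    obtain ⟨U₂, hU₂, hs'⟩ := hex s'
    obtain ⟨U₃, hU₃, h1, h2⟩ := hdir U₁ U₂ hU₁ hU₂
    exact ⟨U₃, hU₃, AddSubgroup.subset_closure ⟨s, h1 hs, s', h2 hs', rfl⟩⟩
  | add x y hx hy =>
    obtain ⟨U₁, hU₁, hx⟩ := hx
    obtain ⟨U₂, hU₂, hy⟩ := hy
    obtain ⟨U₃, hU₃, h1, h2⟩ := hdir U₁ U₂ hU₁ hU₂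
    exact ⟨U₃, hU₃, add_mem (tensorSpan_mono h1 hx) (tensorSpan_mono h2 hy)⟩

theorem lmul'_map {E : Type u} [CommRing E] [Algebra R E] (φ : E →ₐ[R] S) (x : E ⊗[R] E) :
    Algebra.TensorProduct.lmul' R (Algebra.TensorProduct.map φ φ x) =
      φ (Algebra.TensorProduct.lmul' R x) := by
  induction x using TensorProduct.induction_on with
  | zero => simp only [map_zero]
  | tmul a b =>
    rw [Algebra.TensorProduct.map_tmul, Algebra.TensorProduct.lmul'_apply_tmul,
      Algebra.TensorProduct.lmul'_apply_tmul, map_mul]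
  | add x y hx hy => rw [map_add, map_add, map_add, map_add, hx, hy]

theorem exists_eq_mul_of_unramified {E : Type u} [CommRing E] [Algebra R E]
    [Algebra.FormallyUnramified R E] [Algebra.EssFiniteType R E]
    (x : E ⊗[R] E) (hx : Algebra.TensorProduct.lmul' R x = 0) :
    ∃ d : E ⊗[R] E, Algebra.TensorProduct.lmul' R d = 0 ∧ x = x * d := by
  obtain ⟨t, ht1, ht2⟩ := (Algebra.FormallyUnramified.iff_exists_tensorProduct (R := R)
    (S := E)).mp inferInstance
  have hmem : x ∈ KaehlerDifferential.ideal R E := (RingHom.mem_ker).mpr hx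
  rw [← KaehlerDifferential.span_range_eq_ideal] at hmem
  have hann : x * t = 0 := by
    refine Submodule.span_induction (p := fun y _ => y * t = 0) ?_ ?_ ?_ ?_ hmem
    · rintro _ ⟨s, rfl⟩
      exact ht1 s
    · exact zero_mul t
    · intro a b _ _ ha hb
      rw [add_mul, ha, hb, add_zero]
    · intro c a _ ha
      rw [smul_eq_mul, mul_assoc, ha, mul_zero]
  refine ⟨1 - t, by rw [map_sub, map_one, ht2, sub_self], ?_⟩
  rw [mul_sub, mul_one, hann, sub_zero]

theorem flat_lmul'_of_pure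
    (hpure : ∀ ε ∈ RingHom.ker (Algebra.TensorProduct.lmul' R (S := S)),
      ∃ δ ∈ RingHom.ker (Algebra.TensorProduct.lmul' R (S := S)), ε = ε * δ) :
    (Algebra.TensorProduct.lmul' R (S := S)).Flat := by
  letI alg : Algebra (S ⊗[R] S) S :=
    (Algebra.TensorProduct.lmul' R (S := S)).toRingHom.toAlgebra
  show Module.Flat (S ⊗[R] S) S
  let J : Ideal (S ⊗[R] S) := RingHom.ker (Algebra.TensorProduct.lmul' R (S := S))
  haveI hJ : J.Pure := by
    apply Ideal.Pure.of_inf_eq_mul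
    intro K _
    apply le_antisymm
    · intro x hx
      obtain ⟨hxJ, hxK⟩ := Ideal.mem_inf.mp hx
      obtain ⟨δ, hδ, hxδ⟩ := hpure x hxJ
      have h1 : x * δ ∈ J * K := by
        rw [mul_comm x δ]
        exact Ideal.mul_mem_mul hδ hxK
      rw [hxδ]
      exact h1
    · exact Ideal.mul_le_inf
  have hsurj : Function.Surjective (Algebra.TensorProduct.lmul' R (S := S)) := fun b =>
    ⟨b ⊗ₜ 1, by simp⟩
  let f : (S ⊗[R] S ⧸ J) →ₗ[S ⊗[R] S] S :=
    Submodule.liftQ J (Algebra.linearMap (S ⊗[R] S) S) (fun x hx => hx)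
  have hf : Function.Bijective f := by
    constructor
    · rw [← LinearMap.ker_eq_bot, Submodule.ker_liftQ_eq_bot']
      rfl
    · intro b
      obtain ⟨x, rfl⟩ := hsurj b
      exact ⟨Submodule.Quotient.mk x, rfl⟩
  exact Module.Flat.of_linearEquiv (LinearEquiv.ofBijective f hf).symm

theorem flat_lmul'_of_good (Good : Subring S → Prop)
    (hdir : ∀ U₁ U₂, Good U₁ → Good U₂ → ∃ U₃, Good U₃ ∧ U₁ ≤ U₃ ∧ U₂ ≤ U₃)
    (hex : ∀ s : S, ∃ U, Good U ∧ s ∈ U)
    (hgood : ∀ U, Good U → ∃ (E : Type u) (_ : CommRing E) (_ : Algebra R E) (φ : E →ₐ[R] S),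
      Function.Injective φ ∧ Algebra.FormallyUnramified R E ∧ Algebra.EssFiniteType R E ∧
        ∀ u ∈ U, u ∈ Set.range φ) :
    (Algebra.TensorProduct.lmul' R (S := S)).Flat := by
  apply flat_lmul'_of_pure
  intro ε hε
  obtain ⟨U, hU, hεU⟩ := exists_mem_tensorSpan (R := R) Good hdir hex ε
  obtain ⟨E, _, _, φ, hinj, hunr, hess, hrange⟩ := hgood U hU
  have hlift : ∀ x ∈ tensorSpan (R := R) U,
      ∃ x' : E ⊗[R] E, Algebra.TensorProduct.map φ φ x' = x := by
    intro x hx
    refine AddSubgroup.closure_induction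
      (p := fun y _ => ∃ x' : E ⊗[R] E, Algebra.TensorProduct.map φ φ x' = y) ?_ ?_ ?_ ?_ hx
    · rintro _ ⟨u, hu, v, hv, rfl⟩
      obtain ⟨e, rfl⟩ := hrange u hu
      obtain ⟨e', rfl⟩ := hrange v hv
      exact ⟨e ⊗ₜ e', Algebra.TensorProduct.map_tmul _ _ _ _⟩
    · exact ⟨0, map_zero _⟩
    · rintro a b _ _ ⟨a', rfl⟩ ⟨b', rfl⟩
      exact ⟨a' + b', map_add _ _ _⟩
    · rintro a _ ⟨a', rfl⟩
      exact ⟨-a', map_neg _ _⟩
  obtain ⟨ε', rfl⟩ := hlift ε hεU
  have h0 : Algebra.TensorProduct.lmul' R ε' = 0 := by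
    apply hinj
    rw [map_zero, ← lmul'_map]
    exact (RingHom.mem_ker).mp hε
  obtain ⟨d, hd0, hd⟩ := exists_eq_mul_of_unramified ε' h0
  refine ⟨Algebra.TensorProduct.map φ φ d, ?_, ?_⟩
  · rw [RingHom.mem_ker, lmul'_map, hd0, map_zero]
  · rw [← map_mul, ← hd]

end Generic

section Strict

variable {R S : Type u} [CommRing R] [IsLocalRing R] [CommRing S] [HenselianLocalRing S]
  [Algebra R S]

theorem SGoodMap.exists_UE {E : LocRing.{u}} {φ : E.A →+* S}
    (hg : SGoodMap (algebraMap R S) E φ) :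
    ∃ ι : R →+* E.A, φ.comp ι = algebraMap R S ∧ ι.FormallyUnramified ∧ ι.EssFiniteType := by
  induction hg with
  | base =>
    exact ⟨RingHom.id R, RingHom.comp_id _,
      RingHom.FormallyUnramified.of_surjective Function.surjective_id,
      (RingHom.FiniteType.id R).essFiniteType⟩
  | step E φ δ h ih =>
    obtain ⟨ι, hι, hunr, hess⟩ := ih
    refine ⟨(algebraMap E.A (SExt1 δ)).comp ι, ?_, ?_, ?_⟩
    · rw [← hι]
      ext r
      exact liftSNext_algebraMap _ (ι r)
    · exact hunr.comp (RingHom.formallyUnramified_algebraMap.mpr (formallyUnramified_SNext _))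
    · letI := ι.toAlgebra
      letI := ((algebraMap E.A (SExt1 δ)).comp ι).toAlgebra
      haveI := IsScalarTower.of_algebraMap_eq (R := R) (S := E.A) (A := SExt1 δ) (fun _ => rfl)
      haveI : Algebra.EssFiniteType R E.A := hess
      haveI : Algebra.FiniteType E.A (Q (spoly (fun _ : PUnit.{u + 1} => δ))) :=
        Algebra.FiniteType.of_surjective (Ideal.Quotient.mkₐ E.A _)
          (Ideal.Quotient.mkₐ_surjective _ _)
      haveI : Algebra.EssFiniteType (Q (spoly (fun _ : PUnit.{u + 1} => δ))) (SExt1 δ) :=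
        Algebra.EssFiniteType.of_isLocalization _
          (RingHom.ker (sψ (fun _ : PUnit.{u + 1} => δ))).primeCompl
      haveI : Algebra.EssFiniteType E.A (SExt1 δ) :=
        Algebra.EssFiniteType.comp E.A (Q (spoly (fun _ : PUnit.{u + 1} => δ))) (SExt1 δ)
      exact Algebra.EssFiniteType.comp R E.A (SExt1 δ)

theorem good_data_strict (hψ : IsSHensHom (algebraMap R S)) {E : LocRing.{u}} {φ : E.A →+* S}
    (hg : SGoodMap (algebraMap R S) E φ) :
    ∃ (E' : Type u) (_ : CommRing E') (_ : Algebra R E') (φ' : E' →ₐ[R] S),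
      Function.Injective φ' ∧ Algebra.FormallyUnramified R E' ∧ Algebra.EssFiniteType R E' ∧
        ∀ u ∈ φ.range, u ∈ Set.range φ' := by
  obtain ⟨ι, hι, hunr, hess⟩ := SGoodMap.exists_UE hg
  letI : Algebra R E.A := ι.toAlgebra
  refine ⟨E.A, inferInstance, ι.toAlgebra,
    { φ with commutes' := fun r => RingHom.congr_fun hι r }, ?_, hunr, hess, ?_⟩
  · exact (hg.isSHensHom hψ).injective
  · rintro _ ⟨e, rfl⟩
    exact ⟨e, rfl⟩

theorem flat_lmul'_of_isSHensHom (hψ : IsSHensHom (algebraMap R S)) :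
    (Algebra.TensorProduct.lmul' R (S := S)).Flat := by
  haveI := hψ.isLocalHom
  apply flat_lmul'_of_good (fun U => ∃ (E : LocRing.{u}) (φ : E.A →+* S),
    SGoodMap (algebraMap R S) E φ ∧ φ.range = U)
  · rintro U₁ U₂ ⟨E1, φ1, g1, rfl⟩ ⟨E2, φ2, g2, rfl⟩
    obtain ⟨E3, φ3, g3, l1, l2⟩ := g1.directed g2
    exact ⟨φ3.range, ⟨E3, φ3, g3, rfl⟩, l1, l2⟩
  · intro s
    obtain ⟨E, φ, hg, hs⟩ := exists_sgood hψ s
    exact ⟨φ.range, ⟨E, φ, hg, rfl⟩, hs⟩
  · rintro U ⟨E, φ, hg, rfl⟩
    exact good_data_strict hψ hg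

end Strict

section Hens

open Groth.Agent.Helper4.HensINC

variable {R S : Type u} [CommRing R] [IsLocalRing R] [CommRing S] [HenselianLocalRing S]
  [Algebra R S]

theorem GoodMap.exists_UE {E : LocRing.{u}} {φ : E.A →+* S}
    (hg : GoodMap (algebraMap R S) E φ) :
    ∃ ι : R →+* E.A, φ.comp ι = algebraMap R S ∧ ι.FormallyUnramified ∧ ι.EssFiniteType := by
  induction hg with
  | base =>
    exact ⟨RingHom.id R, RingHom.comp_id _,
      RingHom.FormallyUnramified.of_surjective Function.surjective_id,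
      (RingHom.FiniteType.id R).essFiniteType⟩
  | step E φ δ h ih =>
    obtain ⟨ι, hι, hunr, hess⟩ := ih
    refine ⟨(algebraMap E.A (Ext1 δ)).comp ι, ?_, ?_, ?_⟩
    · rw [← hι]
      ext r
      exact liftDNext_algebraMap _ φ (ι r)
    · exact hunr.comp (RingHom.formallyUnramified_algebraMap.mpr (formallyUnramified_DNext _))
    · letI := ι.toAlgebra
      letI := ((algebraMap E.A (Ext1 δ)).comp ι).toAlgebra
      haveI := IsScalarTower.of_algebraMap_eq (R := R) (S := E.A) (A := Ext1 δ) (fun _ => rfl)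
      haveI : Algebra.EssFiniteType R E.A := hess
      haveI : Algebra.FiniteType E.A (Q (dpoly (fun _ : PUnit.{u + 1} => δ))) :=
        Algebra.FiniteType.of_surjective (Ideal.Quotient.mkₐ E.A _)
          (Ideal.Quotient.mkₐ_surjective _ _)
      haveI : Algebra.EssFiniteType (Q (dpoly (fun _ : PUnit.{u + 1} => δ))) (Ext1 δ) :=
        Algebra.EssFiniteType.of_isLocalization _
          (RingHom.ker (dφ (fun _ : PUnit.{u + 1} => δ))).primeCompl
      haveI : Algebra.EssFiniteType E.A (Ext1 δ) :=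
        Algebra.EssFiniteType.comp E.A (Q (dpoly (fun _ : PUnit.{u + 1} => δ))) (Ext1 δ)
      exact Algebra.EssFiniteType.comp R E.A (Ext1 δ)

theorem good_data_hens [IsLocalHom (algebraMap R S)] (hψ : IsHensHom (algebraMap R S))
    {E : LocRing.{u}} {φ : E.A →+* S} (hg : GoodMap (algebraMap R S) E φ) :
    ∃ (E' : Type u) (_ : CommRing E') (_ : Algebra R E') (φ' : E' →ₐ[R] S),
      Function.Injective φ' ∧ Algebra.FormallyUnramified R E' ∧ Algebra.EssFiniteType R E' ∧
        ∀ u ∈ φ.range, u ∈ Set.range φ' := by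
  obtain ⟨ι, hι, hunr, hess⟩ := GoodMap.exists_UE hg
  letI : Algebra R E.A := ι.toAlgebra
  refine ⟨E.A, inferInstance, ι.toAlgebra,
    { φ with commutes' := fun r => RingHom.congr_fun hι r }, ?_, hunr, hess, ?_⟩
  · haveI := hg.isLocalHom
    exact (hg.isHensHom hψ).injective
  · rintro _ ⟨e, rfl⟩
    exact ⟨e, rfl⟩

theorem flat_lmul'_of_isHensHom [IsLocalHom (algebraMap R S)]
    (hψ : IsHensHom (algebraMap R S)) :
    (Algebra.TensorProduct.lmul' R (S := S)).Flat := by
  apply flat_lmul'_of_good (fun U => ∃ (E : LocRing.{u}) (φ : E.A →+* S),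
    GoodMap (algebraMap R S) E φ ∧ φ.range = U)
  · rintro U₁ U₂ ⟨E1, φ1, g1, rfl⟩ ⟨E2, φ2, g2, rfl⟩
    obtain ⟨E3, φ3, g3, l1, l2⟩ := g1.directed g2
    exact ⟨φ3.range, ⟨E3, φ3, g3, rfl⟩, l1, l2⟩
  · intro s
    obtain ⟨E, φ, hg, hs⟩ := exists_good hψ s
    exact ⟨φ.range, ⟨E, φ, hg, rfl⟩, hs⟩
  · rintro U ⟨E, φ, hg, rfl⟩
    exact good_data_hens hψ hg

end Hens

section Top

variable (R S : Type u) [CommRing R] [IsLocalRing R] [CommRing S] [IsLocalRing S] [Algebra R S]
  [IsLocalHom (algebraMap R S)]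

theorem weaklyEtale_of_isStrictHenselization [Hensel.IsStrictHenselization R S] :
    Algebra.WeaklyEtale R S := by
  haveI hS : HenselianLocalRing S := Hensel.IsStrictHenselization.henselian (R := R)
  exact ⟨(faithfullyFlat_of_isStrictHenselization R S).toFlat,
    flat_lmul'_of_isSHensHom (IsSHensHom.of_isStrictHenselization R S)⟩

theorem weaklyEtale_of_isHenselization [Hensel.IsHenselization R S] :
    Algebra.WeaklyEtale R S := by
  haveI hS : HenselianLocalRing S := Hensel.IsHenselization.henselian (R := R)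
  exact ⟨(faithfullyFlat_of_isHenselization R S).toFlat,
    flat_lmul'_of_isHensHom (IsHensHom.of_isHenselization R S)⟩

end Top

/-- S1235 -/
theorem tfae_flat_over_henselization {A : Type u} [CommRing A] (p : Ideal A) [p.IsPrime]
    (Ah Ash : Type u) [CommRing Ah] [IsLocalRing Ah] [CommRing Ash] [IsLocalRing Ash]
    [Algebra (Localization.AtPrime p) Ah] [IsLocalHom (algebraMap (Localization.AtPrime p) Ah)]
    [Hensel.IsHenselization (Localization.AtPrime p) Ah]
    [Algebra (Localization.AtPrime p) Ash] [IsLocalHom (algebraMap (Localization.AtPrime p) Ash)]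
    [Hensel.IsStrictHenselization (Localization.AtPrime p) Ash]
    [Algebra Ah Ash] [IsScalarTower (Localization.AtPrime p) Ah Ash]
    (Msh : Type u) [AddCommGroup Msh] [Module Ash Msh] [Module Ah Msh]
    [Module (Localization.AtPrime p) Msh]
    [IsScalarTower Ah Ash Msh] [IsScalarTower (Localization.AtPrime p) Ash Msh]
    [IsScalarTower (Localization.AtPrime p) Ah Msh]
    (Mh : Type u) [AddCommGroup Mh] [Module Ah Mh] [Module (Localization.AtPrime p) Mh]
    [IsScalarTower (Localization.AtPrime p) Ah Mh] :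
    [Module.Flat (Localization.AtPrime p) Msh, Module.Flat Ah Msh, Module.Flat Ash Msh].TFAE ∧
    (Module.Flat (Localization.AtPrime p) Mh ↔ Module.Flat Ah Mh) := by
  have wh : Algebra.WeaklyEtale (Localization.AtPrime p) Ah :=
    weaklyEtale_of_isHenselization _ _
  have wsh : Algebra.WeaklyEtale (Localization.AtPrime p) Ash :=
    weaklyEtale_of_isStrictHenselization _ _
  haveI : Module.Flat (Localization.AtPrime p) Ah := wh.flat
  haveI : Module.Flat (Localization.AtPrime p) Ash := wsh.flat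
  haveI : Module.Flat Ah Ash :=
    Groth.Agent.Helper3.DiagFlat.flat_of_flat_lmul' (Localization.AtPrime p) Ah Ash
      (Algebra.WeaklyEtale.flat_lmul' (Localization.AtPrime p) Ah)
  refine ⟨?_, ⟨fun h => ?_, fun h => ?_⟩⟩
  · tfae_have 1 → 3 := fun h =>
      Groth.Agent.Helper3.DiagFlat.flat_of_flat_lmul' (Localization.AtPrime p) Ash Msh
        (Algebra.WeaklyEtale.flat_lmul' (Localization.AtPrime p) Ash)
    tfae_have 3 → 2 := fun h => Module.Flat.trans Ah Ash Msh
    tfae_have 2 → 1 := fun h => Module.Flat.trans (Localization.AtPrime p) Ah Msh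
    tfae_finish
  · exact Groth.Agent.Helper3.DiagFlat.flat_of_flat_lmul' (Localization.AtPrime p) Ah Mh
      (Algebra.WeaklyEtale.flat_lmul' (Localization.AtPrime p) Ah)
  · exact Module.Flat.trans (Localization.AtPrime p) Ah Mh

end Groth.Agent.Helper1.WE
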