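import Mathlib.RingTheory.Henselian
import Mathlib.RingTheory.Jacobson.Ideal
import Mathlib.Dynamics.Newton
import Mathlib.Algebra.Polynomial.Lifts

set_option autoImplicit false

open Polynomial

namespace Groth.Agent.Helper1

variable {R : Type*} [CommRing R]

/-- elements of the Jacobson radical added to a unit give a unit -/
theorem isUnit_add_of_mem_jacobson {u j : R} (hu : IsUnit u) (hj : j ∈ Ideal.jacobson (⊥ : Ideal R)) :
    IsUnit (u + j) := by
  obtain ⟨v, rfl⟩ := hu
  have h1 : IsUnit (j * (↑v⁻¹ : R) + 1) := Ideal.mem_jacobson_bot.mp hj _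
  have h2 : (v : R) + j = (j * (↑v⁻¹ : R) + 1) * v := by
    rw [add_mul, mul_assoc, Units.inv_mul, mul_one, one_mul, add_comm]
  rw [h2]
  exact h1.mul v.isUnit

/-- a unit modulo an ideal in the Jacobson radical is a unit -/
theorem isUnit_of_isUnit_mk {I : Ideal R} (hI : I ≤ Ideal.jacobson ⊥) {x : R}
    (hx : IsUnit (Ideal.Quotient.mk I x)) : IsUnit x := by
  have := isLocalHom_of_le_jacobson_bot I hI
  exact isUnit_of_map_unit (Ideal.Quotient.mk I) x hx

/-- if `a` is a root of `f` close to the approximate root `a₀` then the distance is controlled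
by `f a₀` -/
theorem sub_mem_of_isRoot {I : Ideal R} (f : R[X]) {a a₀ : R} (ha : f.IsRoot a)
    (ha₀ : f.eval a₀ ∈ I) (hu : IsUnit (f.derivative.eval a₀))
    (hj : a - a₀ ∈ Ideal.jacobson (⊥ : Ideal R)) : a - a₀ ∈ I := by
  obtain ⟨k, hk⟩ := binomExpansion f a₀ (a - a₀)
  rw [add_sub_cancel, ha.eq_zero] at hk
  have hunit : IsUnit (f.derivative.eval a₀ + k * (a - a₀)) :=
    isUnit_add_of_mem_jacobson hu (Ideal.mul_mem_left _ _ hj)
  have h1 : (f.derivative.eval a₀ + k * (a - a₀)) * (a - a₀) = - f.eval a₀ := by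
    linear_combination -hk
  have h2 : (f.derivative.eval a₀ + k * (a - a₀)) * (a - a₀) ∈ I := by
    rw [h1]; exact I.neg_mem ha₀
  obtain ⟨v, hv⟩ := hunit
  have h3 : a - a₀ = (↑v⁻¹ : R) * ((f.derivative.eval a₀ + k * (a - a₀)) * (a - a₀)) := by
    rw [← hv, ← mul_assoc, Units.inv_mul, one_mul]
  rw [h3]
  exact I.mul_mem_left _ h2

/-- the derivative at a point congruent to a point with unit derivative is a unit -/
theorem isUnit_derivative_eval_of_sub_mem (f : R[X]) {a a₀ : R}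
    (hu : IsUnit (f.derivative.eval a₀))
    (hj : a - a₀ ∈ Ideal.jacobson (⊥ : Ideal R)) : IsUnit (f.derivative.eval a) := by
  obtain ⟨z, hz⟩ := evalSubFactor f.derivative a a₀
  have : f.derivative.eval a = f.derivative.eval a₀ + z * (a - a₀) := by
    rw [← hz]; ring
  rw [this]
  exact isUnit_add_of_mem_jacobson hu (Ideal.mul_mem_left _ _ hj)

/-- a convenient constructor for `HenselianRing` -/
theorem henselianRing_of {I : Ideal R} (hI : I ≤ Ideal.jacobson ⊥)
    (H : ∀ (f : R[X]), f.Monic → ∀ a₀ : R, f.eval a₀ ∈ I → IsUnit (f.derivative.eval a₀) →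
      ∃ a : R, f.IsRoot a ∧ a - a₀ ∈ I) : HenselianRing R I where
  jac := hI
  is_henselian f hf a₀ h₁ h₂ := H f hf a₀ h₁ (isUnit_of_isUnit_mk hI h₂)

/-- a convenient eliminator for `HenselianRing` -/
theorem exists_root_of_henselianRing {I : Ideal R} [h : HenselianRing R I]
    (f : R[X]) (hf : f.Monic) (a₀ : R) (h₁ : f.eval a₀ ∈ I) (h₂ : IsUnit (f.derivative.eval a₀)) :
    ∃ a : R, f.IsRoot a ∧ a - a₀ ∈ I :=
  h.is_henselian f hf a₀ h₁ (h₂.map _)

/-- nilpotent elements lie in the Jacobson radical -/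
theorem mem_jacobson_bot_of_isNilpotent {x : R} (hx : IsNilpotent x) :
    x ∈ Ideal.jacobson (⊥ : Ideal R) := by
  rw [Ideal.mem_jacobson_bot]
  intro y
  exact IsNilpotent.isUnit_add_one ((Commute.all x y).isNilpotent_mul_right hx)

/-- A ring is Henselian at any nil ideal. -/
theorem henselianRing_of_nil (I : Ideal R) (hI : ∀ x ∈ I, IsNilpotent x) : HenselianRing R I := by
  have hjac : I ≤ Ideal.jacobson ⊥ := fun x hx => mem_jacobson_bot_of_isNilpotent (hI x hx)
  refine henselianRing_of hjac ?_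
  intro f _ a₀ h₁ h₂
  have h1 : IsNilpotent (aeval a₀ f) := by
    rw [Polynomial.coe_aeval_eq_eval]; exact hI _ h₁
  have h2 : IsUnit (aeval a₀ (derivative f)) := by
    rw [Polynomial.coe_aeval_eq_eval]; exact h₂
  obtain ⟨r, ⟨hr1, hr2⟩, -⟩ := existsUnique_nilpotent_sub_and_aeval_eq_zero h1 h2
  have hroot : f.IsRoot r := by
    rw [IsRoot.def, ← Polynomial.coe_aeval_eq_eval]; exact hr2
  have hnil : IsNilpotent (r - a₀) := by
    rw [← neg_sub, isNilpotent_neg_iff]; exact hr1
  exact ⟨r, hroot, sub_mem_of_isRoot f hroot h₁ h₂ (mem_jacobson_bot_of_isNilpotent hnil)⟩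

/-- Henselian at a larger ideal implies Henselian at a smaller one. -/
theorem henselianRing_of_le {I J : Ideal R} (hIJ : I ≤ J) [hJ : HenselianRing R J] :
    HenselianRing R I := by
  have hjacJ : J ≤ Ideal.jacobson ⊥ := hJ.jac
  refine henselianRing_of (hIJ.trans hjacJ) ?_
  intro f hf a₀ h₁ h₂
  obtain ⟨a, ha, haJ⟩ := exists_root_of_henselianRing (I := J) f hf a₀ (hIJ h₁) h₂
  exact ⟨a, ha, sub_mem_of_isRoot f ha h₁ h₂ (hjacJ haJ)⟩

theorem radical_le_jacobson_bot {I : Ideal R} (hI : I ≤ Ideal.jacobson ⊥) :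
    I.radical ≤ Ideal.jacobson ⊥ := by
  calc I.radical ≤ I.jacobson := Ideal.radical_le_jacobson
    _ ≤ (Ideal.jacobson (⊥ : Ideal R)).jacobson := Ideal.jacobson_mono hI
    _ = Ideal.jacobson ⊥ := Ideal.jacobson_idem

/-- Henselian at an ideal implies Henselian at its radical. -/
theorem henselianRing_radical (I : Ideal R) [hI : HenselianRing R I] :
    HenselianRing R I.radical := by
  have hjacI : I ≤ Ideal.jacobson ⊥ := hI.jac
  have hjac : I.radical ≤ Ideal.jacobson ⊥ := radical_le_jacobson_bot hjacI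
  refine henselianRing_of hjac ?_
  intro f hf a₀ h₁ h₂
  have h1 : IsNilpotent (aeval (Ideal.Quotient.mk I a₀) f) := by
    rw [aeval_def, ← Ideal.Quotient.algebraMap_eq, eval₂_at_apply,
      Ideal.Quotient.algebraMap_eq]
    obtain ⟨n, hn⟩ := h₁
    refine ⟨n, ?_⟩
    rw [← map_pow, Ideal.Quotient.eq_zero_iff_mem]
    exact hn
  have h2 : IsUnit (aeval (Ideal.Quotient.mk I a₀) (derivative f)) := by
    rw [aeval_def, ← Ideal.Quotient.algebraMap_eq, eval₂_at_apply,
      Ideal.Quotient.algebraMap_eq]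
    exact h₂.map _
  obtain ⟨r, ⟨hr1, hr2⟩, -⟩ := existsUnique_nilpotent_sub_and_aeval_eq_zero h1 h2
  obtain ⟨a₁, rfl⟩ := Ideal.Quotient.mk_surjective r
  have hfa₁ : f.eval a₁ ∈ I := by
    rw [aeval_def, ← Ideal.Quotient.algebraMap_eq, eval₂_at_apply,
      Ideal.Quotient.algebraMap_eq, Ideal.Quotient.eq_zero_iff_mem] at hr2
    exact hr2
  have hrad : a₁ - a₀ ∈ I.radical := by
    rw [← map_sub] at hr1
    obtain ⟨n, hn⟩ := hr1
    rw [← map_pow, Ideal.Quotient.eq_zero_iff_mem] at hn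
    have : a₀ - a₁ ∈ I.radical := ⟨n, hn⟩
    rw [← neg_sub]
    exact neg_mem this
  have hunit : IsUnit (f.derivative.eval a₁) :=
    isUnit_derivative_eval_of_sub_mem f h₂ (hjac hrad)
  obtain ⟨a, ha, haI⟩ := exists_root_of_henselianRing (I := I) f hf a₁ hfa₁ hunit
  refine ⟨a, ha, ?_⟩
  have : a - a₀ = (a - a₁) + (a₁ - a₀) := by ring
  rw [this]
  exact Ideal.add_mem _ (Ideal.le_radical haI) hrad

/-- Henselian-ness only depends on the radical. -/
theorem henselianRing_iff_of_radical_eq {I J : Ideal R} (h : I.radical = J.radical) :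
    HenselianRing R I ↔ HenselianRing R J := by
  constructor
  · intro hI
    have h1 : HenselianRing R I.radical := henselianRing_radical I
    rw [h] at h1
    exact henselianRing_of_le (Ideal.le_radical)
  · intro hJ
    have h1 : HenselianRing R J.radical := henselianRing_radical J
    rw [← h] at h1
    exact henselianRing_of_le (Ideal.le_radical)

/-- Henselian at two ideals implies Henselian at their sum. -/
theorem henselianRing_sup (I J : Ideal R) [hI : HenselianRing R I] [hJ : HenselianRing R J] :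
    HenselianRing R (I ⊔ J) := by
  have hjacI : I ≤ Ideal.jacobson ⊥ := hI.jac
  have hjacJ : J ≤ Ideal.jacobson ⊥ := hJ.jac
  have hjac : I ⊔ J ≤ Ideal.jacobson ⊥ := sup_le hjacI hjacJ
  refine henselianRing_of hjac ?_
  intro f hf a₀ h₁ h₂
  by_cases hdeg : f.natDegree = 0
  · have hf1 : f = 1 := hf.natDegree_eq_zero.mp hdeg
    rw [hf1, eval_one] at h₁
    have h1jac : (1 : R) ∈ Ideal.jacobson (⊥ : Ideal R) := hjac h₁
    have h0 : IsUnit ((1 : R) * (-1) + 1) := Ideal.mem_jacobson_bot.mp h1jac (-1)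
    have : Subsingleton R := by
      rw [show (1 : R) * (-1) + 1 = 0 by ring] at h0
      exact isUnit_zero_iff.mp h0 |> subsingleton_of_zero_eq_one
    exact ⟨a₀, Subsingleton.elim _ _, by simp⟩
  · obtain ⟨i, hi, j, hj, hij⟩ := Submodule.mem_sup.mp h₁
    have hdegC : (C i).degree < f.degree := by
      refine lt_of_le_of_lt degree_C_le ?_
      rw [← natDegree_pos_iff_degree_pos]
      exact Nat.pos_of_ne_zero hdeg
    have hg : (f - C i).Monic := hf.sub_of_left hdegC
    have hgeval : (f - C i).eval a₀ ∈ J := by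
      rw [eval_sub, eval_C, ← hij]; simpa using hj
    have hgder : derivative (f - C i) = derivative f := by simp
    obtain ⟨b, hb, hbJ⟩ := exists_root_of_henselianRing (I := J) (f - C i) hg a₀ hgeval
      (by rw [hgder]; exact h₂)
    have hfb : f.eval b ∈ I := by
      rw [IsRoot.def, eval_sub, eval_C, sub_eq_zero] at hb
      rw [hb]; exact hi
    have hunit : IsUnit (f.derivative.eval b) :=
      isUnit_derivative_eval_of_sub_mem f h₂ (hjacJ hbJ)
    obtain ⟨a, ha, haI⟩ := exists_root_of_henselianRing (I := I) f hf b hfb hunit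
    refine ⟨a, ha, ?_⟩
    have : a - a₀ = (a - b) + (b - a₀) := by ring
    rw [this]
    exact Submodule.add_mem_sup haI hbJ

/-- Every ring has a largest ideal at which it is Henselian. -/
theorem exists_largest_henselian (R : Type*) [CommRing R] :
    ∃ I : Ideal R, HenselianRing R I ∧ ∀ J : Ideal R, HenselianRing R J → J ≤ I := by
  let S : Set (Ideal R) := {J | HenselianRing R J}
  have hbot : (⊥ : Ideal R) ∈ S := henselianRing_of_nil ⊥ (fun x hx => by
    rw [Ideal.mem_bot] at hx; rw [hx]; exact IsNilpotent.zero)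
  have hne : S.Nonempty := ⟨⊥, hbot⟩
  have hdir : DirectedOn (· ≤ ·) S := by
    intro I hI J hJ
    have hI' : HenselianRing R I := hI
    have hJ' : HenselianRing R J := hJ
    exact ⟨I ⊔ J, henselianRing_sup I J, le_sup_left, le_sup_right⟩
  have hmem : ∀ z : R, z ∈ sSup S ↔ ∃ y ∈ S, z ∈ y := fun z =>
    Submodule.mem_sSup_of_directed hne hdir
  have hjac : sSup S ≤ Ideal.jacobson ⊥ := sSup_le (fun J (hJ : HenselianRing R J) => hJ.jac)
  refine ⟨sSup S, henselianRing_of hjac ?_, fun J hJ => le_sSup hJ⟩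
  intro f hf a₀ h₁ h₂
  obtain ⟨J, hJ, hJmem⟩ := (hmem _).mp h₁
  have hJ' : HenselianRing R J := hJ
  obtain ⟨a, ha, haJ⟩ := exists_root_of_henselianRing (I := J) f hf a₀ hJmem h₂
  exact ⟨a, ha, (hmem _).mpr ⟨J, hJ, haJ⟩⟩

theorem eval_mk_map_mk (I : Ideal R) (f : R[X]) (a : R) :
    (f.map (Ideal.Quotient.mk I)).eval (Ideal.Quotient.mk I a) = Ideal.Quotient.mk I (f.eval a) := by
  rw [eval_map, eval₂_at_apply]

theorem mem_of_mk_mem_map {I J : Ideal R} (hIJ : I ≤ J) {x : R}
    (hx : Ideal.Quotient.mk I x ∈ J.map (Ideal.Quotient.mk I)) : x ∈ J := by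
  obtain ⟨y, hy, hyx⟩ := (Ideal.mem_map_iff_of_surjective _ Ideal.Quotient.mk_surjective).mp hx
  have h1 : y - x ∈ I := by
    rw [← Ideal.Quotient.eq_zero_iff_mem, map_sub, hyx, sub_self]
  have : x = y - (y - x) := by ring
  rw [this]
  exact J.sub_mem hy (hIJ h1)

/-- quotient of a Henselian pair -/
theorem henselianRing_quotient {I J : Ideal R} (hIJ : I ≤ J) [hJ : HenselianRing R J] :
    HenselianRing (R ⧸ I) (J.map (Ideal.Quotient.mk I)) := by
  have hjacJ : J ≤ Ideal.jacobson ⊥ := hJ.jac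
  have hjac : J.map (Ideal.Quotient.mk I) ≤ Ideal.jacobson ⊥ := by
    intro x hx
    obtain ⟨x, rfl⟩ := Ideal.Quotient.mk_surjective x
    have hxJ : x ∈ J := mem_of_mk_mem_map hIJ hx
    rw [Ideal.mem_jacobson_bot]
    intro y
    obtain ⟨y, rfl⟩ := Ideal.Quotient.mk_surjective y
    have := Ideal.mem_jacobson_bot.mp (hjacJ hxJ) y
    rw [← map_mul, ← map_one (Ideal.Quotient.mk I), ← map_add]
    exact this.map _
  refine henselianRing_of hjac ?_
  intro f hf a₀ h₁ h₂
  obtain ⟨g, rfl, -, hg⟩ := lifts_and_natDegree_eq_and_monic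
    ((mem_lifts f).mpr (map_surjective _ Ideal.Quotient.mk_surjective f)) hf
  obtain ⟨a₀, rfl⟩ := Ideal.Quotient.mk_surjective a₀
  rw [eval_mk_map_mk] at h₁
  rw [derivative_map, eval_mk_map_mk] at h₂
  have h₁' : g.eval a₀ ∈ J := mem_of_mk_mem_map hIJ h₁
  have h₂' : IsUnit (g.derivative.eval a₀) := isUnit_of_isUnit_mk (hIJ.trans hjacJ) h₂
  obtain ⟨a, ha, haJ⟩ := exists_root_of_henselianRing (I := J) g hg a₀ h₁' h₂'
  refine ⟨Ideal.Quotient.mk I a, ?_, ?_⟩
  · rw [IsRoot.def, eval_mk_map_mk, ha.eq_zero, map_zero]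
  · rw [← map_sub]
    exact Ideal.mem_map_of_mem _ haJ

/-- Henselian at `I` and the quotient by `I` Henselian at the image of `J` gives Henselian
at `J`. -/
theorem henselianRing_of_quotient {I J : Ideal R} (hIJ : I ≤ J) [hI : HenselianRing R I]
    [hQ : HenselianRing (R ⧸ I) (J.map (Ideal.Quotient.mk I))] : HenselianRing R J := by
  have hjacI : I ≤ Ideal.jacobson ⊥ := hI.jac
  have hjacQ : J.map (Ideal.Quotient.mk I) ≤ Ideal.jacobson ⊥ := hQ.jac
  have hjac : J ≤ Ideal.jacobson ⊥ := by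
    intro x hx
    rw [Ideal.mem_jacobson_bot]
    intro y
    have h1 : Ideal.Quotient.mk I x ∈ Ideal.jacobson (⊥ : Ideal (R ⧸ I)) :=
      hjacQ (Ideal.mem_map_of_mem _ hx)
    have h2 := Ideal.mem_jacobson_bot.mp h1 (Ideal.Quotient.mk I y)
    rw [← map_mul, ← map_one (Ideal.Quotient.mk I), ← map_add] at h2
    exact isUnit_of_isUnit_mk hjacI h2
  refine henselianRing_of hjac ?_
  intro f hf a₀ h₁ h₂
  have h₁' : (f.map (Ideal.Quotient.mk I)).eval (Ideal.Quotient.mk I a₀) ∈
      J.map (Ideal.Quotient.mk I) := by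
    rw [eval_mk_map_mk]; exact Ideal.mem_map_of_mem _ h₁
  have h₂' : IsUnit ((f.map (Ideal.Quotient.mk I)).derivative.eval (Ideal.Quotient.mk I a₀)) := by
    rw [derivative_map, eval_mk_map_mk]; exact h₂.map _
  obtain ⟨b, hb, hbJ⟩ := exists_root_of_henselianRing (I := J.map (Ideal.Quotient.mk I))
    (f.map (Ideal.Quotient.mk I)) (hf.map _) (Ideal.Quotient.mk I a₀) h₁' h₂'
  obtain ⟨b, rfl⟩ := Ideal.Quotient.mk_surjective b
  rw [← map_sub] at hbJ
  have hbJ' : b - a₀ ∈ J := mem_of_mk_mem_map hIJ hbJ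
  have hfb : f.eval b ∈ I := by
    rw [IsRoot.def, eval_mk_map_mk, Ideal.Quotient.eq_zero_iff_mem] at hb
    exact hb
  have hunit : IsUnit (f.derivative.eval b) :=
    isUnit_derivative_eval_of_sub_mem f h₂ (hjac hbJ')
  obtain ⟨a, ha, haI⟩ := exists_root_of_henselianRing (I := I) f hf b hfb hunit
  refine ⟨a, ha, ?_⟩
  have : a - a₀ = (a - b) + (b - a₀) := by ring
  rw [this]
  exact J.add_mem (hIJ haI) hbJ'

end Groth.Agent.Helper1
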