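import Mathlib
import Groth.Agent.Lib.Helper1.Hensel

/-!
# Henselization of a local ring via a term model: terms, evaluation, naturality
-/

set_option autoImplicit false

namespace Groth.Agent.Helper1.Hzn

universe u v w

open Polynomial IsLocalRing

section Prelim

variable {T : Type v} [CommRing T]

/-- monic polynomial with prescribed lower coefficients -/
noncomputable def mpoly (n : ℕ) (c : Fin n → T) : T[X] :=
  X ^ n + ∑ i : Fin n, C (c i) * X ^ (i : ℕ)

theorem mpoly_monic (n : ℕ) (c : Fin n → T) : (mpoly n c).Monic :=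
  monic_X_pow_add (degree_sum_fin_lt c)

theorem mpoly_map {T' : Type w} [CommRing T'] (φ : T →+* T') (n : ℕ) (c : Fin n → T) :
    (mpoly n c).map φ = mpoly n (fun i => φ (c i)) := by
  simp [mpoly, Polynomial.map_sum]

theorem exists_eq_mpoly {p : T[X]} (hp : p.Monic) :
    ∃ (n : ℕ) (c : Fin n → T), p = mpoly n c := by
  refine ⟨p.natDegree, fun i => p.coeff i, ?_⟩
  have h := hp.as_sum
  have h2 : ∑ i : Fin p.natDegree, C (p.coeff i) * X ^ (i : ℕ) =
      ∑ i ∈ Finset.range p.natDegree, C (p.coeff i) * X ^ i :=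
    Fin.sum_univ_eq_sum_range (fun i => C (p.coeff i) * X ^ i) p.natDegree
  show p = X ^ p.natDegree + ∑ i : Fin p.natDegree, C (p.coeff i) * X ^ (i : ℕ)
  rw [h2]
  exact h

theorem map_eval' {B : Type w} [CommRing B] (φ : T →+* B) (p : T[X]) (x : T) :
    φ (p.eval x) = (p.map φ).eval (φ x) := by
  rw [Polynomial.eval_map, Polynomial.eval₂_at_apply]

theorem map_derivative_eval' {B : Type w} [CommRing B] (φ : T →+* B) (p : T[X]) (x : T) :
    φ (p.derivative.eval x) = (p.map φ).derivative.eval (φ x) := by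
  rw [Polynomial.derivative_map, ← map_eval']

theorem map_inverse {B : Type w} [CommRing B] (φ : T →+* B) {x : T} (hx : IsUnit x) :
    Ring.inverse (φ x) = φ (Ring.inverse x) := by
  obtain ⟨u, rfl⟩ := hx
  have h : φ (u : T) = ((Units.map (φ : T →* B) u : Bˣ) : B) := rfl
  rw [h, Ring.inverse_unit, Ring.inverse_unit]
  exact Units.coe_map_inv _ _

variable [IsLocalRing T]

theorem isUnit_add_of_mem {u x : T} (hu : IsUnit u) (hx : x ∈ maximalIdeal T) :
    IsUnit (u + x) := by
  by_contra h
  have h1 : u + x ∈ maximalIdeal T := (mem_maximalIdeal _).mpr h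
  have h2 : u ∈ maximalIdeal T := by
    have := (maximalIdeal T).sub_mem h1 hx
    simpa using this
  exact (mem_maximalIdeal _).mp h2 hu

theorem jacobson_bot_eq : Ideal.jacobson (⊥ : Ideal T) = maximalIdeal T :=
  jacobson_eq_maximalIdeal ⊥ bot_ne_top

/-- uniqueness of Hensel roots in a local ring -/
theorem root_unique {p : T[X]} {a₀ a b : T} (h2 : IsUnit (p.derivative.eval a₀))
    (ha : p.IsRoot a) (ha' : a - a₀ ∈ maximalIdeal T)
    (hb : p.IsRoot b) (hb' : b - a₀ ∈ maximalIdeal T) : a = b := by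
  have hda : IsUnit (p.derivative.eval a) :=
    isUnit_derivative_eval_of_sub_mem p h2 (by rw [jacobson_bot_eq]; exact ha')
  have hba : b - a ∈ maximalIdeal T := by
    have : b - a = (b - a₀) - (a - a₀) := by ring
    rw [this]; exact Ideal.sub_mem _ hb' ha'
  have h0 : b - a ∈ (⊥ : Ideal T) :=
    sub_mem_of_isRoot p hb (by rw [ha.eq_zero]; exact Ideal.zero_mem _) hda
      (by rw [jacobson_bot_eq]; exact hba)
  exact (sub_eq_zero.mp ((Ideal.mem_bot).mp h0)).symm

open Classical in
/-- the chosen Hensel root (junk value `0` if there is none) -/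
noncomputable def hroot (p : T[X]) (a₀ : T) : T :=
  if h : ∃ a, p.IsRoot a ∧ a - a₀ ∈ maximalIdeal T then h.choose else 0

theorem hroot_unique {p : T[X]} {a₀ a : T} (h2 : IsUnit (p.derivative.eval a₀))
    (ha : p.IsRoot a) (ha' : a - a₀ ∈ maximalIdeal T) : hroot p a₀ = a := by
  have h : ∃ a, p.IsRoot a ∧ a - a₀ ∈ maximalIdeal T := ⟨a, ha, ha'⟩
  unfold hroot
  rw [dif_pos h]
  exact root_unique h2 h.choose_spec.1 h.choose_spec.2 ha ha'

end Prelim

theorem hroot_spec {T : Type v} [CommRing T] [HenselianLocalRing T] {p : T[X]} {a₀ : T}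
    (hp : p.Monic) (h1 : p.eval a₀ ∈ maximalIdeal T) (h2 : IsUnit (p.derivative.eval a₀)) :
    p.IsRoot (hroot p a₀) ∧ hroot p a₀ - a₀ ∈ maximalIdeal T := by
  have h := HenselianLocalRing.is_henselian p hp a₀ h1 h2
  unfold hroot
  rw [dif_pos h]
  exact h.choose_spec

/-- terms for elements of the henselization -/
inductive HTerm (R : Type u) : Type u
  | of : R → HTerm R
  | add : HTerm R → HTerm R → HTerm R
  | mul : HTerm R → HTerm R → HTerm R
  | neg : HTerm R → HTerm R
  | inv : HTerm R → HTerm R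
  | root : (n : ℕ) → (Fin n → HTerm R) → HTerm R → HTerm R

section Eval

variable {R : Type u} [CommRing R] {T : Type v} [CommRing T] [IsLocalRing T]

/-- total evaluation of terms in a local ring -/
noncomputable def eval (f : R →+* T) : HTerm R → T
  | .of r => f r
  | .add s t => eval f s + eval f t
  | .mul s t => eval f s * eval f t
  | .neg s => - eval f s
  | .inv s => Ring.inverse (eval f s)
  | .root n c a => hroot (mpoly n (fun i => eval f (c i))) (eval f a)

/-- well-formedness of a term relative to `f` -/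
def WF (f : R →+* T) : HTerm R → Prop
  | .of _ => True
  | .add s t => WF f s ∧ WF f t
  | .mul s t => WF f s ∧ WF f t
  | .neg s => WF f s
  | .inv s => WF f s ∧ IsUnit (eval f s)
  | .root n c a => (∀ i, WF f (c i)) ∧ WF f a ∧
      (mpoly n (fun i => eval f (c i))).eval (eval f a) ∈ maximalIdeal T ∧
      IsUnit ((mpoly n (fun i => eval f (c i))).derivative.eval (eval f a))

variable (f : R →+* T)

@[simp] theorem eval_of (r : R) : eval f (.of r) = f r := rfl
@[simp] theorem eval_add (s t : HTerm R) : eval f (.add s t) = eval f s + eval f t := rfl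
@[simp] theorem eval_mul (s t : HTerm R) : eval f (.mul s t) = eval f s * eval f t := rfl
@[simp] theorem eval_neg (s : HTerm R) : eval f (.neg s) = - eval f s := rfl
@[simp] theorem eval_inv (s : HTerm R) : eval f (.inv s) = Ring.inverse (eval f s) := rfl
theorem eval_root (n : ℕ) (c : Fin n → HTerm R) (a : HTerm R) :
    eval f (.root n c a) = hroot (mpoly n (fun i => eval f (c i))) (eval f a) := rfl

theorem WF_of (r : R) : WF f (.of r) := trivial
theorem WF_add {s t : HTerm R} : WF f (.add s t) ↔ WF f s ∧ WF f t := Iff.rfl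
theorem WF_mul {s t : HTerm R} : WF f (.mul s t) ↔ WF f s ∧ WF f t := Iff.rfl
theorem WF_neg {s : HTerm R} : WF f (.neg s) ↔ WF f s := Iff.rfl
theorem WF_inv {s : HTerm R} : WF f (.inv s) ↔ WF f s ∧ IsUnit (eval f s) := Iff.rfl
theorem WF_root {n : ℕ} {c : Fin n → HTerm R} {a : HTerm R} :
    WF f (.root n c a) ↔ (∀ i, WF f (c i)) ∧ WF f a ∧
      (mpoly n (fun i => eval f (c i))).eval (eval f a) ∈ maximalIdeal T ∧
      IsUnit ((mpoly n (fun i => eval f (c i))).derivative.eval (eval f a)) := Iff.rfl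

end Eval

/-- naturality of evaluation along local homomorphisms out of a henselian local ring -/
theorem eval_comp {R : Type u} [CommRing R] {T : Type v} [CommRing T] [HenselianLocalRing T]
    {T' : Type w} [CommRing T'] [IsLocalRing T'] (f : R →+* T) (φ : T →+* T') [IsLocalHom φ]
    (t : HTerm R) : WF f t → WF (φ.comp f) t ∧ eval (φ.comp f) t = φ (eval f t) := by
  induction t with
  | of r => intro _; exact ⟨trivial, rfl⟩
  | add s t ihs iht =>
    intro h
    obtain ⟨hs, es⟩ := ihs ((WF_add f).mp h).1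
    obtain ⟨ht, et⟩ := iht ((WF_add f).mp h).2
    exact ⟨(WF_add _).mpr ⟨hs, ht⟩, by rw [eval_add, eval_add, es, et, map_add]⟩
  | mul s t ihs iht =>
    intro h
    obtain ⟨hs, es⟩ := ihs ((WF_mul f).mp h).1
    obtain ⟨ht, et⟩ := iht ((WF_mul f).mp h).2
    exact ⟨(WF_mul _).mpr ⟨hs, ht⟩, by rw [eval_mul, eval_mul, es, et, map_mul]⟩
  | neg s ih =>
    intro h
    obtain ⟨hs, es⟩ := ih ((WF_neg f).mp h)
    exact ⟨(WF_neg _).mpr hs, by rw [eval_neg, eval_neg, es, map_neg]⟩
  | inv s ih =>
    intro h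
    obtain ⟨h1, h2⟩ := (WF_inv f).mp h
    obtain ⟨hs, es⟩ := ih h1
    refine ⟨(WF_inv _).mpr ⟨hs, ?_⟩, ?_⟩
    · rw [es]; exact h2.map φ
    · rw [eval_inv, eval_inv, es]; exact map_inverse φ h2
  | root n c a ihc iha =>
    intro h
    obtain ⟨hc, ha, h1, h2⟩ := (WF_root f).mp h
    have ec : (fun i => eval (φ.comp f) (c i)) = fun i => φ (eval f (c i)) :=
      funext fun i => (ihc i (hc i)).2
    obtain ⟨ha', ea⟩ := iha ha
    have hp : mpoly n (fun i => eval (φ.comp f) (c i)) =
        (mpoly n (fun i => eval f (c i))).map φ := by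
      rw [mpoly_map, ec]
    obtain ⟨hr1, hr2⟩ := hroot_spec (mpoly_monic _ _) h1 h2
    have h1' : ((mpoly n (fun i => eval f (c i))).map φ).eval (φ (eval f a)) ∈
        maximalIdeal T' := by
      rw [← map_eval']; exact map_nonunit φ _ h1
    have h2' : IsUnit (((mpoly n (fun i => eval f (c i))).map φ).derivative.eval
        (φ (eval f a))) := by
      rw [← map_derivative_eval']; exact h2.map φ
    refine ⟨(WF_root _).mpr ⟨fun i => (ihc i (hc i)).1, ha', ?_, ?_⟩, ?_⟩
    · rw [hp, ea]; exact h1'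
    · rw [hp, ea]; exact h2'
    · rw [eval_root, eval_root, hp, ea]
      refine hroot_unique h2' ?_ ?_
      · rw [IsRoot.def, ← map_eval', hr1.eq_zero, map_zero]
      · rw [← map_sub]; exact map_nonunit φ _ hr2

end Groth.Agent.Helper1.Hzn
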