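import Mathlib
import Groth.Agent.Lib.Helper1.HznTerm

/-!
# Strict henselization of a local ring via a term model: terms, evaluation, naturality
-/

set_option autoImplicit false

namespace Groth.Agent.Helper1.SHzn

universe u v w

open Polynomial IsLocalRing Groth.Agent.Helper1.Hzn

section Prelim

variable {T : Type v} [CommRing T] [IsLocalRing T]

theorem eval_map_residue (p : T[X]) (a : T) :
    (p.map (residue T)).eval (residue T a) = residue T (p.eval a) := (map_eval' _ _ _).symm

theorem derivative_eval_map_residue (p : T[X]) (a : T) :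
    (p.map (residue T)).derivative.eval (residue T a) = residue T (p.derivative.eval a) :=
  (map_derivative_eval' _ _ _).symm

open Classical in
/-- the chosen root with prescribed residue (junk value `0` if there is none) -/
noncomputable def sroot (p : T[X]) (β : ResidueField T) : T :=
  if h : ∃ a, p.IsRoot a ∧ residue T a = β then h.choose else 0

theorem sroot_unique {p : T[X]} {β : ResidueField T} {a : T}
    (h2 : (p.map (residue T)).derivative.eval β ≠ 0) (ha : p.IsRoot a)
    (ha' : residue T a = β) : sroot p β = a := by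
  have h : ∃ a, p.IsRoot a ∧ residue T a = β := ⟨a, ha, ha'⟩
  unfold sroot
  rw [dif_pos h]
  obtain ⟨hb, hb'⟩ := h.choose_spec
  have hu : IsUnit (p.derivative.eval a) := by
    rw [← residue_ne_zero_iff_isUnit, ← derivative_eval_map_residue, ha']; exact h2
  refine root_unique (a₀ := a) hu hb ?_ ha ?_
  · rw [← residue_eq_zero_iff, map_sub, hb', ha', sub_self]
  · rw [sub_self]; exact Ideal.zero_mem _

end Prelim

theorem sroot_spec {T : Type v} [CommRing T] [HenselianLocalRing T] {p : T[X]}
    {β : ResidueField T} (hp : p.Monic) (h1 : (p.map (residue T)).eval β = 0)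
    (h2 : (p.map (residue T)).derivative.eval β ≠ 0) :
    p.IsRoot (sroot p β) ∧ residue T (sroot p β) = β := by
  obtain ⟨a₀, rfl⟩ := residue_surjective β
  rw [eval_map_residue, residue_eq_zero_iff] at h1
  rw [derivative_eval_map_residue, residue_ne_zero_iff_isUnit] at h2
  obtain ⟨a, ha, ha'⟩ := HenselianLocalRing.is_henselian p hp a₀ h1 h2
  have h : ∃ a, p.IsRoot a ∧ residue T a = residue T a₀ :=
    ⟨a, ha, by rw [← sub_eq_zero, ← map_sub, residue_eq_zero_iff]; exact ha'⟩
  unfold sroot
  rw [dif_pos h]
  exact h.choose_spec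

/-- terms for elements of the strict henselization -/
inductive STerm (R : Type u) [CommRing R] [IsLocalRing R] : Type u
  | of : R → STerm R
  | add : STerm R → STerm R → STerm R
  | mul : STerm R → STerm R → STerm R
  | neg : STerm R → STerm R
  | inv : STerm R → STerm R
  | root : (n : ℕ) → (Fin n → STerm R) → SeparableClosure (ResidueField R) → STerm R

section Eval

variable {R : Type u} [CommRing R] [IsLocalRing R] {T : Type v} [CommRing T] [IsLocalRing T]

/-- total evaluation of terms in a local ring -/
noncomputable def eval (f : R →+* T) (τ : SeparableClosure (ResidueField R) →+* ResidueField T) :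
    STerm R → T
  | .of r => f r
  | .add s t => eval f τ s + eval f τ t
  | .mul s t => eval f τ s * eval f τ t
  | .neg s => - eval f τ s
  | .inv s => Ring.inverse (eval f τ s)
  | .root n c α => sroot (mpoly n (fun i => eval f τ (c i))) (τ α)

/-- well-formedness of a term relative to `(f, τ)` -/
def WF (f : R →+* T) (τ : SeparableClosure (ResidueField R) →+* ResidueField T) :
    STerm R → Prop
  | .of _ => True
  | .add s t => WF f τ s ∧ WF f τ t
  | .mul s t => WF f τ s ∧ WF f τ t
  | .neg s => WF f τ s
  | .inv s => WF f τ s ∧ IsUnit (eval f τ s)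
  | .root n c α => (∀ i, WF f τ (c i)) ∧
      ((mpoly n (fun i => eval f τ (c i))).map (residue T)).eval (τ α) = 0 ∧
      ((mpoly n (fun i => eval f τ (c i))).map (residue T)).derivative.eval (τ α) ≠ 0

variable (f : R →+* T) (τ : SeparableClosure (ResidueField R) →+* ResidueField T)

@[simp] theorem eval_of (r : R) : eval f τ (.of r) = f r := rfl
@[simp] theorem eval_add (s t : STerm R) : eval f τ (.add s t) = eval f τ s + eval f τ t := rfl
@[simp] theorem eval_mul (s t : STerm R) : eval f τ (.mul s t) = eval f τ s * eval f τ t := rfl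
@[simp] theorem eval_neg (s : STerm R) : eval f τ (.neg s) = - eval f τ s := rfl
@[simp] theorem eval_inv (s : STerm R) : eval f τ (.inv s) = Ring.inverse (eval f τ s) := rfl
theorem eval_root (n : ℕ) (c : Fin n → STerm R) (α : SeparableClosure (ResidueField R)) :
    eval f τ (.root n c α) = sroot (mpoly n (fun i => eval f τ (c i))) (τ α) := rfl

theorem WF_add {s t : STerm R} : WF f τ (.add s t) ↔ WF f τ s ∧ WF f τ t := Iff.rfl
theorem WF_mul {s t : STerm R} : WF f τ (.mul s t) ↔ WF f τ s ∧ WF f τ t := Iff.rfl
theorem WF_neg {s : STerm R} : WF f τ (.neg s) ↔ WF f τ s := Iff.rfl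
theorem WF_inv {s : STerm R} : WF f τ (.inv s) ↔ WF f τ s ∧ IsUnit (eval f τ s) := Iff.rfl
theorem WF_root {n : ℕ} {c : Fin n → STerm R} {α : SeparableClosure (ResidueField R)} :
    WF f τ (.root n c α) ↔ (∀ i, WF f τ (c i)) ∧
      ((mpoly n (fun i => eval f τ (c i))).map (residue T)).eval (τ α) = 0 ∧
      ((mpoly n (fun i => eval f τ (c i))).map (residue T)).derivative.eval (τ α) ≠ 0 := Iff.rfl

end Eval

/-- naturality of evaluation along local homomorphisms out of a henselian local ring -/
theorem eval_comp {R : Type u} [CommRing R] [IsLocalRing R] {T : Type v} [CommRing T]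
    [HenselianLocalRing T] {T' : Type w} [CommRing T'] [IsLocalRing T'] (f : R →+* T)
    (τ : SeparableClosure (ResidueField R) →+* ResidueField T) (φ : T →+* T') [IsLocalHom φ]
    (t : STerm R) : WF f τ t → WF (φ.comp f) ((ResidueField.map φ).comp τ) t ∧
      eval (φ.comp f) ((ResidueField.map φ).comp τ) t = φ (eval f τ t) := by
  induction t with
  | of r => intro _; exact ⟨trivial, rfl⟩
  | add s t ihs iht =>
    intro h
    obtain ⟨hs, es⟩ := ihs ((WF_add f τ).mp h).1
    obtain ⟨ht, et⟩ := iht ((WF_add f τ).mp h).2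
    exact ⟨(WF_add _ _).mpr ⟨hs, ht⟩, by rw [eval_add, eval_add, es, et, map_add]⟩
  | mul s t ihs iht =>
    intro h
    obtain ⟨hs, es⟩ := ihs ((WF_mul f τ).mp h).1
    obtain ⟨ht, et⟩ := iht ((WF_mul f τ).mp h).2
    exact ⟨(WF_mul _ _).mpr ⟨hs, ht⟩, by rw [eval_mul, eval_mul, es, et, map_mul]⟩
  | neg s ih =>
    intro h
    obtain ⟨hs, es⟩ := ih ((WF_neg f τ).mp h)
    exact ⟨(WF_neg _ _).mpr hs, by rw [eval_neg, eval_neg, es, map_neg]⟩
  | inv s ih =>
    intro h
    obtain ⟨h1, h2⟩ := (WF_inv f τ).mp h
    obtain ⟨hs, es⟩ := ih h1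
    refine ⟨(WF_inv _ _).mpr ⟨hs, ?_⟩, ?_⟩
    · rw [es]; exact h2.map φ
    · rw [eval_inv, eval_inv, es]; exact map_inverse φ h2
  | root n c α ihc =>
    intro h
    obtain ⟨hc, h1, h2⟩ := (WF_root f τ).mp h
    have ec : (fun i => eval (φ.comp f) ((ResidueField.map φ).comp τ) (c i)) =
        fun i => φ (eval f τ (c i)) := funext fun i => (ihc i (hc i)).2
    have hp : mpoly n (fun i => eval (φ.comp f) ((ResidueField.map φ).comp τ) (c i)) =
        (mpoly n (fun i => eval f τ (c i))).map φ := by
      rw [mpoly_map, ec]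
    have hmm : ((mpoly n (fun i => eval f τ (c i))).map φ).map (residue T') =
        ((mpoly n (fun i => eval f τ (c i))).map (residue T)).map (ResidueField.map φ) := by
      rw [Polynomial.map_map, Polynomial.map_map, ResidueField.map_comp_residue]
    obtain ⟨hr1, hr2⟩ := sroot_spec (mpoly_monic _ _) h1 h2
    have h1' : (((mpoly n (fun i => eval f τ (c i))).map φ).map (residue T')).eval
        (ResidueField.map φ (τ α)) = 0 := by
      rw [hmm, ← map_eval', h1, map_zero]
    have h2' : (((mpoly n (fun i => eval f τ (c i))).map φ).map (residue T')).derivative.eval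
        (ResidueField.map φ (τ α)) ≠ 0 := by
      rw [hmm, ← map_derivative_eval']; exact (_root_.map_ne_zero _).mpr h2
    refine ⟨(WF_root _ _).mpr ⟨fun i => (ihc i (hc i)).1, ?_, ?_⟩, ?_⟩
    · rw [hp]; exact h1'
    · rw [hp]; exact h2'
    · rw [eval_root, eval_root, hp]
      refine sroot_unique h2' ?_ ?_
      · rw [IsRoot.def, ← map_eval', hr1.eq_zero, map_zero]
      · rw [← ResidueField.map_residue, hr2]
        rfl

end Groth.Agent.Helper1.SHzn
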