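import Mathlib
import Groth.Agent.Lib.Helper1.SHznTerm

/-!
# Strict henselization of a local ring via a term model: the ring
-/

set_option autoImplicit false

namespace Groth.Agent.Helper1.SHzn

universe u

open Polynomial IsLocalRing Groth.Agent.Helper1.Hzn

variable (R : Type u) [CommRing R] [IsLocalRing R]

/-- the separable closure of the residue field -/
abbrev KK : Type u := SeparableClosure (ResidueField R)

/-- index: local homomorphisms from `R` to henselian local rings in the same universe, together
with a compatible embedding of the separable closure of the residue field -/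
structure SIdx where
  T : Type u
  [cr : CommRing T]
  [hl : HenselianLocalRing T]
  f : R →+* T
  [hf : IsLocalHom f]
  τ : KK R →+* ResidueField T
  hτ : τ.comp (algebraMap (ResidueField R) (KK R)) = ResidueField.map f

attribute [instance] SIdx.cr SIdx.hl SIdx.hf

/-- globally well-formed terms -/
def GWF (t : STerm R) : Prop := ∀ i : SIdx R, WF i.f i.τ t

/-- the big product -/
abbrev BigP : Type (u + 1) := ∀ i : SIdx R, i.T

/-- evaluation in the big product -/
noncomputable def ev (t : STerm R) : BigP R := fun i => eval i.f i.τ t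

/-- the subring of values of globally well-formed terms -/
noncomputable def S' : Subring (BigP R) where
  carrier := {x | ∃ t, GWF R t ∧ ev R t = x}
  mul_mem' := by
    rintro _ _ ⟨s, hs, rfl⟩ ⟨t, ht, rfl⟩
    exact ⟨.mul s t, fun i => And.intro (hs i) (ht i), rfl⟩
  one_mem' := ⟨.of 1, fun _ => trivial, funext fun i => map_one i.f⟩
  add_mem' := by
    rintro _ _ ⟨s, hs, rfl⟩ ⟨t, ht, rfl⟩
    exact ⟨.add s t, fun i => And.intro (hs i) (ht i), rfl⟩
  zero_mem' := ⟨.of 0, fun _ => trivial, funext fun i => map_zero i.f⟩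
  neg_mem' := by
    rintro _ ⟨s, hs, rfl⟩
    exact ⟨.neg s, fun i => hs i, rfl⟩

instance : Small.{u} (S' R) := by
  refine small_of_surjective (α := {t : STerm R // GWF R t})
    (f := fun t => ⟨ev R t.1, t.1, t.2, rfl⟩) ?_
  rintro ⟨x, t, ht, rfl⟩
  exact ⟨⟨t, ht⟩, rfl⟩

/-- the strict henselization (term model) -/
def S : Type u := Shrink.{u} (S' R)

noncomputable instance : CommRing (S R) := inferInstanceAs (CommRing (Shrink.{u} (S' R)))

/-- the equivalence with the big subring -/
noncomputable def toS' : S R ≃+* S' R := Shrink.ringEquiv (S' R)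

/-- the class of a term -/
noncomputable def mk (t : STerm R) (ht : GWF R t) : S R :=
  (toS' R).symm ⟨ev R t, t, ht, rfl⟩

theorem exists_mk (x : S R) : ∃ t, ∃ ht : GWF R t, mk R t ht = x := by
  obtain ⟨t, ht, h⟩ := (toS' R x).2
  refine ⟨t, ht, ?_⟩
  apply (toS' R).injective
  rw [mk, RingEquiv.apply_symm_apply]
  exact Subtype.ext h

/-- projection to a henselian local ring under `R` -/
noncomputable def proj (i : SIdx R) : S R →+* i.T :=
  ((Pi.evalRingHom (fun i : SIdx R => i.T) i).comp (S' R).subtype).comp (toS' R).toRingHom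

theorem proj_mk (i : SIdx R) (t : STerm R) (ht : GWF R t) :
    proj R i (mk R t ht) = eval i.f i.τ t := by
  show ((toS' R) ((toS' R).symm ⟨ev R t, t, ht, rfl⟩)).1 i = _
  rw [RingEquiv.apply_symm_apply]
  rfl

theorem ext_proj {x y : S R} (h : ∀ i, proj R i x = proj R i y) : x = y := by
  apply (toS' R).injective
  apply Subtype.ext
  funext i
  exact h i

/-- the structure map -/
noncomputable def ofHom : R →+* S R :=
  (toS' R).symm.toRingHom.comp ((RingHom.pi (fun i : SIdx R => i.f)).codRestrict (S' R)
    (fun r => ⟨.of r, fun _ => trivial, rfl⟩))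

theorem proj_ofHom (i : SIdx R) (r : R) : proj R i (ofHom R r) = i.f r := by
  show ((toS' R) ((toS' R).symm _)).1 i = _
  rw [RingEquiv.apply_symm_apply]
  rfl

theorem ofHom_eq_mk (r : R) : ofHom R r = mk R (.of r) (fun _ => trivial) := by
  apply ext_proj
  intro i
  rw [proj_ofHom, proj_mk]
  rfl

theorem GWF.add_left {s t : STerm R} (h : GWF R (.add s t)) : GWF R s :=
  fun i => ((WF_add _ _).mp (h i)).1
theorem GWF.add_right {s t : STerm R} (h : GWF R (.add s t)) : GWF R t :=
  fun i => ((WF_add _ _).mp (h i)).2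
theorem GWF.mul_left {s t : STerm R} (h : GWF R (.mul s t)) : GWF R s :=
  fun i => ((WF_mul _ _).mp (h i)).1
theorem GWF.mul_right {s t : STerm R} (h : GWF R (.mul s t)) : GWF R t :=
  fun i => ((WF_mul _ _).mp (h i)).2
theorem GWF.of_neg {s : STerm R} (h : GWF R (.neg s)) : GWF R s :=
  fun i => (WF_neg _ _).mp (h i)
theorem GWF.of_inv {s : STerm R} (h : GWF R (.inv s)) : GWF R s :=
  fun i => ((WF_inv _ _).mp (h i)).1
theorem GWF.root_coeff {n : ℕ} {c : Fin n → STerm R} {α : KK R} (h : GWF R (.root n c α))
    (j : Fin n) : GWF R (c j) :=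
  fun i => ((WF_root _ _).mp (h i)).1 j

theorem mk_add {s t : STerm R} (h : GWF R (.add s t)) :
    mk R (.add s t) h = mk R s h.add_left + mk R t h.add_right := by
  apply ext_proj; intro i
  rw [map_add, proj_mk, proj_mk, proj_mk]; rfl

theorem mk_mul {s t : STerm R} (h : GWF R (.mul s t)) :
    mk R (.mul s t) h = mk R s h.mul_left * mk R t h.mul_right := by
  apply ext_proj; intro i
  rw [map_mul, proj_mk, proj_mk, proj_mk]; rfl

theorem mk_neg {s : STerm R} (h : GWF R (.neg s)) :
    mk R (.neg s) h = - mk R s h.of_neg := by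
  apply ext_proj; intro i
  rw [map_neg, proj_mk, proj_mk]; rfl

theorem mk_inv_mul {s : STerm R} (h : GWF R (.inv s)) :
    mk R (.inv s) h * mk R s h.of_inv = 1 := by
  apply ext_proj; intro i
  rw [map_mul, proj_mk, proj_mk, map_one, eval_inv]
  exact Ring.inverse_mul_cancel _ ((WF_inv _ _).mp (h i)).2

/-- the base map to the separable closure of the residue field -/
noncomputable def f₀ : R →+* KK R := (algebraMap (ResidueField R) (KK R)).comp (residue R)

instance : IsLocalHom (f₀ R) := by unfold f₀; infer_instance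

theorem hτ₀ : (residue (KK R)).comp (algebraMap (ResidueField R) (KK R)) =
    ResidueField.map (f₀ R) := by
  refine RingHom.ext fun x => ?_
  obtain ⟨r, rfl⟩ := residue_surjective x
  rw [ResidueField.map_residue]
  rfl

/-- the index of the separable closure of the residue field -/
noncomputable def i₀ : SIdx R where
  T := KK R
  f := f₀ R
  τ := residue (KK R)
  hτ := hτ₀ R

/-- the map to the separable closure of the residue field of `R` -/
noncomputable def ρ : S R →+* KK R := proj R (i₀ R)

theorem ρ_mk (t : STerm R) (ht : GWF R t) :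
    ρ R (mk R t ht) = eval (f₀ R) (residue (KK R)) t :=
  proj_mk R (i₀ R) t ht

theorem ρ_ofHom (r : R) : ρ R (ofHom R r) = f₀ R r := proj_ofHom R (i₀ R) r

/-- residues of evaluations are determined by the evaluation in the separable closure -/
theorem residue_eval (i : SIdx R) (t : STerm R) (ht : GWF R t) :
    residue i.T (eval i.f i.τ t) = i.τ (eval (f₀ R) (residue (KK R)) t) := by
  have h1 := (eval_comp i.f i.τ (residue i.T) t (ht i)).2
  have h2 := (eval_comp (f₀ R) (residue (KK R)) i.τ t (ht (i₀ R))).2
  have e1 : (residue i.T).comp i.f = i.τ.comp (f₀ R) := by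
    unfold f₀
    rw [← RingHom.comp_assoc, i.hτ, ResidueField.map_comp_residue]
  have e2 : (ResidueField.map (residue i.T)).comp i.τ =
      (ResidueField.map i.τ).comp (residue (KK R)) := by
    rw [ResidueField.map_comp_residue]
    congr 1
    refine RingHom.ext fun x => ?_
    obtain ⟨y, rfl⟩ := residue_surjective x
    rw [ResidueField.map_residue]
  rw [← h1, ← h2, e1, e2]

theorem residue_proj (i : SIdx R) (x : S R) : residue i.T (proj R i x) = i.τ (ρ R x) := by
  obtain ⟨t, ht, rfl⟩ := exists_mk R x
  rw [proj_mk, ρ_mk, residue_eval R i t ht]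

theorem isUnit_eval_of_ne_zero (t : STerm R) (ht : GWF R t)
    (h0 : eval (f₀ R) (residue (KK R)) t ≠ 0) (i : SIdx R) : IsUnit (eval i.f i.τ t) := by
  rw [← residue_ne_zero_iff_isUnit, residue_eval R i t ht]
  exact (_root_.map_ne_zero _).mpr h0

theorem isUnit_iff (x : S R) : IsUnit x ↔ ρ R x ≠ 0 := by
  constructor
  · intro hx
    exact (hx.map (ρ R)).ne_zero
  · intro hx
    obtain ⟨t, ht, rfl⟩ := exists_mk R x
    rw [ρ_mk] at hx
    have hinv : GWF R (.inv t) := fun i => And.intro (ht i) (isUnit_eval_of_ne_zero R t ht hx i)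
    exact isUnit_iff_exists_inv'.mpr ⟨mk R (.inv t) hinv, mk_inv_mul R hinv⟩

instance : IsLocalHom (ρ R) := ⟨fun x hx => (isUnit_iff R x).mpr hx.ne_zero⟩

instance : IsLocalRing (S R) := RingHom.domain_isLocalRing (ρ R)

theorem mem_maximalIdeal_iff (x : S R) : x ∈ maximalIdeal (S R) ↔ ρ R x = 0 := by
  rw [mem_maximalIdeal, mem_nonunits_iff, isUnit_iff, not_not]

noncomputable instance : Algebra R (S R) := (ofHom R).toAlgebra

theorem algebraMap_eq : algebraMap R (S R) = ofHom R := rfl

instance : IsLocalHom (algebraMap R (S R)) := by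
  refine ⟨fun a ha => ?_⟩
  rw [algebraMap_eq, isUnit_iff, ρ_ofHom] at ha
  by_contra h
  apply ha
  have h0 : residue R a = 0 := (residue_eq_zero_iff a).mpr ((mem_maximalIdeal a).mpr h)
  show (algebraMap (ResidueField R) (KK R)) (residue R a) = 0
  rw [h0, map_zero]

theorem proj_mem (i : SIdx R) {x : S R} (hx : x ∈ maximalIdeal (S R)) :
    proj R i x ∈ maximalIdeal i.T := by
  rw [mem_maximalIdeal_iff] at hx
  rw [← residue_eq_zero_iff, residue_proj, hx, map_zero]

section Root

variable (n : ℕ) (c : Fin n → STerm R) (hc : ∀ j, GWF R (c j))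

theorem map_proj_mpoly (i : SIdx R) :
    (mpoly n (fun j => mk R (c j) (hc j))).map (proj R i) =
      mpoly n (fun j => eval i.f i.τ (c j)) := by
  rw [mpoly_map]
  congr 1
  funext j
  exact proj_mk R i _ _

theorem GWF_root (a : S R)
    (h1 : (mpoly n (fun j => mk R (c j) (hc j))).eval a ∈ maximalIdeal (S R))
    (h2 : IsUnit ((mpoly n (fun j => mk R (c j) (hc j))).derivative.eval a)) :
    GWF R (.root n c (ρ R a)) := by
  intro i
  refine (WF_root _ _).mpr ⟨fun j => hc j i, ?_, ?_⟩
  · rw [← residue_proj, eval_map_residue, ← map_proj_mpoly R n c hc, ← map_eval',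
      residue_eq_zero_iff]
    exact proj_mem R i h1
  · rw [← residue_proj, derivative_eval_map_residue, ← map_proj_mpoly R n c hc,
      ← map_derivative_eval', residue_ne_zero_iff_isUnit]
    exact h2.map (proj R i)

theorem root_spec (α : KK R) (h : GWF R (.root n c α)) :
    (mpoly n (fun j => mk R (c j) (hc j))).IsRoot (mk R (.root n c α) h) ∧
      ρ R (mk R (.root n c α) h) = α := by
  constructor
  · rw [IsRoot.def]
    apply ext_proj
    intro i
    obtain ⟨-, h1, h2⟩ := (WF_root _ _).mp (h i)
    rw [map_eval', map_proj_mpoly, proj_mk, map_zero, eval_root]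
    exact (sroot_spec (mpoly_monic _ _) h1 h2).1.eq_zero
  · rw [ρ_mk, eval_root]
    obtain ⟨-, h1, h2⟩ := (WF_root _ _).mp (h (i₀ R))
    have := (sroot_spec (mpoly_monic _ _) h1 h2).2
    exact (residue (KK R)).injective this

end Root

/-- the term model is henselian -/
theorem henselian : HenselianLocalRing (S R) := by
  refine { toIsLocalRing := inferInstance, is_henselian := ?_ }
  intro F hF a₀ h1 h2
  obtain ⟨n, c', rfl⟩ := exists_eq_mpoly hF
  have hc' : ∀ j, ∃ t, ∃ ht : GWF R t, mk R t ht = c' j := fun j => exists_mk R _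
  choose c hc hcm using hc'
  obtain rfl : (fun j => mk R (c j) (hc j)) = c' := funext hcm
  have hr := GWF_root R n c hc a₀ h1 h2
  obtain ⟨hx1, hx2⟩ := root_spec R n c hc (ρ R a₀) hr
  refine ⟨mk R (.root n c (ρ R a₀)) hr, hx1, ?_⟩
  rw [mem_maximalIdeal_iff, map_sub, hx2, sub_self]

instance : HenselianLocalRing (S R) := henselian R

/-- the map to the separable closure is surjective -/
theorem ρ_surjective : Function.Surjective (ρ R) := by
  intro α
  have hint : IsIntegral (ResidueField R) α := Algebra.IsSeparable.isIntegral _ α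
  have hsep : (minpoly (ResidueField R) α).Separable :=
    Algebra.IsSeparable.isSeparable (ResidueField R) α
  obtain ⟨n, c', hP⟩ := exists_eq_mpoly (minpoly.monic hint)
  choose r hr using fun j => residue_surjective (c' j)
  have hroot : GWF R (.root n (fun j => .of (r j)) α) := by
    intro i
    have hpi : (mpoly n (fun j => eval i.f i.τ (STerm.of (r j)))).map (residue i.T) =
        ((minpoly (ResidueField R) α).map (algebraMap (ResidueField R) (KK R))).map i.τ := by
      rw [Polynomial.map_map, i.hτ, hP, mpoly_map, mpoly_map]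
      congr 1; funext j
      show residue i.T (i.f (r j)) = ResidueField.map i.f (c' j)
      rw [← hr j, ResidueField.map_residue]
    refine (WF_root _ _).mpr ⟨fun j => trivial, ?_, ?_⟩
    · rw [hpi, ← map_eval', Polynomial.eval_map_algebraMap, minpoly.aeval, map_zero]
    · rw [hpi, ← map_derivative_eval', Polynomial.derivative_map,
        Polynomial.eval_map_algebraMap]
      exact (_root_.map_ne_zero _).mpr (hsep.aeval_derivative_ne_zero (minpoly.aeval _ _))
  exact ⟨mk R _ hroot, (root_spec R n (fun j => STerm.of (r j)) (fun j _ => trivial) α hroot).2⟩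

end Groth.Agent.Helper1.SHzn
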