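import Mathlib
import Groth.Prelude.Def_Hensel
import Groth.Agent.Lib.Helper1.SHznModel

/-!
# Strict henselization of a local ring via a term model: residue field and universal property
-/

set_option autoImplicit false

namespace Groth.Agent.Helper1.SHzn

universe u

open Polynomial IsLocalRing Groth.Agent.Helper1.Hzn

variable (R : Type u) [CommRing R] [IsLocalRing R]

/-- residue field of the model → separable closure of the residue field of `R` -/
noncomputable def e : ResidueField (S R) →+* KK R := ResidueField.lift (ρ R)

theorem e_residue (x : S R) : e R (residue (S R) x) = ρ R x :=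
  ResidueField.lift_residue_apply _ _

theorem e_bijective : Function.Bijective (e R) :=
  ⟨(e R).injective, fun α => by
    obtain ⟨x, rfl⟩ := ρ_surjective R α
    exact ⟨residue _ x, e_residue R x⟩⟩

/-- the residue field of the model is the separable closure -/
noncomputable def eEquiv : ResidueField (S R) ≃+* KK R :=
  RingEquiv.ofBijective (e R) (e_bijective R)

theorem eEquiv_apply (x : ResidueField (S R)) : eEquiv R x = e R x := rfl

theorem e_algebraMap (x : ResidueField R) :
    eEquiv R (algebraMap (ResidueField R) (ResidueField (S R)) x) =
      algebraMap (ResidueField R) (KK R) x := by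
  obtain ⟨r, rfl⟩ := residue_surjective x
  rw [ResidueField.algebraMap_residue, eEquiv_apply, e_residue]
  exact ρ_ofHom R r

/-- the residue field of the model is the separable closure, as algebras -/
noncomputable def eAlg : ResidueField (S R) ≃ₐ[ResidueField R] KK R :=
  AlgEquiv.ofRingEquiv (f := eEquiv R) (e_algebraMap R)

theorem isSepClosure : IsSepClosure (ResidueField R) (ResidueField (S R)) := by
  rw [isSepClosure_iff]
  constructor
  · refine ⟨fun p hp => ?_⟩
    have h := (IsSepClosed.splits_of_separable (p.map (eEquiv R).toRingHom) hp.map).map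
      (eEquiv R).symm.toRingHom
    have hid : ((eEquiv R).symm.toRingHom.comp (eEquiv R).toRingHom) = RingHom.id _ :=
      RingHom.ext fun x => (eEquiv R).symm_apply_apply x
    rwa [Polynomial.map_map, hid, Polynomial.map_id] at h
  · exact AlgEquiv.Algebra.isSeparable (eAlg R).symm

/-- the universal property of the term model -/
theorem universal (T : Type u) [CommRing T] [HenselianLocalRing T] (f : R →+* T) [IsLocalHom f]
    (τ : ResidueField (S R) →+* ResidueField T)
    (hτ : τ.comp (ResidueField.map (algebraMap R (S R))) = ResidueField.map f) :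
    ∃! g : S R →+* T, g.comp (algebraMap R (S R)) = f ∧
      ∀ x : S R, residue T (g x) = τ (residue (S R) x) := by
  let τ' : KK R →+* ResidueField T := τ.comp (eEquiv R).symm.toRingHom
  have hτ' : τ'.comp (algebraMap (ResidueField R) (KK R)) = ResidueField.map f := by
    rw [← hτ]
    refine RingHom.ext fun x => ?_
    obtain ⟨r, rfl⟩ := residue_surjective x
    show τ ((eEquiv R).symm (algebraMap (ResidueField R) (KK R) (residue R r))) =
      τ (ResidueField.map (algebraMap R (S R)) (residue R r))
    congr 1
    rw [RingEquiv.symm_apply_eq, ResidueField.map_residue, eEquiv_apply, e_residue]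
    exact (ρ_ofHom R r).symm
  let i : SIdx R := { T := T, f := f, τ := τ', hτ := hτ' }
  have hτe : ∀ x : S R, τ' (ρ R x) = τ (residue (S R) x) := by
    intro x
    show τ ((eEquiv R).symm (ρ R x)) = _
    congr 1
    rw [RingEquiv.symm_apply_eq, eEquiv_apply, e_residue]
  refine ⟨proj R i, ⟨?_, ?_⟩, ?_⟩
  · ext r; exact proj_ofHom R i r
  · intro x; rw [residue_proj R i x]; exact hτe x
  · rintro g ⟨hg, hgr⟩
    have hg' : ∀ r, g (ofHom R r) = f r := fun r => RingHom.congr_fun hg r
    have key : ∀ t (ht : GWF R t), g (mk R t ht) = eval f τ' t := by
      intro t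
      induction t with
      | of r => intro ht; rw [← ofHom_eq_mk]; exact hg' r
      | add s t ihs iht => intro ht; rw [mk_add, map_add, ihs, iht]; rfl
      | mul s t ihs iht => intro ht; rw [mk_mul, map_mul, ihs, iht]; rfl
      | neg s ih => intro ht; rw [mk_neg, map_neg, ih]; rfl
      | inv s ih =>
        intro ht
        have e1 := mk_inv_mul R ht
        have e2 : g (mk R (.inv s) ht) * eval f τ' s = 1 := by
          rw [← ih ht.of_inv, ← map_mul, e1, map_one]
        rw [eval_inv]
        have hu : IsUnit (eval f τ' s) := isUnit_iff_exists_inv'.mpr ⟨_, e2⟩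
        calc g (mk R (.inv s) ht)
            = g (mk R (.inv s) ht) * (eval f τ' s * Ring.inverse (eval f τ' s)) := by
              rw [Ring.mul_inverse_cancel _ hu, mul_one]
          _ = Ring.inverse (eval f τ' s) := by rw [← mul_assoc, e2, one_mul]
      | root n c α ihc =>
        intro ht
        have hc : ∀ j, GWF R (c j) := ht.root_coeff
        obtain ⟨hx1, hx2⟩ := root_spec R n c hc α ht
        obtain ⟨-, -, h2⟩ := (WF_root _ _).mp (ht i)
        have hmapF : (mpoly n (fun j => mk R (c j) (hc j))).map g =
            mpoly n (fun j => eval f τ' (c j)) := by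
          rw [mpoly_map]; congr 1; funext j; exact ihc j (hc j)
        rw [eval_root]
        symm
        refine sroot_unique h2 ?_ ?_
        · rw [IsRoot.def, ← hmapF, ← map_eval', hx1.eq_zero, map_zero]
        · rw [hgr, ← hτe, hx2]
    ext x
    obtain ⟨t, ht, rfl⟩ := exists_mk R x
    rw [key, proj_mk]

/-- the term model is a strict henselization -/
theorem isStrictHenselization : Hensel.IsStrictHenselization R (S R) :=
  ⟨henselian R, isSepClosure R, fun T _ _ f _ τ hτ => universal R T f τ hτ⟩

end Groth.Agent.Helper1.SHzn
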