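import Groth.Agent.Lib.Helper1.SH1

/-!
# A strict henselization is a directed union of finite towers of single-root extensions;
it is Noetherian when the base is
-/

set_option autoImplicit false

namespace Groth.Agent.Helper1.HFlat

open Polynomial IsLocalRing

universe u

/-- single-root extension -/
abbrev SExt1 {E S : Type u} [CommRing E] [IsLocalRing E] [CommRing S] [IsLocalRing S]
    {φ : E →+* S} (δ : SData φ) : Type u :=
  SNext (fun _ : PUnit.{u + 1} => δ)

section SGood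

variable {R S : Type u} [CommRing R] [IsLocalRing R] [CommRing S] [HenselianLocalRing S]
  (ψ : R →+* S)

/-- finite towers of single-root extensions mapping to `S` -/
inductive SGoodMap : (E : LocRing.{u}) → (E.A →+* S) → Prop
  | base : SGoodMap ⟨R⟩ ψ
  | step (E : LocRing.{u}) (φ : E.A →+* S) (δ : SData φ) (h : SGoodMap E φ) :
      SGoodMap ⟨SExt1 δ⟩ (liftSNext (fun _ : PUnit.{u + 1} => δ))

variable {ψ}

theorem SGoodMap.isLocalHom [hψ : IsLocalHom ψ] {E : LocRing.{u}} {φ : E.A →+* S}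
    (hg : SGoodMap ψ E φ) : IsLocalHom φ := by
  induction hg with
  | base => exact hψ
  | step E φ δ h ih => exact isLocalHom_liftSNext _

theorem SGoodMap.isSHensHom (hψ : IsSHensHom ψ) {E : LocRing.{u}} {φ : E.A →+* S}
    (hg : SGoodMap ψ E φ) : IsSHensHom φ := by
  induction hg with
  | base => exact hψ
  | step E φ δ h ih => exact ih.step _

theorem SGoodMap.noetherian [IsNoetherianRing R] {E : LocRing.{u}} {φ : E.A →+* S}
    (hg : SGoodMap ψ E φ) : IsNoetherianRing E.A := by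
  induction hg with
  | base => exact ‹IsNoetherianRing R›
  | step E φ δ h ih =>
    haveI := ih
    exact isNoetherianRing_Loc _ _

theorem SGoodMap.range_le {E : LocRing.{u}} {φ : E.A →+* S} (hg : SGoodMap ψ E φ) :
    ψ.range ≤ φ.range := by
  induction hg with
  | base => exact le_rfl
  | step E φ δ h ih => exact ih.trans (range_le_range_liftSNext _)

theorem exists_sdata_lift {E E' : Type u} [CommRing E] [IsLocalRing E] [CommRing E']
    [IsLocalRing E'] (φ : E →+* S) (φ' : E' →+* S) (hle : φ.range ≤ φ'.range) (δ : SData φ) :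
    ∃ δ' : SData φ', δ'.1.1.map φ' = δ.1.1.map φ ∧ δ'.1.2 = δ.1.2 := by
  obtain ⟨n, c, hcq⟩ := Hzn.exists_eq_mpoly δ.2.1
  have hc : ∀ j, ∃ c' : E', φ' c' = φ (c j) := fun j => hle ⟨c j, rfl⟩
  choose c' hc' using hc
  have hmap : (Hzn.mpoly n c').map φ' = δ.1.1.map φ := by
    rw [hcq, Hzn.mpoly_map, Hzn.mpoly_map]
    congr 1
    funext j
    exact hc' j
  refine ⟨⟨(Hzn.mpoly n c', δ.1.2), Hzn.mpoly_monic n c', ?_, ?_⟩, hmap, rfl⟩
  · show ((Hzn.mpoly n c').map φ').IsRoot δ.1.2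
    rw [hmap]
    exact δ.2.2.1
  · show IsUnit (((Hzn.mpoly n c').map φ').derivative.eval δ.1.2)
    rw [hmap]
    exact δ.2.2.2

theorem range_units_closed {E' : Type u} [CommRing E'] (φ' : E' →+* S) [IsLocalHom φ'] :
    ∀ x ∈ φ'.range, IsUnit x → ∃ y ∈ φ'.range, x * y = 1 := by
  rintro _ ⟨e, rfl⟩ hu
  have heu : IsUnit e := (isUnit_map_iff φ' e).mp hu
  obtain ⟨u, hu'⟩ := heu.exists_right_inv
  exact ⟨φ' u, ⟨u, rfl⟩, by rw [← map_mul, hu', map_one]⟩

variable [IsLocalHom ψ]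

theorem SGoodMap.directed {E1 : LocRing.{u}} {φ1 : E1.A →+* S} {E2 : LocRing.{u}}
    {φ2 : E2.A →+* S} (h1 : SGoodMap ψ E1 φ1) (h2 : SGoodMap ψ E2 φ2) :
    ∃ (E3 : LocRing.{u}) (φ3 : E3.A →+* S), SGoodMap ψ E3 φ3 ∧ φ1.range ≤ φ3.range ∧
      φ2.range ≤ φ3.range := by
  induction h2 with
  | base => exact ⟨E1, φ1, h1, le_rfl, h1.range_le⟩
  | step E φ δ h ih =>
    obtain ⟨E3, φ3, g3, l1, l2⟩ := ih
    obtain ⟨δ', e1, e2⟩ := exists_sdata_lift φ φ3 l2 δ
    refine ⟨⟨SExt1 δ'⟩, liftSNext (fun _ : PUnit.{u + 1} => δ'), SGoodMap.step E3 φ3 δ' g3,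
      l1.trans (range_le_range_liftSNext _), ?_⟩
    apply range_liftSNext_le (fun _ : PUnit.{u + 1} => δ) _
      (range_units_closed (E' := SExt1 δ') (liftSNext (fun _ : PUnit.{u + 1} => δ')))
      (l2.trans (range_le_range_liftSNext _))
    intro l
    refine ⟨snroot (fun _ : PUnit.{u + 1} => δ') l, ?_⟩
    rw [liftSNext_snroot]
    exact e2

theorem SGoodMap.exists_common : ∀ (m : ℕ) (x : Fin m → S),
    (∀ j, ∃ (E : LocRing.{u}) (φ : E.A →+* S), SGoodMap ψ E φ ∧ x j ∈ φ.range) →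
    ∃ (E : LocRing.{u}) (φ : E.A →+* S), SGoodMap ψ E φ ∧ ∀ j, x j ∈ φ.range
  | 0, _, _ => ⟨⟨R⟩, ψ, SGoodMap.base, fun j => j.elim0⟩
  | m + 1, x, hx => by
    obtain ⟨E1, φ1, g1, h1⟩ := SGoodMap.exists_common m (fun j => x j.succ) (fun j => hx j.succ)
    obtain ⟨E2, φ2, g2, h2⟩ := hx 0
    obtain ⟨E3, φ3, g3, l1, l2⟩ := g1.directed g2
    refine ⟨E3, φ3, g3, fun j => ?_⟩
    refine Fin.cases ?_ (fun j => ?_) j
    · exact l2 h2
    · exact l1 (h1 j)

variable (ψ) in
/-- the union of the images of all finite towers -/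
def goodSubring : Subring S where
  carrier := {s | ∃ (E : LocRing.{u}) (φ : E.A →+* S), SGoodMap ψ E φ ∧ s ∈ φ.range}
  mul_mem' := by
    rintro a b ⟨E1, φ1, g1, m1⟩ ⟨E2, φ2, g2, m2⟩
    obtain ⟨E3, φ3, g3, l1, l2⟩ := g1.directed g2
    exact ⟨E3, φ3, g3, Subring.mul_mem _ (l1 m1) (l2 m2)⟩
  one_mem' := ⟨⟨R⟩, ψ, SGoodMap.base, Subring.one_mem _⟩
  add_mem' := by
    rintro a b ⟨E1, φ1, g1, m1⟩ ⟨E2, φ2, g2, m2⟩
    obtain ⟨E3, φ3, g3, l1, l2⟩ := g1.directed g2
    exact ⟨E3, φ3, g3, Subring.add_mem _ (l1 m1) (l2 m2)⟩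
  zero_mem' := ⟨⟨R⟩, ψ, SGoodMap.base, Subring.zero_mem _⟩
  neg_mem' := by
    rintro a ⟨E1, φ1, g1, m1⟩
    exact ⟨E1, φ1, g1, Subring.neg_mem _ m1⟩

theorem mem_goodSubring {s : S} : s ∈ goodSubring ψ ↔
    ∃ (E : LocRing.{u}) (φ : E.A →+* S), SGoodMap ψ E φ ∧ s ∈ φ.range := Iff.rfl

theorem goodSubring_units_closed :
    ∀ x ∈ goodSubring ψ, IsUnit x → ∃ y ∈ goodSubring ψ, x * y = 1 := by
  rintro x ⟨E1, φ1, g1, m1⟩ hu
  haveI := g1.isLocalHom
  obtain ⟨y, hy, hxy⟩ := range_units_closed φ1 x m1 hu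
  exact ⟨y, ⟨E1, φ1, g1, hy⟩, hxy⟩

theorem goodSubring_root_closed {n : ℕ} (c : Fin n → S) (hc : ∀ j, c j ∈ goodSubring ψ) (b : S)
    (hb : (Hzn.mpoly n c).IsRoot b) (hu : IsUnit ((Hzn.mpoly n c).derivative.eval b)) :
    b ∈ goodSubring ψ := by
  obtain ⟨E, φ, g, hall⟩ := SGoodMap.exists_common (ψ := ψ) n c hc
  choose c' hc' using hall
  have hmap : (Hzn.mpoly n c').map φ = Hzn.mpoly n c := by
    rw [Hzn.mpoly_map]
    congr 1
    funext j
    exact hc' j
  have h1 : ((Hzn.mpoly n c').map φ).IsRoot b := by rw [hmap]; exact hb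
  have h2 : IsUnit (((Hzn.mpoly n c').map φ).derivative.eval b) := by rw [hmap]; exact hu
  let δ : SData φ := ⟨(Hzn.mpoly n c', b), Hzn.mpoly_monic n c', h1, h2⟩
  refine ⟨⟨SExt1 δ⟩, liftSNext (fun _ : PUnit.{u + 1} => δ), SGoodMap.step E φ δ g,
    ⟨snroot (fun _ : PUnit.{u + 1} => δ) PUnit.unit, ?_⟩⟩
  rw [liftSNext_snroot]
  rfl

theorem range_le_goodSubring : ψ.range ≤ goodSubring ψ := by
  rintro _ ⟨r, rfl⟩
  exact ⟨⟨R⟩, ψ, SGoodMap.base, ⟨r, rfl⟩⟩

theorem range_all_le_goodSubring :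
    RingHom.range (R := SNext (id : SData ψ → SData ψ)) (liftSNext id) ≤ goodSubring ψ := by
  apply range_liftSNext_le (id : SData ψ → SData ψ) _ goodSubring_units_closed
    range_le_goodSubring
  intro δ
  refine ⟨⟨SExt1 δ⟩, liftSNext (fun _ : PUnit.{u + 1} => δ), SGoodMap.step ⟨R⟩ ψ δ SGoodMap.base,
    ⟨snroot (fun _ : PUnit.{u + 1} => δ) PUnit.unit, ?_⟩⟩
  rw [liftSNext_snroot]
  rfl

theorem goodMap_range_le_goodSubring {G : LocRing.{u}} {φG : G.A →+* S}
    (hG : GoodMap (R := SNext (id : SData ψ → SData ψ)) (liftSNext id) G φG) :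
    φG.range ≤ goodSubring ψ := by
  induction hG with
  | base => exact range_all_le_goodSubring
  | step G φG δ h ih =>
    refine range_liftLoc_le (dpoly fun _ : PUnit.{u + 1} => δ) (dφ fun _ : PUnit.{u + 1} => δ)
      (hβ_eval₂ (fun _ : PUnit.{u + 1} => δ) φG) (hker_DNext (fun _ : PUnit.{u + 1} => δ) φG)
      (goodSubring ψ) goodSubring_units_closed ih ?_
    intro l
    obtain ⟨hr1, hr2⟩ := hβ_spec (fun _ : PUnit.{u + 1} => δ) φG l
    obtain ⟨-, -, m3⟩ := hdata_map (fun _ : PUnit.{u + 1} => δ) φG l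
    have hu : IsUnit (((dpoly (fun _ : PUnit.{u + 1} => δ) l).map φG).derivative.eval
        (hβ (fun _ : PUnit.{u + 1} => δ) φG l)) :=
      isUnit_derivative_eval_of_sub_mem _ m3 (by rw [Hzn.jacobson_bot_eq]; exact hr2)
    obtain ⟨n, c₀, hc₀⟩ := Hzn.exists_eq_mpoly (dpoly_monic (fun _ : PUnit.{u + 1} => δ) l)
    rw [hc₀, Hzn.mpoly_map] at hr1 hu
    exact goodSubring_root_closed _ (fun j => ih ⟨c₀ j, rfl⟩) _ hr1 hu

/-- every element of a strict henselization lies in the image of a finite tower -/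
theorem exists_sgood (hψ : IsSHensHom ψ) (s : S) :
    ∃ (E : LocRing.{u}) (φ : E.A →+* S), SGoodMap ψ E φ ∧ s ∈ φ.range := by
  obtain ⟨G, φG, hG, hs⟩ := exists_good hψ.isHensHom_all s
  exact goodMap_range_le_goodSubring hG hs

theorem exists_sgood_fin (hψ : IsSHensHom ψ) {m : ℕ} (x : Fin m → S) :
    ∃ (E : LocRing.{u}) (φ : E.A →+* S), SGoodMap ψ E φ ∧ ∀ j, x j ∈ φ.range :=
  SGoodMap.exists_common m x (fun j => exists_sgood hψ (x j))

end SGood

section Noeth

variable {R S : Type u} [CommRing R] [IsLocalRing R] [CommRing S] [HenselianLocalRing S]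
  {ψ : R →+* S} [IsLocalHom ψ]

theorem mem_span_of_forall_mem_sup_pow_strict [IsNoetherianRing R] (hψ : IsSHensHom ψ)
    (F : Finset S) (x : S) (hx : ∀ n, x ∈ Ideal.span (F : Set S) ⊔ maximalIdeal S ^ n) :
    x ∈ Ideal.span (F : Set S) := by
  classical
  obtain ⟨E, φ, g, hall⟩ := exists_sgood_fin hψ
    (Fin.cons x (fun j : Fin F.card => ((F.equivFin.symm j : F) : S)) : Fin (F.card + 1) → S)
  haveI : IsNoetherianRing E.A := g.noetherian
  have hH : IsSHensHom φ := g.isSHensHom hψ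
  haveI : IsLocalHom φ := g.isLocalHom
  obtain ⟨xE, hxE⟩ : ∃ xE : E.A, φ xE = x := by
    have := hall 0
    rwa [Fin.cons_zero] at this
  have hF : ∀ f ∈ F, ∃ e : E.A, φ e = f := by
    intro f hf
    have := hall (F.equivFin ⟨f, hf⟩).succ
    rw [Fin.cons_succ, Equiv.symm_apply_apply] at this
    exact this
  obtain ⟨JE, hJE⟩ : ∃ JE : Ideal E.A, JE = (Ideal.span (F : Set S)).comap φ := ⟨_, rfl⟩
  have h1 : Ideal.span (F : Set S) ≤ JE.map φ := by
    rw [Ideal.span_le]
    intro f hf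
    obtain ⟨e, he⟩ := hF f hf
    have heJ : e ∈ JE := by
      rw [hJE, Ideal.mem_comap, he]
      exact Ideal.subset_span hf
    rw [← he]
    exact Ideal.mem_map_of_mem φ heJ
  have h2 : ∀ n, xE ∈ JE ⊔ maximalIdeal E.A ^ n := by
    intro n
    have h3 : Ideal.span (F : Set S) ⊔ maximalIdeal S ^ n ≤
        (JE ⊔ maximalIdeal E.A ^ n).map φ := by
      rw [Ideal.map_sup, Ideal.map_pow, hH.map_maximalIdeal]
      exact sup_le_sup_right h1 _
    have h4 : φ xE ∈ (JE ⊔ maximalIdeal E.A ^ n).map φ := by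
      rw [hxE]
      exact h3 (hx n)
    have h5 : xE ∈ ((JE ⊔ maximalIdeal E.A ^ n).map φ).comap φ := h4
    rwa [hH.comap_map] at h5
  have h6 : xE ∈ JE := mem_of_forall_mem_sup_pow JE xE h2
  rw [hJE, Ideal.mem_comap, hxE] at h6
  exact h6

theorem isNoetherianRing_of_isSHensHom [IsNoetherianRing R] (hψ : IsSHensHom ψ) :
    IsNoetherianRing S := by
  classical
  have hfg : (maximalIdeal S).FG := by
    rw [← hψ.map_maximalIdeal]
    exact Ideal.FG.map (IsNoetherian.noetherian _) ψ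
  haveI : IsNoetherianRing (S ⧸ maximalIdeal S) :=
    inferInstanceAs (IsNoetherianRing (ResidueField S))
  have hN : IsNoetherianRing (AdicCompletion (maximalIdeal S) S) :=
    isNoetherianRing_adicCompletion_of_fg S (maximalIdeal S) hfg
  rw [isNoetherianRing_iff_ideal_fg]
  intro J
  have h1 : (Ideal.span (algebraMap S (AdicCompletion (maximalIdeal S) S) '' (J : Set S))).FG :=
    IsNoetherian.noetherian _
  obtain ⟨t, ht1, ht2⟩ := (Submodule.fg_span_iff_fg_span_finset_subset _).mp h1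
  obtain ⟨F, hF1, hF2⟩ := Finset.subset_set_image_iff.mp ht1
  have hJF : J = Ideal.span (F : Set S) := by
    apply le_antisymm
    · intro x hxJ
      apply mem_span_of_forall_mem_sup_pow_strict hψ F x
      intro n
      have h3 : algebraMap S (AdicCompletion (maximalIdeal S) S) x ∈
          (Ideal.span (F : Set S)).map (algebraMap S (AdicCompletion (maximalIdeal S) S)) := by
        rw [Ideal.map_span, ← Finset.coe_image, hF2]
        have h4 : algebraMap S (AdicCompletion (maximalIdeal S) S) x ∈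
            Ideal.span (algebraMap S (AdicCompletion (maximalIdeal S) S) '' (J : Set S)) :=
          Ideal.subset_span ⟨x, hxJ, rfl⟩
        have ht2' : Ideal.span (algebraMap S (AdicCompletion (maximalIdeal S) S) '' (J : Set S)) =
            Ideal.span (t : Set (AdicCompletion (maximalIdeal S) S)) := ht2
        rw [ht2'] at h4
        exact h4
      have h5 := Ideal.mem_map_of_mem
        (AdicCompletion.evalₐ (maximalIdeal S) n).toRingHom h3
      rw [Ideal.map_map] at h5
      have h6 : (AdicCompletion.evalₐ (maximalIdeal S) n).toRingHom.comp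
          (algebraMap S (AdicCompletion (maximalIdeal S) S)) =
          Ideal.Quotient.mk (maximalIdeal S ^ n) := by
        ext y
        exact (AdicCompletion.evalₐ (maximalIdeal S) n).commutes y
      rw [h6] at h5
      have h7 : (AdicCompletion.evalₐ (maximalIdeal S) n).toRingHom
          (algebraMap S (AdicCompletion (maximalIdeal S) S) x) =
          Ideal.Quotient.mk (maximalIdeal S ^ n) x :=
        (AdicCompletion.evalₐ (maximalIdeal S) n).commutes x
      rw [h7] at h5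
      exact Ideal.mem_quotient_iff_mem_sup.mp h5
    · rw [Ideal.span_le]
      exact hF1
  rw [hJF]
  exact ⟨F, rfl⟩

end Noeth

theorem isNoetherianRing_iff_of_isStrictHenselization (R : Type u) [CommRing R] [IsLocalRing R]
    (S : Type u) [CommRing S] [IsLocalRing S] [Algebra R S] [IsLocalHom (algebraMap R S)]
    [Hensel.IsStrictHenselization R S] : IsNoetherianRing R ↔ IsNoetherianRing S := by
  haveI hS : HenselianLocalRing S := Hensel.IsStrictHenselization.henselian (R := R)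
  constructor
  · intro hR
    exact isNoetherianRing_of_isSHensHom (IsSHensHom.of_isStrictHenselization R S)
  · intro hSN
    have hff := faithfullyFlat_of_isStrictHenselization R S
    rw [isNoetherianRing_iff, isNoetherian_iff'] at hSN ⊢
    let f : Ideal R ↪o Ideal S :=
      OrderEmbedding.ofMapLEIff (fun I => I.map (algebraMap R S)) (by
        intro I J
        constructor
        · intro h
          have := Ideal.comap_mono (f := algebraMap R S) h
          rwa [Ideal.comap_map_eq_self_of_faithfullyFlat,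
            Ideal.comap_map_eq_self_of_faithfullyFlat] at this
        · exact fun h => Ideal.map_mono h)
    exact f.wellFoundedGT

end Groth.Agent.Helper1.HFlat
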