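import Mathlib
import Groth.Agent.Lib.Helper1.ASH3
import Groth.Agent.Lib.Helper1.WE1
import Groth.Agent.Lib.Helper1.SH4
import Groth.Agent.Lib.Helper3.WEStalk
import Groth.Agent.Lib.Helper2.Oli6
import Groth.Agent.S0540

/-!
# The étale local ring of an algebraic space at a geometric point is the strict henselization of
the Zariski local ring of any (affine) étale neighbourhood at the image point

Main results (for `N0 : EtNbhd p` with `sch p N0` affine, `USt p N0` the universe lift of the
Zariski stalk of `sch p N0` at `pv p N0`):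
* `weaklyEtale_ρ`: `OEtStalk p` is weakly étale over `Γ(sch p N0, ⊤)`;
* `stalkToO : USt p N0 →+* OEtStalk p`, `stalkToO_germ`, `isLocalHom_stalkToO`;
* `isStrictHenselization_OEtStalk`, `exists_isStrictHenselization`;
* `isNoetherianRing_OEtStalk_iff`, `isRegularLocalRing_OEtStalk_iff`.
-/

set_option autoImplicit false
set_option linter.style.haveILetI false
open CategoryTheory CategoryTheory.Limits AlgebraicGeometry Opposite AlgSp
open Groth.Agent.Helper15
universe u v w

namespace Groth.Agent.Helper1.ASH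

open TensorProduct

/-! ### Abstract lemmas -/

theorem lmul'_map' {R : Type u} {E : Type v} {B : Type w} [CommRing R] [CommRing E] [CommRing B]
    [Algebra R E] [Algebra R B] (φ : E →ₐ[R] B) (x : E ⊗[R] E) :
    Algebra.TensorProduct.lmul' R (Algebra.TensorProduct.map φ φ x) =
      φ (Algebra.TensorProduct.lmul' R x) := by
  induction x using TensorProduct.induction_on with
  | zero => simp only [map_zero]
  | tmul a b =>
    rw [Algebra.TensorProduct.map_tmul, Algebra.TensorProduct.lmul'_apply_tmul,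
      Algebra.TensorProduct.lmul'_apply_tmul, map_mul]
  | add x y hx hy => rw [map_add, map_add, map_add, map_add, hx, hy]

theorem flat_lmul'_of_pure' {R : Type u} {B : Type v} [CommRing R] [CommRing B] [Algebra R B]
    (hpure : ∀ ε ∈ RingHom.ker (Algebra.TensorProduct.lmul' R (S := B)),
      ∃ δ ∈ RingHom.ker (Algebra.TensorProduct.lmul' R (S := B)), ε = ε * δ) :
    (Algebra.TensorProduct.lmul' R (S := B)).Flat := by
  letI alg : Algebra (B ⊗[R] B) B :=
    (Algebra.TensorProduct.lmul' R (S := B)).toRingHom.toAlgebra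
  show Module.Flat (B ⊗[R] B) B
  let J : Ideal (B ⊗[R] B) := RingHom.ker (Algebra.TensorProduct.lmul' R (S := B))
  haveI hJ : J.Pure := by
    apply Ideal.Pure.of_inf_eq_mul
    intro K _
    apply le_antisymm
    · intro x hx
      obtain ⟨hxJ, hxK⟩ := Ideal.mem_inf.mp hx
      obtain ⟨δ, hδ, hxδ⟩ := hpure x hxJ
      have h1 : x * δ ∈ J * K := by
        rw [mul_comm x δ]
        exact Ideal.mul_mem_mul hδ hxK
      rw [hxδ]
      exact h1
    · exact Ideal.mul_le_inf
  have hsurj : Function.Surjective (Algebra.TensorProduct.lmul' R (S := B)) := fun b =>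
    ⟨b ⊗ₜ 1, by simp⟩
  let f : (B ⊗[R] B ⧸ J) →ₗ[B ⊗[R] B] B :=
    Submodule.liftQ J (Algebra.linearMap (B ⊗[R] B) B) (fun x hx => hx)
  have hf : Function.Bijective f := by
    constructor
    · rw [← LinearMap.ker_eq_bot, Submodule.ker_liftQ_eq_bot']
      rfl
    · intro b
      obtain ⟨x, rfl⟩ := hsurj b
      exact ⟨Submodule.Quotient.mk x, rfl⟩
  exact Module.Flat.of_linearEquiv (LinearEquiv.ofBijective f hf).symm

/-- The multiplication map of a filtered colimit of étale algebras is flat. -/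
theorem flat_lmul'_of_levels {R : Type u} {B : Type v} [CommRing R] [CommRing B] [Algebra R B]
    {ι : Type w} (A : ι → Type u) [∀ i, CommRing (A i)] (α : ∀ i, R →+* A i)
    (φ : ∀ i, A i →+* B)
    (hφα : ∀ i r, φ i (α i r) = algebraMap R B r)
    (hα : ∀ i, (α i).Etale)
    (H1 : ∀ T : Finset B, ∃ i, (↑T : Set B) ⊆ Set.range (φ i))
    (H2 : ∀ (i : ι) (a : A i), φ i a = 0 →
      ∃ (j : ι) (χ : A i →+* A j), (∀ r, χ (α i r) = α j r) ∧ (∀ a', φ j (χ a') = φ i a') ∧
        χ a = 0) :
    (Algebra.TensorProduct.lmul' R (S := B)).Flat := by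
  classical
  apply flat_lmul'_of_pure'
  intro ε hε
  obtain ⟨S0, hS0⟩ := TensorProduct.exists_finset ε
  obtain ⟨i, hi⟩ := H1 (S0.image Prod.fst ∪ S0.image Prod.snd)
  letI algi : Algebra R (A i) := (α i).toAlgebra
  let φi : A i →ₐ[R] B := { φ i with commutes' := fun r => hφα i r }
  have hφi : ∀ a, φi a = φ i a := fun a => rfl
  have hpre : ∀ b ∈ S0.image Prod.fst ∪ S0.image Prod.snd, ∃ a, φ i a = b :=
    fun b hb => hi (Finset.mem_coe.2 hb)
  let pre : B → A i := fun b => if h : ∃ a, φ i a = b then h.choose else 0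
  have hpre' : ∀ b ∈ S0.image Prod.fst ∪ S0.image Prod.snd, φ i (pre b) = b := by
    intro b hb
    have h := hpre b hb
    show φ i (if h : ∃ a, φ i a = b then h.choose else 0) = b
    rw [dif_pos h]
    exact h.choose_spec
  let ε' : A i ⊗[R] A i := S0.sum fun mn => pre mn.1 ⊗ₜ[R] pre mn.2
  have hε' : Algebra.TensorProduct.map φi φi ε' = ε := by
    rw [hS0]
    show Algebra.TensorProduct.map φi φi (S0.sum fun mn => pre mn.1 ⊗ₜ[R] pre mn.2) = _
    rw [map_sum]
    refine Finset.sum_congr rfl fun mn hmn => ?_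
    rw [Algebra.TensorProduct.map_tmul, hφi, hφi,
      hpre' _ (Finset.mem_union_left _ (Finset.mem_image_of_mem _ hmn)),
      hpre' _ (Finset.mem_union_right _ (Finset.mem_image_of_mem _ hmn))]
  have h0 : φ i (Algebra.TensorProduct.lmul' R ε') = 0 := by
    have h1 := lmul'_map' φi ε'
    rw [hε'] at h1
    exact h1.symm.trans ((RingHom.mem_ker).mp hε)
  obtain ⟨j, χ, hχα, hφχ, hχ0⟩ := H2 i _ h0
  letI algj : Algebra R (A j) := (α j).toAlgebra
  haveI : Algebra.Etale R (A j) := hα j
  let φj : A j →ₐ[R] B := { φ j with commutes' := fun r => hφα j r }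
  let χa : A i →ₐ[R] A j := { χ with commutes' := fun r => hχα r }
  have h0'' : Algebra.TensorProduct.lmul' R (Algebra.TensorProduct.map χa χa ε') = 0 := by
    rw [lmul'_map' χa ε']
    exact hχ0
  obtain ⟨d, hd0, hd⟩ := Groth.Agent.Helper1.WE.exists_eq_mul_of_unramified
    (Algebra.TensorProduct.map χa χa ε') h0''
  have hcomp : Algebra.TensorProduct.map φj φj (Algebra.TensorProduct.map χa χa ε') = ε := by
    rw [← hε']
    have h2 : φj.comp χa = φi := AlgHom.ext fun a => hφχ a
    rw [← h2, Algebra.TensorProduct.map_comp]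
    rfl
  refine ⟨Algebra.TensorProduct.map φj φj d, ?_, ?_⟩
  · rw [RingHom.mem_ker, lmul'_map', hd0, map_zero]
  · rw [← hcomp, ← map_mul, ← hd]

variable {S : Scheme.{u}} {X : Sp S} (p : FieldPt X)

/-- affine étale neighbourhoods over a fixed one -/
structure Lvl (N0 : EtNbhd p) where
  /-- the neighbourhood -/
  N : EtNbhd p
  /-- the structure map -/
  g : N ⟶ N0
  /-- it is affine -/
  aff : IsAffine (sch p N)

section main

variable (hX : IsAlgSpace X) (hp : p.IsGeometric)

include hX hp in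
theorem flat_lmul'_ρ (N0 : EtNbhd p) [IsAffine (sch p N0)] :
    letI := (ρ p N0).toAlgebra
    (Algebra.TensorProduct.lmul' Γ(sch p N0, ⊤) (S := ↥(OEtStalk p))).Flat := by
  letI := (ρ p N0).toAlgebra
  haveI := isCofiltered_etNbhd hX p hp
  refine flat_lmul'_of_levels (ι := Lvl p N0) (fun i => (Γ(sch p i.N, ⊤) : Type u))
    (fun i => i.g.1.hom.left.left.appTop.hom) (fun i => ρ p i.N) ?_ ?_ ?_ ?_
  · intro i r
    exact ρ_map p i.g r
  · intro i
    haveI := i.aff
    haveI : Etale i.g.1.hom.left.left := EtOver.etale_left i.g.1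
    exact HasRingHomProperty.appTop (P := @Etale) i.g.1.hom.left.left inferInstance
  · intro T
    obtain ⟨N1, -, hN1⟩ := exists_common p hX hp T
    obtain ⟨N3, m, hN3⟩ := exists_affine_refinement p (IsCofiltered.min N1 N0)
    exact ⟨⟨N3, m ≫ IsCofiltered.minToRight N1 N0, hN3⟩,
      hN1.trans (range_ρ_mono p (m ≫ IsCofiltered.minToLeft N1 N0))⟩
  · intro i a ha
    obtain ⟨N', f, hf⟩ := exists_restrict_eq_zero p hX hp i.N a ha
    obtain ⟨N'', m, hN''⟩ := exists_affine_refinement p N'
    refine ⟨⟨N'', (m ≫ f) ≫ i.g, hN''⟩, (m ≫ f).1.hom.left.left.appTop.hom, ?_, ?_, ?_⟩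
    · intro r
      exact (appTop_comp p (m ≫ f) i.g r).symm
    · intro a'
      exact ρ_map p (m ≫ f) a'
    · rw [appTop_comp p m f a, hf, map_zero]

include hX hp in
theorem weaklyEtale_ρ (N0 : EtNbhd p) [IsAffine (sch p N0)] :
    letI := (ρ p N0).toAlgebra
    Algebra.WeaklyEtale Γ(sch p N0, ⊤) ↥(OEtStalk p) := by
  letI := (ρ p N0).toAlgebra
  exact ⟨flat_ρ p hX hp N0, flat_lmul'_ρ p hX hp N0⟩

end main

/-! ### The Zariski stalk of a neighbourhood -/

/-- the (universe lifted) Zariski stalk of a neighbourhood at the image point -/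
abbrev USt (N0 : EtNbhd p) : Type (u + 1) :=
  ULift.{u + 1} ↥((sch p N0).presheaf.stalk (pv p N0))

/-- the algebra structure of the lifted stalk over the global sections -/
noncomputable abbrev algUSt (N0 : EtNbhd p) : Algebra Γ(sch p N0, ⊤) (USt p N0) :=
  letI := TopCat.Presheaf.algebra_section_stalk (sch p N0).presheaf
    (⟨pv p N0, trivial⟩ : (⊤ : (sch p N0).Opens))
  ULift.algebra

attribute [local instance] algUSt

section stalk

variable (N0 : EtNbhd p) [IsAffine (sch p N0)]

/-- the prime ideal of the image point -/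
noncomputable abbrev qq : Ideal Γ(sch p N0, ⊤) :=
  ((isAffineOpen_top (sch p N0)).primeIdealOf ⟨pv p N0, trivial⟩).asIdeal

theorem mem_qq_iff (s : Γ(sch p N0, ⊤)) : s ∈ qq p N0 ↔ evU p N0 s = 0 := by
  rw [← RingHom.mem_ker, ker_evU_eq p N0]

theorem isUnit_ρ_of_mem_primeCompl (y : (qq p N0).primeCompl) :
    IsUnit (ρ p N0 (y : Γ(sch p N0, ⊤))) :=
  isUnit_ρ_of_evU_ne_zero p N0 y (fun h => y.2 ((mem_qq_iff p N0 y).2 h))

theorem isLocalization_USt : IsLocalization.AtPrime (USt p N0) (qq p N0) := by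
  letI := TopCat.Presheaf.algebra_section_stalk (sch p N0).presheaf
    (⟨pv p N0, trivial⟩ : (⊤ : (sch p N0).Opens))
  haveI := (isAffineOpen_top (sch p N0)).isLocalization_stalk ⟨pv p N0, trivial⟩
  exact IsLocalization.isLocalization_of_algEquiv (qq p N0).primeCompl
    (ULift.algEquiv (R := Γ(sch p N0, ⊤))
      (A := ↥((sch p N0).presheaf.stalk (pv p N0)))).symm

theorem isLocalRing_USt : IsLocalRing (USt p N0) :=
  haveI := isLocalization_USt p N0
  IsLocalization.AtPrime.isLocalRing (USt p N0) (qq p N0)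

/-- the canonical map from the (universe lifted) Zariski stalk of a neighbourhood to the étale
local ring -/
noncomputable def stalkToO : USt p N0 →+* ↥(OEtStalk p) :=
  haveI := isLocalization_USt p N0
  IsLocalization.lift (M := (qq p N0).primeCompl) (S := USt p N0) (g := ρ p N0)
    (isUnit_ρ_of_mem_primeCompl p N0)

theorem stalkToO_algebraMap (s : Γ(sch p N0, ⊤)) :
    stalkToO p N0 (algebraMap Γ(sch p N0, ⊤) (USt p N0) s) = ρ p N0 s := by
  haveI := isLocalization_USt p N0
  exact IsLocalization.lift_eq (isUnit_ρ_of_mem_primeCompl p N0) s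

theorem stalkToO_germ (s : Γ(sch p N0, ⊤)) :
    stalkToO p N0 (ULift.up ((sch p N0).presheaf.germ ⊤ (pv p N0) trivial s)) = ρ p N0 s :=
  stalkToO_algebraMap p N0 s

section main

variable (hX : IsAlgSpace X) (hp : p.IsGeometric)

include hX hp in
theorem isLocalHom_stalkToO : IsLocalHom (stalkToO p N0) := by
  haveI := isLocalization_USt p N0
  refine ⟨fun x hx => ?_⟩
  obtain ⟨⟨a, m⟩, rfl⟩ := IsLocalization.mk'_surjective (qq p N0).primeCompl x
  have h1 : IsLocalization.mk' (USt p N0) a m *
      algebraMap Γ(sch p N0, ⊤) (USt p N0) (m : Γ(sch p N0, ⊤)) =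
      algebraMap Γ(sch p N0, ⊤) (USt p N0) a := IsLocalization.mk'_spec _ a m
  have h2 := congrArg (stalkToO p N0) h1
  rw [map_mul, stalkToO_algebraMap p N0, stalkToO_algebraMap p N0] at h2
  have h3 : IsUnit (ρ p N0 a) := by
    rw [← h2]
    exact hx.mul (isUnit_ρ_of_mem_primeCompl p N0 m)
  have h4 : evU p N0 a ≠ 0 := by
    have h := (isUnit_iff p hX hp _).1 h3
    rwa [ev_ρ] at h
  have h5 : a ∈ (qq p N0).primeCompl := fun h => h4 ((mem_qq_iff p N0 a).1 h)
  have h6 : IsUnit (algebraMap Γ(sch p N0, ⊤) (USt p N0) a) :=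
    IsLocalization.map_units (USt p N0) (⟨a, h5⟩ : (qq p N0).primeCompl)
  rw [← h1] at h6
  exact isUnit_of_mul_isUnit_left h6

include hX hp in
/-- **The étale local ring is the strict henselization of the Zariski local ring of a
neighbourhood.** -/
theorem isStrictHenselization_OEtStalk :
    letI := isLocalRing p hX hp
    letI := isLocalRing_USt p N0
    letI := (stalkToO p N0).toAlgebra
    haveI : IsLocalHom (algebraMap (USt p N0) ↥(OEtStalk p)) := isLocalHom_stalkToO p N0 hX hp
    Hensel.IsStrictHenselization (USt p N0) ↥(OEtStalk p) := by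
  letI := isLocalRing p hX hp
  letI := isLocalRing_USt p N0
  letI algO : Algebra Γ(sch p N0, ⊤) ↥(OEtStalk p) := (ρ p N0).toAlgebra
  letI algSO : Algebra (USt p N0) ↥(OEtStalk p) := (stalkToO p N0).toAlgebra
  haveI := isLocalization_USt p N0
  haveI : IsScalarTower Γ(sch p N0, ⊤) (USt p N0) ↥(OEtStalk p) :=
    IsScalarTower.of_algebraMap_eq (fun s => (stalkToO_algebraMap p N0 s).symm)
  haveI : Algebra.WeaklyEtale Γ(sch p N0, ⊤) ↥(OEtStalk p) := weaklyEtale_ρ p hX hp N0
  haveI : Algebra.WeaklyEtale (USt p N0) ↥(OEtStalk p) :=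
    Groth.Agent.Helper3.WEStalk.weaklyEtale_of_isLocalization_base (qq p N0).primeCompl
      (USt p N0) ↥(OEtStalk p)
  haveI : IsLocalHom (algebraMap (USt p N0) ↥(OEtStalk p)) := isLocalHom_stalkToO p N0 hX hp
  haveI : HenselianLocalRing ↥(OEtStalk p) := henselian p hX hp
  haveI : IsSepClosed (IsLocalRing.ResidueField ↥(OEtStalk p)) :=
    isSepClosed_residueField p hX hp
  exact Groth.Agent.Helper2.Oli.isStrictHenselization_of_weaklyEtale (USt p N0) ↥(OEtStalk p)

include hX hp in
/-- packaged form -/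
theorem exists_isStrictHenselization :
    ∃ (_ : IsLocalRing (USt p N0)) (_ : IsLocalRing ↥(OEtStalk p))
      (_ : Algebra (USt p N0) ↥(OEtStalk p))
      (_ : IsLocalHom (algebraMap (USt p N0) ↥(OEtStalk p))),
      Hensel.IsStrictHenselization (USt p N0) ↥(OEtStalk p) ∧
        ∀ s : Γ(sch p N0, ⊤), algebraMap (USt p N0) ↥(OEtStalk p)
          (ULift.up ((sch p N0).presheaf.germ ⊤ (pv p N0) trivial s)) = ρ p N0 s :=
  ⟨isLocalRing_USt p N0, isLocalRing p hX hp, (stalkToO p N0).toAlgebra,
    isLocalHom_stalkToO p N0 hX hp, isStrictHenselization_OEtStalk p N0 hX hp,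
    fun s => stalkToO_germ p N0 s⟩

include hX hp in
theorem isNoetherianRing_OEtStalk_iff :
    IsNoetherianRing ↥(OEtStalk p) ↔
      IsNoetherianRing ↥((sch p N0).presheaf.stalk (pv p N0)) := by
  letI := isLocalRing p hX hp
  letI := isLocalRing_USt p N0
  letI := (stalkToO p N0).toAlgebra
  haveI : IsLocalHom (algebraMap (USt p N0) ↥(OEtStalk p)) := isLocalHom_stalkToO p N0 hX hp
  haveI := isStrictHenselization_OEtStalk p N0 hX hp
  have h1 := Groth.Agent.S0540.result (USt p N0) ↥(OEtStalk p)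
  rw [← h1]
  constructor
  · intro h
    exact isNoetherianRing_of_ringEquiv (USt p N0) ULift.ringEquiv
  · intro h
    exact isNoetherianRing_of_ringEquiv _ (ULift.ringEquiv (R := ↥((sch p N0).presheaf.stalk (pv p N0)))).symm

include hX hp in
theorem isRegularLocalRing_OEtStalk_iff :
    IsRegularLocalRing ↥(OEtStalk p) ↔
      IsRegularLocalRing ↥((sch p N0).presheaf.stalk (pv p N0)) := by
  letI := isLocalRing p hX hp
  letI := isLocalRing_USt p N0
  letI := (stalkToO p N0).toAlgebra
  haveI : IsLocalHom (algebraMap (USt p N0) ↥(OEtStalk p)) := isLocalHom_stalkToO p N0 hX hp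
  haveI := isStrictHenselization_OEtStalk p N0 hX hp
  constructor
  · intro h
    haveI : IsRegularLocalRing ↥(OEtStalk p) := h
    haveI : IsNoetherianRing ↥(OEtStalk p) := inferInstance
    haveI : IsNoetherianRing (USt p N0) :=
      (Groth.Agent.S0540.result (USt p N0) ↥(OEtStalk p)).2 inferInstance
    haveI : IsRegularLocalRing (USt p N0) :=
      (Groth.Agent.Helper1.HFlat.isRegularLocalRing_iff_of_isStrictHenselization (USt p N0)
        ↥(OEtStalk p)).2 h
    exact IsRegularLocalRing.of_ringEquiv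
      (ULift.ringEquiv (R := ↥((sch p N0).presheaf.stalk (pv p N0))))
  · intro h
    haveI : IsRegularLocalRing (USt p N0) := IsRegularLocalRing.of_ringEquiv
      (ULift.ringEquiv (R := ↥((sch p N0).presheaf.stalk (pv p N0)))).symm
    haveI : IsNoetherianRing (USt p N0) := inferInstance
    exact (Groth.Agent.Helper1.HFlat.isRegularLocalRing_iff_of_isStrictHenselization (USt p N0)
      ↥(OEtStalk p)).1 inferInstance

end main

end stalk

end Groth.Agent.Helper1.ASH
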