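import Mathlib.RingTheory.Henselian
import Mathlib.RingTheory.Etale.StandardEtale
import Mathlib.RingTheory.Unramified.LocalStructure
import Mathlib.RingTheory.LocalRing.ResidueField.Ideal

set_option autoImplicit false

/-! # Sections of étale algebras over henselian local rings -/

namespace Groth.Agent.Helper1

open Polynomial IsLocalRing

universe u v

section Key

variable {R : Type*} {S : Type*} [CommRing R] [CommRing S] [HenselianLocalRing S] [Algebra R S]

/-- Over a henselian local ring `S`, a point of a standard étale pair in the residue field lifts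
uniquely. -/
theorem existsUnique_hasMap_residue (P : StandardEtalePair R) (x₀ : ResidueField S)
    (h : P.HasMap x₀) : ∃! x : S, P.HasMap x ∧ residue S x = x₀ := by
  have hmonic : (P.f.map (algebraMap R S)).Monic := P.monic_f.map _
  have h1 : aeval x₀ (P.f.map (algebraMap R S)) = 0 := by
    rw [aeval_map_algebraMap]; exact h.1
  have h2 : aeval x₀ (derivative (P.f.map (algebraMap R S))) ≠ 0 := by
    rw [derivative_map, aeval_map_algebraMap]
    exact h.isUnit_derivative_f.ne_zero
  have H : ∀ f : S[X], f.Monic → ∀ a₀ : ResidueField S, aeval a₀ f = 0 →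
      aeval a₀ (derivative f) ≠ 0 → ∃ a : S, f.IsRoot a ∧ residue S a = a₀ :=
    ((HenselianLocalRing.TFAE S).out 0 1).mp ‹HenselianLocalRing S›
  obtain ⟨a, ha, hares⟩ := H (P.f.map (algebraMap R S)) hmonic x₀ h1 h2
  have key : ∀ b : S, (P.f.map (algebraMap R S)).IsRoot b → residue S b = x₀ → P.HasMap b := by
    intro b hb hbres
    refine ⟨?_, ?_⟩
    · rw [IsRoot.def, eval_map_algebraMap] at hb; exact hb
    · have : IsUnit (residue S (aeval b P.g)) := by
        have e : residue S (aeval b P.g) = aeval x₀ P.g := by
          rw [← hbres]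
          have := aeval_algHom_apply (IsScalarTower.toAlgHom R S (ResidueField S)) b P.g
          simpa using this.symm
        rw [e]; exact h.2
      exact (isUnit_map_iff (residue S) _).mp this
  refine ⟨a, ⟨key a ha hares, hares⟩, ?_⟩
  rintro b ⟨hb, hbres⟩
  have hb0 : (P.f.map (algebraMap R S)).eval b = 0 := by
    rw [eval_map_algebraMap]; exact hb.1
  have ha0 : (P.f.map (algebraMap R S)).eval a = 0 := ha
  refine IsLocalRing.eq_of_eval_eq_zero_of_not_isUnit_sub hb0 ha0 ?_ ?_
  · rw [← mem_nonunits_iff, ← mem_maximalIdeal, ← Ideal.Quotient.eq_zero_iff_mem]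
    change residue S (b - a) = 0
    rw [map_sub, hbres, hares, sub_self]
  · rw [derivative_map, eval_map_algebraMap]
    exact hb.isUnit_derivative_f

/-- Over a henselian local ring `S`, `R`-algebra maps from an étale `R`-algebra `A` to the residue
field of `S` lift uniquely to `S`. -/
theorem existsUnique_algHom_of_etale {A : Type*} [CommRing A] [Algebra R A] [Algebra.Etale R A]
    (ψ : A →ₐ[R] ResidueField S) :
    ∃! f : A →ₐ[R] S, ∀ a, residue S (f a) = ψ a := by
  let q : Ideal A := RingHom.ker ψ.toRingHom
  have hq : q.IsPrime := RingHom.ker_isPrime _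
  obtain ⟨g, hgq, hstd⟩ := Algebra.IsEtaleAt.exists_isStandardEtale (R := R) q
  have hg : IsUnit (ψ g) := by
    rw [isUnit_iff_ne_zero]
    exact hgq
  let A' := Localization.Away g
  let Pr : StandardEtalePresentation R A' :=
    Algebra.IsStandardEtale.nonempty_standardEtalePresentation.some
  let ψ' : A' →ₐ[R] ResidueField S := IsLocalization.Away.liftAlgHom g (f := ψ) hg
  have hψ' : ∀ a, ψ' (algebraMap A A' a) = ψ a := fun a ↦ IsLocalization.Away.lift_eq _ hg a
  let resA : S →ₐ[R] ResidueField S := IsScalarTower.toAlgHom R S (ResidueField S)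
  have hresA : ∀ s, resA s = residue S s := fun _ ↦ rfl
  obtain ⟨x, ⟨hx, hxres⟩, hxuniq⟩ :=
    existsUnique_hasMap_residue (S := S) Pr.P (ψ' Pr.x) (Pr.hasMap.map ψ')
  refine ⟨((Pr.P.lift x hx).comp Pr.equivRing.toAlgHom).comp (IsScalarTower.toAlgHom R A A'),
    ?_, ?_⟩
  · intro a
    have : resA.comp ((Pr.P.lift x hx).comp Pr.equivRing.toAlgHom) = ψ' := by
      apply Pr.hom_ext
      simp [hresA, hxres]
    have := congr($this (algebraMap A A' a))
    rw [hψ'] at this
    exact this
  · intro f hf
    have hfg : IsUnit (f g) := by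
      rw [← isUnit_map_iff (residue S), hf]; exact hg
    let f' : A' →ₐ[R] S := IsLocalization.Away.liftAlgHom g (f := f) hfg
    have hf' : ∀ a, f' (algebraMap A A' a) = f a := fun a ↦ IsLocalization.Away.lift_eq _ hfg a
    have h1 : resA.comp f' = ψ' := by
      apply IsLocalization.algHom_ext (Submonoid.powers g)
      ext a
      change residue S (f' (algebraMap A A' a)) = ψ' (algebraMap A A' a)
      rw [hf', hψ', hf]
    have hfx : f' Pr.x = x := by
      apply hxuniq
      refine ⟨Pr.hasMap.map f', ?_⟩
      exact congr($h1 Pr.x)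
    have h2 : f' = (Pr.P.lift x hx).comp Pr.equivRing.toAlgHom := by
      apply Pr.hom_ext
      simp [hfx]
    ext a
    rw [← hf', h2]
    rfl

end Key

end Groth.Agent.Helper1
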