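import Groth.Agent.Lib.Helper1.UB3

/-!
# Geometrically unibranch local rings and the strict henselization, II
-/

set_option autoImplicit false

namespace Groth.Agent.Helper1.UB

open IsLocalRing TensorProduct Polynomial Groth.Agent.Helper1

universe u

/-- the residue field condition in the definition of geometrically unibranch, for a domain -/
def PIcond (D : Type u) [CommRing D] : Prop :=
  ∀ (m' : Ideal (integralClosure D (FractionRing D))) [m'.IsMaximal],
    ∀ x : integralClosure D (FractionRing D) ⧸ m', ∃ n : ℕ,
      x ^ (ringExpChar (integralClosure D (FractionRing D) ⧸ m')) ^ n ∈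
        ((Ideal.Quotient.mk m').comp
          (algebraMap D (integralClosure D (FractionRing D)))).range

theorem isGeomUnibranch_iff (A : Type u) [CommRing A] [IsLocalRing A] :
    CAlg2.IsGeomUnibranch A ↔ (CAlg2.IsUnibranch A ∧ PIcond (A ⧸ nilradical A)) := by
  unfold CAlg2.IsGeomUnibranch PIcond
  refine and_congr_right (fun _ => ?_)
  refine forall_congr' (fun m' => forall_congr' (fun hm' => forall_congr' (fun x =>
    exists_congr (fun n => ?_))))
  constructor
  · rintro ⟨r, hr⟩
    exact ⟨Ideal.Quotient.mk _ r, hr⟩
  · rintro ⟨d, hd⟩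
    obtain ⟨r, rfl⟩ := Ideal.Quotient.mk_surjective d
    exact ⟨r, hd⟩

section Core

variable (D S : Type u) [CommRing D] [IsLocalRing D] [IsDomain D] [CommRing S] [IsLocalRing S]
  [Algebra D S] [IsLocalHom (algebraMap D S)] [Hensel.IsStrictHenselization D S]

theorem isDomain_of_isLocalRing_of_PIcond
    [hB : IsLocalRing (integralClosure D (FractionRing D))] (hPI : PIcond D) : IsDomain S := by
  haveI : IsLocalHom (algebraMap D (integralClosure D (FractionRing D))) :=
    Algebra.IsIntegral.isLocalHom D _
  obtain ⟨q, hq⟩ : ∃ q, q = ringExpChar (ResidueField (integralClosure D (FractionRing D))) :=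
    ⟨_, rfl⟩
  haveI hqe : ExpChar (ResidueField (integralClosure D (FractionRing D))) q := by
    rw [hq]
    exact ringExpChar.expChar _
  have hPI' : ∀ b : integralClosure D (FractionRing D), ∃ (n : ℕ) (a : D),
      b ^ q ^ n - algebraMap D _ a ∈ maximalIdeal (integralClosure D (FractionRing D)) := by
    intro b
    obtain ⟨n, hn⟩ := hPI (maximalIdeal _) (Ideal.Quotient.mk _ b)
    obtain ⟨a, ha⟩ := RingHom.mem_range.mp hn
    refine ⟨n, a, ?_⟩
    rw [← Ideal.Quotient.eq_zero_iff_mem, map_sub, map_pow, sub_eq_zero, hq]
    exact ha.symm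
  obtain ⟨hloc, hlh, hSH⟩ :=
    IH.isStrictHenselization_tensor D (integralClosure D (FractionRing D)) S q hPI'
  haveI : IsIntegrallyClosed (integralClosure D (FractionRing D)) :=
    integralClosure.isIntegrallyClosedOfFiniteExtension (FractionRing D)
  have hdom := ((HFlat.isNormal_iff_of_isStrictHenselization
    (integralClosure D (FractionRing D))
    ((integralClosure D (FractionRing D)) ⊗[D] S)).mp ⟨inferInstance, inferInstance⟩).1
  haveI : Module.Flat D S := (HFlat.faithfullyFlat_of_isStrictHenselization D S).toFlat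
  have hinj : Function.Injective (Algebra.TensorProduct.includeRight :
      S →ₐ[D] (integralClosure D (FractionRing D)) ⊗[D] S) :=
    Algebra.TensorProduct.includeRight_injective
      (FaithfulSMul.algebraMap_injective D (integralClosure D (FractionRing D)))
  exact hinj.isDomain (Algebra.TensorProduct.includeRight :
      S →ₐ[D] (integralClosure D (FractionRing D)) ⊗[D] S).toRingHom

theorem exists_pow_sub_mem_of_finite_of_injective [IsDomain S] (D'' : Type u) [CommRing D'']
    [Algebra D D''] [Module.Finite D D''] [IsLocalRing D'']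
    (j : D'' →ₐ[D] FractionRing D) (hj : Function.Injective j)
    (q : ℕ) [ExpChar (ResidueField D) q] (x : D'') :
    ∃ (n : ℕ) (d : D), x ^ q ^ n - algebraMap D D'' d ∈ maximalIdeal D'' := by
  haveI hS : HenselianLocalRing S := Hensel.IsStrictHenselization.henselian (R := D)
  haveI hff : Module.FaithfullyFlat D S := HFlat.faithfullyFlat_of_isStrictHenselization D S
  have hinj : Function.Injective (algebraMap D S) :=
    (HFlat.IsSHensHom.of_isStrictHenselization D S).injective
  have hinjD'' : Function.Injective (algebraMap D D'') := by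
    intro a a' h
    apply IsFractionRing.injective D (FractionRing D)
    rw [← j.commutes, ← j.commutes, h]
  haveI : IsLocalHom (algebraMap D D'') :=
    RingHom.IsIntegral.isLocalHom (algebraMap_isIntegral_iff.mpr inferInstance) hinjD''
  have hC := eq_of_isMaximal_tensor D S D'' hinj j hj
  haveI hsc : IsSepClosed (ResidueField S) :=
    (Hensel.IsStrictHenselization.isSepClosure (R := D) (S := S)).sep_closed
  haveI hsep : Algebra.IsSeparable (ResidueField D) (ResidueField S) :=
    (Hensel.IsStrictHenselization.isSepClosure (R := D) (S := S)).separable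
  haveI := isPurelyInseparable_residueField_of_unique_maximal D S D'' hC
  obtain ⟨n, y, hy⟩ := IsPurelyInseparable.pow_mem (ResidueField D) q (residue D'' x)
  obtain ⟨d, rfl⟩ := residue_surjective y
  refine ⟨n, d, ?_⟩
  rw [← residue_eq_zero_iff, map_sub, map_pow, sub_eq_zero, ← hy,
    ResidueField.algebraMap_residue]

theorem isLocalRing_and_PIcond_of_isDomain [IsDomain S] :
    IsLocalRing (integralClosure D (FractionRing D)) ∧ PIcond D := by
  haveI hS : HenselianLocalRing S := Hensel.IsStrictHenselization.henselian (R := D)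
  haveI hff : Module.FaithfullyFlat D S := HFlat.faithfullyFlat_of_isStrictHenselization D S
  have hinj : Function.Injective (algebraMap D S) :=
    (HFlat.IsSHensHom.of_isStrictHenselization D S).injective
  haveI hB : IsLocalRing (integralClosure D (FractionRing D)) :=
    isLocalRing_integralClosure_of_isDomain' D S hinj
  refine ⟨hB, ?_⟩
  intro m' hm' x
  obtain rfl : m' = maximalIdeal _ := IsLocalRing.eq_maximalIdeal hm'
  obtain ⟨b, rfl⟩ := Ideal.Quotient.mk_surjective x
  haveI : IsLocalHom (algebraMap D (integralClosure D (FractionRing D))) :=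
    Algebra.IsIntegral.isLocalHom D _
  obtain ⟨q, hq⟩ : ∃ q, q = ringExpChar (ResidueField D) := ⟨_, rfl⟩
  haveI hqD : ExpChar (ResidueField D) q := by
    rw [hq]
    exact ringExpChar.expChar _
  haveI hqB : ExpChar (ResidueField (integralClosure D (FractionRing D))) q :=
    expChar_of_injective_ringHom (algebraMap (ResidueField D)
      (ResidueField (integralClosure D (FractionRing D)))).injective q
  have hqB' : ringExpChar (integralClosure D (FractionRing D) ⧸
      maximalIdeal (integralClosure D (FractionRing D))) = q :=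
    ringExpChar.eq (ResidueField (integralClosure D (FractionRing D))) q
  haveI : Module.Finite D (Algebra.adjoin D {b}) :=
    Algebra.finite_adjoin_simple_of_isIntegral (Algebra.IsIntegral.isIntegral b)
  haveI hloc'' : IsLocalRing (Algebra.adjoin D {b}) :=
    isLocalRing_of_finite_of_injective D S (Algebra.adjoin D {b}) hinj _
      (injective_val_comp_val D b)
  obtain ⟨n, d, hnd⟩ := exists_pow_sub_mem_of_finite_of_injective D S (Algebra.adjoin D {b}) _
    (injective_val_comp_val D b) q ⟨b, Algebra.subset_adjoin (Set.mem_singleton _)⟩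
  haveI : Algebra.IsIntegral (Algebra.adjoin D {b}) (integralClosure D (FractionRing D)) :=
    Algebra.IsIntegral.tower_top (R := D)
  haveI : IsLocalHom (algebraMap (Algebra.adjoin D {b})
      (integralClosure D (FractionRing D))) :=
    Algebra.IsIntegral.isLocalHom (Algebra.adjoin D {b}) (integralClosure D (FractionRing D))
  have h1 := map_nonunit (algebraMap (Algebra.adjoin D {b})
      (integralClosure D (FractionRing D))) _ hnd
  rw [map_sub, map_pow, ← IsScalarTower.algebraMap_apply] at h1
  refine ⟨n, RingHom.mem_range.mpr ⟨d, ?_⟩⟩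
  rw [hqB', RingHom.comp_apply, ← map_pow]
  symm
  rw [← sub_eq_zero, ← map_sub, Ideal.Quotient.eq_zero_iff_mem]
  exact h1

end Core

/-- S2750 -/
theorem reduced_geomUnibranch_iff (R S : Type u) [CommRing R] [IsLocalRing R] [CommRing S]
    [IsLocalRing S] [Algebra R S] [IsLocalHom (algebraMap R S)]
    [Hensel.IsStrictHenselization R S] :
    (IsReduced R ∧ CAlg2.IsGeomUnibranch R) ↔ IsDomain S := by
  haveI hS : HenselianLocalRing S := Hensel.IsStrictHenselization.henselian (R := R)
  have hinjRS : Function.Injective (algebraMap R S) :=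
    (HFlat.IsSHensHom.of_isStrictHenselization R S).injective
  rw [isGeomUnibranch_iff]
  have hker : RingHom.ker (RingHom.id S) ≤
      (RingHom.ker (Ideal.Quotient.mk (nilradical R))).map (algebraMap R S) := by
    intro x hx
    rw [RingHom.mem_ker, RingHom.id_apply] at hx
    rw [hx]
    exact Ideal.zero_mem _
  constructor
  · rintro ⟨hred, ⟨hdom, hloc⟩, hPI⟩
    have hI : ∀ a ∈ nilradical R, algebraMap R S a = 0 := by
      intro a ha
      rw [nilradical_eq_zero R] at ha
      rw [Ideal.mem_bot.mp ha, map_zero]
    haveI : IsDomain (R ⧸ nilradical R) := hdom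
    haveI : IsLocalRing (R ⧸ nilradical R) :=
      IsLocalRing.of_surjective' (Ideal.Quotient.mk _) Ideal.Quotient.mk_surjective
    letI : Algebra (R ⧸ nilradical R) S :=
      (Ideal.Quotient.lift (nilradical R) (algebraMap R S) hI).toAlgebra
    obtain ⟨hlh, hH⟩ := isStrictHenselization_of_surjective R S (R ⧸ nilradical R) S
      (Ideal.Quotient.mk _) Ideal.Quotient.mk_surjective (RingHom.id S) Function.surjective_id
      (fun r => rfl) hker
    haveI : IsLocalRing (integralClosure (R ⧸ nilradical R)
      (FractionRing (R ⧸ nilradical R))) := hloc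
    exact isDomain_of_isLocalRing_of_PIcond (R ⧸ nilradical R) S hPI
  · intro hdomS
    haveI : IsDomain R := hinjRS.isDomain (algebraMap R S)
    have hred : IsReduced R := inferInstance
    have hI : ∀ a ∈ nilradical R, algebraMap R S a = 0 := by
      intro a ha
      rw [nilradical_eq_zero R] at ha
      rw [Ideal.mem_bot.mp ha, map_zero]
    haveI : (nilradical R).IsPrime := by
      rw [nilradical_eq_zero R]
      exact Ideal.bot_prime
    haveI hdom : IsDomain (R ⧸ nilradical R) := Ideal.Quotient.isDomain _
    haveI : IsLocalRing (R ⧸ nilradical R) :=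
      IsLocalRing.of_surjective' (Ideal.Quotient.mk _) Ideal.Quotient.mk_surjective
    letI : Algebra (R ⧸ nilradical R) S :=
      (Ideal.Quotient.lift (nilradical R) (algebraMap R S) hI).toAlgebra
    obtain ⟨hlh, hH⟩ := isStrictHenselization_of_surjective R S (R ⧸ nilradical R) S
      (Ideal.Quotient.mk _) Ideal.Quotient.mk_surjective (RingHom.id S) Function.surjective_id
      (fun r => rfl) hker
    obtain ⟨hloc, hPI⟩ := isLocalRing_and_PIcond_of_isDomain (R ⧸ nilradical R) S
    exact ⟨hred, ⟨hdom, hloc⟩, hPI⟩

/-- S2135 -/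
theorem geomUnibranch_iff_hasUniqueMinimalPrime (A Ash : Type u) [CommRing A] [IsLocalRing A]
    [CommRing Ash] [IsLocalRing Ash] [Algebra A Ash] [IsLocalHom (algebraMap A Ash)]
    [Hensel.IsStrictHenselization A Ash] :
    CAlg2.IsGeomUnibranch A ↔ CAlgX.HasUniqueMinimalPrime Ash := by
  rw [hasUniqueMinimalPrime_iff, isGeomUnibranch_iff]
  have hnil : (nilradical A).map (algebraMap A Ash) = nilradical Ash :=
    HFlat.nilradical_map_of_isHenselization_or A Ash (Or.inr inferInstance)
  have hne : nilradical A ≠ ⊤ := by
    intro h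
    have h1 : (1 : A) ∈ nilradical A := h ▸ Submodule.mem_top
    obtain ⟨n, hn⟩ := mem_nilradical.mp h1
    rw [one_pow] at hn
    exact one_ne_zero hn
  letI : Algebra (A ⧸ nilradical A) (Ash ⧸ (nilradical A).map (algebraMap A Ash)) :=
    (Ideal.quotientMap ((nilradical A).map (algebraMap A Ash)) (algebraMap A Ash)
      Ideal.le_comap_map).toAlgebra
  have hJ : (nilradical A).map (algebraMap A Ash) ≠ ⊤ := by
    have h1 : (nilradical A).map (algebraMap A Ash) ≤ maximalIdeal Ash := by
      rw [Ideal.map_le_iff_le_comap, IsLocalRing.maximalIdeal_comap]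
      exact IsLocalRing.le_maximalIdeal hne
    intro htop
    rw [htop] at h1
    exact (maximalIdeal.isMaximal Ash).ne_top (top_le_iff.mp h1)
  haveI : Nontrivial (A ⧸ nilradical A) := Ideal.Quotient.nontrivial_iff.mpr hne
  haveI : Nontrivial (Ash ⧸ (nilradical A).map (algebraMap A Ash)) :=
    Ideal.Quotient.nontrivial_iff.mpr hJ
  haveI hlR : IsLocalRing (A ⧸ nilradical A) :=
    IsLocalRing.of_surjective' (Ideal.Quotient.mk _) Ideal.Quotient.mk_surjective
  haveI hlS : IsLocalRing (Ash ⧸ (nilradical A).map (algebraMap A Ash)) :=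
    IsLocalRing.of_surjective' (Ideal.Quotient.mk _) Ideal.Quotient.mk_surjective
  obtain ⟨hlh, hH⟩ := isStrictHenselization_of_surjective A Ash (A ⧸ nilradical A)
    (Ash ⧸ (nilradical A).map (algebraMap A Ash))
    (Ideal.Quotient.mk _) Ideal.Quotient.mk_surjective
    (Ideal.Quotient.mk _) Ideal.Quotient.mk_surjective
    (fun r => (Ideal.quotientMap_mk).symm)
    (le_of_eq (by rw [Ideal.mk_ker, Ideal.mk_ker]))
  rw [← hnil, ← Ideal.Quotient.isDomain_iff_prime]
  constructor
  · rintro ⟨⟨hdom, hloc⟩, hPI⟩
    haveI : IsDomain (A ⧸ nilradical A) := hdom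
    haveI : IsLocalRing (integralClosure (A ⧸ nilradical A)
      (FractionRing (A ⧸ nilradical A))) := hloc
    exact isDomain_of_isLocalRing_of_PIcond (A ⧸ nilradical A)
      (Ash ⧸ (nilradical A).map (algebraMap A Ash)) hPI
  · intro hdomS
    haveI hSq : HenselianLocalRing (Ash ⧸ (nilradical A).map (algebraMap A Ash)) :=
      Hensel.IsStrictHenselization.henselian (R := A ⧸ nilradical A)
    have hinj : Function.Injective
        (algebraMap (A ⧸ nilradical A) (Ash ⧸ (nilradical A).map (algebraMap A Ash))) :=
      (HFlat.IsSHensHom.of_isStrictHenselization (A ⧸ nilradical A)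
        (Ash ⧸ (nilradical A).map (algebraMap A Ash))).injective
    haveI hdom : IsDomain (A ⧸ nilradical A) := hinj.isDomain (algebraMap _ _)
    obtain ⟨hloc, hPI⟩ := isLocalRing_and_PIcond_of_isDomain (A ⧸ nilradical A)
      (Ash ⧸ (nilradical A).map (algebraMap A Ash))
    exact ⟨⟨hdom, hloc⟩, hPI⟩

end Groth.Agent.Helper1.UB
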