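import Mathlib
import Groth.Prelude.Def_Hensel
import Groth.Agent.Lib.Helper1.HenselLocal
import Groth.Agent.Lib.Helper1.UB4
import Groth.Agent.Lib.Helper1.SHznUniv

/-!
# Strict henselization of an essentially étale local algebra; geometric unibranchness ascends
-/

set_option autoImplicit false

namespace Groth.Agent.Helper1.GU

open IsLocalRing

universe u

/-- If `T` is a local ring which is a localization of an étale `R`-algebra `B'` (with `R → T`
local), then a strict henselization of `T` is a strict henselization of `R`. -/
theorem isStrictHenselization_of_etale_localization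
    (R B' T Tsh : Type u) [CommRing R] [IsLocalRing R] [CommRing B'] [Algebra R B']
    [Algebra.Etale R B']
    [CommRing T] [IsLocalRing T] [Algebra B' T] [Algebra R T] [IsScalarTower R B' T]
    (M : Submonoid B') [IsLocalization M T] [IsLocalHom (algebraMap R T)]
    [CommRing Tsh] [IsLocalRing Tsh] [Algebra T Tsh] [IsLocalHom (algebraMap T Tsh)]
    [hsh : Hensel.IsStrictHenselization T Tsh]
    [Algebra R Tsh] [IsScalarTower R T Tsh] [IsLocalHom (algebraMap R Tsh)] :
    Hensel.IsStrictHenselization R Tsh := by
  haveI : HenselianLocalRing Tsh := hsh.henselian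
  haveI : Algebra.FormallyUnramified B' T := Algebra.FormallyUnramified.of_isLocalization M
  haveI : Algebra.FormallyUnramified R T := Algebra.FormallyUnramified.comp R B' T
  haveI : Algebra.EssFiniteType B' T := Algebra.EssFiniteType.of_isLocalization T M
  haveI : Algebra.EssFiniteType R T := Algebra.EssFiniteType.comp R B' T
  haveI : Algebra.IsSeparable (ResidueField R) (ResidueField T) := inferInstance
  have hsc : IsSepClosure (ResidueField T) (ResidueField Tsh) := hsh.isSepClosure
  haveI : IsScalarTower (ResidueField R) (ResidueField T) (ResidueField Tsh) := by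
    refine IsScalarTower.of_algebraMap_eq fun x => ?_
    obtain ⟨r, rfl⟩ := IsLocalRing.residue_surjective x
    show ResidueField.map (algebraMap R Tsh) (residue R r) =
      ResidueField.map (algebraMap T Tsh) (ResidueField.map (algebraMap R T) (residue R r))
    rw [ResidueField.map_residue, ResidueField.map_residue, ResidueField.map_residue,
      IsScalarTower.algebraMap_apply R T Tsh]
  have hsep : IsSepClosure (ResidueField R) (ResidueField Tsh) := by
    haveI := hsc.separable
    exact ⟨hsc.sep_closed,
      Algebra.IsSeparable.trans (ResidueField R) (ResidueField T) (ResidueField Tsh)⟩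
  refine ⟨hsh.henselian, hsep, ?_⟩
  intro T' _ _ f _ τ hτ
  letI : Algebra R T' := f.toAlgebra
  have hfalg : ∀ r, algebraMap R T' r = f r := fun _ => rfl
  let ψr : B' →+* ResidueField T' :=
    τ.comp ((residue Tsh).comp ((algebraMap T Tsh).comp (algebraMap B' T)))
  have hψr : ∀ b, ψr b = τ (residue Tsh (algebraMap T Tsh (algebraMap B' T b))) := fun _ => rfl
  have hτ' : ∀ r, τ (residue Tsh (algebraMap R Tsh r)) = residue T' (f r) := by
    intro r
    have := congrArg (fun g => g (residue R r)) hτ
    simpa [ResidueField.map_residue] using this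
  let ψ : B' →ₐ[R] ResidueField T' :=
    { ψr with
      commutes' := fun r => by
        show ψr (algebraMap R B' r) = algebraMap R (ResidueField T') r
        rw [hψr, ← IsScalarTower.algebraMap_apply R B' T, ← IsScalarTower.algebraMap_apply R T Tsh,
          hτ' r]
        rfl }
  have hψ : ∀ b, ψ b = τ (residue Tsh (algebraMap T Tsh (algebraMap B' T b))) := fun _ => rfl
  obtain ⟨h, hh, hhuniq⟩ := Groth.Agent.Helper1.existsUnique_algHom_of_etale (R := R) (S := T') ψ
  -- units
  have hunit_iff : ∀ b : B', IsUnit (h b) ↔ IsUnit (algebraMap B' T b) := by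
    intro b
    rw [← IsLocalRing.notMem_maximalIdeal, ← IsLocalRing.residue_eq_zero_iff, hh b, hψ b]
    rw [map_eq_zero_iff τ τ.injective, IsLocalRing.residue_eq_zero_iff,
      IsLocalRing.notMem_maximalIdeal]
    constructor
    · intro hu
      exact IsLocalHom.map_nonunit _ hu
    · intro hu
      exact hu.map _
  have hM : ∀ m : M, IsUnit (h.toRingHom (m : B')) := fun m =>
    (hunit_iff m).mpr (IsLocalization.map_units T m)
  let h' : T →+* T' := IsLocalization.lift (M := M) (S := T) hM
  have hh' : ∀ b, h' (algebraMap B' T b) = h b := fun b => IsLocalization.lift_eq hM b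
  haveI : IsLocalHom h' := by
    refine ⟨fun t ht => ?_⟩
    obtain ⟨⟨b, m⟩, hbm⟩ := IsLocalization.surj M t
    have h1 : IsUnit (h' (t * algebraMap B' T m)) := by
      rw [map_mul, hh']
      exact ht.mul (hM m)
    rw [hbm, hh', hunit_iff] at h1
    rw [← hbm] at h1
    exact isUnit_of_mul_isUnit_left h1
  have hcompat : τ.comp (ResidueField.map (algebraMap T Tsh)) = ResidueField.map h' := by
    have key : (τ.comp (residue Tsh)).comp (algebraMap T Tsh) = (residue T').comp h' := by
      apply IsLocalization.ringHom_ext M
      refine RingHom.ext fun b => ?_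
      show τ (residue Tsh (algebraMap T Tsh (algebraMap B' T b))) =
        residue T' (h' (algebraMap B' T b))
      rw [hh', hh b, hψ b]
    refine RingHom.ext fun x => ?_
    obtain ⟨t, rfl⟩ := IsLocalRing.residue_surjective x
    show τ (ResidueField.map (algebraMap T Tsh) (residue T t)) = ResidueField.map h' (residue T t)
    rw [ResidueField.map_residue, ResidueField.map_residue]
    exact congrArg (fun g => g t) key
  obtain ⟨g, ⟨hg1, hg2⟩, hguniq⟩ := hsh.universal T' h' τ hcompat
  have hg1' : ∀ t, g (algebraMap T Tsh t) = h' t := fun t => congrArg (fun k => k t) hg1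
  refine ⟨g, ⟨?_, hg2⟩, ?_⟩
  · refine RingHom.ext fun r => ?_
    show g (algebraMap R Tsh r) = f r
    rw [IsScalarTower.algebraMap_apply R T Tsh, hg1', IsScalarTower.algebraMap_apply R B' T, hh',
      h.commutes, hfalg]
  · rintro g' ⟨hg'1, hg'2⟩
    have hg'1' : ∀ r, g' (algebraMap R Tsh r) = f r := fun r => congrArg (fun k => k r) hg'1
    apply hguniq
    refine ⟨?_, hg'2⟩
    apply IsLocalization.ringHom_ext M
    let h₂ : B' →ₐ[R] T' :=
      { (g'.comp (algebraMap T Tsh)).comp (algebraMap B' T) with
        commutes' := fun r => by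
          show g' (algebraMap T Tsh (algebraMap B' T (algebraMap R B' r))) = algebraMap R T' r
          rw [← IsScalarTower.algebraMap_apply R B' T, ← IsScalarTower.algebraMap_apply R T Tsh,
            hg'1', hfalg] }
    have h₂eq : h₂ = h := by
      apply hhuniq
      intro a
      show residue T' (g' (algebraMap T Tsh (algebraMap B' T a))) = ψ a
      rw [hg'2, hψ]
    refine RingHom.ext fun b => ?_
    show g' (algebraMap T Tsh (algebraMap B' T b)) = h' (algebraMap B' T b)
    rw [hh', ← h₂eq]
    rfl

/-- Geometric unibranchness ascends along essentially étale local homomorphisms. -/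
theorem isGeomUnibranch_of_etale_localization
    (R B' T : Type u) [CommRing R] [IsLocalRing R] [CommRing B'] [Algebra R B']
    [Algebra.Etale R B']
    [CommRing T] [IsLocalRing T] [Algebra B' T] [Algebra R T] [IsScalarTower R B' T]
    (M : Submonoid B') [IsLocalization M T] [IsLocalHom (algebraMap R T)]
    (hR : CAlg2.IsGeomUnibranch R) : CAlg2.IsGeomUnibranch T := by
  haveI := SHzn.isStrictHenselization T
  letI : Algebra R (SHzn.S T) := ((algebraMap T (SHzn.S T)).comp (algebraMap R T)).toAlgebra
  haveI : IsScalarTower R T (SHzn.S T) := IsScalarTower.of_algebraMap_eq' rfl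
  haveI : IsLocalHom (algebraMap R (SHzn.S T)) := by
    show IsLocalHom ((algebraMap T (SHzn.S T)).comp (algebraMap R T))
    infer_instance
  haveI := isStrictHenselization_of_etale_localization R B' T (SHzn.S T) M
  exact (UB.geomUnibranch_iff_hasUniqueMinimalPrime T (SHzn.S T)).mpr
    ((UB.geomUnibranch_iff_hasUniqueMinimalPrime R (SHzn.S T)).mp hR)

end Groth.Agent.Helper1.GU
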