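import Mathlib
import Groth.Agent.Lib.Helper1.GU2

/-!
# Essentially étale local algebras over geometrically unibranch domains are domains
-/

set_option autoImplicit false

namespace Groth.Agent.Helper1.GU

open IsLocalRing TensorProduct

universe u

/-- An étale algebra over a domain is reduced. -/
theorem isReduced_of_etale_of_isDomain (R B' : Type u) [CommRing R] [IsDomain R] [CommRing B']
    [Algebra R B'] [Algebra.Etale R B'] : IsReduced B' := by
  haveI : Module.Flat R B' := inferInstance
  haveI : Algebra.FormallyUnramified (FractionRing R) (FractionRing R ⊗[R] B') := inferInstance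
  haveI : Algebra.EssFiniteType (FractionRing R) (FractionRing R ⊗[R] B') := inferInstance
  haveI : IsReduced (FractionRing R ⊗[R] B') :=
    Algebra.FormallyUnramified.isReduced_of_field (FractionRing R) (FractionRing R ⊗[R] B')
  have hinj : Function.Injective
      (Algebra.TensorProduct.includeRight : B' →ₐ[R] FractionRing R ⊗[R] B') :=
    Algebra.TensorProduct.includeRight_injective (IsFractionRing.injective R (FractionRing R))
  exact isReduced_of_injective _ hinj

/-- A local ring which is a localization of an étale algebra over a geometrically unibranch
local domain is a domain. -/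
theorem isDomain_of_etale_localization
    (R B' T : Type u) [CommRing R] [IsLocalRing R] [IsDomain R] [CommRing B'] [Algebra R B']
    [Algebra.Etale R B']
    [CommRing T] [IsLocalRing T] [Algebra B' T] [Algebra R T] [IsScalarTower R B' T]
    (M : Submonoid B') [IsLocalization M T] [IsLocalHom (algebraMap R T)]
    (hR : CAlg2.IsGeomUnibranch R) : IsDomain T := by
  have hT := isGeomUnibranch_of_etale_localization R B' T M hR
  have hprime : (nilradical T).IsPrime := (Ideal.Quotient.isDomain_iff_prime _).mp hT.1.1
  haveI : IsReduced B' := isReduced_of_etale_of_isDomain R B'
  haveI : IsReduced T := isReduced_localizationPreserves M T inferInstance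
  have h0 : nilradical T = ⊥ := nilradical_eq_zero T
  rw [h0] at hprime
  exact IsDomain.of_bot_isPrime T

end Groth.Agent.Helper1.GU
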