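import Mathlib
import Groth.Prelude.Def_Hensel
import Groth.Agent.Lib.Helper1.HznTerm
import Groth.Agent.Lib.Helper1.HenselLocal

/-!
# Sections of henselian local algebras over separable residue extensions, and the maximal ideal of
a strict henselization
-/

set_option autoImplicit false

namespace Groth.Agent.Helper1.SHzn

universe u

open Polynomial IsLocalRing Groth.Agent.Helper1.Hzn
open scoped IntermediateField

/-- quotient of a henselian local ring by a proper ideal -/
theorem henselianLocalRing_quotient {S : Type u} [CommRing S] [HenselianLocalRing S] (I : Ideal S)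
    (hI : I ≤ maximalIdeal S) :
    HenselianLocalRing (S ⧸ I) ∧ IsLocalHom (Ideal.Quotient.mk I) := by
  have hloc : IsLocalHom (Ideal.Quotient.mk I) :=
    isLocalHom_of_le_jacobson_bot _ (by rw [jacobson_bot_eq]; exact hI)
  have hnt : Nontrivial (S ⧸ I) :=
    Ideal.Quotient.nontrivial_iff.mpr
      (fun h => (maximalIdeal.isMaximal S).ne_top (top_le_iff.mp (h ▸ hI)))
  have hlr : IsLocalRing (S ⧸ I) :=
    IsLocalRing.of_surjective' (Ideal.Quotient.mk I) Ideal.Quotient.mk_surjective
  refine ⟨{ toIsLocalRing := hlr, is_henselian := ?_ }, hloc⟩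
  intro F hF a₀ h1 h2
  obtain ⟨n, c', rfl⟩ := exists_eq_mpoly hF
  choose c hc using fun j => Ideal.Quotient.mk_surjective (c' j)
  obtain rfl : (fun j => Ideal.Quotient.mk I (c j)) = c' := funext hc
  obtain ⟨a, rfl⟩ := Ideal.Quotient.mk_surjective a₀
  have hm : mpoly n (fun j => Ideal.Quotient.mk I (c j)) =
      (mpoly n c).map (Ideal.Quotient.mk I) := (mpoly_map _ _ _).symm
  rw [hm, ← map_eval'] at h1
  rw [hm, ← map_derivative_eval'] at h2
  have h1' : (mpoly n c).eval a ∈ maximalIdeal S := by
    by_contra h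
    have hu : IsUnit ((mpoly n c).eval a) := by
      rw [mem_maximalIdeal, mem_nonunits_iff, not_not] at h; exact h
    exact (mem_maximalIdeal _).mp h1 (hu.map _)
  have h2' : IsUnit ((mpoly n c).derivative.eval a) :=
    isUnit_of_map_unit (Ideal.Quotient.mk I) _ h2
  obtain ⟨b, hb, hb'⟩ := HenselianLocalRing.is_henselian (mpoly n c) (mpoly_monic _ _) a h1' h2'
  refine ⟨Ideal.Quotient.mk I b, ?_, ?_⟩
  · rw [IsRoot.def, hm, ← map_eval', hb.eq_zero, map_zero]
  · rw [← map_sub]
    exact map_nonunit (Ideal.Quotient.mk I) _ hb'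

section Sigma

variable {k Q K : Type u} [Field k] [CommRing Q] [HenselianLocalRing Q] [Algebra k Q]
  [Field K] [Algebra k K] (ρ : Q →ₐ[k] K) (hsurj : Function.Surjective ρ)

include hsurj in
theorem ker_eq_maximalIdeal : RingHom.ker ρ.toRingHom = maximalIdeal Q := by
  have : (RingHom.ker ρ.toRingHom).IsMaximal :=
    RingHom.ker_isMaximal_of_surjective ρ.toRingHom hsurj
  exact IsLocalRing.eq_maximalIdeal this

include hsurj in
theorem apply_eq_zero_iff (q : Q) : ρ q = 0 ↔ q ∈ maximalIdeal Q := by
  rw [← ker_eq_maximalIdeal ρ hsurj]; rfl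

include hsurj in
/-- unique lifting of maps from étale algebras along a surjection onto the residue field -/
theorem existsUnique_lift {A : Type u} [CommRing A] [Algebra k A] [Algebra.Etale k A]
    (ψ : A →ₐ[k] K) : ∃! f : A →ₐ[k] Q, ∀ a, ρ (f a) = ψ a := by
  have hker : ∀ a ∈ maximalIdeal Q, ρ a = 0 := fun a ha =>
    (apply_eq_zero_iff ρ hsurj a).mpr ha
  let ebar : ResidueField Q →ₐ[k] K := Ideal.Quotient.liftₐ (maximalIdeal Q) ρ hker
  have hebar : ∀ q, ebar (residue Q q) = ρ q := fun q => rfl
  have hbij : Function.Bijective ebar :=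
    ⟨ebar.toRingHom.injective, fun y => by
      obtain ⟨q, rfl⟩ := hsurj y; exact ⟨residue Q q, hebar q⟩⟩
  let E : ResidueField Q ≃ₐ[k] K := AlgEquiv.ofBijective ebar hbij
  have hE : ∀ q, E (residue Q q) = ρ q := hebar
  obtain ⟨f, hf, huniq⟩ :=
    existsUnique_algHom_of_etale (R := k) (S := Q) (E.symm.toAlgHom.comp ψ)
  refine ⟨f, fun a => ?_, fun g hg => huniq g fun a => ?_⟩
  · have h := hf a
    rw [← hE, h]
    exact E.apply_symm_apply _
  · apply E.injective
    rw [hE, hg a]
    exact (E.apply_symm_apply _).symm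

variable [Algebra.IsSeparable k K]

theorem etale_of_finiteDimensional (L : IntermediateField k K) [FiniteDimensional k L] :
    Algebra.Etale k L := by
  have h1 : Algebra.IsSeparable k L := Algebra.isSeparable_tower_bot_of_isSeparable k L K
  have h2 : Algebra.FormallyEtale k L := Algebra.FormallyEtale.of_isSeparable k L
  have h3 : Algebra.FinitePresentation k L :=
    Algebra.FinitePresentation.of_finiteType.mp inferInstance
  exact {}

include hsurj in
theorem existsUnique_lift_intermediateField (L : IntermediateField k K) [FiniteDimensional k L] :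
    ∃! f : L →ₐ[k] Q, ∀ a : L, ρ (f a) = (a : K) := by
  have := etale_of_finiteDimensional (k := k) (K := K) L
  exact existsUnique_lift ρ hsurj L.val

/-- the lift on a finite subextension -/
noncomputable def σL (L : IntermediateField k K) [FiniteDimensional k L] : L →ₐ[k] Q :=
  (existsUnique_lift_intermediateField ρ hsurj L).exists.choose

theorem σL_spec (L : IntermediateField k K) [FiniteDimensional k L] (a : L) :
    ρ (σL ρ hsurj L a) = (a : K) :=
  (existsUnique_lift_intermediateField ρ hsurj L).exists.choose_spec a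

theorem σL_unique (L : IntermediateField k K) [FiniteDimensional k L] (g : L →ₐ[k] Q)
    (hg : ∀ a : L, ρ (g a) = (a : K)) : g = σL ρ hsurj L :=
  (existsUnique_lift_intermediateField ρ hsurj L).unique hg (σL_spec ρ hsurj L)

theorem σL_compat {L L' : IntermediateField k K} [FiniteDimensional k L]
    [FiniteDimensional k L'] (h : L ≤ L') (a : L) :
    σL ρ hsurj L' (IntermediateField.inclusion h a) = σL ρ hsurj L a := by
  have := σL_unique ρ hsurj L ((σL ρ hsurj L').comp (IntermediateField.inclusion h))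
    (fun a => by rw [AlgHom.comp_apply, σL_spec]; rfl)
  exact congrArg (fun g => g a) this

theorem σL_eq_of_mem {L L' : IntermediateField k K} [FiniteDimensional k L]
    [FiniteDimensional k L'] {x : K} (hx : x ∈ L) (hx' : x ∈ L') :
    σL ρ hsurj L ⟨x, hx⟩ = σL ρ hsurj L' ⟨x, hx'⟩ := by
  have h1 := σL_compat ρ hsurj (le_sup_left : L ≤ L ⊔ L') ⟨x, hx⟩
  have h2 := σL_compat ρ hsurj (le_sup_right : L' ≤ L ⊔ L') ⟨x, hx'⟩
  rw [← h1, ← h2]
  rfl

/-- the value of the section at `x` -/
noncomputable def σval (x : K) : Q :=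
  haveI := IntermediateField.adjoin.finiteDimensional (Algebra.IsSeparable.isIntegral k x)
  σL ρ hsurj k⟮x⟯ ⟨x, IntermediateField.mem_adjoin_simple_self k x⟩

theorem σval_eq (x : K) (L : IntermediateField k K) [FiniteDimensional k L] (hx : x ∈ L) :
    σval ρ hsurj x = σL ρ hsurj L ⟨x, hx⟩ := by
  have := IntermediateField.adjoin.finiteDimensional (Algebra.IsSeparable.isIntegral k x)
  exact σL_eq_of_mem ρ hsurj _ hx

include hsurj in
/-- a henselian local algebra over a field with separable algebraic residue field extension has a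
coefficient field section -/
theorem exists_section : ∃ σ : K →ₐ[k] Q, ∀ α, ρ (σ α) = α := by
  have hfd : ∀ x : K, FiniteDimensional k k⟮x⟯ := fun x =>
    IntermediateField.adjoin.finiteDimensional (Algebra.IsSeparable.isIntegral k x)
  have hadd : ∀ x y, σval ρ hsurj (x + y) = σval ρ hsurj x + σval ρ hsurj y := by
    intro x y
    have := hfd x; have := hfd y
    have hx : x ∈ k⟮x⟯ ⊔ k⟮y⟯ := le_sup_left (a := k⟮x⟯) (IntermediateField.mem_adjoin_simple_self k x)
    have hy : y ∈ k⟮x⟯ ⊔ k⟮y⟯ := le_sup_right (b := k⟮y⟯) (IntermediateField.mem_adjoin_simple_self k y)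
    rw [σval_eq ρ hsurj x _ hx, σval_eq ρ hsurj y _ hy, σval_eq ρ hsurj (x + y) _ (add_mem hx hy),
      ← map_add]
    rfl
  have hmul : ∀ x y, σval ρ hsurj (x * y) = σval ρ hsurj x * σval ρ hsurj y := by
    intro x y
    have := hfd x; have := hfd y
    have hx : x ∈ k⟮x⟯ ⊔ k⟮y⟯ := le_sup_left (a := k⟮x⟯) (IntermediateField.mem_adjoin_simple_self k x)
    have hy : y ∈ k⟮x⟯ ⊔ k⟮y⟯ := le_sup_right (b := k⟮y⟯) (IntermediateField.mem_adjoin_simple_self k y)
    rw [σval_eq ρ hsurj x _ hx, σval_eq ρ hsurj y _ hy, σval_eq ρ hsurj (x * y) _ (mul_mem hx hy),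
      ← map_mul]
    rfl
  have halg : ∀ c : k, σval ρ hsurj (algebraMap k K c) = algebraMap k Q c := by
    intro c
    have := hfd (algebraMap k K c)
    rw [σval_eq ρ hsurj _ k⟮algebraMap k K c⟯ (algebraMap_mem _ c)]
    exact (σL ρ hsurj k⟮algebraMap k K c⟯).commutes c
  have hspec : ∀ x, ρ (σval ρ hsurj x) = x := by
    intro x
    have := hfd x
    exact σL_spec ρ hsurj k⟮x⟯ ⟨x, _⟩
  refine ⟨AlgHom.ofLinearMap
    { toFun := σval ρ hsurj
      map_add' := hadd
      map_smul' := fun c x => by
        rw [RingHom.id_apply, Algebra.smul_def, Algebra.smul_def, hmul, halg] } ?_ hmul, hspec⟩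
  have := halg 1
  rwa [map_one, map_one] at this

end Sigma

end Groth.Agent.Helper1.SHzn
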