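import Mathlib
import Groth.Prelude.Def_Hensel
import Groth.Agent.Lib.Helper1.SHznSection

/-!
# The maximal ideal of a strict henselization is generated by the maximal ideal of the base
-/

set_option autoImplicit false

namespace Groth.Agent.Helper1.SHzn

universe u

open Polynomial IsLocalRing Groth.Agent.Helper1.Hzn

variable (R : Type u) [CommRing R] [IsLocalRing R]
  (S₁ : Type u) [CommRing S₁] [IsLocalRing S₁] [Algebra R S₁] [IsLocalHom (algebraMap R S₁)]
  [Hensel.IsStrictHenselization R S₁]

theorem map_maximalIdeal_eq_of_isStrictHenselization :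
    Ideal.map (algebraMap R S₁) (maximalIdeal R) = maximalIdeal S₁ := by
  have hS₁ : HenselianLocalRing S₁ := Hensel.IsStrictHenselization.henselian (R := R)
  have hsc : IsSepClosure (ResidueField R) (ResidueField S₁) :=
    Hensel.IsStrictHenselization.isSepClosure
  have hsep : Algebra.IsSeparable (ResidueField R) (ResidueField S₁) := hsc.separable
  have hle0 : Ideal.map (algebraMap R S₁) (maximalIdeal R) ≤ maximalIdeal S₁ :=
    map_maximalIdeal_le _
  generalize hI : Ideal.map (algebraMap R S₁) (maximalIdeal R) = I at hle0 ⊢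
  have hle : I ≤ maximalIdeal S₁ := hle0
  apply le_antisymm hle
  obtain ⟨hQ, hπloc⟩ := henselianLocalRing_quotient I hle
  let π : S₁ →+* S₁ ⧸ I := Ideal.Quotient.mk I
  let κ' : ResidueField R →+* S₁ ⧸ I :=
    Ideal.Quotient.lift (maximalIdeal R) (π.comp (algebraMap R S₁))
      (fun r hr => Ideal.Quotient.eq_zero_iff_mem.mpr (hI ▸ Ideal.mem_map_of_mem _ hr))
  let _ : Algebra (ResidueField R) (S₁ ⧸ I) := κ'.toAlgebra
  have hκ' : ∀ r, algebraMap (ResidueField R) (S₁ ⧸ I) (residue R r) = π (algebraMap R S₁ r) :=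
    fun r => rfl
  let ρ₀ : S₁ ⧸ I →+* ResidueField S₁ :=
    Ideal.Quotient.lift I (residue S₁) (fun x hx => (residue_eq_zero_iff x).mpr (hle hx))
  have hρ₀ : ∀ x, ρ₀ (π x) = residue S₁ x := fun x => rfl
  have hcomm : ∀ c : ResidueField R, ρ₀ (algebraMap (ResidueField R) (S₁ ⧸ I) c) =
      algebraMap (ResidueField R) (ResidueField S₁) c := by
    intro c
    obtain ⟨r, rfl⟩ := residue_surjective c
    rw [hκ', hρ₀]
    rfl
  let ρ' : S₁ ⧸ I →ₐ[ResidueField R] ResidueField S₁ := { ρ₀ with commutes' := hcomm }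
  have hρ' : ∀ x, ρ' (π x) = residue S₁ x := fun x => rfl
  have hsurj : Function.Surjective ρ' := by
    intro y
    obtain ⟨x, rfl⟩ := residue_surjective y
    exact ⟨π x, hρ' x⟩
  obtain ⟨σ, hσ⟩ := exists_section ρ' hsurj
  have hfloc : IsLocalHom (π.comp (algebraMap R S₁)) := inferInstance
  obtain ⟨g, -, hguniq⟩ := Hensel.IsStrictHenselization.universal (R := R) (S := S₁) (S₁ ⧸ I)
    (π.comp (algebraMap R S₁)) (ResidueField.map π) (by rw [← ResidueField.map_comp])
  have h1 : π = g := hguniq π ⟨rfl, fun x => (ResidueField.map_residue π x).symm⟩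
  have h2 : σ.toRingHom.comp (residue S₁) = g := by
    refine hguniq _ ⟨?_, ?_⟩
    · refine RingHom.ext fun r => ?_
      show σ (residue S₁ (algebraMap R S₁ r)) = π (algebraMap R S₁ r)
      rw [← ResidueField.algebraMap_residue, σ.commutes, hκ']
    · intro x
      show residue _ (σ (residue S₁ x)) = ResidueField.map π (residue S₁ x)
      rw [ResidueField.map_residue, ← sub_eq_zero, ← map_sub, residue_eq_zero_iff,
        ← apply_eq_zero_iff ρ' hsurj, map_sub, hσ, sub_eq_zero]
      exact (hρ' x).symm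
  intro x hx
  have h3 : π x = σ (residue S₁ x) := by
    rw [h1, ← h2]; rfl
  rw [(residue_eq_zero_iff x).mpr hx, map_zero] at h3
  exact Ideal.Quotient.eq_zero_iff_mem.mp h3

end Groth.Agent.Helper1.SHzn
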