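import Groth.Agent.Lib.Helper1.HFlat10
import Groth.Agent.Lib.Helper1.SHznMax
import Groth.Agent.Lib.Helper1.SHznTerm

/-!
# Strict henselizations: adjoining simple roots, and the decomposition
`R → R' → Rˢʰ` of a strict henselization into an ind-(finite étale local) extension followed by a
henselization
-/

set_option autoImplicit false

namespace Groth.Agent.Helper1.HFlat

open Polynomial IsLocalRing

universe u

section Generic

variable {B : Type u} [CommRing B] [IsLocalRing B] {Λ : Type u} (p : Λ → B[X]) {K : Type u}
  [Field K] (φ : Q p →+* K)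

theorem ringKrullDim_Loc_le (hp : ∀ l, (p l).Monic) : ringKrullDim (Loc p φ) ≤ ringKrullDim B := by
  refine (ringKrullDim_Loc_le_Q p φ).trans ?_
  have h := isIntegral_Q p hp
  refine Order.krullDim_le_of_strictMono
    (fun P : PrimeSpectrum (Q p) => PrimeSpectrum.comap (algebraMap B (Q p)) P) ?_
  intro P P' hPP'
  have hlt : P.asIdeal < P'.asIdeal := (PrimeSpectrum.asIdeal_lt_asIdeal P P').mpr hPP'
  obtain ⟨x, hxQ, hxP⟩ := SetLike.exists_of_lt hlt
  have h' := Ideal.comap_lt_comap_of_integral_mem_sdiff (R := B) (I := P.asIdeal)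
    (J := P'.asIdeal) hlt.le ⟨hxQ, hxP⟩ (h.isIntegral x)
  rw [← PrimeSpectrum.asIdeal_lt_asIdeal]
  exact h'

variable {T : Type u} [CommRing T] [IsLocalRing T] {g : B →+* T} {β : Λ → T}
  (hβ : ∀ l, (p l).eval₂ g (β l) = 0)
  (hker : ∀ x, φ x = 0 ↔ liftQ p g β hβ x ∈ maximalIdeal T)

theorem range_liftLoc_le (U : Subring T) (hU : ∀ x ∈ U, IsUnit x → ∃ y ∈ U, x * y = 1)
    (h1 : g.range ≤ U) (h2 : ∀ l, β l ∈ U) :
    RingHom.range (R := Loc p φ) (liftLoc p φ hβ hker) ≤ U := by
  have hQ : ∀ a : Q p, liftQ p g β hβ a ∈ U := by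
    intro a
    obtain ⟨P, rfl⟩ := Ideal.Quotient.mk_surjective a
    induction P using MvPolynomial.induction_on with
    | C b =>
      have : liftQ p g β hβ (Ideal.Quotient.mk _ (MvPolynomial.C b)) = g b := liftQ_algebraMap _ b
      rw [this]
      exact h1 ⟨b, rfl⟩
    | add f₁ f₂ hf₁ hf₂ =>
      rw [map_add, map_add]
      exact Subring.add_mem _ hf₁ hf₂
    | mul_X f₁ l hf₁ =>
      rw [map_mul, map_mul]
      refine Subring.mul_mem _ hf₁ ?_
      have : liftQ p g β hβ (Ideal.Quotient.mk _ (MvPolynomial.X l)) = β l := liftQ_qX _ l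
      rw [this]
      exact h2 l
  rintro _ ⟨x, rfl⟩
  obtain ⟨a, s, rfl⟩ := IsLocalization.exists_mk'_eq (RingHom.ker φ).primeCompl x
  have e1 := IsLocalization.mk'_spec (Loc p φ) a s
  have e2 := congrArg (liftLoc p φ hβ hker) e1
  rw [map_mul] at e2
  have e3 : liftLoc p φ hβ hker (algebraMap (Q p) (Loc p φ) a) = liftQ p g β hβ a := by
    rw [liftLoc, IsLocalization.lift_eq]
  have e4 : liftLoc p φ hβ hker (algebraMap (Q p) (Loc p φ) (s : Q p)) = liftQ p g β hβ s := by
    rw [liftLoc, IsLocalization.lift_eq]
  rw [e3, e4] at e2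
  have hsu : IsUnit (liftQ p g β hβ s) := isUnit_liftQ p φ hβ hker s
  obtain ⟨y, hyU, hy⟩ := hU _ (hQ s) hsu
  have e5 : liftLoc p φ hβ hker (IsLocalization.mk' (Loc p φ) a s) = liftQ p g β hβ a * y := by
    rw [← e2, mul_assoc, hy, mul_one]
  rw [e5]
  exact Subring.mul_mem _ (hQ a) hyU

end Generic

section SStep

variable {E S : Type u} [CommRing E] [IsLocalRing E] [CommRing S] [IsLocalRing S]
  (φ : E →+* S)

/-- separable root data: a monic polynomial over `E` together with a simple root in `S` -/
def SData : Type u :=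
  {x : E[X] × S // x.1.Monic ∧ (x.1.map φ).IsRoot x.2 ∧
    IsUnit ((x.1.map φ).derivative.eval x.2)}

variable {φ} {Λ : Type u} (d : Λ → SData φ)

/-- the polynomial of a datum -/
def spoly : Λ → E[X] := fun l => (d l).1.1

/-- the root of a datum -/
def sval : Λ → S := fun l => (d l).1.2

theorem spoly_monic (l : Λ) : (spoly d l).Monic := (d l).2.1

theorem spoly_isRoot (l : Λ) : ((spoly d l).map φ).IsRoot (sval d l) := (d l).2.2.1

theorem spoly_isUnit (l : Λ) : IsUnit (((spoly d l).map φ).derivative.eval (sval d l)) :=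
  (d l).2.2.2

theorem spoly_eval₂ (l : Λ) : (spoly d l).eval₂ φ (sval d l) = 0 := by
  have := spoly_isRoot d l
  rwa [Polynomial.IsRoot, Polynomial.eval_map] at this

theorem spoly_natDegree_ne_zero (l : Λ) : (spoly d l).natDegree ≠ 0 := by
  intro h0
  have h1 : spoly d l = 1 := Polynomial.eq_one_of_monic_natDegree_zero (spoly_monic d l) h0
  have h2 := spoly_eval₂ d l
  rw [h1, Polynomial.eval₂_one] at h2
  exact one_ne_zero h2

/-- the residue map on `Q` -/
noncomputable def sψ : Q (spoly d) →+* ResidueField S :=
  (residue S).comp (liftQ (spoly d) φ (sval d) (spoly_eval₂ d))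

/-- adjoin the roots of the data and localize at the prime below the maximal ideal of `S` -/
abbrev SNext : Type u := Loc (spoly d) (sψ d)

theorem hker_SNext (x : Q (spoly d)) :
    sψ d x = 0 ↔ liftQ (spoly d) φ (sval d) (spoly_eval₂ d) x ∈ maximalIdeal S := by
  unfold sψ
  rw [RingHom.comp_apply, residue_eq_zero_iff]

/-- the canonical map to `S` -/
noncomputable def liftSNext : SNext d →+* S :=
  liftLoc (spoly d) (sψ d) (spoly_eval₂ d) (hker_SNext d)

theorem liftSNext_algebraMap (b : E) : liftSNext d (algebraMap E (SNext d) b) = φ b :=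
  liftLoc_algebraMap _ _ _ _ b

theorem liftSNext_comp : (liftSNext d).comp (algebraMap E (SNext d)) = φ := by
  ext b
  exact liftSNext_algebraMap d b

/-- the adjoined roots -/
noncomputable def snroot (l : Λ) : SNext d := root (spoly d) (sψ d) l

theorem liftSNext_snroot (l : Λ) : liftSNext d (snroot d l) = sval d l :=
  liftLoc_root _ _ _ _ l

instance isLocalHom_liftSNext : IsLocalHom (liftSNext d) := isLocalHom_liftLoc _ _ _ _

theorem snroot_isRoot (l : Λ) :
    ((spoly d l).map (algebraMap E (SNext d))).IsRoot (snroot d l) := by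
  rw [Polynomial.IsRoot, Polynomial.eval_map_algebraMap]
  exact aeval_root (spoly d) (sψ d) l

theorem flat_SNext : Module.Flat E (SNext d) :=
  flat_Loc (spoly d) (sψ d) (spoly_monic d) (spoly_natDegree_ne_zero d)

instance isLocalHom_algebraMap_SNext [IsLocalHom φ] : IsLocalHom (algebraMap E (SNext d)) :=
  isLocalHom_algebraMap_Loc (spoly d) (sψ d) (fun b hb => by
    unfold sψ
    rw [RingHom.comp_apply, liftQ_algebraMap, residue_eq_zero_iff]
    exact map_mem_maximalIdeal φ hb)

theorem ringKrullDim_SNext_le : ringKrullDim (SNext d) ≤ ringKrullDim E :=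
  ringKrullDim_Loc_le (spoly d) (sψ d) (spoly_monic d)

theorem range_le_range_liftSNext : φ.range ≤ RingHom.range (R := SNext d) (liftSNext d) := by
  rintro _ ⟨e, rfl⟩
  exact ⟨algebraMap E (SNext d) e, liftSNext_algebraMap d e⟩

theorem range_liftSNext_le (U : Subring S) (hU : ∀ x ∈ U, IsUnit x → ∃ y ∈ U, x * y = 1)
    (h1 : φ.range ≤ U) (h2 : ∀ l, sval d l ∈ U) :
    RingHom.range (R := SNext d) (liftSNext d) ≤ U :=
  range_liftLoc_le (spoly d) (sψ d) (spoly_eval₂ d) (hker_SNext d) U hU h1 h2

end SStep

/-- `φ` exhibits the henselian local ring `S` as a strict henselization of `E` -/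
structure IsSHensHom {E S : Type u} [CommRing E] [IsLocalRing E] [CommRing S]
    [HenselianLocalRing S] (φ : E →+* S) : Prop where
  isLocalHom : IsLocalHom φ
  map_maximalIdeal : (maximalIdeal E).map φ = maximalIdeal S
  sep : ∀ s : S, ∃ δ : SData φ, s - δ.1.2 ∈ maximalIdeal S
  universal : ∀ (T : Type u) [CommRing T] [HenselianLocalRing T] (f : E →+* T),
    IsLocalHom f → ∀ τ : ResidueField S →+* ResidueField T,
    (∀ e : E, τ (residue S (φ e)) = residue T (f e)) →
    ∃! g : S →+* T, g.comp φ = f ∧ ∀ x : S, residue T (g x) = τ (residue S x)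

theorem IsSHensHom.of_isStrictHenselization (R S : Type u) [CommRing R] [IsLocalRing R]
    [CommRing S] [HenselianLocalRing S] [Algebra R S] [IsLocalHom (algebraMap R S)]
    [Hensel.IsStrictHenselization R S] : IsSHensHom (algebraMap R S) := by
  refine ⟨inferInstance, SHzn.map_maximalIdeal_eq_of_isStrictHenselization R S, ?_, ?_⟩
  · intro s
    have hsc : IsSepClosure (ResidueField R) (ResidueField S) :=
      Hensel.IsStrictHenselization.isSepClosure
    have hsep : Algebra.IsSeparable (ResidueField R) (ResidueField S) := hsc.separable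
    obtain ⟨x, hx⟩ : ∃ x, x = residue S s := ⟨_, rfl⟩
    have hxs : IsSeparable (ResidueField R) x := Algebra.IsSeparable.isSeparable _ x
    have hint : IsIntegral (ResidueField R) x := hxs.isIntegral
    have hm : (minpoly (ResidueField R) x).Monic := minpoly.monic hint
    obtain ⟨p, hpm, -, hpmonic⟩ := Polynomial.lifts_and_natDegree_eq_and_monic
      (Polynomial.map_surjective (residue R) residue_surjective (minpoly (ResidueField R) x)) hm
    have hcomp : (residue S).comp (algebraMap R S) =
        (algebraMap (ResidueField R) (ResidueField S)).comp (residue R) := by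
      ext r
      exact (ResidueField.map_residue (algebraMap R S) r).symm
    have hq : ((p.map (algebraMap R S)).map (residue S)) =
        (minpoly (ResidueField R) x).map (algebraMap (ResidueField R) (ResidueField S)) := by
      rw [Polynomial.map_map, hcomp, ← Polynomial.map_map, hpm]
    have h1 : ((p.map (algebraMap R S)).map (residue S)).eval x = 0 := by
      rw [hq, Polynomial.eval_map_algebraMap, minpoly.aeval]
    have h2 : ((p.map (algebraMap R S)).map (residue S)).derivative.eval x ≠ 0 := by
      rw [hq, Polynomial.derivative_map, Polynomial.eval_map_algebraMap]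
      exact hxs.aeval_derivative_ne_zero (minpoly.aeval _ _)
    obtain ⟨h3, h4⟩ := SHzn.sroot_spec (hpmonic.map (algebraMap R S)) h1 h2
    refine ⟨⟨(p, SHzn.sroot (p.map (algebraMap R S)) x), hpmonic, h3, ?_⟩, ?_⟩
    · show IsUnit ((p.map (algebraMap R S)).derivative.eval
        (SHzn.sroot (p.map (algebraMap R S)) x))
      rw [← residue_ne_zero_iff_isUnit, ← SHzn.derivative_eval_map_residue, h4]
      exact h2
    · show s - SHzn.sroot (p.map (algebraMap R S)) x ∈ maximalIdeal S
      rw [← residue_eq_zero_iff, map_sub, h4, hx, sub_self]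
  · intro T _ _ f hf τ hτ
    haveI := hf
    apply Hensel.IsStrictHenselization.universal (R := R) (S := S) T f τ
    apply RingHom.ext
    intro y
    obtain ⟨r, rfl⟩ := residue_surjective y
    rw [RingHom.comp_apply, ResidueField.map_residue, ResidueField.map_residue]
    exact hτ r

section Basic

variable {E S : Type u} [CommRing E] [IsLocalRing E] [CommRing S] [HenselianLocalRing S]
  {φ : E →+* S}

theorem IsSHensHom.isLocalHom_of_comp (h : IsSHensHom φ) {T : Type u} [CommRing T]
    [IsLocalRing T] (g : S →+* T) (hg : IsLocalHom (g.comp φ)) : IsLocalHom g := by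
  constructor
  intro s hs
  by_contra hsu
  have h1 : s ∈ maximalIdeal S := (IsLocalRing.mem_maximalIdeal s).mpr hsu
  rw [← h.map_maximalIdeal] at h1
  have h2 : g s ∈ ((maximalIdeal E).map φ).map g := Ideal.mem_map_of_mem g h1
  rw [Ideal.map_map] at h2
  have h3 : (maximalIdeal E).map (g.comp φ) ≤ maximalIdeal T := by
    rw [Ideal.map_le_iff_le_comap]
    intro x hx
    rw [Ideal.mem_comap]
    rw [IsLocalRing.mem_maximalIdeal] at hx ⊢
    exact (map_mem_nonunits_iff (g.comp φ) x).mpr hx
  exact (IsLocalRing.mem_maximalIdeal _).mp (h3 h2) hs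

theorem IsSHensHom.step (h : IsSHensHom φ) {Λ : Type u} (d : Λ → SData φ) :
    IsSHensHom (E := SNext d) (liftSNext d) := by
  haveI := h.isLocalHom
  have hcomp := liftSNext_comp d
  refine ⟨inferInstance, ?_, ?_, ?_⟩
  · apply le_antisymm
    · rw [Ideal.map_le_iff_le_comap]
      intro x hx
      rw [Ideal.mem_comap]
      exact map_mem_maximalIdeal (B := SNext d) (liftSNext d) hx
    · have h1 : (maximalIdeal E).map φ =
          ((maximalIdeal E).map (algebraMap E (SNext d))).map (liftSNext d) := by
        rw [Ideal.map_map, hcomp]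
      rw [← h.map_maximalIdeal, h1]
      apply Ideal.map_mono
      rw [Ideal.map_le_iff_le_comap]
      intro x hx
      rw [Ideal.mem_comap]
      exact map_mem_maximalIdeal (T := SNext d) (algebraMap E (SNext d)) hx
  · intro s
    obtain ⟨δ, hδ⟩ := h.sep s
    have hmap : (δ.1.1.map (algebraMap E (SNext d))).map (liftSNext d) = δ.1.1.map φ := by
      rw [Polynomial.map_map, hcomp]
    refine ⟨⟨(δ.1.1.map (algebraMap E (SNext d)), δ.1.2), δ.2.1.map _, ?_, ?_⟩, hδ⟩
    · show ((δ.1.1.map (algebraMap E (SNext d))).map (liftSNext d)).IsRoot δ.1.2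
      rw [hmap]
      exact δ.2.2.1
    · show IsUnit (((δ.1.1.map (algebraMap E (SNext d))).map (liftSNext d)).derivative.eval δ.1.2)
      rw [hmap]
      exact δ.2.2.2
  · intro T _ _ f hf τ hτ
    haveI := hf
    have hf0 : IsLocalHom (f.comp (algebraMap E (SNext d))) := RingHom.isLocalHom_comp f _
    have hτ0 : ∀ e : E, τ (residue S (φ e)) =
        residue T ((f.comp (algebraMap E (SNext d))) e) := by
      intro e
      have := hτ (algebraMap E (SNext d) e)
      rwa [liftSNext_algebraMap] at this
    obtain ⟨g, ⟨hg1, hg2⟩, huniq⟩ := h.universal T (f.comp (algebraMap E (SNext d))) hf0 τ hτ0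
    have hg1' : g.comp φ = f.comp (algebraMap E (SNext d)) := hg1
    have hg2' : ∀ x : S, residue T (g x) = τ (residue S x) := hg2
    refine ⟨g, ⟨?_, hg2'⟩, ?_⟩
    · show g.comp (liftSNext d) = f
      apply IsLocalization.ringHom_ext (RingHom.ker (sψ d)).primeCompl
      apply Q_ringHom_ext
      · intro b
        simp only [RingHom.comp_apply]
        rw [← IsScalarTower.algebraMap_apply E (Q (spoly d)) (SNext d), liftSNext_algebraMap]
        exact RingHom.congr_fun hg1' b
      · intro l
        simp only [RingHom.comp_apply]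
        show g (liftSNext d (snroot d l)) = f (snroot d l)
        rw [liftSNext_snroot]
        have hu : IsUnit (((spoly d l).map (f.comp (algebraMap E (SNext d)))).derivative.eval
            (g (sval d l))) := by
          rw [← hg1', ← Polynomial.map_map, ← Hzn.map_derivative_eval']
          exact (spoly_isUnit d l).map g
        apply Hzn.root_unique hu
        · have h1 := (spoly_isRoot d l).map (f := g)
          rwa [Polynomial.map_map, hg1'] at h1
        · rw [sub_self]
          exact Ideal.zero_mem _
        · have h1 := (snroot_isRoot d l).map (f := f)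
          rwa [Polynomial.map_map] at h1
        · rw [← residue_eq_zero_iff, map_sub, hg2', ← hτ, liftSNext_snroot, sub_self]
    · intro g' hg'
      have hg'1 : g'.comp (liftSNext d) = f := hg'.1
      have hg'2 : ∀ x : S, residue T (g' x) = τ (residue S x) := hg'.2
      refine huniq g' ⟨?_, hg'2⟩
      show g'.comp φ = f.comp (algebraMap E (SNext d))
      have h1 : g'.comp φ = (g'.comp (liftSNext d)).comp (algebraMap E (SNext d)) := by
        rw [RingHom.comp_assoc, hcomp]
      rw [h1, hg'1]

theorem IsSHensHom.exists_sub_mem_all (h : IsSHensHom φ) (s : S) :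
    ∃ r : SNext (id : SData φ → SData φ), s - liftSNext id r ∈ maximalIdeal S := by
  obtain ⟨δ, hδ⟩ := h.sep s
  refine ⟨snroot id δ, ?_⟩
  rw [liftSNext_snroot]
  exact hδ

/-- **decomposition**: a strict henselization of `E` is the henselization of the local ring obtained
from `E` by adjoining all simple roots of monic polynomials -/
theorem IsSHensHom.isHensHom_all (h : IsSHensHom φ) :
    IsHensHom (E := SNext (id : SData φ → SData φ)) (liftSNext id) := by
  have hs := h.step (id : SData φ → SData φ)
  refine ⟨inferInstance, ?_⟩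
  intro T _ _ f hf
  haveI := hf
  have hbij : Function.Bijective
      (ResidueField.map (R := SNext (id : SData φ → SData φ)) (liftSNext id)) := by
    refine ⟨RingHom.injective _, ?_⟩
    intro y
    obtain ⟨s, rfl⟩ := residue_surjective y
    obtain ⟨r, hr⟩ := h.exists_sub_mem_all s
    refine ⟨residue _ r, ?_⟩
    rw [ResidueField.map_residue]
    symm
    rw [← sub_eq_zero, ← map_sub, residue_eq_zero_iff]
    exact hr
  let e := RingEquiv.ofBijective _ hbij
  let τ : ResidueField S →+* ResidueField T := (ResidueField.map f).comp e.symm.toRingHom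
  have hτ : ∀ r, τ (residue S (liftSNext id r)) = residue T (f r) := by
    intro r
    show ResidueField.map f (e.symm (residue S (liftSNext id r))) = residue T (f r)
    have h1 : e.symm (residue S (liftSNext id r)) = residue _ r := by
      rw [RingEquiv.symm_apply_eq]
      show residue S (liftSNext id r) =
        ResidueField.map (R := SNext (id : SData φ → SData φ)) (liftSNext id) (residue _ r)
      rw [ResidueField.map_residue]
    rw [h1, ResidueField.map_residue]
  obtain ⟨g, ⟨hg1, hg2⟩, huniq⟩ := hs.universal T f hf τ hτ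
  have hg1' : g.comp (liftSNext id) = f := hg1
  refine ⟨g, hg1', ?_⟩
  intro g' hg'
  have hg'' : g'.comp (liftSNext id) = f := hg'
  refine huniq g' ⟨hg'', fun x => ?_⟩
  obtain ⟨r, hr⟩ := h.exists_sub_mem_all x
  haveI hg'loc : IsLocalHom g' := hs.isLocalHom_of_comp g' (by rw [hg'']; exact hf)
  have h1 : g' (x - liftSNext id r) ∈ maximalIdeal T := map_mem_maximalIdeal g' hr
  have h2 : residue T (g' x) = residue T (g' (liftSNext id r)) := by
    rw [← sub_eq_zero, ← map_sub, ← map_sub, residue_eq_zero_iff]
    exact h1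
  have h3 : residue S x = residue S (liftSNext id r) := by
    rw [← sub_eq_zero, ← map_sub, residue_eq_zero_iff]
    exact hr
  rw [h2, h3, hτ]
  exact congrArg (residue T) (RingHom.congr_fun hg'' r)

theorem IsSHensHom.faithfullyFlat (h : IsSHensHom φ) :
    letI := φ.toAlgebra; Module.FaithfullyFlat E S := by
  letI := φ.toAlgebra
  haveI := h.isLocalHom
  have h1 : Module.Flat E (SNext (id : SData φ → SData φ)) := flat_SNext id
  have h2 := h.isHensHom_all.faithfullyFlat
  letI : Algebra (SNext (id : SData φ → SData φ)) S := (liftSNext id).toAlgebra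
  haveI : IsScalarTower E (SNext (id : SData φ → SData φ)) S :=
    IsScalarTower.of_algebraMap_eq (fun x => (liftSNext_algebraMap id x).symm)
  haveI : Module.FaithfullyFlat (SNext (id : SData φ → SData φ)) S := h2
  haveI : Module.Flat (SNext (id : SData φ → SData φ)) S := h2.toFlat
  haveI : Module.Flat E S := Module.Flat.trans E (SNext (id : SData φ → SData φ)) S
  haveI : IsLocalHom (algebraMap E S) := h.isLocalHom
  exact Module.FaithfullyFlat.of_flat_of_isLocalHom

theorem IsSHensHom.comap_map (h : IsSHensHom φ) (I : Ideal E) : (I.map φ).comap φ = I := by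
  letI := φ.toAlgebra
  haveI := h.faithfullyFlat
  exact Ideal.comap_map_eq_self_of_faithfullyFlat I

theorem IsSHensHom.injective (h : IsSHensHom φ) : Function.Injective φ := by
  rw [injective_iff_map_eq_zero]
  intro x hx
  have h1 : x ∈ ((⊥ : Ideal E).map φ).comap φ := by
    rw [Ideal.mem_comap, hx]
    exact Ideal.zero_mem _
  rw [h.comap_map] at h1
  exact (Ideal.mem_bot).mp h1

theorem IsSHensHom.comap_maximalIdeal (h : IsSHensHom φ) :
    (maximalIdeal S).comap φ = maximalIdeal E := by
  rw [← h.map_maximalIdeal, h.comap_map]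

theorem IsSHensHom.ringKrullDim_eq (h : IsSHensHom φ) : ringKrullDim S = ringKrullDim E := by
  haveI := h.isLocalHom
  apply le_antisymm
  · letI : Algebra (SNext (id : SData φ → SData φ)) S := (liftSNext id).toAlgebra
    haveI : IsLocalHom (algebraMap (SNext (id : SData φ → SData φ)) S) :=
      isLocalHom_liftSNext id
    haveI : Hensel.IsHenselization (SNext (id : SData φ → SData φ)) S :=
      ⟨inferInstance, h.isHensHom_all.universal⟩
    rw [ringKrullDim_eq_of_isHenselization (SNext (id : SData φ → SData φ)) S]
    exact ringKrullDim_SNext_le id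
  · letI := φ.toAlgebra
    haveI := h.faithfullyFlat
    haveI : IsLocalHom (algebraMap E S) := h.isLocalHom
    exact Groth.Agent.Helper15.ringKrullDim_le_of_flat_of_isLocalHom E S

end Basic

theorem faithfullyFlat_of_isStrictHenselization (R : Type u) [CommRing R] [IsLocalRing R]
    (S : Type u) [CommRing S] [IsLocalRing S] [Algebra R S] [IsLocalHom (algebraMap R S)]
    [Hensel.IsStrictHenselization R S] : Module.FaithfullyFlat R S := by
  haveI hS : HenselianLocalRing S := Hensel.IsStrictHenselization.henselian (R := R)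
  have h := (IsSHensHom.of_isStrictHenselization R S).faithfullyFlat
  have e : (algebraMap R S).toAlgebra = ‹Algebra R S› := Algebra.algebra_ext _ _ (fun _ => rfl)
  rwa [e] at h

theorem ringKrullDim_eq_of_isStrictHenselization (R : Type u) [CommRing R] [IsLocalRing R]
    (S : Type u) [CommRing S] [IsLocalRing S] [Algebra R S] [IsLocalHom (algebraMap R S)]
    [Hensel.IsStrictHenselization R S] : ringKrullDim S = ringKrullDim R := by
  haveI hS : HenselianLocalRing S := Hensel.IsStrictHenselization.henselian (R := R)
  exact (IsSHensHom.of_isStrictHenselization R S).ringKrullDim_eq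

end Groth.Agent.Helper1.HFlat
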