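import Groth.Agent.Lib.Helper1.HPIdem
import Mathlib.RingTheory.ZariskisMainTheorem
import Mathlib.RingTheory.Unramified.LocalStructure
import Mathlib.RingTheory.Etale.StandardEtale

set_option autoImplicit false

/-! # Henselian pairs and sections of étale algebras -/

namespace Groth.Agent.Helper1

open Polynomial

universe u v

set_option backward.isDefEq.respectTransparency false in
/-- A variant of `ZariskisMainProperty.exists_fg_and_exists_notMem_and_awayMap_bijective` with an
explicit element. -/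
lemma exists_fg_and_awayMap_bijective_of_isIntegral {R : Type*} {S : Type*} [CommRing R]
    [CommRing S] [Algebra R S] [Algebra.FiniteType R S] (r : S) (hr : IsIntegral R r)
    (H : ∀ x, ∃ m, IsIntegral R (r ^ m * x)) :
    ∃ S' : Subalgebra R S, S'.toSubmodule.FG ∧ ∃ r' : S',
      r'.1 = r ∧ Function.Bijective (Localization.awayMap S'.val.toRingHom r') := by
  obtain ⟨s, hs⟩ := Algebra.FiniteType.out (R := R) (A := S)
  choose m hm using H
  let t := insert r { r ^ m x * x | x ∈ s }
  let r' : Algebra.adjoin R t := ⟨r, Algebra.subset_adjoin (by simp [t])⟩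
  refine ⟨Algebra.adjoin R t, fg_adjoin_of_finite ?_ ?_, ?_⟩
  · simp only [t, Set.finite_insert]
    exact s.finite_toSet.image (fun x ↦ r ^ m x * x)
  · rintro a (rfl | ⟨x, hx, rfl⟩); exacts [hr, hm _]
  refine ⟨r', rfl,
    IsLocalization.map_injective_of_injective _ _ _ Subtype.val_injective, ?_⟩
  have : (IsScalarTower.toAlgHom R S _).range ≤
      (Localization.awayMapₐ (Algebra.adjoin R t).val r').range := by
    rw [← Algebra.map_top, ← hs, Subalgebra.map_le, Algebra.adjoin_le_iff]
    intro x hx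
    suffices ∃ a ∈ Algebra.adjoin R t, ∃ n, r ^ n ∈ Algebra.adjoin R t ∧
        ∃ k, r ^ k * a = r ^ k * (x * r ^ n) by
      simpa [(IsLocalization.mk'_surjective (.powers r')).exists,
        (IsLocalization.mk'_surjective (.powers r)).forall, Localization.awayMapₐ,
        IsLocalization.Away.map, IsLocalization.map_mk', Submonoid.mem_powers_iff,
        Subtype.ext_iff, IsLocalization.mk'_eq_iff_eq_mul, ← map_mul, ← map_pow,
        IsLocalization.eq_iff_exists (.powers r), Subalgebra.val]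
    exact ⟨_, Algebra.subset_adjoin (Set.mem_insert_of_mem _ ⟨x, hx, mul_comm _ _⟩),
      m x, pow_mem r'.2 _, 1, rfl⟩
  intro x
  obtain ⟨x, ⟨_, n, rfl⟩, rfl⟩ := IsLocalization.exists_mk'_eq
    (.powers ((Algebra.adjoin R t).val.toRingHom r')) x
  obtain ⟨y, hy : Localization.awayMap _ _ _ = _⟩ := this ⟨x, rfl⟩
  refine ⟨y * Localization.Away.invSelf _ ^ n, ?_⟩
  simp only [map_mul, map_pow, hy]
  simp [Localization.Away.invSelf, Localization.awayMap, ← Algebra.smul_def,
    IsLocalization.Away.map, IsLocalization.map_mk', Localization.mk_eq_mk',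
    ← IsLocalization.mk'_pow]

/-- The elements `r` integral over `R` such that every element becomes integral after
multiplication by a power of `r`. -/
def zmtSubmodule (R S : Type*) [CommRing R] [CommRing S] [Algebra R S] : Submodule R S where
  carrier := {r | IsIntegral R r ∧ ∀ x, ∃ m, IsIntegral R (r ^ m * x)}
  zero_mem' := ⟨isIntegral_zero, fun x ↦ ⟨1, by simpa using isIntegral_zero⟩⟩
  add_mem' := by
    rintro r s ⟨hr, Hr⟩ ⟨hs, Hs⟩
    refine ⟨hr.add hs, fun x ↦ ?_⟩
    obtain ⟨m₁, h₁⟩ := Hr x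
    obtain ⟨m₂, h₂⟩ := Hs x
    refine ⟨m₁ + m₂, ?_⟩
    rw [add_pow, Finset.sum_mul]
    refine IsIntegral.sum _ fun j hj ↦ ?_
    by_cases hjm : m₁ ≤ j
    · have : r ^ j * s ^ (m₁ + m₂ - j) * ((m₁ + m₂).choose j : S) * x =
          r ^ (j - m₁) * s ^ (m₁ + m₂ - j) * ((m₁ + m₂).choose j : S) * (r ^ m₁ * x) := by
        rw [← Nat.sub_add_cancel hjm, pow_add, Nat.add_sub_cancel]; ring
      rw [this]
      exact (((hr.pow _).mul (hs.pow _)).mul (isIntegral_natCast _)).mul h₁
    · have hle : m₂ ≤ m₁ + m₂ - j := by omega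
      have : r ^ j * s ^ (m₁ + m₂ - j) * ((m₁ + m₂).choose j : S) * x =
          r ^ j * s ^ (m₁ + m₂ - j - m₂) * ((m₁ + m₂).choose j : S) * (s ^ m₂ * x) := by
        rw [← Nat.sub_add_cancel hle, pow_add, Nat.add_sub_cancel]; ring
      rw [this]
      exact (((hr.pow _).mul (hs.pow _)).mul (isIntegral_natCast _)).mul h₂
  smul_mem' := by
    rintro a r ⟨hr, Hr⟩
    refine ⟨hr.smul a, fun x ↦ ?_⟩
    obtain ⟨m, hm⟩ := Hr x
    refine ⟨m, ?_⟩
    rw [smul_pow, smul_mul_assoc]
    exact hm.smul _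

lemma mem_zmtSubmodule {R S : Type*} [CommRing R] [CommRing S] [Algebra R S] {r : S} :
    r ∈ zmtSubmodule R S ↔ IsIntegral R r ∧ ∀ x, ∃ m, IsIntegral R (r ^ m * x) := Iff.rfl

/-- For a quasi-finite algebra of finite type `A'` over `A` with an `A`-algebra map `σ` to `A/I`,
there is a global Zariski main theorem element `b` with `σ b = 1`. -/
theorem exists_mem_zmtSubmodule_map_eq_one {A : Type u} [CommRing A] {I : Ideal A}
    {A' : Type v} [CommRing A'] [Algebra A A'] [Algebra.FiniteType A A']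
    [Algebra.QuasiFinite A A'] (σ : A' →ₐ[A] A ⧸ I) :
    ∃ b ∈ zmtSubmodule A A', σ b = 1 := by
  let c : Ideal (A ⧸ I) :=
    { carrier := σ '' (zmtSubmodule A A')
      zero_mem' := ⟨0, Submodule.zero_mem _, map_zero _⟩
      add_mem' := by
        rintro _ _ ⟨x, hx, rfl⟩ ⟨y, hy, rfl⟩
        exact ⟨x + y, Submodule.add_mem _ hx hy, map_add _ _ _⟩
      smul_mem' := by
        rintro a _ ⟨x, hx, rfl⟩
        obtain ⟨a, rfl⟩ := Ideal.Quotient.mk_surjective a
        refine ⟨a • x, Submodule.smul_mem _ _ hx, ?_⟩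
        rw [map_smul, Algebra.smul_def]
        rfl }
  have hc : c = ⊤ := by
    by_contra hne
    obtain ⟨M, hM, hcM⟩ := Ideal.exists_le_maximal c hne
    let q : Ideal A' := M.comap σ.toRingHom
    have hq : q.IsPrime := Ideal.IsPrime.comap _
    obtain ⟨r, hrq, hr, Hr⟩ := Algebra.zariskisMainProperty_iff.mp
      (Algebra.ZariskisMainProperty.of_finiteType (R := A) q)
    exact hrq (hcM ⟨r, ⟨hr, Hr⟩, rfl⟩)
  have h1 : (1 : A ⧸ I) ∈ c := hc ▸ Submodule.mem_top
  obtain ⟨b, hb, hb1⟩ := h1
  exact ⟨b, hb, hb1⟩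

/-- Over a henselian pair, sections of étale algebras modulo `I` lift. -/
theorem exists_algHom_lift_of_etale {A : Type u} [CommRing A] {I : Ideal A}
    (hG : GabberProp A I) (A' : Type v) [CommRing A'] [Algebra A A'] [Algebra.Etale A A']
    (σ : A' →ₐ[A] A ⧸ I) :
    ∃ τ : A' →ₐ[A] A, (Ideal.Quotient.mkₐ A I).comp τ = σ := by
  obtain ⟨b, ⟨hbint, Hb⟩, hσb⟩ := exists_mem_zmtSubmodule_map_eq_one σ
  obtain ⟨S', hfg, r', hr', hbij⟩ := exists_fg_and_awayMap_bijective_of_isIntegral b hbint Hb
  have hfin : Module.Finite A S' := ⟨(Submodule.fg_top _).mpr hfg⟩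
  let E : Localization.Away r' ≃ₐ[A] Localization.Away (S'.val r') :=
    AlgEquiv.ofBijective (Localization.awayMapₐ S'.val r') hbij
  have het : Algebra.Etale A (Localization.Away (S'.val r')) :=
    Algebra.Etale.comp A A' _
  have het' : Algebra.Etale A (Localization.Away r') := Algebra.Etale.of_equiv E.symm
  have hunit : IsUnit (σ (S'.val r')) := by
    have : S'.val r' = b := hr'
    rw [this, hσb]
    exact isUnit_one
  let σloc : Localization.Away (S'.val r') →ₐ[A] A ⧸ I :=
    IsLocalization.Away.liftAlgHom (S'.val r') (f := σ) hunit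
  have hσloc : ∀ x : A', σloc (algebraMap A' _ x) = σ x := fun x ↦
    IsLocalization.Away.lift_eq (S'.val r') hunit x
  obtain ⟨τ'', hτ''⟩ := exists_algHom_lift_of_etale_away hG S' r' (Localization.Away r')
    (σloc.comp E.toAlgHom)
  refine ⟨τ''.comp ((E.symm : _ →ₐ[A] _).comp
    (IsScalarTower.toAlgHom A A' (Localization.Away (S'.val r')))), ?_⟩
  apply AlgHom.ext
  intro x
  have := DFunLike.congr_fun hτ'' (E.symm (algebraMap A' (Localization.Away (S'.val r')) x))
  simp only [AlgHom.comp_apply] at this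
  change Ideal.Quotient.mkₐ A I (τ'' (E.symm (algebraMap A' _ x))) = σ x
  rw [this]
  change σloc (E (E.symm _)) = _
  rw [AlgEquiv.apply_symm_apply, hσloc]

/-- If sections of étale algebras modulo `I` lift, then `(A, I)` is henselian. -/
theorem henselianRing_of_etale_lift {A : Type u} [CommRing A] {I : Ideal A}
    (H : ∀ (A' : Type u) [CommRing A'] [Algebra A A'] [Algebra.Etale A A']
      (σ : A' →ₐ[A] A ⧸ I), ∃ τ : A' →ₐ[A] A, (Ideal.Quotient.mkₐ A I).comp τ = σ) :
    HenselianRing A I := by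
  refine ⟨fun x hx ↦ ?_, fun f hf a₀ ha₀ hder ↦ ?_⟩
  · rw [Ideal.mem_jacobson_bot]
    intro y
    set u := x * y + 1 with hu
    have hmk : Ideal.Quotient.mk I u = 1 := by
      rw [hu, map_add, map_one, Ideal.Quotient.eq_zero_iff_mem.mpr (I.mul_mem_right y hx),
        zero_add]
    have hunit : IsUnit ((Ideal.Quotient.mkₐ A I) u) := by
      change IsUnit (Ideal.Quotient.mk I u)
      rw [hmk]; exact isUnit_one
    let σ : Localization.Away u →ₐ[A] A ⧸ I :=
      IsLocalization.Away.liftAlgHom u (f := Ideal.Quotient.mkₐ A I) hunit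
    obtain ⟨τ, -⟩ := H (Localization.Away u) σ
    have h1 : IsUnit (algebraMap A (Localization.Away u) u) :=
      IsLocalization.Away.algebraMap_isUnit u
    have h2 := h1.map τ
    rwa [AlgHom.commutes] at h2
  · let P : StandardEtalePair A := ⟨f, hf, derivative f, ⟨1, 0, 1, by ring⟩⟩
    have hmap : P.HasMap (Ideal.Quotient.mk I a₀) := by
      constructor
      · change aeval (Ideal.Quotient.mk I a₀) f = 0
        rw [← Ideal.Quotient.mkₐ_eq_mk A, aeval_algHom_apply, coe_aeval_eq_eval]
        exact Ideal.Quotient.eq_zero_iff_mem.mpr ha₀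
      · change IsUnit (aeval (Ideal.Quotient.mk I a₀) (derivative f))
        rw [← Ideal.Quotient.mkₐ_eq_mk A, aeval_algHom_apply, coe_aeval_eq_eval]
        exact hder
    obtain ⟨τ, hτ⟩ := H P.Ring (P.lift _ hmap)
    have hroot := (P.hasMap_X.map τ).1
    refine ⟨τ P.X, ?_, ?_⟩
    · change aeval (τ P.X) f = 0 at hroot
      rw [IsRoot.def, ← coe_aeval_eq_eval]
      exact hroot
    · have h1 := DFunLike.congr_fun hτ P.X
      rw [P.lift_X] at h1
      rw [← Ideal.Quotient.eq_zero_iff_mem, map_sub, sub_eq_zero]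
      exact h1

end Groth.Agent.Helper1
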