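import Groth.Agent.Lib.Helper1.HPEtale

set_option autoImplicit false

/-! # Maps from étale algebras to finite algebras over a henselian pair -/

namespace Groth.Agent.Helper1

open Polynomial TensorProduct

universe u v w

/-- An integral algebra over a henselian pair is henselian along the extended ideal. -/
theorem henselianRing_map_of_isIntegral {A : Type u} [CommRing A] {I : Ideal A}
    (hG : GabberProp A I) (B : Type u) [CommRing B] [Algebra A B] [Algebra.IsIntegral A B] :
    HenselianRing B (Ideal.map (algebraMap A B) I) := by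
  apply henselianRing_of_bijOn_finite
  intro C _ _ hCfin
  let _ : Algebra A C := ((algebraMap B C).comp (algebraMap A B)).toAlgebra
  have : IsScalarTower A B C := .of_algebraMap_eq fun _ ↦ rfl
  have : Algebra.IsIntegral A C := Algebra.IsIntegral.trans B
  have hmap : Ideal.map (algebraMap B C) (Ideal.map (algebraMap A B) I) =
      Ideal.map (algebraMap A C) I := by
    rw [Ideal.map_map, ← IsScalarTower.algebraMap_eq]
  rw [hmap]
  exact bijOn_isIdempotentElem_of_isIntegral hG C

/-- Two maps from an unramified algebra to an integral algebra that agree modulo an ideal in the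
Jacobson radical are equal. -/
theorem algHom_ext_of_unramified_of_le_jacobson {A : Type*} [CommRing A] {I : Ideal A}
    (hI : I ≤ Ideal.jacobson ⊥) {B₁ : Type*} [CommRing B₁] [Algebra A B₁]
    [Algebra.EssFiniteType A B₁] [Algebra.FormallyUnramified A B₁]
    {T : Type*} [CommRing T] [Algebra A T] [Algebra.IsIntegral A T]
    (φ φ' : B₁ →ₐ[A] T) (h : ∀ s, φ s - φ' s ∈ I.map (algebraMap A T)) : φ = φ' := by
  obtain ⟨t, ht1, ht2⟩ := (Algebra.FormallyUnramified.iff_exists_tensorProduct (R := A)
    (S := B₁)).mp inferInstance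
  let Φ : B₁ ⊗[A] B₁ →ₐ[A] T := Algebra.TensorProduct.lift φ φ' (fun _ _ ↦ .all _ _)
  have h1 : ∀ s, (φ' s - φ s) * Φ t = 0 := by
    intro s
    have := congrArg Φ (ht1 s)
    rw [map_mul, map_sub, map_zero] at this
    simpa [Φ] using this
  have hJ : I.map (algebraMap A T) ≤ Ideal.jacobson ⊥ := map_le_jacobson_of_isIntegral hI
  have h2 : Φ t - 1 ∈ I.map (algebraMap A T) := by
    rw [← Ideal.Quotient.eq_zero_iff_mem, map_sub, map_one, sub_eq_zero]
    have hcomp : (Ideal.Quotient.mkₐ A (I.map (algebraMap A T))).comp Φ =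
        ((Ideal.Quotient.mkₐ A (I.map (algebraMap A T))).comp φ).comp
          (Algebra.TensorProduct.lmul' A) := by
      apply Algebra.TensorProduct.ext'
      intro a b
      have hb : Ideal.Quotient.mk (I.map (algebraMap A T)) (φ' b) =
          Ideal.Quotient.mk (I.map (algebraMap A T)) (φ b) := by
        rw [← sub_eq_zero, ← map_sub, Ideal.Quotient.eq_zero_iff_mem]
        have := h b
        rw [← neg_sub]
        exact (Ideal.neg_mem_iff _).mpr this
      simp only [Φ, AlgHom.comp_apply, Algebra.TensorProduct.lift_tmul,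
        Algebra.TensorProduct.lmul'_apply_tmul, map_mul, Ideal.Quotient.mkₐ_eq_mk]
      rw [hb]
    have := DFunLike.congr_fun hcomp t
    simp only [AlgHom.comp_apply, ht2, map_one] at this
    exact this
  have hunit := Ideal.isUnit_of_sub_one_mem_jacobson_bot _ (hJ h2)
  apply AlgHom.ext
  intro s
  have := hunit.mul_left_eq_zero.mp (h1 s)
  exact (sub_eq_zero.mp this).symm

/-- Over a henselian pair `(A, I)`, maps from an étale algebra `B₁` to a finite algebra `T`
correspond bijectively to maps from `B₁` to `T / IT`. -/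
theorem bijective_comp_of_finite_of_etale_pair {A : Type u} [CommRing A] {I : Ideal A}
    (hG : GabberProp A I) (B₁ : Type u) [CommRing B₁] [Algebra A B₁] [Algebra.Etale A B₁]
    (T : Type u) [CommRing T] [Algebra A T] [Module.Finite A T]
    (T' : Type w) [CommRing T'] [Algebra A T'] (q : T →ₐ[A] T') (hq : Function.Surjective q)
    (hker : RingHom.ker q.toRingHom = I.map (algebraMap A T)) :
    Function.Bijective (fun f : B₁ →ₐ[A] T ↦ q.comp f) := by
  constructor
  · intro φ φ' h
    apply algHom_ext_of_unramified_of_le_jacobson hG.1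
    intro s
    rw [← hker, RingHom.mem_ker, map_sub, sub_eq_zero]
    exact DFunLike.congr_fun h s
  · intro ψ
    have hT : HenselianRing T (I.map (algebraMap A T)) := henselianRing_map_of_isIntegral hG T
    have hGT : GabberProp T (I.map (algebraMap A T)) := gabberProp_of_henselianRing
    let θ : T' →ₐ[A] T ⧸ I.map (algebraMap A T) :=
      AlgHom.liftOfSurjective q hq (Ideal.Quotient.mkₐ A _) (by
        rw [hker]
        intro x hx
        rw [RingHom.mem_ker]
        exact Ideal.Quotient.eq_zero_iff_mem.mpr hx)
    have hθ : ∀ t, θ (q t) = Ideal.Quotient.mk _ t := fun t ↦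
      AlgHom.liftOfSurjective_apply q hq _ _ t
    have hθinj : Function.Injective θ := by
      rw [injective_iff_map_eq_zero]
      intro t' ht'
      obtain ⟨t, rfl⟩ := hq t'
      rw [hθ, Ideal.Quotient.eq_zero_iff_mem, ← hker] at ht'
      exact ht'
    let σ : T ⊗[A] B₁ →ₐ[T] T ⧸ I.map (algebraMap A T) :=
      Algebra.TensorProduct.lift (Algebra.ofId T _) (θ.comp ψ) (fun _ _ ↦ .all _ _)
    obtain ⟨τ, hτ⟩ := exists_algHom_lift_of_etale hGT (T ⊗[A] B₁) σ
    refine ⟨(τ.restrictScalars A).comp Algebra.TensorProduct.includeRight, ?_⟩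
    apply AlgHom.ext
    intro x
    apply hθinj
    change θ (q (τ ((1 : T) ⊗ₜ[A] x))) = θ (ψ x)
    rw [hθ]
    have := DFunLike.congr_fun hτ ((1 : T) ⊗ₜ[A] x)
    simp only [AlgHom.comp_apply, Ideal.Quotient.mkₐ_eq_mk] at this
    rw [this]
    simp [σ]

end Groth.Agent.Helper1
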