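import Mathlib
import Groth.Agent.Lib.Helper1.GU3

/-!
# Unramified + injective over a geometrically unibranch domain is étale (ring form)
-/

set_option autoImplicit false
set_option linter.style.haveILetI false

open TensorProduct IsLocalRing

universe u

namespace Groth.Agent.Helper1.GU

attribute [local instance] Algebra.TensorProduct.rightAlgebra in
/-- ring-level form: the localization of an étale algebra at a prime, over the localization of
the base at the prime below -/
theorem isGeomUnibranch_atPrime_of_etale {A C : Type u} [CommRing A] [CommRing C] [Algebra A C]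
    [Algebra.Etale A C]
    (p : Ideal A) [p.IsPrime] (q : Ideal C) [q.IsPrime] [hlo : q.LiesOver p]
    (R T : Type u) [CommRing R] [Algebra A R] [IsLocalization.AtPrime R p]
    [CommRing T] [Algebra C T] [IsLocalization.AtPrime T q]
    [Algebra A T] [IsScalarTower A C T] [Algebra R T] [IsScalarTower A R T]
    [IsLocalRing R] [IsLocalRing T] [IsLocalHom (algebraMap R T)]
    (hR : CAlg2.IsGeomUnibranch R) : CAlg2.IsGeomUnibranch T ∧ (IsDomain R → IsDomain T) := by
  let φ : R ⊗[A] C →ₐ[R] T :=
    Algebra.TensorProduct.lift (Algebra.ofId R T) (IsScalarTower.toAlgHom A C T)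
      (fun _ _ => Commute.all _ _)
  letI : Algebra (R ⊗[A] C) T := φ.toRingHom.toAlgebra
  haveI : IsScalarTower R (R ⊗[A] C) T := IsScalarTower.of_algebraMap_eq' φ.comp_algebraMap.symm
  haveI : IsScalarTower C (R ⊗[A] C) T := by
    refine IsScalarTower.of_algebraMap_eq (fun b => ?_)
    show _ = φ (1 ⊗ₜ b)
    simp [φ]
  haveI : IsLocalization (Algebra.algebraMapSubmonoid C p.primeCompl) (R ⊗[A] C) := inferInstance
  have hle : Algebra.algebraMapSubmonoid C p.primeCompl ≤ q.primeCompl := by
    rintro _ ⟨a, ha, rfl⟩ hmem
    apply ha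
    rw [hlo.over]
    exact hmem
  haveI := IsLocalization.isLocalization_of_submonoid_le (R ⊗[A] C) T _ _ hle
  exact ⟨isGeomUnibranch_of_etale_localization R (R ⊗[A] C) T
      (q.primeCompl.map (algebraMap C (R ⊗[A] C))) hR,
    fun hdom => by
      haveI := hdom
      exact isDomain_of_etale_localization R (R ⊗[A] C) T
        (q.primeCompl.map (algebraMap C (R ⊗[A] C))) hR⟩

attribute [local instance] Algebra.TensorProduct.rightAlgebra in
/-- An étale algebra over a domain has finitely many minimal primes. -/
theorem finite_minimalPrimes_of_etale (A C : Type u) [CommRing A] [IsDomain A] [CommRing C]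
    [Algebra A C] [Algebra.Etale A C] : (minimalPrimes C).Finite := by
  haveI : Module.Flat A C := inferInstance
  haveI : Algebra.FormallyUnramified (FractionRing A) (FractionRing A ⊗[A] C) := inferInstance
  haveI : Algebra.EssFiniteType (FractionRing A) (FractionRing A ⊗[A] C) := inferInstance
  haveI : Module.Finite (FractionRing A) (FractionRing A ⊗[A] C) :=
    Algebra.FormallyUnramified.finite_of_free (FractionRing A) (FractionRing A ⊗[A] C)
  haveI : IsArtinianRing (FractionRing A ⊗[A] C) :=
    IsArtinianRing.of_finite (FractionRing A) (FractionRing A ⊗[A] C)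
  haveI : Finite (PrimeSpectrum (FractionRing A ⊗[A] C)) := inferInstance
  haveI : IsLocalization (Algebra.algebraMapSubmonoid C (nonZeroDivisors A))
      (FractionRing A ⊗[A] C) := inferInstance
  haveI : Algebra.HasGoingDown A C := Algebra.HasGoingDown.of_flat
  haveI : (⊥ : Ideal A).IsPrime := Ideal.isPrime_bot
  refine (Set.finite_range (fun Q : PrimeSpectrum (FractionRing A ⊗[A] C) =>
    Q.asIdeal.comap (algebraMap C (FractionRing A ⊗[A] C)))).subset ?_
  intro P hP
  haveI hPprime : P.IsPrime := Ideal.minimalPrimes_isPrime hP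
  have hdisj : Disjoint (Algebra.algebraMapSubmonoid C (nonZeroDivisors A) : Set C) (P : Set C) := by
    rw [Set.disjoint_left]
    rintro _ ⟨a, ha, rfl⟩ haP
    haveI : P.LiesOver (P.under A) := ⟨rfl⟩
    obtain ⟨P', hP'le, hP'prime, hP'over⟩ :=
      Ideal.exists_ideal_le_liesOver_of_le (p := (⊥ : Ideal A)) (q := P.under A) P bot_le
    have hPP' : P ≤ P' := hP.2 ⟨hP'prime, bot_le⟩ hP'le
    have hEq : P' = P := le_antisymm hP'le hPP'
    have hunder : P.under A = ⊥ := by
      rw [← hEq]
      exact (hP'over.over).symm
    have ha0 : a ∈ P.under A := haP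
    rw [hunder, Ideal.mem_bot] at ha0
    exact nonZeroDivisors.ne_zero ha ha0
  refine ⟨⟨P.map (algebraMap C (FractionRing A ⊗[A] C)),
    IsLocalization.isPrime_of_isPrime_disjoint _ (FractionRing A ⊗[A] C) P hPprime hdisj⟩, ?_⟩
  exact IsLocalization.comap_map_of_isPrime_disjoint _ (FractionRing A ⊗[A] C) hPprime hdisj

/-- Every element of an étale algebra over a domain is algebraic over the domain. -/
theorem isAlgebraic_of_etale (A C : Type u) [CommRing A] [IsDomain A] [CommRing C]
    [Algebra A C] [Algebra.Etale A C] (c : C) : IsAlgebraic A c := by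
  haveI : Module.Flat A C := inferInstance
  haveI : Algebra.FormallyUnramified (FractionRing A) (FractionRing A ⊗[A] C) := inferInstance
  haveI : Algebra.EssFiniteType (FractionRing A) (FractionRing A ⊗[A] C) := inferInstance
  haveI : Module.Finite (FractionRing A) (FractionRing A ⊗[A] C) :=
    Algebra.FormallyUnramified.finite_of_free (FractionRing A) (FractionRing A ⊗[A] C)
  have hinj : Function.Injective
      (Algebra.TensorProduct.includeRight : C →ₐ[A] FractionRing A ⊗[A] C) :=
    Algebra.TensorProduct.includeRight_injective (IsFractionRing.injective A (FractionRing A))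
  have h1 : IsAlgebraic (FractionRing A)
      ((Algebra.TensorProduct.includeRight : C →ₐ[A] FractionRing A ⊗[A] C) c) :=
    Algebra.IsAlgebraic.isAlgebraic _
  have h2 : IsAlgebraic A
      ((Algebra.TensorProduct.includeRight : C →ₐ[A] FractionRing A ⊗[A] C) c) :=
    (IsFractionRing.isAlgebraic_iff A (FractionRing A) (FractionRing A ⊗[A] C)).mpr h1
  exact (isAlgebraic_algHom_iff _ hinj).mp h2

end Groth.Agent.Helper1.GU
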