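import Groth.Agent.Lib.Helper1.SH6
import Groth.Agent.Lib.Helper4.HensRk

/-!
# Incomparability and unramifiedness for the strict henselization; Cohen–Macaulay, `(S_k)`, `(R_k)`
-/

set_option autoImplicit false

namespace Groth.Agent.Helper1.HFlat

open IsLocalRing LocCoh Polynomial Groth.Agent.Helper4.HensINC

universe u

theorem adjoin_range_qX' {B : Type u} [CommRing B] {Λ : Type u} (p : Λ → B[X]) :
    Algebra.adjoin B (Set.range (qX p)) = ⊤ := by
  have h := MvPolynomial.adjoin_range_X (R := B) (σ := Λ)
  have hsurj : Function.Surjective (Ideal.Quotient.mkₐ B (relIdeal p)) :=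
    Ideal.Quotient.mkₐ_surjective _ _
  have := congrArg (Subalgebra.map (Ideal.Quotient.mkₐ B (relIdeal p))) h
  rw [Algebra.map_top, (AlgHom.range_eq_top _).mpr hsurj, AlgHom.map_adjoin,
    ← Set.range_comp] at this
  exact this

section OneStep

variable {E S : Type u} [CommRing E] [IsLocalRing E] [CommRing S] [IsLocalRing S]
  {φ : E →+* S} {Λ : Type u} (d : Λ → SData φ)

theorem inc_snext : INC (A := E) (B := SNext d) (algebraMap E (SNext d)) := by
  have h1 : INC (algebraMap E (Q (spoly d))) := by
    haveI := isIntegral_Q (spoly d) (spoly_monic d)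
    exact INC.of_isIntegral _ _
  have h2 : INC (A := Q (spoly d)) (B := SNext d) (algebraMap (Q (spoly d)) (SNext d)) :=
    INC.of_isLocalization (RingHom.ker (sψ d)).primeCompl _
  have := h1.comp h2
  rwa [← IsScalarTower.algebraMap_eq] at this

theorem formallyUnramified_SNext : Algebra.FormallyUnramified E (SNext d) := by
  refine formallyUnramified_of_roots E (Q (spoly d)) (SNext d)
    (RingHom.ker (sψ d)).primeCompl (Set.range (qX (spoly d))) (adjoin_range_qX' _) ?_
  rintro _ ⟨l, rfl⟩
  refine ⟨spoly d l, aeval_qX _ l, ?_⟩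
  have e : liftSNext d (aeval (algebraMap (Q (spoly d)) (SNext d) (qX (spoly d) l))
      (derivative (spoly d l))) = ((spoly d l).map φ).derivative.eval (sval d l) := by
    rw [Polynomial.aeval_def, Polynomial.hom_eval₂, liftSNext_comp]
    show (derivative (spoly d l)).eval₂ φ (liftSNext d (snroot d l)) = _
    rw [liftSNext_snroot, Polynomial.derivative_map, Polynomial.eval_map]
  have hu := spoly_isUnit d l
  rw [← e] at hu
  exact (isUnit_map_iff (liftSNext d) _).mp hu

theorem unr_sext1 (δ : SData φ) : UNR (A := E) (B := SExt1 δ) (algebraMap E (SExt1 δ)) := by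
  haveI : Algebra.FiniteType E (Q (spoly (fun _ : PUnit.{u + 1} => δ))) :=
    Algebra.FiniteType.of_surjective (Ideal.Quotient.mkₐ E _)
      (Ideal.Quotient.mkₐ_surjective _ _)
  haveI : Algebra.EssFiniteType (Q (spoly (fun _ : PUnit.{u + 1} => δ))) (SExt1 δ) :=
    Algebra.EssFiniteType.of_isLocalization _
      (RingHom.ker (sψ (fun _ : PUnit.{u + 1} => δ))).primeCompl
  haveI : Algebra.EssFiniteType E (SExt1 δ) :=
    Algebra.EssFiniteType.comp E (Q (spoly (fun _ : PUnit.{u + 1} => δ))) (SExt1 δ)
  haveI : Algebra.FormallyUnramified E (SExt1 δ) := formallyUnramified_SNext _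
  exact UNR.of_formallyUnramified E (SExt1 δ)

end OneStep

section Good

variable {R S : Type u} [CommRing R] [IsLocalRing R] [CommRing S] [HenselianLocalRing S]
  {ψ : R →+* S}

theorem SGoodMap.exists_INC {E : LocRing.{u}} {φ : E.A →+* S} (hg : SGoodMap ψ E φ) :
    ∃ ι : R →+* E.A, φ.comp ι = ψ ∧ INC ι := by
  induction hg with
  | base => exact ⟨RingHom.id R, RingHom.comp_id _, INC.id R⟩
  | step E φ δ h ih =>
    obtain ⟨ι, hι, hinc⟩ := ih
    refine ⟨(algebraMap E.A (SExt1 δ)).comp ι, ?_, hinc.comp (inc_snext _)⟩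
    rw [← hι]
    ext r
    exact liftSNext_algebraMap _ (ι r)

theorem inc_of_isSHensHom (hψ : IsSHensHom ψ) : INC ψ := by
  intro q q' _ _ hle h
  haveI := hψ.isLocalHom
  refine le_antisymm hle fun x hx => ?_
  obtain ⟨E, φ, hg, e, rfl⟩ := exists_sgood hψ x
  obtain ⟨ι, hι, hinc⟩ := SGoodMap.exists_INC hg
  have h' : (q'.comap φ).comap ι = (q.comap φ).comap ι := by
    rw [Ideal.comap_comap, Ideal.comap_comap, hι, h]
  have := hinc (q.comap φ) (q'.comap φ) (Ideal.comap_mono hle) h'
  have he : e ∈ q.comap φ := hx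
  rw [← this] at he
  exact he

theorem SGoodMap.exists_UNR {E : LocRing.{u}} {φ : E.A →+* S} (hg : SGoodMap ψ E φ) :
    ∃ ι : R →+* E.A, φ.comp ι = ψ ∧ UNR ι := by
  induction hg with
  | base => exact ⟨RingHom.id R, RingHom.comp_id _, UNR.id R⟩
  | step E φ δ h ih =>
    obtain ⟨ι, hι, hunr⟩ := ih
    refine ⟨(algebraMap E.A (SExt1 δ)).comp ι, ?_, hunr.comp (unr_sext1 _)⟩
    rw [← hι]
    ext r
    exact liftSNext_algebraMap _ (ι r)

theorem unr_of_isSHensHom (hψ : IsSHensHom ψ) : UNR ψ := by
  intro q _ x hx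
  haveI := hψ.isLocalHom
  obtain ⟨E, φ, hg, e, rfl⟩ := exists_sgood hψ x
  obtain ⟨ι, hι, hunr⟩ := SGoodMap.exists_UNR hg
  obtain ⟨t, ht, hte⟩ := hunr (q.comap φ) e hx
  refine ⟨φ t, ht, ?_⟩
  rw [← map_mul]
  have := Ideal.mem_map_of_mem φ hte
  rwa [Ideal.map_map, Ideal.comap_comap, hι] at this

end Good

section Top

variable (R S : Type u) [CommRing R] [IsLocalRing R] [CommRing S] [IsLocalRing S] [Algebra R S]
  [IsLocalHom (algebraMap R S)] [Hensel.IsStrictHenselization R S]

theorem inc_of_isStrictHenselization : INC (algebraMap R S) := by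
  haveI hS : HenselianLocalRing S := Hensel.IsStrictHenselization.henselian (R := R)
  exact inc_of_isSHensHom (IsSHensHom.of_isStrictHenselization R S)

theorem unr_of_isStrictHenselization : UNR (algebraMap R S) := by
  haveI hS : HenselianLocalRing S := Hensel.IsStrictHenselization.henselian (R := R)
  exact unr_of_isSHensHom (IsSHensHom.of_isStrictHenselization R S)

variable [IsNoetherianRing R]

theorem isCohenMacaulayLocalRing_iff_of_isStrictHenselization :
    LocCoh.IsCohenMacaulayLocalRing S ↔ LocCoh.IsCohenMacaulayLocalRing R := by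
  haveI : IsNoetherianRing S :=
    (isNoetherianRing_iff_of_isStrictHenselization R S).mp inferInstance
  haveI : Module.FaithfullyFlat R S := faithfullyFlat_of_isStrictHenselization R S
  haveI : Module.Flat R S := inferInstance
  have hmin : maximalIdeal S ∈
      (Ideal.map (algebraMap R S) (maximalIdeal R)).minimalPrimes := by
    rw [SHzn.map_maximalIdeal_eq_of_isStrictHenselization (R := R) (S₁ := S),
      Ideal.minimalPrimes_eq_subsingleton_self]
    exact Set.mem_singleton _
  exact (Groth.Agent.Lead.Depth.isCohenMacaulayLocalRing_of_flat_of_minimal hmin).symm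

theorem hasSk_iff_of_isStrictHenselization (k : ℕ) :
    LocCoh.HasSk k S S ↔ LocCoh.HasSk k R R := by
  haveI := faithfullyFlat_of_isStrictHenselization R S
  haveI : IsNoetherianRing S :=
    (isNoetherianRing_iff_of_isStrictHenselization R S).mp inferInstance
  constructor
  · intro h
    exact (Groth.Agent.Lead.Depth.hasSk_of_faithfullyFlat R S k h).2
  · intro h
    exact hasSk_of_flat_of_INC R S (inc_of_isStrictHenselization R S) k h

theorem hasRk_iff_of_isStrictHenselization (k : ℕ) :
    LocCoh.HasRk k S ↔ LocCoh.HasRk k R := by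
  haveI := faithfullyFlat_of_isStrictHenselization R S
  haveI : IsNoetherianRing S :=
    (isNoetherianRing_iff_of_isStrictHenselization R S).mp inferInstance
  constructor
  · intro h
    exact hasRk_of_faithfullyFlat R S k h
  · intro h
    exact hasRk_of_flat_of_INC_of_UNR R S (inc_of_isStrictHenselization R S)
      (unr_of_isStrictHenselization R S) k h

end Top

end Groth.Agent.Helper1.HFlat
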