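import Groth.Agent.Lib.Helper1.EL3

/-!
# EL4: comparison of strict henselizations under an integral base change (pure algebra)
-/

set_option autoImplicit false
set_option linter.style.haveILetI false

namespace Groth.Agent.Helper1.EL

open IsLocalRing TensorProduct

universe u

/-- residue-compatible ring homs are local -/
lemma isLocalHom_of_residue {S T : Type*} [CommRing S] [IsLocalRing S] [CommRing T]
    [IsLocalRing T] (g : S →+* T) (τ : ResidueField S →+* ResidueField T)
    (h : ∀ x, residue T (g x) = τ (residue S x)) : IsLocalHom g := by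
  constructor
  intro x hx
  by_contra hnu
  have h1 : residue S x = 0 := (residue_eq_zero_iff x).mpr hnu
  have h2 : residue T (g x) = 0 := by rw [h, h1, map_zero]
  exact ((residue_eq_zero_iff _).mp h2) hx

lemma isLocalHom_of_comp' {R S T : Type*} [CommSemiring R] [CommSemiring S] [CommSemiring T]
    (f : R →+* S) (g : S →+* T) (h : IsLocalHom (g.comp f)) : IsLocalHom f := by
  constructor
  intro x hx
  exact h.map_nonunit x (hx.map g)

section Lift

variable {A RS : Type u} [CommRing A] [IsLocalRing A] [CommRing RS] [IsLocalRing RS]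
  [Algebra A RS] [IsLocalHom (algebraMap A RS)] [Hensel.IsStrictHenselization A RS]

lemma algebraMap_residueField_eq :
    algebraMap (ResidueField A) (ResidueField RS) = ResidueField.map (algebraMap A RS) := by
  refine RingHom.ext fun y => ?_
  obtain ⟨a, rfl⟩ := residue_surjective y
  rfl

/-- Maps out of a strict henselization into a strictly henselian local ring exist. -/
theorem exists_map_of_isStrictHenselization (T : Type u) [CommRing T] [HenselianLocalRing T]
    (hT : IsSepClosed (ResidueField T)) (f : A →+* T) [IsLocalHom f] :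
    ∃ (τ : ResidueField RS →+* ResidueField T) (g : RS →+* T),
      τ.comp (ResidueField.map (algebraMap A RS)) = ResidueField.map f ∧
      g.comp (algebraMap A RS) = f ∧ ∀ x, residue T (g x) = τ (residue RS x) := by
  letI : Algebra (ResidueField A) (ResidueField T) := (ResidueField.map f).toAlgebra
  haveI : Algebra.IsSeparable (ResidueField A) (ResidueField RS) :=
    (Hensel.IsStrictHenselization.isSepClosure (R := A) (S := RS)).separable
  haveI := hT
  let τa : ResidueField RS →ₐ[ResidueField A] ResidueField T := IsSepClosed.lift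
  have hτ : τa.toRingHom.comp (ResidueField.map (algebraMap A RS)) = ResidueField.map f := by
    rw [← algebraMap_residueField_eq]
    exact RingHom.ext fun y => τa.commutes y
  obtain ⟨g, ⟨hg1, hg2⟩, -⟩ :=
    Hensel.IsStrictHenselization.universal (R := A) (S := RS) T f τa.toRingHom hτ
  exact ⟨τa.toRingHom, g, hτ, hg1, hg2⟩

/-- Uniqueness of maps out of a strict henselization. -/
theorem map_ext_of_isStrictHenselization (T : Type u) [CommRing T] [HenselianLocalRing T]
    (τ : ResidueField RS →+* ResidueField T) (g₁ g₂ : RS →+* T)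
    (h : g₁.comp (algebraMap A RS) = g₂.comp (algebraMap A RS))
    (h₁ : ∀ x, residue T (g₁ x) = τ (residue RS x))
    (h₂ : ∀ x, residue T (g₂ x) = τ (residue RS x)) : g₁ = g₂ := by
  haveI : IsLocalHom g₂ := isLocalHom_of_residue g₂ τ h₂
  haveI : IsLocalHom (g₂.comp (algebraMap A RS)) := RingHom.isLocalHom_comp _ _
  have hτ : τ.comp (ResidueField.map (algebraMap A RS)) =
      ResidueField.map (g₂.comp (algebraMap A RS)) := by
    refine RingHom.ext fun y => ?_
    obtain ⟨a, rfl⟩ := residue_surjective y
    show τ (residue RS (algebraMap A RS a)) = residue T (g₂ (algebraMap A RS a))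
    rw [h₂]
  obtain ⟨g₀, -, huniq⟩ := Hensel.IsStrictHenselization.universal (R := A) (S := RS) T
    (g₂.comp (algebraMap A RS)) τ hτ
  rw [huniq g₁ ⟨h, h₁⟩, huniq g₂ ⟨rfl, h₂⟩]

end Lift

section Maps

variable {A A' C C' RS RS' RX RX' : Type u}
  [CommRing A] [IsLocalRing A] [CommRing A'] [IsLocalRing A'] [CommRing C] [IsLocalRing C]
  [CommRing C'] [IsLocalRing C']
  [CommRing RS] [IsLocalRing RS] [CommRing RS'] [IsLocalRing RS'] [CommRing RX] [IsLocalRing RX]
  [CommRing RX'] [IsLocalRing RX']
  [Algebra A RS] [IsLocalHom (algebraMap A RS)] [Hensel.IsStrictHenselization A RS]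
  [Algebra A' RS'] [IsLocalHom (algebraMap A' RS')] [Hensel.IsStrictHenselization A' RS']
  [Algebra C RX] [IsLocalHom (algebraMap C RX)] [Hensel.IsStrictHenselization C RX]
  [Algebra C' RX'] [IsLocalHom (algebraMap C' RX')] [Hensel.IsStrictHenselization C' RX']
  (a₁ : A →+* A') [IsLocalHom a₁] (a₂ : A →+* C) [IsLocalHom a₂] (c₁ : C →+* C') [IsLocalHom c₁]
  (c₂ : A' →+* C') [IsLocalHom c₂] (hsq : c₁.comp a₂ = c₂.comp a₁)
  (φ' : RS' →+* RX') [IsLocalHom φ']
  (hφ' : φ'.comp (algebraMap A' RS') = (algebraMap C' RX').comp c₂)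

include hsq hφ' in
/-- Compatible maps between the four strict henselizations. -/
theorem exists_maps :
    ∃ (α : RS →+* RS') (β : RX →+* RX') (γ : RS →+* RX),
      IsLocalHom α ∧ IsLocalHom β ∧ IsLocalHom γ ∧
      α.comp (algebraMap A RS) = (algebraMap A' RS').comp a₁ ∧
      β.comp (algebraMap C RX) = (algebraMap C' RX').comp c₁ ∧
      γ.comp (algebraMap A RS) = (algebraMap C RX).comp a₂ ∧
      β.comp γ = φ'.comp α := by
  haveI hRS' : HenselianLocalRing RS' := Hensel.IsStrictHenselization.henselian (R := A')
  haveI hRX' : HenselianLocalRing RX' := Hensel.IsStrictHenselization.henselian (R := C')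
  haveI hRX : HenselianLocalRing RX := Hensel.IsStrictHenselization.henselian (R := C)
  have sRS' : IsSepClosed (ResidueField RS') :=
    (Hensel.IsStrictHenselization.isSepClosure (R := A') (S := RS')).sep_closed
  have sRX' : IsSepClosed (ResidueField RX') :=
    (Hensel.IsStrictHenselization.isSepClosure (R := C') (S := RX')).sep_closed
  have sRX : IsSepClosed (ResidueField RX) :=
    (Hensel.IsStrictHenselization.isSepClosure (R := C) (S := RX)).sep_closed
  haveI : Algebra.IsSeparable (ResidueField A) (ResidueField RS) :=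
    (Hensel.IsStrictHenselization.isSepClosure (R := A) (S := RS)).separable
  obtain ⟨τS, α, hτS, hα1, hα2⟩ := exists_map_of_isStrictHenselization (A := A) (RS := RS) RS' sRS'
    ((algebraMap A' RS').comp a₁)
  obtain ⟨τX, β, hτX, hβ1, hβ2⟩ := exists_map_of_isStrictHenselization (A := C) (RS := RX) RX' sRX'
    ((algebraMap C' RX').comp c₁)
  have hsq' : ∀ a, c₁ (a₂ a) = c₂ (a₁ a) := fun a => congrArg (fun f : A →+* C' => f a) hsq
  have hφ'' : ∀ a, φ' (algebraMap A' RS' a) = algebraMap C' RX' (c₂ a) := fun a =>
    congrArg (fun f : A' →+* RX' => f a) hφ'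
  have hcompat : ((ResidueField.map φ').comp τS).comp (algebraMap (ResidueField A) (ResidueField RS))
      = τX.comp (ResidueField.map ((algebraMap C RX).comp a₂)) := by
    refine RingHom.ext fun y => ?_
    obtain ⟨a, rfl⟩ := residue_surjective y
    have e1 : τS (residue RS (algebraMap A RS a)) = residue RS' (algebraMap A' RS' (a₁ a)) :=
      congrArg (fun f : ResidueField A →+* ResidueField RS' => f (residue A a)) hτS
    have e2 : τX (residue RX (algebraMap C RX (a₂ a))) =
        residue RX' (algebraMap C' RX' (c₁ (a₂ a))) :=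
      congrArg (fun f : ResidueField C →+* ResidueField RX' => f (residue C (a₂ a))) hτX
    show ResidueField.map φ' (τS (residue RS (algebraMap A RS a))) =
      τX (residue RX (algebraMap C RX (a₂ a)))
    rw [e1, e2, ResidueField.map_residue, hφ'', hsq']
  haveI := sRX
  obtain ⟨τγ, hτγ1, hτγ2⟩ := exists_ringHom_lift (k := ResidueField A) (F := ResidueField RS)
    (K := ResidueField RX) (L := ResidueField RX')
    (ResidueField.map ((algebraMap C RX).comp a₂)) τX ((ResidueField.map φ').comp τS) hcompat
  rw [algebraMap_residueField_eq] at hτγ2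
  obtain ⟨γ, ⟨hγ1, hγ2⟩, -⟩ := Hensel.IsStrictHenselization.universal (R := A) (S := RS) RX
    ((algebraMap C RX).comp a₂) τγ hτγ2
  refine ⟨α, β, γ, isLocalHom_of_residue α τS hα2, isLocalHom_of_residue β τX hβ2,
    isLocalHom_of_residue γ τγ hγ2, hα1, hβ1, hγ1, ?_⟩
  apply map_ext_of_isStrictHenselization (A := A) (RS := RS) RX' ((ResidueField.map φ').comp τS)
  · refine RingHom.ext fun a => ?_
    have hγ1' : γ (algebraMap A RS a) = algebraMap C RX (a₂ a) :=
      congrArg (fun f : A →+* RX => f a) hγ1
    have hβ1' : β (algebraMap C RX (a₂ a)) = algebraMap C' RX' (c₁ (a₂ a)) :=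
      congrArg (fun f : C →+* RX' => f (a₂ a)) hβ1
    have hα1' : α (algebraMap A RS a) = algebraMap A' RS' (a₁ a) :=
      congrArg (fun f : A →+* RS' => f a) hα1
    show β (γ (algebraMap A RS a)) = φ' (α (algebraMap A RS a))
    rw [hγ1', hβ1', hα1', hφ'', hsq']
  · intro x
    show residue RX' (β (γ x)) = ResidueField.map φ' (τS (residue RS x))
    rw [hβ2, hγ2]
    exact congrArg (fun f : ResidueField RS →+* ResidueField RX' => f (residue RS x)) hτγ1
  · intro x
    show residue RX' (φ' (α x)) = ResidueField.map φ' (τS (residue RS x))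
    rw [← hα2, ResidueField.map_residue]

end Maps

end Groth.Agent.Helper1.EL
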