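import Mathlib

/-!
# Tor-free homological lemmas about tensor products

Helper lemmas used for the local flatness criterion cluster.
-/

namespace Groth.Agent.Helper1

open TensorProduct Function

section BaseChange

variable {R : Type*} [CommRing R] (R' : Type*) [CommRing R'] [Algebra R R']

/-- Naturality of `cancelBaseChange` in the `R`-module variable. -/
theorem cancelBaseChange_lTensor
    {N M : Type*} [AddCommGroup N] [Module R N] [AddCommGroup M] [Module R M]
    (Q : Type*) [AddCommGroup Q] [Module R Q] [Module R' Q] [IsScalarTower R R' Q]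
    (u : N →ₗ[R] M) (x : Q ⊗[R'] (R' ⊗[R] N)) :
    AlgebraTensorModule.cancelBaseChange R R' R' Q M ((u.baseChange R').lTensor Q x) =
      u.lTensor Q (AlgebraTensorModule.cancelBaseChange R R' R' Q N x) := by
  induction x using TensorProduct.induction_on with
  | zero => simp
  | add x y hx hy => simp only [map_add, hx, hy]
  | tmul q z =>
    induction z using TensorProduct.induction_on with
    | zero => simp
    | add x y hx hy => simp only [tmul_add, map_add, hx, hy]
    | tmul r n => simp

/-- If `u ⊗ R'` is injective and `Q` is a flat `R'`-module, then `u ⊗_R Q` is injective. -/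
theorem lTensor_injective_of_baseChange_injective
    {N M : Type*} [AddCommGroup N] [Module R N] [AddCommGroup M] [Module R M]
    (Q : Type*) [AddCommGroup Q] [Module R Q] [Module R' Q] [IsScalarTower R R' Q]
    [Module.Flat R' Q]
    (u : N →ₗ[R] M) (h : Injective (u.lTensor R')) : Injective (u.lTensor Q) := by
  have h1 : Injective ((u.baseChange R').lTensor Q) :=
    Module.Flat.lTensor_preserves_injective_linearMap _ h
  intro x y hxy
  obtain ⟨x, rfl⟩ := (AlgebraTensorModule.cancelBaseChange R R' R' Q N).surjective x
  obtain ⟨y, rfl⟩ := (AlgebraTensorModule.cancelBaseChange R R' R' Q N).surjective y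
  rw [← cancelBaseChange_lTensor, ← cancelBaseChange_lTensor] at hxy
  rw [h1 ((AlgebraTensorModule.cancelBaseChange R R' R' Q M).injective hxy)]

/-- Naturality of `cancelBaseChange` in the `R'`-module variable. -/
theorem cancelBaseChange_rTensor
    {A B : Type*} [AddCommGroup A] [Module R A] [Module R' A] [IsScalarTower R R' A]
    [AddCommGroup B] [Module R B] [Module R' B] [IsScalarTower R R' B]
    (M : Type*) [AddCommGroup M] [Module R M]
    (f : A →ₗ[R'] B) (x : A ⊗[R'] (R' ⊗[R] M)) :
    AlgebraTensorModule.cancelBaseChange R R' R' B M (f.rTensor (R' ⊗[R] M) x) =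
      (f.restrictScalars R).rTensor M (AlgebraTensorModule.cancelBaseChange R R' R' A M x) := by
  induction x using TensorProduct.induction_on with
  | zero => simp
  | add x y hx hy => simp only [map_add, hx, hy]
  | tmul q z =>
    induction z using TensorProduct.induction_on with
    | zero => simp
    | add x y hx hy => simp only [tmul_add, map_add, hx, hy]
    | tmul r n => simp

/-- If `R' ⊗_R M` is flat over `R'` and `f : A → B` is an injective map of `R'`-modules,
then `f ⊗_R M` is injective. -/
theorem rTensor_injective_of_flat_baseChange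
    {A B : Type*} [AddCommGroup A] [Module R A] [Module R' A] [IsScalarTower R R' A]
    [AddCommGroup B] [Module R B] [Module R' B] [IsScalarTower R R' B]
    (M : Type*) [AddCommGroup M] [Module R M] [Module.Flat R' (R' ⊗[R] M)]
    (f : A →ₗ[R'] B) (hf : Injective f) : Injective ((f.restrictScalars R).rTensor M) := by
  have h1 : Injective (f.rTensor (R' ⊗[R] M)) :=
    Module.Flat.rTensor_preserves_injective_linearMap _ hf
  intro x y hxy
  obtain ⟨x, rfl⟩ := (AlgebraTensorModule.cancelBaseChange R R' R' A M).surjective x
  obtain ⟨y, rfl⟩ := (AlgebraTensorModule.cancelBaseChange R R' R' A M).surjective y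
  rw [← cancelBaseChange_rTensor, ← cancelBaseChange_rTensor] at hxy
  rw [h1 ((AlgebraTensorModule.cancelBaseChange R R' R' B M).injective hxy)]

end BaseChange

section Devissage

universe u

/-- Dévissage: a property of modules which holds for modules killed by `I` and is stable under
extensions holds for all modules killed by a power of `I`. -/
theorem devissage_pow {R : Type u} [CommRing R] (I : Ideal R)
    (P : ∀ (Q : Type u) [AddCommGroup Q] [Module R Q], Prop)
    (h1 : ∀ (Q : Type u) [AddCommGroup Q] [Module R Q],
      (I • (⊤ : Submodule R Q) = ⊥) → P Q)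
    (h2 : ∀ (Q : Type u) [AddCommGroup Q] [Module R Q] (Q' : Submodule R Q),
      P Q' → P (Q ⧸ Q') → P Q)
    (n : ℕ) (Q : Type u) [AddCommGroup Q] [Module R Q]
    (hQ : I ^ n • (⊤ : Submodule R Q) = ⊥) : P Q := by
  induction n generalizing Q with
  | zero =>
    apply h1
    rw [pow_zero, Ideal.one_eq_top, Submodule.top_smul] at hQ
    exact le_bot_iff.mp (le_top.trans hQ.le)
  | succ n ih =>
    apply h2 Q (I • (⊤ : Submodule R Q))
    · apply ih
      rw [eq_bot_iff]
      intro x hx
      have hx' : (x : Q) ∈ I ^ n • (I • (⊤ : Submodule R Q)) := by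
        have : Submodule.map (I • (⊤ : Submodule R Q)).subtype
            (I ^ n • (⊤ : Submodule R (I • (⊤ : Submodule R Q) : Submodule R Q))) =
            I ^ n • (I • (⊤ : Submodule R Q)) := by
          rw [Submodule.map_smul'', Submodule.map_top, Submodule.range_subtype]
        rw [← this]
        exact ⟨x, hx, rfl⟩
      rw [← mul_smul, ← pow_succ, hQ] at hx'
      rw [Submodule.mem_bot] at hx' ⊢
      exact Subtype.ext hx'
    · apply h1
      rw [eq_bot_iff]
      intro x hx
      refine Submodule.smul_induction_on hx ?_ ?_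
      · intro a ha y _
        obtain ⟨y, rfl⟩ := Submodule.Quotient.mk_surjective _ y
        rw [← Submodule.Quotient.mk_smul, Submodule.mem_bot, Submodule.Quotient.mk_eq_zero]
        exact Submodule.smul_mem_smul ha Submodule.mem_top
      · intro x y hx hy
        exact Submodule.add_mem _ hx hy

end Devissage

section Extension

variable {R : Type*} [CommRing R]

/-- The class of modules `Q` such that `Q ⊗ u` is injective is stable under extensions, when the
target of `u` is flat. -/
theorem lTensor_injective_of_extension
    {N M : Type*} [AddCommGroup N] [Module R N] [AddCommGroup M] [Module R M] [Module.Flat R M]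
    (u : N →ₗ[R] M)
    {A B C : Type*} [AddCommGroup A] [Module R A] [AddCommGroup B] [Module R B]
    [AddCommGroup C] [Module R C] (f : A →ₗ[R] B) (g : B →ₗ[R] C)
    (hf : Injective f) (hfg : Exact f g) (hg : Surjective g)
    (hA : Injective (u.lTensor A)) (hC : Injective (u.lTensor C)) :
    Injective (u.lTensor B) := by
  rw [injective_iff_map_eq_zero]
  intro x hx
  -- image of x in C ⊗ N is zero
  have h1 : g.rTensor N x = 0 := by
    apply hC
    rw [map_zero, ← LinearMap.comp_apply, LinearMap.lTensor_comp_rTensor,
      ← LinearMap.rTensor_comp_lTensor, LinearMap.comp_apply, hx, map_zero]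
  obtain ⟨y, rfl⟩ := (rTensor_exact N hfg hg x).mp h1
  have h2 : f.rTensor M (u.lTensor A y) = 0 := by
    rw [← LinearMap.comp_apply, LinearMap.rTensor_comp_lTensor,
      ← LinearMap.lTensor_comp_rTensor, LinearMap.comp_apply, hx]
  have h3 : u.lTensor A y = 0 :=
    (Module.Flat.rTensor_preserves_injective_linearMap (M := M) f hf) (by rw [h2, map_zero])
  rw [hA (by rw [h3, map_zero] : u.lTensor A y = u.lTensor A 0), map_zero]

end Extension

section Quotient

variable {R : Type*} [CommRing R]

/-- `1 ⊗ x = 0` in `(R ⧸ J) ⊗ N` iff `x ∈ J • ⊤`. -/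
theorem one_tmul_eq_zero_iff {N : Type*} [AddCommGroup N] [Module R N] (J : Ideal R) (x : N) :
    ((1 : R ⧸ J) ⊗ₜ[R] x = 0) ↔ x ∈ J • (⊤ : Submodule R N) := by
  rw [← (quotTensorEquivQuotSMul N J).map_eq_zero_iff, quotTensorEquivQuotSMul_mk_one_tmul,
    Submodule.Quotient.mk_eq_zero]

/-- Every element of `(R ⧸ J) ⊗ N` is of the form `1 ⊗ x`. -/
theorem exists_one_tmul_eq {N : Type*} [AddCommGroup N] [Module R N] (J : Ideal R)
    (z : (R ⧸ J) ⊗[R] N) : ∃ x : N, (1 : R ⧸ J) ⊗ₜ[R] x = z := by
  obtain ⟨y, rfl⟩ := (quotTensorEquivQuotSMul N J).symm.surjective z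
  obtain ⟨x, rfl⟩ := Submodule.Quotient.mk_surjective _ y
  exact ⟨x, by simp⟩

/-- `(R ⧸ J) ⊗ u` is injective iff `u x ∈ J M → x ∈ J N`. -/
theorem lTensor_quotient_injective_iff
    {N M : Type*} [AddCommGroup N] [Module R N] [AddCommGroup M] [Module R M]
    (u : N →ₗ[R] M) (J : Ideal R) :
    Injective (u.lTensor (R ⧸ J)) ↔
      ∀ x : N, u x ∈ J • (⊤ : Submodule R M) → x ∈ J • (⊤ : Submodule R N) := by
  constructor
  · intro h x hx
    rw [← one_tmul_eq_zero_iff] at hx ⊢
    apply h
    rw [LinearMap.lTensor_tmul, hx, map_zero]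
  · intro h
    rw [injective_iff_map_eq_zero]
    intro z hz
    obtain ⟨x, rfl⟩ := exists_one_tmul_eq J z
    rw [LinearMap.lTensor_tmul, one_tmul_eq_zero_iff] at hz
    rw [one_tmul_eq_zero_iff]
    exact h x hz

end Quotient

end Groth.Agent.Helper1
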