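import Mathlib
import Groth.Agent.Lib.Helper1.TorFree

/-!
# Injectivity modulo the maximal ideal (Stacks 00ME) and consequences
-/

namespace Groth.Agent.Helper1

open TensorProduct Function IsLocalRing

universe u

section

variable {R : Type u} [CommRing R] [IsLocalRing R]
  {M N : Type u} [AddCommGroup M] [Module R M] [Module.Flat R M] [AddCommGroup N] [Module R N]

omit [Module.Flat R M] in
/-- If `u ⊗ k` is injective then `u ⊗ Q` is injective for all `Q` killed by the maximal ideal. -/
theorem lTensor_injective_of_residueField_of_smul_eq_bot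
    (u : N →ₗ[R] M) (h : Injective (u.lTensor (ResidueField R)))
    (Q : Type u) [AddCommGroup Q] [Module R Q]
    (hQ : maximalIdeal R • (⊤ : Submodule R Q) = ⊥) : Injective (u.lTensor Q) := by
  have hT : Module.IsTorsionBySet R Q (maximalIdeal R) := by
    intro x a
    have : (a : R) • x ∈ maximalIdeal R • (⊤ : Submodule R Q) :=
      Submodule.smul_mem_smul a.2 Submodule.mem_top
    rw [hQ] at this
    exact this
  let _ : Module (ResidueField R) Q := hT.module
  have : IsScalarTower R (ResidueField R) Q := hT.isScalarTower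
  exact lTensor_injective_of_baseChange_injective (ResidueField R) Q u h

/-- If `u ⊗ k` is injective then `u ⊗ Q` is injective for all `Q` killed by a power of
the maximal ideal. -/
theorem lTensor_injective_of_residueField_of_pow_smul_eq_bot
    (u : N →ₗ[R] M) (h : Injective (u.lTensor (ResidueField R))) (n : ℕ)
    (Q : Type u) [AddCommGroup Q] [Module R Q]
    (hQ : maximalIdeal R ^ n • (⊤ : Submodule R Q) = ⊥) : Injective (u.lTensor Q) := by
  refine devissage_pow (maximalIdeal R) (fun Q _ _ => Injective (u.lTensor Q)) ?_ ?_ n Q hQ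
  · intro Q _ _ hQ
    exact lTensor_injective_of_residueField_of_smul_eq_bot u h Q hQ
  · intro Q _ _ Q' hA hC
    exact lTensor_injective_of_extension u Q'.subtype Q'.mkQ (Submodule.injective_subtype _)
      (LinearMap.exact_subtype_mkQ Q') (Submodule.mkQ_surjective _) hA hC

theorem mem_smul_top_of_pow_le
    (u : N →ₗ[R] M) (h : Injective (u.lTensor (ResidueField R))) (n : ℕ)
    (J : Ideal R) (hJ : maximalIdeal R ^ n ≤ J) (x : N)
    (hx : u x ∈ J • (⊤ : Submodule R M)) : x ∈ J • (⊤ : Submodule R N) := by
  have hQ : maximalIdeal R ^ n • (⊤ : Submodule R (R ⧸ J)) = ⊥ := by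
    rw [eq_bot_iff]
    intro y hy
    refine Submodule.smul_induction_on hy ?_ ?_
    · intro a ha y _
      obtain ⟨r, rfl⟩ := Ideal.Quotient.mk_surjective y
      rw [Submodule.mem_bot, Algebra.smul_def, Ideal.Quotient.algebraMap_eq, ← map_mul,
        Ideal.Quotient.eq_zero_iff_mem]
      exact J.mul_mem_right _ (hJ ha)
    · intro x y hx hy
      exact Submodule.add_mem _ hx hy
  exact (lTensor_quotient_injective_iff u J).mp
    (lTensor_injective_of_residueField_of_pow_smul_eq_bot u h n (R ⧸ J) hQ) x hx

end

section

variable {R : Type u} (S : Type u) [CommRing R] [CommRing S] [IsLocalRing R] [IsLocalRing S]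
  [IsNoetherianRing S] [Algebra R S] [IsLocalHom (algebraMap R S)]
  {M N : Type u} [AddCommGroup M] [Module R M] [Module.Flat R M]
  [AddCommGroup N] [Module R N] [Module S N] [IsScalarTower R S N] [Module.Finite S N]

include S

/-- Stacks 00ME, key step: if `u : N → M` is injective modulo the maximal ideal then
`N/IN → M/IM` is injective for every ideal `I`. -/
theorem mem_smul_top_of_injective_residueField
    (u : N →ₗ[R] M) (h : Injective (u.lTensor (ResidueField R))) (I : Ideal R) (x : N)
    (hx : u x ∈ I • (⊤ : Submodule R M)) : x ∈ I • (⊤ : Submodule R N) := by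
  set IS : Ideal S := I.map (algebraMap R S) with hIS
  set mS : Ideal S := (maximalIdeal R).map (algebraMap R S) with hmS
  set K : Submodule S N := IS • (⊤ : Submodule S N) with hK
  have hKR : K.restrictScalars R = I • (⊤ : Submodule R N) := by
    rw [hK, hIS, Ideal.smul_restrictScalars, Submodule.restrictScalars_top]
  have hmS_ne : mS ≠ ⊤ := (map_maximalIdeal_lt_top (algebraMap R S)).ne
  have hkrull := Ideal.iInf_pow_smul_eq_bot_of_isLocalRing (R := S) (M := N ⧸ K) mS hmS_ne
  have hxK : (K.mkQ x) ∈ (⨅ i : ℕ, mS ^ i • ⊤ : Submodule S (N ⧸ K)) := by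
    rw [Submodule.mem_iInf]
    intro n
    have h1 : x ∈ (I ⊔ maximalIdeal R ^ n) • (⊤ : Submodule R N) :=
      mem_smul_top_of_pow_le u h n _ le_sup_right x
        (Submodule.smul_mono_left le_sup_left hx)
    rw [Submodule.sup_smul] at h1
    obtain ⟨y, hy, z, hz, rfl⟩ := Submodule.mem_sup.mp h1
    have hy' : K.mkQ y = 0 := by
      rw [Submodule.mkQ_apply, Submodule.Quotient.mk_eq_zero]
      have : y ∈ K.restrictScalars R := by rw [hKR]; exact hy
      exact this
    rw [map_add, hy', zero_add]
    have hz' : z ∈ ((mS ^ n • (⊤ : Submodule S N)).restrictScalars R) := by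
      rw [hmS, ← Ideal.map_pow, Ideal.smul_restrictScalars, Submodule.restrictScalars_top]
      exact hz
    have : (mS ^ n • (⊤ : Submodule S N)).map K.mkQ = mS ^ n • (⊤ : Submodule S (N ⧸ K)) := by
      rw [Submodule.map_smul'', Submodule.map_top, Submodule.range_mkQ]
    rw [← this]
    exact ⟨z, hz', rfl⟩
  rw [hkrull, Submodule.mem_bot, Submodule.mkQ_apply, Submodule.Quotient.mk_eq_zero] at hxK
  rw [← hKR]
  exact hxK

/-- Stacks 00ME. -/
theorem injective_of_injective_residueField
    (u : N →ₗ[R] M) (h : Injective (u.lTensor (ResidueField R))) : Injective u := by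
  rw [injective_iff_map_eq_zero]
  intro x hx
  have := mem_smul_top_of_injective_residueField S u h ⊥ x (by rw [hx]; exact zero_mem _)
  simpa using this

/-- Stacks 00ME. -/
theorem lTensor_quotient_injective_of_injective_residueField
    (u : N →ₗ[R] M) (h : Injective (u.lTensor (ResidueField R))) (I : Ideal R) :
    Injective (u.lTensor (R ⧸ I)) :=
  (lTensor_quotient_injective_iff u I).mpr
    (mem_smul_top_of_injective_residueField S u h I)

/-- Stacks 00ME. -/
theorem flat_quotient_range_of_injective_residueField
    (u : N →ₗ[R] M) (h : Injective (u.lTensor (ResidueField R))) :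
    Module.Flat R (M ⧸ LinearMap.range u) := by
  rw [Module.Flat.iff_lTensor_injective']
  intro I
  refine lTensor_injective_of_exact_of_exact_of_rTensor_injective
    (f₁ := u) (f₂ := (LinearMap.range u).mkQ) (g₁ := I.subtype) (g₂ := I.mkQ)
    (LinearMap.exact_map_mkQ_range u) (Submodule.mkQ_surjective _)
    (LinearMap.exact_subtype_mkQ I) (Submodule.mkQ_surjective _) ?_ ?_
  · rw [← LinearMap.lTensor_inj_iff_rTensor_inj]
    exact lTensor_quotient_injective_of_injective_residueField S u h I
  · exact Module.Flat.lTensor_preserves_injective_linearMap _ (Submodule.injective_subtype _)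

end

end Groth.Agent.Helper1
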