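import Mathlib

/-!
# Adic completeness toolkit
-/

namespace Groth.Agent.Helper1

open Submodule

universe u

section Basic

variable {R : Type*} [CommRing R] (I : Ideal R) {M : Type*} [AddCommGroup M] [Module R M]

/-- Sum of a series whose `k`-th term lies in `I ^ k • ⊤`, in a precomplete module. -/
theorem exists_series_limit [IsPrecomplete I M] (y : ℕ → M)
    (hy : ∀ k, y k ∈ (I ^ k • ⊤ : Submodule R M)) :
    ∃ L : M, ∀ n, L - ∑ k ∈ Finset.range n, y k ∈ (I ^ n • ⊤ : Submodule R M) := by
  have hc : ∀ {m n}, m ≤ n → (∑ k ∈ Finset.range m, y k) ≡ (∑ k ∈ Finset.range n, y k)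
      [SMOD (I ^ m • ⊤ : Submodule R M)] := by
    intro m n hmn
    rw [SModEq.sub_mem]
    obtain ⟨d, rfl⟩ := Nat.exists_eq_add_of_le hmn
    rw [Finset.sum_range_add, sub_add_cancel_left]
    apply Submodule.neg_mem
    apply Submodule.sum_mem
    intro k _
    exact Submodule.smul_mono_left (Ideal.pow_le_pow_right (Nat.le_add_right m k)) (hy (m + k))
  obtain ⟨L, hL⟩ := IsPrecomplete.prec' (I := I) _ hc
  refine ⟨L, fun n => ?_⟩
  have := (hL n).symm
  rwa [SModEq.sub_mem] at this

variable {I}

theorem exists_coeff_of_mem_pow_smul_top {r : ℕ} (x : Fin r → M)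
    (h : span R (Set.range x) ⊔ I • (⊤ : Submodule R M) = ⊤) (k : ℕ) (m : M)
    (hm : m ∈ (I ^ k • ⊤ : Submodule R M)) :
    ∃ a : Fin r → R, (∀ i, a i ∈ I ^ k) ∧
      m - ∑ i, a i • x i ∈ (I ^ (k + 1) • ⊤ : Submodule R M) := by
  rw [← h, Submodule.smul_sup, ← Submodule.mul_smul, ← pow_succ, Submodule.mem_sup] at hm
  obtain ⟨u, hu, v, hv, rfl⟩ := hm
  rw [Submodule.mem_ideal_smul_span_iff_exists_sum] at hu
  obtain ⟨a, ha, rfl⟩ := hu
  refine ⟨fun i => a i, ha, ?_⟩
  rw [Finsupp.sum_fintype _ _ (fun i => zero_smul R (x i)), add_sub_cancel_left]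
  exact hv

end Basic

/-- Stacks 031D: a separated module over a complete ring which is finite modulo `I` is finite. -/
theorem finite_of_isAdicComplete_of_finite_quotient {R : Type*} [CommRing R] (I : Ideal R)
    [IsAdicComplete I R] {M : Type*} [AddCommGroup M] [Module R M] [IsHausdorff I M]
    (h : Module.Finite R (M ⧸ (I • ⊤ : Submodule R M))) : Module.Finite R M := by
  classical
  obtain ⟨r, s, hs⟩ := Module.Finite.exists_fin (R := R) (M := M ⧸ (I • ⊤ : Submodule R M))
  have hx : ∀ i, ∃ x : M, (I • ⊤ : Submodule R M).mkQ x = s i :=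
    fun i => Submodule.mkQ_surjective _ (s i)
  choose x hx using hx
  have hsup : span R (Set.range x) ⊔ I • (⊤ : Submodule R M) = ⊤ := by
    have h1 : Submodule.map (I • ⊤ : Submodule R M).mkQ (span R (Set.range x)) = ⊤ := by
      rw [Submodule.map_span, ← Set.range_comp, ← hs]
      congr 2
      ext i
      simp [hx]
    have h2 := congrArg (Submodule.comap (I • ⊤ : Submodule R M).mkQ) h1
    rw [Submodule.comap_map_mkQ, Submodule.comap_top, sup_comm] at h2
    exact h2
  refine ⟨⟨Finset.univ.image x, ?_⟩⟩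
  rw [Finset.coe_image, Finset.coe_univ, Set.image_univ, eq_top_iff]
  intro m _
  -- the coefficient picker
  have hpick : ∀ (k : ℕ) (m : M), ∃ a : Fin r → R, m ∈ (I ^ k • ⊤ : Submodule R M) →
      (∀ i, a i ∈ I ^ k) ∧ m - ∑ i, a i • x i ∈ (I ^ (k + 1) • ⊤ : Submodule R M) := by
    intro k m
    by_cases hm : m ∈ (I ^ k • ⊤ : Submodule R M)
    · obtain ⟨a, ha⟩ := exists_coeff_of_mem_pow_smul_top x hsup k m hm
      exact ⟨a, fun _ => ha⟩
    · exact ⟨0, fun h => absurd h hm⟩
  choose pick hpick using hpick
  -- remainders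
  let rem : ℕ → M := fun n => Nat.rec m (fun k mk => mk - ∑ i, pick k mk i • x i) n
  have hrem0 : rem 0 = m := rfl
  have hrem_succ : ∀ k, rem (k + 1) = rem k - ∑ i, pick k (rem k) i • x i := fun k => rfl
  have hrem : ∀ k, rem k ∈ (I ^ k • ⊤ : Submodule R M) := by
    intro k
    induction k with
    | zero => simp
    | succ k ih =>
      rw [hrem_succ]
      exact (hpick k (rem k) ih).2
  have hcoef : ∀ k i, pick k (rem k) i ∈ I ^ k := fun k i => (hpick k (rem k) (hrem k)).1 i
  -- limits of the coefficients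
  have hL : ∀ i, ∃ L : R, ∀ n, L - ∑ k ∈ Finset.range n, pick k (rem k) i ∈ I ^ n := by
    intro i
    obtain ⟨L, hL⟩ := exists_series_limit I (M := R) (fun k => pick k (rem k) i)
      (fun k => by rw [smul_eq_mul, Ideal.mul_top]; exact hcoef k i)
    refine ⟨L, fun n => ?_⟩
    have := hL n
    rwa [smul_eq_mul, Ideal.mul_top] at this
  choose L hL using hL
  have hpartial : ∀ n, m - ∑ i, (∑ k ∈ Finset.range n, pick k (rem k) i) • x i = rem n := by
    intro n
    induction n with
    | zero => simp [hrem0]
    | succ n ih =>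
      have e : m - ∑ i, (∑ k ∈ Finset.range (n + 1), pick k (rem k) i) • x i =
          (m - ∑ i, (∑ k ∈ Finset.range n, pick k (rem k) i) • x i) -
            ∑ i, pick n (rem n) i • x i := by
        simp only [Finset.sum_range_succ, add_smul, Finset.sum_add_distrib]
        abel
      rw [e, ih, hrem_succ]
  have hzero : m - ∑ i, L i • x i = 0 := by
    apply IsHausdorff.haus' (I := I)
    intro n
    rw [SModEq.sub_mem, sub_zero]
    have h1 : m - ∑ i, L i • x i = rem n -
        ∑ i, (L i - ∑ k ∈ Finset.range n, pick k (rem k) i) • x i := by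
      rw [← hpartial n]
      simp only [sub_smul, Finset.sum_sub_distrib]
      abel
    rw [h1]
    apply Submodule.sub_mem _ (hrem n)
    apply Submodule.sum_mem
    intro i _
    exact Submodule.smul_mem_smul (hL i n) Submodule.mem_top
  rw [sub_eq_zero] at hzero
  rw [hzero]
  apply Submodule.sum_mem
  intro i _
  exact Submodule.smul_mem _ _ (Submodule.subset_span (Set.mem_range_self i))

end Groth.Agent.Helper1

namespace Groth.Agent.Helper1

open Submodule

theorem exists_sum_smul_of_mem_span_smul {R : Type*} [CommRing R] {M : Type*} [AddCommGroup M]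
    [Module R M] {t : ℕ} (w : Fin t → R) (N : Submodule R M) (y : M)
    (hy : y ∈ (Ideal.span (Set.range w)) • N) :
    ∃ z : Fin t → M, (∀ j, z j ∈ N) ∧ y = ∑ j, w j • z j := by
  refine Submodule.smul_induction_on hy ?_ ?_
  · intro r hr n hn
    obtain ⟨c, rfl⟩ := (Submodule.mem_span_range_iff_exists_fun R).mp hr
    refine ⟨fun j => c j • n, fun j => Submodule.smul_mem _ _ hn, ?_⟩
    rw [Finset.sum_smul]
    refine Finset.sum_congr rfl fun j _ => ?_
    rw [smul_eq_mul, mul_smul, smul_comm]
  · rintro y y' ⟨z, hz, rfl⟩ ⟨z', hz', rfl⟩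
    refine ⟨fun j => z j + z' j, fun j => Submodule.add_mem _ (hz j) (hz' j), ?_⟩
    simp only [smul_add, Finset.sum_add_distrib]

/-- Stacks 090T: completeness with respect to a bigger ideal implies completeness with respect to
a finitely generated smaller ideal. -/
theorem isAdicComplete_of_le_of_fg {A : Type*} [CommRing A] (I J : Ideal A) (hIJ : I ≤ J)
    (hI : I.FG) (M : Type*) [AddCommGroup M] [Module A M] [IsAdicComplete J M] :
    IsAdicComplete I M := by
  have hpow : ∀ n, (I ^ n • ⊤ : Submodule A M) ≤ J ^ n • ⊤ :=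
    fun n => Submodule.smul_mono_left (Ideal.pow_right_mono hIJ n)
  have hH : IsHausdorff I M := by
    refine ⟨fun x hx => IsHausdorff.haus' (I := J) x fun n => ?_⟩
    have := hx n
    rw [SModEq.sub_mem, sub_zero] at this ⊢
    exact hpow n this
  have hP : IsPrecomplete I M := by
    refine ⟨fun f hf => ?_⟩
    have hfJ : ∀ {m n}, m ≤ n → f m ≡ f n [SMOD (J ^ m • ⊤ : Submodule A M)] := by
      intro m n hmn
      have := hf hmn
      rw [SModEq.sub_mem] at this ⊢
      exact hpow m this
    obtain ⟨L, hL⟩ := IsPrecomplete.prec' (I := J) f hfJ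
    refine ⟨L, fun n => ?_⟩
    -- generators of `I ^ n`
    obtain ⟨t, w, hw⟩ := Submodule.fg_iff_exists_fin_generating_family.mp (hI.pow (n := n))
    have hy : ∀ p, f (n + p + 1) - f (n + p) ∈ (Ideal.span (Set.range w)) • (I ^ p • ⊤ : Submodule A M) := by
      intro p
      have h1 := (hf (Nat.le_succ (n + p))).symm
      rw [SModEq.sub_mem] at h1
      have h2 : (Ideal.span (Set.range w)) = I ^ n := hw
      rw [h2, ← Submodule.mul_smul, ← pow_add]
      exact h1
    have hz : ∀ p, ∃ z : Fin t → M, (∀ j, z j ∈ (I ^ p • ⊤ : Submodule A M)) ∧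
        f (n + p + 1) - f (n + p) = ∑ j, w j • z j :=
      fun p => exists_sum_smul_of_mem_span_smul w _ _ (hy p)
    choose z hz1 hz2 using hz
    have hZ : ∀ j, ∃ Z : M, ∀ q, Z - ∑ p ∈ Finset.range q, z p j ∈ (J ^ q • ⊤ : Submodule A M) :=
      fun j => exists_series_limit J (fun p => z p j) (fun p => hpow p (hz1 p j))
    choose Z hZ using hZ
    have htel : ∀ q, f (n + q) - f n = ∑ j, w j • ∑ p ∈ Finset.range q, z p j := by
      intro q
      induction q with
      | zero => simp
      | succ q ih =>
        have : f (n + (q + 1)) - f n = (f (n + q + 1) - f (n + q)) + (f (n + q) - f n) := by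
          rw [← add_assoc]; abel
        rw [this, ih, hz2 q]
        simp only [Finset.sum_range_succ, smul_add, Finset.sum_add_distrib]
        abel
    have hw' : ∀ j, w j ∈ I ^ n := fun j => by
      have : w j ∈ Ideal.span (Set.range w) := Ideal.subset_span (Set.mem_range_self j)
      rw [show Ideal.span (Set.range w) = I ^ n from hw] at this
      exact this
    have hzero : L - f n - ∑ j, w j • Z j = 0 := by
      apply IsHausdorff.haus' (I := J)
      intro q
      rw [SModEq.sub_mem, sub_zero]
      have h1 : L - f n - ∑ j, w j • Z j = (L - f (n + q)) -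
          ∑ j, w j • (Z j - ∑ p ∈ Finset.range q, z p j) := by
        have h2 := htel q
        simp only [smul_sub, Finset.sum_sub_distrib]
        rw [← h2]
        abel
      rw [h1]
      apply Submodule.sub_mem
      · have h3 := (hL (n + q)).symm
        rw [SModEq.sub_mem] at h3
        exact Submodule.smul_mono_left (Ideal.pow_le_pow_right (Nat.le_add_left q n)) h3
      · apply Submodule.sum_mem
        intro j _
        exact Submodule.smul_mem _ _ (hZ j q)
    rw [SModEq.sub_mem]
    have h4 : f n - L = - ∑ j, w j • Z j := by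
      rw [sub_eq_zero] at hzero
      rw [← hzero]
      abel
    rw [h4]
    apply Submodule.neg_mem
    apply Submodule.sum_mem
    intro j _
    exact Submodule.smul_mem_smul (hw' j) Submodule.mem_top
  exact { toIsHausdorff := hH, toIsPrecomplete := hP }

end Groth.Agent.Helper1
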