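import Mathlib
import Groth.Agent.Lib.Helper1.AdicLib

/-!
# A ring complete with respect to a finitely generated ideal with Noetherian quotient is Noetherian
-/

namespace Groth.Agent.Helper1

open MvPolynomial Submodule

universe u

section Series

variable {R : Type*} [CommRing R] (I : Ideal R) {M : Type*} [AddCommGroup M] [Module R M]

/-- Shifted version of `exists_series_limit`. -/
theorem exists_series_limit_shift [IsPrecomplete I M] (K : ℕ) (y : ℕ → M)
    (hy : ∀ k, y k ∈ (I ^ (k - K) • ⊤ : Submodule R M)) :
    ∃ L : M, ∀ n, L - ∑ k ∈ Finset.range n, y k ∈ (I ^ (n - K) • ⊤ : Submodule R M) := by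
  have hc : ∀ {m n}, m ≤ n → (∑ k ∈ Finset.range (m + K), y k) ≡
      (∑ k ∈ Finset.range (n + K), y k) [SMOD (I ^ m • ⊤ : Submodule R M)] := by
    intro m n hmn
    rw [SModEq.sub_mem]
    obtain ⟨d, rfl⟩ := Nat.exists_eq_add_of_le hmn
    have : m + d + K = (m + K) + d := by omega
    rw [this, Finset.sum_range_add y (m + K) d, sub_add_cancel_left]
    apply Submodule.neg_mem
    apply Submodule.sum_mem
    intro k _
    refine Submodule.smul_mono_left (Ideal.pow_le_pow_right ?_) (hy (m + K + k))
    omega
  obtain ⟨L, hL⟩ := IsPrecomplete.prec' (I := I) _ hc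
  refine ⟨L, fun n => ?_⟩
  by_cases hn : K ≤ n
  · have := (hL (n - K)).symm
    rw [SModEq.sub_mem, Nat.sub_add_cancel hn] at this
    exact this
  · have : n - K = 0 := by omega
    rw [this, pow_zero, Ideal.one_eq_top, Submodule.top_smul]
    trivial

variable {I}

/-- Successive approximation: if every element of `N k` can be approximated modulo `N (k + 1)`
by a combination of the `x i` with coefficients in `I ^ (k - K)`, then `N 0` is contained in the
span of the `x i`. -/
theorem mem_span_of_successive_approx [IsAdicComplete I R] [IsHausdorff I M] {ι : Type*}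
    [Fintype ι] (x : ι → M) (K : ℕ) (N : ℕ → Set M)
    (hN : ∀ k, N k ⊆ (I ^ k • ⊤ : Submodule R M))
    (hstep : ∀ k, ∀ m ∈ N k, ∃ a : ι → R, (∀ i, a i ∈ I ^ (k - K)) ∧
      m - ∑ i, a i • x i ∈ N (k + 1)) (m : M) (hm : m ∈ N 0) :
    m ∈ span R (Set.range x) := by
  classical
  have hpick : ∀ (k : ℕ) (m : M), ∃ a : ι → R, m ∈ N k →
      (∀ i, a i ∈ I ^ (k - K)) ∧ m - ∑ i, a i • x i ∈ N (k + 1) := by
    intro k m
    by_cases hm : m ∈ N k
    · obtain ⟨a, ha⟩ := hstep k m hm
      exact ⟨a, fun _ => ha⟩
    · exact ⟨0, fun h => absurd h hm⟩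
  choose pick hpick using hpick
  let rem : ℕ → M := fun n => Nat.rec m (fun k mk => mk - ∑ i, pick k mk i • x i) n
  have hrem0 : rem 0 = m := rfl
  have hrem_succ : ∀ k, rem (k + 1) = rem k - ∑ i, pick k (rem k) i • x i := fun k => rfl
  have hrem : ∀ k, rem k ∈ N k := by
    intro k
    induction k with
    | zero => exact hm
    | succ k ih =>
      rw [hrem_succ]
      exact (hpick k (rem k) ih).2
  have hcoef : ∀ k i, pick k (rem k) i ∈ I ^ (k - K) := fun k i => (hpick k (rem k) (hrem k)).1 i
  have hL : ∀ i, ∃ L : R, ∀ n, L - ∑ k ∈ Finset.range n, pick k (rem k) i ∈ I ^ (n - K) := by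
    intro i
    obtain ⟨L, hL⟩ := exists_series_limit_shift I (M := R) K (fun k => pick k (rem k) i)
      (fun k => by rw [smul_eq_mul, Ideal.mul_top]; exact hcoef k i)
    refine ⟨L, fun n => ?_⟩
    have := hL n
    rwa [smul_eq_mul, Ideal.mul_top] at this
  choose L hL using hL
  have hpartial : ∀ n, m - ∑ i, (∑ k ∈ Finset.range n, pick k (rem k) i) • x i = rem n := by
    intro n
    induction n with
    | zero => simp [hrem0]
    | succ n ih =>
      have e : m - ∑ i, (∑ k ∈ Finset.range (n + 1), pick k (rem k) i) • x i =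
          (m - ∑ i, (∑ k ∈ Finset.range n, pick k (rem k) i) • x i) -
            ∑ i, pick n (rem n) i • x i := by
        simp only [Finset.sum_range_succ, add_smul, Finset.sum_add_distrib]
        abel
      rw [e, ih, hrem_succ]
  have hzero : m - ∑ i, L i • x i = 0 := by
    apply IsHausdorff.haus' (I := I)
    intro n
    rw [SModEq.sub_mem, sub_zero]
    have h1 : m - ∑ i, L i • x i = rem (n + K) -
        ∑ i, (L i - ∑ k ∈ Finset.range (n + K), pick k (rem k) i) • x i := by
      rw [← hpartial (n + K)]
      simp only [sub_smul, Finset.sum_sub_distrib]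
      abel
    rw [h1]
    apply Submodule.sub_mem
    · exact Submodule.smul_mono_left (Ideal.pow_le_pow_right (Nat.le_add_right n K))
        (hN (n + K) (hrem (n + K)))
    · apply Submodule.sum_mem
      intro i _
      have := hL i (n + K)
      rw [Nat.add_sub_cancel] at this
      exact Submodule.smul_mem_smul this Submodule.mem_top
  rw [sub_eq_zero] at hzero
  rw [hzero]
  apply Submodule.sum_mem
  intro i _
  exact Submodule.smul_mem _ _ (Submodule.subset_span (Set.mem_range_self i))

end Series

section Homog

variable {σ : Type*} {R : Type*} [CommRing R]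

attribute [local instance] MvPolynomial.gradedAlgebra in
theorem homogeneousComponent_mul_right (a b : MvPolynomial σ R) {i : ℕ} (hb : b.IsHomogeneous i)
    (n : ℕ) : homogeneousComponent n (a * b) =
      if i ≤ n then homogeneousComponent (n - i) a * b else 0 := by
  have h := DirectSum.coe_decompose_mul_of_right_mem (homogeneousSubmodule σ R) n (a := a) (b := b)
    ((mem_homogeneousSubmodule _ _).mpr hb)
  have e : ∀ (φ : MvPolynomial σ R) (j : ℕ),
      ((DirectSum.decompose (homogeneousSubmodule σ R) φ j : homogeneousSubmodule σ R j) :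
        MvPolynomial σ R) = homogeneousComponent j φ :=
    fun φ j => decomposition.decompose'_apply φ j
  rw [e] at h
  rw [h]
  split_ifs
  · rw [e]
  · rfl

theorem homogeneousComponent_map {S : Type*} [CommRing S] (f : R →+* S) (n : ℕ)
    (p : MvPolynomial σ R) :
    homogeneousComponent n (map f p) = map f (homogeneousComponent n p) := by
  ext d
  simp only [coeff_homogeneousComponent, coeff_map]
  split_ifs <;> simp

theorem exists_isHomogeneous_map_eq {S : Type*} [CommRing S] (f : R →+* S)
    (hf : Function.Surjective f) {n : ℕ} (q : MvPolynomial σ S) (hq : q.IsHomogeneous n) :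
    ∃ p : MvPolynomial σ R, p.IsHomogeneous n ∧ map f p = q := by
  obtain ⟨p, rfl⟩ := map_surjective f hf q
  refine ⟨homogeneousComponent n p, homogeneousComponent_isHomogeneous n p, ?_⟩
  rw [← homogeneousComponent_map, homogeneousComponent_of_mem hq, if_pos rfl]

end Homog

theorem eval_mem_pow_succ_of_map_eq_zero {σ : Type*} {R : Type*} [CommRing R] (g : σ → R)
    {k : ℕ} (D : MvPolynomial σ R) (hD : D.IsHomogeneous k)
    (h0 : map (Ideal.Quotient.mk (Ideal.span (Set.range g))) D = 0) :
    eval g D ∈ Ideal.span (Set.range g) ^ (k + 1) := by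
  classical
  rw [eval_eq]
  apply Ideal.sum_mem
  intro d hd
  rw [pow_succ']
  apply Ideal.mul_mem_mul
  · have h1 := congrArg (coeff d) h0
    rw [coeff_map, coeff_zero, Ideal.Quotient.eq_zero_iff_mem] at h1
    exact h1
  · have hdeg : ∑ i ∈ d.support, d i = k := by
      have := hD (mem_support_iff.mp hd)
      rw [← this]
      simp [Finsupp.weight_apply, Finsupp.sum]
    rw [← hdeg, ← Finset.prod_pow_eq_pow_sum]
    apply Ideal.prod_mem_prod
    intro i _
    exact Ideal.pow_mem_pow (Ideal.subset_span (Set.mem_range_self i)) _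

theorem isNoetherianRing_of_isAdicComplete_span {A : Type u} [CommRing A] {n : ℕ} (g : Fin n → A)
    [IsAdicComplete (Ideal.span (Set.range g)) A]
    [IsNoetherianRing (A ⧸ Ideal.span (Set.range g))] : IsNoetherianRing A := by
  classical
  let π : MvPolynomial (Fin n) A →+* MvPolynomial (Fin n) (A ⧸ Ideal.span (Set.range g)) :=
    map (Ideal.Quotient.mk (Ideal.span (Set.range g)))
  rw [isNoetherianRing_iff_ideal_fg]
  intro 𝔞
  let H : Set (MvPolynomial (Fin n) (A ⧸ Ideal.span (Set.range g))) :=
    {q | ∃ (k : ℕ) (P : MvPolynomial (Fin n) A) (a : A),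
      P.IsHomogeneous k ∧ π P = q ∧ a ∈ 𝔞 ∧ eval g P - a ∈ Ideal.span (Set.range g) ^ (k + 1)}
  have hfg : (Ideal.span H).FG := IsNoetherian.noetherian _
  obtain ⟨H', hH'sub, hH'eq⟩ := (Submodule.fg_span_iff_fg_span_finset_subset _).mp hfg
  have hdata : ∀ j : H', ∃ (k : ℕ) (P : MvPolynomial (Fin n) A) (a : A),
      P.IsHomogeneous k ∧ π P = (j : MvPolynomial (Fin n) (A ⧸ Ideal.span (Set.range g))) ∧
        a ∈ 𝔞 ∧ eval g P - a ∈ Ideal.span (Set.range g) ^ (k + 1) := fun j => hH'sub j.2
  choose kk PP aa hPhom hPq ha𝔞 hPa using hdata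
  let K : ℕ := Finset.univ.sup kk
  have hK : ∀ j, kk j ≤ K := fun j => Finset.le_sup (Finset.mem_univ j)
  have hclaim : ∀ y ∈ 𝔞, y ∈ Submodule.span A (Set.range aa) := by
    intro y hy
    refine mem_span_of_successive_approx (I := Ideal.span (Set.range g)) aa K
      (fun k => {y | y ∈ 𝔞 ∧ y ∈ Ideal.span (Set.range g) ^ k}) ?_ ?_ y ⟨hy, by simp⟩
    · intro k y hy
      rw [smul_eq_mul, Ideal.mul_top]
      exact hy.2
    · rintro k y ⟨hy𝔞, hyk⟩
      obtain ⟨P, hP, hPy⟩ := (Ideal.mem_span_pow_iff_exists_isHomogeneous g y).mp hyk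
      have hq : π P ∈ Ideal.span (H' : Set (MvPolynomial (Fin n) (A ⧸ Ideal.span (Set.range g)))) := by
        have : π P ∈ Ideal.span H :=
          Ideal.subset_span ⟨k, P, y, hP, rfl, hy𝔞, by rw [hPy, sub_self]; exact zero_mem _⟩
        change π P ∈ Submodule.span _ (H' : Set (MvPolynomial (Fin n) (A ⧸ Ideal.span (Set.range g))))
        rw [← hH'eq]
        exact this
      obtain ⟨s, hs⟩ : ∃ s : H' → MvPolynomial (Fin n) (A ⧸ Ideal.span (Set.range g)),
          ∑ j, s j * (j : MvPolynomial (Fin n) (A ⧸ Ideal.span (Set.range g))) = π P := by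
        change π P ∈ Submodule.span _ (H' : Set (MvPolynomial (Fin n) (A ⧸ Ideal.span (Set.range g)))) at hq
        rw [Submodule.mem_span_finset] at hq
        obtain ⟨f, -, hf⟩ := hq
        refine ⟨fun j => f j, ?_⟩
        rw [← hf, ← Finset.sum_coe_sort H']
        rfl
      have hPk : homogeneousComponent k (π P) = π P := by
        rw [homogeneousComponent_of_mem (hP.map _), if_pos rfl]
      have hqhom : ∀ j : H', (j : MvPolynomial (Fin n) (A ⧸ Ideal.span (Set.range g))).IsHomogeneous
          (kk j) := by
        intro j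
        rw [← hPq j]
        exact (hPhom j).map _
      have hlift : ∀ j : H', ∃ T : MvPolynomial (Fin n) A, T.IsHomogeneous (k - kk j) ∧
          π T = homogeneousComponent (k - kk j) (s j) :=
        fun j => exists_isHomogeneous_map_eq _ Ideal.Quotient.mk_surjective _
          (homogeneousComponent_isHomogeneous _ _)
      choose T0 hT0hom hT0π using hlift
      let T : H' → MvPolynomial (Fin n) A := fun j => if kk j ≤ k then T0 j else 0
      have hTπ : π P = ∑ j, π (T j) * π (PP j) := by
        rw [← hPk, ← hs, map_sum]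
        refine Finset.sum_congr rfl fun j _ => ?_
        rw [homogeneousComponent_mul_right _ _ (hqhom j), hPq j]
        by_cases hj : kk j ≤ k
        · simp only [T, if_pos hj, hT0π]
        · simp only [T, if_neg hj, map_zero, zero_mul]
      let D : MvPolynomial (Fin n) A := P - ∑ j, T j * PP j
      have hDhom : D.IsHomogeneous k := by
        apply hP.sub
        apply IsHomogeneous.sum
        intro j _
        by_cases hj : kk j ≤ k
        · simp only [T, if_pos hj]
          have := (hT0hom j).mul (hPhom j)
          rwa [Nat.sub_add_cancel hj] at this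
        · simp only [T, if_neg hj, zero_mul]
          exact isHomogeneous_zero _ _ _
      have hDπ : π D = 0 := by
        simp only [D, map_sub, map_sum, map_mul]
        rw [← hTπ, sub_self]
      have hDev : eval g D ∈ Ideal.span (Set.range g) ^ (k + 1) :=
        eval_mem_pow_succ_of_map_eq_zero g D hDhom hDπ
      have hTev : ∀ j, eval g (T j) ∈ Ideal.span (Set.range g) ^ (k - kk j) := by
        intro j
        by_cases hj : kk j ≤ k
        · simp only [T, if_pos hj]
          exact (Ideal.mem_span_pow_iff_exists_isHomogeneous g _).mpr ⟨T0 j, hT0hom j, rfl⟩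
        · simp only [T, if_neg hj, map_zero]
          exact zero_mem _
      refine ⟨fun j => eval g (T j), ?_, ?_, ?_⟩
      · intro j
        exact Ideal.pow_le_pow_right (Nat.sub_le_sub_left (hK j) k) (hTev j)
      · refine Submodule.sub_mem _ hy𝔞 (Submodule.sum_mem _ fun j _ => ?_)
        exact Ideal.mul_mem_left _ _ (ha𝔞 j)
      · have h1 : y - ∑ j, eval g (T j) • aa j = eval g D +
            ∑ j, eval g (T j) * (eval g (PP j) - aa j) := by
          simp only [D, map_sub, map_sum, map_mul, hPy, smul_eq_mul, mul_sub,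
            Finset.sum_sub_distrib]
          abel
        rw [h1]
        refine Submodule.add_mem _ hDev (Submodule.sum_mem _ fun j _ => ?_)
        by_cases hj : kk j ≤ k
        · have := Ideal.mul_mem_mul (hTev j) (hPa j)
          rw [← pow_add] at this
          have e : k - kk j + (kk j + 1) = k + 1 := by omega
          rwa [e] at this
        · simp only [T, if_neg hj, map_zero, zero_mul]
          exact zero_mem _
  refine ⟨Finset.univ.image aa, ?_⟩
  rw [Finset.coe_image, Finset.coe_univ, Set.image_univ]
  apply le_antisymm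
  · rw [Submodule.span_le]
    rintro _ ⟨j, rfl⟩
    exact ha𝔞 j
  · exact hclaim

/-- A ring complete with respect to a finitely generated ideal `J` with `A ⧸ J` Noetherian is
Noetherian (Stacks 05GH). -/
theorem isNoetherianRing_of_isAdicComplete_of_fg {A : Type u} [CommRing A] (J : Ideal A)
    (hJ : J.FG) [IsAdicComplete J A] [IsNoetherianRing (A ⧸ J)] : IsNoetherianRing A := by
  obtain ⟨n, g, rfl⟩ := Submodule.fg_iff_exists_fin_generating_family.mp hJ
  exact isNoetherianRing_of_isAdicComplete_span g

/-- The adic completion along a finitely generated ideal with Noetherian quotient is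
Noetherian. -/
theorem isNoetherianRing_adicCompletion_of_fg (R : Type u) [CommRing R] (I : Ideal R)
    (hI : I.FG) [IsNoetherianRing (R ⧸ I)] : IsNoetherianRing (AdicCompletion I R) := by
  have h1 : IsAdicComplete (I.map (algebraMap R (AdicCompletion I R))) (AdicCompletion I R) :=
    AdicCompletion.isAdicComplete_self I hI
  have h2 : (I.map (algebraMap R (AdicCompletion I R))).FG := hI.map _
  let e1 : (AdicCompletion I R ⧸ RingHom.ker (AdicCompletion.evalOneₐ I).toRingHom) ≃+* R ⧸ I :=
    RingHom.quotientKerEquivOfSurjective (AdicCompletion.evalOneₐ_surjective I)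
  let e2 : (AdicCompletion I R ⧸ I.map (algebraMap R (AdicCompletion I R))) ≃+*
      (AdicCompletion I R ⧸ RingHom.ker (AdicCompletion.evalOneₐ I).toRingHom) :=
    Ideal.quotEquivOfEq (AdicCompletion.ker_evalOneₐ_eq_map I hI).symm
  have h3 : IsNoetherianRing (AdicCompletion I R ⧸ I.map (algebraMap R (AdicCompletion I R))) :=
    isNoetherianRing_of_ringEquiv (R ⧸ I) (e2.trans e1).symm
  exact isNoetherianRing_of_isAdicComplete_of_fg _ h2

end Groth.Agent.Helper1
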