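import Mathlib
import Groth.Agent.S0543
import Groth.Agent.Lib.Lead.RLR1

/-!
# Dimension, regularity and the DVR property pass to and from the completion of a Noetherian
local ring
-/

namespace Groth.Agent.Helper1

open IsLocalRing

universe u

theorem ringKrullDim_adicCompletion_eq (A : Type u) [CommRing A] [IsLocalRing A]
    [IsNoetherianRing A] :
    ringKrullDim (AdicCompletion (maximalIdeal A) A) = ringKrullDim A := by
  have hN : IsNoetherianRing (AdicCompletion (maximalIdeal A) A) :=
    Groth.Agent.S0543.result A (maximalIdeal A)
  have hF : Module.Flat A (AdicCompletion (maximalIdeal A) A) :=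
    AdicCompletion.flat_of_isNoetherian (maximalIdeal A)
  have h := Ideal.height_eq_height_add_of_liesOver_of_hasGoingDown (maximalIdeal A)
    (maximalIdeal (AdicCompletion (maximalIdeal A) A))
  have hnt : Nontrivial (AdicCompletion (maximalIdeal A) A ⧸
      maximalIdeal (AdicCompletion (maximalIdeal A) A)) :=
    Ideal.Quotient.nontrivial_iff.mpr (maximalIdeal.isMaximal _).ne_top
  have h0 : ((maximalIdeal (AdicCompletion (maximalIdeal A) A)).map
      (Ideal.Quotient.mk ((maximalIdeal A).map
        (algebraMap A (AdicCompletion (maximalIdeal A) A))))).height = 0 := by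
    rw [← AdicCompletion.maximalIdeal_eq_map, Ideal.map_quotient_self]
    exact Ideal.height_bot
  rw [h0, add_zero] at h
  rw [← IsLocalRing.maximalIdeal_height_eq_ringKrullDim,
    ← IsLocalRing.maximalIdeal_height_eq_ringKrullDim, h]

theorem isRegularLocalRing_adicCompletion_iff (A : Type u) [CommRing A] [IsLocalRing A]
    [IsNoetherianRing A] :
    IsRegularLocalRing A ↔ IsRegularLocalRing (AdicCompletion (maximalIdeal A) A) := by
  have hN : IsNoetherianRing (AdicCompletion (maximalIdeal A) A) :=
    Groth.Agent.S0543.result A (maximalIdeal A)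
  rw [isRegularLocalRing_iff, isRegularLocalRing_iff, AdicCompletion.spanFinrank_maximalIdeal_eq,
    ringKrullDim_adicCompletion_eq]

/-- A Noetherian local ring is a DVR iff it is regular of dimension one. -/
theorem isDiscreteValuationRing_iff_isRegularLocalRing (R : Type u) [CommRing R] [IsLocalRing R]
    [IsNoetherianRing R] :
    (∃ _ : IsDomain R, IsDiscreteValuationRing R) ↔
      IsRegularLocalRing R ∧ ringKrullDim R = 1 := by
  constructor
  · rintro ⟨hd, hdvr⟩
    exact ⟨inferInstance,
      IsPrincipalIdealRing.ringKrullDim_eq_one R (IsDiscreteValuationRing.not_isField R)⟩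
  · rintro ⟨hreg, hdim⟩
    have hd : IsDomain R := Groth.Agent.Lead.RLR.isDomain R
    refine ⟨hd, ?_⟩
    have hnf : ¬ IsField R := by
      intro hf
      have h0 : ringKrullDim R = 0 := by
        let _ := hf.toField
        exact ringKrullDim_eq_zero_of_field R
      rw [h0] at hdim
      exact zero_ne_one hdim
    have h1 : Module.finrank (ResidueField R) (CotangentSpace R) = 1 := by
      have h2 := (IsRegularLocalRing.iff_finrank_cotangentSpace R).mp hreg
      rw [hdim] at h2
      exact_mod_cast h2
    exact ((IsDiscreteValuationRing.TFAE R hnf).out 0 5).mpr h1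

theorem isDiscreteValuationRing_adicCompletion_iff (A : Type u) [CommRing A] [IsLocalRing A]
    [IsNoetherianRing A] :
    (∃ _ : IsDomain A, IsDiscreteValuationRing A) ↔
      ∃ _ : IsDomain (AdicCompletion (maximalIdeal A) A),
        IsDiscreteValuationRing (AdicCompletion (maximalIdeal A) A) := by
  have hN : IsNoetherianRing (AdicCompletion (maximalIdeal A) A) :=
    Groth.Agent.S0543.result A (maximalIdeal A)
  rw [isDiscreteValuationRing_iff_isRegularLocalRing, isDiscreteValuationRing_iff_isRegularLocalRing,
    ← isRegularLocalRing_adicCompletion_iff, ringKrullDim_adicCompletion_eq]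

end Groth.Agent.Helper1
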