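import Groth.Agent.Lib.Helper1.GB1

/-!
# Geometric branches: counting maximal ideals of `A' ⊗[A] Aˢʰ`
-/

set_option autoImplicit false

namespace Groth.Agent.Helper1.GB

open IsLocalRing TensorProduct Groth.Agent.Helper1

universe u

section Step2

variable (A B Ash : Type u) [CommRing A] [CommRing B] [Algebra A B] [CommRing Ash] [Algebra A Ash]

theorem card_homs_eq_card_homs_left (Ω : Type u) [Field Ω] (θ : Ash →+* Ω) (χ : A →+* Ω)
    (hθχ : θ.comp (algebraMap A Ash) = χ) :
    ENat.card {φ : B ⊗[A] Ash →+* Ω // ∀ s, φ (IH.incR A B Ash s) = θ s} =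
      ENat.card {ψ : B →+* Ω // ψ.comp (algebraMap A B) = χ} := by
  apply DM.card_eq_of_unique
    (fun (φ : {φ : B ⊗[A] Ash →+* Ω // ∀ s, φ (IH.incR A B Ash s) = θ s})
      (ψ : {ψ : B →+* Ω // ψ.comp (algebraMap A B) = χ}) =>
      φ.1.comp (algebraMap B (B ⊗[A] Ash)) = ψ.1)
  · rintro ⟨φ, hφ⟩
    refine ⟨⟨φ.comp (algebraMap B (B ⊗[A] Ash)), ?_⟩, rfl, ?_⟩
    · refine RingHom.ext (fun a => ?_)
      show φ (algebraMap B (B ⊗[A] Ash) (algebraMap A B a)) = χ a
      rw [← IH.incR_algebraMap A B Ash a, hφ, ← hθχ]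
      rfl
    · rintro ⟨ψ₂, hψ₂⟩ h
      exact Subtype.ext h.symm
  · rintro ⟨ψ, hψ⟩
    letI algAΩ : Algebra A Ω := χ.toAlgebra
    let f₁ : B →ₐ[A] Ω := { ψ with commutes' := fun a => RingHom.congr_fun hψ a }
    let f₂ : Ash →ₐ[A] Ω := { θ with commutes' := fun a => RingHom.congr_fun hθχ a }
    let phi : B ⊗[A] Ash →ₐ[A] Ω :=
      Algebra.TensorProduct.lift f₁ f₂ (fun _ _ => Commute.all _ _)
    have hphi : ∀ (x : B) (s : Ash), phi (x ⊗ₜ[A] s) = ψ x * θ s := by
      intro x s
      show Algebra.TensorProduct.lift f₁ f₂ (fun _ _ => Commute.all _ _) (x ⊗ₜ[A] s) = _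
      rw [Algebra.TensorProduct.lift_tmul]
      rfl
    refine ⟨⟨phi.toRingHom, fun s => ?_⟩, ?_, ?_⟩
    · show phi ((1 : B) ⊗ₜ[A] s) = _
      rw [hphi, map_one, one_mul]
    · refine RingHom.ext (fun b => ?_)
      show phi (b ⊗ₜ[A] (1 : Ash)) = ψ b
      rw [hphi, map_one, mul_one]
    · rintro ⟨φ₂, hφ₂⟩ h
      apply Subtype.ext
      apply IH.ringHom_ext_tensor
      · intro b
        have h1 : φ₂ (algebraMap B (B ⊗[A] Ash) b) = ψ b := RingHom.congr_fun h b
        rw [h1]
        show ψ b = phi (b ⊗ₜ[A] (1 : Ash))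
        rw [hphi, map_one, mul_one]
      · intro s
        rw [hφ₂]
        show θ s = phi ((1 : B) ⊗ₜ[A] s)
        rw [hphi, map_one, one_mul]

end Step2

section Step3

variable (A : Type u) [CommRing A] [IsLocalRing A]

theorem toResidue_apply (m' : MaximalSpectrum (CAlg2.normRed A)) (a : A) :
    Brnch.toResidue A m' a =
      Ideal.Quotient.mk m'.asIdeal (algebraMap A (CAlg2.normRed A) a) := rfl

theorem ker_toClosure : RingHom.ker (Brnch.toClosure A) = maximalIdeal A := by
  ext a
  rw [RingHom.mem_ker]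
  show algebraMap (ResidueField A) (AlgebraicClosure (ResidueField A)) (residue A a) = 0 ↔ _
  rw [map_eq_zero, residue_eq_zero_iff]

theorem card_homs_eq_card_sigma :
    ENat.card {ψ : CAlg2.normRed A →+* AlgebraicClosure (ResidueField A) //
        ψ.comp (algebraMap A (CAlg2.normRed A)) = Brnch.toClosure A} =
      ENat.card (Σ m' : MaximalSpectrum (CAlg2.normRed A), Brnch.Emb A m') := by
  apply DM.card_eq_of_unique
    (fun (ψ : {ψ : CAlg2.normRed A →+* AlgebraicClosure (ResidueField A) //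
        ψ.comp (algebraMap A (CAlg2.normRed A)) = Brnch.toClosure A})
      (x : Σ m' : MaximalSpectrum (CAlg2.normRed A), Brnch.Emb A m') =>
      ∀ b, ψ.1 b = x.2.1 (Ideal.Quotient.mk x.1.asIdeal b))
  · rintro ⟨ψ, hψ⟩
    haveI hkp : (RingHom.ker ψ).IsPrime := RingHom.ker_isPrime ψ
    have hcomap : (RingHom.ker ψ).comap (algebraMap A (CAlg2.normRed A)) = maximalIdeal A := by
      rw [← ker_toClosure, ← hψ]
      rfl
    have hmax : (RingHom.ker ψ).IsMaximal := by
      apply Ideal.isMaximal_of_isIntegral_of_isMaximal_comap (R := A)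
      rw [hcomap]
      exact maximalIdeal.isMaximal A
    have hσ : (Ideal.Quotient.lift (RingHom.ker ψ) ψ (fun a h => h)).comp
        (Brnch.toResidue A ⟨RingHom.ker ψ, hmax⟩) = Brnch.toClosure A := by
      refine RingHom.ext (fun a => ?_)
      rw [RingHom.comp_apply, toResidue_apply, Ideal.Quotient.lift_mk, ← hψ]
      rfl
    refine ⟨⟨⟨RingHom.ker ψ, hmax⟩, ⟨Ideal.Quotient.lift (RingHom.ker ψ) ψ (fun a h => h), hσ⟩⟩,
      fun b => (Ideal.Quotient.lift_mk _ _ _).symm, ?_⟩
    rintro ⟨m₂, σ₂⟩ hy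
    have hle : m₂.asIdeal ≤ RingHom.ker ψ := by
      intro b hb
      rw [RingHom.mem_ker]
      have h1 : ψ b = σ₂.1 (Ideal.Quotient.mk m₂.asIdeal b) := hy b
      rw [h1, Ideal.Quotient.eq_zero_iff_mem.mpr hb, map_zero]
    have hm : m₂ = ⟨RingHom.ker ψ, hmax⟩ :=
      MaximalSpectrum.ext (m₂.isMaximal.eq_of_le hmax.ne_top hle)
    subst hm
    congr 1
    apply Subtype.ext
    refine RingHom.ext (fun x => ?_)
    obtain ⟨b, rfl⟩ := Ideal.Quotient.mk_surjective x
    have h1 : ψ b = σ₂.1 (Ideal.Quotient.mk (RingHom.ker ψ) b) := hy b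
    rw [← h1, Ideal.Quotient.lift_mk]
  · rintro ⟨m', σ⟩
    have hψ : (σ.1.comp (Ideal.Quotient.mk m'.asIdeal)).comp
        (algebraMap A (CAlg2.normRed A)) = Brnch.toClosure A := by
      have h : σ.1.comp (Brnch.toResidue A m') = Brnch.toClosure A := σ.2
      exact (RingHom.ext (fun a => rfl) :
        (σ.1.comp (Ideal.Quotient.mk m'.asIdeal)).comp (algebraMap A (CAlg2.normRed A)) =
          σ.1.comp (Brnch.toResidue A m')).trans h
    refine ⟨⟨σ.1.comp (Ideal.Quotient.mk m'.asIdeal), hψ⟩, fun b => rfl, ?_⟩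
    rintro ⟨ψ₂, hψ₂⟩ h
    exact Subtype.ext (RingHom.ext (fun b => h b))

end Step3

section Assembly

variable (A Ash : Type u) [CommRing A] [IsLocalRing A] [CommRing Ash] [IsLocalRing Ash]
  [Algebra A Ash] [IsLocalHom (algebraMap A Ash)] [Hensel.IsStrictHenselization A Ash]

theorem card_minimalPrimes_shens (hfin : (minimalPrimes A).Finite) :
    ENat.card (minimalPrimes Ash) =
      ENat.card (Σ m' : MaximalSpectrum (CAlg2.normRed A), Brnch.Emb A m') := by
  haveI : HenselianLocalRing Ash := Hensel.IsStrictHenselization.henselian (R := A)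
  haveI : Module.Flat A Ash := (HFlat.faithfullyFlat_of_isStrictHenselization A Ash).toFlat
  haveI hsc : IsSepClosure (ResidueField A) (ResidueField Ash) :=
    Hensel.IsStrictHenselization.isSepClosure
  haveI : IsSepClosed (ResidueField Ash) := hsc.sep_closed
  haveI : Algebra.IsSeparable (ResidueField A) (ResidueField Ash) := hsc.separable
  have e1 : ENat.card (minimalPrimes (CAlg2.normRed A ⊗[A] Ash)) =
      ENat.card (minimalPrimes Ash) :=
    ENat.card_congr (Set.BijOn.equiv _ (BR.bijOn_normRed (A := A) (Ah := Ash)))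
  have hdom : ∀ (M : Ideal (CAlg2.normRed A ⊗[A] Ash)) [M.IsMaximal],
      IsDomain (Localization.AtPrime M) := fun M _ =>
    DM.isDomain_localization_shens A (CAlg2.normRed A) Ash M
      (fun m' _ => NR.normal_localization_normRed A hfin m')
  obtain ⟨ι, -⟩ : ∃ ι : ResidueField Ash →ₐ[ResidueField A]
      AlgebraicClosure (ResidueField A), True := ⟨IsAlgClosed.lift, trivial⟩
  have hθχ : ((ι : ResidueField Ash →+* AlgebraicClosure (ResidueField A)).comp
      (residue Ash)).comp (algebraMap A Ash) = Brnch.toClosure A := by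
    refine RingHom.ext (fun a => ?_)
    show ι (residue Ash (algebraMap A Ash a)) = _
    have h1 : residue Ash (algebraMap A Ash a) =
        algebraMap (ResidueField A) (ResidueField Ash) (residue A a) := rfl
    rw [h1, ι.commutes]
    rfl
  rw [← e1, DM.card_minimalPrimes_eq_card_maximalSpectrum A (CAlg2.normRed A) Ash hdom,
    card_maximalSpectrum_eq_card_homs A (CAlg2.normRed A) Ash
      (AlgebraicClosure (ResidueField A))
      (ι : ResidueField Ash →+* AlgebraicClosure (ResidueField A)),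
    ← card_homs_eq_card_sigma A]
  exact card_homs_eq_card_homs_left A (CAlg2.normRed A) Ash (AlgebraicClosure (ResidueField A))
    ((ι : ResidueField Ash →+* AlgebraicClosure (ResidueField A)).comp (residue Ash))
    (Brnch.toClosure A) hθχ

theorem card_minimalPrimes_eq_numGeomBranches :
    ENat.card (minimalPrimes Ash) = Brnch.numGeomBranches A := by
  haveI : Module.FaithfullyFlat A Ash := HFlat.faithfullyFlat_of_isStrictHenselization A Ash
  unfold Brnch.numGeomBranches
  by_cases hfin : (minimalPrimes A).Finite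
  · rw [if_pos hfin]
    exact card_minimalPrimes_shens A Ash hfin
  · rw [if_neg hfin]
    exact DM.card_minimalPrimes_eq_top_of_infinite A Ash hfin

end Assembly

end Groth.Agent.Helper1.GB
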