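import Groth.Agent.Lib.Helper1.IH2
import Groth.Agent.Lib.Helper1.SH1

/-!
# Tensoring with a purely inseparable integral local algebra; strict henselizations
-/

set_option autoImplicit false

namespace Groth.Agent.Helper1.IH

open Polynomial IsLocalRing TensorProduct

universe u

section Field

/-- a purely inseparable extension of a separably closed field is separably closed -/
theorem isSepClosed_of_isPurelyInseparable (F E : Type u) [Field F] [Field E] [Algebra F E]
    [IsSepClosed F] [IsPurelyInseparable F E] : IsSepClosed E := by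
  apply IsSepClosed.of_exists_root
  intro p hpm hpirr hpsep
  haveI : Fact (Irreducible p) := ⟨hpirr⟩
  haveI : Module.Finite E (AdjoinRoot p) := hpm.finite_adjoinRoot
  have hmin : minpoly E (AdjoinRoot.root p) = p := by
    rw [AdjoinRoot.minpoly_root hpm.ne_zero, hpm.leadingCoeff, inv_one, C_1, mul_one]
  have hxsep : IsSeparable E (AdjoinRoot.root p) := by
    unfold IsSeparable
    rw [hmin]
    exact hpsep
  have htop : Algebra.adjoin E {AdjoinRoot.root p} = ⊤ := AdjoinRoot.adjoinRoot_eq_top
  have hsc : separableClosure E (AdjoinRoot p) = ⊤ := by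
    apply IntermediateField.toSubalgebra_injective
    rw [IntermediateField.top_toSubalgebra, eq_top_iff, ← htop]
    exact Algebra.adjoin_le (Set.singleton_subset_iff.mpr (mem_separableClosure_iff.mpr hxsep))
  haveI : Algebra.IsSeparable E (AdjoinRoot p) := (separableClosure.eq_top_iff E _).mp hsc
  haveI : Algebra.IsAlgebraic F E := IsPurelyInseparable.isAlgebraic F E
  haveI : Algebra.IsAlgebraic E (AdjoinRoot p) := Algebra.IsAlgebraic.of_finite E _
  haveI : Algebra.IsAlgebraic F (AdjoinRoot p) := Algebra.IsAlgebraic.trans F E (AdjoinRoot p)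
  have hbot : separableClosure F (AdjoinRoot p) = ⊥ :=
    IntermediateField.eq_bot_of_isSepClosed_of_isSeparable _
  haveI : IsPurelyInseparable F (AdjoinRoot p) := separableClosure.eq_bot_iff.mp hbot
  haveI : IsPurelyInseparable E (AdjoinRoot p) := IsPurelyInseparable.tower_top F E (AdjoinRoot p)
  obtain ⟨x, hx⟩ := IsPurelyInseparable.surjective_algebraMap_of_isSeparable E (AdjoinRoot p)
    (AdjoinRoot.root p)
  refine ⟨x, ?_⟩
  apply (algebraMap E (AdjoinRoot p)).injective
  rw [map_zero, ← Polynomial.aeval_algebraMap_apply_eq_algebraMap_eval, hx, AdjoinRoot.aeval_eq,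
    AdjoinRoot.mk_self]

end Field

section PI

variable {A B S : Type u} [CommRing A] [CommRing B] [Algebra A B] [CommRing S] [Algebra A S]
  [IsLocalRing B]

/-- every element of `B ⊗ S` has a `q`-power congruent to an element of `S`, when the residue
field of `B` is purely inseparable over the image of `A` -/
theorem exists_pow_sub_tmul_mem (q : ℕ) (hq : q = 1 ∨ (q.Prime ∧ (q : B) ∈ maximalIdeal B))
    (hPI : ∀ b : B, ∃ (n : ℕ) (a : A), b ^ q ^ n - algebraMap A B a ∈ maximalIdeal B)
    (I₀ : Ideal (B ⊗[A] S)) (hI₀ : (maximalIdeal B).map (algebraMap B (B ⊗[A] S)) ≤ I₀)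
    (c : B ⊗[A] S) : ∃ (n : ℕ) (s : S), c ^ q ^ n - (1 : B) ⊗ₜ[A] s ∈ I₀ := by
  have hpow : ∀ (x : B ⊗[A] S) (s : S) (n m : ℕ), x ^ q ^ n - (1 : B) ⊗ₜ[A] s ∈ I₀ →
      x ^ q ^ (n + m) - (1 : B) ⊗ₜ[A] (s ^ q ^ m) ∈ I₀ := by
    intro x s n m h
    have e1 : x ^ q ^ (n + m) = (x ^ q ^ n) ^ q ^ m := by rw [pow_add, pow_mul]
    have e2 : (1 : B) ⊗ₜ[A] (s ^ q ^ m) = ((1 : B) ⊗ₜ[A] s) ^ q ^ m := by
      rw [Algebra.TensorProduct.tmul_pow, one_pow]
    rw [e1, e2]
    obtain ⟨k, hk⟩ := sub_dvd_pow_sub_pow (x ^ q ^ n) ((1 : B) ⊗ₜ[A] s) (q ^ m)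
    rw [hk]
    exact Ideal.mul_mem_right _ _ h
  induction c using TensorProduct.induction_on with
  | zero =>
    refine ⟨0, 0, ?_⟩
    rw [pow_zero, pow_one, TensorProduct.tmul_zero, sub_zero]
    exact Ideal.zero_mem _
  | tmul b s =>
    obtain ⟨n, a, ha⟩ := hPI b
    refine ⟨n, a • s ^ q ^ n, ?_⟩
    have e : (b ⊗ₜ[A] s) ^ q ^ n - (1 : B) ⊗ₜ[A] (a • s ^ q ^ n) =
        algebraMap B (B ⊗[A] S) (b ^ q ^ n - algebraMap A B a) * ((1 : B) ⊗ₜ[A] (s ^ q ^ n)) := by
      rw [Algebra.TensorProduct.tmul_pow, Algebra.TensorProduct.algebraMap_apply,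
        Algebra.TensorProduct.tmul_mul_tmul, one_mul, Algebra.algebraMap_self_apply, mul_one,
        TensorProduct.sub_tmul, ← TensorProduct.smul_tmul, Algebra.algebraMap_eq_smul_one]
    rw [e]
    exact Ideal.mul_mem_right _ _ (hI₀ (Ideal.mem_map_of_mem _ ha))
  | add x y hx hy =>
    obtain ⟨n₁, s₁, h₁⟩ := hx
    obtain ⟨n₂, s₂, h₂⟩ := hy
    have h₁' := hpow x s₁ n₁ n₂ h₁
    have h₂' := hpow y s₂ n₂ n₁ h₂
    rw [add_comm n₂ n₁] at h₂'
    refine ⟨n₁ + n₂, s₁ ^ q ^ n₂ + s₂ ^ q ^ n₁, ?_⟩
    rcases hq with hq1 | ⟨hqp, hqm⟩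
    · subst hq1
      simp only [one_pow, pow_one] at h₁' h₂' ⊢
      have e : x + y - (1 : B) ⊗ₜ[A] (s₁ + s₂) =
          (x - (1 : B) ⊗ₜ[A] s₁) + (y - (1 : B) ⊗ₜ[A] s₂) := by
        rw [TensorProduct.tmul_add]; ring
      rw [e]
      exact Ideal.add_mem _ h₁' h₂'
    · obtain ⟨r, hr⟩ := exists_add_pow_prime_pow_eq hqp x y (n₁ + n₂)
      have hqC : ((q : ℕ) : B ⊗[A] S) ∈ I₀ := by
        have h3 := hI₀ (Ideal.mem_map_of_mem (algebraMap B (B ⊗[A] S)) hqm)
        rwa [map_natCast] at h3
      have e : (x + y) ^ q ^ (n₁ + n₂) - (1 : B) ⊗ₜ[A] (s₁ ^ q ^ n₂ + s₂ ^ q ^ n₁) =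
          (x ^ q ^ (n₁ + n₂) - (1 : B) ⊗ₜ[A] (s₁ ^ q ^ n₂)) +
          (y ^ q ^ (n₁ + n₂) - (1 : B) ⊗ₜ[A] (s₂ ^ q ^ n₁)) + (q : B ⊗[A] S) * (x * y * r) := by
        rw [hr, TensorProduct.tmul_add]; ring
      rw [e]
      exact Ideal.add_mem _ (Ideal.add_mem _ h₁' h₂') (Ideal.mul_mem_right _ _ hqC)

end PI

section Strict

variable (A B S : Type u) [CommRing A] [IsLocalRing A] [CommRing B] [IsLocalRing B] [Algebra A B]
  [IsLocalHom (algebraMap A B)] [Algebra.IsIntegral A B]
  [CommRing S] [IsLocalRing S] [Algebra A S] [IsLocalHom (algebraMap A S)]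

theorem isLocalHom_incR [IsLocalRing (B ⊗[A] S)] : IsLocalHom (incR A B S) :=
  ((IsLocalRing.local_hom_TFAE (incR A B S)).out 4 0).mp
    (comap_incR_eq A B S (maximalIdeal (B ⊗[A] S)))

theorem hq_of_expChar' (B : Type u) [CommRing B] [IsLocalRing B] (q : ℕ)
    [h : ExpChar (ResidueField B) q] :
    q = 1 ∨ (q.Prime ∧ (q : B) ∈ maximalIdeal B) := by
  cases h with
  | zero => left; rfl
  | prime hp =>
    right
    refine ⟨hp, ?_⟩
    rw [← residue_eq_zero_iff, map_natCast]
    exact CharP.cast_eq_zero (ResidueField B) q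

omit [Algebra.IsIntegral A B] in
theorem expChar_residueField_S (q : ℕ) [ExpChar (ResidueField B) q]
    (_h : IsLocalHom (algebraMap A B)) (_h' : IsLocalHom (algebraMap A S)) :
    ExpChar (ResidueField S) q := by
  obtain ⟨qA, hqA⟩ : ∃ qA, qA = ringExpChar (ResidueField A) := ⟨_, rfl⟩
  haveI hA : ExpChar (ResidueField A) qA := by
    rw [hqA]
    exact ringExpChar.expChar _
  have hB' : ExpChar (ResidueField B) qA :=
    expChar_of_injective_ringHom (algebraMap (ResidueField A) (ResidueField B)).injective qA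
  have e : qA = q := ExpChar.eq hB' ‹ExpChar (ResidueField B) q›
  rw [← e]
  exact expChar_of_injective_ringHom (algebraMap (ResidueField A) (ResidueField S)).injective qA

/-- ring homs out of `B ⊗[A] S` are determined by the two factors -/
theorem ringHom_ext_tensor {A B S : Type u} [CommRing A] [CommRing B] [Algebra A B] [CommRing S]
    [Algebra A S] {T' : Type*} [CommRing T'] (G₁ G₂ : B ⊗[A] S →+* T')
    (h1 : ∀ b, G₁ (algebraMap B (B ⊗[A] S) b) = G₂ (algebraMap B (B ⊗[A] S) b))
    (h2 : ∀ s, G₁ (incR A B S s) = G₂ (incR A B S s)) : G₁ = G₂ := by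
  refine RingHom.ext (fun c => ?_)
  induction c using TensorProduct.induction_on with
  | zero => rw [map_zero, map_zero]
  | tmul b s => rw [tmul_eq_mul, map_mul, map_mul, h1, h2]
  | add x y hx hy => rw [map_add, map_add, hx, hy]

section Local

variable [Hensel.IsStrictHenselization A S] (q : ℕ)

theorem isLocalRing_tensor_strict (hq : q = 1 ∨ (q.Prime ∧ (q : B) ∈ maximalIdeal B))
    (hPI : ∀ b : B, ∃ (n : ℕ) (a : A), b ^ q ^ n - algebraMap A B a ∈ maximalIdeal B) :
    IsLocalRing (B ⊗[A] S) := by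
  haveI : Module.FaithfullyFlat A S := HFlat.faithfullyFlat_of_isStrictHenselization A S
  haveI : Nontrivial (B ⊗[A] S) := inferInstance
  have hqpos : 0 < q := by
    rcases hq with h | ⟨h, -⟩
    · rw [h]; exact Nat.one_pos
    · exact h.pos
  apply IsLocalRing.of_unique_max_ideal
  obtain ⟨M, hM⟩ := Ideal.exists_maximal (B ⊗[A] S)
  have key : ∀ (M₁ M₂ : Ideal (B ⊗[A] S)), M₁.IsMaximal → M₂.IsMaximal → M₁ ≤ M₂ := by
    intro M₁ M₂ h₁ h₂ c hc
    have hB₁ : (maximalIdeal B).map (algebraMap B (B ⊗[A] S)) ≤ M₁ := by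
      rw [Ideal.map_le_iff_le_comap, comap_algebraMap_eq A B S M₁]
    have hB₂ : (maximalIdeal B).map (algebraMap B (B ⊗[A] S)) ≤ M₂ := by
      rw [Ideal.map_le_iff_le_comap, comap_algebraMap_eq A B S M₂]
    obtain ⟨n, s, hs⟩ := exists_pow_sub_tmul_mem (S := S) q hq hPI _ le_rfl c
    have h1 : (1 : B) ⊗ₜ[A] s ∈ M₁ := by
      have h3 := M₁.sub_mem (M₁.pow_mem_of_mem hc (q ^ n) (pow_pos hqpos n)) (hB₁ hs)
      rwa [sub_sub_cancel] at h3
    have h2 : s ∈ maximalIdeal S := by
      rw [← comap_incR_eq A B S M₁]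
      exact h1
    have h3 : (1 : B) ⊗ₜ[A] s ∈ M₂ := by
      rw [← comap_incR_eq A B S M₂] at h2
      exact h2
    have h4 := M₂.add_mem (hB₂ hs) h3
    rw [sub_add_cancel] at h4
    exact h₂.isPrime.mem_of_pow_mem _ h4
  exact ⟨M, hM, fun M' hM' => le_antisymm (key M' M hM' hM) (key M M' hM hM')⟩

theorem isLocalHom_algebraMap_tensor' [IsLocalRing (B ⊗[A] S)] :
    IsLocalHom (algebraMap B (B ⊗[A] S)) := by
  constructor
  intro b hb
  by_contra hnu
  have hbm : b ∈ maximalIdeal B := (mem_maximalIdeal _).mpr hnu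
  rw [← comap_algebraMap_eq A B S (maximalIdeal (B ⊗[A] S)), Ideal.mem_comap] at hbm
  exact ((mem_maximalIdeal _).mp hbm) hb

end Local

section Residue

variable [hC : IsLocalRing (B ⊗[A] S)] [hBC : IsLocalHom (algebraMap B (B ⊗[A] S))]

/-- the map on residue fields induced by `incR` -/
noncomputable def resR : ResidueField S →+* ResidueField (B ⊗[A] S) :=
  haveI := isLocalHom_incR A B S
  ResidueField.map (incR A B S)

theorem resR_residue (s : S) :
    resR A B S (residue S s) = residue (B ⊗[A] S) (incR A B S s) := by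
  haveI := isLocalHom_incR A B S
  exact ResidueField.map_residue (incR A B S) s

theorem residue_tmul (b : B) (s : S) :
    residue (B ⊗[A] S) (b ⊗ₜ[A] s) =
      algebraMap (ResidueField B) (ResidueField (B ⊗[A] S)) (residue B b) *
        resR A B S (residue S s) := by
  rw [tmul_eq_mul, map_mul, resR_residue, ResidueField.algebraMap_residue]

theorem exists_pow_mem_range_resR (q : ℕ)
    (hq : q = 1 ∨ (q.Prime ∧ (q : B) ∈ maximalIdeal B))
    (hPI : ∀ b : B, ∃ (n : ℕ) (a : A), b ^ q ^ n - algebraMap A B a ∈ maximalIdeal B)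
    (z : ResidueField (B ⊗[A] S)) : ∃ n, z ^ q ^ n ∈ (resR A B S).range := by
  obtain ⟨c, rfl⟩ := residue_surjective z
  have hB : (maximalIdeal B).map (algebraMap B (B ⊗[A] S)) ≤ maximalIdeal (B ⊗[A] S) := by
    rw [Ideal.map_le_iff_le_comap, comap_algebraMap_eq A B S (maximalIdeal (B ⊗[A] S))]
  obtain ⟨n, s, hs⟩ := exists_pow_sub_tmul_mem (S := S) q hq hPI _ hB c
  refine ⟨n, residue S s, ?_⟩
  rw [resR_residue, ← map_pow]
  symm
  rw [← sub_eq_zero, ← map_sub]
  exact (residue_eq_zero_iff _).mpr hs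

variable [Hensel.IsStrictHenselization A S]

theorem isSepClosed_residueField_tensor (q : ℕ) [ExpChar (ResidueField B) q]
    (hPI : ∀ b : B, ∃ (n : ℕ) (a : A), b ^ q ^ n - algebraMap A B a ∈ maximalIdeal B) :
    IsSepClosed (ResidueField (B ⊗[A] S)) := by
  haveI : IsSepClosed (ResidueField S) :=
    (Hensel.IsStrictHenselization.isSepClosure (R := A) (S := S)).sep_closed
  letI : Algebra (ResidueField S) (ResidueField (B ⊗[A] S)) := (resR A B S).toAlgebra
  haveI : ExpChar (ResidueField S) q :=
    expChar_residueField_S A B S q inferInstance inferInstance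
  haveI : IsPurelyInseparable (ResidueField S) (ResidueField (B ⊗[A] S)) :=
    (isPurelyInseparable_iff_pow_mem (ResidueField S) q).mpr
      (exists_pow_mem_range_resR A B S q (hq_of_expChar' B q) hPI)
  exact isSepClosed_of_isPurelyInseparable (ResidueField S) (ResidueField (B ⊗[A] S))

theorem isSeparable_residueField_tensor :
    Algebra.IsSeparable (ResidueField B) (ResidueField (B ⊗[A] S)) := by
  haveI hsep : Algebra.IsSeparable (ResidueField A) (ResidueField S) :=
    (Hensel.IsStrictHenselization.isSepClosure (R := A) (S := S)).separable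
  have hcomp : (algebraMap (ResidueField B) (ResidueField (B ⊗[A] S))).comp
      (algebraMap (ResidueField A) (ResidueField B)) =
      (resR A B S).comp (algebraMap (ResidueField A) (ResidueField S)) := by
    refine RingHom.ext (fun x => ?_)
    obtain ⟨a, rfl⟩ := residue_surjective x
    rw [RingHom.comp_apply, RingHom.comp_apply, ResidueField.algebraMap_residue,
      ResidueField.algebraMap_residue, ResidueField.algebraMap_residue, resR_residue,
      incR_algebraMap]
  have h1 : ∀ s : S, IsSeparable (ResidueField B) (resR A B S (residue S s)) := by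
    intro s
    have hP : (minpoly (ResidueField A) (residue S s)).Separable :=
      Algebra.IsSeparable.isSeparable (ResidueField A) (residue S s)
    have hroot : aeval (resR A B S (residue S s))
        ((minpoly (ResidueField A) (residue S s)).map
          (algebraMap (ResidueField A) (ResidueField B))) = 0 := by
      rw [aeval_def, eval₂_map, hcomp, ← Polynomial.hom_eval₂, ← aeval_def, minpoly.aeval,
        map_zero]
    unfold IsSeparable
    exact (hP.map).of_dvd (minpoly.dvd _ _ hroot)
  have hall : ∀ c : B ⊗[A] S, residue (B ⊗[A] S) c ∈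
      separableClosure (ResidueField B) (ResidueField (B ⊗[A] S)) := by
    intro c
    induction c using TensorProduct.induction_on with
    | zero =>
      rw [map_zero]
      exact zero_mem _
    | tmul b s =>
      rw [residue_tmul]
      exact mul_mem (IntermediateField.algebraMap_mem _ _)
        (mem_separableClosure_iff.mpr (h1 s))
    | add x y hx hy =>
      rw [map_add]
      exact add_mem hx hy
  refine (separableClosure.eq_top_iff (ResidueField B) (ResidueField (B ⊗[A] S))).mp ?_
  rw [eq_top_iff]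
  intro z _
  obtain ⟨c, rfl⟩ := residue_surjective z
  exact hall c

end Residue

/-- for `B` local and integral over `A` with purely inseparable residue field extension,
`B ⊗[A] Aˢʰ` is a strict henselization of `B` -/
theorem isStrictHenselization_tensor [Hensel.IsStrictHenselization A S] (q : ℕ)
    [ExpChar (ResidueField B) q]
    (hPI : ∀ b : B, ∃ (n : ℕ) (a : A), b ^ q ^ n - algebraMap A B a ∈ maximalIdeal B) :
    ∃ (_ : IsLocalRing (B ⊗[A] S)) (_ : IsLocalHom (algebraMap B (B ⊗[A] S))),
      Hensel.IsStrictHenselization B (B ⊗[A] S) := by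
  haveI hloc : IsLocalRing (B ⊗[A] S) :=
    isLocalRing_tensor_strict A B S q (hq_of_expChar' B q) hPI
  haveI hlh : IsLocalHom (algebraMap B (B ⊗[A] S)) := isLocalHom_algebraMap_tensor' A B S
  refine ⟨hloc, hlh, ?_⟩
  haveI hS : HenselianLocalRing S := Hensel.IsStrictHenselization.henselian (R := A)
  refine ⟨henselianLocalRing_of_integral_ringHom (incR A B S) (incR_isIntegral A B S),
    ⟨isSepClosed_residueField_tensor A B S q hPI, isSeparable_residueField_tensor A B S⟩, ?_⟩
  intro T _ _ f _ τ hτ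
  have hτ' : ∀ b : B, τ (residue (B ⊗[A] S) (algebraMap B (B ⊗[A] S) b)) = residue T (f b) := by
    intro b
    have h1 := RingHom.congr_fun hτ (residue B b)
    rw [RingHom.comp_apply, ResidueField.map_residue, ResidueField.map_residue] at h1
    exact h1
  haveI : IsLocalHom (f.comp (algebraMap A B)) := RingHom.isLocalHom_comp f (algebraMap A B)
  have hτS : (τ.comp (resR A B S)).comp (ResidueField.map (algebraMap A S)) =
      ResidueField.map (f.comp (algebraMap A B)) := by
    refine RingHom.ext (fun x => ?_)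
    obtain ⟨a, rfl⟩ := residue_surjective x
    rw [RingHom.comp_apply, RingHom.comp_apply, ResidueField.map_residue,
      ResidueField.map_residue, resR_residue, incR_algebraMap, hτ']
    rfl
  obtain ⟨h, ⟨hh, hhres⟩, huniq⟩ := Hensel.IsStrictHenselization.universal (R := A) (S := S) T
    (f.comp (algebraMap A B)) (τ.comp (resR A B S)) hτS
  letI : Algebra A T := (f.comp (algebraMap A B)).toAlgebra
  let fB : B →ₐ[A] T := { f with commutes' := fun a => rfl }
  let hS' : S →ₐ[A] T := { h with commutes' := fun a => RingHom.congr_fun hh a }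
  let G : B ⊗[A] S →ₐ[A] T := Algebra.TensorProduct.lift fB hS' (fun _ _ => Commute.all _ _)
  have hGalg : ∀ b : B, G (algebraMap B (B ⊗[A] S) b) = f b := by
    intro b
    show G (b ⊗ₜ[A] (1 : S)) = f b
    rw [Algebra.TensorProduct.lift_tmul, map_one, mul_one]
    rfl
  have hGinc : ∀ s : S, G (incR A B S s) = h s := by
    intro s
    show G ((1 : B) ⊗ₜ[A] s) = h s
    rw [Algebra.TensorProduct.lift_tmul, map_one, one_mul]
    rfl
  refine ⟨G.toRingHom, ⟨RingHom.ext hGalg, ?_⟩, ?_⟩
  · intro c
    have h1 : (residue T).comp G.toRingHom = τ.comp (residue (B ⊗[A] S)) := by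
      apply ringHom_ext_tensor
      · intro b
        rw [RingHom.comp_apply, RingHom.comp_apply, hτ']
        show residue T (G (algebraMap B (B ⊗[A] S) b)) = _
        rw [hGalg]
      · intro s
        rw [RingHom.comp_apply, RingHom.comp_apply]
        show residue T (G (incR A B S s)) = _
        rw [hGinc, hhres, RingHom.comp_apply, resR_residue]
    exact RingHom.congr_fun h1 c
  · rintro G' ⟨hG', hG'res⟩
    have hG'alg : ∀ b : B, G' (algebraMap B (B ⊗[A] S) b) = f b := RingHom.congr_fun hG'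
    have h1 : G'.comp (incR A B S) = h := huniq _ ⟨by
      refine RingHom.ext (fun a => ?_)
      show G' (incR A B S (algebraMap A S a)) = f (algebraMap A B a)
      rw [incR_algebraMap, hG'alg], by
      intro s
      rw [RingHom.comp_apply, hG'res, RingHom.comp_apply, resR_residue]⟩
    apply ringHom_ext_tensor
    · intro b
      rw [hG'alg]
      exact (hGalg b).symm
    · intro s
      show (G'.comp (incR A B S)) s = G (incR A B S s)
      rw [h1, hGinc]

end Strict

end Groth.Agent.Helper1.IH
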