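import Groth.Agent.Lib.Helper1.UB2
import Groth.Agent.Lib.Helper1.IH3

/-!
# Geometrically unibranch local rings and the strict henselization
-/

set_option autoImplicit false

namespace Groth.Agent.Helper1.UB

open IsLocalRing TensorProduct Polynomial Groth.Agent.Helper1

universe u

section GT

variable (R S R' S' : Type u) [CommRing R] [IsLocalRing R] [CommRing S] [IsLocalRing S]
  [Algebra R S] [IsLocalHom (algebraMap R S)] [Hensel.IsStrictHenselization R S]
  [CommRing R'] [IsLocalRing R'] [CommRing S'] [IsLocalRing S'] [Algebra R' S']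

/-- strict henselization commutes with compatible quotients -/
theorem isStrictHenselization_of_surjective
    (π : R →+* R') (hπ : Function.Surjective π) (πS : S →+* S') (hπS : Function.Surjective πS)
    (hcomm : ∀ r, πS (algebraMap R S r) = algebraMap R' S' (π r))
    (hker : RingHom.ker πS ≤ (RingHom.ker π).map (algebraMap R S)) :
    ∃ (_ : IsLocalHom (algebraMap R' S')), Hensel.IsStrictHenselization R' S' := by
  haveI hS : HenselianLocalRing S := Hensel.IsStrictHenselization.henselian (R := R)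
  haveI hlπ : IsLocalHom π := IsLocalHom.of_surjective π hπ
  haveI hlπS : IsLocalHom πS := IsLocalHom.of_surjective πS hπS
  haveI hlh : IsLocalHom (algebraMap R' S') := by
    constructor
    intro d hd
    obtain ⟨r, rfl⟩ := hπ d
    rw [← hcomm] at hd
    have h1 : IsUnit (algebraMap R S r) := isUnit_of_map_unit πS _ hd
    exact (isUnit_of_map_unit (algebraMap R S) r h1).map π
  refine ⟨hlh, ?_⟩
  have hresS : Function.Surjective (ResidueField.map πS) := by
    intro z
    obtain ⟨s', rfl⟩ := residue_surjective z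
    obtain ⟨s, rfl⟩ := hπS s'
    exact ⟨residue S s, ResidueField.map_residue πS s⟩
  have hsq : (algebraMap (ResidueField R') (ResidueField S')).comp (ResidueField.map π) =
      (ResidueField.map πS).comp (algebraMap (ResidueField R) (ResidueField S)) := by
    refine RingHom.ext (fun x => ?_)
    obtain ⟨r, rfl⟩ := residue_surjective x
    rw [RingHom.comp_apply, RingHom.comp_apply, ResidueField.map_residue,
      ResidueField.algebraMap_residue, ResidueField.algebraMap_residue,
      ResidueField.map_residue, hcomm]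
  haveI hsc : IsSepClosed (ResidueField S) :=
    (Hensel.IsStrictHenselization.isSepClosure (R := R) (S := S)).sep_closed
  haveI hsep : Algebra.IsSeparable (ResidueField R) (ResidueField S) :=
    (Hensel.IsStrictHenselization.isSepClosure (R := R) (S := S)).separable
  refine ⟨IH.henselianLocalRing_of_integral_ringHom πS
    (RingHom.isIntegral_of_surjective _ hπS), ⟨?_, ?_⟩, ?_⟩
  · letI : Algebra (ResidueField S) (ResidueField S') := (ResidueField.map πS).toAlgebra
    obtain ⟨q, hq⟩ := ExpChar.exists (ResidueField S)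
    haveI := hq
    haveI : IsPurelyInseparable (ResidueField S) (ResidueField S') :=
      (isPurelyInseparable_iff_pow_mem (ResidueField S) q).mpr (fun x => ⟨0, by
        rw [pow_zero, pow_one]
        exact RingHom.mem_range.mpr (hresS x)⟩)
    exact IH.isSepClosed_of_isPurelyInseparable (ResidueField S) (ResidueField S')
  · rw [Algebra.isSeparable_def]
    intro z
    obtain ⟨y, rfl⟩ := hresS z
    have hP : (minpoly (ResidueField R) y).Separable :=
      Algebra.IsSeparable.isSeparable (ResidueField R) y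
    have hroot : aeval (ResidueField.map πS y)
        ((minpoly (ResidueField R) y).map (ResidueField.map π)) = 0 := by
      rw [aeval_def, eval₂_map, hsq, ← Polynomial.hom_eval₂, ← aeval_def, minpoly.aeval,
        map_zero]
    unfold IsSeparable
    exact (hP.map).of_dvd (minpoly.dvd _ _ hroot)
  · intro T _ _ f _ τ hτ
    haveI : IsLocalHom (f.comp π) := RingHom.isLocalHom_comp f π
    have hτ' : ∀ r' : R', τ (residue S' (algebraMap R' S' r')) = residue T (f r') := by
      intro r'
      have h1 := RingHom.congr_fun hτ (residue R' r')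
      rw [RingHom.comp_apply, ResidueField.map_residue, ResidueField.map_residue] at h1
      exact h1
    have hτ₀ : (τ.comp (ResidueField.map πS)).comp (ResidueField.map (algebraMap R S)) =
        ResidueField.map (f.comp π) := by
      refine RingHom.ext (fun x => ?_)
      obtain ⟨r, rfl⟩ := residue_surjective x
      rw [RingHom.comp_apply, RingHom.comp_apply, ResidueField.map_residue,
        ResidueField.map_residue, ResidueField.map_residue, hcomm, hτ']
      rfl
    obtain ⟨g₀, ⟨hg₀, hg₀res⟩, huniq⟩ :=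
      Hensel.IsStrictHenselization.universal (R := R) (S := S) T
        (f.comp π) (τ.comp (ResidueField.map πS)) hτ₀
    have hkill : RingHom.ker πS ≤ RingHom.ker g₀ := by
      refine hker.trans ?_
      rw [Ideal.map_le_iff_le_comap]
      intro a ha
      rw [Ideal.mem_comap, RingHom.mem_ker]
      have h2 := RingHom.congr_fun hg₀ a
      rw [RingHom.comp_apply, RingHom.comp_apply, (RingHom.mem_ker).mp ha, map_zero] at h2
      exact h2
    obtain ⟨g, hg⟩ : ∃ g : S' →+* T, ∀ s, g (πS s) = g₀ s :=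
      ⟨RingHom.liftOfSurjective πS hπS ⟨g₀, hkill⟩, fun s =>
        RingHom.liftOfSurjective_comp_apply πS hπS ⟨g₀, hkill⟩ s⟩
    refine ⟨g, ⟨?_, ?_⟩, ?_⟩
    · refine RingHom.ext (fun d => ?_)
      obtain ⟨r, rfl⟩ := hπ d
      rw [RingHom.comp_apply, ← hcomm, hg]
      exact RingHom.congr_fun hg₀ r
    · intro x
      obtain ⟨s, rfl⟩ := hπS x
      rw [hg, hg₀res, RingHom.comp_apply, ResidueField.map_residue]
    · rintro g' ⟨hg', hg'res⟩
      have h1 : g'.comp πS = g₀ := huniq _ ⟨by
        refine RingHom.ext (fun r => ?_)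
        rw [RingHom.comp_apply, RingHom.comp_apply, hcomm]
        exact RingHom.congr_fun hg' (π r), by
        intro s
        rw [RingHom.comp_apply, hg'res, RingHom.comp_apply, ResidueField.map_residue]⟩
      refine RingHom.ext (fun x => ?_)
      obtain ⟨s, rfl⟩ := hπS x
      rw [hg, ← h1]
      rfl

end GT

section Domain'

variable (D S : Type u) [CommRing D] [IsDomain D] [CommRing S] [HenselianLocalRing S] [IsDomain S]
  [Algebra D S] [Module.FaithfullyFlat D S]
  (D'' : Type u) [CommRing D''] [Algebra D D'']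

theorem isDomain_tensor_of_injective (hinj : Function.Injective (algebraMap D S))
    (j : D'' →ₐ[D] FractionRing D) (hj : Function.Injective j) : IsDomain (S ⊗[D] D'') := by
  haveI hlocz : IsLocalization (Algebra.algebraMapSubmonoid S (nonZeroDivisors D))
      (S ⊗[D] FractionRing D) := IsLocalization.tensor (FractionRing D) (nonZeroDivisors D)
  haveI hdomK : IsDomain (S ⊗[D] FractionRing D) := by
    apply IsLocalization.isDomain_of_le_nonZeroDivisors (S ⊗[D] FractionRing D)
      (M := Algebra.algebraMapSubmonoid S (nonZeroDivisors D))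
    rintro _ ⟨d, hd, rfl⟩
    apply mem_nonZeroDivisors_of_ne_zero
    rw [Ne, map_eq_zero_iff _ hinj]
    exact nonZeroDivisors.ne_zero hd
  have hinj' : Function.Injective (Algebra.TensorProduct.map (AlgHom.id D S) j) := by
    have h1 := Module.Flat.lTensor_preserves_injective_linearMap (M := S) j.toLinearMap hj
    have e : ∀ z, (LinearMap.lTensor S j.toLinearMap) z =
        Algebra.TensorProduct.map (AlgHom.id D S) j z := by
      intro z
      induction z using TensorProduct.induction_on with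
      | zero => rw [map_zero, map_zero]
      | tmul s d => rfl
      | add a b ha hb => rw [map_add, map_add, ha, hb]
    intro x y hxy
    apply h1
    rw [e, e, hxy]
  exact hinj'.isDomain (Algebra.TensorProduct.map (AlgHom.id D S) j)

theorem eq_of_isMaximal_tensor (hinj : Function.Injective (algebraMap D S))
    [Module.Finite D D''] (j : D'' →ₐ[D] FractionRing D) (hj : Function.Injective j)
    (Q₁ Q₂ : Ideal (S ⊗[D] D'')) (h₁ : Q₁.IsMaximal) (h₂ : Q₂.IsMaximal) : Q₁ = Q₂ := by
  haveI : IsDomain (S ⊗[D] D'') := isDomain_tensor_of_injective D S D'' hinj j hj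
  by_contra hne
  obtain ⟨e, he, he1, he2⟩ := exists_isIdempotentElem_mem_notMem (R := S) Q₁ Q₂ hne
  rcases IsIdempotentElem.iff_eq_zero_or_one.mp he with h0 | h1
  · exact he2 (h0 ▸ Q₂.zero_mem)
  · exact h₁.ne_top ((Ideal.eq_top_iff_one _).mpr (h1 ▸ he1))

theorem isLocalRing_of_finite_of_injective (hinj : Function.Injective (algebraMap D S))
    [Module.Finite D D''] (j : D'' →ₐ[D] FractionRing D) (hj : Function.Injective j) :
    IsLocalRing D'' := by
  haveI : Nontrivial D'' := j.toRingHom.domain_nontrivial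
  have hC := eq_of_isMaximal_tensor D S D'' hinj j hj
  obtain ⟨ι, hι⟩ : ∃ ι : D'' →+* S ⊗[D] D'',
      ι = (Algebra.TensorProduct.includeRight : D'' →ₐ[D] S ⊗[D] D'').toRingHom := ⟨_, rfl⟩
  have hne_top : ∀ n : Ideal D'', n ≠ ⊤ → n.map ι ≠ ⊤ := by
    intro n hn htop
    haveI : Nontrivial (D'' ⧸ n) := Ideal.Quotient.nontrivial_iff.mpr hn
    haveI : Nontrivial (S ⊗[D] (D'' ⧸ n)) :=
      Module.FaithfullyFlat.lTensor_nontrivial D S (D'' ⧸ n)
    obtain ⟨Ψ, hΨ⟩ : ∃ Ψ : S ⊗[D] D'' →ₐ[D] S ⊗[D] (D'' ⧸ n),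
        Ψ = Algebra.TensorProduct.map (AlgHom.id D S) (Ideal.Quotient.mkₐ D n) := ⟨_, rfl⟩
    have hle : n.map ι ≤ RingHom.ker Ψ.toRingHom := by
      rw [Ideal.map_le_iff_le_comap]
      intro y hy
      rw [Ideal.mem_comap, RingHom.mem_ker, hι]
      show Ψ ((1 : S) ⊗ₜ[D] y) = 0
      rw [hΨ, Algebra.TensorProduct.map_tmul, Ideal.Quotient.mkₐ_eq_mk,
        Ideal.Quotient.eq_zero_iff_mem.mpr hy, TensorProduct.tmul_zero]
    have h1 : (1 : S ⊗[D] D'') ∈ RingHom.ker Ψ.toRingHom := hle (htop ▸ Submodule.mem_top)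
    rw [RingHom.mem_ker, map_one] at h1
    have hs : Subsingleton (S ⊗[D] (D'' ⧸ n)) := subsingleton_of_zero_eq_one h1.symm
    exact not_subsingleton _ hs
  apply IsLocalRing.of_unique_max_ideal
  obtain ⟨n₀, hn₀⟩ := Ideal.exists_maximal D''
  refine ⟨n₀, hn₀, ?_⟩
  intro n hn
  obtain ⟨Q, hQ, hnQ⟩ := Ideal.exists_le_maximal _ (hne_top n hn.ne_top)
  obtain ⟨Q₀, hQ₀, hnQ₀⟩ := Ideal.exists_le_maximal _ (hne_top n₀ hn₀.ne_top)
  have hQQ : Q = Q₀ := hC Q Q₀ hQ hQ₀
  have h1 : n = Q.comap ι :=
    hn.eq_of_le (Ideal.comap_ne_top ι hQ.ne_top) (Ideal.map_le_iff_le_comap.mp hnQ)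
  have h2 : n₀ = Q₀.comap ι :=
    hn₀.eq_of_le (Ideal.comap_ne_top ι hQ₀.ne_top) (Ideal.map_le_iff_le_comap.mp hnQ₀)
  rw [h1, h2, hQQ]

theorem injective_val_comp_val (x : integralClosure D (FractionRing D)) :
    Function.Injective ((integralClosure D (FractionRing D)).val.comp
      (Algebra.adjoin D {x}).val) := by
  intro a b hab
  have hab' : ((a : integralClosure D (FractionRing D)) : FractionRing D) =
      ((b : integralClosure D (FractionRing D)) : FractionRing D) := hab
  exact Subtype.val_injective (Subtype.val_injective hab')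

/-- if a henselian faithfully flat extension of the domain `D` is a domain, the normalization of
`D` is local -/
theorem isLocalRing_integralClosure_of_isDomain' (hinj : Function.Injective (algebraMap D S)) :
    IsLocalRing (integralClosure D (FractionRing D)) := by
  apply IsLocalRing.of_isUnit_or_isUnit_one_sub_self
  intro x
  haveI : Module.Finite D (Algebra.adjoin D {x}) :=
    Algebra.finite_adjoin_simple_of_isIntegral (Algebra.IsIntegral.isIntegral x)
  haveI := isLocalRing_of_finite_of_injective D S (Algebra.adjoin D {x}) hinj _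
    (injective_val_comp_val D x)
  obtain ⟨x'', hx''⟩ : ∃ x'' : Algebra.adjoin D {x}, (Algebra.adjoin D {x}).val x'' = x :=
    ⟨⟨x, Algebra.subset_adjoin (Set.mem_singleton _)⟩, rfl⟩
  rcases IsLocalRing.isUnit_or_isUnit_one_sub_self x'' with h | h
  · left
    rw [← hx'']
    exact h.map (Algebra.adjoin D {x}).val
  · right
    have h3 := h.map (Algebra.adjoin D {x}).val
    rwa [map_sub, map_one, hx''] at h3

end Domain'

section Emb

theorem ker_isMaximal_of_tmul {D S D'' Ω : Type u} [CommRing D] [CommRing S] [IsLocalRing S]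
    [CommRing D''] [Algebra D S] [Algebra D D''] [Module.Finite D D''] [Field Ω]
    (α : S →+* Ω) (hα : RingHom.ker α = maximalIdeal S)
    (φ : S ⊗[D] D'' →+* Ω) (hφ : ∀ s, φ (s ⊗ₜ[D] (1 : D'')) = α s) :
    (RingHom.ker φ).IsMaximal := by
  haveI : Algebra.IsIntegral S (S ⊗[D] D'') := Algebra.IsIntegral.of_finite S _
  haveI : (RingHom.ker φ).IsPrime := RingHom.ker_isPrime φ
  apply Ideal.isMaximal_of_isIntegral_of_isMaximal_comap (R := S)
  have h1 : (RingHom.ker φ).comap (algebraMap S (S ⊗[D] D'')) = maximalIdeal S := by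
    rw [← hα]
    ext s
    rw [Ideal.mem_comap, RingHom.mem_ker, RingHom.mem_ker,
      Algebra.TensorProduct.algebraMap_apply, Algebra.algebraMap_self_apply, hφ]
  rw [h1]
  exact maximalIdeal.isMaximal S

theorem eq_of_unique_maximal {D S D'' Ω : Type u} [CommRing D] [CommRing S] [IsLocalRing S]
    [CommRing D''] [Algebra D S] [Algebra D D''] [Module.Finite D D''] [Field Ω]
    (hC : ∀ (Q₁ Q₂ : Ideal (S ⊗[D] D'')), Q₁.IsMaximal → Q₂.IsMaximal → Q₁ = Q₂)
    (α : S →+* Ω) (hα : RingHom.ker α = maximalIdeal S)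
    (β₁ β₂ : D'' →+* Ω)
    (h₁ : ∀ d, β₁ (algebraMap D D'' d) = α (algebraMap D S d))
    (h₂ : ∀ d, β₂ (algebraMap D D'' d) = α (algebraMap D S d))
    (d'' : D'') (s : S) (h : β₁ d'' = α s) : β₂ d'' = α s := by
  letI : Algebra D Ω := (α.comp (algebraMap D S)).toAlgebra
  let αA : S →ₐ[D] Ω := { α with commutes' := fun d => rfl }
  let β₁A : D'' →ₐ[D] Ω := { β₁ with commutes' := fun d => h₁ d }
  let β₂A : D'' →ₐ[D] Ω := { β₂ with commutes' := fun d => h₂ d }
  let φ₁ : S ⊗[D] D'' →ₐ[D] Ω :=
    Algebra.TensorProduct.lift αA β₁A (fun _ _ => Commute.all _ _)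
  let φ₂ : S ⊗[D] D'' →ₐ[D] Ω :=
    Algebra.TensorProduct.lift αA β₂A (fun _ _ => Commute.all _ _)
  have hφ₁ : ∀ (s : S) (d : D''), φ₁ (s ⊗ₜ[D] d) = α s * β₁ d := by
    intro s d
    show φ₁ (s ⊗ₜ[D] d) = _
    rw [Algebra.TensorProduct.lift_tmul]
    rfl
  have hφ₂ : ∀ (s : S) (d : D''), φ₂ (s ⊗ₜ[D] d) = α s * β₂ d := by
    intro s d
    show φ₂ (s ⊗ₜ[D] d) = _
    rw [Algebra.TensorProduct.lift_tmul]
    rfl
  have hM₁ : (RingHom.ker φ₁.toRingHom).IsMaximal :=
    ker_isMaximal_of_tmul α hα φ₁.toRingHom (fun s => by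
      show φ₁ (s ⊗ₜ[D] (1 : D'')) = α s
      rw [hφ₁, map_one, mul_one])
  have hM₂ : (RingHom.ker φ₂.toRingHom).IsMaximal :=
    ker_isMaximal_of_tmul α hα φ₂.toRingHom (fun s => by
      show φ₂ (s ⊗ₜ[D] (1 : D'')) = α s
      rw [hφ₂, map_one, mul_one])
  have hEq : RingHom.ker φ₁.toRingHom = RingHom.ker φ₂.toRingHom := hC _ _ hM₁ hM₂
  have hc : (1 : S) ⊗ₜ[D] d'' - s ⊗ₜ[D] (1 : D'') ∈ RingHom.ker φ₁.toRingHom := by
    rw [RingHom.mem_ker]
    show φ₁ ((1 : S) ⊗ₜ[D] d'' - s ⊗ₜ[D] (1 : D'')) = 0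
    rw [map_sub, hφ₁, hφ₁, map_one, map_one, one_mul, mul_one, h, sub_self]
  rw [hEq, RingHom.mem_ker] at hc
  have hc' : φ₂ ((1 : S) ⊗ₜ[D] d'' - s ⊗ₜ[D] (1 : D'')) = 0 := hc
  rw [map_sub, hφ₂, hφ₂, map_one, map_one, one_mul, mul_one, sub_eq_zero] at hc'
  exact hc'

theorem isPurelyInseparable_of_emb (k K L : Type u) [Field k] [Field K] [Field L] [Algebra k K]
    [Algebra k L] [IsSepClosed K] [Algebra.IsAlgebraic k L]
    (ι : K →ₐ[k] AlgebraicClosure L)
    (H : ∀ (τ₁ τ₂ : L →ₐ[k] AlgebraicClosure L) (l : L) (x : K), τ₁ l = ι x → τ₂ l = ι x) :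
    IsPurelyInseparable k L := by
  rw [isPurelyInseparable_iff_finSepDegree_eq_one]
  show Nat.card (Field.Emb k L) = 1
  rw [Nat.card_eq_one_iff_unique]
  refine ⟨⟨fun (τ₁ τ₂ : L →ₐ[k] AlgebraicClosure L) => ?_⟩,
    ⟨IsScalarTower.toAlgHom k L (AlgebraicClosure L)⟩⟩
  obtain ⟨q, hq⟩ := ExpChar.exists k
  haveI := hq
  haveI : ExpChar (AlgebraicClosure L) q :=
    expChar_of_injective_algebraMap (algebraMap k (AlgebraicClosure L)).injective q
  haveI : ExpChar (separableClosure k L) q :=
    expChar_of_injective_algebraMap (algebraMap k (separableClosure k L)).injective q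
  haveI := separableClosure.isPurelyInseparable k L
  letI : Algebra K (AlgebraicClosure L) := ι.toRingHom.toAlgebra
  haveI := IsScalarTower.of_algebraMap_eq (R := k) (S := K) (A := AlgebraicClosure L)
    (fun x => (ι.commutes x).symm)
  apply AlgHom.ext
  intro l
  obtain ⟨n, y, hy⟩ := IsPurelyInseparable.pow_mem (separableClosure k L) q l
  have hsep : IsSeparable k (l ^ q ^ n) := by
    rw [← hy]
    exact mem_separableClosure_iff.mp y.2
  have hsep₁ : IsSeparable k (τ₁ (l ^ q ^ n)) := hsep.map τ₁ τ₁.toRingHom.injective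
  have hsepK : IsSeparable K (τ₁ (l ^ q ^ n)) := IsSeparable.tower_top K hsep₁
  have hdeg : (minpoly K (τ₁ (l ^ q ^ n))).degree = 1 :=
    IsSepClosed.degree_eq_one_of_irreducible K (minpoly.irreducible hsepK.isIntegral) hsepK
  obtain ⟨x, hx⟩ := minpoly.mem_range_of_degree_eq_one K _ hdeg
  have hx' : τ₁ (l ^ q ^ n) = ι x := hx.symm
  have h2 : τ₂ (l ^ q ^ n) = ι x := H τ₁ τ₂ _ x hx'
  have h3 : (τ₁ l) ^ q ^ n = (τ₂ l) ^ q ^ n := by
    rw [← map_pow, ← map_pow, hx', h2]
  apply iterateFrobenius_inj (AlgebraicClosure L) q n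
  rw [iterateFrobenius_def, iterateFrobenius_def]
  exact h3

theorem isPurelyInseparable_residueField_of_unique_maximal (D S D'' : Type u) [CommRing D]
    [IsLocalRing D] [CommRing S] [IsLocalRing S] [Algebra D S] [IsLocalHom (algebraMap D S)]
    [CommRing D''] [IsLocalRing D''] [Algebra D D''] [IsLocalHom (algebraMap D D'')]
    [Module.Finite D D'']
    [IsSepClosed (ResidueField S)] [Algebra.IsSeparable (ResidueField D) (ResidueField S)]
    (hC : ∀ (Q₁ Q₂ : Ideal (S ⊗[D] D'')), Q₁.IsMaximal → Q₂.IsMaximal → Q₁ = Q₂) :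
    IsPurelyInseparable (ResidueField D) (ResidueField D'') := by
  haveI : Algebra.IsAlgebraic (ResidueField D) (ResidueField S) :=
    Algebra.IsSeparable.isAlgebraic _ _
  have hcompD'' : (algebraMap (ResidueField D) (ResidueField D'')).comp (residue D) =
      (residue D'').comp (algebraMap D D'') :=
    RingHom.ext (fun d => ResidueField.algebraMap_residue d)
  haveI : Algebra.IsIntegral (ResidueField D) (ResidueField D'') := by
    constructor
    intro z
    obtain ⟨d'', rfl⟩ := residue_surjective z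
    obtain ⟨p, hp, hpd⟩ := Algebra.IsIntegral.isIntegral (R := D) d''
    refine ⟨p.map (residue D), hp.map _, ?_⟩
    rw [eval₂_map, hcompD'', ← Polynomial.hom_eval₂, hpd, map_zero]
  haveI : Algebra.IsAlgebraic (ResidueField D) (ResidueField D'') :=
    Algebra.IsIntegral.isAlgebraic
  let ι : ResidueField S →ₐ[ResidueField D] AlgebraicClosure (ResidueField D'') :=
    IsAlgClosed.lift
  apply isPurelyInseparable_of_emb (ResidueField D) (ResidueField S) (ResidueField D'') ι
  intro τ₁ τ₂ l x hl
  obtain ⟨d'', rfl⟩ := residue_surjective l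
  obtain ⟨s, rfl⟩ := residue_surjective x
  have hα : RingHom.ker (ι.toRingHom.comp (residue S)) = maximalIdeal S := by
    ext s
    rw [RingHom.mem_ker, RingHom.comp_apply, map_eq_zero, residue_eq_zero_iff]
  have hcomm : ∀ (τ : ResidueField D'' →ₐ[ResidueField D] AlgebraicClosure (ResidueField D''))
      (d : D), (τ.toRingHom.comp (residue D'')) (algebraMap D D'' d) =
        (ι.toRingHom.comp (residue S)) (algebraMap D S d) := by
    intro τ d
    show τ (residue D'' (algebraMap D D'' d)) = ι (residue S (algebraMap D S d))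
    rw [← ResidueField.algebraMap_residue, ← ResidueField.algebraMap_residue, τ.commutes,
      ι.commutes]
  exact eq_of_unique_maximal hC (ι.toRingHom.comp (residue S)) hα
    (τ₁.toRingHom.comp (residue D'')) (τ₂.toRingHom.comp (residue D'')) (hcomm τ₁) (hcomm τ₂)
    d'' s hl

end Emb

end Groth.Agent.Helper1.UB
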