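import Groth.Agent.Lib.Helper1.BRN2
import Groth.Agent.Lib.Helper1.GB2
import Groth.Agent.Lib.Helper1.UB3

/-!
# The number of geometric branches is additive over minimal primes
-/

set_option autoImplicit false

namespace Groth.Agent.Helper1.BRN

open IsLocalRing TensorProduct Groth.Agent.Helper1

universe u

/-- strict henselization commutes with quotients -/
theorem isStrictHenselization_quotient_map (R S : Type u) [CommRing R] [IsLocalRing R]
    [CommRing S] [IsLocalRing S] [Algebra R S] [IsLocalHom (algebraMap R S)]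
    [Hensel.IsStrictHenselization R S] (I : Ideal R) (hI : I ≠ ⊤) :
    letI : Algebra (R ⧸ I) (S ⧸ I.map (algebraMap R S)) :=
      (Ideal.quotientMap (I.map (algebraMap R S)) (algebraMap R S) Ideal.le_comap_map).toAlgebra
    ∃ (_ : IsLocalRing (R ⧸ I)) (_ : IsLocalRing (S ⧸ I.map (algebraMap R S)))
      (_ : IsLocalHom (algebraMap (R ⧸ I) (S ⧸ I.map (algebraMap R S)))),
      Hensel.IsStrictHenselization (R ⧸ I) (S ⧸ I.map (algebraMap R S)) := by
  letI : Algebra (R ⧸ I) (S ⧸ I.map (algebraMap R S)) :=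
    (Ideal.quotientMap (I.map (algebraMap R S)) (algebraMap R S) Ideal.le_comap_map).toAlgebra
  have hJ : I.map (algebraMap R S) ≠ ⊤ := by
    have h1 : I.map (algebraMap R S) ≤ maximalIdeal S := by
      rw [Ideal.map_le_iff_le_comap, IsLocalRing.maximalIdeal_comap]
      exact IsLocalRing.le_maximalIdeal hI
    intro htop
    rw [htop] at h1
    exact (maximalIdeal.isMaximal S).ne_top (top_le_iff.mp h1)
  haveI : Nontrivial (R ⧸ I) := Ideal.Quotient.nontrivial_iff.mpr hI
  haveI : Nontrivial (S ⧸ I.map (algebraMap R S)) := Ideal.Quotient.nontrivial_iff.mpr hJ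
  haveI hlR : IsLocalRing (R ⧸ I) :=
    IsLocalRing.of_surjective' (Ideal.Quotient.mk _) Ideal.Quotient.mk_surjective
  haveI hlS : IsLocalRing (S ⧸ I.map (algebraMap R S)) :=
    IsLocalRing.of_surjective' (Ideal.Quotient.mk _) Ideal.Quotient.mk_surjective
  obtain ⟨hlh, hH⟩ := UB.isStrictHenselization_of_surjective R S (R ⧸ I)
    (S ⧸ I.map (algebraMap R S)) (Ideal.Quotient.mk I) Ideal.Quotient.mk_surjective
    (Ideal.Quotient.mk (I.map (algebraMap R S))) Ideal.Quotient.mk_surjective
    (fun r => (Ideal.quotientMap_mk).symm)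
    (by rw [Ideal.mk_ker, Ideal.mk_ker])
  exact ⟨hlR, hlS, hlh, hH⟩

theorem numGeomBranches_eq_finsum (A : Type u) [CommRing A] [IsLocalRing A]
    (h : (minimalPrimes A).Finite) :
    Brnch.numGeomBranches A =
      ∑ᶠ p : minimalPrimes A,
        haveI : p.1.IsPrime := p.2.1.1
        Brnch.numGeomBranches (A ⧸ p.1) := by
  haveI : Hensel.IsStrictHenselization A (SHzn.S A) := SHzn.isStrictHenselization A
  haveI : Module.Flat A (SHzn.S A) :=
    (HFlat.faithfullyFlat_of_isStrictHenselization A (SHzn.S A)).toFlat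
  rw [← GB.card_minimalPrimes_eq_numGeomBranches A (SHzn.S A), card_minimalPrimes_eq_finsum h]
  refine finsum_congr (fun p => ?_)
  haveI hpp : p.1.IsPrime := p.2.1.1
  obtain ⟨hlR, hlS, hlh, hH⟩ := isStrictHenselization_quotient_map A (SHzn.S A) p.1 hpp.ne_top
  letI : Algebra (A ⧸ p.1) (SHzn.S A ⧸ p.1.map (algebraMap A (SHzn.S A))) :=
    (Ideal.quotientMap (p.1.map (algebraMap A (SHzn.S A))) (algebraMap A (SHzn.S A))
      Ideal.le_comap_map).toAlgebra
  haveI := hlh
  haveI := hH
  exact GB.card_minimalPrimes_eq_numGeomBranches (A ⧸ p.1)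
    (SHzn.S A ⧸ p.1.map (algebraMap A (SHzn.S A)))

end Groth.Agent.Helper1.BRN
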