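import Mathlib
import Groth.Agent.Lib.Helper1.AdicLib
import Groth.Agent.Lib.Helper1.Hensel

/-!
# Adic completeness: extensions, torsion modules, and completeness along a second ideal
-/

set_option autoImplicit false

namespace Groth.Agent.Helper1

open Submodule

universe u

section Basic

variable {A : Type*} [CommRing A]

theorem mk_mem_smul_top_iff (K P : Ideal A) (x : A) :
    (Submodule.mkQ K x : A ⧸ K) ∈ (P • ⊤ : Submodule A (A ⧸ K)) ↔ x ∈ P ⊔ K := by
  have h : (P • ⊤ : Submodule A (A ⧸ K)) = Submodule.map (Submodule.mkQ K) P := by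
    have h1 : (P • (⊤ : Submodule A A)) = P := by
      rw [smul_eq_mul, Ideal.mul_top]
    conv_rhs => rw [← h1]
    rw [Submodule.map_smul'', Submodule.map_top, Submodule.range_mkQ]
  rw [h, ← Submodule.mem_comap, Submodule.comap_map_mkQ, sup_comm]

theorem smul_top_self (P : Ideal A) : (P • (⊤ : Submodule A A)) = P := by
  rw [smul_eq_mul, Ideal.mul_top]

/-- a Cauchy criterion via successive differences -/
theorem exists_limit_of_succ (I : Ideal A) {M : Type*} [AddCommGroup M] [Module A M]
    [IsPrecomplete I M] (w : ℕ → M)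
    (hw : ∀ n, w (n + 1) - w n ∈ (I ^ n • ⊤ : Submodule A M)) :
    ∃ L : M, ∀ n, L - w n ∈ (I ^ n • ⊤ : Submodule A M) := by
  obtain ⟨L', hL'⟩ := exists_series_limit I (fun k => w (k + 1) - w k) hw
  refine ⟨w 0 + L', fun n => ?_⟩
  have := hL' n
  rw [Finset.sum_range_sub] at this
  have e : w 0 + L' - w n = L' - (w n - w 0) := by abel
  rw [e]; exact this

theorem sub_mem_of_le {I : Ideal A} {M : Type*} [AddCommGroup M] [Module A M] (f : ℕ → M)
    (hf : ∀ {m n}, m ≤ n → f m ≡ f n [SMOD (I ^ m • ⊤ : Submodule A M)]) {m n : ℕ}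
    (hmn : m ≤ n) : f n - f m ∈ (I ^ m • ⊤ : Submodule A M) := by
  have := (hf hmn).symm
  rwa [SModEq.sub_mem] at this

end Basic

section Torsion

variable {A : Type*} [CommRing A]

/-- finite modules killed by `I` are `J`-adically complete when `A/I` is -/
theorem isAdicComplete_of_torsion [IsNoetherianRing A] (I J : Ideal A)
    (hJ : J ≤ Ideal.jacobson ⊥)
    [hP : IsPrecomplete (Ideal.map (Ideal.Quotient.mk I) J) (A ⧸ I)]
    (M : Type*) [AddCommGroup M] [Module A M] [Module.Finite A M]
    (hIM : ∀ a ∈ I, ∀ x : M, a • x = 0) : IsAdicComplete J M := by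
  have hH : IsHausdorff J M := IsHausdorff.of_le_jacobson J M hJ
  have hPre : IsPrecomplete J M := by
    refine ⟨fun f hf => ?_⟩
    obtain ⟨r, x, hx⟩ := Module.Finite.exists_fin (R := A) (M := M)
    have hcoef : ∀ n, ∃ a : Fin r → A, (∀ i, a i ∈ J ^ n) ∧
        f (n + 1) - f n = ∑ i, a i • x i := by
      intro n
      have hmem : f (n + 1) - f n ∈ (J ^ n • ⊤ : Submodule A M) :=
        sub_mem_of_le f hf (Nat.le_succ n)
      rw [← hx, Submodule.mem_ideal_smul_span_iff_exists_sum] at hmem
      obtain ⟨a, ha, hsum⟩ := hmem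
      refine ⟨fun i => a i, ha, ?_⟩
      rw [← hsum, Finsupp.sum_fintype _ _ (fun i => zero_smul A (x i))]
    choose a ha hsum using hcoef
    have hlim : ∀ i, ∃ b : A, ∀ N, (∑ n ∈ Finset.range N, a n i) - b ∈ J ^ N ⊔ I := by
      intro i
      have hs : ∀ {m n}, m ≤ n →
          (Ideal.Quotient.mk I (∑ k ∈ Finset.range m, a k i)) ≡
            (Ideal.Quotient.mk I (∑ k ∈ Finset.range n, a k i))
          [SMOD ((Ideal.map (Ideal.Quotient.mk I) J) ^ m • ⊤ :
            Submodule (A ⧸ I) (A ⧸ I))] := by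
        intro m n hmn
        rw [SModEq.sub_mem]
        obtain ⟨d, rfl⟩ := Nat.exists_eq_add_of_le hmn
        have hdiff : Ideal.Quotient.mk I (∑ k ∈ Finset.range m, a k i) -
            Ideal.Quotient.mk I (∑ k ∈ Finset.range (m + d), a k i) =
            - Ideal.Quotient.mk I (∑ k ∈ Finset.range d, a (m + k) i) := by
          rw [Finset.sum_range_add, map_add]; ring
        rw [hdiff]
        apply Submodule.neg_mem
        rw [smul_eq_mul, Ideal.mul_top, ← Ideal.map_pow]
        apply Ideal.mem_map_of_mem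
        exact Ideal.sum_mem _ fun k _ =>
          Ideal.pow_le_pow_right (Nat.le_add_right m k) (ha (m + k) i)
      obtain ⟨β, hβ⟩ := IsPrecomplete.prec' (I := Ideal.map (Ideal.Quotient.mk I) J) _ hs
      obtain ⟨b, rfl⟩ := Ideal.Quotient.mk_surjective β
      refine ⟨b, fun N => ?_⟩
      have := hβ N
      rw [SModEq.sub_mem, smul_eq_mul, Ideal.mul_top, ← Ideal.map_pow, ← map_sub,
        Ideal.mem_quotient_iff_mem_sup] at this
      exact this
    choose b hb using hlim
    refine ⟨f 0 + ∑ i, b i • x i, fun N => ?_⟩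
    rw [SModEq.sub_mem]
    have hfN : ∀ N, f N = f 0 + ∑ i, (∑ n ∈ Finset.range N, a n i) • x i := by
      intro N
      induction N with
      | zero => simp
      | succ N ih =>
        have h1 : f (N + 1) = f N + ∑ i, a N i • x i := by rw [← hsum N]; abel
        rw [h1, ih, add_assoc, ← Finset.sum_add_distrib]
        congr 1
        refine Finset.sum_congr rfl fun i _ => ?_
        rw [Finset.sum_range_succ, add_smul]
    rw [hfN N, add_sub_add_left_eq_sub, ← Finset.sum_sub_distrib]
    refine Submodule.sum_mem _ fun i _ => ?_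
    rw [← sub_smul]
    obtain ⟨c, hc, d, hd, hcd⟩ := Submodule.mem_sup.mp (hb i N)
    rw [← hcd, add_smul, hIM d hd, add_zero]
    exact Submodule.smul_mem_smul hc Submodule.mem_top
  exact { toIsHausdorff := hH, toIsPrecomplete := hPre }

end Torsion

section Extension

variable {A : Type*} [CommRing A] [IsNoetherianRing A]

/-- an extension of adically complete finite modules is adically complete -/
theorem isAdicComplete_of_extension (J : Ideal A) (M : Type*) [AddCommGroup M] [Module A M]
    [Module.Finite A M] (M' : Submodule A M) [IsAdicComplete J M']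
    [IsAdicComplete J (M ⧸ M')] : IsAdicComplete J M := by
  obtain ⟨c, hc⟩ := Ideal.exists_pow_inf_eq_pow_smul J M'
  -- Artin–Rees in the form we need
  have hAR : ∀ (n : ℕ) (v : M) (hv : v ∈ M'), v ∈ (J ^ (n + c) • ⊤ : Submodule A M) →
      (⟨v, hv⟩ : M') ∈ (J ^ n • ⊤ : Submodule A M') := by
    intro n v hv hvn
    have h1 : v ∈ (J ^ (n + c) • ⊤ ⊓ M' : Submodule A M) := ⟨hvn, hv⟩
    rw [hc (n + c) (Nat.le_add_left c n), Nat.add_sub_cancel] at h1
    have h2 : v ∈ (J ^ n • M' : Submodule A M) :=
      Submodule.smul_mono le_rfl inf_le_right h1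
    have h3 : (J ^ n • M' : Submodule A M) =
        Submodule.map M'.subtype (J ^ n • ⊤ : Submodule A M') := by
      rw [Submodule.map_smul'', Submodule.map_subtype_top]
    rw [h3] at h2
    obtain ⟨w, hw, hwv⟩ := h2
    have : w = ⟨v, hv⟩ := Subtype.ext hwv
    rw [← this]; exact hw
  have hmapQ : ∀ n, (J ^ n • ⊤ : Submodule A (M ⧸ M')) =
      Submodule.map M'.mkQ (J ^ n • ⊤ : Submodule A M) := by
    intro n
    rw [Submodule.map_smul'', Submodule.map_top, Submodule.range_mkQ]
  have hH : IsHausdorff J M := by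
    refine ⟨fun x hx => ?_⟩
    have hxn : ∀ n, x ∈ (J ^ n • ⊤ : Submodule A M) := fun n => by
      have := hx n; rwa [SModEq.sub_mem, sub_zero] at this
    have hxM' : x ∈ M' := by
      have : M'.mkQ x = 0 := by
        apply IsHausdorff.haus' (I := J)
        intro n
        rw [SModEq.sub_mem, sub_zero, hmapQ]
        exact Submodule.mem_map_of_mem (hxn n)
      exact (Submodule.Quotient.mk_eq_zero M').mp this
    have : (⟨x, hxM'⟩ : M') = 0 := by
      apply IsHausdorff.haus' (I := J)
      intro n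
      rw [SModEq.sub_mem, sub_zero]
      exact hAR n x hxM' (hxn (n + c))
    exact congrArg Subtype.val this
  have hPre : IsPrecomplete J M := by
    refine ⟨fun f hf => ?_⟩
    have hfQ : ∀ {m n}, m ≤ n → M'.mkQ (f m) ≡ M'.mkQ (f n)
        [SMOD (J ^ m • ⊤ : Submodule A (M ⧸ M'))] := by
      intro m n hmn
      rw [SModEq.sub_mem, ← map_sub, hmapQ]
      refine Submodule.mem_map_of_mem ?_
      have := hf hmn; rwa [SModEq.sub_mem] at this
    obtain ⟨ybar, hybar⟩ := IsPrecomplete.prec' (I := J) _ hfQ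
    obtain ⟨y, rfl⟩ := M'.mkQ_surjective ybar
    -- decomposition g n = u n + v n
    have hdec : ∀ n, ∃ u : M, u ∈ (J ^ n • ⊤ : Submodule A M) ∧ f n - y - u ∈ M' := by
      intro n
      have h1 := hybar n
      rw [SModEq.sub_mem, ← map_sub, hmapQ] at h1
      obtain ⟨u, hu, hu'⟩ := h1
      refine ⟨u, hu, ?_⟩
      rw [← Submodule.Quotient.mk_eq_zero M', Submodule.Quotient.mk_sub]
      exact sub_eq_zero.mpr hu'.symm
    choose u hu hv using hdec
    -- v n := f n - y - u n ∈ M'
    have hvsucc : ∀ n, (f (n + 1) - y - u (n + 1)) - (f n - y - u n) ∈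
        (J ^ n • ⊤ : Submodule A M) := by
      intro n
      have e : (f (n + 1) - y - u (n + 1)) - (f n - y - u n) =
          (f (n + 1) - f n) - u (n + 1) + u n := by abel
      rw [e]
      refine Submodule.add_mem _ (Submodule.sub_mem _ (sub_mem_of_le f hf (Nat.le_succ n)) ?_)
        (hu n)
      exact Submodule.smul_mono_left (Ideal.pow_le_pow_right (Nat.le_succ n)) (hu (n + 1))
    -- shifted sequence in M'
    have hw : ∀ n, (⟨f (n + 1 + c) - y - u (n + 1 + c), hv _⟩ : M') -
        ⟨f (n + c) - y - u (n + c), hv _⟩ ∈ (J ^ n • ⊤ : Submodule A M') := by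
      intro n
      have hmem : (f (n + 1 + c) - y - u (n + 1 + c)) - (f (n + c) - y - u (n + c)) ∈ M' :=
        M'.sub_mem (hv _) (hv _)
      have := hAR n _ hmem (by
        have h := hvsucc (n + c)
        rw [show n + c + 1 = n + 1 + c by ring] at h
        exact h)
      exact this
    obtain ⟨ℓ, hℓ⟩ := exists_limit_of_succ J
      (fun n => (⟨f (n + c) - y - u (n + c), hv _⟩ : M')) hw
    refine ⟨y + ℓ.1, fun n => ?_⟩
    rw [SModEq.sub_mem]
    -- f n - (y + ℓ) = (f n - f (n+c)) + u (n+c) + (v (n+c) - ℓ)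
    have e : f n - (y + ℓ.1) = - (f (n + c) - f n) + u (n + c) -
        (ℓ.1 - (f (n + c) - y - u (n + c))) := by abel
    rw [e]
    refine Submodule.sub_mem _ (Submodule.add_mem _ (Submodule.neg_mem _
      (sub_mem_of_le f hf (Nat.le_add_right n c))) ?_) ?_
    · exact Submodule.smul_mono_left (Ideal.pow_le_pow_right (Nat.le_add_right n c)) (hu (n + c))
    · have h1 := hℓ n
      have h2 : (J ^ n • ⊤ : Submodule A M') ≤
          Submodule.comap M'.subtype (J ^ n • ⊤ : Submodule A M) := by
        rw [← Submodule.map_le_iff_le_comap, Submodule.map_smul'']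
        exact Submodule.smul_mono le_rfl le_top
      exact h2 h1
  exact { toIsHausdorff := hH, toIsPrecomplete := hPre }

end Extension

section Main

variable {A : Type u} [CommRing A] [IsNoetherianRing A]

/-- finite modules killed by a power of `I` are `J`-adically complete when `A/I` is -/
theorem isAdicComplete_of_pow_torsion (I J : Ideal A) (hJ : J ≤ Ideal.jacobson ⊥)
    [IsPrecomplete (Ideal.map (Ideal.Quotient.mk I) J) (A ⧸ I)] (k : ℕ) :
    ∀ (M : Type u) [AddCommGroup M] [Module A M] [Module.Finite A M],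
      (∀ a ∈ I ^ k, ∀ x : M, a • x = 0) → IsAdicComplete J M := by
  induction k with
  | zero =>
    intro M _ _ _ h
    have : Subsingleton M := ⟨fun x y => by
      have hx := h 1 (by rw [pow_zero, Ideal.one_eq_top]; trivial) x
      have hy := h 1 (by rw [pow_zero, Ideal.one_eq_top]; trivial) y
      rw [one_smul] at hx hy
      rw [hx, hy]⟩
    infer_instance
  | succ k ih =>
    intro M _ _ _ h
    let M' : Submodule A M := I ^ k • ⊤
    have hM' : ∀ a ∈ I, ∀ x : M', a • x = 0 := by
      rintro a ha ⟨y, hy⟩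
      apply Subtype.ext
      show a • y = 0
      refine Submodule.smul_induction_on hy ?_ ?_
      · intro b hb m _
        rw [← mul_smul]
        exact h (a * b) (by rw [pow_succ']; exact Ideal.mul_mem_mul ha hb) m
      · intro y₁ y₂ h₁ h₂
        rw [smul_add, h₁, h₂, add_zero]
    have hQ : ∀ a ∈ I ^ k, ∀ x : M ⧸ M', a • x = 0 := by
      intro a ha x
      obtain ⟨m, rfl⟩ := M'.mkQ_surjective x
      rw [← map_smul]
      exact (Submodule.Quotient.mk_eq_zero M').mpr (Submodule.smul_mem_smul ha Submodule.mem_top)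
    have h1 : IsAdicComplete J M' := isAdicComplete_of_torsion I J hJ M' hM'
    have h2 : IsAdicComplete J (M ⧸ M') := ih (M ⧸ M') hQ
    exact isAdicComplete_of_extension J M M'

/-- Stacks 0DYC: `A` Noetherian and `I`-adically complete with `A/I` complete along `J` is
`J`-adically complete. -/
theorem isAdicComplete_of_isAdicComplete_quotient (I J : Ideal A) [IsAdicComplete I A]
    [hq : IsAdicComplete (Ideal.map (Ideal.Quotient.mk I) J) (A ⧸ I)] : IsAdicComplete J A := by
  have hI : I ≤ Ideal.jacobson ⊥ := IsAdicComplete.le_jacobson_bot I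
  have hJq : Ideal.map (Ideal.Quotient.mk I) J ≤ Ideal.jacobson ⊥ :=
    IsAdicComplete.le_jacobson_bot _
  have hJ : J ≤ Ideal.jacobson ⊥ := by
    intro x hx
    rw [Ideal.mem_jacobson_bot]
    intro y
    have h1 : Ideal.Quotient.mk I x ∈ Ideal.jacobson (⊥ : Ideal (A ⧸ I)) :=
      hJq (Ideal.mem_map_of_mem _ hx)
    rw [Ideal.mem_jacobson_bot] at h1
    have h2 := h1 (Ideal.Quotient.mk I y)
    rw [← map_mul, ← map_one (Ideal.Quotient.mk I), ← map_add] at h2
    exact isUnit_of_isUnit_mk hI h2
  -- completeness of the quotients by powers of I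
  have hP : ∀ k, IsAdicComplete J (A ⧸ I ^ k) := fun k =>
    isAdicComplete_of_pow_torsion I J hJ k (A ⧸ I ^ k) (by
      intro a ha x
      obtain ⟨m, rfl⟩ := (I ^ k).mkQ_surjective x
      rw [← map_smul]
      refine (Submodule.Quotient.mk_eq_zero (I ^ k)).mpr ?_
      rw [smul_eq_mul]
      exact Ideal.mul_mem_right _ _ ha)
  have hHk : ∀ k (x : A), (∀ n, x ∈ J ^ n ⊔ I ^ k) → x ∈ I ^ k := by
    intro k x hx
    have : (I ^ k).mkQ x = 0 := by
      apply IsHausdorff.haus' (I := J)
      intro n
      rw [SModEq.sub_mem, sub_zero, mk_mem_smul_top_iff]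
      exact hx n
    exact (Submodule.Quotient.mk_eq_zero (I ^ k)).mp this
  have hH : IsHausdorff J A := by
    refine ⟨fun x hx => ?_⟩
    have hxn : ∀ n, x ∈ J ^ n := fun n => by
      have := hx n; rwa [SModEq.sub_mem, sub_zero, smul_top_self] at this
    apply IsHausdorff.haus' (I := I)
    intro k
    rw [SModEq.sub_mem, sub_zero, smul_top_self]
    exact hHk k x fun n => Ideal.mem_sup_left (hxn n)
  have hPre : IsPrecomplete J A := by
    refine ⟨fun f hf => ?_⟩
    have hfJ : ∀ {m n}, m ≤ n → f n - f m ∈ J ^ m := fun {m n} hmn => by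
      have := sub_mem_of_le f hf hmn; rwa [smul_top_self] at this
    -- limits modulo I^k
    have hlim : ∀ k, ∃ L : A, ∀ n, f n - L ∈ J ^ n ⊔ I ^ k := by
      intro k
      have hfk : ∀ {m n}, m ≤ n → (I ^ k).mkQ (f m) ≡ (I ^ k).mkQ (f n)
          [SMOD (J ^ m • ⊤ : Submodule A (A ⧸ I ^ k))] := by
        intro m n hmn
        rw [SModEq.sub_mem, ← map_sub, mk_mem_smul_top_iff]
        have := hfJ hmn
        rw [← neg_sub] 
        exact Ideal.mem_sup_left ((J ^ m).neg_mem this)
      obtain ⟨Lbar, hL⟩ := IsPrecomplete.prec' (I := J) _ hfk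
      obtain ⟨L, rfl⟩ := (I ^ k).mkQ_surjective Lbar
      refine ⟨L, fun n => ?_⟩
      have := hL n
      rwa [SModEq.sub_mem, ← map_sub, mk_mem_smul_top_iff] at this
    choose L hL using hlim
    have hcompat : ∀ k, L (k + 1) - L k ∈ (I ^ k • ⊤ : Submodule A A) := by
      intro k
      rw [smul_top_self]
      refine hHk k _ fun n => ?_
      have e : L (k + 1) - L k = (f n - L k) - (f n - L (k + 1)) := by abel
      rw [e]
      refine Ideal.sub_mem _ (hL k n) ?_
      exact (sup_le_sup_left (Ideal.pow_le_pow_right (I := I) (Nat.le_succ k)) (J ^ n)) (hL (k + 1) n)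
    obtain ⟨ℓ, hℓ⟩ := exists_limit_of_succ I L hcompat
    refine ⟨ℓ, fun n => ?_⟩
    rw [SModEq.sub_mem, smul_top_self]
    -- Krull intersection in A ⧸ J^n with respect to I
    have hK := Ideal.iInf_pow_smul_eq_bot_of_le_jacobson (M := A ⧸ J ^ n) I hI
    have hmem : (J ^ n).mkQ (f n - ℓ) ∈ (⨅ i : ℕ, I ^ i • ⊤ : Submodule A (A ⧸ J ^ n)) := by
      rw [Submodule.mem_iInf]
      intro k
      rw [mk_mem_smul_top_iff]
      have e : f n - ℓ = (f n - L k) - (ℓ - L k) := by abel
      rw [e]
      refine Ideal.sub_mem _ ?_ (Ideal.mem_sup_left ?_)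
      · rw [sup_comm]; exact hL k n
      · have := hℓ k; rwa [smul_top_self] at this
    rw [hK] at hmem
    exact (Submodule.Quotient.mk_eq_zero (J ^ n)).mp ((Submodule.mem_bot A).mp hmem)
  exact { toIsHausdorff := hH, toIsPrecomplete := hPre }

end Main

end Groth.Agent.Helper1
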