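import Mathlib

/-!
# Completion of a free module over a Noetherian ring is flat

Elementwise proof via the equational criterion for flatness and Artin–Rees.
-/

set_option autoImplicit false

namespace Groth.Agent.Helper1.CompFree

universe u v

variable {R : Type u} [CommRing R]

/-- Artin–Rees in the elementwise form we need. -/
theorem artinRees {M : Type*} [AddCommGroup M] [Module R M] [IsNoetherianRing R]
    [Module.Finite R M] (I : Ideal R) {s : ℕ} (k : Fin s → M) :
    ∃ c : ℕ, ∀ (n : ℕ) (x : M), x ∈ Submodule.span R (Set.range k) →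
      x ∈ (I ^ n • ⊤ : Submodule R M) →
      ∃ d : Fin s → R, (∀ l, d l ∈ I ^ (n - c)) ∧ x = ∑ l, d l • k l := by
  obtain ⟨c, hc⟩ := Ideal.exists_pow_inf_eq_pow_smul I (Submodule.span R (Set.range k))
  refine ⟨c, fun n x hxN hx => ?_⟩
  have h2 : x ∈ I ^ (n - c) • Submodule.span R (Set.range k) := by
    by_cases hn : c ≤ n
    · have h1 : x ∈ (I ^ n • ⊤ ⊓ Submodule.span R (Set.range k) : Submodule R M) := ⟨hx, hxN⟩
      rw [hc n hn] at h1
      exact Submodule.smul_mono le_rfl inf_le_right h1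
    · have h0 : n - c = 0 := by omega
      rw [h0, pow_zero, Ideal.one_eq_top, Submodule.top_smul]
      exact hxN
  obtain ⟨d, hd, hsum⟩ := (Submodule.mem_ideal_smul_span_iff_exists_sum _ k x).mp h2
  refine ⟨d, hd, ?_⟩
  rw [← hsum, Finsupp.sum_fintype _ _ (fun i => zero_smul R (k i))]

theorem mem_smul_top_pi {r : ℕ} (J : Ideal R) (v : Fin r → R) :
    v ∈ (J • ⊤ : Submodule R (Fin r → R)) ↔ ∀ j, v j ∈ J := by
  constructor
  · intro h
    refine Submodule.smul_induction_on h ?_ ?_
    · intro t ht m _ j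
      simpa using J.mul_mem_right _ ht
    · intro x y hx hy j
      simpa using J.add_mem (hx j) (hy j)
  · intro h
    rw [pi_eq_sum_univ v]
    exact Submodule.sum_mem _ fun j _ => Submodule.smul_mem_smul (h j) Submodule.mem_top

theorem mem_smul_top_finsupp {α : Type*} (J : Ideal R) (y : α →₀ R) :
    y ∈ (J • ⊤ : Submodule R (α →₀ R)) ↔ ∀ x, y x ∈ J := by
  classical
  constructor
  · intro h
    refine Submodule.smul_induction_on h ?_ ?_
    · intro t ht m _ x
      simpa using J.mul_mem_right _ ht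
    · intro y z hy hz x
      simpa using J.add_mem (hy x) (hz x)
  · intro h
    rw [← Finsupp.sum_single y, Finsupp.sum]
    refine Submodule.sum_mem _ fun x _ => ?_
    have e : Finsupp.single x (y x) = y x • Finsupp.single x (1:R) := by
      rw [Finsupp.smul_single, smul_eq_mul, mul_one]
    rw [e]
    exact Submodule.smul_mem_smul (h x) Submodule.mem_top

theorem exists_fun_zero {A B : Type*} [Zero A] [Zero B] (P : A → B → Prop) (h0 : P 0 0)
    (h : ∀ a, ∃ b, P a b) : ∃ g : A → B, g 0 = 0 ∧ ∀ a, P a (g a) := by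
  classical
  choose g hg using h
  refine ⟨fun a => if a = 0 then 0 else g a, if_pos rfl, fun a => ?_⟩
  by_cases ha : a = 0
  · subst ha; simpa using h0
  · simpa [ha] using hg a

theorem flat_adicCompletion_finsupp (R : Type u) [CommRing R] [IsNoetherianRing R]
    (I : Ideal R) (α : Type v) : Module.Flat R (AdicCompletion I (α →₀ R)) := by
  classical
  rw [Module.Flat.iff_forall_isTrivialRelation]
  intro r a m hrel
  -- Cauchy representatives
  choose f hf using fun j => AdicCompletion.mk_surjective I (α →₀ R) (m j)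
  have hrel' : ∀ n x, ∑ j, a j * f j n x ∈ I ^ n := by
    intro n x
    have h2 : ∑ j, a j • (m j).val n = 0 := by
      have := congrArg (fun z => z.val n) hrel
      simpa only [AdicCompletion.val_sum_apply, AdicCompletion.val_smul_apply,
        AdicCompletion.val_zero_apply] using this
    have h3 : (Submodule.mkQ (I ^ n • ⊤ : Submodule R (α →₀ R))) (∑ j, a j • f j n) = 0 := by
      rw [map_sum, ← h2]
      refine Finset.sum_congr rfl fun j _ => ?_
      rw [map_smul, ← hf j, AdicCompletion.mk_apply_coe]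
    rw [Submodule.mkQ_apply, Submodule.Quotient.mk_eq_zero] at h3
    have h4 := (mem_smul_top_finsupp _ _).mp h3 x
    simpa [Finsupp.finset_sum_apply] using h4
  have hC : ∀ j {p q : ℕ}, p ≤ q → ∀ x, f j p x - f j q x ∈ I ^ p := by
    intro j p q hpq x
    have h1 := SModEq.sub_mem.mp ((f j).property hpq)
    have h2 := (mem_smul_top_finsupp _ _).mp h1 x
    simpa using h2
  -- the linear form
  obtain ⟨φ, φ_apply, hφrange⟩ : ∃ φ : (Fin r → R) →ₗ[R] R, (∀ v, φ v = ∑ j, a j * v j) ∧
      ∀ v, φ v ∈ Submodule.span R (Set.range a) := by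
    refine ⟨Fintype.linearCombination R a, fun v => ?_, fun v => ?_⟩
    · rw [Fintype.linearCombination_apply]
      exact Finset.sum_congr rfl fun j _ => by rw [smul_eq_mul, mul_comm]
    · rw [← Fintype.range_linearCombination]; exact LinearMap.mem_range_self _ v
  obtain ⟨s, k, hk⟩ := Submodule.fg_iff_exists_fin_generating_family.mp
    (IsNoetherian.noetherian (LinearMap.ker φ))
  obtain ⟨c₁, hA⟩ := artinRees (M := R) I a
  obtain ⟨c₂, hB⟩ := artinRees (M := Fin r → R) I k
  have hA' : ∀ n : ℕ, ∃ g : (Fin r → R) → (Fin r → R), g 0 = 0 ∧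
      ∀ v, φ v ∈ I ^ n → (∀ j, g v j ∈ I ^ (n - c₁)) ∧ φ (g v) = φ v := by
    intro n
    apply exists_fun_zero
      (fun (v : Fin r → R) (w : Fin r → R) => φ v ∈ I ^ n → (∀ j, w j ∈ I ^ (n - c₁)) ∧ φ w = φ v)
    · intro _; exact ⟨fun j => by simp, rfl⟩
    · intro v
      by_cases hv : φ v ∈ I ^ n
      · have h2 : φ v ∈ (I ^ n • ⊤ : Submodule R R) := by
          have := Submodule.smul_mem_smul hv (Submodule.mem_top : (1:R) ∈ (⊤ : Submodule R R))
          simpa using this
        obtain ⟨d, hd, hsum⟩ := hA n (φ v) (hφrange v) h2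
        refine ⟨d, fun _ => ⟨hd, ?_⟩⟩
        rw [hsum, φ_apply]
        exact Finset.sum_congr rfl fun j _ => by rw [smul_eq_mul, mul_comm]
      · exact ⟨0, fun h => absurd h hv⟩
  choose gA gA0 hgA using hA'
  have hB' : ∀ n : ℕ, ∃ g : (Fin r → R) → (Fin s → R), g 0 = 0 ∧
      ∀ v, φ v = 0 → (∀ j, v j ∈ I ^ n) →
        (∀ l, g v l ∈ I ^ (n - c₂)) ∧ v = ∑ l, g v l • k l := by
    intro n
    apply exists_fun_zero
      (fun (v : Fin r → R) (w : Fin s → R) => φ v = 0 → (∀ j, v j ∈ I ^ n) →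
        (∀ l, w l ∈ I ^ (n - c₂)) ∧ v = ∑ l, w l • k l)
    · intro _ _; exact ⟨fun l => by simp, by simp⟩
    · intro v
      by_cases hv : φ v = 0 ∧ ∀ j, v j ∈ I ^ n
      · have h1 : v ∈ Submodule.span R (Set.range k) := by rw [hk]; exact hv.1
        have h2 : v ∈ (I ^ n • ⊤ : Submodule R (Fin r → R)) := (mem_smul_top_pi _ _).mpr hv.2
        obtain ⟨d, hd, hsum⟩ := hB n v h1 h2
        exact ⟨d, fun _ _ => ⟨hd, hsum⟩⟩
      · exact ⟨0, fun h h' => absurd ⟨h, h'⟩ hv⟩
  choose gB gB0 hgB using hB'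
  -- vector valued sequences
  obtain ⟨V, V_apply⟩ : ∃ V : ℕ → (α →₀ (Fin r → R)), ∀ n x j, V n x j = f j n x :=
    ⟨fun n => Finsupp.onFinset (Finset.univ.biUnion fun j => (f j n).support)
      (fun x j => f j n x) (fun x hx => by
        obtain ⟨j, hj⟩ := Function.ne_iff.mp hx
        exact Finset.mem_biUnion.mpr ⟨j, Finset.mem_univ j, Finsupp.mem_support_iff.mpr hj⟩),
      fun n x j => rfl⟩
  have hV : ∀ n x, φ (V n x) ∈ I ^ n := fun n x => by
    rw [φ_apply]; simp only [V_apply]; exact hrel' n x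
  obtain ⟨U, U_apply⟩ : ∃ U : ℕ → (α →₀ (Fin r → R)), ∀ n x, U n x = V n x - gA n (V n x) :=
    ⟨fun n => V n - (V n).mapRange (gA n) (gA0 n), fun n x => by
      rw [Finsupp.sub_apply, Finsupp.mapRange_apply]⟩
  have hU : ∀ n x, φ (U n x) = 0 := fun n x => by
    rw [U_apply, map_sub, (hgA n _ (hV n x)).2, sub_self]
  have hUV : ∀ n x j, V n x j - U n x j ∈ I ^ (n - c₁) := fun n x j => by
    rw [U_apply, Pi.sub_apply, sub_sub_cancel]
    exact (hgA n _ (hV n x)).1 j
  have hΔ : ∀ n x j, (U (n+1) x - U n x) j ∈ I ^ (n - c₁) := fun n x j => by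
    have e : (U (n+1) x - U n x) j
        = (f j (n+1) x - f j n x) - gA (n+1) (V (n+1) x) j + gA n (V n x) j := by
      rw [Pi.sub_apply, U_apply, U_apply, Pi.sub_apply, Pi.sub_apply, V_apply, V_apply]; ring
    rw [e]
    refine (I ^ (n - c₁)).add_mem ((I ^ (n - c₁)).sub_mem ?_ ?_) ?_
    · have h1 := hC j (Nat.le_succ n) x
      have h2 : f j (n+1) x - f j n x ∈ I ^ n := by
        rw [← neg_sub]; exact (I ^ n).neg_mem h1
      exact Ideal.pow_le_pow_right (Nat.sub_le n c₁) h2
    · exact Ideal.pow_le_pow_right (by omega) ((hgA (n+1) _ (hV (n+1) x)).1 j)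
    · exact (hgA n _ (hV n x)).1 j
  have hΔφ : ∀ n x, φ (U (n+1) x - U n x) = 0 := fun n x => by
    rw [map_sub, hU, hU, sub_self]
  obtain ⟨D, D_apply⟩ : ∃ D : ℕ → (α →₀ (Fin s → R)),
      ∀ n x, D n x = gB (n - c₁) (U (n+1) x - U n x) :=
    ⟨fun n => (U (n+1) - U n).mapRange (gB (n - c₁)) (gB0 _), fun n x => by
      rw [Finsupp.mapRange_apply, Finsupp.sub_apply]⟩
  have hD : ∀ n x, (∀ l, D n x l ∈ I ^ (n - c₁ - c₂)) ∧
      U (n+1) x - U n x = ∑ l, D n x l • k l := fun n x => by
    rw [D_apply]; exact hgB (n - c₁) _ (hΔφ n x) (hΔ n x)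
  obtain ⟨E, hE⟩ : ∃ E : α →₀ (Fin s → R), ∀ x, U 0 x = ∑ l, E x l • k l :=
    ⟨(U 0).mapRange (gB 0) (gB0 0), fun x => by
      rw [Finsupp.mapRange_apply]
      exact (hgB 0 (U 0 x) (hU 0 x) (fun j => by simp)).2⟩
  obtain ⟨y, y_zero, y_succ⟩ : ∃ y : ℕ → (α →₀ (Fin s → R)), y 0 = E ∧
      ∀ n, y (n+1) = y n + D n :=
    ⟨fun n => E + ∑ i ∈ Finset.range n, D i, by simp, fun n => by
      simp only [Finset.sum_range_succ, add_assoc]⟩
  have hy : ∀ n x, U n x = ∑ l, y n x l • k l := by
    intro n x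
    induction n with
    | zero => rw [y_zero]; exact hE x
    | succ n ih =>
      rw [y_succ, Finsupp.add_apply]
      simp only [Pi.add_apply, add_smul, Finset.sum_add_distrib]
      rw [← ih, ← (hD n x).2]; abel
  set c := c₁ + c₂ with hc
  have hD' : ∀ n x l, D (n + c) x l ∈ I ^ n := fun n x l => by
    have h1 := (hD (n + c) x).1 l
    have e : n + c - c₁ - c₂ = n := by omega
    rwa [e] at h1
  have hY : ∀ l n, ((y (n + c)).mapRange (fun v => v l) rfl : α →₀ R) ≡
      ((y (n + 1 + c)).mapRange (fun v => v l) rfl : α →₀ R)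
        [SMOD (I ^ n • ⊤ : Submodule R (α →₀ R))] := by
    intro l n
    rw [SModEq.sub_mem, mem_smul_top_finsupp]
    intro x
    rw [Finsupp.sub_apply, Finsupp.mapRange_apply, Finsupp.mapRange_apply]
    have e : n + 1 + c = (n + c) + 1 := by omega
    rw [e, y_succ, Finsupp.add_apply, Pi.add_apply, sub_add_cancel_left]
    exact (I ^ n).neg_mem (hD' n x l)
  obtain ⟨Y, Y_apply⟩ : ∃ Y : Fin s → AdicCompletion.AdicCauchySequence I (α →₀ R),
      ∀ l n x, (Y l) n x = y (n + c) x l :=
    ⟨fun l => AdicCompletion.AdicCauchySequence.mk I _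
      (fun n => (y (n + c)).mapRange (fun v => v l) rfl) (hY l), fun l n x => rfl⟩
  refine ⟨s, fun j l => k l j, fun l => AdicCompletion.mk I _ (Y l), fun j => ?_, fun l => ?_⟩
  · rw [← hf j]
    apply AdicCompletion.ext
    intro n
    have h1 : ∀ l, (k l j • AdicCompletion.mk I (α →₀ R) (Y l)).val n
        = Submodule.mkQ (I ^ n • ⊤ : Submodule R (α →₀ R)) (k l j • Y l n) := fun l => by
      rw [AdicCompletion.val_smul_apply, AdicCompletion.mk_apply_coe, map_smul]
    rw [AdicCompletion.val_sum_apply, Finset.sum_congr rfl (fun l _ => h1 l), ← map_sum,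
      AdicCompletion.mk_apply_coe, Submodule.mkQ_apply, Submodule.mkQ_apply,
      Submodule.Quotient.eq, mem_smul_top_finsupp]
    intro x
    rw [Finsupp.sub_apply, Finsupp.finset_sum_apply]
    simp only [Finsupp.smul_apply, smul_eq_mul, Y_apply]
    have h2 : ∑ l, k l j * y (n + c) x l = U (n + c) x j := by
      rw [hy (n + c) x, Finset.sum_apply]
      exact Finset.sum_congr rfl fun l _ => by rw [Pi.smul_apply, smul_eq_mul, mul_comm]
    rw [h2]
    have e : f j n x - U (n + c) x j
        = (f j n x - f j (n + c) x) + (V (n + c) x j - U (n + c) x j) := by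
      rw [V_apply]; ring
    rw [e]
    refine (I ^ n).add_mem (hC j (Nat.le_add_right n c) x) ?_
    exact Ideal.pow_le_pow_right (by omega) (hUV (n + c) x j)
  · have h1 : k l ∈ LinearMap.ker φ := by
      rw [← hk]; exact Submodule.subset_span (Set.mem_range_self l)
    rw [LinearMap.mem_ker, φ_apply] at h1
    exact h1

end Groth.Agent.Helper1.CompFree
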