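import Mathlib
import Groth.Agent.Lib.Helper1.CompFree
import Groth.Agent.Lib.Helper1.AdicExt
import Groth.Agent.Lib.Helper1.LocalCriterion
import Groth.Agent.Lib.Helper1.AdicNoeth

/-!
# Flatness of complete modules with flat truncations (Stacks 0912 / 0AGW)
-/

set_option autoImplicit false

namespace Groth.Agent.Helper1.CompFlat

open Groth.Agent.Helper1.CompFree

universe u v

/-- approximate (vector valued) equational criterion of flatness modulo an ideal `J'`. -/
def ApproxEq {A : Type*} [CommRing A] (J' : Ideal A) (N : Type*) [AddCommGroup N] [Module A N] :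
    Prop :=
  ∀ (s r : ℕ) (ρ : Fin r → Fin s → A) (z : Fin s → N),
    (∀ j, ∑ l, ρ j l • z l ∈ (J' • ⊤ : Submodule A N)) →
    ∃ (p : ℕ) (α : Fin p → Fin s → A) (ν : Fin p → N),
      (∀ l, z l - ∑ i, α i l • ν i ∈ (J' • ⊤ : Submodule A N)) ∧
      ∀ i j, ∑ l, ρ j l * α i l ∈ J'

/-- vector valued equational criterion for a flat module -/
theorem exists_factor_of_flat {B : Type*} [CommRing B] {P : Type*} [AddCommGroup P] [Module B P]
    [Module.Flat B P] {s r : ℕ} (ρ : Fin r → Fin s → B) (z : Fin s → P)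
    (h : ∀ j, ∑ l, ρ j l • z l = 0) :
    ∃ (p : ℕ) (b : Fin p → Fin s → B) (ν : Fin p → P),
      (∀ l, z l = ∑ i, b i l • ν i) ∧ ∀ i j, ∑ l, ρ j l * b i l = 0 := by
  classical
  let f : (Fin r → B) →ₗ[B] (Fin s → B) := Fintype.linearCombination B ρ
  let x : (Fin s → B) →ₗ[B] P := Fintype.linearCombination B z
  have hxf : x ∘ₗ f = 0 := by
    apply LinearMap.ext
    intro w
    show x (f w) = 0
    have hf : f w = ∑ j, w j • ρ j := Fintype.linearCombination_apply B ρ w
    rw [hf, map_sum]
    refine Finset.sum_eq_zero fun j _ => ?_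
    rw [map_smul]
    have hx : x (ρ j) = ∑ l, ρ j l • z l := Fintype.linearCombination_apply B z (ρ j)
    rw [hx, h j, smul_zero]
  obtain ⟨p, a, y, hya, haf⟩ := Module.Flat.exists_factorization_of_comp_eq_zero_of_free hxf
  let δ : Fin s → (Fin s → B) := fun l l' => if l = l' then 1 else 0
  refine ⟨p, fun i l => a (δ l) i, fun i => y (Finsupp.single i 1), fun l => ?_, fun i j => ?_⟩
  · show z l = ∑ i, a (δ l) i • y (Finsupp.single i 1)
    have h1 : x (δ l) = z l := by
      simp only [x, Fintype.linearCombination_apply, δ]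
      simp
    rw [← h1, hya, LinearMap.comp_apply]
    conv_lhs => rw [← Finsupp.univ_sum_single (a (δ l))]
    rw [map_sum]
    refine Finset.sum_congr rfl fun i _ => ?_
    rw [← Finsupp.smul_single_one, map_smul]
  · show ∑ l, ρ j l * a (δ l) i = 0
    have h1 : a (ρ j) = 0 := by
      have e : f (Pi.single j 1) = ρ j := by
        simp only [f]; rw [Fintype.linearCombination_apply_single, one_smul]
      rw [← e, ← LinearMap.comp_apply, haf, LinearMap.zero_apply]
    have h2 : ρ j = ∑ l, ρ j l • δ l := pi_eq_sum_univ (ρ j)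
    rw [h2, map_sum] at h1
    simp only [map_smul] at h1
    have h3 := DFunLike.congr_fun h1 i
    rw [Finsupp.finset_sum_apply] at h3
    simpa [Finsupp.smul_apply] using h3

/-- The approximate criterion from a flat quotient. -/
theorem approxEq_of_flat {A B : Type*} [CommRing A] [CommRing B] (π : A →+* B)
    (hπ : Function.Surjective π) (J' : Ideal A) (hker : ∀ a, π a = 0 ↔ a ∈ J')
    {N P : Type*} [AddCommGroup N] [Module A N] [AddCommGroup P] [Module B P] [Module.Flat B P]
    (ε : N →+ P) (hε : Function.Surjective ε) (hεsmul : ∀ a x, ε (a • x) = π a • ε x)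
    (hεker : ∀ x, ε x = 0 ↔ x ∈ (J' • ⊤ : Submodule A N)) : ApproxEq J' N := by
  intro s r ρ z hz
  have h0 : ∀ j, ∑ l, (π (ρ j l)) • ε (z l) = 0 := by
    intro j
    have := (hεker _).mpr (hz j)
    rw [map_sum] at this
    rw [← this]
    exact Finset.sum_congr rfl fun l _ => (hεsmul _ _).symm
  obtain ⟨p, b, νbar, h1, h2⟩ :=
    exists_factor_of_flat (fun j l => π (ρ j l)) (fun l => ε (z l)) h0
  choose α hα using fun i l => hπ (b i l)
  choose ν hν using fun i => hε (νbar i)
  refine ⟨p, α, ν, fun l => ?_, fun i j => ?_⟩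
  · have h1' : ε (z l) = ∑ i, b i l • νbar i := h1 l
    rw [← hεker, map_sub, map_sum, sub_eq_zero, h1']
    exact Finset.sum_congr rfl fun i _ => by rw [hεsmul, hα, hν]
  · have h2' : ∑ l, π (ρ j l) * b i l = 0 := h2 i j
    rw [← hker, map_sum, ← h2']
    exact Finset.sum_congr rfl fun l _ => by rw [map_mul, hα]

/-- Lifting solutions modulo `J ^ n` to approximate solutions, with a uniform loss (Artin–Rees). -/
theorem exists_approx_lift {A : Type u} [CommRing A] [IsNoetherianRing A] (J : Ideal A)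
    {N : Type v} [AddCommGroup N] [Module A N] (H : ∀ n, ApproxEq (J ^ n) N)
    {s r t : ℕ} (ρ : Fin r → Fin s → A) (k : Fin t → Fin s → A)
    (hk : ∀ w : Fin s → A, (∀ j, ∑ l, ρ j l * w l = 0) → w ∈ Submodule.span A (Set.range k)) :
    ∃ c : ℕ, ∀ (n : ℕ) (z : Fin s → N),
      (∀ j, ∑ l, ρ j l • z l ∈ (J ^ n • ⊤ : Submodule A N)) →
      ∃ u : Fin t → N, ∀ l, z l - ∑ q, k q l • u q ∈ (J ^ (n - c) • ⊤ : Submodule A N) := by
  classical
  let col : Fin s → (Fin r → A) := fun l j => ρ j l
  obtain ⟨c, hc⟩ := artinRees (M := Fin r → A) J col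
  refine ⟨c, fun n z hz => ?_⟩
  obtain ⟨p, α, ν, h1, h2⟩ := H n s r ρ z hz
  have h3 : ∀ i, ∃ (w' : Fin s → A) (G : Fin t → A), (∀ l, w' l ∈ J ^ (n - c)) ∧
      ∀ l, α i l = w' l + ∑ q, G q * k q l := by
    intro i
    have hx1 : (∑ l, α i l • col l) ∈ Submodule.span A (Set.range col) :=
      Submodule.sum_mem _ fun l _ =>
        Submodule.smul_mem _ _ (Submodule.subset_span (Set.mem_range_self l))
    have hx2 : (∑ l, α i l • col l) ∈ (J ^ n • ⊤ : Submodule A (Fin r → A)) := by
      rw [mem_smul_top_pi]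
      intro j
      have : (∑ l, α i l • col l) j = ∑ l, ρ j l * α i l := by
        rw [Finset.sum_apply]
        exact Finset.sum_congr rfl fun l _ => by rw [Pi.smul_apply, smul_eq_mul, mul_comm]
      rw [this]; exact h2 i j
    obtain ⟨d, hd, hsum⟩ := hc n _ hx1 hx2
    have hker : (fun l => α i l - d l) ∈ Submodule.span A (Set.range k) := by
      apply hk
      intro j
      have e1 := congrFun hsum j
      rw [Finset.sum_apply, Finset.sum_apply] at e1
      simp only [Pi.smul_apply, smul_eq_mul, col] at e1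
      simp only [mul_sub, Finset.sum_sub_distrib]
      rw [sub_eq_zero]
      calc ∑ l, ρ j l * α i l = ∑ l, α i l * ρ j l :=
            Finset.sum_congr rfl fun l _ => mul_comm _ _
        _ = ∑ l, d l * ρ j l := e1
        _ = ∑ l, ρ j l * d l := Finset.sum_congr rfl fun l _ => mul_comm _ _
    obtain ⟨G, hG⟩ := (Submodule.mem_span_range_iff_exists_fun A).mp hker
    refine ⟨d, G, hd, fun l => ?_⟩
    have e2 := congrFun hG l
    rw [Finset.sum_apply] at e2
    simp only [Pi.smul_apply, smul_eq_mul] at e2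
    rw [e2]; ring
  choose w' G hw' hG using h3
  refine ⟨fun q => ∑ i, G i q • ν i, fun l => ?_⟩
  have e : z l - ∑ q, k q l • ∑ i, G i q • ν i
      = (z l - ∑ i, α i l • ν i) + ∑ i, w' i l • ν i := by
    have e1 : ∑ q, k q l • ∑ i, G i q • ν i = ∑ i, (∑ q, G i q * k q l) • ν i := by
      simp only [Finset.smul_sum, Finset.sum_smul, smul_smul]
      rw [Finset.sum_comm]
      exact Finset.sum_congr rfl fun i _ => Finset.sum_congr rfl fun q _ => by rw [mul_comm]
    have e2 : ∑ i, α i l • ν i = ∑ i, w' i l • ν i + ∑ i, (∑ q, G i q * k q l) • ν i := by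
      rw [← Finset.sum_add_distrib]
      exact Finset.sum_congr rfl fun i _ => by rw [← add_smul, ← hG i l]
    rw [e1, e2]; abel
  show z l - ∑ q, k q l • ∑ i, G i q • ν i ∈ _
  rw [e]
  refine Submodule.add_mem _ ?_ ?_
  · exact Submodule.smul_mono (Ideal.pow_le_pow_right (Nat.sub_le n c)) le_rfl (h1 l)
  · exact Submodule.sum_mem _ fun i _ => Submodule.smul_mem_smul (hw' i l) Submodule.mem_top

/-- **Stacks 0912** (elementwise form): a `J`-adically complete module over a Noetherian ring
all of whose truncations satisfy the (approximate) equational criterion is flat. -/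
theorem flat_of_approxEq {A : Type u} [CommRing A] [IsNoetherianRing A] (J : Ideal A)
    {N : Type v} [AddCommGroup N] [Module A N] [IsAdicComplete J N]
    (H : ∀ n, ApproxEq (J ^ n) N) : Module.Flat A N := by
  classical
  rw [Module.Flat.iff_forall_isTrivialRelation]
  intro r a m hrel
  -- first syzygy
  obtain ⟨s, k, hk0, hk1⟩ : ∃ (s : ℕ) (k : Fin s → Fin r → A), (∀ q, ∑ j, a j * k q j = 0) ∧
      ∀ w : Fin r → A, (∑ l, a l * w l = 0) → w ∈ Submodule.span A (Set.range k) := by
    let φ : (Fin r → A) →ₗ[A] A := Fintype.linearCombination A a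
    have φ_apply : ∀ w, φ w = ∑ j, a j * w j := fun w => by
      have h1 : φ w = ∑ j, w j • a j := Fintype.linearCombination_apply A a w
      rw [h1]
      exact Finset.sum_congr rfl fun j _ => by rw [smul_eq_mul, mul_comm]
    obtain ⟨s, k, hk⟩ := Submodule.fg_iff_exists_fin_generating_family.mp
      (IsNoetherian.noetherian (LinearMap.ker φ))
    refine ⟨s, k, fun q => ?_, fun w hw => ?_⟩
    · have h1 : k q ∈ LinearMap.ker φ := by
        rw [← hk]; exact Submodule.subset_span (Set.mem_range_self q)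
      rw [LinearMap.mem_ker, φ_apply] at h1; exact h1
    · rw [hk, LinearMap.mem_ker, φ_apply]; exact hw
  -- second syzygy
  obtain ⟨t, ℓ, hℓ0, hℓ1⟩ : ∃ (t : ℕ) (ℓ : Fin t → Fin s → A),
      (∀ e j, ∑ q, k q j * ℓ e q = 0) ∧
      ∀ w : Fin s → A, (∀ j, ∑ q, k q j * w q = 0) → w ∈ Submodule.span A (Set.range ℓ) := by
    let ψ : (Fin s → A) →ₗ[A] (Fin r → A) := Fintype.linearCombination A k
    have ψ_apply : ∀ w j, ψ w j = ∑ q, k q j * w q := fun w j => by
      have h1 : ψ w = ∑ q, w q • k q := Fintype.linearCombination_apply A k w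
      rw [h1, Finset.sum_apply]
      exact Finset.sum_congr rfl fun q _ => by rw [Pi.smul_apply, smul_eq_mul, mul_comm]
    obtain ⟨t, ℓ, hℓ⟩ := Submodule.fg_iff_exists_fin_generating_family.mp
      (IsNoetherian.noetherian (LinearMap.ker ψ))
    refine ⟨t, ℓ, fun e j => ?_, fun w hw => ?_⟩
    · have h1 : ℓ e ∈ LinearMap.ker ψ := by
        rw [← hℓ]; exact Submodule.subset_span (Set.mem_range_self e)
      rw [LinearMap.mem_ker] at h1
      rw [← ψ_apply, h1]; rfl
    · rw [hℓ, LinearMap.mem_ker]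
      funext j
      rw [ψ_apply]; exact hw j
  obtain ⟨c₁, hc₁⟩ :=
    exists_approx_lift J H (fun (_ : Fin 1) l => a l) k (fun w hw => hk1 w (hw 0))
  obtain ⟨c₂, hc₂⟩ := exists_approx_lift J H (fun j q => k q j) ℓ hℓ1
  have hc₁' : ∀ n (z : Fin r → N), (∑ l, a l • z l ∈ (J ^ n • ⊤ : Submodule A N)) →
      ∃ u : Fin s → N, ∀ l, z l - ∑ q, k q l • u q ∈ (J ^ (n - c₁) • ⊤ : Submodule A N) :=
    fun n z hz => hc₁ n z (fun _ => hz)
  have hc₂' : ∀ n (u : Fin s → N), (∀ j, ∑ q, k q j • u q ∈ (J ^ n • ⊤ : Submodule A N)) →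
      ∃ v : Fin t → N, ∀ q, u q - ∑ e, ℓ e q • v e ∈ (J ^ (n - c₂) • ⊤ : Submodule A N) :=
    fun n u hu => hc₂ n u hu
  clear hc₁ hc₂
  have hU : ∀ n, ∃ u : Fin s → N,
      ∀ j, m j - ∑ q, k q j • u q ∈ (J ^ (n - c₁) • ⊤ : Submodule A N) :=
    fun n => hc₁' n m (by rw [hrel]; exact Submodule.zero_mem _)
  have Step : ∀ (n : ℕ) (u : Fin s → N),
      (∀ j, m j - ∑ q, k q j • u q ∈ (J ^ (n - c₁) • ⊤ : Submodule A N)) →
      ∃ u' : Fin s → N,
        (∀ j, m j - ∑ q, k q j • u' q ∈ (J ^ (n + 1 - c₁) • ⊤ : Submodule A N)) ∧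
        ∀ q, u' q - u q ∈ (J ^ (n - c₁ - c₂) • ⊤ : Submodule A N) := by
    intro n u hu
    obtain ⟨U, hUU⟩ := hU (n + 1)
    have hδ : ∀ j, ∑ q, k q j • (U q - u q) ∈ (J ^ (n - c₁) • ⊤ : Submodule A N) := by
      intro j
      have e : ∑ q, k q j • (U q - u q)
          = (m j - ∑ q, k q j • u q) - (m j - ∑ q, k q j • U q) := by
        simp only [smul_sub, Finset.sum_sub_distrib]; abel
      rw [e]
      refine Submodule.sub_mem _ (hu j) ?_
      exact Submodule.smul_mono (Ideal.pow_le_pow_right (by omega)) le_rfl (hUU j)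
    obtain ⟨v, hv⟩ := hc₂' (n - c₁) (fun q => U q - u q) hδ
    refine ⟨fun q => U q - ∑ e, ℓ e q • v e, fun j => ?_, fun q => ?_⟩
    · have e0 : ∑ q, k q j • ∑ e, ℓ e q • v e = 0 := by
        simp only [Finset.smul_sum, smul_smul]
        rw [Finset.sum_comm]
        refine Finset.sum_eq_zero fun e _ => ?_
        rw [← Finset.sum_smul, hℓ0 e j, zero_smul]
      have e : m j - ∑ q, k q j • (U q - ∑ e, ℓ e q • v e) = m j - ∑ q, k q j • U q := by
        simp only [smul_sub, Finset.sum_sub_distrib]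
        rw [e0, sub_zero]
      show m j - ∑ q, k q j • (U q - ∑ e, ℓ e q • v e) ∈ _
      rw [e]; exact hUU j
    · have e : U q - ∑ e, ℓ e q • v e - u q = (U q - u q) - ∑ e, ℓ e q • v e := by abel
      show U q - ∑ e, ℓ e q • v e - u q ∈ _
      rw [e]; exact hv q
  obtain ⟨u, hu1, hu2⟩ : ∃ u : ℕ → Fin s → N,
      (∀ n j, m j - ∑ q, k q j • u n q ∈ (J ^ (n - c₁) • ⊤ : Submodule A N)) ∧
      ∀ n q, u (n + 1) q - u n q ∈ (J ^ (n - c₁ - c₂) • ⊤ : Submodule A N) := by
    choose! step hstep1 hstep2 using Step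
    obtain ⟨u0, hu0⟩ := hU 0
    let u : ℕ → Fin s → N := fun n =>
      Nat.rec (motive := fun _ => Fin s → N) u0 (fun n un => step n un) n
    have hu : ∀ n j, m j - ∑ q, k q j • u n q ∈ (J ^ (n - c₁) • ⊤ : Submodule A N) := by
      intro n
      induction n with
      | zero => exact hu0
      | succ n ih => exact hstep1 n (u n) ih
    exact ⟨u, hu, fun n q => hstep2 n (u n) (hu n) q⟩
  set c := c₁ + c₂ with hc
  have hlim : ∀ q, ∃ L : N, ∀ n, L - u (n + c) q ∈ (J ^ n • ⊤ : Submodule A N) := by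
    intro q
    apply exists_limit_of_succ J (fun n => u (n + c) q)
    intro n
    have h1 := hu2 (n + c) q
    have e1 : n + c - c₁ - c₂ = n := by omega
    have e2 : n + 1 + c = n + c + 1 := by omega
    rw [e1] at h1
    show u (n + 1 + c) q - u (n + c) q ∈ _
    rw [e2]; exact h1
  choose y hy using hlim
  refine ⟨s, fun j q => k q j, y, fun j => ?_, fun q => hk0 q⟩
  rw [← sub_eq_zero]
  apply IsHausdorff.haus (inferInstance : IsHausdorff J N)
  intro n
  rw [SModEq.zero]
  have e : m j - ∑ q, k q j • y q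
      = (m j - ∑ q, k q j • u (n + c) q) - ∑ q, k q j • (y q - u (n + c) q) := by
    simp only [smul_sub, Finset.sum_sub_distrib]; abel
  show m j - ∑ q, k q j • y q ∈ _
  rw [e]
  refine Submodule.sub_mem _ ?_ ?_
  · exact Submodule.smul_mono (Ideal.pow_le_pow_right (by omega)) le_rfl (hu1 (n + c) j)
  · exact Submodule.sum_mem _ fun q _ => Submodule.smul_mem _ _ (hy q n)

theorem mem_map_pow_smul_top_iff {R A N : Type*} [CommRing R] [CommRing A] [Algebra R A]
    [AddCommGroup N] [Module R N] [Module A N] [IsScalarTower R A N] (I : Ideal R) (n : ℕ)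
    (x : N) :
    x ∈ ((I.map (algebraMap R A)) ^ n • ⊤ : Submodule A N) ↔
      x ∈ (I ^ n • ⊤ : Submodule R N) := by
  have hrs : (((I.map (algebraMap R A)) ^ n • (⊤ : Submodule A N)).restrictScalars R)
      = I ^ n • (⊤ : Submodule R N) := by
    rw [← Ideal.map_pow, Ideal.smul_restrictScalars, Submodule.restrictScalars_top]
  rw [← hrs, Submodule.restrictScalars_mem]

open TensorProduct in
/-- **Stacks 0AGW**. -/
theorem flat_adicCompletion_of_quotient_flat (R : Type u) [CommRing R] (I : Ideal R) (hI : I.FG)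
    [IsNoetherianRing (R ⧸ I)] (M : Type u) [AddCommGroup M] [Module R M]
    [Module.Flat (R ⧸ I) (M ⧸ (I • ⊤ : Submodule R M))]
    (hT : Function.Injective
      (TensorProduct.lift ((LinearMap.lsmul R M).comp (Submodule.subtype I)))) :
    Module.Flat (AdicCompletion I R) (AdicCompletion I M) := by
  have hN : IsNoetherianRing (AdicCompletion I R) := isNoetherianRing_adicCompletion_of_fg R I hI
  have hC : IsAdicComplete (I.map (algebraMap R (AdicCompletion I R))) (AdicCompletion I M) :=
    (_root_.IsAdicComplete.map_algebraMap_iff (S := AdicCompletion I R) I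
      (AdicCompletion I M)).mpr (AdicCompletion.isAdicComplete (M := M) hI)
  have H1 : Function.Injective (I.subtype.rTensor M) := by
    have e : (TensorProduct.lid R M).toLinearMap ∘ₗ (I.subtype.rTensor M)
        = TensorProduct.lift ((LinearMap.lsmul R M).comp (Submodule.subtype I)) := by
      apply TensorProduct.ext'
      intro i m
      simp
    intro x y hxy
    apply hT
    rw [← e, LinearMap.comp_apply, LinearMap.comp_apply, hxy]
  have H2 : Module.Flat (R ⧸ I) ((R ⧸ I) ⊗[R] M) :=
    Module.Flat.of_linearEquiv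
      ((quotTensorEquivQuotSMul M I).extendScalarsOfSurjective Ideal.Quotient.mk_surjective)
  have H3 : ∀ n, Module.Flat (R ⧸ I ^ n) (M ⧸ (I ^ n • ⊤ : Submodule R M)) := fun n =>
    have := flat_quotient_pow I H1 n
    Module.Flat.of_linearEquiv
      ((quotTensorEquivQuotSMul M (I ^ n)).extendScalarsOfSurjective
        Ideal.Quotient.mk_surjective).symm
  apply flat_of_approxEq (I.map (algebraMap R (AdicCompletion I R)))
  intro n
  have := H3 n
  refine approxEq_of_flat (B := R ⧸ I ^ n) (P := M ⧸ (I ^ n • ⊤ : Submodule R M))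
    (AdicCompletion.evalₐ I n).toRingHom (AdicCompletion.surjective_evalₐ I n) _ ?_
    (AdicCompletion.eval I M n).toAddMonoidHom (AdicCompletion.eval_surjective I M n) ?_ ?_
  · intro a
    show AdicCompletion.evalₐ I n a = 0 ↔ _
    have h1 : (I ^ n • ⊤ : Ideal R) = I ^ n := by ext x; simp
    have e1 : a ∈ (I.map (algebraMap R (AdicCompletion I R))) ^ n ↔
        AdicCompletion.eval I R n a = 0 := by
      have h2 : a ∈ (I.map (algebraMap R (AdicCompletion I R))) ^ n ↔
          a ∈ ((I.map (algebraMap R (AdicCompletion I R))) ^ n • ⊤ :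
            Submodule (AdicCompletion I R) (AdicCompletion I R)) := by
        rw [Ideal.smul_eq_mul, Ideal.mul_top]
      rw [h2, mem_map_pow_smul_top_iff, AdicCompletion.pow_smul_top_eq_ker_eval hI,
        LinearMap.mem_ker]
    rw [e1]
    constructor
    · intro h
      rw [← AdicCompletion.factor_evalₐ_eq_eval I a (le_of_eq h1.symm), h, map_zero]
    · intro h
      rw [← AdicCompletion.factor_eval_eq_evalₐ I a (le_of_eq h1), h, map_zero]
  · intro a x
    show AdicCompletion.eval I M n (a • x)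
      = AdicCompletion.evalₐ I n a • AdicCompletion.eval I M n x
    rw [AdicCompletion.eval_apply, AdicCompletion.eval_apply, AdicCompletion.smul_eval,
      AdicCompletion.val_smul_eq_evalₐ_smul]
  · intro x
    show AdicCompletion.eval I M n x = 0 ↔ _
    rw [mem_map_pow_smul_top_iff, AdicCompletion.pow_smul_top_eq_ker_eval hI, LinearMap.mem_ker]

end Groth.Agent.Helper1.CompFlat
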