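import Groth.Agent.Lib.Helper1.GB2
import Groth.Agent.Lib.Helper1.UB4

/-!
# One geometric branch iff geometrically unibranch
-/

set_option autoImplicit false

namespace Groth.Agent.Helper1.BRN

open IsLocalRing TensorProduct Groth.Agent.Helper1

universe u

theorem numGeomBranches_eq_one_iff (A : Type u) [CommRing A] [IsLocalRing A] :
    Brnch.numGeomBranches A = 1 ↔ CAlg2.IsGeomUnibranch A := by
  haveI : Hensel.IsStrictHenselization A (SHzn.S A) := SHzn.isStrictHenselization A
  rw [← GB.card_minimalPrimes_eq_numGeomBranches A (SHzn.S A),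
    UB.geomUnibranch_iff_hasUniqueMinimalPrime A (SHzn.S A), ENat.card_eq_one_iff_unique]
  unfold CAlgX.HasUniqueMinimalPrime
  constructor
  · rintro ⟨hU⟩
    exact ⟨hU.default.1, hU.default.2, fun q hq => congrArg Subtype.val (hU.uniq ⟨q, hq⟩)⟩
  · rintro ⟨p, hp, huniq⟩
    exact ⟨⟨⟨⟨p, hp⟩⟩, fun q => Subtype.ext (huniq q.1 q.2)⟩⟩

end Groth.Agent.Helper1.BRN
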