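import Mathlib
import Groth.Agent.Lib.Helper1.ASH4
import Groth.Agent.Lib.Helper15.BrnchEt5
import Groth.Agent.S0539

/-!
# Unique minimal primes of the étale local ring of an algebraic space (S10227)
-/

set_option autoImplicit false
set_option linter.style.haveILetI false
open CategoryTheory CategoryTheory.Limits AlgebraicGeometry Opposite AlgSp
open Groth.Agent.Helper15
universe u v w

namespace Groth.Agent.Helper1.ASH

/-! ### Abstract lemmas -/

theorem hasUniqueMinimalPrime_iff_isPrime_nilradical (A : Type v) [CommRing A] :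
    CAlgX.HasUniqueMinimalPrime A ↔ (nilradical A).IsPrime := by
  constructor
  · rintro ⟨𝔭, h𝔭, huniq⟩
    have hset : minimalPrimes A = {𝔭} := by
      ext q
      constructor
      · intro hq
        exact huniq q hq
      · intro hq
        rw [Set.mem_singleton_iff] at hq
        rw [hq]
        exact h𝔭
    have h1 : sInf (minimalPrimes A) = nilradical A := by
      rw [minimalPrimes, Ideal.sInf_minimalPrimes]
      rfl
    rw [hset, sInf_singleton] at h1
    rw [← h1]
    exact h𝔭.1.1
  · intro h
    refine ⟨nilradical A, ⟨⟨h, bot_le⟩, fun q hq _ => ?_⟩, ?_⟩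
    · haveI := hq.1
      exact nilradical_le_prime q
    · intro q hq
      have h1 : nilradical A ≤ q := by
        haveI := hq.1.1
        exact nilradical_le_prime q
      exact le_antisymm (hq.2 ⟨h, bot_le⟩ h1) h1

theorem isPrime_nilradical_of_injective {A : Type v} {B : Type w} [CommRing A] [CommRing B]
    (f : A →+* B) (hf : Function.Injective f) (h : (nilradical B).IsPrime) :
    (nilradical A).IsPrime := by
  have e : nilradical A = Ideal.comap f (nilradical B) := by
    ext x
    rw [Ideal.mem_comap, mem_nilradical, mem_nilradical]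
    constructor
    · intro hx
      exact hx.map f
    · rintro ⟨n, hn⟩
      refine ⟨n, hf ?_⟩
      rw [map_pow, hn, map_zero]
  rw [e]
  haveI := h
  infer_instance

theorem isPrime_nilradical_of_isGeomUnibranch {A : Type u} [CommRing A] [IsLocalRing A]
    (h : CAlg2.IsGeomUnibranch A) : (nilradical A).IsPrime := by
  have h1 : IsDomain (CAlg2.red A) := h.1.1
  exact (Ideal.Quotient.isDomain_iff_prime (nilradical A)).1 h1

theorem isPrime_nilradical_stalk_of_isOpenImmersion {W V : Scheme.{u}} (j : W ⟶ V)
    [IsOpenImmersion j] (w : W) (v : V) (h : j w = v)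
    (hW : (nilradical ↥(W.presheaf.stalk w)).IsPrime) :
    (nilradical ↥(V.presheaf.stalk v)).IsPrime := by
  subst h
  let e : ↥(V.presheaf.stalk (j w)) ≃+* ↥(W.presheaf.stalk w) :=
    (asIso (j.stalkMap w)).commRingCatIsoToRingEquiv
  exact isPrime_nilradical_of_injective e.toRingHom e.injective hW

theorem encard_components_eq_one_of_hasUniqueMinimalPrime (W : Scheme.{u}) (w : W)
    (h : CAlgX.HasUniqueMinimalPrime ↥(W.presheaf.stalk w)) :
    {Z : Set ↑W | Z ∈ irreducibleComponents ↑W ∧ w ∈ Z}.encard = 1 := by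
  apply le_antisymm _ (Groth.Agent.Helper15.BrnchEt.one_le_encard_components W w)
  refine (Groth.Agent.Helper15.BrnchEt.encard_components_le_minimalPrimes_stalk W w).trans ?_
  obtain ⟨𝔭, h𝔭, huniq⟩ := h
  have hset : minimalPrimes ↥(W.presheaf.stalk w) = {𝔭} := by
    ext q
    constructor
    · intro hq
      exact huniq q hq
    · intro hq
      rw [Set.mem_singleton_iff] at hq
      rw [hq]
      exact h𝔭
  rw [hset, Set.encard_singleton]

variable {S : Scheme.{u}} {X : Sp S} (p : FieldPt X)

/-- affine refinement by an open immersion -/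
theorem exists_affine_refinement_open (N : EtNbhd p) :
    ∃ (N' : EtNbhd p) (f : N' ⟶ N), IsAffine (sch p N') ∧
      IsOpenImmersion f.1.hom.left.left := by
  obtain ⟨R', j, hj, hmem, -⟩ := Scheme.exists_affine_mem_range_and_range_subset
    (x := (pt p N) default) (U := ⊤) (by trivial)
  have hrange : Set.range (pt p N) ⊆ Set.range j := by
    rintro _ ⟨a, rfl⟩
    rwa [Subsingleton.elim a default]
  let l := IsOpenImmersion.lift j (pt p N) hrange
  have hl : l ≫ j = pt p N := IsOpenImmersion.lift_fac _ _ _
  refine ⟨nb N j l hl, nbHom N j l hl, ?_, ?_⟩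
  · show IsAffine (Spec R')
    infer_instance
  · rw [nbHom_left]
    exact hj

section main

variable (hX : IsAlgSpace X) (hp : p.IsGeometric)

include hX hp in
/-- if all Zariski local rings of étale neighbourhoods have a prime nilradical, so does the étale
local ring -/
theorem isPrime_nilradical_OEtStalk
    (H : ∀ N : EtNbhd p, (nilradical ↥((sch p N).presheaf.stalk (pv p N))).IsPrime) :
    (nilradical ↥(OEtStalk p)).IsPrime := by
  haveI := isLocalRing p hX hp
  classical
  rw [Ideal.isPrime_iff]
  refine ⟨?_, ?_⟩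
  · intro htop
    have h1 : (1 : ↥(OEtStalk p)) ∈ nilradical ↥(OEtStalk p) := by
      rw [htop]
      trivial
    rw [mem_nilradical] at h1
    obtain ⟨n, hn⟩ := h1
    rw [one_pow] at hn
    exact one_ne_zero hn
  · intro r s hrs
    rw [mem_nilradical] at hrs
    obtain ⟨n, hn⟩ := hrs
    obtain ⟨N, -, hN⟩ := exists_common p hX hp {r, s}
    obtain ⟨a, rfl⟩ : r ∈ Set.range (ρ p N) := hN (by simp)
    obtain ⟨b, rfl⟩ : s ∈ Set.range (ρ p N) := hN (by simp)
    have h1 : ρ p N ((a * b) ^ n) = 0 := by
      rw [map_pow, map_mul]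
      exact hn
    have h2 := germ_eq_zero_of_ρ p hX hp N ((a * b) ^ n) h1
    rw [map_pow, map_mul] at h2
    have h3 : ((sch p N).presheaf.germ ⊤ (pv p N) trivial).hom a *
        ((sch p N).presheaf.germ ⊤ (pv p N) trivial).hom b ∈
        nilradical ↥((sch p N).presheaf.stalk (pv p N)) := mem_nilradical.2 ⟨n, h2⟩
    rcases (H N).mem_or_mem h3 with h4 | h4
    · left
      obtain ⟨k, hk⟩ := mem_nilradical.1 h4
      have h5 : ((sch p N).presheaf.germ ⊤ (pv p N) trivial).hom (a ^ k) = 0 := by
        rw [map_pow]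
        exact hk
      have h6 := ρ_eq_zero_of_germ p N (a ^ k) h5
      rw [map_pow] at h6
      exact mem_nilradical.2 ⟨k, h6⟩
    · right
      obtain ⟨k, hk⟩ := mem_nilradical.1 h4
      have h5 : ((sch p N).presheaf.germ ⊤ (pv p N) trivial).hom (b ^ k) = 0 := by
        rw [map_pow]
        exact hk
      have h6 := ρ_eq_zero_of_germ p N (b ^ k) h5
      rw [map_pow] at h6
      exact mem_nilradical.2 ⟨k, h6⟩

include hX hp in
theorem isPrime_nilradical_stalk_of_OEtStalk (N : EtNbhd p)
    (h : (nilradical ↥(OEtStalk p)).IsPrime) :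
    (nilradical ↥((sch p N).presheaf.stalk (pv p N))).IsPrime := by
  obtain ⟨N', f, hN', hf⟩ := exists_affine_refinement_open p N
  haveI := hN'
  haveI := hf
  refine isPrime_nilradical_stalk_of_isOpenImmersion f.1.hom.left.left (pv p N') (pv p N)
    (pv_map p f) ?_
  obtain ⟨h1, h2, h3, h4, h5, -⟩ := exists_isStrictHenselization p N' hX hp
  haveI : Module.FaithfullyFlat (USt p N') ↥(OEtStalk p) :=
    Groth.Agent.S0539.result (USt p N') ↥(OEtStalk p)
  have hU : (nilradical (USt p N')).IsPrime :=
    isPrime_nilradical_of_injective (algebraMap (USt p N') ↥(OEtStalk p))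
      (FaithfulSMul.algebraMap_injective _ _) h
  exact isPrime_nilradical_of_injective
    ((ULift.ringEquiv (R := ↥((sch p N').presheaf.stalk (pv p N')))).symm.toRingHom)
    (ULift.ringEquiv (R := ↥((sch p N').presheaf.stalk (pv p N')))).symm.injective hU

end main



theorem main10227 (hX : IsAlgSpace X) (x : Points X) :
    ((∀ (U : Over S) (a : (yon S).obj U ⟶ X) (u : ↥U.left),
        RepWith @Etale a → Points.ofPt a u = x →
          CAlgX.HasUniqueMinimalPrime ↥(U.left.presheaf.stalk u)) ↔
      (∀ (U : Over S) (a : (yon S).obj U ⟶ X) (u : ↥U.left),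
        RepWith @Etale a → Points.ofPt a u = x →
          CAlg2.IsGeomUnibranch ↥(U.left.presheaf.stalk u))) ∧
    ((∀ (U : Over S) (a : (yon S).obj U ⟶ X) (u : ↥U.left),
        RepWith @Etale a → Points.ofPt a u = x →
          CAlgX.HasUniqueMinimalPrime ↥(U.left.presheaf.stalk u)) ↔
      ∀ p : FieldPt X, p.IsGeometric → Points.mk p = x →
        CAlgX.HasUniqueMinimalPrime ↥(OEtStalk p)) := by
  have k14 : (∀ (U : Over S) (a : (yon S).obj U ⟶ X) (u : ↥U.left),
        RepWith @Etale a → Points.ofPt a u = x →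
          CAlgX.HasUniqueMinimalPrime ↥(U.left.presheaf.stalk u)) →
      (∀ (U : Over S) (a : (yon S).obj U ⟶ X) (u : ↥U.left),
        RepWith @Etale a → Points.ofPt a u = x →
          CAlg2.IsGeomUnibranch ↥(U.left.presheaf.stalk u)) := by
    intro H U a u ha hu
    rw [Groth.Agent.Helper15.BrnchEt.isGeomUnibranch_stalk_iff]
    intro W g w hg hgw
    apply encard_components_eq_one_of_hasUniqueMinimalPrime
    let W' : Over S := Over.mk (g ≫ U.hom)
    let h : W' ⟶ U := Over.homMk g rfl
    exact H W' ((yon S).map h ≫ a) w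
      ((RepWith @Etale).comp_mem _ _ ((repWith_yon_map_iff @Etale h).2 hg) ha)
      (by
        rw [ofPt_comp_yon_map]
        exact (congrArg (Points.ofPt a) hgw).trans hu)
  have k41 : (∀ (U : Over S) (a : (yon S).obj U ⟶ X) (u : ↥U.left),
        RepWith @Etale a → Points.ofPt a u = x →
          CAlg2.IsGeomUnibranch ↥(U.left.presheaf.stalk u)) →
      (∀ (U : Over S) (a : (yon S).obj U ⟶ X) (u : ↥U.left),
        RepWith @Etale a → Points.ofPt a u = x →
          CAlgX.HasUniqueMinimalPrime ↥(U.left.presheaf.stalk u)) := by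
    intro H U a u ha hu
    rw [hasUniqueMinimalPrime_iff_isPrime_nilradical]
    exact isPrime_nilradical_of_isGeomUnibranch (H U a u ha hu)
  have k15 : (∀ (U : Over S) (a : (yon S).obj U ⟶ X) (u : ↥U.left),
        RepWith @Etale a → Points.ofPt a u = x →
          CAlgX.HasUniqueMinimalPrime ↥(U.left.presheaf.stalk u)) →
      ∀ p : FieldPt X, p.IsGeometric → Points.mk p = x →
        CAlgX.HasUniqueMinimalPrime ↥(OEtStalk p) := by
    intro H p hp hpx
    rw [hasUniqueMinimalPrime_iff_isPrime_nilradical]
    apply isPrime_nilradical_OEtStalk p hX hp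
    intro N
    rw [← hasUniqueMinimalPrime_iff_isPrime_nilradical]
    exact H N.1.obj.left N.1.obj.hom (pv p N) N.1.property ((ofPt_liftsTo p N.2).trans hpx)
  have k51 : (∀ p : FieldPt X, p.IsGeometric → Points.mk p = x →
        CAlgX.HasUniqueMinimalPrime ↥(OEtStalk p)) →
      (∀ (U : Over S) (a : (yon S).obj U ⟶ X) (u : ↥U.left),
        RepWith @Etale a → Points.ofPt a u = x →
          CAlgX.HasUniqueMinimalPrime ↥(U.left.presheaf.stalk u)) := by
    intro H U a u ha hu
    obtain ⟨p, hp, hpx⟩ := exists_geometric_point_mk x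
    obtain ⟨l, hl1, hl2⟩ :=
      exists_lift_geometric_point_of_repWith_etale a ha p hp u (hu.trans hpx.symm)
    let N : EtNbhd p := ⟨EtOver.mk a ha, ⟨l, hl1⟩⟩
    have hpv : pv p N = u := hl2
    have h1 := (hasUniqueMinimalPrime_iff_isPrime_nilradical _).1 (H p hp hpx)
    have h2 := isPrime_nilradical_stalk_of_OEtStalk p hX hp N h1
    have h3 : (nilradical ↥(U.left.presheaf.stalk (pv p N))).IsPrime := h2
    rw [hpv] at h3
    rw [hasUniqueMinimalPrime_iff_isPrime_nilradical]
    exact h3
  exact ⟨⟨k14, k41⟩, ⟨k15, k51⟩⟩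

end Groth.Agent.Helper1.ASH
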