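import Mathlib

/-!
# Evaluation API for Mathlib's Čech complex (universe-general copy of helper24's `CechEv`, General section)
-/

universe w v u
set_option linter.unusedSectionVars false
open CategoryTheory CategoryTheory.Limits Opposite

namespace Groth.Agent.Helper1.CE

section General
variable {D : Type u} [Category.{v} D] [HasFiniteProducts D] {ι : Type w} (Y : ι → D)
  (Q : Dᵒᵖ ⥤ AddCommGrpCat.{w})

/-- cosimplicial object -/
noncomputable abbrev cosimp : CosimplicialObject AddCommGrpCat.{w} :=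
  (FormalCoproduct.cosimplicialObjectFunctor (FormalCoproduct.mk _ Y).cech).obj Q

noncomputable abbrev cech : CochainComplex AddCommGrpCat.{w} ℕ := (cechComplexFunctor Y).obj Q

lemma cech_X (n : ℕ) : (cech Y Q).X n = ∏ᶜ fun a : Fin (n+1) → ι => Q.obj (op (∏ᶜ (Y ∘ a))) := rfl

/-- coface maps typed on the terms of the Čech complex -/
noncomputable def coface {n : ℕ} (j : Fin (n+2)) : (cech Y Q).X n ⟶ (cech Y Q).X (n+1) :=
  (cosimp Y Q).δ j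

lemma cech_d (n : ℕ) : (cech Y Q).d n (n+1) =
    ∑ j : Fin (n+2), (-1:ℤ)^(j:ℕ) • coface Y Q j := by
  exact CochainComplex.of_d (fun n => (cosimp Y Q).obj (SimplexCategory.mk n))
    (AlgebraicTopology.AlternatingCofaceMapComplex.objD (cosimp Y Q)) n

abbrev Sg (T : D) := Σ i : ι, (T ⟶ Y i)

noncomputable def ev {n : ℕ} (T : D) (σ : Fin (n+1) → Sg Y T) :
    (cech Y Q).X n ⟶ Q.obj (op T) :=
  Pi.π (fun a : Fin (n+1) → ι => Q.obj (op (∏ᶜ (Y ∘ a)))) (fun k => (σ k).1) ≫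
    Q.map (Pi.lift (fun k => (σ k).2) : T ⟶ ∏ᶜ (Y ∘ fun k => (σ k).1)).op

lemma coface_eq {n : ℕ} (j : Fin (n+2)) :
    coface Y Q j = (Pi.lift fun b : Fin (n+2) → ι =>
      Pi.π (fun a : Fin (n+1) → ι => Q.obj (op (∏ᶜ (Y ∘ a)))) (b ∘ (SimplexCategory.δ j).toOrderHom) ≫
      Q.map (Pi.lift (fun k => Pi.π (Y ∘ b) ((SimplexCategory.δ j).toOrderHom k)) :
        ∏ᶜ (Y ∘ b) ⟶ ∏ᶜ (Y ∘ (b ∘ (SimplexCategory.δ j).toOrderHom))).op :
      (cech Y Q).X n ⟶ (cech Y Q).X (n+1)) := by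
  rfl

lemma coface_ev {n : ℕ} (T : D) (σ : Fin (n+2) → Sg Y T) (j : Fin (n+2)) :
    coface Y Q j ≫ ev Y Q T σ = ev Y Q T (σ ∘ (SimplexCategory.δ j).toOrderHom) := by
  rw [coface_eq]
  unfold ev
  erw [Pi.lift_π_assoc]
  refine (Category.assoc _ _ _).trans ?_
  have this : (Pi.lift (fun k => (σ k).2) : T ⟶ ∏ᶜ (Y ∘ fun k => (σ k).1)) ≫
      (Pi.lift (fun k => Pi.π (Y ∘ fun k => (σ k).1) ((SimplexCategory.δ j).toOrderHom k)) :
        ∏ᶜ (Y ∘ fun k => (σ k).1) ⟶ ∏ᶜ (Y ∘ ((fun k => (σ k).1) ∘ (SimplexCategory.δ j).toOrderHom))) =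
      (Pi.lift (fun k => ((σ ∘ (SimplexCategory.δ j).toOrderHom) k).2) :
        T ⟶ ∏ᶜ (Y ∘ fun k => ((σ ∘ (SimplexCategory.δ j).toOrderHom) k).1)) := by
    apply Pi.hom_ext
    intro k
    erw [Category.assoc, Pi.lift_π, Pi.lift_π, Pi.lift_π]
    rfl
  have key : Q.map (Pi.lift (fun k => Pi.π (Y ∘ fun k => (σ k).1) ((SimplexCategory.δ j).toOrderHom k)) :
        ∏ᶜ (Y ∘ fun k => (σ k).1) ⟶ ∏ᶜ (Y ∘ ((fun k => (σ k).1) ∘ (SimplexCategory.δ j).toOrderHom))).op ≫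
      Q.map (Pi.lift (fun k => (σ k).2) : T ⟶ ∏ᶜ (Y ∘ fun k => (σ k).1)).op =
      Q.map (Pi.lift (fun k => ((σ ∘ (SimplexCategory.δ j).toOrderHom) k).2) :
        T ⟶ ∏ᶜ (Y ∘ fun k => ((σ ∘ (SimplexCategory.δ j).toOrderHom) k).1)).op := by
    rw [← Q.map_comp, ← op_comp, this]
  exact congrArg (CategoryStruct.comp (Pi.π (fun a : Fin (n+1) → ι => Q.obj (op (∏ᶜ (Y ∘ a))))
    (fun k => ((σ ∘ (SimplexCategory.δ j).toOrderHom) k).1))) key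


lemma d_ev {n : ℕ} (T : D) (σ : Fin (n+2) → Sg Y T) :
    (cech Y Q).d n (n+1) ≫ ev Y Q T σ =
      ∑ j : Fin (n+2), (-1:ℤ)^(j:ℕ) • ev Y Q T (σ ∘ (SimplexCategory.δ j).toOrderHom) := by
  rw [cech_d, Preadditive.sum_comp]
  refine Finset.sum_congr rfl fun j _ => ?_
  rw [Preadditive.zsmul_comp, coface_ev]

/-- pull back a tuple along a morphism -/
def pullσ {n : ℕ} {T T' : D} (m : T' ⟶ T) (σ : Fin (n+1) → Sg Y T) : Fin (n+1) → Sg Y T' :=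
  fun k => ⟨(σ k).1, m ≫ (σ k).2⟩

lemma ev_map {n : ℕ} {T T' : D} (m : T' ⟶ T) (σ : Fin (n+1) → Sg Y T) :
    ev Y Q T σ ≫ Q.map m.op = ev Y Q T' (pullσ Y m σ) := by
  unfold ev
  refine (Category.assoc _ _ _).trans ?_
  have this : m ≫ (Pi.lift (fun k => (σ k).2) : T ⟶ ∏ᶜ (Y ∘ fun k => (σ k).1)) =
      (Pi.lift (fun k => (pullσ Y m σ k).2) : T' ⟶ ∏ᶜ (Y ∘ fun k => (pullσ Y m σ k).1)) := by
    apply Pi.hom_ext
    intro k
    erw [Category.assoc, Pi.lift_π, Pi.lift_π]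
    rfl
  have key : Q.map (Pi.lift (fun k => (σ k).2) : T ⟶ ∏ᶜ (Y ∘ fun k => (σ k).1)).op ≫ Q.map m.op =
      Q.map (Pi.lift (fun k => (pullσ Y m σ k).2) : T' ⟶ ∏ᶜ (Y ∘ fun k => (pullσ Y m σ k).1)).op := by
    rw [← Q.map_comp, ← op_comp, this]
    rfl
  exact congrArg (CategoryStruct.comp (Pi.π (fun a : Fin (n+1) → ι => Q.obj (op (∏ᶜ (Y ∘ a))))
    (fun k => (pullσ Y m σ k).1))) key

/-- the tautological tuple on the product -/
noncomputable def tautσ {n : ℕ} (b : Fin (n+1) → ι) : Fin (n+1) → Sg Y (∏ᶜ (Y ∘ b)) :=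
  fun k => ⟨b k, Pi.π (Y ∘ b) k⟩

lemma ev_taut {n : ℕ} (b : Fin (n+1) → ι) :
    ev Y Q (∏ᶜ (Y ∘ b)) (tautσ Y b) =
      Pi.π (fun a : Fin (n+1) → ι => Q.obj (op (∏ᶜ (Y ∘ a)))) b := by
  unfold ev
  have : (Pi.lift (fun k => (tautσ Y b k).2) : ∏ᶜ (Y ∘ b) ⟶ ∏ᶜ (Y ∘ fun k => (tautσ Y b k).1)) =
      𝟙 _ := by
    apply Pi.hom_ext
    intro k
    erw [Pi.lift_π, Category.id_comp]
    rfl
  erw [this, op_id, Q.map_id, Category.comp_id]
  rfl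

lemma hom_ext {n : ℕ} {Z : AddCommGrpCat.{w}} (g g' : Z ⟶ (cech Y Q).X n)
    (h : ∀ (T : D) (σ : Fin (n+1) → Sg Y T), g ≫ ev Y Q T σ = g' ≫ ev Y Q T σ) : g = g' := by
  refine Pi.hom_ext (f := fun a : Fin (n+1) → ι => Q.obj (op (∏ᶜ (Y ∘ a)))) _ _ fun b => ?_
  have := h _ (tautσ Y b)
  rwa [ev_taut] at this

variable {Q} in
lemma map_ev {Q' : Dᵒᵖ ⥤ AddCommGrpCat.{w}} (φ : Q ⟶ Q') {n : ℕ} (T : D)
    (σ : Fin (n+1) → Sg Y T) :
    ((cechComplexFunctor Y).map φ).f n ≫ ev Y Q' T σ = ev Y Q T σ ≫ φ.app (op T) := by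
  have h1 : ((cechComplexFunctor Y).map φ).f n =
      Limits.Pi.map (fun a : Fin (n+1) → ι => φ.app (op (∏ᶜ (Y ∘ a)))) := rfl
  rw [h1]
  unfold ev
  erw [Limits.Pi.map_π_assoc]
  refine Eq.trans ?_ (Category.assoc _ _ _).symm
  congr 1
  exact (φ.naturality _).symm


lemma ext_elem {n : ℕ} (x x' : (cech Y Q).X n)
    (h : ∀ (T : D) (σ : Fin (n+1) → Sg Y T), ev Y Q T σ x = ev Y Q T σ x') : x = x' := by
  apply (Concrete.productEquiv (fun a : Fin (n+1) → ι => Q.obj (op (∏ᶜ (Y ∘ a))))).injective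
  funext b
  have := h _ (tautσ Y b)
  rw [ev_taut] at this
  exact ((Concrete.productEquiv_apply_apply _ _ _).trans this).trans
    (Concrete.productEquiv_apply_apply _ _ _).symm

end General

end Groth.Agent.Helper1.CE
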