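import Mathlib

/-!
# Lifting standard étale algebras along a surjection of base rings (helper1)
-/

set_option autoImplicit false
set_option linter.unusedSectionVars false
set_option linter.style.haveILetI false

open Polynomial TensorProduct

namespace Groth.Agent.Helper1.CI

universe u

section

variable {R S : Type*} [CommRing R] [CommRing S] [Algebra R S]

/-- the pair `(f, g)` and the pair `(f, g f')` have the same maps -/
theorem hasMap_iff_of_g_eq (P Q : StandardEtalePair R) (hf : P.f = Q.f)
    (hg : P.g = Q.g * derivative Q.f) (x : S) : P.HasMap x ↔ Q.HasMap x := by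
  constructor
  · rintro ⟨h1, h2⟩
    refine ⟨by rw [← hf]; exact h1, ?_⟩
    rw [hg, map_mul] at h2
    exact isUnit_of_mul_isUnit_left h2
  · intro h
    refine ⟨by rw [hf]; exact h.1, ?_⟩
    rw [hg, map_mul]
    exact h.2.mul h.isUnit_derivative_f

/-- two standard étale pairs with the same maps have isomorphic rings -/
noncomputable def ringEquivOfHasMapIff (P Q : StandardEtalePair R)
    (h : ∀ (T : Type _) [CommRing T] [Algebra R T] (x : T), P.HasMap x ↔ Q.HasMap x) :
    P.Ring ≃ₐ[R] Q.Ring :=
  AlgEquiv.ofAlgHom (P.lift Q.X ((h _ _).2 Q.hasMap_X)) (Q.lift P.X ((h _ _).1 P.hasMap_X))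
    (Q.hom_ext (by simp)) (P.hom_ext (by simp))

end

theorem exists_standardEtale_lift {A A' : Type u} [CommRing A] [CommRing A'] [Algebra A A']
    (hsurj : Function.Surjective (algebraMap A A')) (B : Type u) [CommRing B] [Algebra A' B]
    [Algebra.IsStandardEtale A' B] :
    ∃ (P : StandardEtalePair A), Nonempty (A' ⊗[A] P.Ring ≃ₐ[A'] B) := by
  obtain ⟨Q⟩ := Algebra.IsStandardEtale.nonempty_standardEtalePresentation (R := A') (S := B)
  obtain ⟨f, hf, -, hfm⟩ := Polynomial.lifts_and_natDegree_eq_and_monic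
    (f := algebraMap A A') (p := Q.f)
    ((Polynomial.lifts_iff_coeff_lifts _).2 (fun n => hsurj _)) Q.monic_f
  obtain ⟨g₀, hg₀⟩ := Polynomial.map_surjective (algebraMap A A') hsurj Q.g
  let P : StandardEtalePair A := ⟨f, hfm, g₀ * derivative f, ⟨g₀, 0, 1, by ring⟩⟩
  let Pc : StandardEtalePresentation A P.Ring :=
    ⟨P, P.X, P.hasMap_X, by simpa [StandardEtalePair.lift_X_left] using Function.bijective_id⟩
  let e₁ : A' ⊗[A] P.Ring ≃ₐ[A'] (P.map (algebraMap A A')).Ring :=
    (Pc.baseChange (T := A')).equivRing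
  have hf' : (P.map (algebraMap A A')).f = Q.P.f := hf
  have hg' : (P.map (algebraMap A A')).g = Q.P.g * derivative Q.P.f := by
    change (g₀ * derivative f).map (algebraMap A A') = _
    rw [Polynomial.map_mul, hg₀, ← Polynomial.derivative_map, hf]
  let e₂ : (P.map (algebraMap A A')).Ring ≃ₐ[A'] Q.P.Ring :=
    ringEquivOfHasMapIff _ _ (fun T _ _ x => hasMap_iff_of_g_eq _ _ hf' hg' x)
  exact ⟨P, ⟨e₁.trans (e₂.trans Q.equivRing.symm)⟩⟩

end Groth.Agent.Helper1.CI
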