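import Mathlib
import Groth.Agent.Lib.Helper1.CI1

/-!
# Étale schemes over a closed subscheme lift locally (helper1)
-/

set_option autoImplicit false
set_option linter.unusedSectionVars false
set_option linter.style.haveILetI false

open CategoryTheory CategoryTheory.Limits AlgebraicGeometry Opposite TensorProduct

namespace Groth.Agent.Helper1.CI

universe u

theorem isPushout_of_tensorEquiv {R S A B : Type u} [CommRing R] [CommRing S] [CommRing A]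
    [CommRing B] [Algebra R S] [Algebra R A] [Algebra S B] (ε : S ⊗[R] A ≃ₐ[S] B) :
    IsPushout (CommRingCat.ofHom (algebraMap R S)) (CommRingCat.ofHom (algebraMap R A))
      (CommRingCat.ofHom (algebraMap S B))
      (CommRingCat.ofHom ((ε : S ⊗[R] A →+* B).comp
        (Algebra.TensorProduct.includeRight (R := R) (A := S) (B := A)).toRingHom)) := by
  refine (CommRingCat.isPushout_tensorProduct R S A).of_iso (Iso.refl _) (Iso.refl _) (Iso.refl _)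
    ε.toRingEquiv.toCommRingCatIso (by simp) (by simp) ?_ ?_
  · ext s
    change ε (s ⊗ₜ[R] (1 : A)) = algebraMap S B s
    rw [← ε.commutes s]
    rfl
  · ext a
    rfl

theorem exists_etale_lift {X Y : Scheme.{u}} (f : X ⟶ Y) [IsClosedImmersion f]
    {U : Scheme.{u}} (e : U ⟶ X) [Etale e] (u : U) :
    ∃ (V : Scheme.{u}) (v : V ⟶ Y) (_ : Etale v) (T : Scheme.{u}) (t₁ : T ⟶ V) (t₂ : T ⟶ U)
      (_ : IsOpenImmersion t₂), IsPullback t₁ (t₂ ≫ e) v f ∧ u ∈ Set.range t₂.base := by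
  -- affine opens
  obtain ⟨Y₀, hY₀, hyY₀, -⟩ := exists_isAffineOpen_mem_and_subset
    (x := f.base (e.base u)) (U := ⊤) trivial
  have hX₀ : IsAffineOpen (f ⁻¹ᵁ Y₀) := hY₀.preimage f
  have huX₀ : u ∈ e ⁻¹ᵁ (f ⁻¹ᵁ Y₀) := hyY₀
  obtain ⟨U₀, hU₀, huU₀, hU₀le⟩ := exists_isAffineOpen_mem_and_subset huX₀
  have hle : U₀ ≤ e ⁻¹ᵁ (f ⁻¹ᵁ Y₀) := hU₀le
  -- rings
  let φ : Γ(Y, Y₀) ⟶ Γ(X, f ⁻¹ᵁ Y₀) := f.appLE Y₀ (f ⁻¹ᵁ Y₀) le_rfl
  have hφ : Function.Surjective φ.hom := by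
    have h1 : φ = f.app Y₀ := f.appLE_eq_app
    rw [h1]
    exact f.app_surjective Y₀ hY₀
  let ψ : Γ(X, f ⁻¹ᵁ Y₀) ⟶ Γ(U, U₀) := e.appLE (f ⁻¹ᵁ Y₀) U₀ hle
  have hψ : RingHom.Etale ψ.hom :=
    HasRingHomProperty.appLE @Etale e inferInstance ⟨f ⁻¹ᵁ Y₀, hX₀⟩ ⟨U₀, hU₀⟩ hle
  letI : Algebra Γ(Y, Y₀) Γ(X, f ⁻¹ᵁ Y₀) := φ.hom.toAlgebra
  letI : Algebra Γ(X, f ⁻¹ᵁ Y₀) Γ(U, U₀) := ψ.hom.toAlgebra
  haveI : Algebra.Etale Γ(X, f ⁻¹ᵁ Y₀) Γ(U, U₀) := hψ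
  let q := hU₀.primeIdealOf ⟨u, huU₀⟩
  haveI : Algebra.IsEtaleAt Γ(X, f ⁻¹ᵁ Y₀) q.asIdeal := by
    have h1 : q ∈ Algebra.etaleLocus Γ(X, f ⁻¹ᵁ Y₀) Γ(U, U₀) := by
      rw [Algebra.etaleLocus_eq_univ_iff.2 inferInstance]; trivial
    exact h1
  obtain ⟨b, hbq, hb⟩ := Algebra.IsEtaleAt.exists_isStandardEtale (R := Γ(X, f ⁻¹ᵁ Y₀)) q.asIdeal
  -- the basic open
  have hU₁ : IsAffineOpen (U.basicOpen b) := hU₀.basicOpen b
  have hU₁le : U.basicOpen b ≤ U₀ := U.basicOpen_le b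
  have huU₁ : u ∈ U.basicOpen b := by
    have h1 : q ∈ hU₀.fromSpec ⁻¹ᵁ U.basicOpen b := by
      rw [hU₀.fromSpec_preimage_basicOpen]
      exact (PrimeSpectrum.mem_basicOpen b q).2 hbq
    have h2 : hU₀.fromSpec.base q = u := hU₀.fromSpec_primeIdealOf ⟨u, huU₀⟩
    rw [← h2]
    exact h1
  have hle₁ : U.basicOpen b ≤ e ⁻¹ᵁ (f ⁻¹ᵁ Y₀) := hU₁le.trans hle
  let ψ₁ : Γ(X, f ⁻¹ᵁ Y₀) ⟶ Γ(U, U.basicOpen b) := e.appLE (f ⁻¹ᵁ Y₀) (U.basicOpen b) hle₁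
  letI : Algebra Γ(X, f ⁻¹ᵁ Y₀) Γ(U, U.basicOpen b) := ψ₁.hom.toAlgebra
  haveI : IsScalarTower Γ(X, f ⁻¹ᵁ Y₀) Γ(U, U₀) Γ(U, U.basicOpen b) := by
    apply IsScalarTower.of_algebraMap_eq'
    have h1 := e.appLE_map hle (homOfLE hU₁le).op
    exact congrArg CommRingCat.Hom.hom h1.symm
  haveI : IsLocalization.Away b Γ(U, U.basicOpen b) := hU₀.isLocalization_basicOpen b
  haveI : Algebra.IsStandardEtale Γ(X, f ⁻¹ᵁ Y₀) Γ(U, U.basicOpen b) :=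
    Algebra.IsStandardEtale.of_equiv
      ((IsLocalization.algEquiv (Submonoid.powers b) (Localization.Away b)
        Γ(U, U.basicOpen b)).restrictScalars Γ(X, f ⁻¹ᵁ Y₀))
  -- lift
  obtain ⟨P, ⟨ε⟩⟩ := exists_standardEtale_lift (A := Γ(Y, Y₀)) (A' := Γ(X, f ⁻¹ᵁ Y₀)) hφ
    Γ(U, U.basicOpen b)
  have hpo := isPushout_of_tensorEquiv ε
  have hpb := isPullback_SpecMap_of_isPushout _ _ _ _ hpo
  let α : Γ(Y, Y₀) ⟶ CommRingCat.of P.Ring := CommRingCat.ofHom (algebraMap Γ(Y, Y₀) P.Ring)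
  let θ : CommRingCat.of P.Ring ⟶ Γ(U, U.basicOpen b) :=
    CommRingCat.ofHom ((ε : Γ(X, f ⁻¹ᵁ Y₀) ⊗[Γ(Y, Y₀)] P.Ring →+* Γ(U, U.basicOpen b)).comp
        (Algebra.TensorProduct.includeRight (R := Γ(Y, Y₀)) (A := Γ(X, f ⁻¹ᵁ Y₀))
          (B := P.Ring)).toRingHom)
  have hpb' : IsPullback (Spec.map θ) (Spec.map ψ₁) (Spec.map α) (Spec.map φ) := hpb.flip
  have hbot : IsPullback (Spec.map φ) hX₀.fromSpec hY₀.fromSpec f := by
    apply IsOpenImmersion.isPullback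
    · exact (IsAffineOpen.SpecMap_appLE_fromSpec f hY₀ hX₀ le_rfl).symm
    · rw [hY₀.opensRange_fromSpec, hX₀.opensRange_fromSpec]
  have hbig := hpb'.paste_vert hbot
  have hcomm : Spec.map ψ₁ ≫ hX₀.fromSpec = hU₁.fromSpec ≫ e :=
    IsAffineOpen.SpecMap_appLE_fromSpec e hX₀ hU₁ hle₁
  rw [hcomm] at hbig
  haveI : Etale (Spec.map α) := by
    rw [HasRingHomProperty.Spec_iff (P := @Etale)]
    exact RingHom.etale_algebraMap.2 inferInstance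
  refine ⟨Spec (CommRingCat.of P.Ring), Spec.map α ≫ hY₀.fromSpec, inferInstance,
    Spec Γ(U, U.basicOpen b), Spec.map θ, hU₁.fromSpec, inferInstance, hbig, ?_⟩
  have h3 : Set.range hU₁.fromSpec.base = U.basicOpen b := hU₁.range_fromSpec
  rw [h3]
  exact huU₁

end Groth.Agent.Helper1.CI
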