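import Mathlib
import Groth.Prelude.Def_EtCore
import Groth.Agent.Lib.Helper1.CI2

/-!
# Étale schemes over a closed subscheme lift locally: site version (helper1)
-/

set_option autoImplicit false
set_option linter.unusedSectionVars false
set_option linter.style.haveILetI false

open CategoryTheory CategoryTheory.Limits AlgebraicGeometry Opposite

namespace Groth.Agent.Helper1.CI

universe u

theorem main0633 {X Y : Scheme.{u}} (f : X ⟶ Y) [IsClosedImmersion f] (U : X.Etale) :
    ∃ (κ : Type u) (V : κ → Y.Etale) (h : ∀ j, pullback (V j).hom f ⟶ U.left),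
      (∀ j, h j ≫ U.hom = pullback.snd (V j).hom f) ∧ (∀ j, IsOpenImmersion (h j)) ∧
      ∀ x : U.left, ∃ (j : κ) (y : ↥(pullback (V j).hom f)), (h j).base y = x := by
  choose V v hv T t₁ t₂ hopen hpb hmem using fun u : U.left => exists_etale_lift f U.hom u
  refine ⟨U.left, fun j => (letI := hv j; Scheme.Etale.mk (v j)),
    fun j => (hpb j).isoPullback.inv ≫ t₂ j, ?_, ?_, ?_⟩
  · intro j
    rw [Category.assoc]
    exact (hpb j).isoPullback_inv_snd
  · intro j
    haveI := hopen j
    infer_instance
  · intro x
    obtain ⟨t, ht⟩ := hmem x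
    refine ⟨x, (hpb x).isoPullback.hom.base t, ?_⟩
    change ((hpb x).isoPullback.hom ≫ (hpb x).isoPullback.inv ≫ t₂ x).base t = x
    rw [Iso.hom_inv_id_assoc]
    exact ht

end Groth.Agent.Helper1.CI
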