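import Mathlib
import Groth.Prelude.Def_EtCore
import Groth.Agent.Lib.Helper1.CI3
import Groth.Agent.Lib.Helper1.CI6
import Groth.Agent.Lib.Helper1.SHC5

/-!
# Direct image along a closed immersion is fully faithful (helper1)
-/

set_option autoImplicit false
set_option linter.unusedSectionVars false
set_option linter.style.haveILetI false

open CategoryTheory CategoryTheory.Limits AlgebraicGeometry Opposite

namespace Groth.Agent.Helper1.CI

universe u

set_option backward.isDefEq.respectTransparency.types false in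
theorem isCoverDense_bc {Z X : Scheme.{u}} (i : Z ⟶ X) [IsClosedImmersion i] :
    (EtCoh.bc i).IsCoverDense Z.smallEtaleTopology := by
  constructor
  intro U
  apply Groth.Agent.Helper1.SHC.mem_of_pointwise
  intro x
  obtain ⟨κ, V, h, hcomm, hopen, hsurj⟩ := main0633 i U
  obtain ⟨j, y, hy⟩ := hsurj x
  let g : (EtCoh.bc i).obj (V j) ⟶ U := MorphismProperty.Over.homMk (h j) (hcomm j) trivial
  exact ⟨(EtCoh.bc i).obj (V j), g, y, ⟨⟨V j, 𝟙 _, g, Category.id_comp _⟩⟩, hy⟩

theorem isLocallyFull_bc {Z X : Scheme.{u}} (i : Z ⟶ X) [IsClosedImmersion i] :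
    (EtCoh.bc i).IsLocallyFull Z.smallEtaleTopology := by
  constructor
  intro U V f
  obtain ⟨W, a, b, hiso, hcomp⟩ := main0660 i U V f
  have h1 : ((EtCoh.bc i).imageSieve f).functorPushforward (EtCoh.bc i) ((EtCoh.bc i).map a) :=
    Sieve.image_mem_functorPushforward _ _ ⟨b, hcomp.symm⟩
  have h2 : ((EtCoh.bc i).imageSieve f).functorPushforward (EtCoh.bc i) (𝟙 _) := by
    have h3 := (((EtCoh.bc i).imageSieve f).functorPushforward (EtCoh.bc i)).downward_closed h1
      (inv ((EtCoh.bc i).map a))
    rwa [IsIso.inv_hom_id] at h3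
  rw [(Sieve.id_mem_iff_eq_top).1 h2]
  exact GrothendieckTopology.top_mem _ _

theorem main0067 {Z X : Scheme.{u}} (i : Z ⟶ X) [IsClosedImmersion i] [EtCoh.BCCont i] :
    (EtCoh.push i).Full ∧ (EtCoh.push i).Faithful := by
  haveI := isCoverDense_bc i
  haveI := isLocallyFull_bc i
  exact ⟨Functor.IsCoverDense.full_sheafPushforwardContinuous _ _ _,
    Functor.IsCoverDense.faithful_sheafPushforwardContinuous _ _ _⟩

end Groth.Agent.Helper1.CI
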