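import Mathlib
import Groth.Prelude.Def_EtCore
import Groth.Agent.Lib.Helper1.CI7
import Groth.Agent.Lib.Helper1.SHC13

/-!
# Stalks of the direct image along a closed immersion (helper1)
-/

set_option autoImplicit false
set_option linter.unusedSectionVars false
set_option linter.style.haveILetI false

open CategoryTheory CategoryTheory.Limits AlgebraicGeometry Opposite

namespace Groth.Agent.Helper1.CI

universe u

open Groth.Agent.Helper1.SHC

theorem isIso_counit {Z X : Scheme.{u}} (i : Z ⟶ X) [IsClosedImmersion i] [EtCoh.BCCont i]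
    (G : EtCoh.Ab Z) : IsIso ((EtCoh.pullPushAdj i).counit.app G) := by
  obtain ⟨hfull, hfaith⟩ := main0067 i
  haveI := hfull
  haveI := hfaith
  infer_instance

theorem main0070 {Z X : Scheme.{u}} (i : Z ⟶ X) [IsClosedImmersion i] [EtCoh.BCCont i]
    (G : EtCoh.Ab Z) {Ω : Type u} [Field Ω] [IsSepClosed Ω] (ζ : Spec (CommRingCat.of Ω) ⟶ Z) :
    Nonempty ((EtCoh.stalk (ζ ≫ i)).obj ((EtCoh.push i).obj G) ≅ (EtCoh.stalk ζ).obj G) := by
  haveI := isIso_counit i G
  haveI : (EtCoh.push i).IsRightAdjoint := (EtCoh.pullPushAdj i).isRightAdjoint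
  let e1 := (stalkPullIso i ζ AddCommGrpCat.{u + 1}).app ((EtCoh.push i).obj G)
  let e2 := (EtCoh.stalk ζ).mapIso (asIso ((EtCoh.pullPushAdj i).counit.app G))
  exact ⟨e1.symm ≪≫ e2⟩

end Groth.Agent.Helper1.CI
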