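import Mathlib
import Groth.Prelude.Def_EtCore
import Groth.Agent.Lib.Helper1.SHC5

/-!
# Mono / epi / exactness of étale sheaves tested on geometric stalks (helper1)
-/

set_option autoImplicit false
set_option linter.unusedSectionVars false
set_option linter.style.haveILetI false

open CategoryTheory CategoryTheory.Limits AlgebraicGeometry Opposite ZeroObject

namespace Groth.Agent.Helper1.SHC

universe u

section Ab

variable {X : Scheme.{u}}

theorem ab5_addCommGrp : AB5OfSize.{u, u} AddCommGrpCat.{u + 1} :=
  AB5OfSize_shrink.{u, u, u + 1, u + 1} AddCommGrpCat.{u + 1}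

variable {Ω : Type u} [Field Ω] [IsSepClosed Ω] (ξ : Spec (CommRingCat.of Ω) ⟶ X)

theorem preservesFiniteLimits_stalk : PreservesFiniteLimits (EtCoh.stalk ξ) := by
  haveI := ab5_addCommGrp.{u}
  infer_instance

theorem additive_stalk : (EtCoh.stalk ξ).Additive := by
  haveI := preservesFiniteLimits_stalk ξ
  exact Functor.additive_of_preserves_binary_products _

theorem preservesHomology_stalk : (EtCoh.stalk ξ).PreservesHomology := by
  haveI := preservesFiniteLimits_stalk ξ
  haveI := additive_stalk ξ
  infer_instance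

omit [Field Ω] [IsSepClosed Ω] in
theorem mono_iff_stalks {F G : EtCoh.Ab X} (a : F ⟶ G) :
    Mono a ↔ ∀ (Ω : Type u) [Field Ω] [IsSepClosed Ω] (ξ : Spec (CommRingCat.of Ω) ⟶ X),
      Function.Injective ((EtCoh.stalk ξ).map a) := by
  haveI := preservesFilteredColimits_forget.{u}
  constructor
  · intro ha Ω _ _ ξ
    have h1 : ∀ U, Function.Injective (a.hom.app U) := by
      intro U
      haveI h2 : Mono ((sheafToPresheaf _ _).map a) := inferInstance
      haveI h3 : Mono (a.hom.app U) := (NatTrans.mono_iff_mono_app _).1 h2 U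
      exact (AddCommGrpCat.mono_iff_injective _).1 h3
    haveI := Presheaf.isLocallyInjective_of_injective X.smallEtaleTopology a.hom h1
    exact (Scheme.pointSmallEtale ξ).toPresheafFiber_map_injective a.hom
  · intro h
    haveI : Sheaf.IsLocallyInjective a := isLocallyInjective_of_stalks a.hom h
    exact Sheaf.mono_of_isLocallyInjective a

omit [Field Ω] [IsSepClosed Ω] in
theorem epi_iff_stalks {F G : EtCoh.Ab X} (a : F ⟶ G) :
    Epi a ↔ ∀ (Ω : Type u) [Field Ω] [IsSepClosed Ω] (ξ : Spec (CommRingCat.of Ω) ⟶ X),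
      Function.Surjective ((EtCoh.stalk ξ).map a) := by
  haveI := preservesFilteredColimits_forget.{u}
  constructor
  · intro ha Ω _ _ ξ
    haveI hls : Sheaf.IsLocallySurjective a := (Sheaf.isLocallySurjective_iff_epi' _ a).mpr ha
    exact (Scheme.pointSmallEtale ξ).toPresheafFiber_map_surjective a.hom
  · intro h
    haveI : Sheaf.IsLocallySurjective a := isLocallySurjective_of_stalks a.hom h
    exact (Sheaf.isLocallySurjective_iff_epi' _ a).mp inferInstance

omit [Field Ω] [IsSepClosed Ω] in
theorem exact_iff_stalks (S : ShortComplex (EtCoh.Ab X)) :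
    S.Exact ↔ ∀ (Ω : Type u) [Field Ω] [IsSepClosed Ω] (ξ : Spec (CommRingCat.of Ω) ⟶ X),
      (S.map (EtCoh.stalk ξ)).Exact := by
  constructor
  · intro hS Ω _ _ ξ
    haveI := preservesHomology_stalk ξ
    haveI := additive_stalk ξ
    exact hS.map (EtCoh.stalk ξ)
  · intro h
    rw [ShortComplex.exact_iff_isZero_homology]
    have hz : ∀ (Ω : Type u) [Field Ω] [IsSepClosed Ω] (ξ : Spec (CommRingCat.of Ω) ⟶ X),
        IsZero ((EtCoh.stalk ξ).obj S.homology) := by
      intro Ω _ _ ξ
      haveI := preservesHomology_stalk ξ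
      haveI := additive_stalk ξ
      have h1 := h Ω ξ
      rw [ShortComplex.exact_iff_isZero_homology] at h1
      exact h1.of_iso (S.mapHomologyIso (EtCoh.stalk ξ)).symm
    have hm : Mono (0 : S.homology ⟶ 0) := by
      rw [mono_iff_stalks]
      intro Ω _ _ ξ x y _
      exact (AddCommGrpCat.subsingleton_of_isZero (hz Ω ξ)).elim x y
    exact IsZero.of_mono (0 : S.homology ⟶ 0) (isZero_zero _)

end Ab

end Groth.Agent.Helper1.SHC
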