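import Mathlib
import Groth.Prelude.Def_EtCore
import Groth.Agent.Lib.Helper1.CI8
import Groth.Agent.Lib.Helper1.SHC3
import Groth.Agent.Lib.Helper1.SHC6

/-!
# The essential image of the direct image along a closed immersion (helper1)
-/

set_option autoImplicit false
set_option linter.unusedSectionVars false
set_option linter.style.haveILetI false

open CategoryTheory CategoryTheory.Limits AlgebraicGeometry Opposite

namespace Groth.Agent.Helper1.CI

universe u

open Groth.Agent.Helper1.SHC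

theorem exists_factor_of_mem_range {Z X : Scheme.{u}} (i : Z ⟶ X) [IsClosedImmersion i]
    {Ω : Type u} [Field Ω] (ξ : Spec (CommRingCat.of Ω) ⟶ X)
    (hξ : ξ.base (default : Spec (CommRingCat.of Ω)) ∈ Set.range i.base) :
    ∃ ζ : Spec (CommRingCat.of Ω) ⟶ Z, ζ ≫ i = ξ := by
  obtain ⟨z, hz⟩ := hξ
  obtain ⟨p, hp1, hp2⟩ := Scheme.Pullback.exists_preimage_pullback (f := ξ) (g := i)
    (default : Spec (CommRingCat.of Ω)) z hz.symm
  haveI : Surjective (pullback.fst ξ i) := ⟨fun a => ⟨p, hp1.trans (Subsingleton.elim _ _)⟩⟩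
  haveI : IsIso (pullback.fst ξ i) := isIso_of_isClosedImmersion_of_surjective _
  refine ⟨inv (pullback.fst ξ i) ≫ pullback.snd ξ i, ?_⟩
  rw [Category.assoc, ← pullback.condition, IsIso.inv_hom_id_assoc]

theorem isZero_stalk_of_vanishing {Z X : Scheme.{u}} (i : Z ⟶ X) [IsClosedImmersion i]
    (F : EtCoh.Ab X)
    (hF : ∀ U : X.Etale, Disjoint (Set.range U.hom.base) (Set.range i.base) →
      IsZero (F.obj.obj (op U)))
    {Ω : Type u} [Field Ω] [IsSepClosed Ω] (ξ : Spec (CommRingCat.of Ω) ⟶ X)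
    (hξ : Disjoint (Set.range ξ.base) (Set.range i.base)) :
    IsZero ((EtCoh.stalk ξ).obj F) := by
  haveI := preservesFilteredColimits_forget.{u}
  suffices h : ∀ p : ToType ((Scheme.pointSmallEtale ξ).presheafFiber.obj F.obj), p = 0 by
    haveI : Subsingleton (ToType ((Scheme.pointSmallEtale ξ).presheafFiber.obj F.obj)) :=
      ⟨fun a b => (h a).trans (h b).symm⟩
    exact AddCommGrpCat.isZero_of_subsingleton
      ((Scheme.pointSmallEtale ξ).presheafFiber.obj F.obj)
  intro p
  obtain ⟨U, y, z, rfl⟩ := (Scheme.pointSmallEtale ξ).toPresheafFiber_jointly_surjective p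
  let O : X.Opens := ⟨(Set.range i.base)ᶜ, i.isClosedEmbedding.isClosed_range.isOpen_compl⟩
  let W : U.left.Opens := U.hom ⁻¹ᵁ O
  let U' : X.Etale := Scheme.Etale.mk (W.ι ≫ U.hom)
  let f : U' ⟶ U := MorphismProperty.Over.homMk W.ι rfl trivial
  let yl : Spec (CommRingCat.of Ω) ⟶ U.left := y.left
  have hy : yl ≫ U.hom = ξ := Over.w y
  have hrange : Set.range yl.base ⊆ Set.range W.ι.base := by
    rintro _ ⟨a, rfl⟩
    rw [Scheme.Opens.range_ι]
    change U.hom.base (yl.base a) ∈ (Set.range i.base)ᶜ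
    have h1 : U.hom.base (yl.base a) = ξ.base a := by
      rw [← hy]; rfl
    rw [h1]
    exact Set.disjoint_left.1 hξ ⟨a, rfl⟩
  let l : Spec (CommRingCat.of Ω) ⟶ W.toScheme := IsOpenImmersion.lift W.ι yl hrange
  have hl : l ≫ W.ι = yl := IsOpenImmersion.lift_fac _ _ _
  have hl' : l ≫ U'.hom = ξ := by
    change l ≫ (W.ι ≫ U.hom) = ξ
    rw [← Category.assoc, hl, hy]
  let y' : (Scheme.pointSmallEtale ξ).fiber.obj U' := Over.homMk l hl'
  have hy' : (Scheme.pointSmallEtale ξ).fiber.map f y' = y := by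
    apply Over.OverMorphism.ext
    exact hl
  have hdis : Disjoint (Set.range U'.hom.base) (Set.range i.base) := by
    rw [Set.disjoint_left]
    rintro _ ⟨a, rfl⟩ hmem
    have ha : U.hom.base (W.ι.base a) ∈ (Set.range i.base)ᶜ := a.2
    exact ha hmem
  haveI : Subsingleton (F.obj.obj (op U')) := AddCommGrpCat.subsingleton_of_isZero (hF U' hdis)
  rw [← hy', ← (Scheme.pointSmallEtale ξ).toPresheafFiber_w_apply f y' _ z]
  have hz : F.obj.map f.op z = 0 := Subsingleton.elim _ _
  rw [hz, map_zero]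

theorem bijective_stalk_unit {Z X : Scheme.{u}} (i : Z ⟶ X) [IsClosedImmersion i]
    [EtCoh.BCCont i] (F : EtCoh.Ab X)
    (hF : ∀ U : X.Etale, Disjoint (Set.range U.hom.base) (Set.range i.base) →
      IsZero (F.obj.obj (op U)))
    {Ω : Type u} [Field Ω] [IsSepClosed Ω] (ξ : Spec (CommRingCat.of Ω) ⟶ X) :
    Function.Bijective ((EtCoh.stalk ξ).map ((EtCoh.pullPushAdj i).unit.app F)) := by
  by_cases hξ : ξ.base (default : Spec (CommRingCat.of Ω)) ∈ Set.range i.base
  · obtain ⟨ζ, rfl⟩ := exists_factor_of_mem_range i ξ hξ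
    haveI : (EtCoh.push i).IsRightAdjoint := (EtCoh.pullPushAdj i).isRightAdjoint
    have h1 := stalk_map_eq i ζ AddCommGrpCat.{u + 1} ((EtCoh.pullPushAdj i).unit.app F)
    haveI := isIso_counit i ((EtCoh.pull i).obj F)
    haveI : IsIso ((EtCoh.pull i).map ((EtCoh.pullPushAdj i).unit.app F)) := by
      have hsplit := (EtCoh.pullPushAdj i).left_triangle_components F
      haveI : IsIso ((EtCoh.pull i).map ((EtCoh.pullPushAdj i).unit.app F) ≫
          (EtCoh.pullPushAdj i).counit.app ((EtCoh.pull i).obj F)) := by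
        rw [hsplit]; exact IsIso.id _
      exact IsIso.of_isIso_comp_right _ ((EtCoh.pullPushAdj i).counit.app ((EtCoh.pull i).obj F))
    have h3 : IsIso ((Scheme.pointSmallEtale (ζ ≫ i)).sheafFiber.map
        ((EtCoh.pullPushAdj i).unit.app F)) := by
      rw [h1]; infer_instance
    exact ConcreteCategory.bijective_of_isIso _
  · have hdis : Disjoint (Set.range ξ.base) (Set.range i.base) := by
      rw [Set.disjoint_left]
      rintro _ ⟨a, rfl⟩ hmem
      rw [Subsingleton.elim a (default : Spec (CommRingCat.of Ω))] at hmem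
      exact hξ hmem
    have hz1 := isZero_stalk_of_vanishing i F hF ξ hdis
    have hz2 := isZero_stalk_push i ((EtCoh.pull i).obj F) ξ hdis
    haveI : Subsingleton ((EtCoh.stalk ξ).obj ((𝟭 (EtCoh.Ab X)).obj F)) :=
      AddCommGrpCat.subsingleton_of_isZero hz1
    haveI : Subsingleton ((EtCoh.stalk ξ).obj ((EtCoh.pull i ⋙ EtCoh.push i).obj F)) :=
      AddCommGrpCat.subsingleton_of_isZero hz2
    exact ⟨fun a b _ => Subsingleton.elim a b, fun b => ⟨0, Subsingleton.elim _ _⟩⟩

theorem isIso_unit_of_vanishing {Z X : Scheme.{u}} (i : Z ⟶ X) [IsClosedImmersion i]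
    [EtCoh.BCCont i] (F : EtCoh.Ab X)
    (hF : ∀ U : X.Etale, Disjoint (Set.range U.hom.base) (Set.range i.base) →
      IsZero (F.obj.obj (op U))) :
    IsIso ((EtCoh.pullPushAdj i).unit.app F) := by
  haveI : Mono ((EtCoh.pullPushAdj i).unit.app F) :=
    (mono_iff_stalks _).2 (fun Ω _ _ ξ => (bijective_stalk_unit i F hF ξ).1)
  haveI : Epi ((EtCoh.pullPushAdj i).unit.app F) :=
    (epi_iff_stalks _).2 (fun Ω _ _ ξ => (bijective_stalk_unit i F hF ξ).2)
  exact isIso_of_mono_of_epi _

set_option backward.isDefEq.respectTransparency.types false in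
theorem main0068 {Z X : Scheme.{u}} (i : Z ⟶ X) [IsClosedImmersion i] [EtCoh.BCCont i]
    (F : EtCoh.Ab X) :
    (EtCoh.push i).essImage F ↔
      ∀ U : X.Etale, Disjoint (Set.range U.hom.base) (Set.range i.base) →
        IsZero (F.obj.obj (op U)) := by
  constructor
  · rintro ⟨G, ⟨e⟩⟩ U hU
    haveI : IsEmpty ((EtCoh.bc i).obj U).left := by
      constructor
      intro t
      have h2 := congrArg (fun φ => φ.base t) (pullback.condition (f := U.hom) (g := i))
      exact Set.disjoint_left.1 hU ⟨(pullback.fst U.hom i).base t, rfl⟩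
        ⟨(pullback.snd U.hom i).base t, h2.symm⟩
    haveI := subsingleton_sections_of_isEmpty G ((EtCoh.bc i).obj U)
    have hz : IsZero (((EtCoh.push i).obj G).obj.obj (op U)) :=
      AddCommGrpCat.isZero_of_subsingleton (G.obj.obj (op ((EtCoh.bc i).obj U)))
    exact hz.of_iso (((sheafToPresheaf _ _).mapIso e.symm).app (op U))
  · intro hF
    haveI := isIso_unit_of_vanishing i F hF
    exact ⟨(EtCoh.pull i).obj F, ⟨(asIso ((EtCoh.pullPushAdj i).unit.app F)).symm⟩⟩

end Groth.Agent.Helper1.CI
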