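import Mathlib
import Groth.Prelude.Def_EtCore
import Groth.Agent.Lib.Helper1.CI6
import Groth.Agent.Lib.Helper1.SHC13

/-!
# Direct image along an open immersion is fully faithful (helper1)
-/

set_option autoImplicit false
set_option linter.unusedSectionVars false
set_option linter.style.haveILetI false

open CategoryTheory CategoryTheory.Limits AlgebraicGeometry Opposite

namespace Groth.Agent.Helper1.OI

universe u

open Groth.Agent.Helper1.SHC Groth.Agent.Helper1.CI

theorem isLocallyFull_of_exists {C D : Type*} [Category C] [Category D] (G : C ⥤ D)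
    (K : GrothendieckTopology D)
    (h : ∀ {U V : C} (f : G.obj U ⟶ G.obj V), ∃ (W : C) (a : W ⟶ U) (b : W ⟶ V),
      IsIso (G.map a) ∧ G.map a ≫ f = G.map b) :
    G.IsLocallyFull K := by
  constructor
  intro U V f
  obtain ⟨W, a, b, hiso, hcomp⟩ := h f
  have h1 : (G.imageSieve f).functorPushforward G (G.map a) :=
    Sieve.image_mem_functorPushforward _ _ ⟨b, hcomp.symm⟩
  have h2 : (G.imageSieve f).functorPushforward G (𝟙 _) := by
    have h3 := ((G.imageSieve f).functorPushforward G).downward_closed h1 (inv (G.map a))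
    rwa [IsIso.inv_hom_id] at h3
  rw [(Sieve.id_mem_iff_eq_top).1 h2]
  exact GrothendieckTopology.top_mem _ _

variable {V X : Scheme.{u}} (j : V ⟶ X) [IsOpenImmersion j]

set_option backward.isDefEq.respectTransparency.types false in
theorem isCoverDense_bc_open : (EtCoh.bc j).IsCoverDense V.smallEtaleTopology := by
  constructor
  intro U₀
  let W : X.Etale := Scheme.Etale.mk (U₀.hom ≫ j)
  have hc : 𝟙 U₀.left ≫ (U₀.hom ≫ j) = U₀.hom ≫ j := Category.id_comp _
  let lift : U₀ ⟶ (EtCoh.bc j).obj W :=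
    MorphismProperty.Over.homMk (pullback.lift (𝟙 U₀.left) U₀.hom hc)
      (pullback.lift_snd _ _ _) trivial
  have hm : pullback.fst (U₀.hom ≫ j) j ≫ U₀.hom = pullback.snd (U₀.hom ≫ j) j := by
    rw [← cancel_mono j, Category.assoc]; exact pullback.condition
  let map : (EtCoh.bc j).obj W ⟶ U₀ :=
    MorphismProperty.Over.homMk (pullback.fst (U₀.hom ≫ j) j) hm trivial
  have hfac : lift ≫ map = 𝟙 U₀ := by
    apply MorphismProperty.Over.Hom.ext
    exact pullback.lift_fst _ _ _
  have h1 : Sieve.coverByImage (EtCoh.bc j) U₀ (𝟙 U₀) := ⟨⟨W, lift, map, hfac⟩⟩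
  rw [(Sieve.id_mem_iff_eq_top).1 h1]
  exact GrothendieckTopology.top_mem _ _

set_option backward.isDefEq.respectTransparency.types false in
theorem exists_lift_open (U₁ U₂ : X.Etale)
    (f : (EtCoh.bc j).obj U₁ ⟶ (EtCoh.bc j).obj U₂) :
    ∃ (W : X.Etale) (a : W ⟶ U₁) (b : W ⟶ U₂), IsIso ((EtCoh.bc j).map a) ∧
      (EtCoh.bc j).map a ≫ f = (EtCoh.bc j).map b := by
  let fl : pullback U₁.hom j ⟶ pullback U₂.hom j := f.left
  have hf : fl ≫ pullback.snd U₂.hom j = pullback.snd U₁.hom j := Over.w f.hom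
  let W : X.Etale := Scheme.Etale.mk (pullback.snd U₁.hom j ≫ j)
  let a : W ⟶ U₁ :=
    MorphismProperty.Over.homMk (pullback.fst U₁.hom j) pullback.condition trivial
  have hb : (fl ≫ pullback.fst U₂.hom j) ≫ U₂.hom = pullback.snd U₁.hom j ≫ j := by
    rw [Category.assoc, pullback.condition, ← Category.assoc, hf]
  let b : W ⟶ U₂ := MorphismProperty.Over.homMk (fl ≫ pullback.fst U₂.hom j) hb trivial
  let ma : pullback W.hom j ⟶ pullback U₁.hom j := ((EtCoh.bc j).map a).left
  let mb : pullback W.hom j ⟶ pullback U₂.hom j := ((EtCoh.bc j).map b).left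
  have ea1 : ma ≫ pullback.fst U₁.hom j = pullback.fst W.hom j ≫ pullback.fst U₁.hom j :=
    bc_map_fst j a
  have ea2 : ma ≫ pullback.snd U₁.hom j = pullback.snd W.hom j := bc_map_snd j a
  have eb1 : mb ≫ pullback.fst U₂.hom j =
      pullback.fst W.hom j ≫ (fl ≫ pullback.fst U₂.hom j) := bc_map_fst j b
  have eb2 : mb ≫ pullback.snd U₂.hom j = pullback.snd W.hom j := bc_map_snd j b
  have hW : pullback.fst W.hom j ≫ pullback.snd U₁.hom j = pullback.snd W.hom j := by
    rw [← cancel_mono j, Category.assoc]; exact pullback.condition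
  have hma : ma = pullback.fst W.hom j := by
    apply pullback.hom_ext
    · exact ea1
    · exact ea2.trans hW.symm
  have hinvc : 𝟙 (pullback U₁.hom j) ≫ W.hom = pullback.snd U₁.hom j ≫ j := Category.id_comp _
  let iv : pullback U₁.hom j ⟶ pullback W.hom j :=
    pullback.lift (𝟙 _) (pullback.snd U₁.hom j) hinvc
  have hiv1 : iv ≫ pullback.fst W.hom j = 𝟙 _ := pullback.lift_fst _ _ _
  have hiv2 : iv ≫ pullback.snd W.hom j = pullback.snd U₁.hom j := pullback.lift_snd _ _ _
  have key1 : iv ≫ ma = 𝟙 _ := by rw [hma]; exact hiv1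
  have key2 : ma ≫ iv = 𝟙 _ := by
    apply pullback.hom_ext
    · rw [Category.assoc, hiv1]
      exact (Category.comp_id _).trans (hma.trans (Category.id_comp _).symm)
    · rw [Category.assoc, hiv2, ea2]
      exact (Category.id_comp _).symm
  let inv : (EtCoh.bc j).obj U₁ ⟶ (EtCoh.bc j).obj W :=
    MorphismProperty.Over.homMk iv hiv2 trivial
  refine ⟨W, a, b, ⟨inv, ?_, ?_⟩, ?_⟩
  · apply MorphismProperty.Over.Hom.ext; exact key2
  · apply MorphismProperty.Over.Hom.ext; exact key1
  · apply MorphismProperty.Over.Hom.ext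
    change ma ≫ fl = mb
    apply pullback.hom_ext
    · rw [Category.assoc, eb1]
      exact congrArg (fun φ => φ ≫ fl ≫ pullback.fst U₂.hom j) hma
    · rw [Category.assoc, hf, ea2, eb2]

theorem isLocallyFull_bc_open : (EtCoh.bc j).IsLocallyFull V.smallEtaleTopology :=
  isLocallyFull_of_exists _ _ (fun f => exists_lift_open j _ _ f)

theorem full_faithful_push_open [EtCoh.BCCont j] :
    (EtCoh.push j).Full ∧ (EtCoh.push j).Faithful := by
  haveI := isCoverDense_bc_open j
  haveI := isLocallyFull_bc_open j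
  exact ⟨Functor.IsCoverDense.full_sheafPushforwardContinuous _ _ _,
    Functor.IsCoverDense.faithful_sheafPushforwardContinuous _ _ _⟩

theorem isIso_counit_open [EtCoh.BCCont j] (G : EtCoh.Ab V) :
    IsIso ((EtCoh.pullPushAdj j).counit.app G) := by
  obtain ⟨hfull, hfaith⟩ := full_faithful_push_open j
  haveI := hfull
  haveI := hfaith
  infer_instance

theorem main19885 [EtCoh.BCCont j]
    (G : EtCoh.Ab V) {Ω : Type u} [Field Ω] [IsSepClosed Ω] (ζ : Spec (CommRingCat.of Ω) ⟶ V) :
    Nonempty ((EtCoh.stalk (ζ ≫ j)).obj ((EtCoh.push j).obj G) ≅ (EtCoh.stalk ζ).obj G) := by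
  haveI := isIso_counit_open j G
  haveI : (EtCoh.push j).IsRightAdjoint := (EtCoh.pullPushAdj j).isRightAdjoint
  let e1 := (stalkPullIso j ζ AddCommGrpCat.{u + 1}).app ((EtCoh.push j).obj G)
  let e2 := (EtCoh.stalk ζ).mapIso (asIso ((EtCoh.pullPushAdj j).counit.app G))
  exact ⟨e1.symm ≪≫ e2⟩

end Groth.Agent.Helper1.OI
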