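import Mathlib
import Groth.Prelude.Def_EtCore
import Groth.Prelude.Def_EtShriek2
import Groth.Agent.Lib.Helper1.OI1

/-!
# Extension by zero along an open immersion: the unit is an isomorphism (helper1)
-/

set_option autoImplicit false
set_option linter.unusedSectionVars false
set_option linter.style.haveILetI false

open CategoryTheory CategoryTheory.Limits AlgebraicGeometry Opposite

namespace Groth.Agent.Helper1.OI

universe u

open Groth.Agent.Helper1.SHC

set_option backward.isDefEq.respectTransparency.types false in
theorem isCocontinuous_compEtale {U X : Scheme.{u}} (j : U ⟶ X) [Etale j] [Mono j] :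
    (EtShriek.compEtale j).IsCocontinuous U.smallEtaleTopology X.smallEtaleTopology := by
  constructor
  intro V S hS
  apply mem_of_pointwise
  intro x
  have eX : X.smallEtaleTopology =
      (X.smallPretopology (P := EtCoh.etaleMP) (Q := EtCoh.etaleMP)).toGrothendieck :=
    Scheme.smallGrothendieckTopology_eq_toGrothendieck_smallPretopology X le_rfl
  rw [eX] at hS
  obtain ⟨W', g', w, hg', -, hw⟩ :=
    (Scheme.mem_toGrothendieck_smallPretopology ((EtShriek.compEtale j).obj V) S).1 hS x
  let L := EtShriek.compEtaleLift j g'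
  let e : (EtShriek.compEtale j).obj L.1 ≅ W' := L.2
  let g : L.1 ⟶ V := (EtShriek.compEtale j).preimage (e.hom ≫ g')
  have hg : (EtShriek.compEtale j).map g = e.hom ≫ g' := Functor.map_preimage _ _
  have h3 : e.inv ≫ (EtShriek.compEtale j).map g = g' := by
    rw [hg, Iso.inv_hom_id_assoc]
  refine ⟨L.1, g, e.inv.left.base w, ?_, ?_⟩
  · change S ((EtShriek.compEtale j).map g)
    rw [hg]
    exact S.downward_closed hg' e.hom
  · have h4 := congrArg (fun φ => φ.left.base w) h3
    exact h4.trans hw

theorem isIso_unit_extZero {U X : Scheme.{u}} (j : U ⟶ X) [IsOpenImmersion j] [Etale j]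
    [EtShriek.JCont j] (F : EtCoh.Ab U) :
    IsIso ((EtShriek.extZeroAdj j).unit.app F) := by
  haveI := isCocontinuous_compEtale j
  let t : Adjunction.Triple (EtShriek.extZero j) (EtShriek.restrAlong j)
      ((EtShriek.compEtale j).sheafPushforwardCocontinuous AddCommGrpCat.{u + 1}
        U.smallEtaleTopology X.smallEtaleTopology) :=
    ⟨EtShriek.extZeroAdj j, (EtShriek.compEtale j).sheafAdjunctionCocontinuous _ _ _⟩
  haveI : ∀ G, IsIso (t.adj₂.counit.app G) := by
    intro G
    have h := Functor.sheafAdjunctionCocontinuous_counit_app_hom (EtShriek.compEtale j)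
      AddCommGrpCat.{u + 1} U.smallEtaleTopology X.smallEtaleTopology G
    haveI : IsIso ((sheafToPresheaf _ _).map (t.adj₂.counit.app G)) := by
      change IsIso (t.adj₂.counit.app G).hom
      rw [h]
      haveI : IsIso ((EtShriek.compEtale j).op.ranAdjunction AddCommGrpCat.{u + 1}).counit :=
        Functor.reflective' (EtShriek.compEtale j).op
      exact NatIso.isIso_app_of_isIso _ _
    exact isIso_of_reflects_iso _ (sheafToPresheaf _ _)
  haveI : IsIso t.adj₂.counit := NatIso.isIso_of_isIso_app _
  haveI : IsIso t.adj₁.unit := t.isIso_unit_iff_isIso_counit.2 inferInstance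
  change IsIso (t.adj₁.unit.app F)
  infer_instance

theorem main0651 {U X : Scheme.{u}} (j : U ⟶ X) [IsOpenImmersion j]
    [AlgebraicGeometry.Etale j] [EtShriek.JCont j] (F : EtCoh.Ab U) :
    IsIso ((EtCoh.pullPushAdj j).counit.app F) ∧ IsIso ((EtShriek.extZeroAdj j).unit.app F) :=
  ⟨isIso_counit_open j F, isIso_unit_extZero j F⟩

end Groth.Agent.Helper1.OI
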