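import Mathlib
import Groth.Prelude.Def_EtCore
import Groth.Prelude.Def_EtShriek2
import Groth.Agent.Lib.Helper1.OI2

/-!
# Restriction along an étale morphism: adjunctions and stalks (helper1)
-/

set_option autoImplicit false
set_option linter.unusedSectionVars false
set_option linter.style.haveILetI false

open CategoryTheory CategoryTheory.Limits AlgebraicGeometry Opposite

namespace Groth.Agent.Helper1.OI

universe u

open Groth.Agent.Helper1.SHC

section

variable {U X : Scheme.{u}} (j : U ⟶ X) [hj : Etale j]

/-- composition with `j` is left adjoint to base change along `j` -/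
noncomputable def compBcAdj : EtShriek.compEtale j ⊣ EtCoh.bc j :=
  MorphismProperty.Over.mapPullbackAdj EtCoh.etaleMP ⊤ j hj trivial

variable [EtShriek.JCont j]

/-- restriction along `j` is left adjoint to the direct image -/
noncomputable def restrPushAdj : EtShriek.restrAlong j ⊣ EtCoh.push j :=
  (compBcAdj j).sheafPushforwardContinuous U.smallEtaleTopology X.smallEtaleTopology

/-- restriction along `j` is the inverse image -/
noncomputable def restrPullIso : EtShriek.restrAlong j ≅ EtCoh.pull j :=
  (restrPushAdj j).leftAdjointUniq (EtCoh.pullPushAdj j)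

variable {Ω : Type u} [Field Ω] [IsSepClosed Ω] (ξ' : Spec (CommRingCat.of Ω) ⟶ U)

/-- stalks of the restriction -/
noncomputable def stalkRestrIso :
    EtShriek.restrAlong j ⋙ EtCoh.stalk ξ' ≅ EtCoh.stalk (ξ' ≫ j) :=
  haveI : (EtCoh.push j).IsRightAdjoint := (EtCoh.pullPushAdj j).isRightAdjoint
  Functor.isoWhiskerRight (restrPullIso j) _ ≪≫ stalkPullIso j ξ' AddCommGrpCat.{u + 1}

theorem stalk_map_eq_restr {F G : EtCoh.Ab X} (v : F ⟶ G) :
    (EtCoh.stalk (ξ' ≫ j)).map v =
      (stalkRestrIso j ξ').inv.app F ≫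
        (EtCoh.stalk ξ').map ((EtShriek.restrAlong j).map v) ≫
        (stalkRestrIso j ξ').hom.app G := by
  have h := (stalkRestrIso j ξ').inv.naturality v
  rw [← Category.assoc, ← Functor.comp_map, ← h, Category.assoc, Iso.inv_hom_id_app,
    Category.comp_id]

end

section Zero

variable {U X : Scheme.{u}} (j : U ⟶ X) [Etale j] [EtShriek.JCont j]
  {Ω : Type u} [Field Ω] [IsSepClosed Ω] (ξ : Spec (CommRingCat.of Ω) ⟶ X)

set_option backward.isDefEq.respectTransparency.types false in
theorem isEmpty_fiber_compEtale (h : ξ.base (default : Spec (CommRingCat.of Ω)) ∉ Set.range j.base)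
    (V : U.Etale) :
    IsEmpty ((Scheme.pointSmallEtale ξ).fiber.obj ((EtShriek.compEtale j).obj V)) := by
  constructor
  intro y
  let yl : Spec (CommRingCat.of Ω) ⟶ V.left := y.left
  have hy : yl ≫ (V.hom ≫ j) = ξ := Over.w y
  apply h
  refine ⟨V.hom.base (yl.base (default : Spec (CommRingCat.of Ω))), ?_⟩
  exact congrArg (fun φ : Spec (CommRingCat.of Ω) ⟶ X =>
    φ.base (default : Spec (CommRingCat.of Ω))) hy

/-- the extension by zero has zero stalks outside of the image of `j` -/
theorem isZero_stalk_extZero (F : EtCoh.Ab U)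
    (h : ξ.base (default : Spec (CommRingCat.of Ω)) ∉ Set.range j.base) :
    IsZero ((EtCoh.stalk ξ).obj ((EtShriek.extZero j).obj F)) := by
  rw [IsZero.iff_id_eq_zero]
  let adj := (EtShriek.extZeroAdj j).comp
    ((Scheme.pointSmallEtale ξ).skyscraperSheafAdjunction (A := AddCommGrpCat.{u + 1}))
  apply (adj.homEquiv F ((EtCoh.stalk ξ).obj ((EtShriek.extZero j).obj F))).injective
  apply Sheaf.hom_ext
  apply NatTrans.ext
  funext V
  apply IsZero.eq_of_tgt
  have hE := isEmpty_fiber_compEtale j ξ h V.unop
  rw [IsZero.iff_id_eq_zero]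
  apply Pi.hom_ext
  intro b
  exact hE.elim b

end Zero

end Groth.Agent.Helper1.OI
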