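import Mathlib
import Groth.Prelude.Def_EtCore
import Groth.Prelude.Def_EtShriek2
import Groth.Agent.Lib.Helper1.OI3
import Groth.Agent.Lib.Helper1.CI9

/-!
# Extension by zero along an open immersion: characterisation and the
  fundamental exact sequence (helper1)
-/

set_option autoImplicit false
set_option linter.unusedSectionVars false
set_option linter.style.haveILetI false

open CategoryTheory CategoryTheory.Limits AlgebraicGeometry Opposite

namespace Groth.Agent.Helper1.OI

universe u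

open Groth.Agent.Helper1.SHC Groth.Agent.Helper1.CI

theorem main0652 {U X : Scheme.{u}} (j : U ⟶ X) [IsOpenImmersion j]
    [AlgebraicGeometry.Etale j] [EtShriek.JCont j] (F : EtCoh.Ab U) (G : EtCoh.Ab X)
    (hres : Nonempty ((EtShriek.restrAlong j).obj G ≅ F))
    (hzero : ∀ (Ω : Type u) [Field Ω] [IsSepClosed Ω] (ξ : Spec (CommRingCat.of Ω) ⟶ X),
      Set.range ξ.base ⊆ (Set.range j.base)ᶜ → IsZero ((EtCoh.stalk ξ).obj G)) :
    Nonempty (G ≅ (EtShriek.extZero j).obj F) := by
  obtain ⟨θ⟩ := hres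
  let φ : (EtShriek.extZero j).obj F ⟶ G := ((EtShriek.extZeroAdj j).homEquiv F G).symm θ.inv
  have hφ : (EtShriek.extZeroAdj j).unit.app F ≫ (EtShriek.restrAlong j).map φ = θ.inv := by
    exact ((EtShriek.extZeroAdj j).homEquiv_unit F G φ).symm.trans
      (Equiv.apply_symm_apply _ _)
  haveI := isIso_unit_extZero j F
  haveI : IsIso ((EtShriek.restrAlong j).map φ) := by
    haveI : IsIso ((EtShriek.extZeroAdj j).unit.app F ≫ (EtShriek.restrAlong j).map φ) := by
      rw [hφ]; infer_instance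
    exact IsIso.of_isIso_comp_left ((EtShriek.extZeroAdj j).unit.app F) _
  have hb : ∀ (Ω : Type u) [Field Ω] [IsSepClosed Ω] (ξ : Spec (CommRingCat.of Ω) ⟶ X),
      Function.Bijective ((EtCoh.stalk ξ).map φ) := by
    intro Ω _ _ ξ
    by_cases hξ : ξ.base (default : Spec (CommRingCat.of Ω)) ∈ Set.range j.base
    · have hr : Set.range ξ.base ⊆ Set.range j.base := by
        rintro _ ⟨a, rfl⟩
        rw [Subsingleton.elim a (default : Spec (CommRingCat.of Ω))]; exact hξ
      obtain ⟨ξ', rfl⟩ : ∃ ξ' : Spec (CommRingCat.of Ω) ⟶ U, ξ' ≫ j = ξ :=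
        ⟨IsOpenImmersion.lift j ξ hr, IsOpenImmersion.lift_fac _ _ _⟩
      have h1 := stalk_map_eq_restr j ξ' φ
      have h3 : IsIso ((EtCoh.stalk (ξ' ≫ j)).map φ) := by rw [h1]; infer_instance
      exact ConcreteCategory.bijective_of_isIso _
    · have hz1 := isZero_stalk_extZero j ξ F hξ
      have hz2 := hzero Ω ξ (by
        rintro _ ⟨a, rfl⟩
        rw [Subsingleton.elim a (default : Spec (CommRingCat.of Ω))]; exact hξ)
      haveI : Subsingleton ((EtCoh.stalk ξ).obj ((EtShriek.extZero j).obj F)) :=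
        AddCommGrpCat.subsingleton_of_isZero hz1
      haveI : Subsingleton ((EtCoh.stalk ξ).obj G) := AddCommGrpCat.subsingleton_of_isZero hz2
      exact ⟨fun a b _ => Subsingleton.elim a b, fun b => ⟨0, Subsingleton.elim _ _⟩⟩
  haveI : Mono φ := (mono_iff_stalks _).2 (fun Ω _ _ ξ => (hb Ω ξ).1)
  haveI : Epi φ := (epi_iff_stalks _).2 (fun Ω _ _ ξ => (hb Ω ξ).2)
  haveI : IsIso φ := isIso_of_mono_of_epi _
  exact ⟨(asIso φ).symm⟩

theorem isIso_stalk_unit_comp {Z X : Scheme.{u}} (i : Z ⟶ X) [IsClosedImmersion i]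
    [EtCoh.BCCont i] (F : EtCoh.Ab X)
    {Ω : Type u} [Field Ω] [IsSepClosed Ω] (ζ : Spec (CommRingCat.of Ω) ⟶ Z) :
    IsIso ((EtCoh.stalk (ζ ≫ i)).map ((EtCoh.pullPushAdj i).unit.app F)) := by
  haveI : (EtCoh.push i).IsRightAdjoint := (EtCoh.pullPushAdj i).isRightAdjoint
  have h1 := stalk_map_eq i ζ AddCommGrpCat.{u + 1} ((EtCoh.pullPushAdj i).unit.app F)
  haveI := isIso_counit i ((EtCoh.pull i).obj F)
  haveI : IsIso ((EtCoh.pull i).map ((EtCoh.pullPushAdj i).unit.app F)) := by
    have hsplit := (EtCoh.pullPushAdj i).left_triangle_components F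
    haveI : IsIso ((EtCoh.pull i).map ((EtCoh.pullPushAdj i).unit.app F) ≫
        (EtCoh.pullPushAdj i).counit.app ((EtCoh.pull i).obj F)) := by
      rw [hsplit]; exact IsIso.id _
    exact IsIso.of_isIso_comp_right _ ((EtCoh.pullPushAdj i).counit.app ((EtCoh.pull i).obj F))
  change IsIso ((Scheme.pointSmallEtale (ζ ≫ i)).sheafFiber.map
      ((EtCoh.pullPushAdj i).unit.app F))
  rw [h1]; infer_instance

theorem isIso_stalk_counit_comp {U X : Scheme.{u}} (j : U ⟶ X) [IsOpenImmersion j]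
    [AlgebraicGeometry.Etale j] [EtShriek.JCont j] (F : EtCoh.Ab X)
    {Ω : Type u} [Field Ω] [IsSepClosed Ω] (ξ' : Spec (CommRingCat.of Ω) ⟶ U) :
    IsIso ((EtCoh.stalk (ξ' ≫ j)).map ((EtShriek.extZeroAdj j).counit.app F)) := by
  have h1 := stalk_map_eq_restr j ξ' ((EtShriek.extZeroAdj j).counit.app F)
  haveI := isIso_unit_extZero j ((EtShriek.restrAlong j).obj F)
  haveI : IsIso ((EtShriek.restrAlong j).map ((EtShriek.extZeroAdj j).counit.app F)) := by
    have hsplit := (EtShriek.extZeroAdj j).right_triangle_components F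
    haveI : IsIso ((EtShriek.extZeroAdj j).unit.app ((EtShriek.restrAlong j).obj F) ≫
        (EtShriek.restrAlong j).map ((EtShriek.extZeroAdj j).counit.app F)) := by
      rw [hsplit]; exact IsIso.id _
    exact IsIso.of_isIso_comp_left
      ((EtShriek.extZeroAdj j).unit.app ((EtShriek.restrAlong j).obj F)) _
  rw [h1]; infer_instance

set_option backward.isDefEq.respectTransparency.types false in
theorem main0654 {Z X : Scheme.{u}} (i : Z ⟶ X) [IsClosedImmersion i]
    (U : X.Opens) (hU : (U : Set X) = (Set.range i.base)ᶜ) [AlgebraicGeometry.Etale U.ι]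
    [EtShriek.JCont U.ι] (F : EtCoh.Ab X) :
    ∃ w : (EtShriek.extZeroAdj U.ι).counit.app F ≫ (EtCoh.pullPushAdj i).unit.app F = 0,
      (ShortComplex.mk _ _ w).ShortExact := by
  have hrange : Set.range U.ι.base = (Set.range i.base)ᶜ := by
    rw [Scheme.Opens.range_ι]; exact hU
  -- the composite vanishes
  have w : (EtShriek.extZeroAdj U.ι).counit.app F ≫ (EtCoh.pullPushAdj i).unit.app F = 0 := by
    apply ((EtShriek.extZeroAdj U.ι).homEquiv _ _).injective
    apply Sheaf.hom_ext
    apply NatTrans.ext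
    funext V
    apply IsZero.eq_of_tgt
    haveI : IsEmpty ((EtCoh.bc i).obj ((EtShriek.compEtale U.ι).obj V.unop)).left := by
      constructor
      intro t
      have h2 := congrArg (fun φ => φ.base t)
        (pullback.condition (f := ((EtShriek.compEtale U.ι).obj V.unop).hom) (g := i))
      have h3 : ((EtShriek.compEtale U.ι).obj V.unop).hom.base
          ((pullback.fst ((EtShriek.compEtale U.ι).obj V.unop).hom i).base t) ∈
          Set.range U.ι.base :=
        ⟨V.unop.hom.base ((pullback.fst ((EtShriek.compEtale U.ι).obj V.unop).hom i).base t), rfl⟩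
      rw [hrange] at h3
      exact h3 ⟨(pullback.snd ((EtShriek.compEtale U.ι).obj V.unop).hom i).base t, h2.symm⟩
    haveI := subsingleton_sections_of_isEmpty ((EtCoh.pull i).obj F)
      ((EtCoh.bc i).obj ((EtShriek.compEtale U.ι).obj V.unop))
    exact AddCommGrpCat.isZero_of_subsingleton
      (((EtCoh.pull i).obj F).obj.obj (op ((EtCoh.bc i).obj ((EtShriek.compEtale U.ι).obj V.unop))))
  refine ⟨w, ?_⟩
  -- stalkwise analysis
  have hA : ∀ (Ω : Type u) [Field Ω] [IsSepClosed Ω] (ξ : Spec (CommRingCat.of Ω) ⟶ X),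
      ξ.base (default : Spec (CommRingCat.of Ω)) ∈ Set.range i.base →
      IsZero ((EtCoh.stalk ξ).obj ((EtShriek.extZero U.ι).obj ((EtShriek.restrAlong U.ι).obj F))) ∧
      IsIso ((EtCoh.stalk ξ).map ((EtCoh.pullPushAdj i).unit.app F)) := by
    intro Ω _ _ ξ hξ
    refine ⟨isZero_stalk_extZero U.ι ξ _ ?_, ?_⟩
    · rw [hrange]
      exact fun h => h hξ
    · obtain ⟨ζ, rfl⟩ := exists_factor_of_mem_range i ξ hξ
      exact isIso_stalk_unit_comp i F ζ
  have hB : ∀ (Ω : Type u) [Field Ω] [IsSepClosed Ω] (ξ : Spec (CommRingCat.of Ω) ⟶ X),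
      ξ.base (default : Spec (CommRingCat.of Ω)) ∉ Set.range i.base →
      IsZero ((EtCoh.stalk ξ).obj ((EtCoh.push i).obj ((EtCoh.pull i).obj F))) ∧
      IsIso ((EtCoh.stalk ξ).map ((EtShriek.extZeroAdj U.ι).counit.app F)) := by
    intro Ω _ _ ξ hξ
    have hdis : Disjoint (Set.range ξ.base) (Set.range i.base) := by
      rw [Set.disjoint_left]
      rintro _ ⟨a, rfl⟩ hmem
      rw [Subsingleton.elim a (default : Spec (CommRingCat.of Ω))] at hmem
      exact hξ hmem
    refine ⟨isZero_stalk_push i _ ξ hdis, ?_⟩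
    have hr : Set.range ξ.base ⊆ Set.range U.ι.base := by
      rw [hrange]
      rintro _ ⟨a, rfl⟩ hmem
      rw [Subsingleton.elim a (default : Spec (CommRingCat.of Ω))] at hmem
      exact hξ hmem
    obtain ⟨ξ', rfl⟩ : ∃ ξ' : Spec (CommRingCat.of Ω) ⟶ U.toScheme, ξ' ≫ U.ι = ξ :=
      ⟨IsOpenImmersion.lift U.ι ξ hr, IsOpenImmersion.lift_fac _ _ _⟩
    exact isIso_stalk_counit_comp U.ι F ξ'
  haveI : Mono ((EtShriek.extZeroAdj U.ι).counit.app F) := by
    rw [mono_iff_stalks]
    intro Ω _ _ ξ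
    by_cases hξ : ξ.base (default : Spec (CommRingCat.of Ω)) ∈ Set.range i.base
    · haveI : Subsingleton ((EtCoh.stalk ξ).obj
          ((EtShriek.restrAlong U.ι ⋙ EtShriek.extZero U.ι).obj F)) :=
        AddCommGrpCat.subsingleton_of_isZero (hA Ω ξ hξ).1
      exact fun a b _ => Subsingleton.elim a b
    · haveI := (hB Ω ξ hξ).2
      exact (ConcreteCategory.bijective_of_isIso _).1
  haveI : Epi ((EtCoh.pullPushAdj i).unit.app F) := by
    rw [epi_iff_stalks]
    intro Ω _ _ ξ
    by_cases hξ : ξ.base (default : Spec (CommRingCat.of Ω)) ∈ Set.range i.base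
    · haveI := (hA Ω ξ hξ).2
      exact (ConcreteCategory.bijective_of_isIso _).2
    · haveI : Subsingleton ((EtCoh.stalk ξ).obj
          ((EtCoh.pull i ⋙ EtCoh.push i).obj F)) :=
        AddCommGrpCat.subsingleton_of_isZero (hB Ω ξ hξ).1
      exact fun b => ⟨0, Subsingleton.elim _ _⟩
  have hex : (ShortComplex.mk _ _ w).Exact := by
    rw [exact_iff_stalks]
    intro Ω _ _ ξ
    by_cases hξ : ξ.base (default : Spec (CommRingCat.of Ω)) ∈ Set.range i.base
    · have hf : ((ShortComplex.mk _ _ w).map (EtCoh.stalk ξ)).f = 0 :=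
        IsZero.eq_of_src (hA Ω ξ hξ).1 _ _
      rw [ShortComplex.exact_iff_mono _ hf]
      haveI := (hA Ω ξ hξ).2
      change Mono ((EtCoh.stalk ξ).map ((EtCoh.pullPushAdj i).unit.app F))
      infer_instance
    · have hg : ((ShortComplex.mk _ _ w).map (EtCoh.stalk ξ)).g = 0 :=
        IsZero.eq_of_tgt (hB Ω ξ hξ).1 _ _
      rw [ShortComplex.exact_iff_epi _ hg]
      haveI := (hB Ω ξ hξ).2
      change Epi ((EtCoh.stalk ξ).map ((EtShriek.extZeroAdj U.ι).counit.app F))
      infer_instance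
  exact ShortComplex.ShortExact.mk hex

end Groth.Agent.Helper1.OI
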