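import Mathlib
import Groth.Prelude.Def_EtCore
import Groth.Prelude.Def_EtShriek2
import Groth.Agent.Lib.Helper1.OI4
import Groth.Agent.Lib.Helper1.SHC9

/-!
# Sections with support in a closed subscheme of an injective sheaf (helper1)
-/

set_option autoImplicit false
set_option linter.unusedSectionVars false
set_option linter.style.haveILetI false

open CategoryTheory CategoryTheory.Limits AlgebraicGeometry Opposite

namespace Groth.Agent.Helper1.OI

universe u

open Groth.Agent.Helper1.SHC Groth.Agent.Helper1.CI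

/-- a sheaf whose stalks at all geometric points through `V` vanish has no sections over `V` -/
theorem isZero_sections_of_stalks {X : Scheme.{u}} (F : EtCoh.Ab X) (V : X.Etale)
    (h : ∀ (Ω : Type u) [Field Ω] [IsSepClosed Ω] (ξ : Spec (CommRingCat.of Ω) ⟶ X)
      (_ : (Scheme.pointSmallEtale ξ).fiber.obj V), IsZero ((EtCoh.stalk ξ).obj F)) :
    IsZero (F.obj.obj (op V)) := by
  haveI := preservesFilteredColimits_forget.{u}
  suffices hs : ∀ s : F.obj.obj (op V), s = 0 by
    haveI : Subsingleton (F.obj.obj (op V)) := ⟨fun a b => (hs a).trans (hs b).symm⟩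
    exact AddCommGrpCat.isZero_of_subsingleton _
  intro s
  apply eq_of_equalizerSieve_mem F V
  apply mem_of_pointwise
  intro x
  obtain ⟨Ω, i1, i2, ξ, y, hy⟩ := exists_geom_point V x
  haveI : Subsingleton (ToType ((Scheme.pointSmallEtale ξ).presheafFiber.obj F.obj)) :=
    AddCommGrpCat.subsingleton_of_isZero (h Ω ξ y)
  have h1 : (Scheme.pointSmallEtale ξ).toPresheafFiber V y F.obj s =
      (Scheme.pointSmallEtale ξ).toPresheafFiber V y F.obj 0 := Subsingleton.elim _ _
  obtain ⟨V', g, v, hv, hg⟩ := ((Scheme.pointSmallEtale ξ).toPresheafFiber_eq_iff' _ y s 0).1 h1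
  refine ⟨V', g, (v.left : Spec (CommRingCat.of Ω) ⟶ V'.left).base
    (default : Spec (CommRingCat.of Ω)), hg, ?_⟩
  rw [← hy, ← hv]
  rfl

/-- a sheaf is zero if all its groups of sections are zero -/
theorem isZero_of_sections {X : Scheme.{u}} (F : EtCoh.Ab X)
    (h : ∀ V : X.Etale, IsZero (F.obj.obj (op V))) : IsZero F := by
  rw [IsZero.iff_id_eq_zero]
  apply Sheaf.hom_ext
  apply NatTrans.ext
  funext V
  exact (h V.unop).eq_of_tgt _ _

theorem isIso_stalk_unit_comp_open {U X : Scheme.{u}} (j : U ⟶ X) [IsOpenImmersion j]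
    [EtCoh.BCCont j] (F : EtCoh.Ab X)
    {Ω : Type u} [Field Ω] [IsSepClosed Ω] (ξ' : Spec (CommRingCat.of Ω) ⟶ U) :
    IsIso ((EtCoh.stalk (ξ' ≫ j)).map ((EtCoh.pullPushAdj j).unit.app F)) := by
  haveI : (EtCoh.push j).IsRightAdjoint := (EtCoh.pullPushAdj j).isRightAdjoint
  have h1 := stalk_map_eq j ξ' AddCommGrpCat.{u + 1} ((EtCoh.pullPushAdj j).unit.app F)
  haveI := isIso_counit_open j ((EtCoh.pull j).obj F)
  haveI : IsIso ((EtCoh.pull j).map ((EtCoh.pullPushAdj j).unit.app F)) := by
    have hsplit := (EtCoh.pullPushAdj j).left_triangle_components F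
    haveI : IsIso ((EtCoh.pull j).map ((EtCoh.pullPushAdj j).unit.app F) ≫
        (EtCoh.pullPushAdj j).counit.app ((EtCoh.pull j).obj F)) := by
      rw [hsplit]; exact IsIso.id _
    exact IsIso.of_isIso_comp_right _ ((EtCoh.pullPushAdj j).counit.app ((EtCoh.pull j).obj F))
  change IsIso ((Scheme.pointSmallEtale (ξ' ≫ j)).sheafFiber.map
      ((EtCoh.pullPushAdj j).unit.app F))
  rw [h1]; infer_instance

section

variable {Z X U : Scheme.{u}} (i : Z ⟶ X) [IsClosedImmersion i]
  (j : U ⟶ X) [IsOpenImmersion j] (hZU : Set.range j.base = (Set.range i.base)ᶜ)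
  [EtCoh.BCCont i] [EtCoh.BCCont j]

include hZU in
/-- the kernel of `F → j_* j^* F` has no sections away from `Z` -/
theorem isZero_kernel_sections (F : EtCoh.Ab X) (V : X.Etale)
    (hV : Disjoint (Set.range V.hom.base) (Set.range i.base)) :
    IsZero ((kernel ((EtCoh.pullPushAdj j).unit.app F)).obj.obj (op V)) := by
  apply isZero_sections_of_stalks
  intro Ω _ _ ξ y
  let yl : Spec (CommRingCat.of Ω) ⟶ V.left := y.left
  have hy : yl ≫ V.hom = ξ := Over.w y
  have hr : Set.range ξ.base ⊆ Set.range j.base := by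
    rw [hZU]
    rintro _ ⟨a, rfl⟩ hmem
    have h1 : ξ.base a = V.hom.base (yl.base a) := by rw [← hy]; rfl
    rw [h1] at hmem
    exact Set.disjoint_left.1 hV ⟨yl.base a, rfl⟩ hmem
  obtain ⟨ξ', rfl⟩ : ∃ ξ' : Spec (CommRingCat.of Ω) ⟶ U, ξ' ≫ j = ξ :=
    ⟨IsOpenImmersion.lift j ξ hr, IsOpenImmersion.lift_fac _ _ _⟩
  haveI := isIso_stalk_unit_comp_open j F ξ'
  have hmono : Function.Injective ((EtCoh.stalk (ξ' ≫ j)).map
      (kernel.ι ((EtCoh.pullPushAdj j).unit.app F))) :=
    (mono_iff_stalks _).1 inferInstance Ω (ξ' ≫ j)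
  have hzero : (EtCoh.stalk (ξ' ≫ j)).map (kernel.ι ((EtCoh.pullPushAdj j).unit.app F)) ≫
      (EtCoh.stalk (ξ' ≫ j)).map ((EtCoh.pullPushAdj j).unit.app F) = 0 := by
    haveI := additive_stalk (ξ' ≫ j)
    rw [← Functor.map_comp, kernel.condition, Functor.map_zero]
  have hzero' : (EtCoh.stalk (ξ' ≫ j)).map (kernel.ι ((EtCoh.pullPushAdj j).unit.app F)) = 0 := by
    rw [← cancel_mono ((EtCoh.stalk (ξ' ≫ j)).map ((EtCoh.pullPushAdj j).unit.app F)), hzero,
      zero_comp]
  haveI : Subsingleton ((EtCoh.stalk (ξ' ≫ j)).obj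
      (kernel ((EtCoh.pullPushAdj j).unit.app F))) := by
    constructor
    intro a b
    apply hmono
    rw [hzero']
    rfl
  exact AddCommGrpCat.isZero_of_subsingleton _

set_option backward.isDefEq.respectTransparency.types false in
include hZU in
/-- `j^* i_* B = 0` -/
theorem isZero_pull_push (B : EtCoh.Ab Z) :
    IsZero ((EtCoh.pull j).obj ((EtCoh.push i).obj B)) := by
  haveI : EtShriek.JCont j := inferInstance
  refine IsZero.of_iso ?_ ((restrPullIso j).app ((EtCoh.push i).obj B)).symm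
  apply isZero_of_sections
  intro V
  haveI : IsEmpty ((EtCoh.bc i).obj ((EtShriek.compEtale j).obj V)).left := by
    constructor
    intro t
    have h2 := congrArg (fun φ => φ.base t)
      (pullback.condition (f := ((EtShriek.compEtale j).obj V).hom) (g := i))
    have h3 : ((EtShriek.compEtale j).obj V).hom.base
        ((pullback.fst ((EtShriek.compEtale j).obj V).hom i).base t) ∈ Set.range j.base :=
      ⟨V.hom.base ((pullback.fst ((EtShriek.compEtale j).obj V).hom i).base t), rfl⟩
    rw [hZU] at h3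
    exact h3 ⟨(pullback.snd ((EtShriek.compEtale j).obj V).hom i).base t, h2.symm⟩
  haveI := subsingleton_sections_of_isEmpty B ((EtCoh.bc i).obj ((EtShriek.compEtale j).obj V))
  exact AddCommGrpCat.isZero_of_subsingleton
    (B.obj.obj (op ((EtCoh.bc i).obj ((EtShriek.compEtale j).obj V))))

include hZU in
theorem main0175 (I : EtCoh.Ab X) [Injective I] :
    Injective ((EtCoh.pull i).obj (kernel ((EtCoh.pullPushAdj j).unit.app I))) := by
  obtain ⟨hfull, hfaith⟩ := main0067 i
  haveI := hfull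
  haveI := hfaith
  haveI : IsIso ((EtCoh.pullPushAdj i).unit.app (kernel ((EtCoh.pullPushAdj j).unit.app I))) :=
    isIso_unit_of_vanishing i _ (fun V hV => isZero_kernel_sections i j hZU I V hV)
  haveI : (EtCoh.push i).IsRightAdjoint := (EtCoh.pullPushAdj i).isRightAdjoint
  constructor
  intro A B g f hf
  let K := kernel ((EtCoh.pullPushAdj j).unit.app I)
  let κ : K ⟶ I := kernel.ι ((EtCoh.pullPushAdj j).unit.app I)
  let u : K ⟶ (EtCoh.push i).obj ((EtCoh.pull i).obj K) := (EtCoh.pullPushAdj i).unit.app K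
  let a : (EtCoh.push i).obj A ⟶ I := (EtCoh.push i).map g ≫ inv u ≫ κ
  haveI : Mono ((EtCoh.push i).map f) := inferInstance
  let b : (EtCoh.push i).obj B ⟶ I := Injective.factorThru a ((EtCoh.push i).map f)
  have hb : (EtCoh.push i).map f ≫ b = a := Injective.comp_factorThru a _
  have hb0 : b ≫ (EtCoh.pullPushAdj j).unit.app I = 0 := by
    apply ((EtCoh.pullPushAdj j).homEquiv _ _).symm.injective
    exact (isZero_pull_push i j hZU B).eq_of_src _ _
  let b' : (EtCoh.push i).obj B ⟶ K := kernel.lift _ b hb0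
  have hb' : b' ≫ κ = b := kernel.lift_ι _ _ _
  refine ⟨(EtCoh.push i).preimage (b' ≫ u), ?_⟩
  apply (EtCoh.push i).map_injective
  rw [Functor.map_comp, Functor.map_preimage]
  have h1 : (EtCoh.push i).map f ≫ b' = (EtCoh.push i).map g ≫ inv u := by
    rw [← cancel_mono κ, Category.assoc, hb', hb, Category.assoc]
  rw [← Category.assoc, h1, Category.assoc, IsIso.inv_hom_id, Category.comp_id]

end

end Groth.Agent.Helper1.OI
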