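import Mathlib

/-!
# Abstract recollement (gluing) of categories along a pair of adjunctions (helper1)

Given adjunctions `Li ⊣ Ri` (`Li : 𝒳 ⥤ 𝒵`) and `Lj ⊣ Rj` (`Lj : 𝒳 ⥤ 𝒰`) such that both
counits are isomorphisms, `Lj ∘ Ri` kills everything, `Li`, `Lj` preserve pullbacks and are
jointly conservative and jointly faithful, the functor
`F ↦ (Li F, Lj F, Li F ⟶ Li Rj Lj F)` to the comma category is an equivalence.
-/

set_option autoImplicit false

open CategoryTheory CategoryTheory.Limits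

namespace Groth.Agent.Helper1.RC

universe v₁ v₂ v₃ u₁ u₂ u₃

variable {𝒳 : Type u₁} [Category.{v₁} 𝒳] {𝒵 : Type u₂} [Category.{v₂} 𝒵]
  {𝒰 : Type u₃} [Category.{v₃} 𝒰]

/-- the abstract recollement functor -/
def triple (Li : 𝒳 ⥤ 𝒵) {Lj : 𝒳 ⥤ 𝒰} {Rj : 𝒰 ⥤ 𝒳} (adjJ : Lj ⊣ Rj) :
    𝒳 ⥤ Comma (𝟭 𝒵) (Rj ⋙ Li) where
  obj F := { left := Li.obj F, right := Lj.obj F, hom := Li.map (adjJ.unit.app F) }
  map {F G} φ :=
    { left := Li.map φ
      right := Lj.map φ
      w := by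
        dsimp
        rw [← Functor.map_comp, ← Functor.map_comp]
        congr 1
        exact adjJ.unit.naturality φ }
  map_id F := by ext <;> simp
  map_comp φ ψ := by ext <;> simp

theorem isIso_map_unit {L : 𝒳 ⥤ 𝒵} {R : 𝒵 ⥤ 𝒳} (adj : L ⊣ R)
    [∀ A, IsIso (adj.counit.app A)] (M : 𝒳) : IsIso (L.map (adj.unit.app M)) := by
  have h := adj.left_triangle_components M
  haveI : IsIso (L.map (adj.unit.app M) ≫ adj.counit.app (L.obj M)) := by
    rw [h]; exact IsIso.id _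
  exact IsIso.of_isIso_comp_right _ (adj.counit.app (L.obj M))

theorem unit_comp_map {L : 𝒳 ⥤ 𝒵} {R : 𝒵 ⥤ 𝒳} (adj : L ⊣ R) {F : 𝒳} {B : 𝒵}
    (q : F ⟶ R.obj B) : adj.unit.app F ≫ R.map (L.map q ≫ adj.counit.app B) = q :=
  (adj.homEquiv_unit F B (L.map q ≫ adj.counit.app B)).symm.trans
    ((congrArg (adj.homEquiv F B) (adj.homEquiv_counit F B q).symm).trans
      ((adj.homEquiv F B).apply_symm_apply q))

theorem map_comp_counit {L : 𝒳 ⥤ 𝒵} {R : 𝒵 ⥤ 𝒳} (adj : L ⊣ R) {F : 𝒳} {B : 𝒵}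
    (a : L.obj F ⟶ B) : L.map (adj.unit.app F ≫ R.map a) ≫ adj.counit.app B = a :=
  (adj.homEquiv_counit F B (adj.unit.app F ≫ R.map a)).symm.trans
    ((congrArg (adj.homEquiv F B).symm (adj.homEquiv_unit F B a).symm).trans
      ((adj.homEquiv F B).symm_apply_apply a))

variable {Li : 𝒳 ⥤ 𝒵} {Ri : 𝒵 ⥤ 𝒳} (adjI : Li ⊣ Ri) {Lj : 𝒳 ⥤ 𝒰} {Rj : 𝒰 ⥤ 𝒳} (adjJ : Lj ⊣ Rj)
  [HasPullbacks 𝒳]

section Glue

variable (A : 𝒵) (B : 𝒰) (c : A ⟶ Li.obj (Rj.obj B))

/-- the glued object -/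
noncomputable def glue : 𝒳 := pullback (Ri.map c) (adjI.unit.app (Rj.obj B))

noncomputable def p1 : glue adjI A B c ⟶ Ri.obj A := pullback.fst _ _

noncomputable def p2 : glue adjI A B c ⟶ Rj.obj B := pullback.snd _ _

theorem sq : IsPullback (p1 adjI A B c) (p2 adjI A B c) (Ri.map c)
    (adjI.unit.app (Rj.obj B)) := IsPullback.of_hasPullback _ _

theorem isIso_Lj_p2 [PreservesLimitsOfShape WalkingCospan Lj] (hz : ∀ {A A' : 𝒵} (c : A ⟶ A'), IsIso (Lj.map (Ri.map c))) :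
    IsIso (Lj.map (p2 adjI A B c)) := by
  have h := (sq adjI A B c).map Lj
  haveI := hz c
  exact h.isIso_snd_of_isIso

theorem isIso_Li_p1 [PreservesLimitsOfShape WalkingCospan Li]
    [∀ A, IsIso (adjI.counit.app A)] : IsIso (Li.map (p1 adjI A B c)) := by
  have h := (sq adjI A B c).map Li
  haveI := isIso_map_unit adjI (Rj.obj B)
  exact h.isIso_fst_of_isIso

theorem Li_p2_eq :
    Li.map (p2 adjI A B c) = Li.map (p1 adjI A B c) ≫ adjI.counit.app A ≫ c := by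
  have h1 : Li.map (p1 adjI A B c) ≫ Li.map (Ri.map c) =
      Li.map (p2 adjI A B c) ≫ Li.map (adjI.unit.app (Rj.obj B)) := by
    rw [← Li.map_comp, ← Li.map_comp, (sq adjI A B c).w]
  have h2 : Li.map (Ri.map c) ≫ adjI.counit.app (Li.obj (Rj.obj B)) =
      adjI.counit.app A ≫ c := adjI.counit.naturality c
  have h3 := adjI.left_triangle_components (Rj.obj B)
  calc Li.map (p2 adjI A B c)
      = Li.map (p2 adjI A B c) ≫ (Li.map (adjI.unit.app (Rj.obj B)) ≫
          adjI.counit.app (Li.obj (Rj.obj B))) := by rw [h3]; exact (Category.comp_id _).symm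
    _ = (Li.map (p1 adjI A B c) ≫ Li.map (Ri.map c)) ≫
          adjI.counit.app (Li.obj (Rj.obj B)) := by rw [← Category.assoc, ← h1]
    _ = Li.map (p1 adjI A B c) ≫ adjI.counit.app A ≫ c := by rw [Category.assoc, h2]

/-- the triple of the glued object is the given triple -/
noncomputable def glueIso [PreservesLimitsOfShape WalkingCospan Li]
    [PreservesLimitsOfShape WalkingCospan Lj]
    [∀ A, IsIso (adjI.counit.app A)] [∀ B, IsIso (adjJ.counit.app B)] (hz : ∀ {A A' : 𝒵} (c : A ⟶ A'), IsIso (Lj.map (Ri.map c))) :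
    (triple Li adjJ).obj (glue adjI A B c) ≅
      ({ left := A, right := B, hom := c } : Comma (𝟭 𝒵) (Rj ⋙ Li)) :=
  Comma.isoMk (@asIso _ _ _ _ (Li.map (p1 adjI A B c)) (isIso_Li_p1 adjI A B c) ≪≫
      asIso (adjI.counit.app A))
    (@asIso _ _ _ _ (Lj.map (p2 adjI A B c)) (isIso_Lj_p2 adjI A B c hz) ≪≫
      asIso (adjJ.counit.app B))
    (by
      change (Li.map (p1 adjI A B c) ≫ adjI.counit.app A) ≫ c =
        Li.map (adjJ.unit.app (glue adjI A B c)) ≫
          Li.map (Rj.map (Lj.map (p2 adjI A B c) ≫ adjJ.counit.app B))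
      rw [← Li.map_comp, unit_comp_map adjJ, Li_p2_eq adjI A B c, Category.assoc])

end Glue

section Kappa

variable (G : 𝒳)

/-- the comparison map from an object to the gluing of its triple -/
noncomputable def kappa :
    G ⟶ glue adjI (Li.obj G) (Lj.obj G) (Li.map (adjJ.unit.app G)) :=
  pullback.lift (adjI.unit.app G) (adjJ.unit.app G)
    (adjI.unit.naturality (adjJ.unit.app G)).symm

theorem kappa_p1 : kappa adjI adjJ G ≫ p1 adjI _ _ _ = adjI.unit.app G :=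
  pullback.lift_fst _ _ _

theorem kappa_p2 : kappa adjI adjJ G ≫ p2 adjI _ _ _ = adjJ.unit.app G :=
  pullback.lift_snd _ _ _

theorem isIso_kappa [PreservesLimitsOfShape WalkingCospan Li]
    [PreservesLimitsOfShape WalkingCospan Lj]
    [∀ A, IsIso (adjI.counit.app A)] [∀ B, IsIso (adjJ.counit.app B)] (hz : ∀ {A A' : 𝒵} (c : A ⟶ A'), IsIso (Lj.map (Ri.map c)))
    (hcons : ∀ {F G : 𝒳} (φ : F ⟶ G), IsIso (Li.map φ) → IsIso (Lj.map φ) → IsIso φ) :
    IsIso (kappa adjI adjJ G) := by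
  apply hcons
  · haveI := isIso_Li_p1 adjI (Li.obj G) (Lj.obj G) (Li.map (adjJ.unit.app G))
    haveI : IsIso (Li.map (kappa adjI adjJ G) ≫ Li.map (p1 adjI _ _ _)) := by
      rw [← Li.map_comp, kappa_p1]
      exact isIso_map_unit adjI G
    exact IsIso.of_isIso_comp_right _ (Li.map (p1 adjI _ _ _))
  · haveI := isIso_Lj_p2 adjI (Li.obj G) (Lj.obj G) (Li.map (adjJ.unit.app G)) hz
    haveI : IsIso (Lj.map (kappa adjI adjJ G) ≫ Lj.map (p2 adjI _ _ _)) := by
      rw [← Lj.map_comp, kappa_p2]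
      exact isIso_map_unit adjJ G
    exact IsIso.of_isIso_comp_right _ (Lj.map (p2 adjI _ _ _))

theorem exists_preimage [PreservesLimitsOfShape WalkingCospan Li]
    [PreservesLimitsOfShape WalkingCospan Lj]
    [∀ A, IsIso (adjI.counit.app A)] [∀ B, IsIso (adjJ.counit.app B)] (hz : ∀ {A A' : 𝒵} (c : A ⟶ A'), IsIso (Lj.map (Ri.map c)))
    (hcons : ∀ {F G : 𝒳} (φ : F ⟶ G), IsIso (Li.map φ) → IsIso (Lj.map φ) → IsIso φ)
    {F G : 𝒳} (m : (triple Li adjJ).obj F ⟶ (triple Li adjJ).obj G) :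
    ∃ φ : F ⟶ G, (triple Li adjJ).map φ = m := by
  let a : Li.obj F ⟶ Li.obj G := m.left
  let b : Lj.obj F ⟶ Lj.obj G := m.right
  have hw : a ≫ Li.map (adjJ.unit.app G) = Li.map (adjJ.unit.app F ≫ Rj.map b) := by
    rw [Li.map_comp]
    exact m.w
  have w' : (adjI.unit.app F ≫ Ri.map a) ≫ Ri.map (Li.map (adjJ.unit.app G)) =
      (adjJ.unit.app F ≫ Rj.map b) ≫ adjI.unit.app (Rj.obj (Lj.obj G)) := by
    rw [Category.assoc, ← Ri.map_comp, hw]
    exact (adjI.unit.naturality (adjJ.unit.app F ≫ Rj.map b)).symm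
  let φ' : F ⟶ glue adjI (Li.obj G) (Lj.obj G) (Li.map (adjJ.unit.app G)) :=
    pullback.lift (adjI.unit.app F ≫ Ri.map a) (adjJ.unit.app F ≫ Rj.map b) w'
  have f1 : φ' ≫ p1 adjI _ _ _ = adjI.unit.app F ≫ Ri.map a := pullback.lift_fst _ _ _
  have f2 : φ' ≫ p2 adjI _ _ _ = adjJ.unit.app F ≫ Rj.map b := pullback.lift_snd _ _ _
  haveI := isIso_kappa adjI adjJ G hz hcons
  haveI := isIso_Li_p1 adjI (Li.obj G) (Lj.obj G) (Li.map (adjJ.unit.app G))
  haveI := isIso_Lj_p2 adjI (Li.obj G) (Lj.obj G) (Li.map (adjJ.unit.app G)) hz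
  -- key identities
  have kl : Li.map φ' = a ≫ Li.map (kappa adjI adjJ G) := by
    rw [← cancel_mono (Li.map (p1 adjI _ _ _) ≫ adjI.counit.app (Li.obj G))]
    have e1 : Li.map φ' ≫ Li.map (p1 adjI _ _ _) ≫ adjI.counit.app (Li.obj G) = a := by
      rw [← Category.assoc, ← Li.map_comp, f1]
      exact map_comp_counit adjI a
    have e2 : (a ≫ Li.map (kappa adjI adjJ G)) ≫ Li.map (p1 adjI _ _ _) ≫
        adjI.counit.app (Li.obj G) = a := by
      rw [Category.assoc, ← Category.assoc (Li.map (kappa adjI adjJ G)), ← Li.map_comp,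
        kappa_p1, adjI.left_triangle_components, Category.comp_id]
    rw [e1, e2]
  have kr : Lj.map φ' = b ≫ Lj.map (kappa adjI adjJ G) := by
    rw [← cancel_mono (Lj.map (p2 adjI _ _ _) ≫ adjJ.counit.app (Lj.obj G))]
    have e1 : Lj.map φ' ≫ Lj.map (p2 adjI _ _ _) ≫ adjJ.counit.app (Lj.obj G) = b := by
      rw [← Category.assoc, ← Lj.map_comp, f2]
      exact map_comp_counit adjJ b
    have e2 : (b ≫ Lj.map (kappa adjI adjJ G)) ≫ Lj.map (p2 adjI _ _ _) ≫
        adjJ.counit.app (Lj.obj G) = b := by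
      rw [Category.assoc, ← Category.assoc (Lj.map (kappa adjI adjJ G)), ← Lj.map_comp,
        kappa_p2, adjJ.left_triangle_components, Category.comp_id]
    rw [e1, e2]
  refine ⟨φ' ≫ inv (kappa adjI adjJ G), ?_⟩
  apply CommaMorphism.ext
  · change Li.map (φ' ≫ inv (kappa adjI adjJ G)) = a
    rw [Li.map_comp, kl, Category.assoc, ← Li.map_comp, IsIso.hom_inv_id, Li.map_id,
      Category.comp_id]
  · change Lj.map (φ' ≫ inv (kappa adjI adjJ G)) = b
    rw [Lj.map_comp, kr, Category.assoc, ← Lj.map_comp, IsIso.hom_inv_id, Lj.map_id,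
      Category.comp_id]

theorem isEquivalence_triple [PreservesLimitsOfShape WalkingCospan Li]
    [PreservesLimitsOfShape WalkingCospan Lj]
    [∀ A, IsIso (adjI.counit.app A)] [∀ B, IsIso (adjJ.counit.app B)] (hz : ∀ {A A' : 𝒵} (c : A ⟶ A'), IsIso (Lj.map (Ri.map c)))
    (hcons : ∀ {F G : 𝒳} (φ : F ⟶ G), IsIso (Li.map φ) → IsIso (Lj.map φ) → IsIso φ)
    (hfaith : ∀ {F G : 𝒳} (φ ψ : F ⟶ G), Li.map φ = Li.map ψ → Lj.map φ = Lj.map ψ → φ = ψ) :
    (triple Li adjJ).IsEquivalence := by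
  haveI : (triple Li adjJ).Faithful :=
    ⟨fun {F G} φ ψ h => hfaith φ ψ (congrArg CommaMorphism.left h)
      (congrArg CommaMorphism.right h)⟩
  haveI : (triple Li adjJ).Full :=
    ⟨fun {F G} m => exists_preimage adjI adjJ hz hcons m⟩
  haveI : (triple Li adjJ).EssSurj :=
    ⟨fun Y => ⟨glue adjI Y.left Y.right Y.hom, ⟨glueIso adjI adjJ Y.left Y.right Y.hom hz⟩⟩⟩
  exact { faithful := inferInstance, full := inferInstance, essSurj := inferInstance }

end Kappa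

end Groth.Agent.Helper1.RC
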