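import Mathlib
import Groth.Prelude.Def_EtCore
import Groth.Prelude.Def_W4c1etweilhu916Glue
import Groth.Agent.Lib.Helper1.RC1
import Groth.Agent.Lib.Helper1.OI6
import Groth.Agent.Lib.Helper1.SHC12
import Groth.Agent.Lib.Helper1.SHC13

/-!
# Exactness of the inverse image; recollement for a closed immersion and the complementary
  open immersion (helper1)
-/

set_option autoImplicit false
set_option linter.unusedSectionVars false
set_option linter.style.haveILetI false

open CategoryTheory CategoryTheory.Limits AlgebraicGeometry Opposite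

namespace Groth.Agent.Helper1.RC

universe u

open Groth.Agent.Helper1.SHC Groth.Agent.Helper1.CI Groth.Agent.Helper1.OI

/-- the inverse image of abelian étale sheaves is left exact -/
theorem preservesFiniteLimits_pull {X Y : Scheme.{u}} (f : X ⟶ Y) :
    PreservesFiniteLimits (EtCoh.pull f) := by
  rw [Functor.preservesFiniteLimits_iff_forall_exact_map_and_mono]
  intro S hS
  haveI : (EtCoh.push f).IsRightAdjoint := (EtCoh.pullPushAdj f).isRightAdjoint
  constructor
  · rw [exact_iff_stalks]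
    intro Ω _ _ ξ
    haveI := additive_stalk ξ
    haveI := additive_stalk (ξ ≫ f)
    have h1 : (S.map (EtCoh.stalk (ξ ≫ f))).Exact := (exact_iff_stalks S).1 hS.exact Ω (ξ ≫ f)
    let e : S.map (EtCoh.pull f ⋙ EtCoh.stalk ξ) ≅ S.map (EtCoh.stalk (ξ ≫ f)) :=
      S.mapNatIso (stalkPullIso f ξ AddCommGrpCat.{u + 1})
    exact (ShortComplex.exact_iff_of_iso e).2 h1
  · haveI := hS.mono_f
    rw [mono_iff_stalks]
    intro Ω _ _ ξ
    have h2 : Function.Injective ((EtCoh.stalk (ξ ≫ f)).map S.f) :=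
      (mono_iff_stalks S.f).1 inferInstance Ω (ξ ≫ f)
    haveI : Mono ((EtCoh.stalk (ξ ≫ f)).map S.f) := (AddCommGrpCat.mono_iff_injective _).2 h2
    have h3 : (EtCoh.stalk ξ).map ((EtCoh.pull f).map S.f) =
        (stalkPullIso f ξ AddCommGrpCat.{u + 1}).hom.app S.X₁ ≫
          (EtCoh.stalk (ξ ≫ f)).map S.f ≫
          (stalkPullIso f ξ AddCommGrpCat.{u + 1}).inv.app S.X₂ := by
      have hn := (stalkPullIso f ξ AddCommGrpCat.{u + 1}).hom.naturality S.f
      rw [← Category.assoc, ← hn, Category.assoc, Iso.hom_inv_id_app, Category.comp_id]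
      rfl
    rw [← AddCommGrpCat.mono_iff_injective, h3]
    infer_instance

section

variable {X Z U : Scheme.{u}} (i : Z ⟶ X) [IsClosedImmersion i] (j : U ⟶ X) [IsOpenImmersion j]
  (hZU : Set.range j.base = (Set.range i.base)ᶜ)

include hZU in
/-- every geometric point of `X` factors through `Z` or through `U` -/
theorem exists_factor {Ω : Type u} [Field Ω] [IsSepClosed Ω] (ξ : Spec (CommRingCat.of Ω) ⟶ X) :
    (∃ ζ : Spec (CommRingCat.of Ω) ⟶ Z, ζ ≫ i = ξ) ∨
      (∃ ξ' : Spec (CommRingCat.of Ω) ⟶ U, ξ' ≫ j = ξ) := by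
  by_cases hξ : ξ.base (default : Spec (CommRingCat.of Ω)) ∈ Set.range i.base
  · exact Or.inl (exists_factor_of_mem_range i ξ hξ)
  · have hr : Set.range ξ.base ⊆ Set.range j.base := by
      rw [hZU]
      rintro _ ⟨a, rfl⟩ hmem
      rw [Subsingleton.elim a (default : Spec (CommRingCat.of Ω))] at hmem
      exact hξ hmem
    exact Or.inr ⟨IsOpenImmersion.lift j ξ hr, IsOpenImmersion.lift_fac _ _ _⟩

theorem isIso_stalk_of_isIso_pull {X' X : Scheme.{u}} (f : X' ⟶ X) {F G : EtCoh.Ab X}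
    (φ : F ⟶ G) (h : IsIso ((EtCoh.pull f).map φ))
    {Ω : Type u} [Field Ω] [IsSepClosed Ω] (ζ : Spec (CommRingCat.of Ω) ⟶ X') :
    IsIso ((EtCoh.stalk (ζ ≫ f)).map φ) := by
  haveI : (EtCoh.push f).IsRightAdjoint := (EtCoh.pullPushAdj f).isRightAdjoint
  have h1 := stalk_map_eq f ζ AddCommGrpCat.{u + 1} φ
  haveI := h
  change IsIso ((Scheme.pointSmallEtale (ζ ≫ f)).sheafFiber.map φ)
  rw [h1]
  infer_instance

theorem stalk_map_eq_of_pull_eq {X' X : Scheme.{u}} (f : X' ⟶ X) {F G : EtCoh.Ab X}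
    (φ ψ : F ⟶ G) (h : (EtCoh.pull f).map φ = (EtCoh.pull f).map ψ)
    {Ω : Type u} [Field Ω] [IsSepClosed Ω] (ζ : Spec (CommRingCat.of Ω) ⟶ X') :
    (EtCoh.stalk (ζ ≫ f)).map φ = (EtCoh.stalk (ζ ≫ f)).map ψ := by
  haveI : (EtCoh.push f).IsRightAdjoint := (EtCoh.pullPushAdj f).isRightAdjoint
  have h1 := stalk_map_eq f ζ AddCommGrpCat.{u + 1} φ
  have h2 := stalk_map_eq f ζ AddCommGrpCat.{u + 1} ψ
  change (Scheme.pointSmallEtale (ζ ≫ f)).sheafFiber.map φ =
    (Scheme.pointSmallEtale (ζ ≫ f)).sheafFiber.map ψ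
  rw [h1, h2]
  exact congrArg (fun t => (stalkPullIso f ζ AddCommGrpCat.{u + 1}).inv.app F ≫
    (Scheme.pointSmallEtale ζ).sheafFiber.map t ≫
    (stalkPullIso f ζ AddCommGrpCat.{u + 1}).hom.app G) h

include hZU in
theorem isIso_of_pull {F G : EtCoh.Ab X} (φ : F ⟶ G) (hi : IsIso ((EtCoh.pull i).map φ))
    (hj : IsIso ((EtCoh.pull j).map φ)) : IsIso φ := by
  have hb : ∀ (Ω : Type u) [Field Ω] [IsSepClosed Ω] (ξ : Spec (CommRingCat.of Ω) ⟶ X),
      Function.Bijective ((EtCoh.stalk ξ).map φ) := by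
    intro Ω _ _ ξ
    rcases exists_factor i j hZU ξ with ⟨ζ, rfl⟩ | ⟨ξ', rfl⟩
    · haveI := isIso_stalk_of_isIso_pull i φ hi ζ
      exact ConcreteCategory.bijective_of_isIso _
    · haveI := isIso_stalk_of_isIso_pull j φ hj ξ'
      exact ConcreteCategory.bijective_of_isIso _
  haveI : Mono φ := (mono_iff_stalks _).2 (fun Ω _ _ ξ => (hb Ω ξ).1)
  haveI : Epi φ := (epi_iff_stalks _).2 (fun Ω _ _ ξ => (hb Ω ξ).2)
  exact isIso_of_mono_of_epi _

include hZU in
theorem eq_of_pull {F G : EtCoh.Ab X} (φ ψ : F ⟶ G)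
    (hi : (EtCoh.pull i).map φ = (EtCoh.pull i).map ψ)
    (hj : (EtCoh.pull j).map φ = (EtCoh.pull j).map ψ) : φ = ψ := by
  haveI := preservesFilteredColimits_forget.{u}
  apply Sheaf.hom_ext
  apply eq_of_enough φ.hom ψ.hom
  · apply Presieve.IsSheaf.isSeparated
    rw [← isSheaf_iff_isSheaf_of_type]
    exact ((sheafCompose X.smallEtaleTopology (forget AddCommGrpCat.{u + 1})).obj G).2
  · intro V x
    obtain ⟨Ω, i1, i2, ξ, y, hy⟩ := exists_geom_point V x
    refine ⟨Ω, i1, i2, ξ, y, hy, ?_⟩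
    have key : (EtCoh.stalk ξ).map φ = (EtCoh.stalk ξ).map ψ := by
      rcases exists_factor i j hZU ξ with ⟨ζ, rfl⟩ | ⟨ξ', rfl⟩
      · exact stalk_map_eq_of_pull_eq i φ ψ hi ζ
      · exact stalk_map_eq_of_pull_eq j φ ψ hj ξ'
    intro p
    exact ConcreteCategory.congr_hom key p

include hZU in
theorem main14449 : (EtCore.recollTriple i j).IsEquivalence := by
  haveI := preservesFiniteLimits_pull i
  haveI := preservesFiniteLimits_pull j
  haveI : ∀ A, IsIso ((EtCoh.pullPushAdj i).counit.app A) := fun A => isIso_counit i A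
  haveI : ∀ B, IsIso ((EtCoh.pullPushAdj j).counit.app B) := fun B => isIso_counit_open j B
  have hz : ∀ {A A' : EtCoh.Ab Z} (c : A ⟶ A'),
      IsIso ((EtCoh.pull j).map ((EtCoh.push i).map c)) := by
    intro A A' c
    have h1 := isZero_pull_push i j hZU A
    have h2 := isZero_pull_push i j hZU A'
    exact ⟨⟨0, h1.eq_of_src _ _, h2.eq_of_src _ _⟩⟩
  change (triple (EtCoh.pull i) (EtCoh.pullPushAdj j)).IsEquivalence
  exact isEquivalence_triple (EtCoh.pullPushAdj i) (EtCoh.pullPushAdj j) hz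
    (fun φ hi hj => isIso_of_pull i j hZU φ hi hj)
    (fun φ ψ hi hj => eq_of_pull i j hZU φ ψ hi hj)

end

end Groth.Agent.Helper1.RC
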