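import Mathlib
import Groth.Prelude.Def_EtCech
import Groth.Agent.Lib.Helper1.CE2
import Groth.Agent.Lib.Helper1.RC2

/-!
# Čech cohomology of the pushforward of an injective étale sheaf vanishes (S0667)
-/

universe u
set_option linter.unusedSectionVars false
open CategoryTheory CategoryTheory.Limits Opposite AlgebraicGeometry

namespace Groth.Agent.Helper1.CE

theorem main0667 {X Y : Scheme.{u}} (f : X ⟶ Y) (I : EtCoh.Ab X) [Injective I]
    (V : Y.Etale) [HasFiniteProducts (Over V)] {κ : Type (u + 1)} (Vf : κ → Over V) (p : ℕ) :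
    IsZero (EtCech.cechH Vf ((EtCoh.push f).obj I).obj (p + 1)) := by
  haveI := Groth.Agent.Helper1.RC.preservesFiniteLimits_pull f
  haveI : Injective ((EtCoh.push f).obj I) :=
    Injective.injective_of_adjoint (EtCoh.pullPushAdj f) I
  haveI : Injective ((EtCoh.push f).obj I).obj :=
    Injective.injective_of_adjoint
      (sheafificationAdjunction Y.smallEtaleTopology AddCommGrpCat.{u + 1}) ((EtCoh.push f).obj I)
  exact isZero_cechH_of_injective Vf _ p

end Groth.Agent.Helper1.CE
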