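import Mathlib
import Groth.Prelude.Def_EtCech
import Groth.Prelude.Def_DeltaF
import Groth.Prelude.Def_RDerDelta
import Groth.Agent.Lib.Helper1.CE2
import Groth.Agent.Lib.Helper24.Horseshoe3
import Groth.Agent.S6773

/-!
# Čech cohomology of presheaves as a universal δ-functor (S0666)

Universe-general (locally small) adaptation of helper24's `CechDelta`.
-/

universe w v u' v' u'' v''
set_option linter.unusedSectionVars false
open CategoryTheory CategoryTheory.Limits Opposite

namespace Groth.Agent.Helper1.CE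

section PiExact

variable {I : Type w} {A B D : I → AddCommGrpCat.{w}}

lemma pi_map_apply (f : ∀ i, A i ⟶ B i) (x : (∏ᶜ A : AddCommGrpCat.{w})) (i : I) :
    (Pi.π B i).hom ((Limits.Pi.map f).hom x) = (f i).hom ((Pi.π A i).hom x) := by
  have := congrArg (fun m => m.hom x) (Limits.Pi.map_π f i)
  exact this

lemma pi_ext (x y : (∏ᶜ A : AddCommGrpCat.{w})) (h : ∀ i, (Pi.π A i).hom x = (Pi.π A i).hom y) :
    x = y := by
  apply (Concrete.productEquiv A).injective
  funext i
  exact ((Concrete.productEquiv_apply_apply _ _ _).trans (h i)).trans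
    (Concrete.productEquiv_apply_apply _ _ _).symm

lemma pi_shortExact (f : ∀ i, A i ⟶ B i) (g : ∀ i, B i ⟶ D i)
    (w : ∀ i, f i ≫ g i = 0) (h : ∀ i, (ShortComplex.mk (f i) (g i) (w i)).ShortExact) :
    (ShortComplex.mk (Limits.Pi.map f) (Limits.Pi.map g) (by
      apply Limits.Pi.hom_ext; intro i; simp [w i])).ShortExact := by
  have hmono : ∀ i, Function.Injective (f i).hom := fun i =>
    (AddCommGrpCat.mono_iff_injective _).1 (h i).mono_f
  have hepi : ∀ i, Function.Surjective (g i).hom := fun i =>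
    (AddCommGrpCat.epi_iff_surjective _).1 (h i).epi_g
  have hex : ∀ i (x : B i), (g i).hom x = 0 → ∃ y, (f i).hom y = x := fun i =>
    (ShortComplex.ab_exact_iff _).1 (h i).exact
  refine ShortComplex.ShortExact.mk' ?_ ?_ ?_
  · rw [ShortComplex.ab_exact_iff]
    intro x hx
    have : ∀ i, ∃ y, (f i).hom y = (Pi.π B i).hom x := fun i => by
      apply hex
      have := congrArg (Pi.π D i).hom hx
      rw [map_zero] at this
      rw [← this]
      exact (pi_map_apply g x i).symm
    choose y hy using this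
    refine ⟨(Concrete.productEquiv A).symm y, ?_⟩
    apply pi_ext
    intro i
    refine (pi_map_apply f _ i).trans ?_
    rw [Concrete.productEquiv_symm_apply_π, hy]
  · rw [AddCommGrpCat.mono_iff_injective]
    intro x y hxy
    apply pi_ext
    intro i
    apply hmono
    rw [← pi_map_apply, ← pi_map_apply]
    exact congrArg _ hxy
  · rw [AddCommGrpCat.epi_iff_surjective]
    intro x
    have : ∀ i, ∃ y, (g i).hom y = (Pi.π D i).hom x := fun i => hepi i _
    choose y hy using this
    refine ⟨(Concrete.productEquiv B).symm y, ?_⟩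
    apply pi_ext
    intro i
    refine (pi_map_apply g _ i).trans ?_
    rw [Concrete.productEquiv_symm_apply_π, hy]

end PiExact

section Generic
variable {A : Type u'} [Category.{v'} A] [Abelian A] {B : Type u''} [Category.{v''} B] [Abelian B]

open DeltaF DeltaF.CohDeltaFunctor

/-- copy of helper24's `SieveCech.iso_of_universal` -/
lemma iso_of_universal (T T' : CohDeltaFunctor A B ℕ) (hT : T.IsUniversal) (hT' : T'.IsUniversal)
    (e0 : T.F 0 ≅ T'.F 0) (n : ℕ) : Nonempty (T.F n ≅ T'.F n) := by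
  obtain ⟨τ, hτ, -⟩ := hT T' e0.hom
  obtain ⟨σ, hσ, -⟩ := hT' T e0.inv
  have h1 : τ ≫ σ = 𝟙 T := by
    obtain ⟨ρ, -, hρ⟩ := hT T (𝟙 _)
    rw [hρ (τ ≫ σ) (by show (τ ≫ σ).app 0 = _; rw [comp_app, hτ, hσ, Iso.hom_inv_id]),
      hρ (𝟙 T) (by show (𝟙 T : T ⟶ T).app 0 = _; rw [id_app])]
  have h2 : σ ≫ τ = 𝟙 T' := by
    obtain ⟨ρ, -, hρ⟩ := hT' T' (𝟙 _)
    rw [hρ (σ ≫ τ) (by show (σ ≫ τ).app 0 = _; rw [comp_app, hτ, hσ, Iso.inv_hom_id]),
      hρ (𝟙 T') (by show (𝟙 T' : T' ⟶ T').app 0 = _; rw [id_app])]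
  exact ⟨⟨τ.app n, σ.app n, by rw [← comp_app, h1, id_app], by rw [← comp_app, h2, id_app]⟩⟩

set_option backward.isDefEq.respectTransparency false in
lemma enoughInjectives_of_hasInjectiveResolutions [HasInjectiveResolutions A] :
    EnoughInjectives A :=
  ⟨fun X => by
    obtain ⟨I⟩ := (HasInjectiveResolutions.out X : HasInjectiveResolution X).out
    exact ⟨{ J := I.cocomplex.X 0, injective := I.injective 0, f := I.ι.f 0,
             mono := inferInstance }⟩⟩

end Generic

section Delta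

variable {C : Type w} [Category.{v} C] [LocallySmall.{w} C] {U : C} [HasFiniteProducts (Over U)]
  {ι : Type w} (Y : ι → Over U)

/-- the Čech complex functor on presheaves -/
noncomputable abbrev cxF : (Cᵒᵖ ⥤ AddCommGrpCat.{w}) ⥤ CochainComplex AddCommGrpCat.{w} ℕ :=
  (Functor.whiskeringLeft (Over U)ᵒᵖ Cᵒᵖ AddCommGrpCat.{w}).obj (Over.forget U).op ⋙
    cechComplexFunctor Y

lemma cxF_map_f {P Q : Cᵒᵖ ⥤ AddCommGrpCat.{w}} (φ : P ⟶ Q) (n : ℕ) :
    ((cxF Y).map φ).f n =
      (Limits.Pi.map (fun a : Fin (n+1) → ι => φ.app (op (∏ᶜ (Y ∘ a)).left)) :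
        ((cxF Y).obj P).X n ⟶ ((cxF Y).obj Q).X n) := rfl

instance additive_cxF : (cxF (C := C) Y).Additive where
  map_add {P Q φ ψ} := by
    apply HomologicalComplex.hom_ext
    intro n
    rw [HomologicalComplex.add_f_apply, cxF_map_f, cxF_map_f, cxF_map_f]
    apply Limits.Pi.hom_ext
    intro a
    erw [Preadditive.add_comp, Limits.Pi.map_π, Limits.Pi.map_π, Limits.Pi.map_π]
    rw [NatTrans.app_add]
    exact Preadditive.comp_add _ _ _ _ _ _

lemma shortExact_map (S : ShortComplex (Cᵒᵖ ⥤ AddCommGrpCat.{w})) (hS : S.ShortExact) :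
    (S.map (cxF Y)).ShortExact := by
  apply HomologicalComplex.shortExact_of_degreewise_shortExact
  intro n
  have := pi_shortExact (I := Fin (n+1) → ι)
    (fun a => S.f.app (op (∏ᶜ (Y ∘ a)).left)) (fun a => S.g.app (op (∏ᶜ (Y ∘ a)).left))
    (fun a => by rw [← NatTrans.comp_app, S.zero]; rfl)
    (fun a => hS.map_of_exact ((evaluation _ _).obj (op (∏ᶜ (Y ∘ a)).left)))
  exact this

instance additive_cechHF (n : ℕ) : (cechHF Y n).Additive := by
  show (cxF Y ⋙ HomologicalComplex.homologyFunctor _ _ n).Additive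
  infer_instance

/-- Čech cohomology as a cohomological δ-functor on presheaves. -/
noncomputable def TC : DeltaF.CohDeltaFunctor (Cᵒᵖ ⥤ AddCommGrpCat.{w}) AddCommGrpCat.{w} ℕ where
  F n := cechHF Y n
  additive n := additive_cechHF Y n
  δ S hS n₀ n₁ h := (shortExact_map Y S hS).δ n₀ n₁ h
  δ_natural {S S'} hS hS' φ n₀ n₁ h :=
    (HomologicalComplex.HomologySequence.δ_naturality
      ((cxF Y).mapShortComplex.map φ) (shortExact_map Y S hS)
      (shortExact_map Y S' hS') n₀ n₁ h).symm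
  exact₂ S hS n := (shortExact_map Y S hS).homology_exact₂ n
  comp_δ S hS n₀ n₁ h := (shortExact_map Y S hS).comp_δ n₀ n₁ h
  exact₃ S hS n₀ n₁ h := (shortExact_map Y S hS).homology_exact₃ n₀ n₁ h
  δ_comp S hS n₀ n₁ h := (shortExact_map Y S hS).δ_comp n₀ n₁ h
  exact₁ S hS n₀ n₁ h := (shortExact_map Y S hS).homology_exact₁ n₀ n₁ h

lemma TC_effaceable : (TC Y).IsEffaceable := fun n P =>
  ⟨Eff P, toEff P, inferInstance, (isZero_homology Y P n).eq_of_tgt _ _⟩

lemma mono_homologyMap_zero {K L : CochainComplex AddCommGrpCat.{w} ℕ} (φ : K ⟶ L)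
    [Mono (φ.f 0)] : Mono (HomologicalComplex.homologyMap φ 0) := by
  haveI h1 : Mono (HomologicalComplex.cyclesMap φ 0) := by
    haveI : Mono (HomologicalComplex.cyclesMap φ 0 ≫ L.iCycles 0) := by
      rw [HomologicalComplex.cyclesMap_i]
      infer_instance
    exact mono_of_mono _ (L.iCycles 0)
  have h2 := HomologicalComplex.homologyπ_naturality φ 0
  have h3 : HomologicalComplex.homologyMap φ 0 =
      inv (K.homologyπ 0) ≫ HomologicalComplex.cyclesMap φ 0 ≫ L.homologyπ 0 := by
    rw [← h2, IsIso.inv_hom_id_assoc]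
  rw [h3]
  infer_instance

lemma preservesFiniteLimits_cechHF_zero : PreservesFiniteLimits (cechHF Y 0) := by
  rw [Functor.preservesFiniteLimits_iff_forall_exact_map_and_mono]
  intro S hS
  refine ⟨(TC Y).exact₂ S hS 0, ?_⟩
  haveI : Mono (((cxF Y).map S.f).f 0) :=
    ((shortExact_map Y S hS).map_of_exact (HomologicalComplex.eval _ _ 0)).mono_f
  exact mono_homologyMap_zero ((cxF Y).map S.f)

theorem main0666 [(cechHF Y 0).Additive] [HasInjectiveResolutions (Cᵒᵖ ⥤ AddCommGrpCat.{w})]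
    (p : ℕ) : Nonempty (cechHF Y p ≅ (cechHF Y 0).rightDerived p) := by
  haveI : EnoughInjectives (Cᵒᵖ ⥤ AddCommGrpCat.{w}) :=
    enoughInjectives_of_hasInjectiveResolutions
  let Δ : RDer.DerivedLES (cechHF Y 0) := Groth.Agent.Helper24.Horseshoe.derivedLES (cechHF Y 0)
  have hTR : Δ.toCohDeltaFunctor.IsEffaceable := fun n X => by
    obtain ⟨pr⟩ := EnoughInjectives.presentation X
    haveI := pr.injective
    exact ⟨pr.J, pr.f, pr.mono,
      ((cechHF Y 0).isZero_rightDerived_obj_injective_succ n pr.J).eq_of_tgt _ _⟩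
  haveI := preservesFiniteLimits_cechHF_zero Y
  have e0 : (TC Y).F 0 ≅ Δ.toCohDeltaFunctor.F 0 := ((cechHF Y 0).rightDerivedZeroIsoSelf).symm
  exact iso_of_universal (TC Y) Δ.toCohDeltaFunctor (Groth.Agent.S6773.result _ (TC_effaceable Y))
    (Groth.Agent.S6773.result _ hTR) e0 p

end Delta

end Groth.Agent.Helper1.CE
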