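import Mathlib
import Groth.Prelude.Def_EtCech
import Groth.Agent.Lib.Helper1.CE4

/-!
# Elementwise tools for Čech cochains (helper1, CH1)
-/

universe w v u
set_option linter.unusedSectionVars false
set_option autoImplicit false
open CategoryTheory CategoryTheory.Limits Opposite

namespace Groth.Agent.Helper1.CE

section General
variable {D : Type u} [Category.{v} D] [HasFiniteProducts D] {ι : Type w} (Y : ι → D)
  (Q : Dᵒᵖ ⥤ AddCommGrpCat.{w})

/-- build a cochain from its components -/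
noncomputable def mkC {n : ℕ} (a : ∀ b : Fin (n+1) → ι, Q.obj (op (∏ᶜ (Y ∘ b)))) :
    (cech Y Q).X n :=
  (Concrete.productEquiv (fun b : Fin (n+1) → ι => Q.obj (op (∏ᶜ (Y ∘ b))))).symm a

lemma π_mkC {n : ℕ} (a : ∀ b : Fin (n+1) → ι, Q.obj (op (∏ᶜ (Y ∘ b)))) (b : Fin (n+1) → ι) :
    (Pi.π (fun b : Fin (n+1) → ι => Q.obj (op (∏ᶜ (Y ∘ b)))) b).hom (mkC Y Q a) = a b :=
  Concrete.productEquiv_symm_apply_π _ _ _

lemma ev_apply {n : ℕ} (T : D) (σ : Fin (n+1) → Sg Y T) (x : (cech Y Q).X n) :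
    (ev Y Q T σ).hom x =
      (Q.map (Pi.lift (fun k => (σ k).2) : T ⟶ ∏ᶜ (Y ∘ fun k => (σ k).1)).op).hom
        ((Pi.π (fun b : Fin (n+1) → ι => Q.obj (op (∏ᶜ (Y ∘ b)))) (fun k => (σ k).1)).hom x) :=
  rfl

lemma ev_mkC {n : ℕ} (a : ∀ b : Fin (n+1) → ι, Q.obj (op (∏ᶜ (Y ∘ b)))) (T : D)
    (σ : Fin (n+1) → Sg Y T) :
    (ev Y Q T σ).hom (mkC Y Q a) =
      (Q.map (Pi.lift (fun k => (σ k).2) : T ⟶ ∏ᶜ (Y ∘ fun k => (σ k).1)).op).hom
        (a (fun k => (σ k).1)) := by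
  rw [ev_apply, π_mkC]

lemma π_eq_ev {n : ℕ} (b : Fin (n+1) → ι) (x : (cech Y Q).X n) :
    (Pi.π (fun b : Fin (n+1) → ι => Q.obj (op (∏ᶜ (Y ∘ b)))) b).hom x =
      (ev Y Q (∏ᶜ (Y ∘ b)) (tautσ Y b)).hom x :=
  (congrArg (fun m => m.hom x) (ev_taut Y Q b)).symm

variable {Q}

lemma map_f_π {Q' : Dᵒᵖ ⥤ AddCommGrpCat.{w}} (φ : Q ⟶ Q') {n : ℕ} (b : Fin (n+1) → ι)
    (x : (cech Y Q).X n) :
    (Pi.π (fun b : Fin (n+1) → ι => Q'.obj (op (∏ᶜ (Y ∘ b)))) b).hom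
        ((((cechComplexFunctor Y).map φ).f n).hom x) =
      (φ.app (op (∏ᶜ (Y ∘ b)))).hom
        ((Pi.π (fun b : Fin (n+1) → ι => Q.obj (op (∏ᶜ (Y ∘ b)))) b).hom x) :=
  pi_map_apply (fun a : Fin (n+1) → ι => φ.app (op (∏ᶜ (Y ∘ a)))) x b

/-- cochains inject if the presheaf map is injective objectwise -/
lemma map_f_injective {Q' : Dᵒᵖ ⥤ AddCommGrpCat.{w}} (φ : Q ⟶ Q')
    (h : ∀ T : D, Function.Injective (φ.app (op T)).hom) (n : ℕ) :
    Function.Injective (((cechComplexFunctor Y).map φ).f n).hom := by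
  intro x y hxy
  refine pi_ext (A := fun b : Fin (n+1) → ι => Q.obj (op (∏ᶜ (Y ∘ b)))) _ _ (fun b => ?_)
  apply h
  exact (map_f_π Y φ b x).symm.trans ((congrArg _ hxy).trans (map_f_π Y φ b y))

/-- componentwise lifting of cochains along an objectwise exact pair -/
lemma exists_map_f_eq {Q' Q'' : Dᵒᵖ ⥤ AddCommGrpCat.{w}} (φ : Q ⟶ Q') (ψ : Q' ⟶ Q'')
    (h : ∀ (T : D) (z : Q'.obj (op T)), (ψ.app (op T)).hom z = 0 →
      ∃ x : Q.obj (op T), (φ.app (op T)).hom x = z) (n : ℕ)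
    (y : (cech Y Q').X n) (hy : (((cechComplexFunctor Y).map ψ).f n).hom y = 0) :
    ∃ c : (cech Y Q).X n, (((cechComplexFunctor Y).map φ).f n).hom c = y := by
  have : ∀ b : Fin (n+1) → ι, ∃ x : Q.obj (op (∏ᶜ (Y ∘ b))),
      (φ.app (op (∏ᶜ (Y ∘ b)))).hom x =
        (Pi.π (fun b : Fin (n+1) → ι => Q'.obj (op (∏ᶜ (Y ∘ b)))) b).hom y := by
    intro b
    apply h
    exact (map_f_π Y ψ b y).symm.trans ((congrArg _ hy).trans (map_zero _))
  choose x hx using this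
  refine ⟨mkC Y Q x, ?_⟩
  refine pi_ext (A := fun b : Fin (n+1) → ι => Q'.obj (op (∏ᶜ (Y ∘ b)))) _ _ (fun b => ?_)
  exact (map_f_π Y φ b _).trans ((congrArg _ (π_mkC Y Q x b)).trans (hx b))

lemma d_map_f {Q' : Dᵒᵖ ⥤ AddCommGrpCat.{w}} (φ : Q ⟶ Q') (n : ℕ) (x : (cech Y Q).X n) :
    ((cech Y Q').d n (n+1)).hom ((((cechComplexFunctor Y).map φ).f n).hom x) =
      (((cechComplexFunctor Y).map φ).f (n+1)).hom (((cech Y Q).d n (n+1)).hom x) := by
  have := congrArg (fun m => m.hom x) (((cechComplexFunctor Y).map φ).comm n (n+1))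
  simp only [AddCommGrpCat.hom_comp, AddMonoidHom.comp_apply] at this
  exact this

lemma d_d_apply (n : ℕ) (x : (cech Y Q).X n) :
    ((cech Y Q).d (n+1) (n+2)).hom (((cech Y Q).d n (n+1)).hom x) = 0 := by
  have := congrArg (fun m => m.hom x) ((cech Y Q).d_comp_d n (n+1) (n+2))
  exact this

lemma map_ev_apply {Q' : Dᵒᵖ ⥤ AddCommGrpCat.{w}} (φ : Q ⟶ Q') {n : ℕ} (T : D)
    (σ : Fin (n+1) → Sg Y T) (x : (cech Y Q).X n) :
    (ev Y Q' T σ).hom ((((cechComplexFunctor Y).map φ).f n).hom x) =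
      (φ.app (op T)).hom ((ev Y Q T σ).hom x) := by
  have := congrArg (fun m => m.hom x) (map_ev Y φ T σ)
  exact this

variable (Q)

lemma ev_map_apply {n : ℕ} {T T' : D} (m : T' ⟶ T) (σ : Fin (n+1) → Sg Y T)
    (x : (cech Y Q).X n) :
    (Q.map m.op).hom ((ev Y Q T σ).hom x) = (ev Y Q T' (pullσ Y m σ)).hom x := by
  have := congrArg (fun m => m.hom x) (ev_map Y Q m σ)
  exact this

/-- `d` in degree zero, evaluated -/
lemma d_zero_ev_apply (T : D) (σ : Fin 2 → Sg Y T) (x : (cech Y Q).X 0) :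
    (ev Y Q T σ).hom (((cech Y Q).d 0 1).hom x) =
      (ev Y Q T (fun _ => σ 1)).hom x - (ev Y Q T (fun _ => σ 0)).hom x := by
  have h := congrArg (fun m => m.hom x) (d_ev Y Q T σ)
  simp only [AddCommGrpCat.hom_comp, AddMonoidHom.comp_apply] at h
  refine h.trans ?_
  rw [Fin.sum_univ_two]
  simp only [Fin.val_zero, pow_zero, one_smul, Fin.val_one, pow_one, neg_smul,
    AddCommGrpCat.hom_add, AddCommGrpCat.hom_neg, AddMonoidHom.add_apply,
    AddMonoidHom.neg_apply]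
  have e0 : (σ ∘ (SimplexCategory.δ (0 : Fin 2)).toOrderHom) = fun _ => σ 1 := by
    funext k
    fin_cases k
    rfl
  have e1 : (σ ∘ (SimplexCategory.δ (1 : Fin 2)).toOrderHom) = fun _ => σ 0 := by
    funext k
    fin_cases k
    rfl
  rw [e0, e1, sub_eq_add_neg]

end General

end Groth.Agent.Helper1.CE
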