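import Mathlib
import Groth.Prelude.Def_EtCore
import Groth.Prelude.Def_PBC
import Groth.Prelude.Def_EtShriek2
import Groth.Agent.Lib.Helper1.SHC9

/-!
# Supports of sections of étale sheaves (helper1)
-/

set_option autoImplicit false
set_option linter.unusedSectionVars false
set_option linter.style.haveILetI false

open CategoryTheory CategoryTheory.Limits AlgebraicGeometry Opposite

namespace Groth.Agent.Helper1.SHC

universe u

theorem isClosed_sectSupp {S : Scheme.{u}} (F : EtCoh.Ab S) (U : S.Etale) (σ : EtCoh.sect F U) :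
    IsClosed (EtShriek.sectSupp F U σ) := by
  have h : EtShriek.sectSupp F U σ =
      (⋃ (V : S.Etale) (φ : V ⟶ U) (_ : F.obj.map φ.op σ = 0), Set.range φ.left.base)ᶜ := by
    ext x
    constructor
    · intro h hx
      obtain ⟨V, hV⟩ := Set.mem_iUnion.1 hx
      obtain ⟨φ, h0, hw⟩ := Set.mem_iUnion₂.1 hV
      exact h V φ hw h0
    · intro h V φ hw h0
      exact h (Set.mem_iUnion.2 ⟨V, Set.mem_iUnion₂.2 ⟨φ, h0, hw⟩⟩)
  rw [h]
  apply IsOpen.isClosed_compl
  apply isOpen_iUnion; intro V; apply isOpen_iUnion; intro φ; apply isOpen_iUnion; intro _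
  exact φ.left.isOpenMap.isOpen_range

theorem supp_eq_union {S : Scheme.{u}} (F : EtCoh.Ab S) :
    EtPBC.supp F =
      ⋃ (U : S.Etale) (σ : EtCoh.sect F U), U.hom.base '' EtShriek.sectSupp F U σ := by
  haveI := preservesFilteredColimits_forget.{u}
  ext x
  constructor
  · rintro ⟨Ω, _, _, ξ, hξ, hnz⟩
    have hp : ∃ p : ToType ((Scheme.pointSmallEtale ξ).presheafFiber.obj F.obj), p ≠ 0 := by
      by_contra hcon
      push_neg at hcon
      apply hnz
      haveI : Subsingleton (ToType ((Scheme.pointSmallEtale ξ).presheafFiber.obj F.obj)) :=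
        ⟨fun a b => (hcon a).trans (hcon b).symm⟩
      exact AddCommGrpCat.isZero_of_subsingleton
        ((Scheme.pointSmallEtale ξ).presheafFiber.obj F.obj)
    obtain ⟨p, hp⟩ := hp
    obtain ⟨U, y, σ, rfl⟩ := (Scheme.pointSmallEtale ξ).toPresheafFiber_jointly_surjective p
    let yl : Spec (CommRingCat.of Ω) ⟶ U.left := y.left
    have hy : yl ≫ U.hom = ξ := Over.w y
    have hξx : ξ.base (default : Spec (CommRingCat.of Ω)) = x := by
      have h1 : ξ.base (default : Spec (CommRingCat.of Ω)) ∈ Set.range ξ := ⟨default, rfl⟩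
      rw [hξ] at h1
      exact h1
    refine Set.mem_iUnion₂.2 ⟨U, σ, yl.base (default : Spec (CommRingCat.of Ω)), ?_, ?_⟩
    · intro W g ⟨w, hw⟩ h0
      obtain ⟨l, hl, -⟩ := Scheme.exists_fac_of_etale_of_isSepClosed g.left yl w hw
      have hl' : l ≫ W.hom = ξ := by
        have e1 : g.left ≫ U.hom = W.hom := Over.w g.hom
        rw [← e1, ← Category.assoc, hl, hy]
      let y' : (Scheme.pointSmallEtale ξ).fiber.obj W :=
        (Over.homMk l hl' : Over.mk ξ ⟶ (Scheme.Etale.forget S).obj W)
      have hy' : (Scheme.pointSmallEtale ξ).fiber.map g y' = y := by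
        apply Over.OverMorphism.ext
        exact hl
      have e := (Scheme.pointSmallEtale ξ).toPresheafFiber_w_apply g y' F.obj σ
      rw [hy', h0, map_zero] at e
      exact hp e.symm
    · have h2 := congrArg (fun φ : Spec (CommRingCat.of Ω) ⟶ S =>
          φ.base (default : Spec (CommRingCat.of Ω))) hy
      exact h2.trans hξx
  · intro hx
    obtain ⟨U, hU⟩ := Set.mem_iUnion.1 hx
    obtain ⟨σ, hσ⟩ := Set.mem_iUnion.1 hU
    obtain ⟨u, hu, rfl⟩ := hσ
    obtain ⟨Ω, i1, i2, ξ, y, hy⟩ := exists_geom_point U u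
    let yl : Spec (CommRingCat.of Ω) ⟶ U.left := y.left
    have hyξ : yl ≫ U.hom = ξ := Over.w y
    have hξu : ξ.base (default : Spec (CommRingCat.of Ω)) = U.hom.base u := by
      have h2 := congrArg (fun φ : Spec (CommRingCat.of Ω) ⟶ S =>
          φ.base (default : Spec (CommRingCat.of Ω))) hyξ
      exact h2.symm.trans (congrArg U.hom.base hy)
    refine ⟨Ω, i1, i2, ξ, ?_, ?_⟩
    · ext z
      constructor
      · rintro ⟨a, rfl⟩
        rw [Subsingleton.elim a (default : Spec (CommRingCat.of Ω))]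
        exact hξu
      · intro hz
        rw [Set.mem_singleton_iff] at hz
        exact ⟨default, hξu.trans hz.symm⟩
    · intro hz
      haveI : Subsingleton (ToType ((Scheme.pointSmallEtale ξ).presheafFiber.obj F.obj)) :=
        AddCommGrpCat.subsingleton_of_isZero hz
      have h1 : (Scheme.pointSmallEtale ξ).toPresheafFiber U y F.obj σ =
          (Scheme.pointSmallEtale ξ).toPresheafFiber U y F.obj 0 := Subsingleton.elim _ _
      obtain ⟨V, g, v, hv, hg⟩ :=
        ((Scheme.pointSmallEtale ξ).toPresheafFiber_eq_iff' _ y _ _).1 h1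
      refine hu V g ⟨(v.left : Spec (CommRingCat.of Ω) ⟶ V.left).base
        (default : Spec (CommRingCat.of Ω)), ?_⟩ (hg.trans (map_zero _))
      rw [← hy, ← hv]
      rfl

end Groth.Agent.Helper1.SHC
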