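import Mathlib
import Groth.Prelude.Def_EtShriek2
import Groth.Agent.Lib.Helper1.SHC18

/-!
# Supports of sections of étale sheaves: basic calculus (helper1, ES1)
-/

set_option autoImplicit false
set_option linter.unusedSectionVars false
set_option linter.style.haveILetI false

open CategoryTheory CategoryTheory.Limits AlgebraicGeometry Opposite

namespace Groth.Agent.Helper1.ES

universe u

variable {X : Scheme.{u}}

/-- fibre products in the small étale site, with a point -/
theorem exists_pullback_obj {U V V₁ : X.Etale} (φ : V ⟶ U) (φ₁ : V₁ ⟶ U) (x : V.left)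
    (v₁ : V₁.left) (h : φ.left.base x = φ₁.left.base v₁) :
    ∃ (V' : X.Etale) (k : V' ⟶ V) (k₁ : V' ⟶ V₁) (z : V'.left),
      k ≫ φ = k₁ ≫ φ₁ ∧ k.left.base z = x ∧ k₁.left.base z = v₁ := by
  obtain ⟨z, hz1, hz2⟩ := Scheme.Pullback.exists_preimage_pullback (f := φ.left) (g := φ₁.left)
    x v₁ h
  let V' : X.Etale := Scheme.Etale.mk (pullback.fst φ.left φ₁.left ≫ V.hom)
  let k : V' ⟶ V := MorphismProperty.Over.homMk (pullback.fst φ.left φ₁.left) rfl trivial
  have hw : pullback.snd φ.left φ₁.left ≫ V₁.hom = pullback.fst φ.left φ₁.left ≫ V.hom := by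
    have e1 : φ₁.left ≫ U.hom = V₁.hom := Over.w φ₁.hom
    have e2 : φ.left ≫ U.hom = V.hom := Over.w φ.hom
    rw [← e1, ← e2, ← Category.assoc, ← Category.assoc, pullback.condition]
  let k₁ : V' ⟶ V₁ := MorphismProperty.Over.homMk (pullback.snd φ.left φ₁.left) hw trivial
  refine ⟨V', k, k₁, z, ?_, hz1, hz2⟩
  apply MorphismProperty.Over.Hom.ext
  exact pullback.condition

theorem not_mem_sectSupp_iff (F : EtCoh.Ab X) (U : X.Etale) (σ : EtCoh.sect F U) (x : U.left) :
    x ∉ EtShriek.sectSupp F U σ ↔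
      ∃ (W : X.Etale) (g : W ⟶ U), (∃ w : W.left, g.left.base w = x) ∧ F.obj.map g.op σ = 0 := by
  constructor
  · intro h
    by_contra hcon
    apply h
    intro W g hw h0
    exact hcon ⟨W, g, hw, h0⟩
  · rintro ⟨W, g, hw, h0⟩ hx
    exact hx W g hw h0

/-- a restriction of a section vanishes iff its image misses the support -/
theorem map_eq_zero_iff (F : EtCoh.Ab X) {U V : X.Etale} (φ : V ⟶ U) (σ : EtCoh.sect F U) :
    F.obj.map φ.op σ = 0 ↔ ∀ v : V.left, φ.left.base v ∉ EtShriek.sectSupp F U σ := by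
  constructor
  · intro h v hv
    exact hv V φ ⟨v, rfl⟩ h
  · intro h
    apply SHC.eq_of_equalizerSieve_mem F V
    apply SHC.mem_of_pointwise
    intro x
    obtain ⟨V₁, φ₁, ⟨v₁, hv₁⟩, h0⟩ := (not_mem_sectSupp_iff F U σ _).1 (h x)
    obtain ⟨V', k, k₁, z, hk, hz1, -⟩ := exists_pullback_obj φ φ₁ x v₁ hv₁.symm
    refine ⟨V', k, z, ?_, hz1⟩
    change F.obj.map k.op (F.obj.map φ.op σ) = F.obj.map k.op 0
    rw [map_zero, ← ConcreteCategory.comp_apply, ← F.obj.map_comp, ← op_comp, hk, op_comp,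
      F.obj.map_comp, ConcreteCategory.comp_apply, h0, map_zero]

theorem eq_zero_of_sectSupp_eq_empty (F : EtCoh.Ab X) (U : X.Etale) (σ : EtCoh.sect F U)
    (h : EtShriek.sectSupp F U σ = ∅) : σ = 0 := by
  have := (map_eq_zero_iff F (𝟙 U) σ).2 (fun v hv => by rw [h] at hv; exact hv)
  simpa using this

/-- the support commutes with restriction -/
theorem sectSupp_map (F : EtCoh.Ab X) {U U' : X.Etale} (g : U' ⟶ U) (σ : EtCoh.sect F U) :
    EtShriek.sectSupp F U' (F.obj.map g.op σ) = g.left.base ⁻¹' EtShriek.sectSupp F U σ := by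
  ext x'
  constructor
  · intro hx' W k ⟨w, hw⟩ h0
    obtain ⟨V', a, b, z, hab, hz1, -⟩ := exists_pullback_obj g k x' w hw.symm
    apply hx' V' a ⟨z, hz1⟩
    rw [← ConcreteCategory.comp_apply, ← F.obj.map_comp, ← op_comp, hab, op_comp,
      F.obj.map_comp, ConcreteCategory.comp_apply, h0, map_zero]
  · intro hx W k ⟨w, hw⟩ h0
    apply hx W (k ≫ g) ⟨w, ?_⟩
    · rw [op_comp, F.obj.map_comp, ConcreteCategory.comp_apply]
      exact h0
    · change g.left.base (k.left.base w) = g.left.base x'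
      rw [hw]

theorem sectSupp_zero (F : EtCoh.Ab X) (U : X.Etale) :
    EtShriek.sectSupp F U (0 : EtCoh.sect F U) = ∅ := by
  ext x
  simp only [Set.mem_empty_iff_false, iff_false]
  intro hx
  exact hx U (𝟙 U) ⟨x, rfl⟩ (map_zero _)

theorem sectSupp_neg (F : EtCoh.Ab X) (U : X.Etale) (s : EtCoh.sect F U) :
    EtShriek.sectSupp F U (-s) = EtShriek.sectSupp F U s := by
  ext x
  constructor
  · intro hx W g hw h0
    apply hx W g hw
    rw [map_neg, h0, neg_zero]
  · intro hx W g hw h0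
    apply hx W g hw
    rw [map_neg] at h0
    exact neg_eq_zero.mp h0

theorem sectSupp_add_subset (F : EtCoh.Ab X) (U : X.Etale) (s t : EtCoh.sect F U) :
    EtShriek.sectSupp F U (s + t) ⊆ EtShriek.sectSupp F U s ∪ EtShriek.sectSupp F U t := by
  intro x hx
  by_contra hcon
  rw [Set.mem_union, not_or] at hcon
  obtain ⟨hs, ht⟩ := hcon
  obtain ⟨W₁, g₁, ⟨w₁, hw₁⟩, h₁⟩ := (not_mem_sectSupp_iff F U s x).1 hs
  obtain ⟨W₂, g₂, ⟨w₂, hw₂⟩, h₂⟩ := (not_mem_sectSupp_iff F U t x).1 ht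
  obtain ⟨V', a, b, z, hab, hz1, -⟩ := exists_pullback_obj g₁ g₂ w₁ w₂ (hw₁.trans hw₂.symm)
  apply hx V' (a ≫ g₁) ⟨z, ?_⟩
  · rw [map_add]
    have e1 : F.obj.map (a ≫ g₁).op s = 0 := by
      rw [op_comp, F.obj.map_comp, ConcreteCategory.comp_apply, h₁, map_zero]
    have e2 : F.obj.map (a ≫ g₁).op t = 0 := by
      rw [hab, op_comp, F.obj.map_comp, ConcreteCategory.comp_apply, h₂, map_zero]
    rw [e1, e2, add_zero]
  · change g₁.left.base (a.left.base z) = x
    rw [hz1, hw₁]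

/-- points of a covering sieve -/
theorem pointwise_of_mem (U : X.Etale) (S : Sieve U) (hS : S ∈ X.smallEtaleTopology U)
    (x : U.left) : ∃ (V : X.Etale) (g : V ⟶ U) (v : V.left), S g ∧ g.left.base v = x := by
  have eX : X.smallEtaleTopology =
      (X.smallPretopology (P := EtCoh.etaleMP) (Q := EtCoh.etaleMP)).toGrothendieck :=
    Scheme.smallGrothendieckTopology_eq_toGrothendieck_smallPretopology X le_rfl
  rw [eX] at hS
  obtain ⟨V, g, v, hg, -, hv⟩ := (Scheme.mem_toGrothendieck_smallPretopology U S).1 hS x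
  exact ⟨V, g, v, hg, hv⟩

end Groth.Agent.Helper1.ES
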