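import Mathlib
import Groth.Prelude.Def_ClSub2
import Groth.Agent.Lib.Helper2.ProperOver
import Groth.Agent.Lib.Helper18.FpqcLocal
import Groth.Agent.S0086

/-!
# Closed subsets proper over a base: monotonicity, unions, étale-local descent (helper1, ES2)
-/

set_option autoImplicit false
set_option linter.unusedSectionVars false
set_option linter.style.haveILetI false

open CategoryTheory CategoryTheory.Limits AlgebraicGeometry Opposite

namespace Groth.Agent.Helper1.ES

universe u

open Scheme.IdealSheafData in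
theorem isProperOver_mono {P B : Scheme.{u}} (g : P ⟶ B) {Z₁ Z₂ : Set P} (h₁ : IsClosed Z₁)
    (h12 : Z₁ ⊆ Z₂) (h₂ : ClSub.IsProperOver g Z₂) : ClSub.IsProperOver g Z₁ := by
  obtain ⟨hc, hp⟩ := h₂
  refine ⟨h₁, ?_⟩
  obtain ⟨j, hj⟩ := Helper2.exists_red_lift (vanishingIdeal ⟨Z₂, hc⟩).subschemeι Z₁ h₁
    (by rw [Helper2.range_red]; exact h12)
  have hjc : IsClosedImmersion j := by
    have : IsClosedImmersion (j ≫ (vanishingIdeal ⟨Z₂, hc⟩).subschemeι) := by
      rw [hj]; infer_instance
    exact IsClosedImmersion.of_comp j (vanishingIdeal ⟨Z₂, hc⟩).subschemeι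
  rw [← hj, Category.assoc]
  haveI := hp
  infer_instance

theorem isProperOver_empty {P B : Scheme.{u}} (g : P ⟶ B) [LocallyOfFiniteType g] :
    ClSub.IsProperOver g (∅ : Set P) := by
  have := Helper2.isProperOver_iUnion g Empty (fun e => e.elim) (fun e => e.elim)
  simpa using this

theorem isProperOver_union {P B : Scheme.{u}} (g : P ⟶ B) [LocallyOfFiniteType g]
    {Z₁ Z₂ : Set P} (h₁ : ClSub.IsProperOver g Z₁) (h₂ : ClSub.IsProperOver g Z₂) :
    ClSub.IsProperOver g (Z₁ ∪ Z₂) := by
  have := Helper2.isProperOver_iUnion g Bool (fun b => cond b Z₁ Z₂)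
    (by intro b; cases b <;> assumption)
  rwa [← Set.union_eq_iUnion] at this

/-- properness is étale-local on the target -/
theorem isProper_of_etale_family {T B : Scheme.{u}} (q : T ⟶ B) {ι : Type u}
    (B' : ι → Scheme.{u}) (e : ∀ i, B' i ⟶ B) [∀ i, Etale (e i)]
    (hsurj : ∀ b : B, ∃ i, b ∈ Set.range (e i))
    (h : ∀ i, IsProper (pullback.snd q (e i))) : IsProper q := by
  haveI := Groth.Agent.S0086.result.{u}
  haveI := Helper18.FpqcDesc.isLocalAtTarget_fpqc.{u} @IsProper
  have hmem : Presieve.ofArrows B' e ∈ Scheme.fpqcPrecoverage B := by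
    apply Scheme.proetalePrecoverage_le_fpqcPrecoverage
    apply Scheme.etalePrecoverage_le_proetalePrecoverage
    rw [Scheme.etalePrecoverage, Scheme.ofArrows_mem_precoverage_iff]
    exact ⟨hsurj, fun i => inferInstance⟩
  exact MorphismProperty.IsLocalAtTarget.of_forall_pullbackSnd (P := @IsProper) hmem
    (by rintro U g _ ⟨i⟩; exact h i)

open Scheme.IdealSheafData in
/-- being proper over the base is étale-local on the base, for closed subsets -/
theorem isProperOver_of_etale_family {P B : Scheme.{u}} (p : P ⟶ B) [LocallyOfFiniteType p]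
    (Z : Set P) (hZ : IsClosed Z) {ι : Type u}
    (B' : ι → Scheme.{u}) (e : ∀ i, B' i ⟶ B) [∀ i, Etale (e i)]
    (hsurj : ∀ b : B, ∃ i, b ∈ Set.range (e i))
    (h : ∀ i, ∃ (P' : Scheme.{u}) (e' : P' ⟶ P) (p' : P' ⟶ B' i),
      IsPullback e' p' p (e i) ∧ ClSub.IsProperOver p' (⇑e' ⁻¹' Z)) :
    ClSub.IsProperOver p Z := by
  refine ⟨hZ, ?_⟩
  apply isProper_of_etale_family _ B' e hsurj
  intro i
  obtain ⟨P', e', p', sq, hp⟩ := h i
  have : LocallyOfFiniteType p' := MorphismProperty.of_isPullback sq inferInstance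
  let ιT := (vanishingIdeal ⟨Z, hZ⟩).subschemeι
  have hr : Set.range (pullback.fst e' ιT) = ⇑e' ⁻¹' Z := by
    rw [Scheme.Pullback.range_fst, Helper2.range_red]
  rw [Helper2.isProperOver_iff_of_closedImmersion p' (pullback.fst e' ιT) _ hr] at hp
  have big : IsPullback (pullback.snd e' ιT) (pullback.fst e' ιT ≫ p') (ιT ≫ p) (e i) :=
    (IsPullback.of_hasPullback e' ιT).flip.paste_vert sq
  have e1 : pullback.snd (ιT ≫ p) (e i) = big.isoPullback.inv ≫ (pullback.fst e' ιT ≫ p') := by
    rw [IsPullback.isoPullback_inv_snd]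
  change IsProper (pullback.snd (ιT ≫ p) (e i))
  rw [e1]
  infer_instance

end Groth.Agent.Helper1.ES
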