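import Mathlib
import Groth.Prelude.Def_EtShriek2
import Groth.Agent.Lib.Helper1.ES1
import Groth.Agent.Lib.Helper1.ES2

/-!
# The presheaf of sections with proper support is a sheaf (helper1, ES3): S0680
-/

set_option autoImplicit false
set_option linter.unusedSectionVars false
set_option linter.style.haveILetI false

open CategoryTheory CategoryTheory.Limits AlgebraicGeometry Opposite

namespace Groth.Agent.Helper1.ES

universe u

variable {X Y : Scheme.{u}}

instance lft_prV (f : X ⟶ Y) [LocallyOfFiniteType f] (V : Y.Etale) :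
    LocallyOfFiniteType (EtShriek.prV f V) :=
  MorphismProperty.pullback_fst (P := @LocallyOfFiniteType) _ _ inferInstance

/-- sections with proper support already form a subgroup -/
theorem mem_shriekSubgroup_iff (f : X ⟶ Y) [LocallyOfFiniteType f] (F : EtCoh.Ab X)
    (V : Y.Etale) (s : EtCoh.sect F ((EtCoh.bc f).obj V)) :
    s ∈ EtShriek.shriekSubgroup f F V ↔ EtShriek.ShriekPred f F V s := by
  constructor
  · intro h
    refine AddSubgroup.closure_induction (p := fun s _ => EtShriek.ShriekPred f F V s)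
      ?_ ?_ ?_ ?_ h
    · intro x hx
      exact hx
    · intro V' φ
      refine ⟨∅, ?_, isProperOver_empty _⟩
      rw [map_zero, sectSupp_zero]
    · intro x y _ _ hx hy V' φ
      obtain ⟨Z₁, h₁, p₁⟩ := hx V' φ
      obtain ⟨Z₂, h₂, p₂⟩ := hy V' φ
      refine ⟨Z₁ ∪ Z₂, ?_, isProperOver_union _ p₁ p₂⟩
      rw [map_add]
      exact (sectSupp_add_subset F _ _ _).trans (Set.union_subset_union h₁ h₂)
    · intro x _ hx V' φ
      obtain ⟨Z, h, p⟩ := hx V' φ
      refine ⟨Z, ?_, p⟩
      rw [map_neg, sectSupp_neg]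
      exact h
  · exact fun h => AddSubgroup.subset_closure h

/-- having proper support is local on the base for the étale topology -/
theorem hasProperSupport_of_local (f : X ⟶ Y) [LocallyOfFiniteType f] (F : EtCoh.Ab X)
    (V : Y.Etale) (s : EtCoh.sect F ((EtCoh.bc f).obj V)) (S : Sieve V)
    (hS : S ∈ Y.smallEtaleTopology V)
    (h : ∀ (V' : Y.Etale) (φ : V' ⟶ V), S φ →
      EtShriek.HasProperSupport F ((EtCoh.bc f).obj V')
        (F.obj.map ((EtCoh.bc f).map φ).op s) (EtShriek.prV f V')) :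
    EtShriek.HasProperSupport F ((EtCoh.bc f).obj V) s (EtShriek.prV f V) := by
  refine ⟨EtShriek.sectSupp F _ s, le_rfl, ?_⟩
  have hpt : ∀ b : V.left, ∃ (V' : Y.Etale) (φ : V' ⟶ V) (b' : V'.left),
      S φ ∧ φ.left.base b' = b := fun b => pointwise_of_mem V S hS b
  choose V' φ b' hφ hb using hpt
  apply isProperOver_of_etale_family (EtShriek.prV f V) _ (SHC.isClosed_sectSupp F _ s)
    (fun b => (V' b).left) (fun b => (φ b).left) (fun b => ⟨b, b' b, hb b⟩)
  intro b
  refine ⟨((EtCoh.bc f).obj (V' b)).left, ((EtCoh.bc f).map (φ b)).left, EtShriek.prV f (V' b),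
    EtCoh.isPullback_bc_map f (φ b), ?_⟩
  obtain ⟨Z, hZ, hp⟩ := h (V' b) (φ b) (hφ b)
  rw [sectSupp_map] at hZ
  exact isProperOver_mono _
    ((SHC.isClosed_sectSupp F _ s).preimage ((EtCoh.bc f).map (φ b)).left.continuous) hZ hp

/-- membership in the group of sections with proper support is local on the base -/
theorem mem_shriekSubgroup_of_local (f : X ⟶ Y) [LocallyOfFiniteType f] (F : EtCoh.Ab X)
    (V : Y.Etale) (s : EtCoh.sect F ((EtCoh.bc f).obj V)) (S : Sieve V)
    (hS : S ∈ Y.smallEtaleTopology V)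
    (h : ∀ (V' : Y.Etale) (φ : V' ⟶ V), S φ →
      F.obj.map ((EtCoh.bc f).map φ).op s ∈ EtShriek.shriekSubgroup f F V') :
    s ∈ EtShriek.shriekSubgroup f F V := by
  rw [mem_shriekSubgroup_iff]
  intro V'' ψ
  apply hasProperSupport_of_local f F V'' _ (S.pullback ψ)
    (Y.smallEtaleTopology.pullback_stable ψ hS)
  intro V' φ hφ
  have h1 := (mem_shriekSubgroup_iff f F V' _).1 (h V' (φ ≫ ψ) hφ) V' (𝟙 V')
  rw [CategoryTheory.Functor.map_id, op_id, F.obj.map_id] at h1
  rw [Functor.map_comp, op_comp, Functor.map_comp] at h1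
  exact h1

theorem isSheaf_lowerShriekPre (f : X ⟶ Y) [LocallyOfFiniteType f] (F : EtCoh.Ab X) :
    Presheaf.IsSheaf Y.smallEtaleTopology (EtShriek.lowerShriekPre f F) := by
  let J := Y.smallEtaleTopology
  let G : EtCoh.Ab Y := (EtCoh.push f).obj F
  rw [Presheaf.isSheaf_iff_isSheaf_forget J _ (forget AddCommGrpCat.{u + 1}),
    isSheaf_iff_isSheaf_of_type]
  have hG : Presieve.IsSheaf J (G.obj ⋙ forget AddCommGrpCat.{u + 1}) := by
    rw [← isSheaf_iff_isSheaf_of_type]
    exact ((sheafCompose J (forget AddCommGrpCat.{u + 1})).obj G).2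
  let Sub : Subfunctor (G.obj ⋙ forget AddCommGrpCat.{u + 1}) :=
    { obj := fun V => {s | s ∈ EtShriek.shriekSubgroup f F V.unop}
      map := fun {V V'} φ s hs => EtShriek.shriekSubgroup_le_comap f F φ.unop hs }
  have hSub : Presieve.IsSheaf J Sub.toFunctor := by
    rw [Subfunctor.isSheaf_iff Sub hG]
    intro V s hs
    exact mem_shriekSubgroup_of_local f F V.unop s _ hs (fun V' φ hφ => hφ)
  let e : EtShriek.lowerShriekPre f F ⋙ forget AddCommGrpCat.{u + 1} ≅ Sub.toFunctor :=
    NatIso.ofComponents (fun V => Equiv.toIso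
      ⟨fun x => ⟨x.1, x.2⟩, fun x => ⟨x.1, x.2⟩, fun _ => rfl, fun _ => rfl⟩)
      (by intros; ext; rfl)
  exact Presieve.isSheaf_iso J e.symm hSub

end Groth.Agent.Helper1.ES
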