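import Mathlib
import Groth.Prelude.Def_EtShriek2
import Groth.Agent.Lib.Helper1.ES3
import Groth.Agent.S0793

/-!
# The honest sheaf of sections with proper support and supports of its sections (helper1, ES4)
-/

set_option autoImplicit false
set_option linter.unusedSectionVars false
set_option linter.style.haveILetI false

open CategoryTheory CategoryTheory.Limits AlgebraicGeometry Opposite

namespace Groth.Agent.Helper1.ES

universe u

variable {X Y : Scheme.{u}}

/-- the object of the small étale site given by an open subscheme of an object -/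
noncomputable def openObj (V : Y.Etale) (O : V.left.Opens) : Y.Etale :=
  Scheme.Etale.mk (O.ι ≫ V.hom)

noncomputable def openObjι (V : Y.Etale) (O : V.left.Opens) : openObj V O ⟶ V :=
  MorphismProperty.Over.homMk O.ι rfl trivial

theorem openObjι_left (V : Y.Etale) (O : V.left.Opens) : (openObjι V O).left = O.ι := rfl

theorem exists_preimage_of_isPullback {P A B C : Scheme.{u}} {a : P ⟶ A} {b : P ⟶ B}
    {c : A ⟶ C} {d : B ⟶ C} (sq : IsPullback a b c d) (x : A) (y : B)
    (h : c.base x = d.base y) : ∃ z : P, a.base z = x ∧ b.base z = y := by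
  obtain ⟨z, hz1, hz2⟩ := Scheme.Pullback.exists_preimage_pullback (f := c) (g := d) x y h
  refine ⟨sq.isoPullback.inv.base z, ?_, ?_⟩
  · change (sq.isoPullback.inv ≫ a).base z = x
    rw [IsPullback.isoPullback_inv_fst]
    exact hz1
  · change (sq.isoPullback.inv ≫ b).base z = y
    rw [IsPullback.isoPullback_inv_snd]
    exact hz2

open Scheme.IdealSheafData in
theorem isClosed_image_of_isProperOver {P B : Scheme.{u}} (p : P ⟶ B) {A : Set P}
    (h : ClSub.IsProperOver p A) : IsClosed (p.base '' A) := by
  obtain ⟨hc, hp⟩ := h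
  have hr : Set.range ((vanishingIdeal ⟨A, hc⟩).subschemeι ≫ p).base = p.base '' A := by
    rw [Scheme.Hom.comp_base, TopCat.coe_comp, Set.range_comp]
    congr 1
    exact Helper2.range_red A hc
  rw [← hr]
  exact ((vanishingIdeal ⟨A, hc⟩).subschemeι ≫ p).isClosedMap.isClosed_range

theorem mem_shriekSubgroup_iff' (f : X ⟶ Y) [LocallyOfFiniteType f] (F : EtCoh.Ab X)
    (V : Y.Etale) (s : EtCoh.sect F ((EtCoh.bc f).obj V)) :
    s ∈ EtShriek.shriekSubgroup f F V ↔
      ClSub.IsProperOver (EtShriek.prV f V) (EtShriek.sectSupp F ((EtCoh.bc f).obj V) s) := by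
  rw [mem_shriekSubgroup_iff]
  constructor
  · intro h
    obtain ⟨Z, hZ, hp⟩ := h V (𝟙 V)
    rw [CategoryTheory.Functor.map_id, op_id, F.obj.map_id] at hZ
    exact isProperOver_mono _ (SHC.isClosed_sectSupp F _ s) hZ hp
  · intro h V' φ
    refine ⟨_, le_rfl, ?_⟩
    rw [sectSupp_map]
    exact Groth.Agent.S0793.result (EtShriek.prV f V) φ.left ((EtCoh.bc f).map φ).left
      (EtShriek.prV f V') (EtCoh.isPullback_bc_map f φ) _ h

/-- the honest sheaf `f_! F` -/
noncomputable def shriekSheaf (f : X ⟶ Y) [LocallyOfFiniteType f] : EtCoh.Ab X ⥤ EtCoh.Ab Y where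
  obj F := ⟨EtShriek.lowerShriekPre f F, isSheaf_lowerShriekPre f F⟩
  map α := ⟨(EtShriek.lowerShriekPreFunctor f).map α⟩
  map_id F := by
    ext : 1
    exact (EtShriek.lowerShriekPreFunctor f).map_id F
  map_comp α β := by
    ext : 1
    exact (EtShriek.lowerShriekPreFunctor f).map_comp α β

/-- the inclusion `f_! F ⟶ f_* F` of honest sheaves -/
noncomputable def ιS (f : X ⟶ Y) [LocallyOfFiniteType f] (F : EtCoh.Ab X) :
    (shriekSheaf f).obj F ⟶ (EtCoh.push f).obj F :=
  ⟨EtShriek.lowerShriekPreι f F⟩

/-- the sheafified functor agrees with the honest one -/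
noncomputable def shriekIso (f : X ⟶ Y) [LocallyOfFiniteType f] :
    EtShriek.lowerShriek f ≅ shriekSheaf f :=
  Functor.isoWhiskerRight
    (NatIso.ofComponents (fun F => Iso.refl _) :
      EtShriek.lowerShriekPreFunctor f ≅
        shriekSheaf f ⋙ sheafToPresheaf Y.smallEtaleTopology AddCommGrpCat.{u + 1})
    (presheafToSheaf Y.smallEtaleTopology AddCommGrpCat.{u + 1}) ≪≫
  Functor.associator _ _ _ ≪≫
  Functor.isoWhiskerLeft (shriekSheaf f)
    (asIso (sheafificationAdjunction Y.smallEtaleTopology AddCommGrpCat.{u + 1}).counit) ≪≫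
  Functor.rightUnitor _

theorem toPush_eq (f : X ⟶ Y) [LocallyOfFiniteType f] (F : EtCoh.Ab X) :
    EtShriek.lowerShriekToPush f F = (shriekIso f).hom.app F ≫ ιS f F := by
  unfold EtShriek.lowerShriekToPush
  rw [Adjunction.homEquiv_counit]
  simp only [shriekIso, Iso.trans_hom, Functor.isoWhiskerRight_hom, Functor.isoWhiskerLeft_hom,
    NatTrans.comp_app, Functor.whiskerRight_app, Functor.associator_hom_app,
    Functor.whiskerLeft_app, Functor.rightUnitor_hom_app, asIso_hom, Category.id_comp,
    Category.comp_id, NatIso.ofComponents_hom_app, Iso.refl_hom]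
  erw [CategoryTheory.Functor.map_id, Category.id_comp]
  exact ((sheafificationAdjunction Y.smallEtaleTopology AddCommGrpCat.{u + 1}).counit.naturality
    (ιS f F))

end Groth.Agent.Helper1.ES
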