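import Mathlib
import Groth.Prelude.Def_EtShriek2
import Groth.Agent.Lib.Helper1.ES4
import Groth.Agent.S0788

/-!
# Supports of sections of `f_! F`; composition criterion for proper support (helper1, ES5)
-/

set_option autoImplicit false
set_option linter.unusedSectionVars false
set_option linter.style.haveILetI false

open CategoryTheory CategoryTheory.Limits AlgebraicGeometry Opposite

namespace Groth.Agent.Helper1.ES

universe u

variable {X Y Z : Scheme.{u}}

/-- the underlying section of `F` of a section of `f_! F` -/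
abbrev valS (f : X ⟶ Y) [LocallyOfFiniteType f] (F : EtCoh.Ab X) (V : Y.Etale)
    (u : EtCoh.sect ((shriekSheaf f).obj F) V) : EtCoh.sect F ((EtCoh.bc f).obj V) :=
  (show ↥(EtShriek.shriekSubgroup f F V) from u).1

theorem valS_mem (f : X ⟶ Y) [LocallyOfFiniteType f] (F : EtCoh.Ab X) (V : Y.Etale)
    (u : EtCoh.sect ((shriekSheaf f).obj F) V) :
    valS f F V u ∈ EtShriek.shriekSubgroup f F V :=
  (show ↥(EtShriek.shriekSubgroup f F V) from u).2

/-- a section of `f_! F` from a section of `F` with proper support -/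
def mkS (f : X ⟶ Y) [LocallyOfFiniteType f] (F : EtCoh.Ab X) (V : Y.Etale)
    (t : EtCoh.sect F ((EtCoh.bc f).obj V)) (ht : t ∈ EtShriek.shriekSubgroup f F V) :
    EtCoh.sect ((shriekSheaf f).obj F) V :=
  (⟨t, ht⟩ : ↥(EtShriek.shriekSubgroup f F V))

@[simp] theorem valS_mkS (f : X ⟶ Y) [LocallyOfFiniteType f] (F : EtCoh.Ab X) (V : Y.Etale)
    (t : EtCoh.sect F ((EtCoh.bc f).obj V)) (ht : t ∈ EtShriek.shriekSubgroup f F V) :
    valS f F V (mkS f F V t ht) = t := rfl

theorem valS_injective (f : X ⟶ Y) [LocallyOfFiniteType f] (F : EtCoh.Ab X) (V : Y.Etale) :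
    Function.Injective (valS f F V) := fun _ _ h => Subtype.ext h

theorem valS_map (f : X ⟶ Y) [LocallyOfFiniteType f] (F : EtCoh.Ab X)
    {V V' : Y.Etale} (φ : V' ⟶ V) (u : EtCoh.sect ((shriekSheaf f).obj F) V) :
    valS f F V' (((shriekSheaf f).obj F).obj.map φ.op u) =
      F.obj.map ((EtCoh.bc f).map φ).op (valS f F V u) := rfl

/-- support of a section of `f_! F` is the image of its support as a section of `F` -/
theorem sectSupp_shriekSheaf (f : X ⟶ Y) [LocallyOfFiniteType f] (F : EtCoh.Ab X)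
    (V : Y.Etale) (u : EtCoh.sect ((shriekSheaf f).obj F) V) :
    EtShriek.sectSupp ((shriekSheaf f).obj F) V u =
      (EtShriek.prV f V).base '' EtShriek.sectSupp F ((EtCoh.bc f).obj V) (valS f F V u) := by
  have hA := (mem_shriekSubgroup_iff' f F V (valS f F V u)).1 (valS_mem f F V u)
  have hcl := isClosed_image_of_isProperOver _ hA
  ext y
  constructor
  · intro hy
    by_contra hcon
    let O : V.left.Opens := ⟨_, hcl.isOpen_compl⟩
    have hyO : y ∈ O := hcon
    have h0 : F.obj.map ((EtCoh.bc f).map (openObjι V O)).op (valS f F V u) = 0 := by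
      rw [map_eq_zero_iff]
      intro x' hx'
      have hsq := (EtCoh.isPullback_bc_map f (openObjι V O)).w
      have h1 : (EtShriek.prV f V).base (((EtCoh.bc f).map (openObjι V O)).left.base x') =
          (openObjι V O).left.base ((EtShriek.prV f (openObj V O)).base x') :=
        congrArg (fun m : _ ⟶ V.left => m.base x') hsq
      have h2 : (openObjι V O).left.base ((EtShriek.prV f (openObj V O)).base x') ∈ O := by
        rw [openObjι_left]
        exact ((EtShriek.prV f (openObj V O)).base x').2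
      rw [← h1] at h2
      exact h2 ⟨_, hx', rfl⟩
    apply hy (openObj V O) (openObjι V O) ⟨⟨y, hyO⟩, rfl⟩
    apply valS_injective
    rw [valS_map]
    exact h0
  · rintro ⟨x, hx, rfl⟩ V' φ ⟨v', hv'⟩ h0
    have h1 : F.obj.map ((EtCoh.bc f).map φ).op (valS f F V u) = 0 := by
      rw [← valS_map, h0]
      rfl
    rw [map_eq_zero_iff] at h1
    obtain ⟨x', hx'1, -⟩ := exists_preimage_of_isPullback (EtCoh.isPullback_bc_map f φ) x v'
      hv'.symm
    apply h1 x'
    rw [hx'1]
    exact hx

theorem isProperOver_of_comp {P B C : Scheme.{u}} (p : P ⟶ B) (q : B ⟶ C) [IsSeparated q]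
    {A : Set P} (h : ClSub.IsProperOver (p ≫ q) A) : ClSub.IsProperOver p A := by
  obtain ⟨hc, hp⟩ := h
  refine ⟨hc, ?_⟩
  rw [← Category.assoc] at hp
  haveI := hp
  exact IsProper.of_comp _ q

open Scheme.IdealSheafData in
theorem isProperOver_comp {P B C : Scheme.{u}} (p : P ⟶ B) (q : B ⟶ C)
    [LocallyOfFiniteType p] [LocallyOfFiniteType q] {A : Set P}
    (h₁ : ClSub.IsProperOver p A) (h₂ : ClSub.IsProperOver q (p.base '' A)) :
    ClSub.IsProperOver (p ≫ q) A := by
  obtain ⟨hc, hp⟩ := h₁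
  obtain ⟨hc₂, hp₂⟩ := h₂
  refine ⟨hc, ?_⟩
  let ιT := (vanishingIdeal ⟨A, hc⟩).subschemeι
  let m := ιT ≫ p
  let iB := (vanishingIdeal ⟨p.base '' A, hc₂⟩).subschemeι
  haveI : IsProper m := hp
  haveI : IsProper (iB ≫ q) := hp₂
  haveI hsurj : Surjective (pullback.fst m iB) := by
    constructor
    rw [← Set.range_eq_univ, Scheme.Pullback.range_fst, Helper2.range_red]
    ext t
    simp only [Set.mem_preimage, Set.mem_univ, iff_true]
    refine ⟨ιT.base t, ?_, rfl⟩
    have : ιT.base t ∈ Set.range ιT.base := ⟨t, rfl⟩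
    rw [Helper2.range_red] at this
    exact this
  haveI : IsProper (pullback.fst m iB ≫ (ιT ≫ p ≫ q)) := by
    have e : pullback.fst m iB ≫ (ιT ≫ p ≫ q) = pullback.snd m iB ≫ (iB ≫ q) := by
      rw [← Category.assoc ιT, ← Category.assoc, pullback.condition, Category.assoc]
    rw [e]
    infer_instance
  exact Helper2.isProper_of_comp_surj_univClosed (pullback.fst m iB) (ιT ≫ p ≫ q)

theorem isProperOver_iso {P P' B : Scheme.{u}} (c : P' ⟶ P) [IsIso c] (k : P ⟶ B)
    [LocallyOfFiniteType k] {A : Set P} (h : ClSub.IsProperOver k A) :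
    ClSub.IsProperOver (c ≫ k) (c.base ⁻¹' A) :=
  Groth.Agent.S0793.result k (𝟙 B) c (c ≫ k) (IsPullback.of_horiz_isIso ⟨by simp⟩) A h

theorem isProperOver_iso_iff {P P' B : Scheme.{u}} (c : P' ≅ P) (k : P ⟶ B)
    [LocallyOfFiniteType k] (k' : P' ⟶ B) (hk : c.hom ≫ k = k') (A : Set P) :
    ClSub.IsProperOver k' (c.hom.base ⁻¹' A) ↔ ClSub.IsProperOver k A := by
  subst hk
  constructor
  · intro h
    have := isProperOver_iso c.inv (c.hom ≫ k) h
    rw [Iso.inv_hom_id_assoc] at this
    convert this using 1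
    ext x
    simp only [Set.mem_preimage]
    rw [← Scheme.Hom.comp_apply, Iso.inv_hom_id]
    rfl
  · exact isProperOver_iso c.hom k

end Groth.Agent.Helper1.ES
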