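import Mathlib
import Groth.Prelude.Def_EtShriek2
import Groth.Agent.Lib.Helper1.ES5

/-!
# Direct images with proper support compose (helper1, ES6): S0685, S12103
-/

set_option autoImplicit false
set_option linter.unusedSectionVars false
set_option linter.style.haveILetI false

open CategoryTheory CategoryTheory.Limits AlgebraicGeometry Opposite

namespace Groth.Agent.Helper1.ES

universe u

variable {X Y Z : Scheme.{u}}

instance sep_prV (f : X ⟶ Y) [IsSeparated f] (V : Y.Etale) : IsSeparated (EtShriek.prV f V) :=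
  MorphismProperty.pullback_fst (P := @IsSeparated) _ _ inferInstance

section

variable (h : X ⟶ Y) (g : Y ⟶ Z)

noncomputable def cIso (W : Z.Etale) :
    (EtCoh.bc h).obj ((EtCoh.bc g).obj W) ≅ (EtCoh.bc (h ≫ g)).obj W :=
  (MorphismProperty.Over.pullbackComp (P := EtCoh.etaleMP) (Q := ⊤) h g).symm.app W

theorem cIso_hom_naturality {W W' : Z.Etale} (ψ : W' ⟶ W) :
    (EtCoh.bc h).map ((EtCoh.bc g).map ψ) ≫ (cIso h g W).hom =
      (cIso h g W').hom ≫ (EtCoh.bc (h ≫ g)).map ψ :=
  (MorphismProperty.Over.pullbackComp (P := EtCoh.etaleMP) (Q := ⊤) h g).symm.hom.naturality ψ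

noncomputable def cIsoL (W : Z.Etale) :
    ((EtCoh.bc h).obj ((EtCoh.bc g).obj W)).left ≅ ((EtCoh.bc (h ≫ g)).obj W).left where
  hom := (cIso h g W).hom.left
  inv := (cIso h g W).inv.left
  hom_inv_id := congrArg (fun m => m.left) (cIso h g W).hom_inv_id
  inv_hom_id := congrArg (fun m => m.left) (cIso h g W).inv_hom_id

set_option backward.isDefEq.respectTransparency.types false in
theorem cIsoL_inv_fst (W : Z.Etale) :
    (cIsoL h g W).inv ≫ EtShriek.prV h ((EtCoh.bc g).obj W) ≫ EtShriek.prV g W =
      EtShriek.prV (h ≫ g) W :=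
  MorphismProperty.Over.pullbackComp_left_fst_fst (P := EtCoh.etaleMP) (Q := ⊤) h g W

theorem map_hom_inv (F : EtCoh.Ab X) (W : Z.Etale)
    (t : EtCoh.sect F ((EtCoh.bc h).obj ((EtCoh.bc g).obj W))) :
    F.obj.map (cIso h g W).hom.op (F.obj.map (cIso h g W).inv.op t) = t := by
  rw [← ConcreteCategory.comp_apply, ← F.obj.map_comp, ← op_comp, Iso.hom_inv_id, op_id,
    F.obj.map_id]
  rfl

theorem map_inv_hom (F : EtCoh.Ab X) (W : Z.Etale)
    (s : EtCoh.sect F ((EtCoh.bc (h ≫ g)).obj W)) :
    F.obj.map (cIso h g W).inv.op (F.obj.map (cIso h g W).hom.op s) = s := by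
  rw [← ConcreteCategory.comp_apply, ← F.obj.map_comp, ← op_comp, Iso.inv_hom_id, op_id,
    F.obj.map_id]
  rfl

variable [LocallyOfFiniteType h] [LocallyOfFiniteType g] [IsSeparated g]

/-- the criterion: proper support over `W` for `h ≫ g` versus iterated proper support -/
theorem mem_comp_iff (F : EtCoh.Ab X) (W : Z.Etale)
    (t : EtCoh.sect F ((EtCoh.bc h).obj ((EtCoh.bc g).obj W))) :
    F.obj.map (cIso h g W).inv.op t ∈ EtShriek.shriekSubgroup (h ≫ g) F W ↔
      ∃ ht : t ∈ EtShriek.shriekSubgroup h F ((EtCoh.bc g).obj W),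
        mkS h F _ t ht ∈ EtShriek.shriekSubgroup g ((shriekSheaf h).obj F) W := by
  have hA : EtShriek.sectSupp F _ (F.obj.map (cIso h g W).inv.op t) =
      (cIsoL h g W).symm.hom.base ⁻¹' EtShriek.sectSupp F _ t :=
    sectSupp_map F (cIso h g W).inv t
  have hi : ClSub.IsProperOver (EtShriek.prV (h ≫ g) W)
      (EtShriek.sectSupp F _ (F.obj.map (cIso h g W).inv.op t)) ↔
      ClSub.IsProperOver (EtShriek.prV h ((EtCoh.bc g).obj W) ≫ EtShriek.prV g W)
        (EtShriek.sectSupp F _ t) := by
    rw [hA]
    exact isProperOver_iso_iff (cIsoL h g W).symm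
      (EtShriek.prV h ((EtCoh.bc g).obj W) ≫ EtShriek.prV g W) _ (cIsoL_inv_fst h g W) _
  rw [mem_shriekSubgroup_iff', hi]
  constructor
  · intro hp
    have ht : t ∈ EtShriek.shriekSubgroup h F ((EtCoh.bc g).obj W) :=
      (mem_shriekSubgroup_iff' h F _ t).2 (isProperOver_of_comp _ (EtShriek.prV g W) hp)
    refine ⟨ht, ?_⟩
    rw [mem_shriekSubgroup_iff', sectSupp_shriekSheaf]
    exact Groth.Agent.S0788.result
      (EtShriek.prV h ((EtCoh.bc g).obj W) ≫ EtShriek.prV g W) (EtShriek.prV g W)
      (EtShriek.prV h ((EtCoh.bc g).obj W)) rfl _ hp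
  · rintro ⟨ht, hB⟩
    rw [mem_shriekSubgroup_iff', sectSupp_shriekSheaf] at hB
    exact isProperOver_comp _ _ ((mem_shriekSubgroup_iff' h F _ t).1 ht) hB

theorem mem_comp_aux (F : EtCoh.Ab X) (W : Z.Etale)
    (s : ↥(EtShriek.shriekSubgroup (h ≫ g) F W)) :
    ∃ ht : F.obj.map (cIso h g W).hom.op s.1 ∈
        EtShriek.shriekSubgroup h F ((EtCoh.bc g).obj W),
      mkS h F _ _ ht ∈ EtShriek.shriekSubgroup g ((shriekSheaf h).obj F) W :=
  (mem_comp_iff h g F W _).1 (by rw [map_inv_hom]; exact s.2)

noncomputable def compHom (F : EtCoh.Ab X) (W : Z.Etale) :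
    ↥(EtShriek.shriekSubgroup (h ≫ g) F W) →+
      ↥(EtShriek.shriekSubgroup g ((shriekSheaf h).obj F) W) where
  toFun s := ⟨mkS h F _ (F.obj.map (cIso h g W).hom.op s.1) (mem_comp_aux h g F W s).fst,
    (mem_comp_aux h g F W s).snd⟩
  map_zero' := by
    apply Subtype.ext
    apply valS_injective
    exact map_zero _
  map_add' a b := by
    apply Subtype.ext
    apply valS_injective
    exact map_add _ _ _

noncomputable def compInv (F : EtCoh.Ab X) (W : Z.Etale) :
    ↥(EtShriek.shriekSubgroup g ((shriekSheaf h).obj F) W) →+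
      ↥(EtShriek.shriekSubgroup (h ≫ g) F W) where
  toFun u := ⟨F.obj.map (cIso h g W).inv.op (valS h F _ u.1),
    (mem_comp_iff h g F W (valS h F _ u.1)).2 ⟨valS_mem h F _ u.1, u.2⟩⟩
  map_zero' := by
    apply Subtype.ext
    exact map_zero _
  map_add' a b := by
    apply Subtype.ext
    exact map_add _ _ _

/-- the isomorphism `(h ≫ g)_! F ≅ g_! h_! F` of honest sheaves -/
noncomputable def compIsoApp (F : EtCoh.Ab X) :
    (shriekSheaf (h ≫ g)).obj F ≅ (shriekSheaf g).obj ((shriekSheaf h).obj F) where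
  hom := ⟨{ app := fun W => AddCommGrpCat.ofHom (compHom h g F W.unop)
            naturality := by
              intro W W' ψ
              ext s
              apply Subtype.ext
              apply valS_injective
              change F.obj.map (cIso h g W'.unop).hom.op
                  (F.obj.map ((EtCoh.bc (h ≫ g)).map ψ.unop).op s.1) =
                F.obj.map ((EtCoh.bc h).map ((EtCoh.bc g).map ψ.unop)).op
                  (F.obj.map (cIso h g W.unop).hom.op s.1)
              rw [← ConcreteCategory.comp_apply, ← F.obj.map_comp, ← op_comp,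
                ← ConcreteCategory.comp_apply, ← F.obj.map_comp, ← op_comp,
                cIso_hom_naturality] }⟩
  inv := ⟨{ app := fun W => AddCommGrpCat.ofHom (compInv h g F W.unop)
            naturality := by
              intro W W' ψ
              ext u
              apply Subtype.ext
              change F.obj.map (cIso h g W'.unop).inv.op
                  (F.obj.map ((EtCoh.bc h).map ((EtCoh.bc g).map ψ.unop)).op (valS h F _ u.1)) =
                F.obj.map ((EtCoh.bc (h ≫ g)).map ψ.unop).op
                  (F.obj.map (cIso h g W.unop).inv.op (valS h F _ u.1))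
              have e : (cIso h g W'.unop).inv ≫ (EtCoh.bc h).map ((EtCoh.bc g).map ψ.unop) =
                  (EtCoh.bc (h ≫ g)).map ψ.unop ≫ (cIso h g W.unop).inv := by
                rw [Iso.inv_comp_eq, ← Category.assoc, Iso.eq_comp_inv, cIso_hom_naturality]
              rw [← ConcreteCategory.comp_apply, ← F.obj.map_comp, ← op_comp,
                ← ConcreteCategory.comp_apply, ← F.obj.map_comp, ← op_comp, e] }⟩
  hom_inv_id := by
    ext W s
    apply Subtype.ext
    exact map_inv_hom h g F W.unop s.1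
  inv_hom_id := by
    ext W u
    apply Subtype.ext
    apply valS_injective
    exact map_hom_inv h g F W.unop (valS h F _ u.1)

end

end Groth.Agent.Helper1.ES
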