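import Mathlib
import Groth.Prelude.Def_EtShriek2
import Groth.Agent.Lib.Helper1.ES6

/-!
# Direct images with proper support compose, functorially and compatibly (helper1, ES7):
S0685, S12103
-/

set_option autoImplicit false
set_option linter.unusedSectionVars false
set_option linter.style.haveILetI false

open CategoryTheory CategoryTheory.Limits AlgebraicGeometry Opposite

namespace Groth.Agent.Helper1.ES

universe u

variable {X Y Z : Scheme.{u}}

theorem injective_app_of_mono {F G : EtCoh.Ab X} (α : F ⟶ G) [Mono α] (U : X.Etale) :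
    Function.Injective (α.hom.app (op U)).hom := by
  have h1 : Mono ((sheafToPresheaf X.smallEtaleTopology AddCommGrpCat.{u + 1}).map α) :=
    inferInstance
  have h2 := (NatTrans.mono_iff_mono_app _).1 h1 (op U)
  exact (AddCommGrpCat.mono_iff_injective _).1 h2

theorem mono_of_injective_app {F G : EtCoh.Ab X} (α : F ⟶ G)
    (hα : ∀ U : X.Etale, Function.Injective (α.hom.app (op U)).hom) : Mono α := by
  haveI : ∀ U : X.Etaleᵒᵖ, Mono (α.hom.app U) := fun U =>
    (AddCommGrpCat.mono_iff_injective _).2 (hα U.unop)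
  haveI : Mono α.hom := NatTrans.mono_of_mono_app α.hom
  exact Sheaf.Hom.mono_of_presheaf_mono _ _ α

instance preservesMono_shriekSheaf (f : X ⟶ Y) [LocallyOfFiniteType f] :
    (shriekSheaf f).PreservesMonomorphisms where
  preserves {F G} α _ := by
    apply mono_of_injective_app
    intro V a b hab
    apply valS_injective
    apply injective_app_of_mono α ((EtCoh.bc f).obj V)
    exact congrArg (valS f G V) hab

instance mono_ιS (f : X ⟶ Y) [LocallyOfFiniteType f] (F : EtCoh.Ab X) : Mono (ιS f F) := by
  apply mono_of_injective_app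
  intro V a b hab
  exact valS_injective f F V hab

instance preservesMono_lowerShriek (f : X ⟶ Y) [LocallyOfFiniteType f] :
    (EtShriek.lowerShriek f).PreservesMonomorphisms :=
  Functor.PreservesMonomorphisms.of_iso (shriekIso f).symm

instance mono_toPush (f : X ⟶ Y) [LocallyOfFiniteType f] (F : EtCoh.Ab X) :
    Mono (EtShriek.lowerShriekToPush f F) := by
  rw [toPush_eq]
  infer_instance

section

variable (h : X ⟶ Y) (g : Y ⟶ Z) [LocallyOfFiniteType h] [LocallyOfFiniteType g] [IsSeparated g]

/-- `(h ≫ g)_! ≅ h_! ⋙ g_!` for the honest functors -/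
noncomputable def compIso : shriekSheaf (h ≫ g) ≅ shriekSheaf h ⋙ shriekSheaf g :=
  NatIso.ofComponents (fun F => compIsoApp h g F) (by
    intro F F' α
    ext W s
    apply Subtype.ext
    apply valS_injective
    have := congrArg (fun ψ => ψ s.1)
      (congrArg AddCommGrpCat.Hom.hom (α.hom.naturality (cIso h g W.unop).hom.op))
    simp only [AddCommGrpCat.hom_comp, AddMonoidHom.coe_comp, Function.comp_apply] at this
    exact this.symm)

theorem compIso_compat (F : EtCoh.Ab X) :
    (compIso h g).hom.app F ≫ (shriekSheaf g).map (ιS h F) ≫ ιS g ((EtCoh.push h).obj F) =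
      ιS (h ≫ g) F ≫ (EtCoh.pushComp g h).inv.app F := by
  ext W s
  rfl

/-- `(h ≫ g)_! ≅ h_! ⋙ g_!` -/
noncomputable def compIsoL :
    EtShriek.lowerShriek (h ≫ g) ≅ EtShriek.lowerShriek h ⋙ EtShriek.lowerShriek g :=
  shriekIso (h ≫ g) ≪≫ compIso h g ≪≫
    Functor.isoWhiskerRight (shriekIso h).symm (shriekSheaf g) ≪≫
    Functor.isoWhiskerLeft (EtShriek.lowerShriek h) (shriekIso g).symm

theorem compIsoL_hom_app (F : EtCoh.Ab X) :
    (compIsoL h g).hom.app F = (shriekIso (h ≫ g)).hom.app F ≫ (compIso h g).hom.app F ≫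
      (shriekSheaf g).map ((shriekIso h).inv.app F) ≫
      (shriekIso g).inv.app ((EtShriek.lowerShriek h).obj F) := by
  simp [compIsoL]

theorem compIsoL_compat (F : EtCoh.Ab X) :
    (compIsoL h g).hom.app F ≫
        (EtShriek.lowerShriek g).map (EtShriek.lowerShriekToPush h F) ≫
          EtShriek.lowerShriekToPush g ((EtCoh.push h).obj F) =
      EtShriek.lowerShriekToPush (h ≫ g) F ≫ (EtCoh.pushComp g h).inv.app F := by
  have e1 : (shriekIso g).inv.app ((EtShriek.lowerShriek h).obj F) ≫
      (EtShriek.lowerShriek g).map (EtShriek.lowerShriekToPush h F) ≫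
        EtShriek.lowerShriekToPush g ((EtCoh.push h).obj F) =
      (shriekSheaf g).map (EtShriek.lowerShriekToPush h F) ≫ ιS g ((EtCoh.push h).obj F) := by
    rw [toPush_eq g, ← Category.assoc, ← Category.assoc,
      ← (shriekIso g).inv.naturality (EtShriek.lowerShriekToPush h F), Category.assoc,
      Category.assoc, Iso.inv_hom_id_app_assoc]
  have e2 : (shriekSheaf g).map ((shriekIso h).inv.app F) ≫
      (shriekSheaf g).map (EtShriek.lowerShriekToPush h F) = (shriekSheaf g).map (ιS h F) := by
    rw [← Functor.map_comp, toPush_eq h, Iso.inv_hom_id_app_assoc]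
  rw [compIsoL_hom_app, Category.assoc, Category.assoc, Category.assoc, e1,
    ← Category.assoc ((shriekSheaf g).map ((shriekIso h).inv.app F)), e2, compIso_compat,
    toPush_eq (h ≫ g), Category.assoc]

end

theorem main0685 (f : X ⟶ Y) (g : Y ⟶ Z) [IsSeparated f] [LocallyOfFiniteType f]
    [IsSeparated g] [LocallyOfFiniteType g] :
    Nonempty (EtShriek.lowerShriek (f ≫ g) ≅ EtShriek.lowerShriek f ⋙ EtShriek.lowerShriek g) :=
  ⟨compIsoL f g⟩

theorem main12103 (h : X ⟶ Y) (g : Y ⟶ Z)
    [IsSeparated h] [LocallyOfFiniteType h] [IsSeparated g] [LocallyOfFiniteType g] :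
    ∃! φ : EtShriek.lowerShriek (h ≫ g) ≅ EtShriek.lowerShriek h ⋙ EtShriek.lowerShriek g,
      ∀ F : EtCoh.Ab X,
        φ.hom.app F ≫ (EtShriek.lowerShriek g).map (EtShriek.lowerShriekToPush h F) ≫
            EtShriek.lowerShriekToPush g ((EtCoh.push h).obj F) =
          EtShriek.lowerShriekToPush (h ≫ g) F ≫ (EtCoh.pushComp g h).inv.app F := by
  refine ⟨compIsoL h g, fun F => compIsoL_compat h g F, ?_⟩
  intro φ' hφ'
  apply Iso.ext
  apply NatTrans.ext
  funext F
  haveI : Mono ((EtShriek.lowerShriek g).map (EtShriek.lowerShriekToPush h F) ≫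
      EtShriek.lowerShriekToPush g ((EtCoh.push h).obj F)) := mono_comp _ _
  rw [← cancel_mono ((EtShriek.lowerShriek g).map (EtShriek.lowerShriekToPush h F) ≫
      EtShriek.lowerShriekToPush g ((EtCoh.push h).obj F))]
  exact (hφ' F).trans (compIsoL_compat h g F).symm

end Groth.Agent.Helper1.ES
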