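import Mathlib
import Groth.Prelude.Def_EtCech
import Groth.Agent.Lib.Helper1.CH1
import Groth.Agent.Lib.Helper1.ES7

/-!
# Cartan-type lemmas for Čech cohomology on the small étale site (helper1, CH2)

* `lemmaB`: for a short exact sequence of sheaves with `Ȟ¹(Y, F') = 0`, a section of `F''` over `U`
  that lifts to `F` on each member of the covering family `Y` lifts over `U`;
* `main14628`.
-/

universe w v u
set_option linter.unusedSectionVars false
set_option autoImplicit false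
set_option linter.style.haveILetI false
open CategoryTheory CategoryTheory.Limits Opposite AlgebraicGeometry

namespace Groth.Agent.Helper1.CE

section Mk0
variable {D : Type u} [Category.{v} D] [HasFiniteProducts D] {ι : Type w} (Y : ι → D)
  (Q : Dᵒᵖ ⥤ AddCommGrpCat.{w})

/-- 0-cochain from a family of local sections -/
noncomputable def mk0 (t : ∀ i, Q.obj (op (Y i))) : (cech Y Q).X 0 :=
  mkC Y Q (fun b => (Q.map (Pi.π (Y ∘ b) 0).op).hom (t (b 0)))

lemma ev_mk0 (t : ∀ i, Q.obj (op (Y i))) (T : D) (σ : Fin 1 → Sg Y T) :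
    (ev Y Q T σ).hom (mk0 Y Q t) = (Q.map (σ 0).2.op).hom (t (σ 0).1) := by
  unfold mk0
  rw [ev_mkC]
  have h : (Pi.lift (fun k => (σ k).2) : T ⟶ ∏ᶜ (Y ∘ fun k => (σ k).1)) ≫
      Pi.π (Y ∘ fun k => (σ k).1) 0 = (σ 0).2 := Pi.lift_π _ _
  have h2 := congrArg (fun m => (Q.map m.op).hom (t (σ 0).1)) h
  simp only [op_comp, Functor.map_comp, AddCommGrpCat.hom_comp, AddMonoidHom.comp_apply] at h2
  exact h2

end Mk0

section Sheaf
variable {X : Scheme.{u}}

/-- sections of a short exact sequence of sheaves are exact in the middle -/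
lemma sections_exact (S : ShortComplex (EtCoh.Ab X)) (hS : S.ShortExact) (V : X.Etale)
    (z : S.X₂.obj.obj (op V)) (hz : (S.g.hom.app (op V)).hom z = 0) :
    ∃ x : S.X₁.obj.obj (op V), (S.f.hom.app (op V)).hom x = z := by
  haveI := hS.mono_f
  let F := sheafToPresheaf X.smallEtaleTopology AddCommGrpCat.{u+1} ⋙
    (evaluation _ _).obj (op V)
  have h := hS.exact.map_of_mono_of_preservesKernel F hS.mono_f inferInstance
  exact (ShortComplex.ab_exact_iff _).1 h z hz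

lemma sections_zero (S : ShortComplex (EtCoh.Ab X)) (V : X.Etale)
    (z : S.X₁.obj.obj (op V)) :
    (S.g.hom.app (op V)).hom ((S.f.hom.app (op V)).hom z) = 0 := by
  have := congrArg (fun m => (m.hom.app (op V)).hom z) S.zero
  exact this

/-- gluing of sections of an abelian étale sheaf along a covering family -/
lemma glue (F : EtCoh.Ab X) (U : X.Etale) {ι : Type w} (V : ι → X.Etale) (π : ∀ i, V i ⟶ U)
    (hcov : Sieve.ofArrows V π ∈ X.smallEtaleTopology U)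
    (x : ∀ i, F.obj.obj (op (V i)))
    (hx : ∀ i j (Z : X.Etale) (gi : Z ⟶ V i) (gj : Z ⟶ V j), gi ≫ π i = gj ≫ π j →
      (F.obj.map gi.op).hom (x i) = (F.obj.map gj.op).hom (x j)) :
    ∃! t : F.obj.obj (op U), ∀ i, (F.obj.map (π i).op).hom t = x i := by
  have hG : Presieve.IsSheaf X.smallEtaleTopology (F.obj ⋙ forget AddCommGrpCat.{u+1}) := by
    rw [← isSheaf_iff_isSheaf_of_type]
    exact ((sheafCompose _ (forget AddCommGrpCat.{u+1})).obj F).2
  have h1 : (Presieve.ofArrows V π).IsSheafFor (F.obj ⋙ forget AddCommGrpCat.{u+1}) := by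
    rw [Presieve.isSheafFor_iff_generate]
    exact hG _ hcov
  exact (Presieve.isSheafFor_arrows_iff _ _).1 h1 x hx

/-- **Lemma B**. -/
theorem lemmaB (S : ShortComplex (EtCoh.Ab X)) (hS : S.ShortExact)
    (U : X.Etale) [HasFiniteProducts (Over U)] {ι : Type (u+1)} (Y : ι → Over U)
    (hcov : Sieve.ofArrows (fun i => (Y i).left) (fun i => (Y i).hom) ∈ X.smallEtaleTopology U)
    (hH : IsZero (EtCech.cechH Y S.X₁.obj 1))
    (s : S.X₃.obj.obj (op U))
    (t : ∀ i, S.X₂.obj.obj (op (Y i).left))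
    (ht : ∀ i, (S.g.hom.app (op (Y i).left)).hom (t i) = (S.X₃.obj.map (Y i).hom.op).hom s) :
    ∃ t' : S.X₂.obj.obj (op U), (S.g.hom.app (op U)).hom t' = s := by
  haveI := hS.mono_f
  let Q₁ : (Over U)ᵒᵖ ⥤ AddCommGrpCat.{u+1} := (Over.forget U).op ⋙ S.X₁.obj
  let Q₂ : (Over U)ᵒᵖ ⥤ AddCommGrpCat.{u+1} := (Over.forget U).op ⋙ S.X₂.obj
  let Q₃ : (Over U)ᵒᵖ ⥤ AddCommGrpCat.{u+1} := (Over.forget U).op ⋙ S.X₃.obj
  let φ : Q₁ ⟶ Q₂ := Functor.whiskerLeft (Over.forget U).op S.f.hom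
  let ψ : Q₂ ⟶ Q₃ := Functor.whiskerLeft (Over.forget U).op S.g.hom
  let t0 : (cech Y Q₂).X 0 := mk0 Y Q₂ t
  have key : ∀ (T : Over U) (τ : Sg Y T),
      (ψ.app (op T)).hom ((Q₂.map τ.2.op).hom (t τ.1)) = (S.X₃.obj.map T.hom.op).hom s := by
    intro T τ
    have nat := congrArg (fun m => m.hom (t τ.1)) (ψ.naturality τ.2.op)
    simp only [AddCommGrpCat.hom_comp, AddMonoidHom.comp_apply] at nat
    refine nat.trans ?_
    have e1 : (ψ.app (op (Y τ.1))).hom (t τ.1) = (S.X₃.obj.map (Y τ.1).hom.op).hom s := ht τ.1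
    rw [e1]
    have e2 := congrArg (fun m => (S.X₃.obj.map m.op).hom s) (Over.w τ.2)
    simp only [op_comp, Functor.map_comp, AddCommGrpCat.hom_comp, AddMonoidHom.comp_apply] at e2
    exact e2
  have h1 : (((cechComplexFunctor Y).map ψ).f 1).hom (((cech Y Q₂).d 0 1).hom t0) = 0 := by
    apply ext_elem
    intro T σ
    show (ev Y Q₃ T σ).hom _ = (ev Y Q₃ T σ).hom 0
    rw [map_zero, map_ev_apply, d_zero_ev_apply, map_sub, ev_mk0, ev_mk0, key, key, sub_self]
  obtain ⟨c, hc⟩ := exists_map_f_eq Y φ ψ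
    (fun T z hz => sections_exact S hS T.left z hz) 1 _ h1
  have hdc : ((cech Y Q₁).d 1 2).hom c = 0 := by
    apply map_f_injective Y φ (fun T => ES.injective_app_of_mono S.f T.left) 2
    rw [← d_map_f, hc, d_d_apply, map_zero]
  have hex : ∃ a : (cech Y Q₁).X 0, ((cech Y Q₁).d 0 1).hom a = c := by
    have h0 : IsZero ((cech Y Q₁).homology 1) := hH
    rw [← HomologicalComplex.exactAt_iff_isZero_homology,
      HomologicalComplex.exactAt_iff' _ 0 1 2 (by simp) (by simp), ShortComplex.ab_exact_iff] at h0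
    exact h0 c hdc
  obtain ⟨a, ha⟩ := hex
  let t1 : (cech Y Q₂).X 0 := t0 - (((cechComplexFunctor Y).map φ).f 0).hom a
  have hdt1 : ((cech Y Q₂).d 0 1).hom t1 = 0 := by
    show ((cech Y Q₂).d 0 1).hom (t0 - (((cechComplexFunctor Y).map φ).f 0).hom a) = 0
    rw [map_sub, d_map_f, ha, hc, sub_self]
  let x : ∀ i, S.X₂.obj.obj (op (Y i).left) := fun i =>
    (ev Y Q₂ (Y i) (fun _ => ⟨i, 𝟙 _⟩)).hom t1
  have e2 : ∀ (T : Over U) (k : ι) (m : T ⟶ Y k),
      (ev Y Q₂ T (fun _ : Fin 1 => ⟨k, m⟩)).hom t1 = (S.X₂.obj.map m.left.op).hom (x k) := by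
    intro T k m
    have h := ev_map_apply Y Q₂ m (fun _ : Fin 1 => (⟨k, 𝟙 _⟩ : Sg Y (Y k))) t1
    refine Eq.trans ?_ h.symm
    have : pullσ Y m (fun _ : Fin 1 => (⟨k, 𝟙 _⟩ : Sg Y (Y k))) = fun _ => ⟨k, m⟩ := by
      funext _
      exact Sigma.ext rfl (heq_of_eq (Category.comp_id m))
    rw [this]
  have hxcompat : ∀ i j (Z : X.Etale) (gi : Z ⟶ (Y i).left) (gj : Z ⟶ (Y j).left),
      gi ≫ (Y i).hom = gj ≫ (Y j).hom →
      (S.X₂.obj.map gi.op).hom (x i) = (S.X₂.obj.map gj.op).hom (x j) := by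
    intro i j Z gi gj hg
    let T : Over U := Over.mk (gi ≫ (Y i).hom)
    let mi : T ⟶ Y i := Over.homMk gi rfl
    let mj : T ⟶ Y j := Over.homMk gj hg.symm
    have e1 := d_zero_ev_apply Y Q₂ T (![(⟨i, mi⟩ : Sg Y T), ⟨j, mj⟩]) t1
    rw [hdt1, map_zero] at e1
    have e1' : (ev Y Q₂ T (fun _ : Fin 1 => (⟨j, mj⟩ : Sg Y T))).hom t1 -
        (ev Y Q₂ T (fun _ : Fin 1 => (⟨i, mi⟩ : Sg Y T))).hom t1 = 0 := e1.symm
    rw [e2, e2, sub_eq_zero] at e1'
    exact e1'.symm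
  obtain ⟨t', ht', -⟩ := glue S.X₂ U (fun i => (Y i).left) (fun i => (Y i).hom) hcov x hxcompat
  refine ⟨t', ?_⟩
  let y : ∀ i, S.X₃.obj.obj (op (Y i).left) := fun i => (S.X₃.obj.map (Y i).hom.op).hom s
  have hycompat : ∀ i j (Z : X.Etale) (gi : Z ⟶ (Y i).left) (gj : Z ⟶ (Y j).left),
      gi ≫ (Y i).hom = gj ≫ (Y j).hom →
      (S.X₃.obj.map gi.op).hom (y i) = (S.X₃.obj.map gj.op).hom (y j) := by
    intro i j Z gi gj hg
    have e := congrArg (fun m => (S.X₃.obj.map m.op).hom s) hg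
    simp only [op_comp, Functor.map_comp, AddCommGrpCat.hom_comp, AddMonoidHom.comp_apply] at e
    exact e
  obtain ⟨s', -, huniq⟩ := glue S.X₃ U (fun i => (Y i).left) (fun i => (Y i).hom) hcov y hycompat
  refine (huniq _ ?_).trans (huniq s (fun i => rfl)).symm
  intro i
  have nat := congrArg (fun m => m.hom t') (S.g.hom.naturality (Y i).hom.op)
  simp only [AddCommGrpCat.hom_comp, AddMonoidHom.comp_apply] at nat
  refine nat.symm.trans ?_
  rw [ht' i]
  show (ψ.app (op (Y i))).hom ((ev Y Q₂ (Y i) (fun _ => ⟨i, 𝟙 _⟩)).hom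
    (t0 - (((cechComplexFunctor Y).map φ).f 0).hom a)) = y i
  rw [map_sub, map_sub, map_ev_apply, ev_mk0]
  have z1 : (ψ.app (op (Y i))).hom ((φ.app (op (Y i))).hom
      ((ev Y Q₁ (Y i) (fun _ => ⟨i, 𝟙 _⟩)).hom a)) = 0 := sections_zero S (Y i).left _
  rw [z1, sub_zero]
  have z2 := key (Y i) ⟨i, 𝟙 _⟩
  refine z2.trans ?_
  rfl

end Sheaf

end Groth.Agent.Helper1.CE
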