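import Mathlib
import Groth.Prelude.Def_EtCech
import Groth.Agent.Lib.Helper1.CH2

/-!
# Čech-flasque sheaves: two out of three (helper1, CH3): S14628
-/

universe w v u
set_option linter.unusedSectionVars false
set_option autoImplicit false
set_option linter.style.haveILetI false
open CategoryTheory CategoryTheory.Limits Opposite AlgebraicGeometry

namespace Groth.Agent.Helper1.CE

section Delta'
variable {C : Type w} [Category.{v} C] [LocallySmall.{w} C] {U : C} [HasFiniteProducts (Over U)]
  {ι : Type w} (Y : ι → Over U)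

/-- variant of `shortExact_map` needing exactness only on the products of the family -/
lemma shortExact_map' (S : ShortComplex (Cᵒᵖ ⥤ AddCommGrpCat.{w}))
    (h : ∀ (n : ℕ) (a : Fin (n+1) → ι),
      (ShortComplex.mk (S.f.app (op (∏ᶜ (Y ∘ a)).left)) (S.g.app (op (∏ᶜ (Y ∘ a)).left))
        (by rw [← NatTrans.comp_app, S.zero]; rfl)).ShortExact) :
    (S.map (cxF Y)).ShortExact := by
  apply HomologicalComplex.shortExact_of_degreewise_shortExact
  intro n
  have := pi_shortExact (I := Fin (n+1) → ι)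
    (fun a => S.f.app (op (∏ᶜ (Y ∘ a)).left)) (fun a => S.g.app (op (∏ᶜ (Y ∘ a)).left))
    (fun a => by rw [← NatTrans.comp_app, S.zero]; rfl)
    (fun a => h n a)
  exact this

end Delta'

section Sheaf
variable {X : Scheme.{u}}

/-- the presheaf short complex of a short complex of sheaves -/
noncomputable abbrev preS (S : ShortComplex (EtCoh.Ab X)) :
    ShortComplex (X.Etaleᵒᵖ ⥤ AddCommGrpCat.{u+1}) :=
  S.map (sheafToPresheaf X.smallEtaleTopology AddCommGrpCat.{u+1})

/-- objectwise short exactness from surjectivity of sections -/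
lemma shortExact_sections (S : ShortComplex (EtCoh.Ab X)) (hS : S.ShortExact) (V : X.Etale)
    (hsurj : Function.Surjective (S.g.hom.app (op V)).hom) :
    (ShortComplex.mk ((preS S).f.app (op V)) ((preS S).g.app (op V))
      (by rw [← NatTrans.comp_app, (preS S).zero]; rfl)).ShortExact := by
  haveI := hS.mono_f
  refine ShortComplex.ShortExact.mk' ?_ ?_ ?_
  · rw [ShortComplex.ab_exact_iff]
    intro z hz
    exact sections_exact S hS V z hz
  · rw [AddCommGrpCat.mono_iff_injective]
    exact ES.injective_app_of_mono S.f V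
  · rw [AddCommGrpCat.epi_iff_surjective]
    exact hsurj

/-- if `F'` and `F` have vanishing Čech cohomology for the family and its products see exact
sections, then so has `F''` -/
lemma isZero_cechH_X₃ (S : ShortComplex (EtCoh.Ab X)) (hS : S.ShortExact)
    (U : X.Etale) [HasFiniteProducts (Over U)] {ι : Type (u+1)} (Y : ι → Over U)
    (hsurj : ∀ (n : ℕ) (a : Fin (n+1) → ι),
      Function.Surjective (S.g.hom.app (op (∏ᶜ (Y ∘ a)).left)).hom)
    (q : ℕ) (h2 : IsZero (EtCech.cechH Y S.X₂.obj (q+1)))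
    (h1 : IsZero (EtCech.cechH Y S.X₁.obj (q+2))) :
    IsZero (EtCech.cechH Y S.X₃.obj (q+1)) := by
  have hK : ((preS S).map (cxF Y)).ShortExact :=
    shortExact_map' Y (preS S) (fun n a => shortExact_sections S hS _ (hsurj n a))
  have hz2 : IsZero (((preS S).map (cxF Y)).X₂.homology (q+1)) := h2
  have hz1 : IsZero (((preS S).map (cxF Y)).X₁.homology (q+2)) := h1
  have ex := hK.homology_exact₃ (q+1) (q+2) (by simp)
  exact ex.isZero_of_both_zeros (hz2.eq_of_src _ _) (hz1.eq_of_tgt _ _)

theorem main14628 [∀ U : X.Etale, HasFiniteProducts (Over U)]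
    (S : ShortComplex (EtCoh.Ab X)) (hS : S.ShortExact)
    (h1 : (∀ (U : X.Etale) (ι : Type (u + 1)) (Uf : ι → Over U),
      (∀ x : ↥(U.left), ∃ (i : ι) (y : ↥((Uf i).left.left)), (Uf i).hom.left.base y = x) →
      ∀ p : ℕ, 0 < p → IsZero (EtCech.cechH Uf S.X₁.obj p)))
    (h2 : (∀ (U : X.Etale) (ι : Type (u + 1)) (Uf : ι → Over U),
      (∀ x : ↥(U.left), ∃ (i : ι) (y : ↥((Uf i).left.left)), (Uf i).hom.left.base y = x) →
      ∀ p : ℕ, 0 < p → IsZero (EtCech.cechH Uf S.X₂.obj p)))
    (U : X.Etale) (ι : Type (u + 1)) (Uf : ι → Over U)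
    (hU : ∀ x : ↥(U.left), ∃ (i : ι) (y : ↥((Uf i).left.left)), (Uf i).hom.left.base y = x)
    (p : ℕ) (hp : 0 < p) :
    IsZero (EtCech.cechH Uf S.X₃.obj p) := by
  have hsurj : ∀ V : X.Etale, Function.Surjective (S.g.hom.app (op V)).hom := by
    intro V s
    haveI := hS.epi_g
    haveI hls : Sheaf.IsLocallySurjective S.g :=
      (Sheaf.isLocallySurjective_iff_epi' _ S.g).mpr inferInstance
    have hmem := Presheaf.imageSieve_mem X.smallEtaleTopology S.g.hom (U := op V) s
    let κ := Σ W : X.Etale, {g : W ⟶ V // Presheaf.imageSieve S.g.hom s g}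
    let Y : κ → Over V := fun k => Over.mk k.2.1
    have hpt : ∀ x : V.left, ∃ (i : κ) (y : (Y i).left.left), (Y i).hom.left.base y = x := by
      intro x
      obtain ⟨W, g, w, hg, hw⟩ := ES.pointwise_of_mem V _ hmem x
      exact ⟨⟨W, g, hg⟩, w, hw⟩
    have hcov : Sieve.ofArrows (fun i => (Y i).left) (fun i => (Y i).hom) ∈
        X.smallEtaleTopology V := by
      refine X.smallEtaleTopology.superset_covering ?_ hmem
      intro W g hg
      exact Sieve.ofArrows_mk _ _ (⟨W, g, hg⟩ : κ)
    have hH := h1 V κ Y hpt 1 Nat.one_pos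
    choose t ht using fun k : κ =>
      (show ∃ t : S.X₂.obj.obj (op k.1), (S.g.hom.app (op k.1)).hom t =
        (S.X₃.obj.map k.2.1.op).hom s from k.2.2)
    exact lemmaB S hS V Y hcov hH s t ht
  obtain ⟨q, rfl⟩ : ∃ q, p = q + 1 := ⟨p - 1, by omega⟩
  exact isZero_cechH_X₃ S hS U Uf (fun n a => hsurj _) q
    (h2 U ι Uf hU (q+1) (by omega)) (h1 U ι Uf hU (q+2) (by omega))

end Sheaf

end Groth.Agent.Helper1.CE
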