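import Mathlib
import Groth.Prelude.Def_EtCech
import Groth.Agent.Lib.Helper1.CH3
import Groth.Agent.Lib.Helper1.CE3

/-!
# Affine-acyclic sheaves on the small étale site (helper1, CH4)

`AffAcyclic F`: the Čech cohomology of `F` vanishes in positive degrees for every surjective
morphism `V ⟶ W` between affine objects of the small étale site.
-/

universe u
set_option linter.unusedSectionVars false
set_option autoImplicit false
set_option linter.style.haveILetI false
open CategoryTheory CategoryTheory.Limits Opposite AlgebraicGeometry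

namespace Groth.Agent.Helper1.CE

variable {S : Scheme.{u}}

/-- the one-member family given by a morphism -/
abbrev sgl {W V : S.Etale} (f : V ⟶ W) : PUnit.{u+2} → Over W := fun _ => Over.mk f

/-- affine-acyclic sheaves -/
def AffAcyclic (F : EtCoh.Ab S) : Prop :=
  ∀ (W V : S.Etale) (f : V ⟶ W), IsAffine W.left → IsAffine V.left →
    Function.Surjective f.left.base → ∀ q : ℕ, IsZero (EtCech.cechH (sgl f) F.obj (q+1))

lemma affAcyclic_of_injective (I : EtCoh.Ab S) [Injective I] : AffAcyclic I := by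
  intro W V f _ _ _ q
  haveI : Injective I.obj :=
    Injective.injective_of_adjoint
      (sheafificationAdjunction S.smallEtaleTopology AddCommGrpCat.{u + 1}) I
  exact isZero_cechH_of_injective (sgl f) _ q

section Products

variable (W : S.Etale)

lemma isPullback_prod (A B : Over W) :
    IsPullback (prod.fst : A ⨯ B ⟶ A).left.left (prod.snd : A ⨯ B ⟶ B).left.left
      A.hom.left B.hom.left := by
  have h1 : IsPullback (prod.fst : A ⨯ B ⟶ A).left (prod.snd : A ⨯ B ⟶ B).left A.hom B.hom := by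
    refine IsPullback.of_iso_pullback ⟨?_⟩ (Over.prodLeftIsoPullback A B) ?_ ?_
    · rw [Over.w, Over.w]
    · exact Over.prodLeftIsoPullback_hom_fst A B
    · exact Over.prodLeftIsoPullback_hom_snd A B
  exact h1.map (Scheme.Etale.forget S ⋙ Over.forget S)

lemma isAffine_prod [IsAffine W.left] (A B : Over W) (hA : IsAffine A.left.left)
    (hB : IsAffine B.left.left) : IsAffine (A ⨯ B).left.left :=
  IsAffine.of_isPullback (isPullback_prod W A B)

lemma isAffine_of_iso {A B : Over W} (e : A ≅ B) (hB : IsAffine B.left.left) :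
    IsAffine A.left.left := by
  let e' : A.left.left ≅ B.left.left :=
    (Over.forget W ⋙ Scheme.Etale.forget S ⋙ Over.forget S).mapIso e
  exact IsAffine.of_isIso e'.hom

lemma isAffine_pi [IsAffine W.left] : ∀ (n : ℕ) (Z : Fin n → Over W),
    (∀ k, IsAffine (Z k).left.left) → IsAffine (∏ᶜ Z).left.left
  | 0, Z, _ => by
    let e : ∏ᶜ Z ≅ Over.mk (𝟙 W) :=
      { hom := Over.mkIdTerminal.from _
        inv := Pi.lift (fun k => Fin.elim0 k)
        hom_inv_id := by
          apply Pi.hom_ext
          intro k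
          exact Fin.elim0 k
        inv_hom_id := Over.mkIdTerminal.hom_ext _ _ }
    exact isAffine_of_iso W e (inferInstanceAs (IsAffine W.left))
  | n+1, Z, hZ => by
    let c₁ : Fan (fun i : Fin n => Z i.succ) := Fan.mk (∏ᶜ fun i : Fin n => Z i.succ) (Pi.π _)
    have t₁ : IsLimit c₁ := productIsProduct _
    let c₂ : BinaryFan (Z 0) c₁.pt := BinaryFan.mk prod.fst prod.snd
    have t₂ : IsLimit c₂ := prodIsProd _ _
    let e : ∏ᶜ Z ≅ (Z 0 ⨯ ∏ᶜ fun i : Fin n => Z i.succ) :=
      (productIsProduct Z).conePointUniqueUpToIso (extendFanIsLimit Z t₁ t₂)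
    exact isAffine_of_iso W e (isAffine_prod W _ _ (hZ 0)
      (isAffine_pi n (fun i => Z i.succ) (fun i => hZ i.succ)))

end Products

/-- (b): sections over affines are exact on the right when the kernel is affine-acyclic -/
theorem surjective_of_affAcyclic (T : ShortComplex (EtCoh.Ab S)) (hT : T.ShortExact)
    (hP : AffAcyclic T.X₁) (W : S.Etale) [IsAffine W.left] :
    Function.Surjective (T.g.hom.app (op W)).hom := by
  intro s
  haveI := hT.epi_g
  haveI hls : Sheaf.IsLocallySurjective T.g :=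
    (Sheaf.isLocallySurjective_iff_epi' _ T.g).mpr inferInstance
  have hmem := Presheaf.imageSieve_mem S.smallEtaleTopology T.g.hom (U := op W) s
  have h1 : ∀ x : W.left, ∃ (V : S.Etale) (g : V ⟶ W) (v : V.left), IsAffine V.left ∧
      Presheaf.imageSieve T.g.hom s g ∧ g.left.base v = x := by
    intro x
    obtain ⟨V, g, v, hg, hv⟩ := ES.pointwise_of_mem W _ hmem x
    obtain ⟨A, hA, hvA, -⟩ := exists_isAffineOpen_mem_and_subset (x := v) (U := ⊤) trivial
    exact ⟨ES.openObj V A, ES.openObjι V A ≫ g, ⟨v, hvA⟩, hA,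
      (Presheaf.imageSieve T.g.hom s).downward_closed hg _, hv⟩
  choose V g v hVaff hg hv using h1
  have hopen : ∀ x, IsOpen (Set.range (g x).left.base) :=
    fun x => (g x).left.isOpenMap.isOpen_range
  obtain ⟨t, ht⟩ := isCompact_univ.elim_finite_subcover
    (fun x => Set.range (g x).left.base) hopen
    (fun x _ => Set.mem_iUnion.2 ⟨x, v x, hv x⟩)
  let σ := {x : W.left // x ∈ t}
  let Vs : σ → Scheme.{u} := fun k => (V k.1).left
  haveI : ∀ k, IsAffine (Vs k) := fun k => hVaff k.1
  haveI hEt : Etale (Sigma.desc (fun k : σ => (V k.1).hom)) :=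
    IsZariskiLocalAtSource.sigmaDesc (fun k => inferInstance)
  let 𝕍 : S.Etale := Scheme.Etale.mk (Sigma.desc (fun k : σ => (V k.1).hom))
  have hf : Sigma.desc (fun k : σ => (g k.1).left) ≫ W.hom =
      Sigma.desc (fun k : σ => (V k.1).hom) := by
    apply Sigma.hom_ext
    intro k
    rw [Sigma.ι_desc_assoc, Sigma.ι_desc]
    exact Over.w (g k.1).hom
  let f : 𝕍 ⟶ W := MorphismProperty.Over.homMk (Sigma.desc (fun k : σ => (g k.1).left)) hf trivial
  let ιk : ∀ k : σ, V k.1 ⟶ 𝕍 := fun k =>
    MorphismProperty.Over.homMk (Sigma.ι Vs k) (Sigma.ι_desc _ _) trivial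
  have hιf : ∀ k : σ, ιk k ≫ f = g k.1 := by
    intro k
    apply MorphismProperty.Over.Hom.ext
    exact Sigma.ι_desc _ _
  haveI : IsAffine 𝕍.left := inferInstanceAs (IsAffine (∐ Vs))
  have hg' : ∀ k : σ, ∃ tk : T.X₂.obj.obj (op (V k.1)),
      (T.g.hom.app (op (V k.1))).hom tk = (T.X₃.obj.map (g k.1).op).hom s := fun k => hg k.1
  choose tk htk using hg'
  have hcov𝕍 : Sieve.ofArrows (fun k : σ => V k.1) ιk ∈ S.smallEtaleTopology 𝕍 := by
    apply SHC.mem_of_pointwise
    intro y
    obtain ⟨⟨k, z⟩, rfl⟩ := (sigmaMk Vs).surjective y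
    exact ⟨V k.1, ιk k, z, Sieve.ofArrows_mk _ _ k, (sigmaMk_mk Vs k z).symm⟩
  have hcompat : ∀ (i j : σ) (Z : S.Etale) (ai : Z ⟶ V i.1) (aj : Z ⟶ V j.1),
      ai ≫ ιk i = aj ≫ ιk j →
      (T.X₂.obj.map ai.op).hom (tk i) = (T.X₂.obj.map aj.op).hom (tk j) := by
    intro i j Z ai aj h
    by_cases hij : i = j
    · subst hij
      have : ai = aj := by
        apply MorphismProperty.Over.Hom.ext
        have h' := congrArg (fun m => m.left) h
        change ai.left ≫ Sigma.ι Vs i = aj.left ≫ Sigma.ι Vs i at h'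
        exact (cancel_mono (Sigma.ι Vs i)).1 h'
      rw [this]
    · haveI : IsEmpty Z.left := by
        constructor
        intro z
        have h' := congrArg (fun m => m.left.base z) h
        change (Sigma.ι Vs i).base (ai.left.base z) = (Sigma.ι Vs j).base (aj.left.base z) at h'
        have := (sigmaι_eq_iff Vs i j _ _).1 h'
        exact hij (congrArg Sigma.fst this)
      haveI := SHC.subsingleton_sections_of_isEmpty T.X₂ Z
      exact Subsingleton.elim _ _
  obtain ⟨t𝕍, ht𝕍, -⟩ := glue T.X₂ 𝕍 (fun k : σ => V k.1) ιk hcov𝕍 tk hcompat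
  have hgt : (T.g.hom.app (op 𝕍)).hom t𝕍 = (T.X₃.obj.map f.op).hom s := by
    let y : ∀ k : σ, T.X₃.obj.obj (op (V k.1)) := fun k => (T.X₃.obj.map (g k.1).op).hom s
    have hy : ∀ (i j : σ) (Z : S.Etale) (ai : Z ⟶ V i.1) (aj : Z ⟶ V j.1),
        ai ≫ ιk i = aj ≫ ιk j →
        (T.X₃.obj.map ai.op).hom (y i) = (T.X₃.obj.map aj.op).hom (y j) := by
      intro i j Z ai aj h
      have h2 : ai ≫ g i.1 = aj ≫ g j.1 := by
        rw [← hιf i, ← hιf j, ← Category.assoc, ← Category.assoc, h]
      have e := congrArg (fun m => (T.X₃.obj.map m.op).hom s) h2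
      simp only [op_comp, Functor.map_comp, AddCommGrpCat.hom_comp, AddMonoidHom.comp_apply] at e
      exact e
    obtain ⟨s', -, huniq⟩ := glue T.X₃ 𝕍 (fun k : σ => V k.1) ιk hcov𝕍 y hy
    refine (huniq _ ?_).trans (huniq _ ?_).symm
    · intro k
      have nat := congrArg (fun m => m.hom t𝕍) (T.g.hom.naturality (ιk k).op)
      simp only [AddCommGrpCat.hom_comp, AddMonoidHom.comp_apply] at nat
      refine nat.symm.trans ?_
      rw [ht𝕍 k]
      exact htk k
    · intro k
      have e := congrArg (fun m => (T.X₃.obj.map m.op).hom s) (hιf k)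
      simp only [op_comp, Functor.map_comp, AddCommGrpCat.hom_comp, AddMonoidHom.comp_apply] at e
      exact e
  have hsurjf : Function.Surjective f.left.base := by
    intro x
    have hx := ht (Set.mem_univ x)
    simp only [Set.mem_iUnion] at hx
    obtain ⟨y, hy, z, hz⟩ := hx
    refine ⟨(ιk ⟨y, hy⟩).left.base z, ?_⟩
    have e := congrArg (fun m => m.left.base z) (hιf ⟨y, hy⟩)
    exact e.trans hz
  have hcovW : Sieve.ofArrows (fun i => (sgl f i).left) (fun i => (sgl f i).hom) ∈
      S.smallEtaleTopology W := by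
    apply SHC.mem_of_pointwise
    intro x
    obtain ⟨z, hz⟩ := hsurjf x
    exact ⟨𝕍, f, z, Sieve.ofArrows_mk _ _ PUnit.unit, hz⟩
  exact lemmaB T hT W (sgl f) hcovW (hP W 𝕍 f inferInstance inferInstance hsurjf 0) s
    (fun _ => t𝕍) (fun _ => hgt)

/-- (c): two out of three -/
theorem affAcyclic_X₃ (T : ShortComplex (EtCoh.Ab S)) (hT : T.ShortExact)
    (h1 : AffAcyclic T.X₁) (h2 : AffAcyclic T.X₂) : AffAcyclic T.X₃ := by
  intro W V f hW hV hf q
  haveI := hW
  haveI := hV
  refine isZero_cechH_X₃ T hT W (sgl f) (fun n a => ?_) q (h2 W V f hW hV hf q)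
    (h1 W V f hW hV hf (q+1))
  haveI : IsAffine (∏ᶜ (sgl f ∘ a)).left.left := isAffine_pi W (n+1) _ (fun k => hV)
  exact surjective_of_affAcyclic T hT h1 _

end Groth.Agent.Helper1.CE
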