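import Mathlib
import Groth.Prelude.Def_EtCore
import Groth.Agent.Lib.Helper26.EtSecPt1

/-!
# Étale cohomology of strictly henselian local rings vanishes (helper1)
-/

set_option autoImplicit false
set_option linter.unusedSectionVars false
set_option linter.style.haveILetI false

open CategoryTheory CategoryTheory.Limits AlgebraicGeometry Opposite

namespace Groth.Agent.Helper1.SHC

universe u v

/-- `ULift ℤ` is a projective abelian group. -/
theorem projective_uliftInt : Projective (AddCommGrpCat.of (ULift.{v} ℤ)) := by
  constructor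
  intro E Y f e he
  rw [AddCommGrpCat.epi_iff_surjective] at he
  obtain ⟨a, ha⟩ := he (f.hom ⟨1⟩)
  have key : ∀ g h : ULift.{v} ℤ →+ Y, g ⟨1⟩ = h ⟨1⟩ → g = h := by
    intro g h hgh
    have h1 : g.comp AddEquiv.ulift.symm.toAddMonoidHom =
        h.comp AddEquiv.ulift.symm.toAddMonoidHom := AddMonoidHom.ext_int hgh
    ext ⟨n⟩
    exact DFunLike.congr_fun h1 n
  refine ⟨AddCommGrpCat.ofHom ((zmultiplesHom E a).comp AddEquiv.ulift.toAddMonoidHom), ?_⟩
  apply AddCommGrpCat.hom_ext
  apply key
  change e.hom ((zmultiplesHom E a) (1 : ℤ)) = _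
  rw [zmultiplesHom_apply, one_zsmul]
  exact ha

section

variable (R : Type u) [CommRing R] [HenselianLocalRing R]
  [IsSepClosed (IsLocalRing.ResidueField R)]

/-- every covering sieve of the terminal object of the small étale site of a strictly henselian
local ring contains the identity -/
theorem id_mem_of_covering (S : Sieve (EtCoh.top (Spec (CommRingCat.of R))))
    (hS : S ∈ (Spec (CommRingCat.of R)).smallEtaleTopology (EtCoh.top (Spec (CommRingCat.of R)))) :
    S (𝟙 _) := by
  have eX : (Spec (CommRingCat.of R)).smallEtaleTopology =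
      ((Spec (CommRingCat.of R)).smallPretopology (P := EtCoh.etaleMP)
        (Q := EtCoh.etaleMP)).toGrothendieck :=
    Scheme.smallGrothendieckTopology_eq_toGrothendieck_smallPretopology _ le_rfl
  rw [eX] at hS
  replace hS := (Scheme.mem_toGrothendieck_smallPretopology _ S).1 hS
  obtain ⟨V, g, v, hg, hP, hv⟩ := hS (IsLocalRing.closedPoint R)
  let gl : V.left ⟶ Spec (CommRingCat.of R) := g.left
  haveI : Etale gl := hP
  obtain ⟨s, hs1, -⟩ := Groth.Agent.Helper26.EtSecPt.exists_section_through R V.left gl v hv
  have hw : g.left ≫ (EtCoh.top (Spec (CommRingCat.of R))).hom = V.hom := Over.w g.hom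
  have hV : s ≫ V.hom = (EtCoh.top (Spec (CommRingCat.of R))).hom := by
    rw [← hw, ← Category.assoc]
    have : s ≫ g.left = 𝟙 _ := hs1
    rw [this]
    exact Category.id_comp _
  let s' : EtCoh.top (Spec (CommRingCat.of R)) ⟶ V :=
    MorphismProperty.Over.homMk s hV trivial
  have : s' ≫ g = 𝟙 _ := (EtCore.topIsTerminal _).hom_ext _ _
  rw [← this]
  exact S.downward_closed hg s'

/-- global sections preserve epimorphisms on a strictly henselian local scheme -/
theorem preservesEpimorphisms_gsec :
    (EtCore.gsec (Spec (CommRingCat.of R))).PreservesEpimorphisms := by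
  constructor
  intro A B e he
  rw [AddCommGrpCat.epi_iff_surjective]
  intro b
  haveI hls : Sheaf.IsLocallySurjective e := (Sheaf.isLocallySurjective_iff_epi' _ e).mpr he
  have hmem := Presheaf.imageSieve_mem (Spec (CommRingCat.of R)).smallEtaleTopology e.hom
    (U := op (EtCoh.top (Spec (CommRingCat.of R)))) b
  obtain ⟨a, ha⟩ := id_mem_of_covering R _ hmem
  refine ⟨a, ha.trans ?_⟩
  rw [op_id, B.obj.map_id]
  rfl

/-- the constant sheaf `ℤ` is projective -/
theorem projective_constant :
    Projective ((constantSheaf (Spec (CommRingCat.of R)).smallEtaleTopology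
      AddCommGrpCat.{u + 1}).obj (AddCommGrpCat.of (ULift ℤ))) := by
  haveI := preservesEpimorphisms_gsec R
  exact (EtCore.constAdj (Spec (CommRingCat.of R))).map_projective _ projective_uliftInt

theorem main0073 (F : EtCoh.Ab (Spec (CommRingCat.of R))) (p : ℕ) (hp : 1 ≤ p) :
    Subsingleton (EtCoh.H (Spec (CommRingCat.of R)) F p) := by
  haveI := projective_constant R
  obtain ⟨n, rfl⟩ : ∃ n, p = n + 1 := ⟨p - 1, by omega⟩
  exact subsingleton_of_forall_eq 0 fun x => Abelian.Ext.eq_zero_of_projective x

end

end Groth.Agent.Helper1.SHC
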