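import Mathlib
import Groth.Prelude.Def_EtCech
import Groth.Prelude.Def_EtCore
import Groth.Agent.Lib.Helper1.CH4
import Groth.Agent.Lib.Helper1.SHC1

/-!
# Cohomology of affine-acyclic sheaves on an affine scheme vanishes (helper1, CH5)
-/

universe u
set_option linter.unusedSectionVars false
set_option autoImplicit false
set_option linter.style.haveILetI false
open CategoryTheory CategoryTheory.Limits Opposite AlgebraicGeometry

namespace Groth.Agent.Helper1.CE

variable {S : Scheme.{u}}

open Abelian

/-- the canonical injective short exact sequence -/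
noncomputable abbrev injSES (F : EtCoh.Ab S) : ShortComplex (EtCoh.Ab S) :=
  ShortComplex.mk (Injective.ι F) (cokernel.π (Injective.ι F)) (cokernel.condition _)

lemma injSES_shortExact (F : EtCoh.Ab S) : (injSES F).ShortExact :=
  { exact := ShortComplex.exact_cokernel _
    mono_f := inferInstanceAs (Mono (Injective.ι F))
    epi_g := inferInstanceAs (Epi (cokernel.π (Injective.ι F))) }

/-- lifting morphisms from the constant sheaf `ℤ` along an epi that is surjective on global
sections -/
lemma exists_lift_const {A B : EtCoh.Ab S} (g : A ⟶ B)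
    (hg : Function.Surjective (g.hom.app (op (EtCoh.top S))).hom)
    (φ : (constantSheaf S.smallEtaleTopology AddCommGrpCat.{u+1}).obj
      (AddCommGrpCat.of (ULift.{u+1} ℤ)) ⟶ B) :
    ∃ φ' : (constantSheaf S.smallEtaleTopology AddCommGrpCat.{u+1}).obj
      (AddCommGrpCat.of (ULift.{u+1} ℤ)) ⟶ A, φ' ≫ g = φ := by
  let adj := EtCore.constAdj S
  haveI : Epi ((EtCore.gsec S).map g) := by
    rw [AddCommGrpCat.epi_iff_surjective]
    exact hg
  haveI := SHC.projective_uliftInt.{u+1}
  let χ := Projective.factorThru ((adj.homEquiv _ _) φ) ((EtCore.gsec S).map g)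
  have hχ : χ ≫ (EtCore.gsec S).map g = adj.homEquiv _ _ φ := Projective.factorThru_comp _ _
  refine ⟨(adj.homEquiv _ _).symm χ, ?_⟩
  rw [← adj.homEquiv_naturality_right_symm, hχ, Equiv.symm_apply_apply]

/-- (d): cohomology of affine-acyclic sheaves vanishes on affine schemes -/
theorem subsingleton_H_of_affAcyclic [IsAffine S] :
    ∀ (p : ℕ) (F : EtCoh.Ab S), AffAcyclic F → Subsingleton (EtCoh.H S F (p+1))
  | 0, F, hF => by
    refine subsingleton_of_forall_eq 0 fun ξ => ?_
    have hE := injSES_shortExact F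
    obtain ⟨x₃, hx₃⟩ := Ext.covariant_sequence_exact₁ _ hE (ξ : Ext _ (injSES F).X₁ 1)
      (Ext.eq_zero_of_injective _) (rfl : 0 + 1 = 1)
    haveI : IsAffine (EtCoh.top S).left := inferInstanceAs (IsAffine S)
    have hsurj := surjective_of_affAcyclic (injSES F) hE hF (EtCoh.top S)
    obtain ⟨φ', hφ'⟩ := exists_lift_const (injSES F).g hsurj (Ext.homEquiv₀ x₃)
    rw [← hx₃, ← Ext.mk₀_homEquiv₀_apply x₃, ← hφ', ← Ext.mk₀_comp_mk₀,
      Ext.comp_assoc_of_second_deg_zero, hE.comp_extClass, Ext.comp_zero]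
  | p+1, F, hF => by
    refine subsingleton_of_forall_eq 0 fun ξ => ?_
    have hE := injSES_shortExact F
    obtain ⟨x₃, hx₃⟩ := Ext.covariant_sequence_exact₁ _ hE (ξ : Ext _ (injSES F).X₁ (p+1+1))
      (Ext.eq_zero_of_injective _) (rfl : (p + 1) + 1 = p + 1 + 1)
    have hQ : AffAcyclic (injSES F).X₃ :=
      affAcyclic_X₃ (injSES F) hE hF (affAcyclic_of_injective (Injective.under F))
    haveI : Subsingleton (Ext ((constantSheaf S.smallEtaleTopology AddCommGrpCat.{u+1}).obj
        (AddCommGrpCat.of (ULift.{u+1} ℤ))) (injSES F).X₃ (p+1)) :=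
      subsingleton_H_of_affAcyclic p (injSES F).X₃ hQ
    rw [← hx₃, Subsingleton.elim x₃ 0, Ext.zero_comp]

end Groth.Agent.Helper1.CE
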