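import Mathlib

/-!
# Reflecting exactness along a faithfully flat base change given by pushout squares (helper1, CH6)
-/

universe u
set_option linter.unusedSectionVars false
set_option autoImplicit false
open CategoryTheory CategoryTheory.Limits TensorProduct

namespace Groth.Agent.Helper1.CE

theorem tensorEquiv_exists {A B : Type u} [CommRing A] [CommRing B] [Algebra A B]
    (R : Type u) [CommRing R] [Algebra A R] {R' : CommRingCat.{u}}
    (i : CommRingCat.of R ⟶ R') (j : CommRingCat.of B ⟶ R')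
    (h : IsPushout (CommRingCat.ofHom (algebraMap A R)) (CommRingCat.ofHom (algebraMap A B)) i j) :
    ∃ e : R ⊗[A] B ≃+ R', ∀ r b, e (r ⊗ₜ b) = i.hom r * j.hom b := by
  let φ := (CommRingCat.isPushout_tensorProduct A R B).isoIsPushout _ _ h
  have h1 : ∀ r : R, φ.hom.hom (r ⊗ₜ 1) = i.hom r := fun r => by
    have := (CommRingCat.isPushout_tensorProduct A R B).inl_isoIsPushout_hom _ _ h
    exact congrArg (fun m => m.hom r) this
  have h2 : ∀ b : B, φ.hom.hom (1 ⊗ₜ b) = j.hom b := fun b => by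
    have := (CommRingCat.isPushout_tensorProduct A R B).inr_isoIsPushout_hom _ _ h
    exact congrArg (fun m => m.hom b) this
  refine ⟨φ.commRingCatIsoToRingEquiv.toAddEquiv, fun r b => ?_⟩
  have e : (r ⊗ₜ[A] b : R ⊗[A] B) = (r ⊗ₜ 1) * (1 ⊗ₜ b) := by
    rw [Algebra.TensorProduct.tmul_mul_tmul, mul_one, one_mul]
  show φ.hom.hom (r ⊗ₜ b) = _
  rw [e, map_mul, h1, h2]

theorem exact_of_faithfullyFlat_pushout {A B : Type u} [CommRing A] [CommRing B] [Algebra A B]
    [Module.FaithfullyFlat A B]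
    (R₁ R₂ R₃ : Type u) [CommRing R₁] [CommRing R₂] [CommRing R₃]
    [Algebra A R₁] [Algebra A R₂] [Algebra A R₃]
    {R₁' R₂' R₃' : CommRingCat.{u}}
    (i₁ : CommRingCat.of R₁ ⟶ R₁') (j₁ : CommRingCat.of B ⟶ R₁')
    (i₂ : CommRingCat.of R₂ ⟶ R₂') (j₂ : CommRingCat.of B ⟶ R₂')
    (i₃ : CommRingCat.of R₃ ⟶ R₃') (j₃ : CommRingCat.of B ⟶ R₃')
    (h₁ : IsPushout (CommRingCat.ofHom (algebraMap A R₁)) (CommRingCat.ofHom (algebraMap A B)) i₁ j₁)
    (h₂ : IsPushout (CommRingCat.ofHom (algebraMap A R₂)) (CommRingCat.ofHom (algebraMap A B)) i₂ j₂)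
    (h₃ : IsPushout (CommRingCat.ofHom (algebraMap A R₃)) (CommRingCat.ofHom (algebraMap A B)) i₃ j₃)
    (f : R₁ →+ R₂) (g : R₂ →+ R₃) (f' : R₁' →+ R₂') (g' : R₂' →+ R₃')
    (hf : ∀ c r, f (algebraMap A R₁ c * r) = algebraMap A R₂ c * f r)
    (hg : ∀ c r, g (algebraMap A R₂ c * r) = algebraMap A R₃ c * g r)
    (hf' : ∀ b r, f' (j₁.hom b * r) = j₂.hom b * f' r)
    (hg' : ∀ b r, g' (j₂.hom b * r) = j₃.hom b * g' r)
    (cf : ∀ r, f' (i₁.hom r) = i₂.hom (f r)) (cg : ∀ r, g' (i₂.hom r) = i₃.hom (g r))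
    (hgf : ∀ r, g (f r) = 0)
    (hex : ∀ y, g' y = 0 → ∃ x, f' x = y) :
    ∀ y, g y = 0 → ∃ x, f x = y := by
  obtain ⟨e₁, he₁⟩ := tensorEquiv_exists R₁ i₁ j₁ h₁
  obtain ⟨e₂, he₂⟩ := tensorEquiv_exists R₂ i₂ j₂ h₂
  obtain ⟨e₃, he₃⟩ := tensorEquiv_exists R₃ i₃ j₃ h₃
  let fl : R₁ →ₗ[A] R₂ :=
    { toFun := f
      map_add' := map_add f
      map_smul' := fun c r => by
        rw [Algebra.smul_def, hf, RingHom.id_apply, Algebra.smul_def] }
  let gl : R₂ →ₗ[A] R₃ :=
    { toFun := g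
      map_add' := map_add g
      map_smul' := fun c r => by
        rw [Algebra.smul_def, hg, RingHom.id_apply, Algebra.smul_def] }
  have sq₁ : ∀ z : R₁ ⊗[A] B, e₂ (fl.rTensor B z) = f' (e₁ z) := by
    intro z
    induction z using TensorProduct.induction_on with
    | zero => simp
    | tmul r b =>
      rw [LinearMap.rTensor_tmul, he₂, he₁, mul_comm (i₁.hom r), hf', cf, mul_comm]
      rfl
    | add x y hx hy => rw [map_add, map_add, hx, hy, map_add, map_add]
  have sq₂ : ∀ z : R₂ ⊗[A] B, e₃ (gl.rTensor B z) = g' (e₂ z) := by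
    intro z
    induction z using TensorProduct.induction_on with
    | zero => simp
    | tmul r b =>
      rw [LinearMap.rTensor_tmul, he₃, he₂, mul_comm (i₂.hom r), hg', cg, mul_comm]
      rfl
    | add x y hx hy => rw [map_add, map_add, hx, hy, map_add, map_add]
  have hex' : Function.Exact (fl.rTensor B) (gl.rTensor B) := by
    intro y
    constructor
    · intro hy
      have h0 : g' (e₂ y) = 0 := by rw [← sq₂, hy, map_zero]
      obtain ⟨x', hx'⟩ := hex _ h0
      refine ⟨e₁.symm x', ?_⟩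
      apply e₂.injective
      rw [sq₁, AddEquiv.apply_symm_apply, hx']
    · rintro ⟨x, rfl⟩
      have : gl.comp fl = 0 := LinearMap.ext hgf
      rw [← LinearMap.comp_apply, ← LinearMap.rTensor_comp, this, LinearMap.rTensor_zero,
        LinearMap.zero_apply]
  have hex0 := (Module.FaithfullyFlat.rTensor_exact_iff_exact A B fl gl).1 hex'
  intro y hy
  exact (hex0 y).1 hy

end Groth.Agent.Helper1.CE
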