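import Mathlib
import Groth.Prelude.Def_EtCech
import Groth.Prelude.Def_EtGm
import Groth.Agent.Lib.Helper1.CH4
import Groth.Agent.Lib.Helper1.CH6

/-!
# The Čech complex of `G_a` for a single affine cover, at ring level (helper1, CH7)
-/

universe w v u
set_option linter.unusedSectionVars false
set_option autoImplicit false
set_option linter.style.haveILetI false
open CategoryTheory CategoryTheory.Limits Opposite AlgebraicGeometry

namespace Groth.Agent.Helper1.CE

section General
variable {D : Type u} [Category.{v} D] [HasFiniteProducts D] {ι : Type w} (Y : ι → D)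
  (Q : Dᵒᵖ ⥤ AddCommGrpCat.{w})

/-- evaluation of morphisms at an element, as an additive map -/
def evalHom {A B : AddCommGrpCat.{w}} (x : A) : (A ⟶ B) →+ B where
  toFun m := m.hom x
  map_zero' := rfl
  map_add' _ _ := rfl

lemma d_ev_apply {n : ℕ} (T : D) (σ : Fin (n+2) → Sg Y T) (x : (cech Y Q).X n) :
    (ev Y Q T σ).hom (((cech Y Q).d n (n+1)).hom x) =
      ∑ j : Fin (n+2), (-1:ℤ)^(j:ℕ) • (ev Y Q T (σ ∘ (SimplexCategory.δ j).toOrderHom)).hom x := by
  have h := congrArg (fun m => m.hom x) (d_ev Y Q T σ)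
  simp only [AddCommGrpCat.hom_comp, AddMonoidHom.comp_apply] at h
  refine h.trans ?_
  show evalHom x (∑ j : Fin (n+2), (-1:ℤ)^(j:ℕ) • ev Y Q T (σ ∘ (SimplexCategory.δ j).toOrderHom)) = _
  rw [map_sum]
  refine Finset.sum_congr rfl fun j _ => ?_
  rw [map_zsmul]
  rfl

end General

section AltSum
variable {ι : Type*} [Fintype ι] {R R' : Type*} [CommRing R] [CommRing R']

/-- integer combination of ring homomorphisms, as an additive map -/
def altSum (c : ι → ℤ) (φ : ι → (R →+* R')) : R →+ R' := ∑ j, c j • (φ j).toAddMonoidHom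

lemma altSum_apply (c : ι → ℤ) (φ : ι → (R →+* R')) (r : R) :
    altSum c φ r = ∑ j, c j • φ j r := by
  simp [altSum, AddMonoidHom.finset_sum_apply]

lemma altSum_mul (c : ι → ℤ) (φ : ι → (R →+* R')) (a : R) (a' : R') (h : ∀ j, φ j a = a')
    (r : R) : altSum c φ (a * r) = a' * altSum c φ r := by
  rw [altSum_apply, altSum_apply, Finset.mul_sum]
  refine Finset.sum_congr rfl fun j _ => ?_
  rw [map_mul, h, mul_smul_comm]

lemma altSum_comm {R₂ R₂' : Type*} [CommRing R₂] [CommRing R₂'] (c : ι → ℤ)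
    (φ : ι → (R →+* R')) (φ' : ι → (R₂ →+* R₂')) (ψ : R →+* R₂) (ψ' : R' →+* R₂')
    (h : ∀ j r, φ' j (ψ r) = ψ' (φ j r)) (r : R) :
    altSum c φ' (ψ r) = ψ' (altSum c φ r) := by
  rw [altSum_apply, altSum_apply, map_sum]
  refine Finset.sum_congr rfl fun j _ => ?_
  rw [map_zsmul, h]

end AltSum

section Ring
variable {S : Scheme.{u}} {W : S.Etale}

/-- ring of functions of an object of `Over W` -/
noncomputable abbrev RR (T : Over W) : CommRingCat.{u} := Γ(T.left.left, ⊤)

/-- pullback of functions -/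
noncomputable abbrev pb {T T' : Over W} (m : T' ⟶ T) : RR T ⟶ RR T' := m.left.left.appTop

lemma pb_comp {T T' T'' : Over W} (m' : T'' ⟶ T') (m : T' ⟶ T) : pb (m' ≫ m) = pb m ≫ pb m' :=
  Scheme.Hom.comp_appTop _ _

lemma pb_id (T : Over W) : pb (𝟙 T) = 𝟙 _ := Scheme.Hom.id_appTop

lemma pb_comp_apply {T T' T'' : Over W} (m' : T'' ⟶ T') (m : T' ⟶ T) (r : RR T) :
    (pb (m' ≫ m)).hom r = (pb m').hom ((pb m).hom r) := by
  rw [pb_comp]
  rfl

/-- the structure map from the functions of the base -/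
noncomputable abbrev str (T : Over W) : Γ(W.left, ⊤) ⟶ RR T := T.hom.left.appTop

lemma str_pb {T T' : Over W} (m : T' ⟶ T) : str T ≫ pb m = str T' := by
  have h := Over.w m
  have h2 : m.left.left ≫ T.hom.left = T'.hom.left := congrArg (fun k => k.left) h
  exact (Scheme.Hom.comp_appTop m.left.left T.hom.left).symm.trans
    (congrArg Scheme.Hom.appTop h2)

lemma str_pb_apply {T T' : Over W} (m : T' ⟶ T) (c : Γ(W.left, ⊤)) :
    (pb m).hom ((str T).hom c) = (str T').hom c :=
  congrArg (fun k => k.hom c) (str_pb m)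

/-- the restriction of `G_a` to `Over W` -/
noncomputable abbrev QGa : (Over W)ᵒᵖ ⥤ AddCommGrpCat.{u+1} :=
  (Over.forget W).op ⋙ (EtCoh.Ga S).obj

lemma QGa_map_apply {T T' : Over W} (m : T' ⟶ T) (x : ULift.{u+1} (RR T)) :
    ((QGa (W := W)).map m.op).hom x = ULift.up ((pb m).hom x.down) := rfl

variable {V : S.Etale} (f : V ⟶ W)

/-- the cover as an object of `Over W` -/
noncomputable abbrev VV : Over W := Over.mk f

/-- the fibre powers -/
noncomputable abbrev PP (n : ℕ) : Over W := ∏ᶜ (fun _ : Fin (n+1) => VV f)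

/-- coface morphisms -/
noncomputable def cof (n : ℕ) (j : Fin (n+2)) : PP f (n+1) ⟶ PP f n :=
  Pi.lift (fun k => Pi.π (fun _ : Fin (n+2) => VV f) (j.succAbove k))

lemma cof_π (n : ℕ) (j : Fin (n+2)) (k : Fin (n+1)) :
    cof f n j ≫ Pi.π (fun _ : Fin (n+1) => VV f) k =
      Pi.π (fun _ : Fin (n+2) => VV f) (j.succAbove k) :=
  Pi.lift_π _ _

/-- the sign -/
def sgn (n : ℕ) : Fin n → ℤ := fun j => (-1:ℤ)^(j:ℕ)

/-- the ring-level differential -/
noncomputable def DD (n : ℕ) : RR (PP f n) →+ RR (PP f (n+1)) :=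
  altSum (sgn (n+2)) (fun j => (pb (cof f n j)).hom)

/-- the component of a cochain -/
noncomputable def theta (n : ℕ) (x : (cech (sgl f) (QGa (W := W))).X n) : RR (PP f n) :=
  ((Pi.π (fun b : Fin (n+1) → PUnit.{u+2} => (QGa (W := W)).obj (op (∏ᶜ (sgl f ∘ b))))
    (fun _ => PUnit.unit)).hom x).down

/-- the cochain with a given component -/
noncomputable def mkθ (n : ℕ) (r : RR (PP f n)) : (cech (sgl f) (QGa (W := W))).X n :=
  mkC (sgl f) (QGa (W := W)) (fun _ => ULift.up r)

lemma theta_mkθ (n : ℕ) (r : RR (PP f n)) : theta f n (mkθ f n r) = r := by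
  unfold theta mkθ
  rw [π_mkC]

lemma theta_injective (n : ℕ) : Function.Injective (theta f n) := by
  intro x x' h
  refine pi_ext (A := fun b : Fin (n+1) → PUnit.{u+2} =>
    (QGa (W := W)).obj (op (∏ᶜ (sgl f ∘ b)))) _ _ (fun b => ?_)
  have hb : b = fun _ => PUnit.unit := Subsingleton.elim _ _
  subst hb
  exact ULift.ext _ _ h

lemma theta_zero (n : ℕ) : theta f n 0 = 0 :=
  congrArg ULift.down (map_zero (Pi.π (fun b : Fin (n+1) → PUnit.{u+2} =>
    (QGa (W := W)).obj (op (∏ᶜ (sgl f ∘ b)))) (fun _ => PUnit.unit)).hom)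

lemma down_sum {α : Type u} [AddCommGroup α] {κ : Type*} (s : Finset κ)
    (g : κ → ULift.{w} α) : (∑ j ∈ s, g j).down = ∑ j ∈ s, (g j).down :=
  map_sum (AddEquiv.ulift : ULift.{w} α ≃+ α) g s

lemma theta_d (n : ℕ) (x : (cech (sgl f) (QGa (W := W))).X n) :
    theta f (n+1) (((cech (sgl f) (QGa (W := W))).d n (n+1)).hom x) = DD f n (theta f n x) := by
  unfold theta
  rw [π_eq_ev, d_ev_apply]
  refine (down_sum (α := RR (PP f (n+1))) Finset.univ _).trans ?_
  unfold DD
  rw [altSum_apply]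
  refine Finset.sum_congr rfl fun j _ => ?_
  rfl

lemma DD_DD (n : ℕ) (r : RR (PP f n)) : DD f (n+1) (DD f n r) = 0 := by
  have h1 := theta_d f n (mkθ f n r)
  rw [theta_mkθ] at h1
  rw [← h1, ← theta_d, d_d_apply, theta_zero]

end Ring

end Groth.Agent.Helper1.CE
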