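import Mathlib
import Groth.Prelude.Def_EtCech
import Groth.Prelude.Def_EtGm
import Groth.Agent.Lib.Helper1.CH5
import Groth.Agent.Lib.Helper1.CH7

/-!
# `G_a` is affine-acyclic; `H^p(S_ét, G_a) = 0` for affine `S` (helper1, CH8): S0109
-/

universe u
set_option linter.unusedSectionVars false
set_option autoImplicit false
set_option linter.style.haveILetI false
open CategoryTheory CategoryTheory.Limits Opposite AlgebraicGeometry

namespace Groth.Agent.Helper1.CE

variable {S : Scheme.{u}} {W V : S.Etale} (f : V ⟶ W)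

/-- base-changed fibre powers -/
noncomputable abbrev PV (n : ℕ) : Over W := PP f n ⨯ VV f

noncomputable def cofV (n : ℕ) (j : Fin (n+2)) : PV f (n+1) ⟶ PV f n :=
  prod.map (cof f n j) (𝟙 (VV f))

lemma cofV_fst (n : ℕ) (j : Fin (n+2)) :
    cofV f n j ≫ prod.fst = prod.fst ≫ cof f n j := prod.map_fst _ _

lemma cofV_snd (n : ℕ) (j : Fin (n+2)) : cofV f n j ≫ prod.snd = prod.snd :=
  (prod.map_snd _ _).trans (Category.comp_id _)

noncomputable def DDV (n : ℕ) : RR (PV f n) →+ RR (PV f (n+1)) :=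
  altSum (sgn (n+2)) (fun j => (pb (cofV f n j)).hom)

/-- the tuple defining the contraction -/
noncomputable def gamTuple (n : ℕ) : Fin (n+2) → (PV f n ⟶ VV f) :=
  Fin.cons (α := fun _ => (PV f n ⟶ VV f)) prod.snd
    (fun k => prod.fst ≫ Pi.π (fun _ : Fin (n+1) => VV f) k)

lemma gamTuple_zero (n : ℕ) : gamTuple f n 0 = prod.snd := rfl

lemma gamTuple_succ (n : ℕ) (k : Fin (n+1)) :
    gamTuple f n k.succ = prod.fst ≫ Pi.π (fun _ : Fin (n+1) => VV f) k := rfl

/-- contraction morphism -/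
noncomputable def gam (n : ℕ) : PV f n ⟶ PV f (n+1) :=
  prod.lift (Pi.lift (gamTuple f n)) prod.snd

lemma gam_fst (n : ℕ) : gam f n ≫ prod.fst = Pi.lift (gamTuple f n) := prod.lift_fst _ _

lemma gam_snd (n : ℕ) : gam f n ≫ prod.snd = prod.snd := prod.lift_snd _ _

lemma gam_fst_π (n : ℕ) (k : Fin (n+2)) :
    gam f n ≫ prod.fst ≫ Pi.π (fun _ : Fin (n+2) => VV f) k = gamTuple f n k :=
  (Category.assoc _ _ _).symm.trans
    ((congrArg (fun m => m ≫ Pi.π (fun _ : Fin (n+2) => VV f) k) (gam_fst f n)).trans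
      (Pi.lift_π _ _))

lemma gam_cofV_zero (n : ℕ) : gam f n ≫ cofV f n 0 = 𝟙 _ := by
  apply Limits.prod.hom_ext
  · rw [Category.assoc, cofV_fst, Category.id_comp]
    apply Pi.hom_ext
    intro k
    rw [Category.assoc, Category.assoc, cof_π, gam_fst_π, Fin.succAbove_zero, gamTuple_succ]
  · rw [Category.assoc, cofV_snd, gam_snd, Category.id_comp]

lemma gam_cofV_succ (n : ℕ) (j : Fin (n+2)) :
    gam f (n+1) ≫ cofV f (n+1) j.succ = cofV f n j ≫ gam f n := by
  apply Limits.prod.hom_ext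
  · rw [Category.assoc, cofV_fst, Category.assoc]
    apply Pi.hom_ext
    intro k
    rw [Category.assoc, Category.assoc, cof_π, gam_fst_π, Category.assoc, Category.assoc,
      gam_fst_π]
    refine Fin.cases ?_ (fun k' => ?_) k
    · rw [Fin.succ_succAbove_zero, gamTuple_zero, gamTuple_zero, cofV_snd]
    · rw [Fin.succ_succAbove_succ, gamTuple_succ, gamTuple_succ, ← Category.assoc, cofV_fst,
        Category.assoc, cof_π]
  · rw [Category.assoc, cofV_snd, gam_snd, Category.assoc, gam_snd, cofV_snd]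

lemma homotopyV (n : ℕ) (r : RR (PV f (n+1))) :
    DDV f n ((pb (gam f n)).hom r) + (pb (gam f (n+1))).hom (DDV f (n+1) r) = r := by
  have e2 : (pb (gam f (n+1))).hom (DDV f (n+1) r) =
      r + ∑ j : Fin (n+2), sgn (n+3) j.succ • (pb (cofV f n j)).hom ((pb (gam f n)).hom r) := by
    unfold DDV
    rw [altSum_apply, map_sum, Fin.sum_univ_succ]
    congr 1
    · rw [map_zsmul, ← pb_comp_apply, gam_cofV_zero, pb_id]
      simp [sgn]
    · refine Finset.sum_congr rfl fun j _ => ?_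
      rw [map_zsmul, ← pb_comp_apply, gam_cofV_succ, pb_comp_apply]
  rw [e2]
  unfold DDV
  rw [altSum_apply, add_left_comm, ← Finset.sum_add_distrib, Finset.sum_eq_zero, add_zero]
  intro j _
  simp only [sgn, Fin.val_succ, pow_succ, mul_neg, mul_one, neg_smul, add_neg_cancel]

lemma exactV (n : ℕ) (y : RR (PV f (n+1))) (hy : DDV f (n+1) y = 0) :
    ∃ x, DDV f n x = y := by
  refine ⟨(pb (gam f n)).hom y, ?_⟩
  have h := homotopyV f n y
  rw [hy, map_zero, add_zero] at h
  exact h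

theorem DD_exact [IsAffine W.left] [IsAffine V.left] (hf : Function.Surjective f.left.base)
    (n : ℕ) (r : RR (PP f (n+1))) (hr : DD f (n+1) r = 0) : ∃ r', DD f n r' = r := by
  letI alg : ∀ T : Over W, Algebra Γ(W.left, ⊤) (RR T) := fun T => (str T).hom.toAlgebra
  haveI : Module.FaithfullyFlat Γ(W.left, ⊤) (RR (VV f)) :=
    (Flat.flat_and_surjective_iff_faithfullyFlat_of_isAffine f.left).1 ⟨inferInstance, ⟨hf⟩⟩
  haveI haff : ∀ k, IsAffine (PP f k).left.left :=
    fun k => isAffine_pi W (k+1) _ (fun _ => inferInstanceAs (IsAffine V.left))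
  haveI : IsAffine (VV f).left.left := inferInstanceAs (IsAffine V.left)
  have hpo : ∀ k, IsPushout (CommRingCat.ofHom (algebraMap Γ(W.left, ⊤) (RR (PP f k))))
      (CommRingCat.ofHom (algebraMap Γ(W.left, ⊤) (RR (VV f))))
      (pb (prod.fst : PV f k ⟶ PP f k)) (pb (prod.snd : PV f k ⟶ VV f)) := fun k =>
    isPushout_appTop_of_isPullback (isPullback_prod W (PP f k) (VV f))
  have hlin : ∀ k c r, DD f k (algebraMap Γ(W.left, ⊤) (RR (PP f k)) c * r) =
      algebraMap Γ(W.left, ⊤) (RR (PP f (k+1))) c * DD f k r := fun k c r =>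
    altSum_mul _ _ _ _ (fun j => str_pb_apply (cof f k j) c) r
  have hlinV : ∀ k b r, DDV f k ((pb (prod.snd : PV f k ⟶ VV f)).hom b * r) =
      (pb (prod.snd : PV f (k+1) ⟶ VV f)).hom b * DDV f k r := fun k b r =>
    altSum_mul _ _ _ _ (fun j => by rw [← pb_comp_apply, cofV_snd]) r
  have hcomm : ∀ k r, DDV f k ((pb (prod.fst : PV f k ⟶ PP f k)).hom r) =
      (pb (prod.fst : PV f (k+1) ⟶ PP f (k+1))).hom (DD f k r) := fun k r =>
    altSum_comm _ _ _ (pb (prod.fst : PV f k ⟶ PP f k)).hom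
      (pb (prod.fst : PV f (k+1) ⟶ PP f (k+1))).hom
      (fun j r => by rw [← pb_comp_apply, cofV_fst, pb_comp_apply]) r
  exact exact_of_faithfullyFlat_pushout (RR (PP f n)) (RR (PP f (n+1))) (RR (PP f (n+2)))
    (pb prod.fst) (pb prod.snd) (pb prod.fst) (pb prod.snd) (pb prod.fst) (pb prod.snd)
    (hpo n) (hpo (n+1)) (hpo (n+2))
    (DD f n) (DD f (n+1)) (DDV f n) (DDV f (n+1))
    (hlin n) (hlin (n+1)) (hlinV n) (hlinV (n+1)) (hcomm n) (hcomm (n+1))
    (DD_DD f n) (exactV f n) r hr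

theorem affAcyclic_Ga : AffAcyclic (EtCoh.Ga S) := by
  intro W V f hW hV hf q
  haveI := hW
  haveI := hV
  show IsZero ((cech (sgl f) (QGa (W := W))).homology (q+1))
  rw [← HomologicalComplex.exactAt_iff_isZero_homology,
    HomologicalComplex.exactAt_iff' _ q (q+1) (q+2) (by simp) (by simp),
    ShortComplex.ab_exact_iff]
  intro x hx
  have h1 : DD f (q+1) (theta f (q+1) x) = 0 := by
    rw [← theta_d]
    exact (congrArg (theta f (q+2)) hx).trans (theta_zero f (q+2))
  obtain ⟨r', hr'⟩ := DD_exact f hf q _ h1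
  refine ⟨mkθ f q r', ?_⟩
  apply theta_injective
  exact (theta_d f q _).trans ((congrArg (DD f q) (theta_mkθ f q r')).trans hr')

theorem main0109 (S : Scheme.{u}) [IsAffine S] (p : ℕ) (hp : 1 ≤ p) :
    Subsingleton (EtCoh.H S (EtCoh.Ga S) p) := by
  obtain ⟨q, rfl⟩ : ∃ q, p = q + 1 := ⟨p - 1, by omega⟩
  exact subsingleton_H_of_affAcyclic q (EtCoh.Ga S) affAcyclic_Ga

end Groth.Agent.Helper1.CE
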