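import Mathlib

/-!
# Kummer covers (pure algebra)

For a unit `a` of a ring `R` in which `n` is invertible there is an étale `R`-algebra `B` with
`Spec B → Spec R` surjective, in which `a` becomes an `n`-th power of a unit.
-/

set_option autoImplicit false

namespace Groth.Agent.Helper1.KU

open Polynomial

universe u

theorem exists_etale_root (R : Type u) [CommRing R] (a : Rˣ) (n : ℕ) (hn : IsUnit (n : R)) :
    ∃ (B : Type u) (_ : CommRing B) (_ : Algebra R B), Algebra.Etale R B ∧
      Function.Surjective (PrimeSpectrum.comap (algebraMap R B)) ∧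
      ∃ b : Bˣ, (b : B) ^ n = algebraMap R B a := by
  rcases Nat.eq_zero_or_pos n with h0 | hpos
  · subst h0
    haveI : Subsingleton R := by
      have h : IsUnit (0 : R) := by simpa using hn
      exact subsingleton_of_zero_eq_one (isUnit_zero_iff.mp h)
    exact ⟨R, inferInstance, Algebra.id R, inferInstance, fun p => isEmptyElim p, 1,
      Subsingleton.elim _ _⟩
  · have hn0 : n ≠ 0 := hpos.ne'
    obtain ⟨v, hv⟩ := hn
    have h1 : (X : R[X]) ^ (n - 1) * X = X ^ n := pow_sub_one_mul hn0 X
    have h2 : C (n : R) * C (((v⁻¹ * a⁻¹ : Rˣ) : R)) = C (((a⁻¹ : Rˣ) : R)) := by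
      rw [← C_mul, ← hv, ← Units.val_mul, mul_inv_cancel_left]
    have h3 : C (a : R) * C (((a⁻¹ : Rˣ) : R)) = 1 := by
      rw [← C_mul, Units.mul_inv, C_1]
    let P : StandardEtalePair R :=
      { f := X ^ n - C (a : R)
        monic_f := monic_X_pow_sub_C _ hn0
        g := 1
        cond := ⟨C (((v⁻¹ * a⁻¹ : Rˣ) : R)) * X, - C (((a⁻¹ : Rˣ) : R)), 0, by
          rw [derivative_sub, derivative_X_pow, derivative_C, sub_zero, pow_zero]
          linear_combination (C (n : R) * C (((v⁻¹ * a⁻¹ : Rˣ) : R))) * h1 + X ^ n * h2 + h3⟩ }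
    have hX : P.X ^ n = algebraMap R P.Ring a := by
      have h := P.hasMap_X.1
      change aeval P.X (X ^ n - C (a : R)) = 0 at h
      rw [map_sub, map_pow, aeval_X, aeval_C, sub_eq_zero] at h
      exact h
    have hu : IsUnit P.X := (isUnit_pow_iff hn0).mp (hX ▸ (a.isUnit.map (algebraMap R P.Ring)))
    refine ⟨P.Ring, inferInstance, inferInstance, inferInstance, ?_, hu.unit, hX⟩
    intro p
    let K := AlgebraicClosure p.asIdeal.ResidueField
    obtain ⟨z, hz⟩ := IsAlgClosed.exists_pow_nat_eq (algebraMap R K a) hpos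
    have hmap : P.HasMap z := by
      refine ⟨?_, ?_⟩
      · change aeval z (X ^ n - C (a : R)) = 0
        rw [map_sub, map_pow, aeval_X, aeval_C, sub_eq_zero]
        exact hz
      · change IsUnit (aeval z (1 : R[X]))
        rw [map_one]
        exact isUnit_one
    let φ : P.Ring →ₐ[R] K := P.lift z hmap
    refine ⟨⟨RingHom.ker φ.toRingHom, RingHom.ker_isPrime _⟩, ?_⟩
    apply PrimeSpectrum.ext
    ext r
    change φ (algebraMap R P.Ring r) = 0 ↔ r ∈ p.asIdeal
    rw [AlgHom.commutes, IsScalarTower.algebraMap_apply R p.asIdeal.ResidueField K,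
      map_eq_zero_iff _ (algebraMap p.asIdeal.ResidueField K).injective,
      Ideal.algebraMap_residueField_eq_zero]

end Groth.Agent.Helper1.KU
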