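import Mathlib
import Groth.Prelude.Def_EtGm
import Groth.Agent.Lib.Helper1.KU1
import Groth.Agent.Lib.Helper1.SHC6

/-!
# The Kummer sequence: `n`-th power on `G_m` is an epimorphism when `n` is invertible
-/

set_option autoImplicit false
set_option linter.unusedSectionVars false
set_option linter.style.haveILetI false

open CategoryTheory CategoryTheory.Limits AlgebraicGeometry Opposite

namespace Groth.Agent.Helper1.KU

universe u

theorem fromSpec_appTop' {Y : Scheme.{u}} {W : Y.Opens} (hW : IsAffineOpen W) :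
    hW.fromSpec.appTop =
      Y.presheaf.map (homOfLE le_top).op ≫ (Scheme.ΓSpecIso Γ(Y, W)).inv := by
  have h2 : (Spec Γ(Y, W)).presheaf.map (homOfLE (le_top : hW.fromSpec ⁻¹ᵁ ⊤ ≤ ⊤)).op = 𝟙 _ :=
    (Spec Γ(Y, W)).presheaf.map_id _
  have h3 : (Scheme.ΓSpecIso Γ(Y, W)).inv ≫
      (Spec Γ(Y, W)).presheaf.map (homOfLE (le_top : hW.fromSpec ⁻¹ᵁ ⊤ ≤ ⊤)).op =
      (Scheme.ΓSpecIso Γ(Y, W)).inv :=
    (congrArg (fun q => (Scheme.ΓSpecIso Γ(Y, W)).inv ≫ q) h2).trans (Category.comp_id _)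
  exact (hW.fromSpec_app_of_le ⊤ le_top).trans
    (congrArg (fun q => Y.presheaf.map (homOfLE (le_top : W ≤ ⊤)).op ≫ q) h3)

theorem comp_fromSpec_appTop {Y : Scheme.{u}} {W : Y.Opens} (hW : IsAffineOpen W)
    {B : CommRingCat.{u}} (φ : Γ(Y, W) ⟶ B) :
    (Spec.map φ ≫ hW.fromSpec).appTop =
      Y.presheaf.map (homOfLE le_top).op ≫ φ ≫ (Scheme.ΓSpecIso B).inv := by
  rw [Scheme.Hom.comp_appTop, Scheme.ΓSpecIso_inv_naturality, fromSpec_appTop' hW, Category.assoc]

theorem powMap_app (S : Scheme.{u}) (n : ℕ) (V : S.Etale)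
    (t : ToType ((EtCoh.Gm S).obj.obj (op V))) :
    (EtCoh.powMap S n).hom.app (op V) t = n • t := by
  rfl

theorem Gm_map_apply (S : Scheme.{u}) {U V : S.Etale} (f : V ⟶ U)
    (a : (Γ(U.left, ⊤))ˣ) :
    (EtCoh.Gm S).obj.map f.op (ULift.up (Additive.ofMul a)) =
      ULift.up (Additive.ofMul (Units.map f.left.appTop.hom.toMonoidHom a)) := by
  rfl

theorem imageSieve_powMap_of_root (S : Scheme.{u}) (n : ℕ) {U V : S.Etale} (f : V ⟶ U)
    (a : (Γ(U.left, ⊤))ˣ) (b : (Γ(V.left, ⊤))ˣ)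
    (h : b ^ n = Units.map f.left.appTop.hom.toMonoidHom a) :
    Presheaf.imageSieve (EtCoh.powMap S n).hom
      (ULift.up (Additive.ofMul a) : ToType ((EtCoh.Gm S).obj.obj (op U))) f := by
  refine ⟨ULift.up (Additive.ofMul b), ?_⟩
  rw [powMap_app, Gm_map_apply, ← h]
  rfl

theorem main0108 (S : Scheme.{u}) (n : ℕ) (hn : IsUnit (n : Γ(S, ⊤))) :
    Epi (EtCoh.powMap S n) := by
  haveI := SHC.preservesFilteredColimits_forget.{u}
  haveI : Sheaf.IsLocallySurjective (EtCoh.powMap S n) := by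
    refine ⟨fun {U} s => ?_⟩
    apply SHC.mem_of_pointwise
    intro x
    obtain ⟨W, hW, hxW, -⟩ := TopologicalSpace.Opens.isBasis_iff_nbhd.mp
      (Scheme.isBasis_affineOpens U.left) (show x ∈ (⊤ : U.left.Opens) from trivial)
    obtain ⟨a, rfl⟩ : ∃ a : (Γ(U.left, ⊤))ˣ, s = ULift.up (Additive.ofMul a) :=
      ⟨s.down.toMul, rfl⟩
    let ρ : Γ(U.left, ⊤) ⟶ Γ(U.left, W) := U.left.presheaf.map (homOfLE le_top).op
    let aW : (Γ(U.left, W))ˣ := Units.map ρ.hom.toMonoidHom a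
    have hnW : IsUnit ((n : ℕ) : Γ(U.left, W)) := by
      have h := hn.map ((U.hom.appTop ≫ ρ).hom)
      rwa [map_natCast] at h
    obtain ⟨B, _, _, hEt, hsurj, b, hb⟩ := exists_etale_root Γ(U.left, W) aW n hnW
    let φ : Γ(U.left, W) ⟶ CommRingCat.of B := CommRingCat.ofHom (algebraMap Γ(U.left, W) B)
    let g : Spec (CommRingCat.of B) ⟶ U.left := Spec.map φ ≫ hW.fromSpec
    haveI : Etale (Spec.map φ) := by
      rw [HasRingHomProperty.Spec_iff (P := @Etale)]
      exact RingHom.etale_algebraMap.2 hEt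
    haveI : Etale g := inferInstance
    haveI : Etale U.hom := U.prop
    haveI : Etale (g ≫ U.hom) := inferInstance
    let V : S.Etale := Scheme.Etale.mk (g ≫ U.hom)
    let gm : V ⟶ U := MorphismProperty.Over.homMk g rfl trivial
    obtain ⟨y, hy⟩ : ∃ y : Spec Γ(U.left, W), hW.fromSpec.base y = x := by
      have h : x ∈ Set.range hW.fromSpec.base := by
        rw [hW.range_fromSpec]; exact hxW
      exact h
    obtain ⟨z, hz⟩ := hsurj y
    refine ⟨V, gm, z, ?_, ?_⟩
    · let b' : (Γ(V.left, ⊤))ˣ :=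
        Units.map (Scheme.ΓSpecIso (CommRingCat.of B)).inv.hom.toMonoidHom b
      refine imageSieve_powMap_of_root S n gm a b' ?_
      apply Units.ext
      change ((Scheme.ΓSpecIso (CommRingCat.of B)).inv.hom (b : B)) ^ n =
        g.appTop.hom (a : Γ(U.left, ⊤))
      rw [← map_pow, hb]
      have h := comp_fromSpec_appTop hW φ
      have h' := congrArg (fun ψ => ψ.hom (a : Γ(U.left, ⊤))) h
      exact h'.symm
    · change hW.fromSpec.base ((Spec.map φ).base z) = x
      rw [← hy, ← hz]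
      rfl
  exact (Sheaf.isLocallySurjective_iff_epi' _ _).mp inferInstance

end Groth.Agent.Helper1.KU
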