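import Mathlib
import Groth.Prelude.Def_EtGm
import Groth.Prelude.Def_W4c5etcohweilstudentAS
import Groth.Agent.Lib.Helper1.KU2

/-!
# Artin–Schreier: `x ↦ x^p - x` on `G_a` is an epimorphism in characteristic `p`
-/

set_option autoImplicit false
set_option linter.unusedSectionVars false
set_option linter.style.haveILetI false

open CategoryTheory CategoryTheory.Limits AlgebraicGeometry Opposite

namespace Groth.Agent.Helper1.KU

open Polynomial

universe u

theorem exists_etale_as_root (R : Type u) [CommRing R] (a : R) (p : ℕ) (hp : p.Prime)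
    (h0 : (p : R) = 0) :
    ∃ (B : Type u) (_ : CommRing B) (_ : Algebra R B), Algebra.Etale R B ∧
      Function.Surjective (PrimeSpectrum.comap (algebraMap R B)) ∧
      ∃ b : B, b ^ p - b = algebraMap R B a := by
  obtain ⟨n, rfl⟩ : ∃ n, p = n + 1 := ⟨p - 1, (Nat.succ_pred_eq_of_pos hp.pos).symm⟩
  have hn1 : 1 ≤ n := by have := hp.two_le; omega
  have hdeg : degree (X + C a : R[X]) < ((n + 1 : ℕ) : WithBot ℕ) := by
    have h1 : degree (X + C a : R[X]) ≤ 1 :=
      (degree_add_le _ _).trans (max_le degree_X_le (degree_C_le.trans zero_le_one))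
    refine lt_of_le_of_lt h1 ?_
    exact_mod_cast Nat.lt_succ_of_le hn1
  let P : StandardEtalePair R :=
    { f := X ^ (n + 1) - (X + C a)
      monic_f := monic_X_pow_sub hdeg
      g := 1
      cond := ⟨-1, 0, 0, by
        rw [derivative_sub, derivative_X_pow, derivative_add, derivative_X, derivative_C, h0]
        simp⟩ }
  have hX : P.X ^ (n + 1) - P.X = algebraMap R P.Ring a := by
    have h := P.hasMap_X.1
    change aeval P.X (X ^ (n + 1) - (X + C a)) = 0 at h
    rw [map_sub, map_pow, map_add, aeval_X, aeval_C] at h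
    linear_combination h
  refine ⟨P.Ring, inferInstance, inferInstance, inferInstance, ?_, P.X, hX⟩
  intro q
  let K := AlgebraicClosure q.asIdeal.ResidueField
  have hdegK : degree (X ^ (n + 1) - (X + C (algebraMap R K a)) : K[X]) ≠ 0 := by
    have h1 : degree (X + C (algebraMap R K a) : K[X]) < degree (X ^ (n + 1) : K[X]) := by
      rw [degree_X_pow, degree_X_add_C]
      exact_mod_cast Nat.lt_succ_of_le hn1
    rw [degree_sub_eq_left_of_degree_lt h1, degree_X_pow]
    exact_mod_cast (Nat.succ_ne_zero n)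
  obtain ⟨z, hz⟩ := IsAlgClosed.exists_root _ hdegK
  rw [IsRoot.def, eval_sub, eval_pow, eval_add, eval_X, eval_C] at hz
  have hmap : P.HasMap z := by
    refine ⟨?_, ?_⟩
    · change aeval z (X ^ (n + 1) - (X + C a)) = 0
      rw [map_sub, map_pow, map_add, aeval_X, aeval_C]
      exact hz
    · change IsUnit (aeval z (1 : R[X]))
      rw [map_one]
      exact isUnit_one
  let φ : P.Ring →ₐ[R] K := P.lift z hmap
  refine ⟨⟨RingHom.ker φ.toRingHom, RingHom.ker_isPrime _⟩, ?_⟩
  apply PrimeSpectrum.ext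
  ext r
  change φ (algebraMap R P.Ring r) = 0 ↔ r ∈ q.asIdeal
  rw [AlgHom.commutes, IsScalarTower.algebraMap_apply R q.asIdeal.ResidueField K,
    map_eq_zero_iff _ (algebraMap q.asIdeal.ResidueField K).injective,
    Ideal.algebraMap_residueField_eq_zero]

theorem as_app (X : Scheme.{u}) (p : ℕ) (hp : p.Prime) (h0 : (p : Γ(X, ⊤)) = 0) (V : X.Etale)
    (y : Γ(V.left, ⊤)) :
    (W4c5etcohweilstudent.artinSchreierEndo X p hp h0).hom.app (op V) (ULift.up y) =
      ULift.up (y ^ p - y) := by
  rfl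

theorem Ga_map_apply (S : Scheme.{u}) {U V : S.Etale} (f : V ⟶ U) (a : Γ(U.left, ⊤)) :
    (EtCoh.Ga S).obj.map f.op (ULift.up a) = ULift.up (f.left.appTop.hom a) := by
  rfl

theorem imageSieve_as_of_root (S : Scheme.{u}) (p : ℕ) (hp : p.Prime) (h0 : (p : Γ(S, ⊤)) = 0)
    {U V : S.Etale} (f : V ⟶ U) (a : Γ(U.left, ⊤)) (b : Γ(V.left, ⊤))
    (h : b ^ p - b = f.left.appTop.hom a) :
    Presheaf.imageSieve (W4c5etcohweilstudent.artinSchreierEndo S p hp h0).hom
      (ULift.up a : ToType ((EtCoh.Ga S).obj.obj (op U))) f := by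
  refine ⟨ULift.up b, ?_⟩
  rw [as_app, Ga_map_apply, ← h]

theorem main18415 (p : ℕ) (hp : p.Prime) {S : Scheme.{u}} (h0 : (p : Γ(S, ⊤)) = 0) :
    Epi (W4c5etcohweilstudent.artinSchreierEndo S p hp h0) := by
  haveI := SHC.preservesFilteredColimits_forget.{u}
  haveI : Sheaf.IsLocallySurjective (W4c5etcohweilstudent.artinSchreierEndo S p hp h0) := by
    refine ⟨fun {U} s => ?_⟩
    apply SHC.mem_of_pointwise
    intro x
    obtain ⟨W, hW, hxW, -⟩ := TopologicalSpace.Opens.isBasis_iff_nbhd.mp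
      (Scheme.isBasis_affineOpens U.left) (show x ∈ (⊤ : U.left.Opens) from trivial)
    obtain ⟨a, rfl⟩ : ∃ a : Γ(U.left, ⊤), s = ULift.up a := ⟨s.down, rfl⟩
    let ρ : Γ(U.left, ⊤) ⟶ Γ(U.left, W) := U.left.presheaf.map (homOfLE le_top).op
    have h0W : ((p : ℕ) : Γ(U.left, W)) = 0 := by
      have h := congrArg ((U.hom.appTop ≫ ρ).hom) h0
      rwa [map_natCast, map_zero] at h
    obtain ⟨B, _, _, hEt, hsurj, b, hb⟩ := exists_etale_as_root Γ(U.left, W) (ρ.hom a) p hp h0W
    let φ : Γ(U.left, W) ⟶ CommRingCat.of B := CommRingCat.ofHom (algebraMap Γ(U.left, W) B)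
    let g : Spec (CommRingCat.of B) ⟶ U.left := Spec.map φ ≫ hW.fromSpec
    haveI : Etale (Spec.map φ) := by
      rw [HasRingHomProperty.Spec_iff (P := @Etale)]
      exact RingHom.etale_algebraMap.2 hEt
    haveI : Etale g := inferInstance
    haveI : Etale U.hom := U.prop
    haveI : Etale (g ≫ U.hom) := inferInstance
    let V : S.Etale := Scheme.Etale.mk (g ≫ U.hom)
    let gm : V ⟶ U := MorphismProperty.Over.homMk g rfl trivial
    obtain ⟨y, hy⟩ : ∃ y : Spec Γ(U.left, W), hW.fromSpec.base y = x := by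
      have h : x ∈ Set.range hW.fromSpec.base := by
        rw [hW.range_fromSpec]; exact hxW
      exact h
    obtain ⟨z, hz⟩ := hsurj y
    refine ⟨V, gm, z, ?_, ?_⟩
    · let b' : Γ(V.left, ⊤) := (Scheme.ΓSpecIso (CommRingCat.of B)).inv.hom b
      refine imageSieve_as_of_root S p hp h0 gm a b' ?_
      change ((Scheme.ΓSpecIso (CommRingCat.of B)).inv.hom b) ^ p -
        (Scheme.ΓSpecIso (CommRingCat.of B)).inv.hom b = g.appTop.hom a
      rw [← map_pow, ← map_sub, hb]
      have h := comp_fromSpec_appTop hW φ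
      have h' := congrArg (fun ψ => ψ.hom a) h
      exact h'.symm
    · change hW.fromSpec.base ((Spec.map φ).base z) = x
      rw [← hy, ← hz]
      rfl
  exact (Sheaf.isLocallySurjective_iff_epi' _ _).mp inferInstance

end Groth.Agent.Helper1.KU
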