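import Mathlib

/-!
# Constant sheaves on a "site with points" are sheaves of locally constant functions
-/

universe v u
set_option linter.unusedSectionVars false
set_option linter.style.haveILetI false
open CategoryTheory CategoryTheory.Limits TopologicalSpace Opposite

namespace Groth.Agent.Helper1.LC

variable {C : Type u} [Category.{v} C]

/-- a site whose objects have underlying spaces of points, covering sieves being the jointly
surjective ones, all maps being open, with "fibre products" on points and enough "opens" -/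
structure PtData (J : GrothendieckTopology C) where
  pt : C ⥤ TopCat.{v}
  isOpenMap : ∀ {V W : C} (f : V ⟶ W), IsOpenMap (pt.map f).hom
  exists_of_mem : ∀ {V : C} (S : Sieve V), S ∈ J V → ∀ v : pt.obj V,
    ∃ (W : C) (g : W ⟶ V) (w : pt.obj W), S g ∧ (pt.map g).hom w = v
  mem_of_exists : ∀ {V : C} (S : Sieve V), (∀ v : pt.obj V,
    ∃ (W : C) (g : W ⟶ V) (w : pt.obj W), S g ∧ (pt.map g).hom w = v) → S ∈ J V
  exists_common : ∀ {V V₁ V₂ : C} (f₁ : V₁ ⟶ V) (f₂ : V₂ ⟶ V) (v₁ : pt.obj V₁) (v₂ : pt.obj V₂),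
    (pt.map f₁).hom v₁ = (pt.map f₂).hom v₂ → ∃ (W : C) (p₁ : W ⟶ V₁) (p₂ : W ⟶ V₂) (w : pt.obj W),
      p₁ ≫ f₁ = p₂ ≫ f₂ ∧ (pt.map p₁).hom w = v₁ ∧ (pt.map p₂).hom w = v₂
  exists_open : ∀ {V : C} (O : Set (pt.obj V)), IsOpen O → ∀ v ∈ O,
    ∃ (W : C) (g : W ⟶ V) (w : pt.obj W), (pt.map g).hom w = v ∧
      Set.range (pt.map g).hom ⊆ O

variable {J : GrothendieckTopology C} (D : PtData J) (M : Type (max u v)) [AddCommGroup M]

/-- the presheaf of locally constant functions -/
noncomputable def LCp : Cᵒᵖ ⥤ AddCommGrpCat.{max u v} where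
  obj V := AddCommGrpCat.of (LocallyConstant (D.pt.obj V.unop) M)
  map {V W} f := AddCommGrpCat.ofHom (LocallyConstant.comapAddMonoidHom (D.pt.map f.unop).hom)
  map_id V := by
    refine AddCommGrpCat.hom_ext ?_
    refine AddMonoidHom.ext fun g => LocallyConstant.ext fun w => ?_
    show g ((D.pt.map (𝟙 V.unop)).hom w) = g w
    rw [D.pt.map_id]
    rfl
  map_comp {U V W} f g := by
    refine AddCommGrpCat.hom_ext ?_
    refine AddMonoidHom.ext fun s => LocallyConstant.ext fun w => ?_
    show s ((D.pt.map (g.unop ≫ f.unop)).hom w) =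
      s ((D.pt.map f.unop).hom ((D.pt.map g.unop).hom w))
    rw [D.pt.map_comp]
    rfl

/-- sections as locally constant functions -/
def toLC {V : C} (s : (LCp D M).obj (op V)) : LocallyConstant (D.pt.obj V) M := s

lemma LCp_map_apply {V W : C} (f : V ⟶ W) (s : LocallyConstant (D.pt.obj W) M) (v : D.pt.obj V) :
    toLC D M (((LCp D M).map f.op).hom s) v = s ((D.pt.map f).hom v) :=
  rfl

section Sheaf

variable {D M}
variable {V : C} {S : Sieve V}
  (xx : Presieve.FamilyOfElements (LCp D M ⋙ forget AddCommGrpCat.{max u v}) S.arrows)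

/-- evaluation of a member of a family -/
def evalFam {W : C} (g : W ⟶ V) (hg : S g) (w : D.pt.obj W) : M :=
  (show LocallyConstant (D.pt.obj W) M from xx g hg) w

lemma evalFam_isLocallyConstant {W : C} (g : W ⟶ V) (hg : S g) :
    IsLocallyConstant (evalFam xx g hg) :=
  (show LocallyConstant (D.pt.obj W) M from xx g hg).isLocallyConstant

lemma evalFam_compat (hx : xx.Compatible) {W₁ W₂ Z : C} (g₁ : W₁ ⟶ V) (g₂ : W₂ ⟶ V)
    (h₁ : S g₁) (h₂ : S g₂) (p₁ : Z ⟶ W₁) (p₂ : Z ⟶ W₂) (hp : p₁ ≫ g₁ = p₂ ≫ g₂)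
    (z : D.pt.obj Z) :
    evalFam xx g₁ h₁ ((D.pt.map p₁).hom z) = evalFam xx g₂ h₂ ((D.pt.map p₂).hom z) := by
  have h := hx p₁ p₂ h₁ h₂ hp
  have h' := congrArg (fun s : LocallyConstant (D.pt.obj Z) M => s z) h
  exact h'

lemma evalFam_indep (hx : xx.Compatible) {W₁ W₂ : C} (g₁ : W₁ ⟶ V) (g₂ : W₂ ⟶ V)
    (h₁ : S g₁) (h₂ : S g₂) (w₁ : D.pt.obj W₁) (w₂ : D.pt.obj W₂)
    (hw : (D.pt.map g₁).hom w₁ = (D.pt.map g₂).hom w₂) :
    evalFam xx g₁ h₁ w₁ = evalFam xx g₂ h₂ w₂ := by
  obtain ⟨Z, p₁, p₂, z, hp, hz1, hz2⟩ := D.exists_common g₁ g₂ w₁ w₂ hw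
  rw [← hz1, ← hz2]
  exact evalFam_compat xx hx g₁ g₂ h₁ h₂ p₁ p₂ hp z

end Sheaf

theorem LCp_isSheaf : Presheaf.IsSheaf J (LCp D M) := by
  rw [Presheaf.isSheaf_iff_isSheaf_forget J (LCp D M) (forget AddCommGrpCat.{max u v}),
    isSheaf_iff_isSheaf_of_type]
  intro V S hS xx hx
  classical
  choose W g w hg hw using D.exists_of_mem S hS
  let F : D.pt.obj V → M := fun v => evalFam xx (g v) (hg v) (w v)
  have key : ∀ {W' : C} (g' : W' ⟶ V) (hg' : S g') (w' : D.pt.obj W'),
      evalFam xx g' hg' w' = F ((D.pt.map g').hom w') := by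
    intro W' g' hg' w'
    exact evalFam_indep xx hx g' (g _) hg' (hg _) w' (w _) (hw _).symm
  have hF : IsLocallyConstant F := by
    rw [IsLocallyConstant.iff_exists_open]
    intro v
    obtain ⟨O, hO, hwO, hconst⟩ :=
      (IsLocallyConstant.iff_exists_open _).1 (evalFam_isLocallyConstant xx (g v) (hg v)) (w v)
    refine ⟨(D.pt.map (g v)).hom '' O, D.isOpenMap (g v) O hO, ⟨w v, hwO, hw v⟩, ?_⟩
    rintro _ ⟨w', hw'O, rfl⟩
    rw [← key (g v) (hg v) w', hconst w' hw'O]
  let t : LocallyConstant (D.pt.obj V) M := ⟨F, hF⟩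
  refine ⟨t, ?_, ?_⟩
  · intro W' g' hg'
    refine LocallyConstant.ext fun w' => ?_
    exact (key g' hg' w').symm
  · intro t' ht'
    refine LocallyConstant.ext fun v => ?_
    have h1 := ht' (g v) (hg v)
    have h2 := congrArg (fun s : LocallyConstant (D.pt.obj (W v)) M => s (w v)) h1
    have h3 : (show LocallyConstant (D.pt.obj V) M from t') ((D.pt.map (g v)).hom (w v)) =
        evalFam xx (g v) (hg v) (w v) := h2
    rw [hw v] at h3
    exact h3

/-- the sheaf of locally constant functions -/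
noncomputable def LCs : Sheaf J AddCommGrpCat.{max u v} := ⟨LCp D M, LCp_isSheaf D M⟩

/-- constants -/
noncomputable def kappa : (Functor.const Cᵒᵖ).obj (AddCommGrpCat.of M) ⟶ LCp D M where
  app V := AddCommGrpCat.ofHom (LocallyConstant.constAddMonoidHom)
  naturality V W f := by
    refine AddCommGrpCat.hom_ext ?_
    refine AddMonoidHom.ext fun m => LocallyConstant.ext fun w => ?_
    rfl

lemma kappa_app_apply (V : C) (m : M) (v : D.pt.obj V) :
    toLC D M (((kappa D M).app (op V)).hom m) v = m := rfl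

instance isLocallyInjective_kappa : Presheaf.IsLocallyInjective J (kappa D M) where
  equalizerSieve_mem {V} m m' h := by
    apply D.mem_of_exists
    intro v
    have h1 : m = m' := by
      have := congrArg (fun s : LocallyConstant (D.pt.obj V.unop) M => s v) h
      exact this
    refine ⟨V.unop, 𝟙 _, v, ?_, ?_⟩
    · show ((Functor.const Cᵒᵖ).obj (AddCommGrpCat.of M)).map (𝟙 V.unop).op m =
        ((Functor.const Cᵒᵖ).obj (AddCommGrpCat.of M)).map (𝟙 V.unop).op m'
      rw [h1]
    · rw [D.pt.map_id]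
      rfl

instance isLocallySurjective_kappa : Presheaf.IsLocallySurjective J (kappa D M) where
  imageSieve_mem {U} s := by
    apply D.mem_of_exists
    intro v
    let s' : LocallyConstant (D.pt.obj U) M := s
    obtain ⟨W, g, w, hw, hr⟩ := D.exists_open (s' ⁻¹' {s' v}) (s'.isLocallyConstant _) v rfl
    refine ⟨W, g, w, ⟨s' v, ?_⟩, hw⟩
    refine LocallyConstant.ext fun w' => ?_
    have h1 : (D.pt.map g).hom w' ∈ s' ⁻¹' {s' v} := hr ⟨w', rfl⟩
    exact h1.symm

variable [HasWeakSheafify J AddCommGrpCat.{max u v}]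
  [J.WEqualsLocallyBijective AddCommGrpCat.{max u v}]

instance isIso_sheafify_kappa :
    IsIso ((presheafToSheaf J AddCommGrpCat.{max u v}).map (kappa D M)) :=
  (J.W_iff _).1 (J.W_of_isLocallyBijective _)

/-- the constant sheaf is the sheaf of locally constant functions -/
instance isIso_counit_LCs :
    IsIso ((sheafificationAdjunction J AddCommGrpCat.{max u v}).counit.app (LCs D M)) :=
  inferInstance

noncomputable def constIso :
    (constantSheaf J AddCommGrpCat.{max u v}).obj (AddCommGrpCat.of M) ≅ LCs D M :=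
  (@asIso _ _ _ _ ((presheafToSheaf J AddCommGrpCat.{max u v}).map (kappa D M))
      (isIso_sheafify_kappa D M)) ≪≫
    (@asIso _ _ _ _ ((sheafificationAdjunction J AddCommGrpCat.{max u v}).counit.app (LCs D M))
      (isIso_counit_LCs D M))

lemma toSheafify_constIso_hom :
    toSheafify J ((Functor.const Cᵒᵖ).obj (AddCommGrpCat.of M)) ≫ (constIso D M).hom.hom =
      kappa D M := by
  have h1 := (sheafificationAdjunction J AddCommGrpCat.{max u v}).unit.naturality (kappa D M)
  have h2 := (sheafificationAdjunction J AddCommGrpCat.{max u v}).right_triangle_components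
    (LCs D M)
  have h1' : toSheafify J ((Functor.const Cᵒᵖ).obj (AddCommGrpCat.of M)) ≫
      ((presheafToSheaf J AddCommGrpCat.{max u v}).map (kappa D M)).hom =
      kappa D M ≫ toSheafify J (LCp D M) := h1.symm
  have h2' : toSheafify J (LCp D M) ≫
      ((sheafificationAdjunction J AddCommGrpCat.{max u v}).counit.app (LCs D M)).hom =
      𝟙 (LCp D M) := h2
  show toSheafify J ((Functor.const Cᵒᵖ).obj (AddCommGrpCat.of M)) ≫
    (((presheafToSheaf J AddCommGrpCat.{max u v}).map (kappa D M)).hom ≫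
      ((sheafificationAdjunction J AddCommGrpCat.{max u v}).counit.app (LCs D M)).hom) = _
  rw [← Category.assoc, h1', Category.assoc, h2']
  exact Category.comp_id _

end Groth.Agent.Helper1.LC
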