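import Mathlib
import Groth.Prelude.Def_EtCore
import Groth.Agent.Lib.Helper1.LC1
import Groth.Agent.Lib.Helper1.SZ2
import Groth.Agent.Lib.Helper1.SHC5

/-!
# The small étale site (and its over-sites) as sites with points
-/

universe v u
set_option linter.unusedSectionVars false
set_option linter.style.haveILetI false
open CategoryTheory CategoryTheory.Limits AlgebraicGeometry TopologicalSpace Opposite

namespace Groth.Agent.Helper1.LC

section Over

variable {C : Type u} [Category.{v} C] {J : GrothendieckTopology C}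

/-- the over-site of a site with points -/
noncomputable def PtData.over (D : PtData J) (U : C) : PtData (J.over U) where
  pt := Over.forget U ⋙ D.pt
  isOpenMap f := D.isOpenMap f.left
  exists_of_mem {Y} S hS v := by
    rw [GrothendieckTopology.mem_over_iff] at hS
    obtain ⟨W, g, w, hg, hw⟩ := D.exists_of_mem _ hS v
    rw [Sieve.overEquiv_iff] at hg
    exact ⟨Over.mk (g ≫ Y.hom), Over.homMk g rfl, w, hg, hw⟩
  mem_of_exists {Y} S h := by
    rw [GrothendieckTopology.mem_over_iff]
    apply D.mem_of_exists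
    intro v
    obtain ⟨W, g, w, hg, hw⟩ := h v
    refine ⟨W.left, g.left, w, ?_, hw⟩
    have h0 : (Sieve.overEquiv Y).symm (Sieve.overEquiv Y S) = S :=
      (Sieve.overEquiv Y).symm_apply_apply S
    have h1 : ((Sieve.overEquiv Y).symm (Sieve.overEquiv Y S)).arrows g := by
      rw [h0]
      exact hg
    exact (Sieve.overEquiv_symm_iff _ g).1 h1
  exists_common {V V₁ V₂} f₁ f₂ v₁ v₂ h := by
    obtain ⟨W, p₁, p₂, w, hp, h1, h2⟩ := D.exists_common f₁.left f₂.left v₁ v₂ h
    have e : p₂ ≫ V₂.hom = p₁ ≫ V₁.hom := by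
      rw [← Over.w f₁, ← Over.w f₂, ← Category.assoc, ← Category.assoc, hp]
    refine ⟨Over.mk (p₁ ≫ V₁.hom), Over.homMk p₁ rfl, Over.homMk p₂ e, w, ?_, h1, h2⟩
    apply Over.OverMorphism.ext
    exact hp
  exists_open {Y} O hO v hv := by
    obtain ⟨W, g, w, hw, hr⟩ := D.exists_open O hO v hv
    exact ⟨Over.mk (g ≫ Y.hom), Over.homMk g rfl, w, hw, hr⟩

end Over

section Et

variable (X : Scheme.{u})

/-- the functor of points of the small étale site -/
noncomputable def etPtFunctor : X.Etale ⥤ TopCat.{u} :=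
  Scheme.Etale.forget X ⋙ Over.forget X ⋙ Scheme.forgetToTop

/-- the small étale site as a site with points -/
noncomputable def etPt : PtData X.smallEtaleTopology where
  pt := etPtFunctor X
  isOpenMap {V W} f := by
    haveI : Etale f.left := inferInstance
    exact f.left.isOpenMap
  exists_of_mem {V} S hS v := SZ.pointwise_of_mem V S hS v
  mem_of_exists {V} S h := SHC.mem_of_pointwise V S h
  exists_common {V V₁ V₂} f₁ f₂ v₁ v₂ h := by
    haveI : Etale V₁.hom := V₁.prop
    haveI : Etale f₂.left := inferInstance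
    obtain ⟨z, hz1, hz2⟩ := Scheme.Pullback.exists_preimage_pullback (f := f₁.left)
      (g := f₂.left) v₁ v₂ h
    let W : X.Etale := Scheme.Etale.mk (pullback.fst f₁.left f₂.left ≫ V₁.hom)
    have e : pullback.snd f₁.left f₂.left ≫ V₂.hom = pullback.fst f₁.left f₂.left ≫ V₁.hom := by
      rw [← MorphismProperty.Over.w f₁, ← MorphismProperty.Over.w f₂, ← Category.assoc,
        ← Category.assoc, pullback.condition]
    let p₁ : W ⟶ V₁ := MorphismProperty.Over.homMk (pullback.fst f₁.left f₂.left) rfl trivial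
    let p₂ : W ⟶ V₂ := MorphismProperty.Over.homMk (pullback.snd f₁.left f₂.left) e trivial
    refine ⟨W, p₁, p₂, z, ?_, hz1, hz2⟩
    apply MorphismProperty.Over.Hom.ext
    exact pullback.condition
  exists_open {V} O hO v hv := by
    haveI : Etale V.hom := V.prop
    let O' : V.left.Opens := ⟨O, hO⟩
    let W : X.Etale := Scheme.Etale.mk (O'.ι ≫ V.hom)
    let g : W ⟶ V := MorphismProperty.Over.homMk O'.ι rfl trivial
    refine ⟨W, g, (⟨v, hv⟩ : O'.toScheme), rfl, ?_⟩
    have h1 : Set.range O'.ι.base = (O' : Set V.left) := Scheme.Opens.range_ι O'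
    exact h1.le

end Et

end Groth.Agent.Helper1.LC
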