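import Mathlib
import Groth.Agent.Lib.Helper1.LC1

/-!
# Recovering the value group from the presheaf of locally constant functions
-/

universe v u
set_option linter.unusedSectionVars false
set_option linter.style.haveILetI false
open CategoryTheory CategoryTheory.Limits TopologicalSpace Opposite

namespace Groth.Agent.Helper1.LC

variable {C : Type u} [Category.{v} C] {J : GrothendieckTopology C} (D : PtData J)
  {M N : Type (max u v)} [AddCommGroup M] [AddCommGroup N]

/-- the constant function as a section -/
noncomputable def constSec (V : C) (m : M) : (LCp D M).obj (op V) :=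
  (LocallyConstant.const (D.pt.obj V) m : LocallyConstant (D.pt.obj V) M)

lemma toLC_constSec (V : C) (m : M) (v : D.pt.obj V) : toLC D M (constSec D V m) v = m := rfl

lemma map_constSec {V W : C} (f : V ⟶ W) (m : M) :
    ((LCp D M).map f.op).hom (constSec D W m) = constSec D V m := rfl

lemma constSec_add (V : C) (m m' : M) :
    constSec D V (m + m') = constSec D V m + constSec D V m' := rfl

lemma toLC_add (V : C) (s t : (LCp D M).obj (op V)) (v : D.pt.obj V) :
    toLC D M (s + t) v = toLC D M s v + toLC D M t v := rfl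

lemma ext_toLC {V : C} {s t : (LCp D M).obj (op V)}
    (h : ∀ v, toLC D M s v = toLC D M t v) : s = t :=
  LocallyConstant.ext h

variable (τ : LCp D M ⟶ LCp D N)

/-- the map on value groups induced by a morphism of presheaves of locally constant functions,
by evaluating at a point -/
noncomputable def evalHom {W₀ : C} (w₀ : D.pt.obj W₀) : M →+ N where
  toFun m := toLC D N ((τ.app (op W₀)).hom (constSec D W₀ m)) w₀
  map_zero' := by
    have h : constSec D W₀ (0 : M) = 0 := rfl
    rw [h, map_zero]
    rfl
  map_add' m m' := by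
    rw [constSec_add, map_add, toLC_add]

/-- locally, the image of a constant is the constant given by `evalHom` -/
lemma exists_map_constSec {W₀ : C} (w₀ : D.pt.obj W₀) (m : M) :
    ∃ (W : C) (q : W ⟶ W₀) (w : D.pt.obj W), (D.pt.map q).hom w = w₀ ∧
      (τ.app (op W)).hom (constSec D W m) = constSec D W (evalHom D τ w₀ m) := by
  let s : LocallyConstant (D.pt.obj W₀) N := toLC D N ((τ.app (op W₀)).hom (constSec D W₀ m))
  obtain ⟨W, q, w, hw, hr⟩ := D.exists_open (s ⁻¹' {s w₀}) (s.isLocallyConstant _) w₀ rfl
  refine ⟨W, q, w, hw, ?_⟩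
  have hnat := NatTrans.naturality_apply τ q.op (constSec D W₀ m)
  rw [map_constSec] at hnat
  rw [hnat]
  apply ext_toLC
  intro w'
  have h1 : (D.pt.map q).hom w' ∈ s ⁻¹' {s w₀} := hr ⟨w', rfl⟩
  exact h1

variable {D}

lemma evalHom_comp (τ : LCp D M ⟶ LCp D N) {P : Type (max u v)} [AddCommGroup P]
    (σ : LCp D N ⟶ LCp D P) {W₀ : C} (w₀ : D.pt.obj W₀) (m : M) :
    evalHom D (τ ≫ σ) w₀ m = evalHom D σ w₀ (evalHom D τ w₀ m) := by
  obtain ⟨W, q, w, hw, hconst⟩ := exists_map_constSec D τ w₀ m
  -- compute both sides on `W`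
  have h1 : evalHom D (τ ≫ σ) w₀ m =
      toLC D P ((σ.app (op W)).hom ((τ.app (op W)).hom (constSec D W m))) w := by
    have hnat := NatTrans.naturality_apply (τ ≫ σ) q.op (constSec D W₀ m)
    rw [map_constSec] at hnat
    have h2 : toLC D P (((τ ≫ σ).app (op W)).hom (constSec D W m)) w =
        toLC D P (((τ ≫ σ).app (op W₀)).hom (constSec D W₀ m)) ((D.pt.map q).hom w) := by
      rw [hnat]
      rfl
    rw [hw] at h2
    exact h2.symm
  have h3 : evalHom D σ w₀ (evalHom D τ w₀ m) =
      toLC D P ((σ.app (op W)).hom (constSec D W (evalHom D τ w₀ m))) w := by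
    have hnat := NatTrans.naturality_apply σ q.op (constSec D W₀ (evalHom D τ w₀ m))
    rw [map_constSec] at hnat
    have h2 : toLC D P ((σ.app (op W)).hom (constSec D W (evalHom D τ w₀ m))) w =
        toLC D P ((σ.app (op W₀)).hom (constSec D W₀ (evalHom D τ w₀ m)))
          ((D.pt.map q).hom w) := by
      rw [hnat]
      rfl
    rw [hw] at h2
    exact h2.symm
  rw [h1, h3, hconst]

lemma evalHom_id {W₀ : C} (w₀ : D.pt.obj W₀) (m : M) :
    evalHom D (𝟙 (LCp D M)) w₀ m = m := rfl

/-- an isomorphism of presheaves of locally constant functions induces an isomorphism of value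
groups, as soon as some object has a point -/
theorem nonempty_addEquiv_of_iso (τ : LCp D M ≅ LCp D N) {W₀ : C} (w₀ : D.pt.obj W₀) :
    Nonempty (M ≃+ N) := by
  refine ⟨{ toFun := evalHom D τ.hom w₀
            invFun := evalHom D τ.inv w₀
            left_inv := fun m => ?_
            right_inv := fun n => ?_
            map_add' := fun a b => map_add _ a b }⟩
  · rw [← evalHom_comp, τ.hom_inv_id]
    exact evalHom_id w₀ m
  · rw [← evalHom_comp, τ.inv_hom_id]
    exact evalHom_id w₀ n

end Groth.Agent.Helper1.LC
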