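import Mathlib
import Groth.Prelude.Def_EtCore
import Groth.Agent.Lib.Helper1.LC2
import Groth.Agent.Lib.Helper1.LC3
import Groth.Agent.Lib.Helper1.SHC3

/-!
# Finite locally constant sheaves on connected schemes (S0105)
-/

universe u
set_option linter.unusedSectionVars false
set_option linter.style.haveILetI false
open CategoryTheory CategoryTheory.Limits AlgebraicGeometry TopologicalSpace Opposite

namespace Groth.Agent.Helper1.LC

variable {X : Scheme.{u}}

instance wEq_over (U : X.Etale) :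
    (X.smallEtaleTopology.over U).WEqualsLocallyBijective AddCommGrpCat.{u + 1} := by
  haveI := SHC.preservesFilteredColimits_forget.{u}
  infer_instance

instance wEq_et : X.smallEtaleTopology.WEqualsLocallyBijective AddCommGrpCat.{u + 1} := by
  haveI := SHC.preservesFilteredColimits_forget.{u}
  infer_instance

section Key

variable (F : EtCoh.Ab X) {U₁ U₂ : X.Etale} {M₁ M₂ : Type (u + 1)} [AddCommGroup M₁]
  [AddCommGroup M₂]
  (ψ₁ : EtCoh.restr F U₁ ≅ LCs ((etPt X).over U₁) M₁)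
  (ψ₂ : EtCoh.restr F U₂ ≅ LCs ((etPt X).over U₂) M₂)
  {W : X.Etale} (p₁ : W ⟶ U₁) (p₂ : W ⟶ U₂)

/-- component isomorphism -/
noncomputable def compIso {U : X.Etale} {M : Type (u + 1)} [AddCommGroup M]
    (ψ : EtCoh.restr F U ≅ LCs ((etPt X).over U) M) (p : W ⟶ U) (Y : (Over W)ᵒᵖ) :
    F.obj.obj (op Y.unop.left) ≅ (LCp ((etPt X).over W) M).obj Y :=
  ((sheafToPresheaf _ _).mapIso ψ).app (op ((Over.map p).obj Y.unop))

lemma compIso_naturality {U : X.Etale} {M : Type (u + 1)} [AddCommGroup M]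
    (ψ : EtCoh.restr F U ≅ LCs ((etPt X).over U) M) (p : W ⟶ U) {Y Y' : (Over W)ᵒᵖ}
    (g : Y ⟶ Y') :
    (compIso F ψ p Y).hom ≫ (LCp ((etPt X).over W) M).map g =
      F.obj.map (g.unop.left).op ≫ (compIso F ψ p Y').hom :=
  (ψ.hom.hom.naturality ((Over.map p).map g.unop).op).symm

/-- the isomorphism of presheaves of locally constant functions on the common refinement -/
noncomputable def tauIso :
    LCp ((etPt X).over W) M₁ ≅ LCp ((etPt X).over W) M₂ :=
  NatIso.ofComponents (fun Y => (compIso F ψ₁ p₁ Y).symm ≪≫ compIso F ψ₂ p₂ Y) (by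
    intro Y Y' g
    have n1 := compIso_naturality F ψ₁ p₁ g
    have n2 := compIso_naturality F ψ₂ p₂ g
    have n1' : (LCp ((etPt X).over W) M₁).map g ≫ (compIso F ψ₁ p₁ Y').inv =
        (compIso F ψ₁ p₁ Y).inv ≫ F.obj.map (g.unop.left).op := by
      rw [Iso.comp_inv_eq, Category.assoc, ← n1, Iso.inv_hom_id_assoc]
    show (LCp ((etPt X).over W) M₁).map g ≫ ((compIso F ψ₁ p₁ Y').inv ≫ (compIso F ψ₂ p₂ Y').hom) =
      ((compIso F ψ₁ p₁ Y).inv ≫ (compIso F ψ₂ p₂ Y).hom) ≫ (LCp ((etPt X).over W) M₂).map g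
    rw [← Category.assoc, n1', Category.assoc, Category.assoc, n2])

end Key

theorem nonempty_addEquiv_of_common (F : EtCoh.Ab X) {U₁ U₂ : X.Etale} {M₁ M₂ : Type (u + 1)}
    [AddCommGroup M₁] [AddCommGroup M₂]
    (φ₁ : EtCoh.restr F U₁ ≅ (constantSheaf (X.smallEtaleTopology.over U₁)
      AddCommGrpCat.{u + 1}).obj (AddCommGrpCat.of M₁))
    (φ₂ : EtCoh.restr F U₂ ≅ (constantSheaf (X.smallEtaleTopology.over U₂)
      AddCommGrpCat.{u + 1}).obj (AddCommGrpCat.of M₂))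
    (a : U₁.left) (b : U₂.left) (hab : U₁.hom.base a = U₂.hom.base b) :
    Nonempty (M₁ ≃+ M₂) := by
  haveI : Etale U₁.hom := U₁.prop
  haveI : Etale U₂.hom := U₂.prop
  obtain ⟨z, hz1, hz2⟩ := Scheme.Pullback.exists_preimage_pullback (f := U₁.hom)
    (g := U₂.hom) a b hab
  let W : X.Etale := Scheme.Etale.mk (pullback.fst U₁.hom U₂.hom ≫ U₁.hom)
  let p₁ : W ⟶ U₁ := MorphismProperty.Over.homMk (pullback.fst U₁.hom U₂.hom) rfl trivial
  let p₂ : W ⟶ U₂ := MorphismProperty.Over.homMk (pullback.snd U₁.hom U₂.hom)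
    pullback.condition.symm trivial
  let ψ₁ := φ₁ ≪≫ constIso ((etPt X).over U₁) M₁
  let ψ₂ := φ₂ ≪≫ constIso ((etPt X).over U₂) M₂
  exact nonempty_addEquiv_of_iso (D := (etPt X).over W) (tauIso F ψ₁ ψ₂ p₁ p₂)
    (W₀ := Over.mk (𝟙 W)) z

theorem main0105 [ConnectedSpace X] (F : EtCoh.Ab X) (h : EtCoh.IsFiniteLocallyConstant F) :
    ∃ (M : Type) (_ : AddCommGroup M) (_ : Finite M) (ι : Type u) (U : ι → X.Etale),
      EtCoh.Covers U ∧
      ∀ i, Nonempty (EtCoh.restr F (U i) ≅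
        (constantSheaf (X.smallEtaleTopology.over (U i)) AddCommGrpCat.{u + 1}).obj
          (AddCommGrpCat.of (ULift.{u + 1} M))) := by
  classical
  obtain ⟨ι, U, hcov, hloc⟩ := h
  choose M hM1 hM2 hφ using hloc
  have φ := fun i => (hφ i).some
  -- the key claim
  have key : ∀ i j (a : (U i).left) (b : (U j).left), (U i).hom.base a = (U j).hom.base b →
      Nonempty (M i ≃+ M j) := by
    intro i j a b hab
    obtain ⟨e⟩ := nonempty_addEquiv_of_common F (φ i) (φ j) a b hab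
    exact ⟨AddEquiv.ulift.symm.trans (e.trans AddEquiv.ulift)⟩
  obtain ⟨x₀⟩ : Nonempty X := inferInstance
  obtain ⟨i₀, y₀, hy₀⟩ := hcov x₀
  let A : Set X := {x | ∃ (i : ι) (y : (U i).left), (U i).hom.base y = x ∧ Nonempty (M i ≃+ M i₀)}
  let B : Set X := {x | ∃ (i : ι) (y : (U i).left), (U i).hom.base y = x ∧ ¬ Nonempty (M i ≃+ M i₀)}
  have hopen : ∀ i, IsOpen (Set.range (U i).hom.base) := by
    intro i
    haveI : Etale (U i).hom := (U i).prop
    exact (U i).hom.isOpenMap.isOpen_range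
  have hA : IsOpen A := by
    have : A = ⋃ (i : ι) (_ : Nonempty (M i ≃+ M i₀)), Set.range (U i).hom.base := by
      ext x
      simp only [A, Set.mem_setOf_eq, Set.mem_iUnion, Set.mem_range, exists_prop]
      constructor
      · rintro ⟨i, y, hy, hi⟩
        exact ⟨i, hi, y, hy⟩
      · rintro ⟨i, hi, y, hy⟩
        exact ⟨i, y, hy, hi⟩
    rw [this]
    exact isOpen_iUnion fun i => isOpen_iUnion fun _ => hopen i
  have hB : IsOpen B := by
    have : B = ⋃ (i : ι) (_ : ¬ Nonempty (M i ≃+ M i₀)), Set.range (U i).hom.base := by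
      ext x
      simp only [B, Set.mem_setOf_eq, Set.mem_iUnion, Set.mem_range, exists_prop]
      constructor
      · rintro ⟨i, y, hy, hi⟩
        exact ⟨i, hi, y, hy⟩
      · rintro ⟨i, hi, y, hy⟩
        exact ⟨i, y, hy, hi⟩
    rw [this]
    exact isOpen_iUnion fun i => isOpen_iUnion fun _ => hopen i
  have hAB : Aᶜ = B := by
    ext x
    constructor
    · intro hx
      obtain ⟨i, y, hy⟩ := hcov x
      refine ⟨i, y, hy, fun hi => hx ⟨i, y, hy, hi⟩⟩
    · rintro ⟨i, y, hy, hi⟩ ⟨j, y', hy', hj⟩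
      obtain ⟨e⟩ := key i j y y' (hy.trans hy'.symm)
      obtain ⟨e'⟩ := hj
      exact hi ⟨e.trans e'⟩
  have hAclopen : IsClopen A := ⟨by rw [← isOpen_compl_iff, hAB]; exact hB, hA⟩
  have hAne : A.Nonempty := ⟨x₀, i₀, y₀, hy₀, ⟨AddEquiv.refl _⟩⟩
  have hAuniv : A = Set.univ := hAclopen.eq_univ hAne
  have hall : ∀ i, Nonempty (U i).left → Nonempty (M i ≃+ M i₀) := by
    rintro i ⟨y⟩
    have hx : (U i).hom.base y ∈ A := by rw [hAuniv]; trivial
    obtain ⟨j, y', hy', hj⟩ := hx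
    obtain ⟨e⟩ := key i j y y' hy'.symm
    obtain ⟨e'⟩ := hj
    exact ⟨e.trans e'⟩
  refine ⟨M i₀, hM1 i₀, hM2 i₀, {i : ι // Nonempty (U i).left}, fun i => U i.1, ?_, ?_⟩
  · intro x
    obtain ⟨i, y, hy⟩ := hcov x
    exact ⟨⟨i, ⟨y⟩⟩, y, hy⟩
  · rintro ⟨i, hi⟩
    obtain ⟨e⟩ := hall i hi
    let e' : AddCommGrpCat.of (ULift.{u + 1} (M i)) ≅ AddCommGrpCat.of (ULift.{u + 1} (M i₀)) :=
      AddEquiv.toAddCommGrpIso (AddEquiv.ulift.trans (e.trans AddEquiv.ulift.symm))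
    exact ⟨φ i ≪≫ (constantSheaf (X.smallEtaleTopology.over (U i))
      AddCommGrpCat.{u + 1}).mapIso e'⟩

end Groth.Agent.Helper1.LC
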