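import Mathlib
import Groth.Prelude.Def_EtGm
import Groth.Agent.Lib.Helper1.KU2
import Groth.Agent.Lib.Helper1.SHC3
import Groth.Agent.Lib.Helper1.LC4

/-!
# `μ_n ≅ ℤ/n` in the presence of a primitive root of unity (helper1, MU1): S13507, S14625
-/

set_option autoImplicit false
set_option linter.unusedSectionVars false
set_option linter.style.haveILetI false

open CategoryTheory CategoryTheory.Limits AlgebraicGeometry Opposite Polynomial

namespace Groth.Agent.Helper1.MU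

universe u

section Alg

theorem pow_eq_one_of_cyclotomic {R : Type*} [CommRing R] (n : ℕ) (ζ : R)
    (hζ : aeval ζ (cyclotomic n ℤ) = 0) : ζ ^ n = 1 := by
  obtain ⟨q, hq⟩ := cyclotomic.dvd_X_pow_sub_one n ℤ
  have h := congrArg (aeval ζ) hq
  rw [map_mul, hζ, zero_mul, map_sub, map_pow, aeval_X, map_one] at h
  exact sub_eq_zero.1 h

theorem aeval_map_cyclotomic {R R' : Type*} [CommRing R] [CommRing R'] (φ : R →+* R') (n : ℕ)
    (ζ : R) (hζ : aeval ζ (cyclotomic n ℤ) = 0) : aeval (φ ζ) (cyclotomic n ℤ) = 0 := by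
  have h := congrArg φ hζ
  rw [map_zero, aeval_def, hom_eval₂] at h
  rw [aeval_def]
  convert h using 2
  exact RingHom.ext_int _ _

theorem isPrimitiveRoot_eval {R K : Type*} [CommRing R] [Field K] (φ : R →+* K) (n : ℕ)
    (hu : IsUnit ((n : ℕ) : R)) (ζ : R) (hζ : aeval ζ (cyclotomic n ℤ) = 0) :
    IsPrimitiveRoot (φ ζ) n := by
  haveI : NeZero ((n : ℕ) : K) := ⟨by
    have h := hu.map φ
    rw [map_natCast] at h
    exact h.ne_zero⟩
  rw [← isRoot_cyclotomic_iff, IsRoot.def, ← map_cyclotomic_int, Polynomial.eval_map]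
  have h := aeval_map_cyclotomic φ n ζ hζ
  rw [aeval_def, algebraMap_int_eq] at h
  exact h

theorem geom_ne_zero {K : Type*} [Field K] (n : ℕ) (hn : 1 ≤ n) (hnK : ((n : ℕ) : K) ≠ 0) (c : K)
    (hc : c ^ n = 1) : (∑ i ∈ Finset.range n, c ^ i * c ^ (n - 1 - i)) ≠ 0 := by
  have h1 : ∀ i ∈ Finset.range n, c ^ i * c ^ (n - 1 - i) = c ^ (n - 1) := by
    intro i hi
    rw [← pow_add]
    congr 1
    have := Finset.mem_range.1 hi
    omega
  rw [Finset.sum_congr rfl h1, Finset.sum_const, Finset.card_range, nsmul_eq_mul]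
  have hc0 : c ≠ 0 := by
    rintro rfl
    rw [zero_pow (by omega)] at hc
    exact zero_ne_one hc
  exact mul_ne_zero hnK (pow_ne_zero _ hc0)

theorem exists_cyclotomic_root (A : Type u) [CommRing A]
    (hA : EtCoh.IsStrictlyHenselianLocalRing A) (n : ℕ) (hn : 1 ≤ n) (hu : IsUnit ((n : ℕ) : A)) :
    ∃ ζ : A, aeval ζ (cyclotomic n ℤ) = 0 := by
  obtain ⟨hH, hS⟩ := hA
  haveI := hH
  haveI := hS
  let res : A →+* IsLocalRing.ResidueField A := IsLocalRing.residue A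
  haveI : NeZero ((n : ℕ) : IsLocalRing.ResidueField A) := ⟨by
    have h := hu.map res
    rw [map_natCast] at h
    exact h.ne_zero⟩
  have hsep : (cyclotomic n (IsLocalRing.ResidueField A)).Separable := separable_cyclotomic n _
  have hdeg : (cyclotomic n (IsLocalRing.ResidueField A)).degree ≠ 0 := by
    rw [degree_cyclotomic]
    have := Nat.totient_pos.2 (show 0 < n by omega)
    exact_mod_cast this.ne'
  obtain ⟨a, ha⟩ := IsSepClosed.exists_root _ hdeg hsep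
  obtain ⟨a₀, rfl⟩ := IsLocalRing.residue_surjective a
  have hfk : (cyclotomic n A).map res = cyclotomic n (IsLocalRing.ResidueField A) :=
    map_cyclotomic n res
  have hev : ∀ p : A[X], res (eval a₀ p) = eval (res a₀) (p.map res) := by
    intro p
    rw [Polynomial.eval_map, eval₂_at_apply]
  have h1 : eval a₀ (cyclotomic n A) ∈ IsLocalRing.maximalIdeal A := by
    rw [← IsLocalRing.residue_eq_zero_iff]
    show res (eval a₀ (cyclotomic n A)) = 0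
    rw [hev, hfk]
    exact ha
  have h2 : IsUnit (eval a₀ (derivative (cyclotomic n A))) := by
    rw [← IsLocalRing.residue_ne_zero_iff_isUnit]
    show res (eval a₀ (derivative (cyclotomic n A))) ≠ 0
    rw [hev, ← derivative_map, hfk]
    have h3 := hsep.eval₂_derivative_ne_zero (RingHom.id _) (x := res a₀)
      (by rw [eval₂_id]; exact ha)
    rwa [eval₂_id] at h3
  obtain ⟨b, hb, -⟩ := HenselianLocalRing.is_henselian (cyclotomic n A) (cyclotomic.monic n A)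
    a₀ h1 h2
  refine ⟨b, ?_⟩
  rw [aeval_def, ← Polynomial.eval_map, algebraMap_int_eq, map_cyclotomic_int]
  exact hb

end Alg

section Sch

theorem isUnit_of_basicOpen_eq_top {Y : Scheme.{u}} (g : Γ(Y, ⊤)) (h : Y.basicOpen g = ⊤) :
    IsUnit g := by
  have h1 : IsUnit (Y.presheaf.map (homOfLE (Y.basicOpen_le g)).op g) :=
    RingedSpace.isUnit_res_basicOpen _ g
  have h2 := h1.map (Y.presheaf.map (homOfLE h.ge).op).hom
  have h3 : (Y.presheaf.map (homOfLE h.ge).op).hom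
      ((Y.presheaf.map (homOfLE (Y.basicOpen_le g)).op).hom g) = g := by
    rw [← CommRingCat.comp_apply, ← Functor.map_comp]
    have h4 : (homOfLE (Y.basicOpen_le g)).op ≫ (homOfLE h.ge).op = 𝟙 (op (⊤ : Y.Opens)) :=
      Subsingleton.elim _ _
    rw [h4, CategoryTheory.Functor.map_id]
    rfl
  rwa [h3] at h2

theorem exists_open_eq_pow {Y : Scheme.{u}} (n : ℕ) (hn : 1 ≤ n)
    (hu : IsUnit ((n : ℕ) : Γ(Y, ⊤))) (ζ : Γ(Y, ⊤)) (hζ : aeval ζ (cyclotomic n ℤ) = 0)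
    (y : Γ(Y, ⊤)) (hy : y ^ n = 1) (x : Y) :
    ∃ k, k < n ∧ ∃ V : Y.Opens, x ∈ V ∧ V.ι.appTop.hom y = V.ι.appTop.hom (ζ ^ k) := by
  haveI : NeZero n := ⟨by omega⟩
  let φ : Γ(Y, ⊤) →+* Y.residueField x := (Y.Γevaluation x).hom
  have hprim : IsPrimitiveRoot (φ ζ) n := isPrimitiveRoot_eval φ n hu ζ hζ
  have hyn : (φ y) ^ n = 1 := by rw [← map_pow, hy, map_one]
  obtain ⟨k, hk, hkζ⟩ := hprim.eq_pow_of_pow_eq_one hyn
  refine ⟨k, hk, ?_⟩
  have hwn : (ζ ^ k) ^ n = 1 := by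
    rw [← pow_mul, mul_comm, pow_mul, pow_eq_one_of_cyclotomic n ζ hζ, one_pow]
  let G : Γ(Y, ⊤) := ∑ i ∈ Finset.range n, y ^ i * (ζ ^ k) ^ (n - 1 - i)
  have hGmul : G * (y - ζ ^ k) = 0 := by
    show (∑ i ∈ Finset.range n, y ^ i * (ζ ^ k) ^ (n - 1 - i)) * (y - ζ ^ k) = 0
    rw [geom_sum₂_mul, hy, hwn, sub_self]
  have hφw : φ (ζ ^ k) = φ y := by rw [map_pow, hkζ]
  have hφG : φ G ≠ 0 := by
    have hnK : ((n : ℕ) : Y.residueField x) ≠ 0 := by
      have h := hu.map φ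
      rw [map_natCast] at h
      exact h.ne_zero
    have h1 : φ G = ∑ i ∈ Finset.range n, (φ y) ^ i * (φ y) ^ (n - 1 - i) := by
      show φ (∑ i ∈ Finset.range n, y ^ i * (ζ ^ k) ^ (n - 1 - i)) = _
      rw [map_sum]
      refine Finset.sum_congr rfl fun i _ => ?_
      rw [map_mul, map_pow, map_pow, hφw]
    rw [h1]
    exact geom_ne_zero n hn hnK (φ y) hyn
  have hxV : x ∈ Y.basicOpen G := (Y.evaluation_ne_zero_iff_mem_basicOpen x (show x ∈ (⊤ : Y.Opens) from trivial) G).1 hφG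
  refine ⟨Y.basicOpen G, hxV, ?_⟩
  have hunit : IsUnit ((Y.basicOpen G).ι.appTop.hom G) := by
    apply isUnit_of_basicOpen_eq_top
    exact (Scheme.preimage_basicOpen_top (Y.basicOpen G).ι G).symm.trans
      (Y.basicOpen G).ι_preimage_self
  have h0 : (Y.basicOpen G).ι.appTop.hom G *
      ((Y.basicOpen G).ι.appTop.hom y - (Y.basicOpen G).ι.appTop.hom (ζ ^ k)) = 0 := by
    rw [← map_sub, ← map_mul, hGmul, map_zero]
  exact sub_eq_zero.1 ((hunit.mul_right_eq_zero).1 h0)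

end Sch

section Sheaf

variable (S : Scheme.{u}) (n : ℕ) (ζ₀ : (Γ(S, ⊤))ˣ)

/-- the constant presheaf with value `ℤ/n` -/
noncomputable abbrev P0 : (S.Etale)ᵒᵖ ⥤ AddCommGrpCat.{u + 1} :=
  (Functor.const _).obj (AddCommGrpCat.of (ULift.{u + 1} (ZMod n)))

/-- the unit `ζ` on `U` -/
noncomputable def zU (U : S.Etale) : (Γ(U.left, ⊤))ˣ :=
  Units.map U.hom.appTop.hom.toMonoidHom ζ₀

theorem zU_map {U V : S.Etale} (f : V ⟶ U) :
    Units.map f.left.appTop.hom.toMonoidHom (zU S ζ₀ U) = zU S ζ₀ V := by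
  apply Units.ext
  show f.left.appTop.hom (U.hom.appTop.hom (ζ₀ : Γ(S, ⊤))) = V.hom.appTop.hom (ζ₀ : Γ(S, ⊤))
  have hw : f.left ≫ U.hom = V.hom := MorphismProperty.Over.w f
  have h2 : V.hom.appTop = U.hom.appTop ≫ f.left.appTop := by
    rw [← Scheme.Hom.comp_appTop, hw]
  rw [h2]
  rfl

noncomputable def gU (U : S.Etale) : ToType ((EtCoh.Gm S).obj.obj (op U)) :=
  ULift.up (Additive.ofMul (zU S ζ₀ U))

theorem map_gU {U V : S.Etale} (f : V ⟶ U) :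
    (EtCoh.Gm S).obj.map f.op (gU S ζ₀ U) = gU S ζ₀ V := by
  have h := KU.Gm_map_apply S f (zU S ζ₀ U)
  rw [zU_map] at h
  exact h

theorem nsmul_gU (hζ₀ : ζ₀ ^ n = 1) (U : S.Etale) : n • gU S ζ₀ U = 0 := by
  have h1 : (zU S ζ₀ U) ^ n = 1 := by rw [zU, ← map_pow, hζ₀, map_one]
  have h2 : n • Additive.ofMul (zU S ζ₀ U) = 0 := by rw [← ofMul_pow, h1, ofMul_one]
  exact congrArg ULift.up h2

noncomputable def zHom (hζ₀ : ζ₀ ^ n = 1) (U : S.Etale) :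
    { f : ℤ →+ ToType ((EtCoh.Gm S).obj.obj (op U)) // f n = 0 } :=
  ⟨zmultiplesHom (ToType ((EtCoh.Gm S).obj.obj (op U))) (gU S ζ₀ U), by
      rw [zmultiplesHom_apply, natCast_zsmul]
      exact nsmul_gU S n ζ₀ hζ₀ U⟩

noncomputable def etaU (hζ₀ : ζ₀ ^ n = 1) (U : S.Etale) :
    ULift.{u + 1} (ZMod n) →+ ToType ((EtCoh.Gm S).obj.obj (op U)) :=
  (ZMod.lift n (zHom S n ζ₀ hζ₀ U)).comp AddEquiv.ulift.toAddMonoidHom

theorem etaU_intCast (hζ₀ : ζ₀ ^ n = 1) (U : S.Etale) (m : ℤ) :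
    etaU S n ζ₀ hζ₀ U (ULift.up ((m : ℤ) : ZMod n)) = m • gU S ζ₀ U := by
  show ZMod.lift n (zHom S n ζ₀ hζ₀ U) ((m : ℤ) : ZMod n) = _
  rw [ZMod.lift_coe]
  exact zmultiplesHom_apply _ _ _

theorem etaU_up [NeZero n] (hζ₀ : ζ₀ ^ n = 1) (U : S.Etale) (a : ZMod n) :
    etaU S n ζ₀ hζ₀ U (ULift.up a) = ULift.up (Additive.ofMul (zU S ζ₀ U ^ a.val)) := by
  have h1 : a = (((a.val : ℕ) : ℤ) : ZMod n) := by
    rw [Int.cast_natCast, ZMod.natCast_zmod_val]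
  conv_lhs => rw [h1]
  rw [etaU_intCast, natCast_zsmul]
  rfl

noncomputable def eta (hζ₀ : ζ₀ ^ n = 1) : P0 S n ⟶ (EtCoh.Gm S).obj where
  app U := AddCommGrpCat.ofHom (etaU S n ζ₀ hζ₀ U.unop)
  naturality U V f := by
    refine ConcreteCategory.hom_ext _ _ (fun k => ?_)
    obtain ⟨m, hm⟩ := ZMod.intCast_surjective k.down
    have hk : k = ULift.up ((m : ℤ) : ZMod n) := ULift.ext _ _ hm.symm
    rw [hk]
    show etaU S n ζ₀ hζ₀ V.unop (ULift.up ((m : ℤ) : ZMod n)) =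
      (EtCoh.Gm S).obj.map f (etaU S n ζ₀ hζ₀ U.unop (ULift.up ((m : ℤ) : ZMod n)))
    rw [etaU_intCast, etaU_intCast]
    have h1 := map_zsmul ((EtCoh.Gm S).obj.map f).hom m (gU S ζ₀ U.unop)
    have h2 : ((EtCoh.Gm S).obj.map f).hom (gU S ζ₀ U.unop) = gU S ζ₀ V.unop :=
      map_gU S ζ₀ f.unop
    rw [h2] at h1
    exact h1.symm

noncomputable def alphaHom (hζ₀ : ζ₀ ^ n = 1) :
    sheafify S.smallEtaleTopology (P0 S n) ⟶ (EtCoh.Gm S).obj :=
  sheafifyLift S.smallEtaleTopology (eta S n ζ₀ hζ₀) (EtCoh.Gm S).property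

theorem toSheafify_alphaHom (hζ₀ : ζ₀ ^ n = 1) :
    toSheafify S.smallEtaleTopology (P0 S n) ≫ alphaHom S n ζ₀ hζ₀ = eta S n ζ₀ hζ₀ :=
  toSheafify_sheafifyLift _ _ _

noncomputable def alpha (hζ₀ : ζ₀ ^ n = 1) : EtCoh.const S (ZMod n) ⟶ EtCoh.Gm S :=
  ObjectProperty.homMk (alphaHom S n ζ₀ hζ₀)

theorem eta_pow (hζ₀ : ζ₀ ^ n = 1) : eta S n ζ₀ hζ₀ ≫ (EtCoh.powMap S n).hom = 0 := by
  apply NatTrans.ext
  funext U
  refine ConcreteCategory.hom_ext _ _ (fun k => ?_)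
  show (EtCoh.powMap S n).hom.app U (etaU S n ζ₀ hζ₀ U.unop k) = 0
  refine (KU.powMap_app S n U.unop (etaU S n ζ₀ hζ₀ U.unop k)).trans ?_
  rw [← map_nsmul]
  have hk0 : n • k = 0 := by
    apply ULift.ext
    show n • k.down = 0
    rw [nsmul_eq_mul, ZMod.natCast_self, zero_mul]
  rw [hk0, map_zero]

theorem alpha_pow (hζ₀ : ζ₀ ^ n = 1) : alpha S n ζ₀ hζ₀ ≫ EtCoh.powMap S n = 0 := by
  apply (sheafToPresheaf S.smallEtaleTopology AddCommGrpCat.{u + 1}).map_injective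
  rw [Functor.map_zero]
  show alphaHom S n ζ₀ hζ₀ ≫ (EtCoh.powMap S n).hom = 0
  refine sheafify_hom_ext S.smallEtaleTopology _ _ (EtCoh.Gm S).property ?_
  rw [← Category.assoc, toSheafify_alphaHom, Limits.comp_zero]
  exact eta_pow S n ζ₀ hζ₀

noncomputable def beta (hζ₀ : ζ₀ ^ n = 1) : EtCoh.const S (ZMod n) ⟶ EtCoh.mu S n :=
  kernel.lift (EtCoh.powMap S n) (alpha S n ζ₀ hζ₀) (alpha_pow S n ζ₀ hζ₀)

theorem beta_ι (hζ₀ : ζ₀ ^ n = 1) : beta S n ζ₀ hζ₀ ≫ EtCoh.muι S n = alpha S n ζ₀ hζ₀ :=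
  kernel.lift_ι _ _ _

theorem beta_ι_hom (hζ₀ : ζ₀ ^ n = 1) :
    (beta S n ζ₀ hζ₀).hom ≫ (EtCoh.muι S n).hom = alphaHom S n ζ₀ hζ₀ := by
  have h := (sheafToPresheaf S.smallEtaleTopology AddCommGrpCat.{u + 1}).congr_map
    (beta_ι S n ζ₀ hζ₀)
  rw [Functor.map_comp] at h
  exact h

theorem muι_injective (U : (S.Etale)ᵒᵖ) :
    Function.Injective ((EtCoh.muι S n).hom.app U) := by
  haveI := SHC.preservesFilteredColimits_forget.{u}
  haveI : Mono (EtCoh.muι S n) := by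
    unfold EtCoh.muι
    exact equalizer.ι_mono
  haveI h2 : Mono ((sheafToPresheaf _ _).map (EtCoh.muι S n)) := inferInstance
  haveI h3 : Mono ((EtCoh.muι S n).hom.app U) := (NatTrans.mono_iff_mono_app _).1 h2 U
  exact (AddCommGrpCat.mono_iff_injective _).1 h3

theorem nsmul_muι (U : S.Etale) (s : ToType ((EtCoh.mu S n).obj.obj (op U))) :
    n • (EtCoh.muι S n).hom.app (op U) s = 0 := by
  have h : EtCoh.muι S n ≫ EtCoh.powMap S n = 0 := kernel.condition _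
  have h3 := (sheafToPresheaf S.smallEtaleTopology AddCommGrpCat.{u + 1}).congr_map h
  rw [Functor.map_comp, Functor.map_zero] at h3
  have h4 : (EtCoh.powMap S n).hom.app (op U) ((EtCoh.muι S n).hom.app (op U) s) = 0 := by
    have h5 := congrArg (fun φ => (φ.app (op U)).hom s) h3
    exact h5
  rw [← KU.powMap_app]
  exact h4

theorem isPrimitiveRoot_at (hunit : IsUnit ((n : ℕ) : Γ(S, ⊤)))
    (hζ : aeval (ζ₀ : Γ(S, ⊤)) (cyclotomic n ℤ) = 0) (U : S.Etale) (v : U.left) :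
    IsPrimitiveRoot ((U.left.Γevaluation v).hom
      ((zU S ζ₀ U : (Γ(U.left, ⊤))ˣ) : Γ(U.left, ⊤))) n :=
  isPrimitiveRoot_eval ((U.left.Γevaluation v).hom.comp U.hom.appTop.hom) n hunit _ hζ

theorem isLocallyInjective_eta [NeZero n] (hζ₀ : ζ₀ ^ n = 1)
    (hunit : IsUnit ((n : ℕ) : Γ(S, ⊤)))
    (hζ : aeval (ζ₀ : Γ(S, ⊤)) (cyclotomic n ℤ) = 0) :
    Presheaf.IsLocallyInjective S.smallEtaleTopology (eta S n ζ₀ hζ₀) := by
  refine ⟨fun {U} k k' h => ?_⟩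
  by_cases hU : IsEmpty U.unop.left
  · haveI := hU
    exact S.smallEtaleTopology.superset_covering bot_le (SHC.bot_mem_of_isEmpty U.unop)
  · rw [not_isEmpty_iff] at hU
    obtain ⟨v⟩ := hU
    have hkk : k = k' := by
      have h' : etaU S n ζ₀ hζ₀ U.unop k = etaU S n ζ₀ hζ₀ U.unop k' := h
      have e1 := etaU_up S n ζ₀ hζ₀ U.unop k.down
      have e2 := etaU_up S n ζ₀ hζ₀ U.unop k'.down
      have h3 : (ULift.up (Additive.ofMul (zU S ζ₀ U.unop ^ k.down.val)) :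
          ToType ((EtCoh.Gm S).obj.obj (op U.unop))) =
          ULift.up (Additive.ofMul (zU S ζ₀ U.unop ^ k'.down.val)) :=
        e1.symm.trans (h'.trans e2)
      have h4 : zU S ζ₀ U.unop ^ k.down.val = zU S ζ₀ U.unop ^ k'.down.val :=
        Additive.ofMul.injective (ULift.up_injective h3)
      have h5 := congrArg (fun z : (Γ(U.unop.left, ⊤))ˣ =>
        (U.unop.left.Γevaluation v).hom (z : Γ(U.unop.left, ⊤))) h4
      simp only [Units.val_pow_eq_pow_val, map_pow] at h5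
      have h6 := (isPrimitiveRoot_at S n ζ₀ hunit hζ U.unop v).pow_inj (ZMod.val_lt _)
        (ZMod.val_lt _) h5
      exact ULift.ext _ _ (ZMod.val_injective n h6)
    rw [hkk, Presheaf.equalizerSieve_self_eq_top]
    exact S.smallEtaleTopology.top_mem _

theorem isLocallySurjective_beta [NeZero n] (hn : 1 ≤ n) (hζ₀ : ζ₀ ^ n = 1)
    (hunit : IsUnit ((n : ℕ) : Γ(S, ⊤)))
    (hζ : aeval (ζ₀ : Γ(S, ⊤)) (cyclotomic n ℤ) = 0) :
    Presheaf.IsLocallySurjective S.smallEtaleTopology (beta S n ζ₀ hζ₀).hom := by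
  refine ⟨fun {U} s => ?_⟩
  apply SHC.mem_of_pointwise
  intro x
  let y' : ToType ((EtCoh.Gm S).obj.obj (op U)) := (EtCoh.muι S n).hom.app (op U) s
  let yU : (Γ(U.left, ⊤))ˣ := y'.down.toMul
  have hyn : yU ^ n = 1 := by
    have h := nsmul_muι S n U s
    have h2 : (ULift.up (Additive.ofMul (yU ^ n)) : ToType ((EtCoh.Gm S).obj.obj (op U))) =
        ULift.up (Additive.ofMul (1 : (Γ(U.left, ⊤))ˣ)) := h
    exact Additive.ofMul.injective (ULift.up_injective h2)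
  have hunitU : IsUnit ((n : ℕ) : Γ(U.left, ⊤)) := by
    have h := hunit.map U.hom.appTop.hom
    rwa [map_natCast] at h
  have hζU : aeval ((zU S ζ₀ U : (Γ(U.left, ⊤))ˣ) : Γ(U.left, ⊤)) (cyclotomic n ℤ) = 0 :=
    aeval_map_cyclotomic U.hom.appTop.hom n _ hζ
  have hyn' : (yU : Γ(U.left, ⊤)) ^ n = 1 := by
    rw [← Units.val_pow_eq_pow_val, hyn, Units.val_one]
  obtain ⟨k, hk, V, hxV, hV⟩ :=
    exists_open_eq_pow n hn hunitU _ hζU (yU : Γ(U.left, ⊤)) hyn' x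
  haveI : Etale U.hom := U.prop
  let V' : S.Etale := Scheme.Etale.mk (V.ι ≫ U.hom)
  let g : V' ⟶ U := MorphismProperty.Over.homMk V.ι rfl trivial
  refine ⟨V', g, ⟨x, hxV⟩, ?_, rfl⟩
  let t : ToType ((EtCoh.const S (ZMod n)).obj.obj (op V')) :=
    (toSheafify S.smallEtaleTopology (P0 S n)).app (op V') (ULift.up (((k : ℕ) : ℤ) : ZMod n))
  refine ⟨t, ?_⟩
  apply muι_injective S n (op V')
  have hL : (EtCoh.muι S n).hom.app (op V') ((beta S n ζ₀ hζ₀).hom.app (op V') t) =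
      ULift.up (Additive.ofMul (zU S ζ₀ V' ^ k)) := by
    have h2 : (EtCoh.muι S n).hom.app (op V') ((beta S n ζ₀ hζ₀).hom.app (op V') t) =
        (alphaHom S n ζ₀ hζ₀).app (op V') t := by
      rw [← beta_ι_hom S n ζ₀ hζ₀]
      rfl
    have h3 : (alphaHom S n ζ₀ hζ₀).app (op V') t =
        (eta S n ζ₀ hζ₀).app (op V') (ULift.up (((k : ℕ) : ℤ) : ZMod n)) := by
      rw [← toSheafify_alphaHom S n ζ₀ hζ₀]
      rfl
    rw [h2, h3]
    show etaU S n ζ₀ hζ₀ V' (ULift.up (((k : ℕ) : ℤ) : ZMod n)) = _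
    rw [etaU_intCast, natCast_zsmul]
    rfl
  have hR : (EtCoh.muι S n).hom.app (op V') ((EtCoh.mu S n).obj.map g.op s) =
      ULift.up (Additive.ofMul (Units.map g.left.appTop.hom.toMonoidHom yU)) := by
    have h1 := NatTrans.naturality_apply (EtCoh.muι S n).hom g.op s
    rw [h1]
    exact KU.Gm_map_apply S g yU
  rw [hL, hR]
  congr 2
  apply Units.ext
  rw [Units.val_pow_eq_pow_val]
  have e1 : ((zU S ζ₀ V' : (Γ(V'.left, ⊤))ˣ) : Γ(V'.left, ⊤)) =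
      V.ι.appTop.hom ((zU S ζ₀ U : (Γ(U.left, ⊤))ˣ) : Γ(U.left, ⊤)) := by
    have h2 : (V.ι ≫ U.hom).appTop = U.hom.appTop ≫ V.ι.appTop := Scheme.Hom.comp_appTop _ _
    show (V.ι ≫ U.hom).appTop.hom (ζ₀ : Γ(S, ⊤)) = _
    rw [h2]
    rfl
  rw [e1]
  have e2 : V.ι.appTop.hom ((zU S ζ₀ U : (Γ(U.left, ⊤))ˣ) : Γ(U.left, ⊤)) ^ k =
      V.ι.appTop.hom (((zU S ζ₀ U : (Γ(U.left, ⊤))ˣ) : Γ(U.left, ⊤)) ^ k) :=
    (map_pow V.ι.appTop.hom _ k).symm
  exact e2.trans hV.symm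

theorem main13507 (S : Scheme.{u}) (n : ℕ) (hn : 1 ≤ n) (hunit : IsUnit ((n : ℕ) : Γ(S, ⊤)))
    (ζ : Γ(S, ⊤)) (hζ : aeval ζ (cyclotomic n ℤ) = 0) :
    Nonempty (EtCoh.mu S n ≅ EtCoh.const S (ZMod n)) := by
  haveI : NeZero n := ⟨by omega⟩
  have hpow : ζ ^ n = 1 := pow_eq_one_of_cyclotomic n ζ hζ
  let ζ₀ : (Γ(S, ⊤))ˣ := Units.ofPowEqOne ζ n hpow (by omega)
  have hζ₀v : (ζ₀ : Γ(S, ⊤)) = ζ := Units.val_ofPowEqOne _ _ _ _
  have hζ₀ : ζ₀ ^ n = 1 := by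
    apply Units.ext
    rw [Units.val_pow_eq_pow_val, hζ₀v, hpow]
    rfl
  have hζ' : aeval (ζ₀ : Γ(S, ⊤)) (cyclotomic n ℤ) = 0 := by
    rw [hζ₀v]
    exact hζ
  haveI := SHC.preservesFilteredColimits_forget.{u}
  haveI h1 : Presheaf.IsLocallyInjective S.smallEtaleTopology (eta S n ζ₀ hζ₀) :=
    isLocallyInjective_eta S n ζ₀ hζ₀ hunit hζ'
  haveI h2 : Presheaf.IsLocallyInjective S.smallEtaleTopology (alphaHom S n ζ₀ hζ₀) :=
    Presheaf.isLocallyInjective_of_isLocallyInjective_of_isLocallySurjective_fac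
      S.smallEtaleTopology (eta S n ζ₀ hζ₀) (toSheafify_alphaHom S n ζ₀ hζ₀)
  haveI h2' : Presheaf.IsLocallyInjective S.smallEtaleTopology
      ((beta S n ζ₀ hζ₀).hom ≫ (EtCoh.muι S n).hom) := by
    rw [beta_ι_hom]
    exact h2
  haveI h3 : Presheaf.IsLocallyInjective S.smallEtaleTopology (beta S n ζ₀ hζ₀).hom :=
    Presheaf.isLocallyInjective_of_isLocallyInjective S.smallEtaleTopology
      (beta S n ζ₀ hζ₀).hom (EtCoh.muι S n).hom
  haveI h4 := isLocallySurjective_beta S n ζ₀ hn hζ₀ hunit hζ'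
  haveI : IsIso (beta S n ζ₀ hζ₀) := (Sheaf.isLocallyBijective_iff_isIso _).1 ⟨h3, h4⟩
  exact ⟨(asIso (beta S n ζ₀ hζ₀)).symm⟩

theorem main14625 (A : Type u) [CommRing A]
    (hA : EtCoh.IsStrictlyHenselianLocalRing A) (n : ℕ) (hn : 1 ≤ n) (hu : IsUnit ((n : ℕ) : A))
    (X : Scheme.{u}) (f : X ⟶ Spec (CommRingCat.of A)) :
    Nonempty (EtCoh.mu X n ≅ EtCoh.const X (ZMod n)) := by
  obtain ⟨ζ, hζ⟩ := exists_cyclotomic_root A hA n hn hu
  let φ : A →+* Γ(X, ⊤) := ((Scheme.ΓSpecIso (CommRingCat.of A)).inv ≫ f.appTop).hom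
  refine main13507 X n hn ?_ (φ ζ) (aeval_map_cyclotomic φ n ζ hζ)
  have h := hu.map φ
  rwa [map_natCast] at h

end Sheaf

end Groth.Agent.Helper1.MU
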