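import Mathlib
import Groth.Prelude.Def_EtGm
import Groth.Prelude.Def_W4c5etcohweilstudentAS
import Groth.Agent.Lib.Helper1.MU1
import Groth.Agent.Lib.Helper1.KU4
import Groth.Agent.Lib.Helper1.CH8

/-!
# The Artin–Schreier sequence and `H^q(S, ℤ/p) = 0` for `q ≥ 2`, `S` affine of char. `p` (S0103)
-/

universe u
set_option linter.unusedSectionVars false
set_option autoImplicit false
set_option linter.style.haveILetI false
open CategoryTheory CategoryTheory.Limits Opposite AlgebraicGeometry W4c5etcohweilstudent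

namespace Groth.Agent.Helper1.ASZ

section Sch

theorem charP_residueField {Y : Scheme.{u}} (p : ℕ) [hp : Fact p.Prime]
    (h0 : (p : Γ(Y, ⊤)) = 0) (x : Y) : CharP (Y.residueField x) p := by
  have h : (p : Y.residueField x) = 0 := by
    have := congrArg (Y.Γevaluation x).hom h0
    rwa [map_natCast, map_zero] at this
  have hc : ringChar (Y.residueField x) = p := CharP.ringChar_of_prime_eq_zero hp.out h
  exact hc ▸ ringChar.charP _

theorem asHom_intCast {R : Type*} [CommRing R] (p : ℕ) (hp : p.Prime) (h0 : (p : R) = 0) (m : ℤ) :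
    (m : R) ^ p - (m : R) = 0 := by
  have h1 : asHom R p hp h0 (m : R) = m • asHom R p hp h0 1 := by
    rw [← map_zsmul, zsmul_one]
  rw [asHom_apply, asHom_apply, one_pow, sub_self, smul_zero] at h1
  exact h1

theorem exists_open_eq_intCast {Y : Scheme.{u}} (p : ℕ) [hp : Fact p.Prime]
    (h0 : (p : Γ(Y, ⊤)) = 0) (y : Γ(Y, ⊤)) (hy : y ^ p - y = 0) (x : Y) :
    ∃ (m : ℤ) (V : Y.Opens), x ∈ V ∧ V.ι.appTop.hom y = V.ι.appTop.hom (m : Γ(Y, ⊤)) := by
  haveI := charP_residueField p h0 x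
  let φ : Γ(Y, ⊤) →+* Y.residueField x := (Y.Γevaluation x).hom
  have h1 : (φ y) ^ p = φ y := by
    rw [← map_pow, ← sub_eq_zero, ← map_sub, hy, map_zero]
  obtain ⟨m, hm⟩ := (mem_bot_iff_intCast p (Y.residueField x)).1
    ((Subfield.mem_bot_iff_pow_eq_self (Y.residueField x) p).2 h1)
  refine ⟨m, ?_⟩
  let z : Γ(Y, ⊤) := y - m
  have hz : z ^ p - z = 0 := by
    have e : asHom Γ(Y, ⊤) p hp.out h0 z =
        asHom Γ(Y, ⊤) p hp.out h0 y - asHom Γ(Y, ⊤) p hp.out h0 (m : Γ(Y, ⊤)) := map_sub _ _ _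
    rw [asHom_apply, asHom_apply, asHom_apply, hy, asHom_intCast p hp.out h0 m, sub_zero] at e
    exact e
  let G : Γ(Y, ⊤) := z ^ (p - 1) - 1
  have hGmul : G * z = 0 := by
    have e : z ^ p = z ^ (p - 1) * z := by
      rw [← pow_succ, Nat.sub_add_cancel hp.out.one_le]
    show (z ^ (p - 1) - 1) * z = 0
    rw [sub_mul, one_mul, ← e, hz]
  have hφz : φ z = 0 := by
    show φ (y - m) = 0
    rw [map_sub, map_intCast, hm, sub_self]
  have hφG : φ G ≠ 0 := by
    show φ (z ^ (p - 1) - 1) ≠ 0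
    have hp1 : p - 1 ≠ 0 := by have := hp.out.two_le; omega
    rw [map_sub, map_pow, hφz, zero_pow hp1, map_one, zero_sub]
    exact neg_ne_zero.2 one_ne_zero
  have hxV : x ∈ Y.basicOpen G :=
    (Y.evaluation_ne_zero_iff_mem_basicOpen x (show x ∈ (⊤ : Y.Opens) from trivial) G).1 hφG
  refine ⟨Y.basicOpen G, hxV, ?_⟩
  have hunit : IsUnit ((Y.basicOpen G).ι.appTop.hom G) := by
    apply MU.isUnit_of_basicOpen_eq_top
    exact (Scheme.preimage_basicOpen_top (Y.basicOpen G).ι G).symm.trans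
      (Y.basicOpen G).ι_preimage_self
  have h0' : (Y.basicOpen G).ι.appTop.hom G *
      ((Y.basicOpen G).ι.appTop.hom y - (Y.basicOpen G).ι.appTop.hom (m : Γ(Y, ⊤))) = 0 := by
    rw [← map_sub, ← map_mul]
    exact (congrArg _ hGmul).trans (map_zero _)
  exact sub_eq_zero.1 ((hunit.mul_right_eq_zero).1 h0')

end Sch

section Sheaf

variable (S : Scheme.{u}) (p : ℕ) [hp : Fact p.Prime] (h0 : (p : Γ(S, ⊤)) = 0)

/-- `ℤ/p → Γ(U, O_U)` -/
noncomputable def etaU (U : S.Etale) : ULift.{u + 1} (ZMod p) →+ ULift.{u + 1} Γ(U.left, ⊤) :=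
  (AddEquiv.ulift.symm.toAddMonoidHom.comp
    (ZMod.lift p ⟨Int.castAddHom Γ(U.left, ⊤), by
      show ((p : ℤ) : Γ(U.left, ⊤)) = 0
      rw [Int.cast_natCast]
      exact natCast_eq_zero_etale p h0 U⟩)).comp AddEquiv.ulift.toAddMonoidHom

theorem etaU_intCast (U : S.Etale) (m : ℤ) :
    etaU S p h0 U (ULift.up ((m : ℤ) : ZMod p)) = ULift.up ((m : ℤ) : Γ(U.left, ⊤)) := by
  show ULift.up (ZMod.lift p _ ((m : ℤ) : ZMod p)) = _
  rw [ZMod.lift_coe]
  rfl

noncomputable def eta : MU.P0 S p ⟶ (EtCoh.Ga S).obj where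
  app U := AddCommGrpCat.ofHom (etaU S p h0 U.unop)
  naturality U V f := by
    refine ConcreteCategory.hom_ext _ _ (fun k => ?_)
    obtain ⟨m, hm⟩ := ZMod.intCast_surjective k.down
    have hk : k = ULift.up ((m : ℤ) : ZMod p) := ULift.ext _ _ hm.symm
    rw [hk]
    show etaU S p h0 V.unop (ULift.up ((m : ℤ) : ZMod p)) =
      ((EtCoh.Ga S).obj.map f).hom (etaU S p h0 U.unop (ULift.up ((m : ℤ) : ZMod p)))
    rw [etaU_intCast, etaU_intCast]
    exact congrArg ULift.up (map_intCast (f.unop.left.appTop.hom) m).symm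

noncomputable def alphaHom : sheafify S.smallEtaleTopology (MU.P0 S p) ⟶ (EtCoh.Ga S).obj :=
  sheafifyLift S.smallEtaleTopology (eta S p h0) (EtCoh.Ga S).property

theorem toSheafify_alphaHom :
    toSheafify S.smallEtaleTopology (MU.P0 S p) ≫ alphaHom S p h0 = eta S p h0 :=
  toSheafify_sheafifyLift _ _ _

noncomputable def alpha : EtCoh.const S (ZMod p) ⟶ EtCoh.Ga S :=
  ObjectProperty.homMk (alphaHom S p h0)

/-- the Artin–Schreier endomorphism -/
noncomputable abbrev AS : EtCoh.Ga S ⟶ EtCoh.Ga S := artinSchreierEndo S p hp.out h0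

theorem eta_AS : eta S p h0 ≫ (AS S p h0).hom = 0 := by
  apply NatTrans.ext
  funext U
  refine ConcreteCategory.hom_ext _ _ (fun k => ?_)
  obtain ⟨m, hm⟩ := ZMod.intCast_surjective k.down
  have hk : k = ULift.up ((m : ℤ) : ZMod p) := ULift.ext _ _ hm.symm
  rw [hk]
  show ((AS S p h0).hom.app U).hom (etaU S p h0 U.unop (ULift.up ((m : ℤ) : ZMod p))) = 0
  rw [etaU_intCast]
  exact congrArg ULift.up (asHom_intCast p hp.out (natCast_eq_zero_etale p h0 U.unop) m)

theorem alpha_AS : alpha S p h0 ≫ AS S p h0 = 0 := by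
  apply (sheafToPresheaf S.smallEtaleTopology AddCommGrpCat.{u + 1}).map_injective
  rw [Functor.map_zero]
  show alphaHom S p h0 ≫ (AS S p h0).hom = 0
  refine sheafify_hom_ext S.smallEtaleTopology _ _ (EtCoh.Ga S).property ?_
  rw [← Category.assoc, toSheafify_alphaHom, Limits.comp_zero]
  exact eta_AS S p h0

noncomputable def beta : EtCoh.const S (ZMod p) ⟶ kernel (AS S p h0) :=
  kernel.lift (AS S p h0) (alpha S p h0) (alpha_AS S p h0)

theorem beta_ι : beta S p h0 ≫ kernel.ι (AS S p h0) = alpha S p h0 := kernel.lift_ι _ _ _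

theorem beta_ι_hom :
    (beta S p h0).hom ≫ (kernel.ι (AS S p h0)).hom = alphaHom S p h0 := by
  have h := (sheafToPresheaf S.smallEtaleTopology AddCommGrpCat.{u + 1}).congr_map
    (beta_ι S p h0)
  rw [Functor.map_comp] at h
  exact h

theorem ι_AS_apply (U : S.Etale) (s : (kernel (AS S p h0)).obj.obj (op U)) :
    ((AS S p h0).hom.app (op U)).hom (((kernel.ι (AS S p h0)).hom.app (op U)).hom s) = 0 := by
  have h : kernel.ι (AS S p h0) ≫ AS S p h0 = 0 := kernel.condition _
  have h3 := (sheafToPresheaf S.smallEtaleTopology AddCommGrpCat.{u + 1}).congr_map h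
  rw [Functor.map_comp, Functor.map_zero] at h3
  exact congrArg (fun φ => (φ.app (op U)).hom s) h3

theorem isLocallyInjective_eta :
    Presheaf.IsLocallyInjective S.smallEtaleTopology (eta S p h0) := by
  refine ⟨fun {U} k k' h => ?_⟩
  by_cases hU : IsEmpty U.unop.left
  · haveI := hU
    exact S.smallEtaleTopology.superset_covering bot_le (SHC.bot_mem_of_isEmpty U.unop)
  · rw [not_isEmpty_iff] at hU
    obtain ⟨v⟩ := hU
    have hkk : k = k' := by
      have h' : etaU S p h0 U.unop k = etaU S p h0 U.unop k' := h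
      obtain ⟨m, hm⟩ := ZMod.intCast_surjective k.down
      obtain ⟨m', hm'⟩ := ZMod.intCast_surjective k'.down
      have hk : k = ULift.up ((m : ℤ) : ZMod p) := ULift.ext _ _ hm.symm
      have hk' : k' = ULift.up ((m' : ℤ) : ZMod p) := ULift.ext _ _ hm'.symm
      rw [hk, hk', etaU_intCast, etaU_intCast] at h'
      have h2 : ((m : ℤ) : Γ(U.unop.left, ⊤)) = ((m' : ℤ) : Γ(U.unop.left, ⊤)) :=
        ULift.up_injective h'
      haveI := charP_residueField p (natCast_eq_zero_etale p h0 U.unop) v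
      have h3 := congrArg (U.unop.left.Γevaluation v).hom h2
      rw [map_intCast, map_intCast] at h3
      rw [hk, hk']
      congr 1
      exact (ZMod.intCast_eq_intCast_iff m m' p).2
        ((CharP.intCast_eq_intCast (U.unop.left.residueField v) p).1 h3)
    rw [hkk, Presheaf.equalizerSieve_self_eq_top]
    exact S.smallEtaleTopology.top_mem _

end Sheaf

end Groth.Agent.Helper1.ASZ
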