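import Mathlib
import Groth.Prelude.Def_EtGm
import Groth.Prelude.Def_W4c5etcohweilstudentAS
import Groth.Agent.Lib.Helper1.ASZ1

/-!
# `ℤ/p ≅ ker(F - 1 : G_a → G_a)` and `H^q(S, ℤ/p) = 0` for `q ≥ 2` (S0103)
-/

universe u
set_option linter.unusedSectionVars false
set_option autoImplicit false
set_option linter.style.haveILetI false
open CategoryTheory CategoryTheory.Limits Opposite AlgebraicGeometry W4c5etcohweilstudent

namespace Groth.Agent.Helper1.ASZ

section Sheaf

variable (S : Scheme.{u}) (p : ℕ) [hp : Fact p.Prime] (h0 : (p : Γ(S, ⊤)) = 0)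

theorem isLocallySurjective_beta :
    Presheaf.IsLocallySurjective S.smallEtaleTopology (beta S p h0).hom := by
  refine ⟨fun {U} s => ?_⟩
  apply SHC.mem_of_pointwise
  intro x
  let y' : ULift.{u+1} Γ(U.left, ⊤) := ((kernel.ι (AS S p h0)).hom.app (op U)).hom s
  have hy : y'.down ^ p - y'.down = 0 := by
    have h := ι_AS_apply S p h0 U s
    have h2 : (ULift.up (y'.down ^ p - y'.down) : ULift.{u+1} Γ(U.left, ⊤)) = ULift.up 0 := h
    exact ULift.up_injective h2
  obtain ⟨m, V, hxV, hV⟩ :=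
    exists_open_eq_intCast p (natCast_eq_zero_etale p h0 U) y'.down hy x
  let V' : S.Etale := ES.openObj U V
  let g : V' ⟶ U := ES.openObjι U V
  refine ⟨V', g, ⟨x, hxV⟩, ?_, rfl⟩
  let t : (EtCoh.const S (ZMod p)).obj.obj (op V') :=
    ((toSheafify S.smallEtaleTopology (MU.P0 S p)).app (op V')).hom
      (ULift.up ((m : ℤ) : ZMod p))
  refine ⟨t, ?_⟩
  apply ES.injective_app_of_mono (kernel.ι (AS S p h0)) V'
  have hL : ((kernel.ι (AS S p h0)).hom.app (op V')).hom
      (((beta S p h0).hom.app (op V')).hom t) = ULift.up ((m : ℤ) : Γ(V'.left, ⊤)) := by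
    have h2 : ((kernel.ι (AS S p h0)).hom.app (op V')).hom
        (((beta S p h0).hom.app (op V')).hom t) = ((alphaHom S p h0).app (op V')).hom t := by
      rw [← beta_ι_hom S p h0]
      rfl
    have h3 : ((alphaHom S p h0).app (op V')).hom t =
        ((eta S p h0).app (op V')).hom (ULift.up ((m : ℤ) : ZMod p)) := by
      rw [← toSheafify_alphaHom S p h0]
      rfl
    rw [h2, h3]
    exact etaU_intCast S p h0 V' m
  have hR : ((kernel.ι (AS S p h0)).hom.app (op V')).hom
      (((kernel (AS S p h0)).obj.map g.op).hom s) = ULift.up (V.ι.appTop.hom y'.down) := by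
    have h1 := congrArg (fun φ => φ.hom s) ((kernel.ι (AS S p h0)).hom.naturality g.op)
    simp only [AddCommGrpCat.hom_comp, AddMonoidHom.comp_apply] at h1
    exact h1
  refine hL.trans (Eq.trans ?_ hR.symm)
  rw [hV]
  exact congrArg ULift.up (map_intCast V.ι.appTop.hom m).symm

theorem isIso_beta : IsIso (beta S p h0) := by
  haveI := SHC.preservesFilteredColimits_forget.{u}
  haveI h1 : Presheaf.IsLocallyInjective S.smallEtaleTopology (eta S p h0) :=
    isLocallyInjective_eta S p h0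
  haveI h2 : Presheaf.IsLocallyInjective S.smallEtaleTopology (alphaHom S p h0) :=
    Presheaf.isLocallyInjective_of_isLocallyInjective_of_isLocallySurjective_fac
      S.smallEtaleTopology (eta S p h0) (toSheafify_alphaHom S p h0)
  haveI h2' : Presheaf.IsLocallyInjective S.smallEtaleTopology
      ((beta S p h0).hom ≫ (kernel.ι (AS S p h0)).hom) := by
    rw [beta_ι_hom]
    exact h2
  haveI h3 : Presheaf.IsLocallyInjective S.smallEtaleTopology (beta S p h0).hom :=
    Presheaf.isLocallyInjective_of_isLocallyInjective S.smallEtaleTopology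
      (beta S p h0).hom (kernel.ι (AS S p h0)).hom
  haveI h4 := isLocallySurjective_beta S p h0
  exact (Sheaf.isLocallyBijective_iff_isIso _).1 ⟨h3, h4⟩

end Sheaf

open Abelian

theorem main0103 (S : Scheme.{u}) [IsAffine S] (p : ℕ) [hp : Fact p.Prime] [CharP Γ(S, ⊤) p]
    (q : ℕ) (hq : 2 ≤ q) : Subsingleton (EtCoh.H S (EtCoh.const S (ZMod p)) q) := by
  have h0 : (p : Γ(S, ⊤)) = 0 := CharP.cast_eq_zero _ p
  haveI : Epi (AS S p h0) := KU.main18415 p hp.out h0
  let T : ShortComplex (EtCoh.Ab S) :=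
    ShortComplex.mk (kernel.ι (AS S p h0)) (AS S p h0) (kernel.condition _)
  have hT : T.ShortExact :=
    { exact := ShortComplex.exact_kernel _
      mono_f := inferInstanceAs (Mono (kernel.ι (AS S p h0)))
      epi_g := inferInstanceAs (Epi (AS S p h0)) }
  obtain ⟨q', rfl⟩ : ∃ q', q = q' + 2 := ⟨q - 2, by omega⟩
  haveI h1 : Subsingleton (EtCoh.H S (EtCoh.Ga S) (q'+1)) := CE.main0109 S (q'+1) (by omega)
  haveI h2 : Subsingleton (EtCoh.H S (EtCoh.Ga S) (q'+2)) := CE.main0109 S (q'+2) (by omega)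
  have hK : Subsingleton (EtCoh.H S (kernel (AS S p h0)) (q'+2)) := by
    refine subsingleton_of_forall_eq 0 fun ξ => ?_
    obtain ⟨x₃, hx₃⟩ := Ext.covariant_sequence_exact₁ _ hT (ξ : Ext _ T.X₁ (q'+2))
      (@Subsingleton.elim _ h2 _ _) (rfl : (q' + 1) + 1 = q' + 2)
    rw [← hx₃, @Subsingleton.elim _ h1 x₃ 0, Ext.zero_comp]
  haveI := isIso_beta S p h0
  let e : EtCoh.const S (ZMod p) ≅ kernel (AS S p h0) := asIso (beta S p h0)
  refine subsingleton_of_forall_eq 0 fun ξ => ?_
  have hξ : ξ = (ξ.comp (Ext.mk₀ e.hom) (add_zero _)).comp (Ext.mk₀ e.inv) (add_zero _) := by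
    rw [Ext.comp_assoc_of_third_deg_zero, Ext.mk₀_comp_mk₀, e.hom_inv_id, Ext.comp_mk₀_id]
  rw [hξ, @Subsingleton.elim _ hK (ξ.comp (Ext.mk₀ e.hom) (add_zero _)) 0, Ext.zero_comp]

end Groth.Agent.Helper1.ASZ
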