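import Mathlib.RingTheory.Ideal.Operations
import Mathlib.RingTheory.Nilpotent.Defs

set_option autoImplicit false

namespace Groth.Agent.Helper1

/-- Nakayama for a nilpotent ideal, no finiteness needed. -/
theorem eq_top_of_sup_smul_eq_top_of_isNilpotent {R M : Type*} [CommRing R] [AddCommGroup M]
    [Module R M] (I : Ideal R) (hI : IsNilpotent I) (N : Submodule R M)
    (h : N ⊔ I • (⊤ : Submodule R M) = ⊤) : N = ⊤ := by
  have key : ∀ n : ℕ, N ⊔ (I ^ n) • (⊤ : Submodule R M) = ⊤ := by
    intro n
    induction n with
    | zero => simp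
    | succ n ih =>
      rw [eq_top_iff]
      calc (⊤ : Submodule R M) = N ⊔ (I ^ n) • (⊤ : Submodule R M) := ih.symm
        _ = N ⊔ (I ^ n) • (N ⊔ I • (⊤ : Submodule R M)) := by rw [h]
        _ = N ⊔ ((I ^ n) • N ⊔ (I ^ n) • (I • (⊤ : Submodule R M))) := by
            rw [Submodule.smul_sup]
        _ ≤ N ⊔ (I ^ (n + 1)) • (⊤ : Submodule R M) := by
            apply sup_le le_sup_left
            apply sup_le
            · exact le_trans Submodule.smul_le_right le_sup_left
            · rw [← Submodule.smul_assoc, smul_eq_mul, ← pow_succ]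
              exact le_sup_right
  obtain ⟨n, hn⟩ := hI
  have := key n
  rw [hn] at this
  simpa using this

end Groth.Agent.Helper1
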