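import Mathlib
import Groth.Agent.Lib.Helper1.LocalCriterion
import Groth.Agent.Lib.Helper1.LocalFlat
import Groth.Agent.Lib.Helper1.NilNakayama

/-!
# Flatness descends along injective maps out of Artinian rings (Stacks 051D-ish)
-/

namespace Groth.Agent.Helper1

open TensorProduct Function IsLocalRing

universe u

/-- A surjection onto a flat module which is injective modulo a nilpotent ideal is injective. -/
theorem injective_of_lTensor_quotient_injective_of_flat {S : Type u} [CommRing S] (J : Ideal S)
    (hJ : IsNilpotent J) {F M : Type u} [AddCommGroup F] [Module S F] [AddCommGroup M] [Module S M]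
    [Module.Flat S M] (u : F →ₗ[S] M) (hu : Surjective u) (h : Injective (u.lTensor (S ⧸ J))) :
    Injective u := by
  have h1 : Injective ((LinearMap.ker u).subtype.lTensor (S ⧸ J)) :=
    lTensor_injective_of_exact_of_flat (LinearMap.ker u).subtype u (Submodule.injective_subtype _)
      (LinearMap.exact_subtype_ker_map u) hu (S ⧸ J)
  have h2 : J • (⊤ : Submodule S (LinearMap.ker u)) = ⊤ := by
    rw [eq_top_iff]
    intro x _
    rw [← one_tmul_eq_zero_iff]
    apply h1
    apply h
    rw [map_zero, map_zero, ← LinearMap.comp_apply, ← LinearMap.lTensor_comp]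
    have : u ∘ₗ (LinearMap.ker u).subtype = 0 := by
      ext y
      exact y.2
    rw [this, LinearMap.lTensor_zero, LinearMap.zero_apply]
  have h3 : (⊥ : Submodule S (LinearMap.ker u)) = ⊤ :=
    eq_top_of_sup_smul_eq_top_of_isNilpotent J hJ ⊥ (by rw [bot_sup_eq, h2])
  rw [← LinearMap.ker_eq_bot, eq_bot_iff]
  intro x hx
  have h4 : (⟨x, hx⟩ : LinearMap.ker u) ∈ (⊥ : Submodule S (LinearMap.ker u)) := by
    rw [h3]; trivial
  have h5 : (⟨x, hx⟩ : LinearMap.ker u) = 0 := by simpa using h4
  simpa using congrArg Subtype.val h5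

/-- Local case: flatness descends along an injective ring map out of an Artinian local ring. -/
theorem flat_of_injective_of_isArtinianRing_of_isLocalRing {R S M : Type u} [CommRing R]
    [CommRing S] [IsLocalRing R] [IsArtinianRing R] [Algebra R S]
    (hinj : Injective (algebraMap R S)) [AddCommGroup M] [Module R M]
    [Module.Flat S (S ⊗[R] M)] : Module.Flat R M := by
  classical
  have hnil : IsNilpotent (maximalIdeal R) := by
    have := IsArtinianRing.isNilpotent_jacobson_bot (R := R)
    rwa [IsLocalRing.jacobson_eq_maximalIdeal ⊥ bot_ne_top] at this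
  let b := Module.Free.chooseBasis (ResidueField R) (ResidueField R ⊗[R] M)
  have hm : ∀ i, ∃ x : M, (1 : ResidueField R) ⊗ₜ[R] x = b i :=
    fun i => exists_one_tmul_eq (maximalIdeal R) (b i)
  choose m hm using hm
  let u : (Module.Free.ChooseBasisIndex (ResidueField R) (ResidueField R ⊗[R] M) →₀ R) →ₗ[R] M :=
    Finsupp.linearCombination R m
  -- `k ⊗ u` is bijective
  have hcomp : (b.repr.symm.toLinearMap.restrictScalars R) =
      (u.lTensor (ResidueField R)) ∘ₗ
        (TensorProduct.finsuppScalarRight R R (ResidueField R) _).symm.toLinearMap := by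
    have h1 := Finsupp.linearCombination_one_tmul R (ResidueField R) M
      (Module.Free.ChooseBasisIndex (ResidueField R) (ResidueField R ⊗[R] M)) (v := m)
    rw [← h1]
    have h2 : (fun i => (1 : ResidueField R) ⊗ₜ[R] m i) = b := funext hm
    rw [h2, ← Module.Basis.coe_repr_symm]
  have hkbij : Bijective (u.lTensor (ResidueField R)) := by
    have h1 : ∀ x, u.lTensor (ResidueField R) x =
        b.repr.symm (TensorProduct.finsuppScalarRight R R (ResidueField R) _ x) := by
      intro x
      have := congrArg (fun f => f (TensorProduct.finsuppScalarRight R R (ResidueField R) _ x)) hcomp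
      simp only [LinearMap.comp_apply, LinearEquiv.coe_coe, LinearEquiv.symm_apply_apply,
        LinearMap.restrictScalars_apply] at this
      exact this.symm
    have h2 : ⇑(u.lTensor (ResidueField R)) =
        ⇑b.repr.symm ∘ ⇑(TensorProduct.finsuppScalarRight R R (ResidueField R) _) := funext h1
    rw [h2]
    exact b.repr.symm.bijective.comp (TensorProduct.finsuppScalarRight R R (ResidueField R) _).bijective
  -- `u` is surjective
  have hsurj : Surjective u := by
    rw [← LinearMap.range_eq_top]
    apply eq_top_of_sup_smul_eq_top_of_isNilpotent (maximalIdeal R) hnil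
    rw [eq_top_iff]
    intro x _
    obtain ⟨z, hz⟩ := hkbij.2 ((1 : ResidueField R) ⊗ₜ[R] x)
    obtain ⟨f, rfl⟩ : ∃ f, (1 : ResidueField R) ⊗ₜ[R] f = z := exists_one_tmul_eq (maximalIdeal R) z
    rw [LinearMap.lTensor_tmul] at hz
    have h1 : (1 : ResidueField R) ⊗ₜ[R] (x - u f) = 0 := by
      rw [TensorProduct.tmul_sub]
      exact sub_eq_zero.mpr hz.symm
    replace h1 : x - u f ∈ maximalIdeal R • (⊤ : Submodule R M) :=
      (one_tmul_eq_zero_iff (maximalIdeal R) (x - u f)).mp h1
    have h2 : x = u f + (x - u f) := by abel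
    rw [h2]
    exact Submodule.add_mem_sup (LinearMap.mem_range_self u f) h1
  -- `S ⊗ u` is injective
  set J : Ideal S := (maximalIdeal R).map (algebraMap R S) with hJ
  have hJnil : IsNilpotent J := by
    obtain ⟨n, hn⟩ := hnil
    refine ⟨n, ?_⟩
    rw [hJ, ← Ideal.map_pow, hn]
    exact Ideal.map_bot
  have hQ : maximalIdeal R • (⊤ : Submodule R (S ⧸ J)) = ⊥ := by
    rw [eq_bot_iff, Submodule.smul_le]
    intro r hr q _
    obtain ⟨s, rfl⟩ := Ideal.Quotient.mk_surjective q
    rw [Submodule.mem_bot, Algebra.smul_def,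
      IsScalarTower.algebraMap_apply R S (S ⧸ J), Ideal.Quotient.algebraMap_eq, ← map_mul,
      Ideal.Quotient.eq_zero_iff_mem]
    exact Ideal.mul_mem_right _ _ (Ideal.mem_map_of_mem _ hr)
  have hSQ : Injective ((u.baseChange S).lTensor (S ⧸ J)) := by
    have h1 : Injective (u.lTensor (S ⧸ J)) :=
      lTensor_injective_of_residueField_of_smul_eq_bot u hkbij.1 (S ⧸ J) hQ
    intro x y hxy
    apply (AlgebraTensorModule.cancelBaseChange R S S (S ⧸ J) _).injective
    apply h1
    rw [← cancelBaseChange_lTensor, ← cancelBaseChange_lTensor, hxy]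
  have hSsurj : Surjective (u.baseChange S) := by
    intro x
    obtain ⟨y, hy⟩ := LinearMap.lTensor_surjective S hsurj x
    exact ⟨y, by rw [← hy]; rfl⟩
  have hS : Injective (u.baseChange S) :=
    injective_of_lTensor_quotient_injective_of_flat J hJnil (u.baseChange S) hSsurj hSQ
  -- `u` is injective
  have huinj : Injective u := by
    rw [injective_iff_map_eq_zero]
    intro x hx
    have h1 : (u.baseChange S) ((1 : S) ⊗ₜ[R] x) = 0 := by
      rw [LinearMap.baseChange_tmul, hx, TensorProduct.tmul_zero]
    have h2 : (1 : S) ⊗ₜ[R] x = 0 := by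
      apply hS
      rw [h1, map_zero]
    have h3 : Injective ((Algebra.linearMap R S).rTensor
        (Module.Free.ChooseBasisIndex (ResidueField R) (ResidueField R ⊗[R] M) →₀ R)) :=
      Module.Flat.rTensor_preserves_injective_linearMap _ hinj
    have h4 : ((Algebra.linearMap R S).rTensor _) ((1 : R) ⊗ₜ[R] x) = 0 := by
      rw [LinearMap.rTensor_tmul, Algebra.linearMap_apply, map_one, h2]
    have h5 : (1 : R) ⊗ₜ[R] x = 0 := h3 (by rw [h4, map_zero])
    simpa using congrArg (TensorProduct.lid R _) h5
  exact Module.Flat.of_linearEquiv (LinearEquiv.ofBijective u ⟨huinj, hsurj⟩).symm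

/-- Flatness descends along an injective ring map out of an Artinian ring. -/
theorem flat_of_injective_of_isArtinianRing {R S M : Type u} [CommRing R] [CommRing S]
    [IsArtinianRing R] [Algebra R S] (hinj : Injective (algebraMap R S)) [AddCommGroup M]
    [Module R M] [Module.Flat S (S ⊗[R] M)] : Module.Flat R M := by
  refine Module.flat_of_isLocalized_maximal R M (fun P _ => Localization.AtPrime P ⊗[R] M)
    (fun P _ => TensorProduct.mk R (Localization.AtPrime P) M 1) ?_
  intro P hP
  suffices h : Module.Flat (Localization.AtPrime P) (Localization.AtPrime P ⊗[R] M) from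
    (Module.flat_iff_of_isLocalization (Localization.AtPrime P) P.primeCompl _).mp h
  let R' := Localization.AtPrime P
  let S' := R' ⊗[R] S
  let _ : Algebra S S' := Algebra.TensorProduct.rightAlgebra
  have hinj' : Injective (algebraMap R' S') := by
    have h1 : Injective ((Algebra.linearMap R S).lTensor R') :=
      Module.Flat.lTensor_preserves_injective_linearMap _ hinj
    intro a b hab
    have h2 : (Algebra.linearMap R S).lTensor R' (a ⊗ₜ[R] (1 : R)) =
        (Algebra.linearMap R S).lTensor R' (b ⊗ₜ[R] (1 : R)) := by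
      rw [LinearMap.lTensor_tmul, LinearMap.lTensor_tmul, Algebra.linearMap_apply, map_one]
      rw [Algebra.TensorProduct.algebraMap_apply, Algebra.TensorProduct.algebraMap_apply] at hab
      simpa using hab
    have h3 := h1 h2
    simpa using congrArg (TensorProduct.rid R R') h3
  let e1 : S' ⊗[R'] (R' ⊗[R] M) ≃ₗ[S'] S' ⊗[R] M :=
    AlgebraTensorModule.cancelBaseChange R R' S' S' M
  let e2 : S' ⊗[S] (S ⊗[R] M) ≃ₗ[S'] S' ⊗[R] M :=
    AlgebraTensorModule.cancelBaseChange R S S' S' M
  have : Module.Flat S' (S' ⊗[R] M) := Module.Flat.of_linearEquiv e2.symm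
  have : Module.Flat S' (S' ⊗[R'] (R' ⊗[R] M)) := Module.Flat.of_linearEquiv e1
  exact flat_of_injective_of_isArtinianRing_of_isLocalRing (R := R') (S := S') hinj'

end Groth.Agent.Helper1
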