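import Mathlib

/-!
# Minimal primes of `A' ⊗[A] Ah` for a birational-type extension `A → A'` and flat `A → Ah`
-/

set_option autoImplicit false

namespace Groth.Agent.Helper1.BR

open TensorProduct

section LemmaM

variable {S C : Type*} [CommRing S] [CommRing C] (φ : S →+* C) (N : Submonoid S)

/-- the extension of an ideal along a "localization-like" map -/
def ext (hc : ∀ c : C, ∃ n ∈ N, ∃ s : S, φ n * c = φ s) (P : Ideal S) : Ideal C where
  carrier := {c | ∃ n ∈ N, ∃ s ∈ P, φ n * c = φ s}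
  add_mem' := by
    rintro c₁ c₂ ⟨n₁, hn₁, s₁, hs₁, h₁⟩ ⟨n₂, hn₂, s₂, hs₂, h₂⟩
    refine ⟨n₁ * n₂, N.mul_mem hn₁ hn₂, n₂ * s₁ + n₁ * s₂,
      P.add_mem (P.mul_mem_left _ hs₁) (P.mul_mem_left _ hs₂), ?_⟩
    rw [map_mul, map_add, map_mul, map_mul, ← h₁, ← h₂]
    ring
  zero_mem' := ⟨1, N.one_mem, 0, P.zero_mem, by rw [mul_zero, map_zero]⟩
  smul_mem' := by
    rintro c' c ⟨n, hn, s, hs, h⟩
    obtain ⟨m, hm, t, ht⟩ := hc c'
    refine ⟨m * n, N.mul_mem hm hn, t * s, P.mul_mem_left _ hs, ?_⟩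
    rw [map_mul, map_mul, ← h, ← ht, smul_eq_mul]
    ring

variable (hc : ∀ c : C, ∃ n ∈ N, ∃ s : S, φ n * c = φ s)

theorem mem_ext {P : Ideal S} {c : C} :
    c ∈ ext φ N hc P ↔ ∃ n ∈ N, ∃ s ∈ P, φ n * c = φ s := Iff.rfl

theorem ext_mono {P P' : Ideal S} (h : P ≤ P') : ext φ N hc P ≤ ext φ N hc P' := by
  rintro c ⟨n, hn, s, hs, e⟩
  exact ⟨n, hn, s, h hs, e⟩

variable (hd : ∀ s : S, φ s = 0 → IsNilpotent s)

include hd in
theorem comap_ext (P : Ideal S) [hP : P.IsPrime] (hPN : ∀ n ∈ N, n ∉ P) :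
    (ext φ N hc P).comap φ = P := by
  ext s'
  constructor
  · rintro ⟨n, hn, s, hs, e⟩
    have h0 : φ (n * s' - s) = 0 := by rw [map_sub, map_mul, e, sub_self]
    have h1 : n * s' - s ∈ P := nilradical_le_prime P (mem_nilradical.mpr (hd _ h0))
    have h2 : n * s' ∈ P := by
      have := P.add_mem h1 hs
      rwa [sub_add_cancel] at this
    exact (hP.mem_or_mem h2).resolve_left (hPN n hn)
  · intro hs'
    exact ⟨1, N.one_mem, s', hs', by rw [map_one, one_mul]⟩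

include hd in
theorem ext_isPrime (P : Ideal S) [hP : P.IsPrime] (hPN : ∀ n ∈ N, n ∉ P) :
    (ext φ N hc P).IsPrime := by
  refine ⟨?_, ?_⟩
  · intro htop
    have h1 : (1 : S) ∈ (ext φ N hc P).comap φ := by
      rw [Ideal.mem_comap, map_one, htop]
      trivial
    rw [comap_ext φ N hc hd P hPN] at h1
    exact hP.ne_top ((Ideal.eq_top_iff_one P).mpr h1)
  · intro c₁ c₂ h
    obtain ⟨n, hn, s, hs, e⟩ := h
    obtain ⟨m₁, hm₁, t₁, e₁⟩ := hc c₁
    obtain ⟨m₂, hm₂, t₂, e₂⟩ := hc c₂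
    have h0 : φ (n * (t₁ * t₂) - m₁ * m₂ * s) = 0 := by
      rw [map_sub, map_mul, map_mul, map_mul, map_mul, ← e₁, ← e₂, ← e]
      ring
    have h1 : n * (t₁ * t₂) - m₁ * m₂ * s ∈ P :=
      nilradical_le_prime P (mem_nilradical.mpr (hd _ h0))
    have h2 : n * (t₁ * t₂) ∈ P := by
      have := P.add_mem h1 (P.mul_mem_left (m₁ * m₂) hs)
      rwa [sub_add_cancel] at this
    have h3 : t₁ * t₂ ∈ P := (hP.mem_or_mem h2).resolve_left (hPN n hn)
    rcases hP.mem_or_mem h3 with h4 | h4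
    · left; exact ⟨m₁, hm₁, t₁, h4, e₁⟩
    · right; exact ⟨m₂, hm₂, t₂, h4, e₂⟩

theorem ext_comap (Q : Ideal C) [hQ : Q.IsPrime] (hQN : ∀ n ∈ N, φ n ∉ Q) :
    ext φ N hc (Q.comap φ) = Q := by
  ext c
  constructor
  · rintro ⟨n, hn, s, hs, e⟩
    have h1 : φ n * c ∈ Q := by rw [e]; exact hs
    exact (hQ.mem_or_mem h1).resolve_left (hQN n hn)
  · intro hcQ
    obtain ⟨n, hn, s, e⟩ := hc c
    refine ⟨n, hn, s, ?_, e⟩
    rw [Ideal.mem_comap, ← e]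
    exact Q.mul_mem_left _ hcQ

variable (ha : ∀ n ∈ N, φ n ∈ nonZeroDivisors C)
  (hb : ∀ n ∈ N, ∀ P ∈ minimalPrimes S, n ∉ P)

include hc ha hb hd in
/-- contraction is a bijection on minimal primes -/
theorem bijOn_comap_minimalPrimes :
    Set.BijOn (fun Q : Ideal C => Q.comap φ) (minimalPrimes C) (minimalPrimes S) := by
  have hQN : ∀ Q ∈ minimalPrimes C, ∀ n ∈ N, φ n ∉ Q := by
    intro Q hQ n hn hmem
    exact Set.disjoint_left.mp (Ideal.disjoint_nonZeroDivisors_of_mem_minimalPrimes hQ) hmem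
      (ha n hn)
  refine ⟨?_, ?_, ?_⟩
  · intro Q hQ
    haveI hQp : Q.IsPrime := hQ.1.1
    haveI hPp : (Q.comap φ).IsPrime := Ideal.comap_isPrime φ Q
    have hPN : ∀ n ∈ N, n ∉ Q.comap φ := fun n hn h => hQN Q hQ n hn h
    refine ⟨⟨hPp, bot_le⟩, ?_⟩
    intro P' hP' hle
    haveI := hP'.1
    have hP'N : ∀ n ∈ N, n ∉ P' := fun n hn h => hPN n hn (hle h)
    haveI := ext_isPrime φ N hc hd P' hP'N
    have h1 : ext φ N hc P' ≤ Q := by
      rw [← ext_comap φ N hc Q (hQN Q hQ)]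
      exact ext_mono φ N hc hle
    have h2 : Q ≤ ext φ N hc P' := hQ.2 ⟨inferInstance, bot_le⟩ h1
    calc Q.comap φ ≤ (ext φ N hc P').comap φ := Ideal.comap_mono h2
      _ = P' := comap_ext φ N hc hd P' hP'N
  · intro Q₁ hQ₁ Q₂ hQ₂ h
    haveI : Q₁.IsPrime := hQ₁.1.1
    haveI : Q₂.IsPrime := hQ₂.1.1
    have h' : Q₁.comap φ = Q₂.comap φ := h
    rw [← ext_comap φ N hc Q₁ (hQN Q₁ hQ₁), ← ext_comap φ N hc Q₂ (hQN Q₂ hQ₂), h']
  · intro P hP
    haveI hPp : P.IsPrime := hP.1.1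
    have hPN : ∀ n ∈ N, n ∉ P := fun n hn => hb n hn P hP
    haveI hQp := ext_isPrime φ N hc hd P hPN
    refine ⟨ext φ N hc P, ⟨⟨hQp, bot_le⟩, ?_⟩, comap_ext φ N hc hd P hPN⟩
    intro Q' hQ' hle
    haveI := hQ'.1
    have hQ'N : ∀ n ∈ N, φ n ∉ Q' := by
      intro n hn h
      have h1 : n ∈ (ext φ N hc P).comap φ := hle h
      rw [comap_ext φ N hc hd P hPN] at h1
      exact hPN n hn h1
    have h1 : Q'.comap φ ≤ P := by
      calc Q'.comap φ ≤ (ext φ N hc P).comap φ := Ideal.comap_mono hle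
        _ = P := comap_ext φ N hc hd P hPN
    have h2 : P ≤ Q'.comap φ := hP.2 ⟨Ideal.comap_isPrime φ Q', bot_le⟩ h1
    rw [← ext_comap φ N hc Q' hQ'N]
    exact ext_mono φ N hc h2

end LemmaM

end Groth.Agent.Helper1.BR
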