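import Groth.Agent.Lib.Helper1.BR1
import Groth.Prelude

/-!
# Minimal primes of `A' ⊗[A] Ah`, part 2: the tensor-product lemma and `normRed`
-/

set_option autoImplicit false
universe u

namespace Groth.Agent.Helper1.BR

open TensorProduct

section LemmaT

variable {A A' Ah : Type*} [CommRing A] [CommRing A'] [Algebra A A'] [CommRing Ah] [Algebra A Ah]

theorem incl_algebraMap (a : A) :
    (Algebra.TensorProduct.includeRight : Ah →ₐ[A] A' ⊗[A] Ah).toRingHom (algebraMap A Ah a) =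
      algebraMap A (A' ⊗[A] Ah) a := by
  show (Algebra.TensorProduct.includeRight : Ah →ₐ[A] A' ⊗[A] Ah) (algebraMap A Ah a) = _
  exact AlgHom.commutes _ a

theorem T_hc (N₀ : Submonoid A)
    (h3 : ∀ x : A', ∃ a ∈ N₀, ∃ b : A, a • x = algebraMap A A' b) :
    ∀ c : A' ⊗[A] Ah, ∃ n ∈ N₀.map (algebraMap A Ah), ∃ s : Ah,
      (Algebra.TensorProduct.includeRight : Ah →ₐ[A] A' ⊗[A] Ah).toRingHom n * c =
        (Algebra.TensorProduct.includeRight : Ah →ₐ[A] A' ⊗[A] Ah).toRingHom s := by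
  intro c
  induction c using TensorProduct.induction_on with
  | zero => exact ⟨1, Submonoid.one_mem _, 0, by rw [mul_zero, map_zero]⟩
  | tmul x y =>
    obtain ⟨a, ha, b, e⟩ := h3 x
    refine ⟨algebraMap A Ah a, ⟨a, ha, rfl⟩, b • y, ?_⟩
    rw [incl_algebraMap]
    show algebraMap A (A' ⊗[A] Ah) a * (x ⊗ₜ[A] y) = (1 : A') ⊗ₜ[A] (b • y)
    rw [← Algebra.smul_def, TensorProduct.smul_tmul', e, Algebra.algebraMap_eq_smul_one,
      TensorProduct.smul_tmul]
  | add c₁ c₂ h₁ h₂ =>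
    obtain ⟨n₁, hn₁, s₁, e₁⟩ := h₁
    obtain ⟨n₂, hn₂, s₂, e₂⟩ := h₂
    refine ⟨n₁ * n₂, Submonoid.mul_mem _ hn₁ hn₂, n₂ * s₁ + n₁ * s₂, ?_⟩
    rw [map_mul, map_add, map_mul, map_mul, ← e₁, ← e₂]
    ring

theorem T_ha [Module.Flat A Ah] (N₀ : Submonoid A)
    (h1 : ∀ a ∈ N₀, ∀ x : A', a • x = 0 → x = 0) :
    ∀ n ∈ N₀.map (algebraMap A Ah),
      (Algebra.TensorProduct.includeRight : Ah →ₐ[A] A' ⊗[A] Ah).toRingHom n ∈
        nonZeroDivisors (A' ⊗[A] Ah) := by
  rintro n ⟨a, ha, rfl⟩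
  rw [incl_algebraMap, mem_nonZeroDivisors_iff_right]
  intro c hc
  have hinj : Function.Injective (LinearMap.lsmul A A' a) := by
    rw [injective_iff_map_eq_zero]
    intro x hx
    exact h1 a ha x hx
  have hinj' := Module.Flat.rTensor_preserves_injective_linearMap (M := Ah) _ hinj
  have key : ∀ c : A' ⊗[A] Ah, (LinearMap.lsmul A A' a).rTensor Ah c = a • c := by
    intro c
    induction c using TensorProduct.induction_on with
    | zero => rw [map_zero, smul_zero]
    | tmul x y => rw [LinearMap.rTensor_tmul, LinearMap.lsmul_apply, TensorProduct.smul_tmul']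
    | add c₁ c₂ h₁ h₂ => rw [map_add, h₁, h₂, smul_add]
  apply hinj'
  rw [key, map_zero, Algebra.smul_def, mul_comm]
  exact hc

theorem T_hb [Module.Flat A Ah] (N₀ : Submonoid A)
    (h2 : ∀ a ∈ N₀, ∀ p ∈ minimalPrimes A, a ∉ p) :
    ∀ n ∈ N₀.map (algebraMap A Ah), ∀ P ∈ minimalPrimes Ah, n ∉ P := by
  rintro n ⟨a, ha, rfl⟩ P hP hmem
  haveI hPp : P.IsPrime := hP.1.1
  have hmin : P.under A ∈ minimalPrimes A := by
    refine ⟨⟨inferInstance, bot_le⟩, ?_⟩
    rintro q ⟨hq, -⟩ hle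
    haveI := hq
    obtain ⟨P', hP'le, hP'p, hP'o⟩ :=
      Ideal.exists_ideal_le_liesOver_of_le (p := q) (q := P.under A) P hle
    have h1 : P ≤ P' := hP.2 ⟨hP'p, bot_le⟩ hP'le
    have h2 : P' = P := le_antisymm hP'le h1
    have h3 : q = P.under A := by rw [← h2]; exact hP'o.over
    exact h3.ge
  exact h2 a ha _ hmin hmem

theorem T_hd [Module.Flat A Ah]
    (h4 : ∀ a : A, algebraMap A A' a = 0 → IsNilpotent a) :
    ∀ s : Ah, (Algebra.TensorProduct.includeRight : Ah →ₐ[A] A' ⊗[A] Ah).toRingHom s = 0 →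
      IsNilpotent s := by
  intro s hs
  let f : A →ₐ[A] A' := Algebra.ofId A A'
  let I : Ideal A := RingHom.ker f
  let ι : (A ⧸ I) →ₗ[A] A' := (Ideal.kerLiftAlg f).toLinearMap
  have hι : Function.Injective ι := Ideal.kerLiftAlg_injective f
  have hι' := Module.Flat.rTensor_preserves_injective_linearMap (M := Ah) ι hι
  have h1 : ((Ideal.Quotient.mk I) 1) ⊗ₜ[A] s = (0 : (A ⧸ I) ⊗[A] Ah) := by
    apply hι'
    rw [LinearMap.rTensor_tmul, map_zero]
    have : ι (Ideal.Quotient.mk I 1) = 1 := by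
      rw [map_one]; exact map_one (Ideal.kerLiftAlg f)
    rw [this]
    exact hs
  have h2 : s ∈ (I • ⊤ : Submodule A Ah) := by
    have := congrArg (quotTensorEquivQuotSMul Ah I) h1
    rw [quotTensorEquivQuotSMul_mk_tmul, map_zero, Submodule.Quotient.mk_eq_zero, one_smul] at this
    exact this
  have h3 : (I • ⊤ : Submodule A Ah) ≤ (nilradical Ah).restrictScalars A := by
    rw [Submodule.smul_le]
    intro r hr m _
    have hr' : IsNilpotent r := h4 r (RingHom.mem_ker.mp hr)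
    show r • m ∈ nilradical Ah
    rw [Algebra.smul_def]
    exact Ideal.mul_mem_right _ _ (mem_nilradical.mpr (hr'.map (algebraMap A Ah)))
  exact mem_nilradical.mp (h3 h2)

/-- **Lemma T**: for a "birational-type" `A`-algebra `A'` and a flat `A`-algebra `Ah`, contraction
induces a bijection between the minimal primes of `A' ⊗[A] Ah` and those of `Ah`. -/
theorem bijOn_of_birational [Module.Flat A Ah] (N₀ : Submonoid A)
    (h1 : ∀ a ∈ N₀, ∀ x : A', a • x = 0 → x = 0)
    (h2 : ∀ a ∈ N₀, ∀ p ∈ minimalPrimes A, a ∉ p)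
    (h3 : ∀ x : A', ∃ a ∈ N₀, ∃ b : A, a • x = algebraMap A A' b)
    (h4 : ∀ a : A, algebraMap A A' a = 0 → IsNilpotent a) :
    Set.BijOn (fun Q : Ideal (A' ⊗[A] Ah) =>
        Q.comap (Algebra.TensorProduct.includeRight.toRingHom : Ah →+* A' ⊗[A] Ah))
      (minimalPrimes (A' ⊗[A] Ah)) (minimalPrimes Ah) :=
  bijOn_comap_minimalPrimes _ (N₀.map (algebraMap A Ah)) (T_hc N₀ h3) (T_hd h4) (T_ha N₀ h1)
    (T_hb N₀ h2)

end LemmaT

section NormRed

variable (A : Type u) [CommRing A]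

/-- elements of `A` that become nonzerodivisors in `A_red` -/
def N₀ : Submonoid A :=
  (nonZeroDivisors (CAlg2.red A)).comap (Ideal.Quotient.mk (nilradical A))

theorem coe_smul_normRed (a : A) (x : CAlg2.normRed A) :
    ((a • x : CAlg2.normRed A) : FractionRing (CAlg2.red A)) =
      algebraMap (CAlg2.red A) (FractionRing (CAlg2.red A)) (Ideal.Quotient.mk (nilradical A) a) *
        (x : FractionRing (CAlg2.red A)) := by
  show a • (x : FractionRing (CAlg2.red A)) = _
  rw [Algebra.smul_def, IsScalarTower.algebraMap_apply A (CAlg2.red A) (FractionRing (CAlg2.red A))]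
  rfl

theorem coe_algebraMap_normRed (a : A) :
    ((algebraMap A (CAlg2.normRed A) a : CAlg2.normRed A) : FractionRing (CAlg2.red A)) =
      algebraMap (CAlg2.red A) (FractionRing (CAlg2.red A)) (Ideal.Quotient.mk (nilradical A) a) :=
  rfl

theorem normRed_h1 : ∀ a ∈ N₀ A, ∀ x : CAlg2.normRed A, a • x = 0 → x = 0 := by
  intro a ha x hx
  have hu : IsUnit (algebraMap (CAlg2.red A) (FractionRing (CAlg2.red A))
      (Ideal.Quotient.mk (nilradical A) a)) :=
    IsLocalization.map_units (FractionRing (CAlg2.red A))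
      (⟨Ideal.Quotient.mk (nilradical A) a, ha⟩ : nonZeroDivisors (CAlg2.red A))
  have h : algebraMap (CAlg2.red A) (FractionRing (CAlg2.red A))
      (Ideal.Quotient.mk (nilradical A) a) * (x : FractionRing (CAlg2.red A)) = 0 := by
    rw [← coe_smul_normRed, hx]
    rfl
  apply Subtype.ext
  exact (hu.mul_right_eq_zero).mp h

theorem normRed_h2 : ∀ a ∈ N₀ A, ∀ p ∈ minimalPrimes A, a ∉ p := by
  intro a ha p hp hap
  have hp' : p ∈ (nilradical A).minimalPrimes := by
    have : (nilradical A).minimalPrimes = (⊥ : Ideal A).minimalPrimes :=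
      Ideal.radical_minimalPrimes
    rw [this]; exact hp
  rw [Ideal.minimalPrimes_eq_comap] at hp'
  obtain ⟨p', hp'min, rfl⟩ := hp'
  exact Set.disjoint_left.mp (Ideal.disjoint_nonZeroDivisors_of_mem_minimalPrimes hp'min) hap ha

theorem normRed_h3 :
    ∀ x : CAlg2.normRed A, ∃ a ∈ N₀ A, ∃ b : A, a • x = algebraMap A (CAlg2.normRed A) b := by
  intro x
  obtain ⟨r, s, e⟩ := IsLocalization.exists_mk'_eq (nonZeroDivisors (CAlg2.red A))
    (x : FractionRing (CAlg2.red A))
  obtain ⟨s, hs⟩ := s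
  obtain ⟨a, rfl⟩ := Ideal.Quotient.mk_surjective s
  obtain ⟨b, rfl⟩ := Ideal.Quotient.mk_surjective r
  refine ⟨a, hs, b, ?_⟩
  apply Subtype.ext
  rw [coe_smul_normRed, coe_algebraMap_normRed, ← e]
  exact IsLocalization.mk'_spec' (FractionRing (CAlg2.red A)) (Ideal.Quotient.mk (nilradical A) b)
    ⟨Ideal.Quotient.mk (nilradical A) a, hs⟩

theorem normRed_h4 : ∀ a : A, algebraMap A (CAlg2.normRed A) a = 0 → IsNilpotent a := by
  intro a ha
  have h : algebraMap (CAlg2.red A) (FractionRing (CAlg2.red A))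
      (Ideal.Quotient.mk (nilradical A) a) = 0 := by
    rw [← coe_algebraMap_normRed, ha]
    rfl
  have h' : (Ideal.Quotient.mk (nilradical A) a : CAlg2.red A) = 0 :=
    IsFractionRing.injective (CAlg2.red A) (FractionRing (CAlg2.red A)) (by rw [h, map_zero])
  rw [Ideal.Quotient.eq_zero_iff_mem] at h'
  exact mem_nilradical.mp h'

open TensorProduct in
theorem bijOn_normRed {A Ah : Type u} [CommRing A] [CommRing Ah] [Algebra A Ah]
    [Module.Flat A Ah] :
    Set.BijOn (fun P : Ideal ((CAlg2.normRed A) ⊗[A] Ah) =>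
        P.comap (Algebra.TensorProduct.includeRight.toRingHom :
          Ah →+* (CAlg2.normRed A) ⊗[A] Ah))
      (minimalPrimes ((CAlg2.normRed A) ⊗[A] Ah))
      (minimalPrimes Ah) :=
  bijOn_of_birational (N₀ A) (normRed_h1 A) (normRed_h2 A) (normRed_h3 A) (normRed_h4 A)

end NormRed

end Groth.Agent.Helper1.BR
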