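import Groth.Agent.Lib.Helper1.UB1

/-!
# Unibranch iff the henselization has a unique minimal prime
-/

set_option autoImplicit false

namespace Groth.Agent.Helper1.UB

open IsLocalRing TensorProduct Groth.Agent.Helper1

universe u

/-- henselization commutes with quotients -/
theorem isHenselization_quotient_map (R S : Type u) [CommRing R] [IsLocalRing R] [CommRing S]
    [IsLocalRing S] [Algebra R S] [IsLocalHom (algebraMap R S)] [Hensel.IsHenselization R S]
    (I : Ideal R) (hI : I ≠ ⊤) :
    letI : Algebra (R ⧸ I) (S ⧸ I.map (algebraMap R S)) :=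
      (Ideal.quotientMap (I.map (algebraMap R S)) (algebraMap R S) Ideal.le_comap_map).toAlgebra
    ∃ (_ : IsLocalRing (R ⧸ I)) (_ : IsLocalRing (S ⧸ I.map (algebraMap R S)))
      (_ : IsLocalHom (algebraMap (R ⧸ I) (S ⧸ I.map (algebraMap R S)))),
      Hensel.IsHenselization (R ⧸ I) (S ⧸ I.map (algebraMap R S)) := by
  letI : Algebra (R ⧸ I) (S ⧸ I.map (algebraMap R S)) :=
    (Ideal.quotientMap (I.map (algebraMap R S)) (algebraMap R S) Ideal.le_comap_map).toAlgebra
  haveI hS : HenselianLocalRing S := Hensel.IsHenselization.henselian (R := R)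
  have hmk : ∀ r : R, algebraMap (R ⧸ I) (S ⧸ I.map (algebraMap R S)) (Ideal.Quotient.mk I r) =
      Ideal.Quotient.mk _ (algebraMap R S r) := fun r => Ideal.quotientMap_mk
  have hJ : I.map (algebraMap R S) ≠ ⊤ := by
    have h1 : I.map (algebraMap R S) ≤ maximalIdeal S := by
      rw [Ideal.map_le_iff_le_comap, IsLocalRing.maximalIdeal_comap]
      exact IsLocalRing.le_maximalIdeal hI
    intro htop
    rw [htop] at h1
    exact (maximalIdeal.isMaximal S).ne_top (top_le_iff.mp h1)
  haveI : Nontrivial (R ⧸ I) := Ideal.Quotient.nontrivial_iff.mpr hI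
  haveI : Nontrivial (S ⧸ I.map (algebraMap R S)) := Ideal.Quotient.nontrivial_iff.mpr hJ
  haveI hlR : IsLocalRing (R ⧸ I) :=
    IsLocalRing.of_surjective' (Ideal.Quotient.mk _) Ideal.Quotient.mk_surjective
  haveI hlS : IsLocalRing (S ⧸ I.map (algebraMap R S)) :=
    IsLocalRing.of_surjective' (Ideal.Quotient.mk _) Ideal.Quotient.mk_surjective
  haveI hπR : IsLocalHom (Ideal.Quotient.mk I) :=
    IsLocalHom.of_surjective _ Ideal.Quotient.mk_surjective
  haveI hπS : IsLocalHom (Ideal.Quotient.mk (I.map (algebraMap R S))) :=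
    IsLocalHom.of_surjective _ Ideal.Quotient.mk_surjective
  haveI hlh : IsLocalHom (algebraMap (R ⧸ I) (S ⧸ I.map (algebraMap R S))) := by
    constructor
    intro d hd
    obtain ⟨r, rfl⟩ := Ideal.Quotient.mk_surjective d
    rw [hmk] at hd
    have h1 : IsUnit (algebraMap R S r) := isUnit_of_map_unit (Ideal.Quotient.mk _) _ hd
    exact (isUnit_of_map_unit (algebraMap R S) r h1).map _
  refine ⟨hlR, hlS, hlh, ?_, ?_⟩
  · exact IH.henselianLocalRing_of_integral_ringHom (Ideal.Quotient.mk (I.map (algebraMap R S)))
      (RingHom.isIntegral_of_surjective _ Ideal.Quotient.mk_surjective)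
  · intro T _ _ f hf
    haveI := hf
    haveI : IsLocalHom (f.comp (Ideal.Quotient.mk I)) :=
      RingHom.isLocalHom_comp f (Ideal.Quotient.mk I)
    obtain ⟨g, hg, huniq⟩ := Hensel.IsHenselization.universal (R := R) (S := S) T
      (f.comp (Ideal.Quotient.mk I)) inferInstance
    have hgI : ∀ x ∈ I.map (algebraMap R S), g x = 0 := by
      intro x hx
      have h1 : I.map (algebraMap R S) ≤ RingHom.ker g := by
        rw [Ideal.map_le_iff_le_comap]
        intro a ha
        rw [Ideal.mem_comap, RingHom.mem_ker]
        have h2 := RingHom.congr_fun hg a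
        rw [RingHom.comp_apply, RingHom.comp_apply, Ideal.Quotient.eq_zero_iff_mem.mpr ha,
          map_zero] at h2
        exact h2
      exact (RingHom.mem_ker).mp (h1 hx)
    refine ⟨Ideal.Quotient.lift _ g hgI, ?_, ?_⟩
    · refine RingHom.ext (fun d => ?_)
      obtain ⟨r, rfl⟩ := Ideal.Quotient.mk_surjective d
      rw [RingHom.comp_apply, hmk, Ideal.Quotient.lift_mk]
      exact RingHom.congr_fun hg r
    · intro g' hg'
      have h1 : g'.comp (Ideal.Quotient.mk (I.map (algebraMap R S))) = g := by
        apply huniq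
        refine RingHom.ext (fun r => ?_)
        rw [RingHom.comp_apply, RingHom.comp_apply, ← hmk]
        exact RingHom.congr_fun hg' (Ideal.Quotient.mk I r)
      refine RingHom.ext (fun x => ?_)
      obtain ⟨s, rfl⟩ := Ideal.Quotient.mk_surjective x
      rw [Ideal.Quotient.lift_mk, ← h1]
      rfl

theorem minimalPrimes_eq_of_isPrime_nilradical {A : Type u} [CommRing A]
    (h : (nilradical A).IsPrime) : minimalPrimes A = {nilradical A} := by
  show (⊥ : Ideal A).minimalPrimes = {nilradical A}
  rw [← Ideal.radical_minimalPrimes]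
  have e : (⊥ : Ideal A).radical = nilradical A := rfl
  rw [e]
  exact Ideal.minimalPrimes_eq_subsingleton_self

theorem hasUniqueMinimalPrime_iff {A : Type u} [CommRing A] :
    CAlgX.HasUniqueMinimalPrime A ↔ (nilradical A).IsPrime := by
  constructor
  · rintro ⟨p, hp, huniq⟩
    have h1 : minimalPrimes A = {p} := by
      ext q
      constructor
      · intro hq
        exact huniq q hq
      · intro hq
        rw [Set.mem_singleton_iff.mp hq]
        exact hp
    have h2 : nilradical A = p := by
      have h3 : sInf (⊥ : Ideal A).minimalPrimes = (⊥ : Ideal A).radical :=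
        Ideal.sInf_minimalPrimes
      have h4 : (⊥ : Ideal A).minimalPrimes = {p} := h1
      rw [h4, sInf_singleton] at h3
      exact h3.symm
    rw [h2]
    exact Ideal.minimalPrimes_isPrime hp
  · intro h
    have h1 := minimalPrimes_eq_of_isPrime_nilradical h
    refine ⟨nilradical A, ?_, ?_⟩
    · rw [h1]
      exact Set.mem_singleton _
    · intro q hq
      rw [h1] at hq
      exact Set.mem_singleton_iff.mp hq

/-- a local ring is unibranch iff its henselization has a unique minimal prime -/
theorem unibranch_iff_hasUniqueMinimalPrime (A Ah : Type u) [CommRing A] [IsLocalRing A]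
    [CommRing Ah] [IsLocalRing Ah] [Algebra A Ah] [IsLocalHom (algebraMap A Ah)]
    [Hensel.IsHenselization A Ah] :
    CAlg2.IsUnibranch A ↔ CAlgX.HasUniqueMinimalPrime Ah := by
  rw [hasUniqueMinimalPrime_iff]
  have hnil : (nilradical A).map (algebraMap A Ah) = nilradical Ah :=
    HFlat.nilradical_map_of_isHenselization_or A Ah (Or.inl inferInstance)
  have hne : nilradical A ≠ ⊤ := by
    intro h
    have h1 : (1 : A) ∈ nilradical A := h ▸ Submodule.mem_top
    obtain ⟨n, hn⟩ := mem_nilradical.mp h1
    rw [one_pow] at hn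
    exact one_ne_zero hn
  letI : Algebra (A ⧸ nilradical A) (Ah ⧸ (nilradical A).map (algebraMap A Ah)) :=
    (Ideal.quotientMap ((nilradical A).map (algebraMap A Ah)) (algebraMap A Ah)
      Ideal.le_comap_map).toAlgebra
  obtain ⟨hlR, hlS, hlh, hH⟩ := isHenselization_quotient_map A Ah (nilradical A) hne
  rw [← hnil, ← Ideal.Quotient.isDomain_iff_prime]
  constructor
  · rintro ⟨hdom, hloc⟩
    haveI : IsDomain (A ⧸ nilradical A) := hdom
    haveI : IsLocalRing (integralClosure (A ⧸ nilradical A)
      (FractionRing (A ⧸ nilradical A))) := hloc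
    exact isDomain_of_isLocalRing_integralClosure (A ⧸ nilradical A)
      (Ah ⧸ (nilradical A).map (algebraMap A Ah))
  · intro hdomS
    haveI hSq : HenselianLocalRing (Ah ⧸ (nilradical A).map (algebraMap A Ah)) :=
      Hensel.IsHenselization.henselian (R := A ⧸ nilradical A)
    have hinj : Function.Injective
        (algebraMap (A ⧸ nilradical A) (Ah ⧸ (nilradical A).map (algebraMap A Ah))) :=
      (HFlat.IsHensHom.of_isHenselization (A ⧸ nilradical A)
        (Ah ⧸ (nilradical A).map (algebraMap A Ah))).injective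
    haveI hdom : IsDomain (A ⧸ nilradical A) := hinj.isDomain (algebraMap _ _)
    exact ⟨hdom, isLocalRing_integralClosure_of_isDomain (A ⧸ nilradical A)
      (Ah ⧸ (nilradical A).map (algebraMap A Ah))⟩

end Groth.Agent.Helper1.UB
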