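import Groth.Agent.Lib.Helper1.DM4
import Groth.Agent.Lib.Helper1.UB2

/-!
# The number of branches is additive over minimal primes
-/

set_option autoImplicit false

namespace Groth.Agent.Helper1.BRN

open IsLocalRing TensorProduct Groth.Agent.Helper1

universe u

section Flat

variable {A S : Type*} [CommRing A] [CommRing S] [Algebra A S] [Module.Flat A S]

/-- minimal primes contract to minimal primes along a flat map -/
theorem comap_mem_minimalPrimes {Q : Ideal S} (hQ : Q ∈ minimalPrimes S) :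
    Q.comap (algebraMap A S) ∈ minimalPrimes A := by
  haveI hQp : Q.IsPrime := hQ.1.1
  refine ⟨⟨Ideal.comap_isPrime _ _, bot_le⟩, ?_⟩
  rintro q ⟨hq, -⟩ hle
  haveI := hq
  obtain ⟨P', hP'le, hP'p, hP'o⟩ :=
    Ideal.exists_ideal_le_liesOver_of_le (p := q) (q := Q.under A) Q hle
  have h1 : Q ≤ P' := hQ.2 ⟨hP'p, bot_le⟩ hP'le
  have h2 : P' = Q := le_antisymm hP'le h1
  have h3 : q = Q.under A := by rw [← h2]; exact hP'o.over
  exact h3.ge

/-- the fibre of `minimalPrimes S → minimalPrimes A` over `p` -/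
def fibre (p : Ideal A) : Set (Ideal S) :=
  {Q | Q ∈ minimalPrimes S ∧ Q.comap (algebraMap A S) = p}

theorem iUnion_fibre :
    (⋃ p : minimalPrimes A, fibre (S := S) p.1) = minimalPrimes S := by
  ext Q
  simp only [Set.mem_iUnion, fibre, Set.mem_setOf_eq]
  constructor
  · rintro ⟨p, hQ, -⟩
    exact hQ
  · intro hQ
    exact ⟨⟨_, comap_mem_minimalPrimes hQ⟩, hQ, rfl⟩

theorem pairwise_disjoint_fibre :
    Pairwise (Function.onFun Disjoint (fun p : minimalPrimes A => fibre (S := S) p.1)) := by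
  intro p₁ p₂ hne
  rw [Function.onFun, Set.disjoint_left]
  rintro Q ⟨-, h1⟩ ⟨-, h2⟩
  exact hne (Subtype.ext (h1.symm.trans h2))

theorem fibre_eq {p : Ideal A} (hp : p ∈ minimalPrimes A) :
    fibre (S := S) p = (p.map (algebraMap A S)).minimalPrimes := by
  haveI hpp : p.IsPrime := hp.1.1
  ext Q
  constructor
  · rintro ⟨hQ, hQp⟩
    haveI hQprime : Q.IsPrime := hQ.1.1
    refine ⟨⟨hQprime, ?_⟩, ?_⟩
    · rw [Ideal.map_le_iff_le_comap, hQp]
    · rintro Q' ⟨hQ'p, -⟩ hle
      exact hQ.2 ⟨hQ'p, bot_le⟩ hle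
  · rintro ⟨⟨hQprime, hle⟩, hmin⟩
    haveI := hQprime
    have hle' : p ≤ Q.under A := Ideal.map_le_iff_le_comap.mp hle
    obtain ⟨Q', hQ'le, hQ'p, hQ'o⟩ :=
      Ideal.exists_ideal_le_liesOver_of_le (p := p) (q := Q.under A) Q hle'
    have hQ'comap : Q'.comap (algebraMap A S) = p := hQ'o.over.symm
    have h1 : p.map (algebraMap A S) ≤ Q' := by
      rw [Ideal.map_le_iff_le_comap, hQ'comap]
    have h2 : Q ≤ Q' := hmin ⟨hQ'p, h1⟩ hQ'le
    have h3 : Q' = Q := le_antisymm hQ'le h2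
    have hQcomap : Q.comap (algebraMap A S) = p := by rw [← h3]; exact hQ'comap
    refine ⟨⟨⟨hQprime, bot_le⟩, ?_⟩, hQcomap⟩
    rintro Q'' ⟨hQ''p, -⟩ hQ''le
    haveI := hQ''p
    have h4 : Q''.comap (algebraMap A S) ≤ p := by
      rw [← hQcomap]; exact Ideal.comap_mono hQ''le
    have h5 : p ≤ Q''.comap (algebraMap A S) :=
      hp.2 ⟨Ideal.comap_isPrime _ _, bot_le⟩ h4
    exact hmin ⟨hQ''p, Ideal.map_le_iff_le_comap.mpr h5⟩ hQ''le

omit [Module.Flat A S] in
theorem encard_minimalPrimes_quotient (J : Ideal S) :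
    ENat.card (minimalPrimes (S ⧸ J)) = J.minimalPrimes.encard := by
  rw [Ideal.minimalPrimes_eq_comap,
    (Ideal.comap_injective_of_surjective _ Ideal.Quotient.mk_surjective).encard_image]
  rfl

theorem card_minimalPrimes_eq_finsum (hfin : (minimalPrimes A).Finite) :
    ENat.card (minimalPrimes S) =
      ∑ᶠ p : minimalPrimes A, ENat.card (minimalPrimes (S ⧸ p.1.map (algebraMap A S))) := by
  haveI : Finite (minimalPrimes A) := hfin.to_subtype
  have h1 : ENat.card (minimalPrimes S) = (minimalPrimes S).encard := rfl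
  rw [h1, ← iUnion_fibre (A := A), Set.encard_iUnion_of_finite pairwise_disjoint_fibre]
  refine finsum_congr (fun p => ?_)
  rw [encard_minimalPrimes_quotient, fibre_eq p.2]

end Flat

end Groth.Agent.Helper1.BRN
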