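import Groth.Agent.Lib.Helper1.BRN1

/-!
# The number of branches is additive over minimal primes, part 2
-/

set_option autoImplicit false

namespace Groth.Agent.Helper1.BRN

open IsLocalRing TensorProduct Groth.Agent.Helper1

universe u

theorem numBranches_eq_card (A Ah : Type u) [CommRing A] [IsLocalRing A] [CommRing Ah]
    [IsLocalRing Ah] [Algebra A Ah] [IsLocalHom (algebraMap A Ah)]
    [Hensel.IsHenselization A Ah] :
    Brnch.numBranches A = ENat.card (minimalPrimes Ah) := by
  haveI : Module.FaithfullyFlat A Ah := HFlat.faithfullyFlat_of_isHenselization A Ah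
  unfold Brnch.numBranches
  by_cases hfin : (minimalPrimes A).Finite
  · rw [if_pos hfin]
    exact (DM.card_minimalPrimes_hens A Ah hfin).symm
  · rw [if_neg hfin]
    exact (DM.card_minimalPrimes_eq_top_of_infinite A Ah hfin).symm

theorem numBranches_eq_finsum (A : Type u) [CommRing A] [IsLocalRing A]
    (h : (minimalPrimes A).Finite) :
    Brnch.numBranches A =
      ∑ᶠ p : minimalPrimes A,
        haveI : p.1.IsPrime := p.2.1.1
        Brnch.numBranches (A ⧸ p.1) := by
  haveI : Hensel.IsHenselization A (Hzn.S A) := Hzn.isHenselization A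
  haveI : Module.Flat A (Hzn.S A) :=
    (HFlat.faithfullyFlat_of_isHenselization A (Hzn.S A)).toFlat
  rw [numBranches_eq_card A (Hzn.S A), card_minimalPrimes_eq_finsum h]
  refine finsum_congr (fun p => ?_)
  haveI hpp : p.1.IsPrime := p.2.1.1
  obtain ⟨hlR, hlS, hlh, hH⟩ := UB.isHenselization_quotient_map A (Hzn.S A) p.1 hpp.ne_top
  letI : Algebra (A ⧸ p.1) (Hzn.S A ⧸ p.1.map (algebraMap A (Hzn.S A))) :=
    (Ideal.quotientMap (p.1.map (algebraMap A (Hzn.S A))) (algebraMap A (Hzn.S A))
      Ideal.le_comap_map).toAlgebra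
  haveI := hlh
  haveI := hH
  exact (numBranches_eq_card (A ⧸ p.1) (Hzn.S A ⧸ p.1.map (algebraMap A (Hzn.S A)))).symm

end Groth.Agent.Helper1.BRN
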