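import Groth.Agent.Lib.Helper1.PC5
import Groth.Agent.Lib.Helper1.BRN2

/-!
# Branches of a reduced local ring via the integral closure in any total ring of fractions
-/

set_option autoImplicit false

namespace Groth.Agent.Helper1.BRN

open IsLocalRing TensorProduct Groth.Agent.Helper1

universe u

theorem card_minimalPrimes_hens_of_isReduced (A Ah : Type u) [CommRing A] [IsLocalRing A]
    [IsReduced A] [CommRing Ah] [IsLocalRing Ah] [Algebra A Ah] [IsLocalHom (algebraMap A Ah)]
    [Hensel.IsHenselization A Ah] (hfin : (minimalPrimes A).Finite)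
    (K : Type u) [CommRing K] [Algebra A K] [IsFractionRing A K] :
    ENat.card (minimalPrimes Ah) = ENat.card (MaximalSpectrum (integralClosure A K)) := by
  haveI : HenselianLocalRing Ah := Hensel.IsHenselization.henselian (R := A)
  haveI : Module.Flat A Ah := (HFlat.faithfullyFlat_of_isHenselization A Ah).toFlat
  have hcoe : ∀ (a : A) (x : integralClosure A K),
      ((a • x : integralClosure A K) : K) = algebraMap A K a * (x : K) := by
    intro a x
    show a • (x : K) = _
    rw [Algebra.smul_def]
  have h1 : ∀ a ∈ nonZeroDivisors A, ∀ x : integralClosure A K, a • x = 0 → x = 0 := by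
    intro a ha x hx
    have hu : IsUnit (algebraMap A K a) :=
      IsLocalization.map_units K (⟨a, ha⟩ : nonZeroDivisors A)
    have h : algebraMap A K a * (x : K) = 0 := by
      rw [← hcoe, hx]
      rfl
    apply Subtype.ext
    exact (hu.mul_right_eq_zero).mp h
  have h2 : ∀ a ∈ nonZeroDivisors A, ∀ p ∈ minimalPrimes A, a ∉ p := by
    intro a ha p hp hap
    exact Set.disjoint_left.mp (Ideal.disjoint_nonZeroDivisors_of_mem_minimalPrimes hp) hap ha
  have h3 : ∀ x : integralClosure A K, ∃ a ∈ nonZeroDivisors A, ∃ b : A,
      a • x = algebraMap A (integralClosure A K) b := by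
    intro x
    obtain ⟨r, s, e⟩ := IsLocalization.exists_mk'_eq (nonZeroDivisors A) (x : K)
    refine ⟨s, s.2, r, ?_⟩
    apply Subtype.ext
    rw [hcoe, ← e]
    exact IsLocalization.mk'_spec' K r s
  have h4 : ∀ a : A, algebraMap A (integralClosure A K) a = 0 → IsNilpotent a := by
    intro a ha
    have h : algebraMap A K a = 0 := by
      have := congrArg (fun y : integralClosure A K => (y : K)) ha
      exact this
    have h' : a = 0 := IsFractionRing.injective A K (by rw [h, map_zero])
    rw [h']
    exact IsNilpotent.zero
  have e1 : ENat.card (minimalPrimes (integralClosure A K ⊗[A] Ah)) =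
      ENat.card (minimalPrimes Ah) :=
    ENat.card_congr (Set.BijOn.equiv _
      (BR.bijOn_of_birational (A := A) (A' := integralClosure A K) (Ah := Ah)
        (nonZeroDivisors A) h1 h2 h3 h4))
  have hdom : ∀ (M : Ideal (integralClosure A K ⊗[A] Ah)) [M.IsMaximal],
      IsDomain (Localization.AtPrime M) := fun M _ =>
    DM.isDomain_localization_hens A (integralClosure A K) Ah M
      (fun m' _ => NR.normal_localization_integralClosure hfin K m')
  rw [← e1, DM.card_minimalPrimes_eq_card_maximalSpectrum A (integralClosure A K) Ah hdom,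
    DM.card_maximalSpectrum_tensor_eq A (integralClosure A K) Ah]

theorem ncard_maximal_integralClosure_eq (A : Type u) [CommRing A] [IsNoetherianRing A]
    [IsLocalRing A] [IsReduced A] (hdim : ringKrullDim A = 1) :
    {P : Ideal (integralClosure A (FractionRing A)) | P.IsMaximal}.ncard =
      (minimalPrimes (AdicCompletion (IsLocalRing.maximalIdeal A) A)).ncard := by
  have hfinA : (minimalPrimes A).Finite := minimalPrimes.finite_of_isNoetherianRing A
  haveI := Hzn.isHenselization A
  have h1 := card_minimalPrimes_hens_of_isReduced A (Hzn.S A) hfinA (FractionRing A)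
  have h2 : Brnch.numBranches A = ENat.card (minimalPrimes (Hzn.S A)) :=
    BRN.numBranches_eq_card A (Hzn.S A)
  have h3 := PC.numBranches_completion_eq_of_dim_one A hdim
  have h4 := CF.numBranches_completion_eq_card A
  have h5 : ENat.card (MaximalSpectrum (integralClosure A (FractionRing A))) =
      ENat.card (minimalPrimes (AdicCompletion (IsLocalRing.maximalIdeal A) A)) := by
    rw [← h1, ← h2, ← h3, h4]
  have h6 : ENat.card (MaximalSpectrum (integralClosure A (FractionRing A))) =
      ENat.card {P : Ideal (integralClosure A (FractionRing A)) | P.IsMaximal} :=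
    ENat.card_congr ⟨fun m => ⟨m.asIdeal, m.isMaximal⟩, fun P => ⟨P.1, P.2⟩,
      fun _ => rfl, fun _ => rfl⟩
  rw [Set.ncard_def, Set.ncard_def, ← ENat.card_coe_set_eq, ← ENat.card_coe_set_eq, ← h6, h5]

end Groth.Agent.Helper1.BRN
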