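import Mathlib
import Groth.Agent.Lib.Helper1.CE1
import Groth.Agent.Lib.Helper24.CechRes1

/-!
# Čech cohomology of an injective presheaf vanishes: large-category variant

`C : Type u`, `Category.{v} C`, `LocallySmall.{w} C`, presheaves with values in
`AddCommGrpCat.{w}`, families indexed by `ι : Type w`.  Since products over all objects of `C`
are not available, we use the free resolution `ℤ[Simp_•]` of presheaves and
`ShortComplex.Exact.descToInjective`.
-/

universe w v u
set_option linter.unusedSectionVars false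
open CategoryTheory CategoryTheory.Limits Opposite Simplicial

namespace Groth.Agent.Helper1.CE

section Free
variable {C : Type u} [Category.{v} C] [LocallySmall.{w} C] {U : C} [HasFiniteProducts (Over U)]
  {ι : Type w} (Y : ι → Over U)

/-- composite to `U` -/
abbrev cmpU {V : C} (q : Σ i : ι, (V ⟶ (Y i).left)) : V ⟶ U := q.2 ≫ (Y q.1).hom

/-- `n`-simplices of the Čech nerve of `⊔ᵢ Hom(V, Y i) → Hom(V, U)` -/
def Simp (n : ℕ) (V : C) : Type (max w v) :=
  { σ : Fin (n+1) → Σ i : ι, (V ⟶ (Y i).left) // ∀ k, cmpU Y (σ k) = cmpU Y (σ 0) }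

instance small_Simp (n : ℕ) (V : C) : Small.{w} (Simp Y n V) := by
  unfold Simp; infer_instance

variable {Y}

/-- reindexing -/
def reind {a b : ℕ} {V : C} (g : Fin (a+1) → Fin (b+1)) (s : Simp Y b V) : Simp Y a V :=
  ⟨s.1 ∘ g, fun k => (s.2 (g k)).trans (s.2 (g 0)).symm⟩

/-- pullback along a morphism -/
def pullS {n : ℕ} {V V' : C} (m : V' ⟶ V) (s : Simp Y n V) : Simp Y n V' :=
  ⟨fun k => ⟨(s.1 k).1, m ≫ (s.1 k).2⟩, fun k =>
    (Category.assoc m _ _).trans
      ((congrArg (fun z => m ≫ z) (s.2 k)).trans (Category.assoc m _ _).symm)⟩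

lemma pullS_id {n : ℕ} {V : C} (s : Simp Y n V) : pullS (𝟙 V) s = s :=
  Subtype.ext (funext fun k => Sigma.ext rfl (heq_of_eq (Category.id_comp _)))

lemma pullS_comp {n : ℕ} {V V' V'' : C} (m' : V'' ⟶ V') (m : V' ⟶ V) (s : Simp Y n V) :
    pullS (m' ≫ m) s = pullS m' (pullS m s) :=
  Subtype.ext (funext fun k => Sigma.ext rfl (heq_of_eq (Category.assoc _ _ _)))

lemma reind_pullS {a b : ℕ} {V V' : C} (g : Fin (a+1) → Fin (b+1)) (m : V' ⟶ V)
    (s : Simp Y b V) : reind g (pullS m s) = pullS m (reind g s) := rfl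

variable (Y)

/-- the presheaf of `a`-simplices -/
noncomputable def SFm (a : ℕ) : Cᵒᵖ ⥤ Type w where
  obj V := Shrink.{w} (Simp Y a V.unop)
  map h := ↾fun s => equivShrink _ (pullS h.unop ((equivShrink _).symm s))
  map_id V := by
    refine ConcreteCategory.hom_ext _ _ fun s => ?_
    show equivShrink _ (pullS (𝟙 V.unop) ((equivShrink _).symm s)) = s
    rw [pullS_id, Equiv.apply_symm_apply]
  map_comp h h' := by
    refine ConcreteCategory.hom_ext _ _ fun s => ?_
    show equivShrink _ (pullS (h'.unop ≫ h.unop) ((equivShrink _).symm s)) =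
      equivShrink _ (pullS h'.unop ((equivShrink _).symm
        (equivShrink _ (pullS h.unop ((equivShrink _).symm s)))))
    rw [Equiv.symm_apply_apply, pullS_comp]

/-- the simplicial presheaf of sets -/
noncomputable def SX : SimplicialObject (Cᵒᵖ ⥤ Type w) where
  obj m := SFm Y m.unop.len
  map {m m'} f :=
    { app := fun V => ↾fun s =>
        equivShrink _ (reind f.unop.toOrderHom ((equivShrink _).symm s))
      naturality := fun V V' h => by
        refine ConcreteCategory.hom_ext _ _ fun s => ?_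
        show equivShrink _ (reind f.unop.toOrderHom ((equivShrink _).symm
            (equivShrink _ (pullS h.unop ((equivShrink _).symm s))))) =
          equivShrink _ (pullS h.unop ((equivShrink _).symm
            (equivShrink _ (reind f.unop.toOrderHom ((equivShrink _).symm s)))))
        rw [Equiv.symm_apply_apply, Equiv.symm_apply_apply]
        rfl }
  map_id m := by
    refine NatTrans.ext (funext fun V => ConcreteCategory.hom_ext _ _ fun s => ?_)
    show equivShrink _ (reind (𝟙 m).unop.toOrderHom ((equivShrink _).symm s)) = s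
    have h1 : reind (𝟙 m).unop.toOrderHom ((equivShrink _).symm s) = (equivShrink _).symm s := by
      apply Subtype.ext
      funext k
      show ((equivShrink _).symm s).1 ((𝟙 m).unop.toOrderHom k) = _
      rw [unop_id, SimplexCategory.id_toOrderHom]
      rfl
    rw [h1, Equiv.apply_symm_apply]
  map_comp {m m' m''} f g := by
    refine NatTrans.ext (funext fun V => ConcreteCategory.hom_ext _ _ fun s => ?_)
    show equivShrink _ (reind (f ≫ g).unop.toOrderHom ((equivShrink _).symm s)) =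
      equivShrink _ (reind g.unop.toOrderHom ((equivShrink _).symm
        (equivShrink _ (reind f.unop.toOrderHom ((equivShrink _).symm s)))))
    rw [Equiv.symm_apply_apply]
    rfl

/-- the simplicial presheaf of free abelian groups -/
noncomputable abbrev XA : SimplicialObject (Cᵒᵖ ⥤ AddCommGrpCat.{w}) :=
  ((SimplicialObject.whiskering _ _).obj
    ((Functor.whiskeringRight _ _ _).obj AddCommGrpCat.free.{w})).obj (SX Y)

/-- the complex of free presheaves -/
noncomputable abbrev RR : ChainComplex (Cᵒᵖ ⥤ AddCommGrpCat.{w}) ℕ :=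
  (AlgebraicTopology.alternatingFaceMapComplex _).obj (XA Y)

/-- sections of the simplices presheaf -/
abbrev TT (V : C) (n : ℕ) : Type w := Shrink.{w} (Simp Y n V)

/-- face maps on sections -/
noncomputable def fc (V : C) (n : ℕ) (i : Fin (n+2)) : TT Y V (n+1) → TT Y V n :=
  fun s => equivShrink _ (reind (SimplexCategory.δ i).toOrderHom ((equivShrink _).symm s))

lemma hom_sum_apply {M N : AddCommGrpCat.{w}} {κ : Type} (s : Finset κ) (g : κ → (M ⟶ N)) (x : M) :
    (∑ i ∈ s, g i).hom x = ∑ i ∈ s, (g i).hom x := by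
  classical
  induction s using Finset.induction_on with
  | empty => simp
  | insert a s ha ih => simp [Finset.sum_insert ha, ih]

lemma RR_d_app_apply (n : ℕ) (V : C) (z : FreeAbelianGroup (TT Y V (n + 1))) :
    (((RR Y).d (n + 1) n).app (op V)).hom z =
      ∑ i : Fin (n + 2), (-1 : ℤ) ^ (i : ℕ) • FreeAbelianGroup.map (fc Y V n i) z := by
  simp only [RR, AlgebraicTopology.alternatingFaceMapComplex_obj_d,
    AlgebraicTopology.AlternatingFaceMapComplex.objD, NatTrans.app_sum, NatTrans.app_zsmul]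
  refine (hom_sum_apply (M := ((XA Y).obj (op ⦋n + 1⦌)).obj (op V))
    (N := ((XA Y).obj (op ⦋n⦌)).obj (op V)) Finset.univ
    (fun i : Fin (n + 2) => (-1 : ℤ) ^ (i : ℕ) • ((XA Y).δ i).app (op V)) z).trans ?_
  rfl

/-- chosen point with given composite -/
noncomputable def pt {V : C} (c : V ⟶ U)
    (h : Nonempty {q : Σ i : ι, (V ⟶ (Y i).left) // cmpU Y q = c}) :
    {q : Σ i : ι, (V ⟶ (Y i).left) // cmpU Y q = c} := Classical.choice h

lemma pt_congr {V : C} {c c' : V ⟶ U} (e : c = c')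
    (h : Nonempty {q : Σ i : ι, (V ⟶ (Y i).left) // cmpU Y q = c})
    (h' : Nonempty {q : Σ i : ι, (V ⟶ (Y i).left) // cmpU Y q = c'}) :
    (pt Y c h).1 = (pt Y c' h').1 := by
  subst e; rfl

/-- prepend the chosen point -/
noncomputable def consS {n : ℕ} {V : C} (s : Simp Y n V) : Simp Y (n+1) V :=
  ⟨Fin.cons (α := fun _ => Σ i : ι, (V ⟶ (Y i).left))
      (pt Y (cmpU Y (s.1 0)) ⟨⟨s.1 0, rfl⟩⟩).1 s.1,
   fun k => by
    refine Fin.cases ?_ (fun k' => ?_) k
    · rfl
    · show cmpU Y (s.1 k') = cmpU Y (pt Y (cmpU Y (s.1 0)) ⟨⟨s.1 0, rfl⟩⟩).1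
      rw [(pt Y (cmpU Y (s.1 0)) ⟨⟨s.1 0, rfl⟩⟩).2]
      exact s.2 k'⟩

lemma reind_zero_consS {n : ℕ} {V : C} (s : Simp Y n V) :
    reind (SimplexCategory.δ (0 : Fin (n+2))).toOrderHom (consS Y s) = s :=
  Subtype.ext (funext fun k => by
    show (consS Y s).1 (Fin.succAbove 0 k) = s.1 k
    rw [Fin.succAbove_zero]
    rfl)

lemma reind_succ_consS {n : ℕ} {V : C} (s : Simp Y (n+1) V) (i : Fin (n+2)) :
    reind (SimplexCategory.δ i.succ).toOrderHom (consS Y s) =
      consS Y (reind (SimplexCategory.δ i).toOrderHom s) :=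
  Subtype.ext (funext fun k => by
    show (consS Y s).1 (Fin.succAbove i.succ k) =
      (consS Y (reind (SimplexCategory.δ i).toOrderHom s)).1 k
    refine Fin.cases ?_ (fun k' => ?_) k
    · rw [Fin.succ_succAbove_zero]
      exact pt_congr Y (s.2 _).symm _ _
    · rw [Fin.succ_succAbove_succ]
      rfl)

/-- the extra degeneracy on sections -/
noncomputable def ss (V : C) (n : ℕ) : TT Y V n → TT Y V (n+1) :=
  fun s => equivShrink _ (consS Y ((equivShrink _).symm s))

theorem eval_exact_succ (V : C) (n : ℕ) (z : FreeAbelianGroup (TT Y V (n + 1)))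
    (hz : ∑ i : Fin (n + 2), (-1 : ℤ) ^ (i : ℕ) • FreeAbelianGroup.map (fc Y V n i) z = 0) :
    ∃ w : FreeAbelianGroup (TT Y V (n + 2)),
      ∑ i : Fin (n + 3), (-1 : ℤ) ^ (i : ℕ) • FreeAbelianGroup.map (fc Y V (n + 1) i) w = z := by
  refine Groth.Agent.Helper24.CechRes.exists_boundary_succ (TT Y V) (fc Y V) (ss Y V)
    (fun n x => ?_) (fun n i x => ?_) n z hz
  · unfold fc ss
    rw [Equiv.symm_apply_apply, reind_zero_consS, Equiv.apply_symm_apply]
  · unfold fc ss
    rw [Equiv.symm_apply_apply, Equiv.symm_apply_apply, reind_succ_consS]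

lemma exact_of_evaluation {K₀ : Type*} [Category K₀] {A : Type*} [Category A] [Abelian A]
    (S : ShortComplex (K₀ ⥤ A))
    (h : ∀ j : K₀, (S.map ((evaluation K₀ A).obj j)).Exact) : S.Exact := by
  rw [S.exact_iff_isZero_homology, Functor.isZero_iff]
  intro j
  have hj := h j
  rw [ShortComplex.exact_iff_isZero_homology] at hj
  exact IsZero.of_iso hj (S.mapHomologyIso ((evaluation K₀ A).obj j)).symm

lemma RR_exact_succ (n : ℕ) : ((RR Y).sc' (n + 1 + 1) (n + 1) n).Exact := by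
  apply exact_of_evaluation
  rintro ⟨V⟩
  rw [ShortComplex.ab_exact_iff]
  intro z hz
  obtain ⟨w, hw⟩ := eval_exact_succ Y V n z ((RR_d_app_apply Y n V z).symm.trans hz)
  exact ⟨w, (RR_d_app_apply Y (n + 1) V w).trans hw⟩

end Free

section Yoneda
variable {C : Type u} [Category.{v} C] [LocallySmall.{w} C] {U : C} [HasFiniteProducts (Over U)]
  {ι : Type w} (Y : ι → Over U) (P : Cᵒᵖ ⥤ AddCommGrpCat.{w})

/-- restriction of a presheaf to the over category -/
abbrev Qr : (Over U)ᵒᵖ ⥤ AddCommGrpCat.{w} := (Over.forget U).op ⋙ P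

/-- the tuple over `Over.mk c` attached to a simplex -/
def toσ {n : ℕ} {V : C} (s : Simp Y n V) (c : V ⟶ U) (hc : cmpU Y (s.1 0) = c) :
    Fin (n+1) → Sg Y (Over.mk c) :=
  fun k => ⟨(s.1 k).1, Over.homMk (s.1 k).2 ((s.2 k).trans hc)⟩

/-- evaluation of a Čech cochain at a simplex -/
noncomputable def evS {n : ℕ} {V : C} (s : Simp Y n V) :
    (cech Y (Qr (U := U) P)).X n ⟶ P.obj (op V) :=
  ev Y (Qr (U := U) P) (Over.mk (cmpU Y (s.1 0))) (toσ Y s _ rfl)

lemma evS_eq {n : ℕ} {V : C} (s : Simp Y n V) (c : V ⟶ U) (hc : cmpU Y (s.1 0) = c) :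
    evS Y P s = ev Y (Qr (U := U) P) (Over.mk c) (toσ Y s c hc) := by
  subst hc; rfl

lemma evS_pull {n : ℕ} {V V' : C} (m : V' ⟶ V) (s : Simp Y n V) :
    evS Y P (pullS m s) = evS Y P s ≫ P.map m.op := by
  have hw : m ≫ cmpU Y (s.1 0) = cmpU Y ((pullS m s).1 0) := (Category.assoc m _ _).symm
  let m' : Over.mk (cmpU Y ((pullS m s).1 0)) ⟶ Over.mk (cmpU Y (s.1 0)) := Over.homMk m hw
  have h1 := ev_map Y (Qr (U := U) P) m' (toσ Y s _ rfl)
  have h2 : pullσ Y m' (toσ Y s _ rfl) = toσ Y (pullS m s) _ rfl := by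
    funext k
    exact Sigma.ext rfl (heq_of_eq (Over.OverMorphism.ext rfl))
  rw [h2] at h1
  exact h1.symm

lemma evS_reind {n : ℕ} {V : C} (s : Simp Y (n+1) V) (j : Fin (n+2)) :
    coface Y (Qr (U := U) P) j ≫ evS Y P s =
      evS Y P (reind (SimplexCategory.δ j).toOrderHom s) := by
  refine Eq.trans ?_ (evS_eq Y P (reind (SimplexCategory.δ j).toOrderHom s)
    (cmpU Y (s.1 0)) (s.2 _)).symm
  exact coface_ev Y (Qr (U := U) P) _ (toσ Y s _ rfl) j

lemma d_evS {n : ℕ} {V : C} (s : Simp Y (n+1) V) :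
    (cech Y (Qr (U := U) P)).d n (n+1) ≫ evS Y P s =
      ∑ j : Fin (n+2), (-1:ℤ)^(j:ℕ) • evS Y P (reind (SimplexCategory.δ j).toOrderHom s) := by
  rw [cech_d, Preadditive.sum_comp]
  refine Finset.sum_congr rfl fun j _ => ?_
  rw [Preadditive.zsmul_comp, evS_reind]

/-- the simplex attached to a tuple -/
def ofσ {n : ℕ} (T : Over U) (σ : Fin (n+1) → Sg Y T) : Simp Y n T.left :=
  ⟨fun k => ⟨(σ k).1, (σ k).2.left⟩, fun k => (Over.w (σ k).2).trans (Over.w (σ 0).2).symm⟩

lemma evS_ofσ {n : ℕ} (T : Over U) (σ : Fin (n+1) → Sg Y T) :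
    evS Y P (ofσ Y T σ) = ev Y (Qr (U := U) P) T σ := by
  rw [evS_eq Y P (ofσ Y T σ) T.hom (Over.w (σ 0).2)]
  rfl

lemma ext_elemS {n : ℕ} (x x' : (cech Y (Qr (U := U) P)).X n)
    (h : ∀ (V : C) (s : Simp Y n V), (evS Y P s).hom x = (evS Y P s).hom x') : x = x' := by
  apply ext_elem Y (Qr (U := U) P)
  intro T σ
  have := h T.left (ofσ Y T σ)
  rw [evS_ofσ] at this
  exact this

/-- the terms of `RR` -/
noncomputable abbrev RX (n : ℕ) : Cᵒᵖ ⥤ AddCommGrpCat.{w} := SFm Y n ⋙ AddCommGrpCat.free.{w}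

lemma RR_X (n : ℕ) : (RR Y).X n = RX Y n := rfl

/-- the morphism of presheaves attached to a cochain -/
noncomputable def phi {n : ℕ} (x : (cech Y (Qr (U := U) P)).X n) : RX Y n ⟶ P where
  app V := AddCommGrpCat.ofHom (FreeAbelianGroup.lift
    (fun s : Shrink.{w} (Simp Y n V.unop) => (evS Y P ((equivShrink _).symm s)).hom x))
  naturality {V V'} h := by
    apply AddCommGrpCat.hom_ext
    apply FreeAbelianGroup.lift_ext
    intro s
    show FreeAbelianGroup.lift _ (FreeAbelianGroup.map _ (FreeAbelianGroup.of s)) =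
      (P.map h).hom (FreeAbelianGroup.lift _ (FreeAbelianGroup.of s))
    rw [FreeAbelianGroup.map_of_apply, FreeAbelianGroup.lift_apply_of,
      FreeAbelianGroup.lift_apply_of]
    show (evS Y P ((equivShrink _).symm
      (equivShrink _ (pullS h.unop ((equivShrink _).symm s))))).hom x = _
    rw [Equiv.symm_apply_apply, evS_pull]
    rfl

lemma phi_apply {n : ℕ} (x : (cech Y (Qr (U := U) P)).X n) (V : C) (s : Simp Y n V) :
    ((phi Y P x).app (op V)).hom (FreeAbelianGroup.of (equivShrink _ s)) = (evS Y P s).hom x := by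
  show FreeAbelianGroup.lift _ (FreeAbelianGroup.of (equivShrink _ s)) = _
  rw [FreeAbelianGroup.lift_apply_of, Equiv.symm_apply_apply]

/-- the tautological simplex -/
noncomputable def tautS {n : ℕ} (b : Fin (n+1) → ι) : Simp Y n (∏ᶜ (Y ∘ b)).left :=
  ofσ Y (∏ᶜ (Y ∘ b)) (tautσ Y b)

/-- the cochain attached to a morphism of presheaves -/
noncomputable def xof {n : ℕ} (ψ : RX Y n ⟶ P) : (cech Y (Qr (U := U) P)).X n :=
  (Concrete.productEquiv (fun a : Fin (n+1) → ι => (Qr (U := U) P).obj (op (∏ᶜ (Y ∘ a))))).symm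
    (fun b => (ψ.app (op (∏ᶜ (Y ∘ b)).left)).hom
      (FreeAbelianGroup.of (equivShrink _ (tautS Y b))))

lemma evS_xof {n : ℕ} (ψ : RX Y n ⟶ P) {V : C} (s : Simp Y n V) :
    (evS Y P s).hom (xof Y P ψ) =
      (ψ.app (op V)).hom (FreeAbelianGroup.of (equivShrink _ s)) := by
  let b : Fin (n+1) → ι := fun k => (s.1 k).1
  let T : Over U := Over.mk (cmpU Y (s.1 0))
  let l : T ⟶ ∏ᶜ (Y ∘ b) := Pi.lift (fun k => (toσ Y s _ rfl k).2)
  have h1 : (evS Y P s).hom (xof Y P ψ) =
      (P.map l.left.op).hom ((Pi.π (fun a : Fin (n+1) → ι =>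
        (Qr (U := U) P).obj (op (∏ᶜ (Y ∘ a)))) b).hom (xof Y P ψ)) := rfl
  have h2 : (Pi.π (fun a : Fin (n+1) → ι =>
        (Qr (U := U) P).obj (op (∏ᶜ (Y ∘ a)))) b).hom (xof Y P ψ) =
      (ψ.app (op (∏ᶜ (Y ∘ b)).left)).hom (FreeAbelianGroup.of (equivShrink _ (tautS Y b))) :=
    Concrete.productEquiv_symm_apply_π _ _ b
  have h3 := congrArg (fun m => m.hom (FreeAbelianGroup.of (equivShrink _ (tautS Y b))))
    (ψ.naturality l.left.op)
  have h4 : pullS l.left (tautS Y b) = s := by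
    apply Subtype.ext
    funext k
    refine Sigma.ext rfl (heq_of_eq ?_)
    exact congrArg (fun m => CommaMorphism.left m) (Pi.lift_π (fun k => (toσ Y s _ rfl k).2) k)
  have h5 : ((RX Y n).map l.left.op).hom (FreeAbelianGroup.of (equivShrink _ (tautS Y b))) =
      FreeAbelianGroup.of (equivShrink _ (pullS l.left (tautS Y b))) := by
    show FreeAbelianGroup.map _ (FreeAbelianGroup.of _) = _
    rw [FreeAbelianGroup.map_of_apply]
    show FreeAbelianGroup.of (equivShrink _ (pullS l.left ((equivShrink _).symm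
      (equivShrink _ (tautS Y b))))) = _
    rw [Equiv.symm_apply_apply]
  rw [h1, h2]
  refine h3.symm.trans ?_
  show (ψ.app (op V)).hom (((RX Y n).map l.left.op).hom _) = _
  rw [h5, h4]
  rfl

end Yoneda

section Main
variable {C : Type u} [Category.{v} C] [LocallySmall.{w} C] {U : C} [HasFiniteProducts (Over U)]
  {ι : Type w} (Y : ι → Over U) (P : Cᵒᵖ ⥤ AddCommGrpCat.{w})

lemma zsum_hom_apply {M N : AddCommGrpCat.{w}} {κ : Type} (s : Finset κ) (c : κ → ℤ)
    (g : κ → (M ⟶ N)) (x : M) :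
    (∑ i ∈ s, c i • g i).hom x = ∑ i ∈ s, c i • (g i).hom x := by
  rw [hom_sum_apply]
  rfl

lemma d_evS_apply {n : ℕ} {V : C} (s : Simp Y (n+1) V) (y : (cech Y (Qr (U := U) P)).X n) :
    (evS Y P s).hom (((cech Y (Qr (U := U) P)).d n (n+1)).hom y) =
      ∑ j : Fin (n+2), (-1:ℤ)^(j:ℕ) •
        (evS Y P (reind (SimplexCategory.δ j).toOrderHom s)).hom y := by
  have h1 := congrArg (fun m => m.hom y) (d_evS Y P s)
  simp only [AddCommGrpCat.hom_comp, AddMonoidHom.comp_apply] at h1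
  rw [zsum_hom_apply] at h1
  exact h1

/-- component of a morphism of presheaves, typed on the free abelian group -/
noncomputable def compH {n : ℕ} (ψ : RX Y n ⟶ P) (V : C) :
    FreeAbelianGroup (TT Y V n) →+ P.obj (op V) :=
  (ψ.app (op V)).hom

lemma compH_phi_of {n : ℕ} (x : (cech Y (Qr (U := U) P)).X n) (V : C) (s : TT Y V n) :
    compH Y P (phi Y P x) V (FreeAbelianGroup.of s) =
      (evS Y P ((equivShrink _).symm s)).hom x :=
  FreeAbelianGroup.lift_apply_of _ _

lemma evS_xof' {n : ℕ} (ψ : RX Y n ⟶ P) (V : C) (s : Simp Y n V) :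
    (evS Y P s).hom (xof Y P ψ) = compH Y P ψ V (FreeAbelianGroup.of (equivShrink _ s)) :=
  evS_xof Y P ψ s

lemma compH_d {n : ℕ} (ψ : RX Y n ⟶ P) (V : C) (z : FreeAbelianGroup (TT Y V (n+1))) :
    compH Y P ((RR Y).d (n+1) n ≫ ψ : RX Y (n+1) ⟶ P) V z =
      compH Y P ψ V (∑ i : Fin (n+2), (-1:ℤ)^(i:ℕ) • FreeAbelianGroup.map (fc Y V n i) z) :=
  congrArg (compH Y P ψ V) (RR_d_app_apply Y n V z)

lemma compH_sum {n : ℕ} (ψ : RX Y n ⟶ P) (V : C) (s : TT Y V (n+1)) :
    compH Y P ψ V (∑ i : Fin (n+2), (-1:ℤ)^(i:ℕ) •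
        FreeAbelianGroup.map (fc Y V n i) (FreeAbelianGroup.of s)) =
      ∑ i : Fin (n+2), (-1:ℤ)^(i:ℕ) • compH Y P ψ V (FreeAbelianGroup.of (fc Y V n i s)) := by
  rw [map_sum]
  refine Finset.sum_congr rfl fun i _ => ?_
  rw [map_zsmul, FreeAbelianGroup.map_of_apply]

lemma compH_d_phi {n : ℕ} (x : (cech Y (Qr (U := U) P)).X (n+1)) (V : C) (s : TT Y V (n+2)) :
    compH Y P ((RR Y).d (n+2) (n+1) ≫ phi Y P x : RX Y (n+2) ⟶ P) V (FreeAbelianGroup.of s) =
      (evS Y P ((equivShrink _).symm s)).hom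
        (((cech Y (Qr (U := U) P)).d (n+1) (n+2)).hom x) := by
  refine (compH_d Y P (phi Y P x) V _).trans ((compH_sum Y P (phi Y P x) V s).trans ?_)
  rw [d_evS_apply]
  refine Finset.sum_congr rfl fun i _ => ?_
  rw [compH_phi_of]
  unfold fc
  rw [Equiv.symm_apply_apply]

lemma compH_d_xof {n : ℕ} (ψ : RX Y n ⟶ P) (V : C) (s : Simp Y (n+1) V) :
    (evS Y P s).hom (((cech Y (Qr (U := U) P)).d n (n+1)).hom (xof Y P ψ)) =
      compH Y P ((RR Y).d (n+1) n ≫ ψ : RX Y (n+1) ⟶ P) V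
        (FreeAbelianGroup.of (equivShrink _ s)) := by
  refine Eq.trans ?_ ((compH_d Y P ψ V _).trans (compH_sum Y P ψ V (equivShrink _ s))).symm
  rw [d_evS_apply]
  refine Finset.sum_congr rfl fun i _ => ?_
  rw [evS_xof']
  unfold fc
  rw [Equiv.symm_apply_apply]

theorem exact_succ_of_injective (I : Cᵒᵖ ⥤ AddCommGrpCat.{w}) [Injective I] (n : ℕ)
    (x : (cech Y (Qr (U := U) I)).X (n+1))
    (hx : ((cech Y (Qr (U := U) I)).d (n+1) (n+2)).hom x = 0) :
    ∃ y, ((cech Y (Qr (U := U) I)).d n (n+1)).hom y = x := by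
  have hS : ((RR Y).sc' (n + 1 + 1) (n + 1) n).Exact := RR_exact_succ Y n
  let φ : ((RR Y).sc' (n + 1 + 1) (n + 1) n).X₂ ⟶ I := phi Y I x
  have hφ : ((RR Y).sc' (n + 1 + 1) (n + 1) n).f ≫ φ = 0 := by
    refine NatTrans.ext (funext fun V => ?_)
    obtain ⟨V⟩ := V
    apply AddCommGrpCat.hom_ext
    apply FreeAbelianGroup.lift_ext
    intro s
    have key := compH_d_phi Y I x V s
    rw [hx, map_zero] at key
    exact key
  let ψ : RX Y n ⟶ I := hS.descToInjective φ hφ
  have hψ : ((RR Y).d (n + 1) n ≫ ψ : RX Y (n+1) ⟶ I) = phi Y I x :=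
    hS.comp_descToInjective φ hφ
  refine ⟨xof Y I ψ, ?_⟩
  apply ext_elemS
  intro V s
  rw [compH_d_xof, hψ, compH_phi_of, Equiv.symm_apply_apply]

/-- Čech cohomology of an injective presheaf vanishes in positive degrees (large `C`). -/
theorem isZero_cechH_of_injective_large (I : Cᵒᵖ ⥤ AddCommGrpCat.{w}) [Injective I] (n : ℕ) :
    IsZero (((cechComplexFunctor Y).obj (Qr (U := U) I)).homology (n+1)) := by
  rw [← HomologicalComplex.exactAt_iff_isZero_homology,
    HomologicalComplex.exactAt_iff' _ n (n+1) (n+2) (by simp) (by simp),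
    ShortComplex.ab_exact_iff]
  intro x hx
  exact exact_succ_of_injective Y I n x hx

end Main

end Groth.Agent.Helper1.CE
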