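import Mathlib
import Groth.Agent.S0543
import Groth.Agent.Lib.Helper1.HFlat9
import Groth.Agent.Lib.Helper1.LocalCriterion

/-!
# The map from the henselization to the completion is faithfully flat
-/

set_option autoImplicit false

namespace Groth.Agent.Helper1.CF

open IsLocalRing TensorProduct Groth.Agent.Helper1

universe u

/-- If `M/JM` is generated by the class of `m₀` and is free on it over `R/J`, then
`(R/J) ⊗ M` is flat over `R/J`. -/
theorem flat_quotient_tensor_of_cyclic {R : Type*} [CommRing R] (J : Ideal R) {M : Type*}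
    [AddCommGroup M] [Module R M] (m₀ : M)
    (h1 : ∀ m : M, ∃ r : R, m - r • m₀ ∈ J • (⊤ : Submodule R M))
    (h2 : ∀ r : R, r • m₀ ∈ J • (⊤ : Submodule R M) → r ∈ J) :
    Module.Flat (R ⧸ J) ((R ⧸ J) ⊗[R] M) := by
  let φ : (R ⧸ J) →ₗ[R ⧸ J] (R ⧸ J) ⊗[R] M :=
    LinearMap.toSpanSingleton (R ⧸ J) _ ((1 : R ⧸ J) ⊗ₜ[R] m₀)
  have hφ : ∀ y : R ⧸ J, φ y = y ⊗ₜ[R] m₀ := by
    intro y
    show y • ((1 : R ⧸ J) ⊗ₜ[R] m₀) = _
    rw [TensorProduct.smul_tmul', smul_eq_mul, mul_one]
  have hzero : ∀ (x : R ⧸ J) (j : M), j ∈ J • (⊤ : Submodule R M) → x ⊗ₜ[R] j = 0 := by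
    intro x j hj
    refine Submodule.smul_induction_on hj ?_ ?_
    · intro a ha m' _
      have hax : a • x = 0 := by
        rw [Algebra.smul_def, Ideal.Quotient.algebraMap_eq,
          Ideal.Quotient.eq_zero_iff_mem.mpr ha, zero_mul]
      rw [TensorProduct.tmul_smul, TensorProduct.smul_tmul', hax, TensorProduct.zero_tmul]
    · intro b₁ b₂ h₁ h₂
      rw [TensorProduct.tmul_add, h₁, h₂, add_zero]
  have hsurj : Function.Surjective φ := by
    intro z
    induction z using TensorProduct.induction_on with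
    | zero => exact ⟨0, map_zero _⟩
    | add x y hx hy =>
      obtain ⟨a, rfl⟩ := hx
      obtain ⟨b, rfl⟩ := hy
      exact ⟨a + b, map_add _ _ _⟩
    | tmul x m =>
      obtain ⟨r, hr⟩ := h1 m
      refine ⟨r • x, ?_⟩
      rw [hφ]
      calc (r • x) ⊗ₜ[R] m₀ = x ⊗ₜ[R] (r • m₀) := by rw [TensorProduct.smul_tmul]
        _ = x ⊗ₜ[R] (r • m₀) + x ⊗ₜ[R] (m - r • m₀) := by rw [hzero x _ hr, add_zero]
        _ = x ⊗ₜ[R] m := by
          rw [← TensorProduct.tmul_add]
          congr 1
          abel
  have hinj : Function.Injective φ := by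
    rw [injective_iff_map_eq_zero]
    intro y hy
    obtain ⟨r, rfl⟩ := Ideal.Quotient.mk_surjective y
    rw [hφ] at hy
    have := congrArg (TensorProduct.quotTensorEquivQuotSMul M J) hy
    rw [TensorProduct.quotTensorEquivQuotSMul_mk_tmul, map_zero,
      Submodule.Quotient.mk_eq_zero] at this
    exact Ideal.Quotient.eq_zero_iff_mem.mpr (h2 r this)
  exact Module.Flat.of_linearEquiv (LinearEquiv.ofBijective φ ⟨hinj, hsurj⟩).symm

section Completion

variable (A S : Type u) [CommRing A] [IsLocalRing A] [IsNoetherianRing A] [CommRing S]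
  [IsLocalRing S] [Algebra A S] [IsLocalHom (algebraMap A S)] [Hensel.IsHenselization A S]
  (ψ : S →+* AdicCompletion (maximalIdeal A) A)
  (hψ : ψ.comp (algebraMap A S) = algebraMap A (AdicCompletion (maximalIdeal A) A))

include hψ in
theorem map_maximalIdeal_pow (n : ℕ) :
    (maximalIdeal S ^ n).map ψ =
      (maximalIdeal A ^ n).map (algebraMap A (AdicCompletion (maximalIdeal A) A)) := by
  rw [← Hzn.map_maximalIdeal_eq_of_isHenselization A S, ← Ideal.map_pow, Ideal.map_map, hψ]

theorem mem_map_pow_iff (n : ℕ) (x : AdicCompletion (maximalIdeal A) A) :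
    x ∈ (maximalIdeal A ^ n).map (algebraMap A (AdicCompletion (maximalIdeal A) A)) ↔
      AdicCompletion.eval (maximalIdeal A) A n x = 0 := by
  rw [← LinearMap.mem_ker,
    ← AdicCompletion.pow_smul_top_eq_ker_eval (IsNoetherian.noetherian (maximalIdeal A)),
    Ideal.smul_top_eq_map, Submodule.restrictScalars_mem]

include hψ in
theorem isLocalHom_psi : IsLocalHom ψ := by
  have h1 : (maximalIdeal S).map ψ ≤ maximalIdeal (AdicCompletion (maximalIdeal A) A) := by
    have := map_maximalIdeal_pow A S ψ hψ 1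
    rw [pow_one, pow_one] at this
    rw [this, AdicCompletion.maximalIdeal_eq_map]
  exact ((IsLocalRing.local_hom_TFAE ψ).out 0 2).mpr h1

include hψ in
theorem flat_psi :
    letI := ψ.toAlgebra
    Module.Flat S (AdicCompletion (maximalIdeal A) A) := by
  letI := ψ.toAlgebra
  haveI hS : HenselianLocalRing S := Hensel.IsHenselization.henselian (R := A)
  haveI : IsNoetherianRing S := (HFlat.isNoetherianRing_iff_of_isHenselization A S).mp inferInstance
  haveI : IsNoetherianRing (AdicCompletion (maximalIdeal A) A) :=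
    Groth.Agent.S0543.result A (maximalIdeal A)
  have hmem : ∀ (n : ℕ) (x : AdicCompletion (maximalIdeal A) A),
      x ∈ (maximalIdeal S ^ n) • (⊤ : Submodule S (AdicCompletion (maximalIdeal A) A)) ↔
        AdicCompletion.eval (maximalIdeal A) A n x = 0 := by
    intro n x
    rw [Ideal.smul_top_eq_map, Submodule.restrictScalars_mem]
    show x ∈ (maximalIdeal S ^ n).map ψ ↔ _
    rw [map_maximalIdeal_pow A S ψ hψ, mem_map_pow_iff]
  have hone : ∀ a : A, (algebraMap A S a) • (1 : AdicCompletion (maximalIdeal A) A) =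
      algebraMap A (AdicCompletion (maximalIdeal A) A) a := by
    intro a
    rw [Algebra.smul_def, mul_one]
    exact RingHom.congr_fun hψ a
  have hevalof : ∀ (n : ℕ) (a : A), AdicCompletion.eval (maximalIdeal A) A n
      (algebraMap A (AdicCompletion (maximalIdeal A) A) a) =
        Submodule.mkQ (maximalIdeal A ^ n • ⊤ : Submodule A A) a := by
    intro n a
    rw [AdicCompletion.algebraMap_apply]
    rfl
  refine flat_of_flat_quotient_pow (R := S) (S := AdicCompletion (maximalIdeal A) A)
    (M := AdicCompletion (maximalIdeal A) A) (maximalIdeal S) ?_ ?_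
  · rw [IsLocalRing.jacobson_eq_maximalIdeal ⊥ bot_ne_top]
    have := map_maximalIdeal_pow A S ψ hψ 1
    rw [pow_one, pow_one] at this
    show (maximalIdeal S).map ψ ≤ _
    rw [this, AdicCompletion.maximalIdeal_eq_map]
  · intro n _
    refine flat_quotient_tensor_of_cyclic (maximalIdeal S ^ n)
      (1 : AdicCompletion (maximalIdeal A) A) ?_ ?_
    · intro m
      obtain ⟨a, ha⟩ := Submodule.mkQ_surjective _
        (AdicCompletion.eval (maximalIdeal A) A n m)
      refine ⟨algebraMap A S a, ?_⟩
      rw [hmem, hone, map_sub, hevalof, ha, sub_self]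
    · intro r hr
      obtain ⟨a, ha⟩ := (HFlat.IsHensHom.of_isHenselization A S).exists_sub_mem_pow n r
      rw [hmem] at hr
      have h3 : (r - algebraMap A S a) • (1 : AdicCompletion (maximalIdeal A) A) ∈
          (maximalIdeal S ^ n) • (⊤ : Submodule S (AdicCompletion (maximalIdeal A) A)) :=
        Submodule.smul_mem_smul ha Submodule.mem_top
      rw [hmem, sub_smul, map_sub, hr, zero_sub, neg_eq_zero, hone, hevalof] at h3
      have h4 : a ∈ (maximalIdeal A ^ n • ⊤ : Submodule A A) :=
        (Submodule.Quotient.mk_eq_zero _).mp h3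
      rw [smul_eq_mul, Ideal.mul_top] at h4
      have h5 : algebraMap A S a ∈ maximalIdeal S ^ n := by
        rw [← Hzn.map_maximalIdeal_eq_of_isHenselization A S, ← Ideal.map_pow]
        exact Ideal.mem_map_of_mem _ h4
      have : r = (r - algebraMap A S a) + algebraMap A S a := by ring
      rw [this]
      exact Ideal.add_mem _ ha h5

include hψ in
theorem faithfullyFlat_psi :
    letI := ψ.toAlgebra
    Module.FaithfullyFlat S (AdicCompletion (maximalIdeal A) A) := by
  letI := ψ.toAlgebra
  haveI : Module.Flat S (AdicCompletion (maximalIdeal A) A) := flat_psi A S ψ hψ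
  haveI : IsLocalHom (algebraMap S (AdicCompletion (maximalIdeal A) A)) :=
    isLocalHom_psi A S ψ hψ
  exact Module.FaithfullyFlat.of_flat_of_isLocalHom

end Completion

end Groth.Agent.Helper1.CF
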