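import Groth.Agent.Lib.Helper1.HenselFinite
import Mathlib.RingTheory.ZariskisMainTheorem
import Mathlib.RingTheory.Spectrum.Prime.Noetherian
import Mathlib.Topology.NoetherianSpace

set_option autoImplicit false

/-! # Quasi-finite algebras over henselian local rings split off a finite part -/

namespace Groth.Agent.Helper1

open Polynomial IsLocalRing

universe u

/-- In a finite algebra over a henselian local ring, every maximal ideal is cut out by an
idempotent. -/
theorem exists_isIdempotentElem_notMem_forall_mem {R : Type u} [CommRing R] [HenselianLocalRing R]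
    {S : Type*} [CommRing S] [Algebra R S] [Module.Finite R S] (n : Ideal S) [hn : n.IsMaximal] :
    ∃ e : S, IsIdempotentElem e ∧ e ∉ n ∧ ∀ N : Ideal S, N.IsMaximal → N ≠ n → e ∈ N := by
  classical
  have hfin : Finite (MaximalSpectrum S) := by
    have h1 : ((maximalIdeal R).primesOver S).Finite :=
      Algebra.QuasiFinite.finite_primesOver _
    have : Finite ((maximalIdeal R).primesOver S) := h1
    refine Finite.of_injective (fun n : MaximalSpectrum S ↦
      (⟨n.asIdeal, n.isMaximal.isPrime, ⟨?_⟩⟩ : (maximalIdeal R).primesOver S)) ?_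
    · have := Ideal.isMaximal_comap_of_isIntegral_of_isMaximal (R := R) n.asIdeal
        (hI := n.isMaximal)
      exact (IsLocalRing.eq_maximalIdeal this).symm
    · intro n n' h
      exact MaximalSpectrum.ext (congr_arg Subtype.val h)
  let _ : Fintype (MaximalSpectrum S) := Fintype.ofFinite _
  have hsep : ∀ n' : MaximalSpectrum S, n'.asIdeal ≠ n →
      ∃ e : S, IsIdempotentElem e ∧ e ∈ n'.asIdeal ∧ e ∉ n := by
    intro n' hne
    have := n'.isMaximal
    exact exists_isIdempotentElem_mem_notMem (R := R) n'.asIdeal n hne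
  let ε : MaximalSpectrum S → S :=
    fun n' ↦ if h : n'.asIdeal = n then 1 else (hsep n' h).choose
  have hε_idem : ∀ n', IsIdempotentElem (ε n') := by
    intro n'
    by_cases h : n'.asIdeal = n
    · simp only [ε, dif_pos h]; exact IsIdempotentElem.one
    · simp only [ε, dif_neg h]; exact (hsep n' h).choose_spec.1
  have hε_mem : ∀ n' : MaximalSpectrum S, n'.asIdeal ≠ n → ε n' ∈ n'.asIdeal := by
    intro n' h
    simp only [ε, dif_neg h]; exact (hsep n' h).choose_spec.2.1
  have hε_notMem : ∀ n', ε n' ∉ n := by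
    intro n'
    by_cases h : n'.asIdeal = n
    · simp only [ε, dif_pos h]
      exact fun h1 ↦ hn.ne_top ((Ideal.eq_top_iff_one _).mpr h1)
    · simp only [ε, dif_neg h]; exact (hsep n' h).choose_spec.2.2
  refine ⟨∏ n', ε n', ?_, ?_, ?_⟩
  · exact Finset.prod_induction _ IsIdempotentElem (fun _ _ ha hb ↦ ha.mul hb)
      IsIdempotentElem.one (fun n' _ ↦ hε_idem n')
  · intro h
    have := hn.isPrime
    obtain ⟨n', -, hn'⟩ := Ideal.IsPrime.prod_mem_iff.mp h
    exact hε_notMem n' hn'
  · intro N hN hNn
    exact Ideal.mem_of_dvd _ (Finset.dvd_prod_of_mem _ (Finset.mem_univ ⟨N, hN⟩))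
      (hε_mem ⟨N, hN⟩ hNn)

/-- Local structure of a finite type algebra over a henselian local ring at a prime of the closed
fibre at which it is quasi-finite: the prime is cut out by an idempotent whose ideal is a finite
module over the base. -/
theorem exists_isIdempotentElem_fg_of_quasiFiniteAt {R : Type u} [CommRing R]
    [HenselianLocalRing R] {S : Type*} [CommRing S] [Algebra R S] [Algebra.FiniteType R S]
    (p : Ideal S) [p.IsPrime] [hpm : p.LiesOver (maximalIdeal R)] [Algebra.QuasiFiniteAt R p] :
    ∃ e : S, IsIdempotentElem e ∧ e ∉ p ∧ ((Ideal.span {e}).restrictScalars R).FG := by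
  obtain ⟨S', hS', r, hrp, hbij⟩ :=
    Algebra.QuasiFiniteAt.exists_fg_and_exists_notMem_and_awayMap_bijective (R := R) p
  have hfinS' : Module.Finite R S' := ⟨(Submodule.fg_top _).mpr hS'⟩
  let p' : Ideal S' := p.comap S'.val.toRingHom
  have hp'prime : p'.IsPrime := Ideal.comap_isPrime _ _
  have hp'max : p'.IsMaximal := by
    refine Ideal.isMaximal_of_isIntegral_of_isMaximal_comap (R := R) p' ?_
    have : p'.comap (algebraMap R S') = maximalIdeal R := by
      rw [Ideal.comap_comap]
      have : S'.val.toRingHom.comp (algebraMap R S') = algebraMap R S := by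
        ext x; simp
      rw [this]
      exact (hpm.over).symm
    rw [this]
    exact maximalIdeal.isMaximal R
  obtain ⟨e', he', he'n, he'N⟩ := exists_isIdempotentElem_notMem_forall_mem (R := R) p'
  have hrp' : r ∉ p' := hrp
  -- `r` is a unit modulo `1 - e'`
  obtain ⟨c, hc⟩ : ∃ c : S', c * r * e' = e' := by
    have htop : Ideal.span {r} ⊔ Ideal.span {1 - e'} = ⊤ := by
      by_contra hne
      obtain ⟨N, hN, hle'⟩ := Ideal.exists_le_maximal _ hne
      have hrN : r ∈ N := hle' (Ideal.mem_sup_left (Ideal.mem_span_singleton_self r))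
      have heN : 1 - e' ∈ N := hle' (Ideal.mem_sup_right (Ideal.mem_span_singleton_self _))
      by_cases hNp : N = p'
      · exact hrp' (hNp ▸ hrN)
      · have := he'N N hN hNp
        exact hN.ne_top ((Ideal.eq_top_iff_one _).mpr (by simpa using N.add_mem heN this))
    obtain ⟨x, hx, y, hy, hxy⟩ := Submodule.mem_sup.mp (htop ▸ Submodule.mem_top : (1 : S') ∈ _)
    obtain ⟨c, rfl⟩ := Ideal.mem_span_singleton'.mp hx
    obtain ⟨d, rfl⟩ := Ideal.mem_span_singleton'.mp hy
    refine ⟨c, ?_⟩
    have h1 : e' * (1 - e') = 0 := by rw [mul_sub, mul_one, he'.eq, sub_self]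
    linear_combination e' * hxy - d * h1
  have hsurj := Localization.awayMap_surjective_iff.mp hbij.2
  have hepow : ∀ k : ℕ, e' * (c * r * e') ^ k = e' := by
    intro k
    rw [hc]
    induction k with
    | zero => simp
    | succ k ih => rw [pow_succ, ← mul_assoc, ih, he'.eq]
  let L : S' →ₗ[R] S := (LinearMap.mulLeft R (S'.val e')).comp S'.val.toLinearMap
  refine ⟨S'.val e', he'.map S'.val, fun h ↦ he'n h, ?_⟩
  have hrange : (Ideal.span {S'.val e'}).restrictScalars R = LinearMap.range L := by
    apply le_antisymm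
    · intro x hx
      obtain ⟨x, rfl⟩ := Ideal.mem_span_singleton'.mp hx
      obtain ⟨a, k, hak⟩ := hsurj x
      refine ⟨c ^ k * e' ^ k * a, ?_⟩
      change S'.val e' * S'.val (c ^ k * e' ^ k * a) = x * S'.val e'
      have h2 := congr(S'.val $(hepow k))
      have hak' : S'.val a = S'.val r ^ k * x := hak
      simp only [map_mul, map_pow] at h2 ⊢
      rw [hak']
      linear_combination (x) * h2
    · rintro _ ⟨b, rfl⟩
      change S'.val e' * S'.val b ∈ Ideal.span {S'.val e'}
      exact Ideal.mul_mem_right _ _ (Ideal.mem_span_singleton_self _)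
  rw [hrange, LinearMap.range_eq_map]
  exact (Module.Finite.fg_top).map _

/-- In a noetherian space there are only finitely many open points. -/
lemma finite_setOf_isOpen_singleton (X : Type*) [TopologicalSpace X]
    [TopologicalSpace.NoetherianSpace X] : {x : X | IsOpen {x}}.Finite := by
  have hU : IsCompact {x : X | IsOpen {x}} := TopologicalSpace.NoetherianSpace.isCompact _
  obtain ⟨t, ht⟩ := hU.elim_finite_subcover (fun x : {x : X | IsOpen {x}} ↦ ({x.1} : Set X))
    (fun x ↦ x.2) (fun x hx ↦ Set.mem_iUnion.mpr ⟨⟨x, hx⟩, rfl⟩)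
  refine Set.Finite.subset (t.finite_toSet.image Subtype.val) fun x hx ↦ ?_
  obtain ⟨i, hi⟩ := Set.mem_iUnion.mp (ht hx)
  obtain ⟨hit, hxi⟩ := Set.mem_iUnion.mp hi
  exact ⟨i, hit, hxi.symm⟩

/-- The set of points of a fibre of a finite type algebra at which the algebra is quasi-finite is
finite. -/
lemma finite_setOf_quasiFiniteAt {R S : Type*} [CommRing R] [CommRing S] [Algebra R S]
    [Algebra.FiniteType R S] (p : PrimeSpectrum R) :
    {q : PrimeSpectrum S | q.comap (algebraMap R S) = p ∧
      Algebra.QuasiFiniteAt R q.asIdeal}.Finite := by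
  have hN : IsNoetherianRing (p.asIdeal.Fiber S) :=
    Algebra.FiniteType.isNoetherianRing p.asIdeal.ResidueField _
  have : TopologicalSpace.NoetherianSpace
      (PrimeSpectrum.comap (algebraMap R S) ⁻¹' {p}) :=
    (TopologicalSpace.noetherianSpace_iff_of_homeomorph
      (PrimeSpectrum.preimageHomeomorphFiber R S p)).mpr inferInstance
  refine Set.Finite.subset ((finite_setOf_isOpen_singleton
    (PrimeSpectrum.comap (algebraMap R S) ⁻¹' {p})).image Subtype.val) ?_
  rintro q ⟨rfl, hq⟩
  exact ⟨⟨q, rfl⟩, (Algebra.quasiFiniteAt_iff_isOpen_singleton_fiber q).mp hq, rfl⟩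

/-- Quasi-finiteness at a prime of `S ⧸ (e)` for an idempotent `e` implies quasi-finiteness at the
corresponding prime of `S`. -/
lemma quasiFiniteAt_comap_quotient_of_isIdempotentElem {R S : Type*} [CommRing R] [CommRing S]
    [Algebra R S] {e : S} (he : IsIdempotentElem e) (q : Ideal (S ⧸ Ideal.span {e})) [q.IsPrime]
    [Algebra.QuasiFiniteAt R q] :
    Algebra.QuasiFiniteAt R (q.comap (Ideal.Quotient.mk (Ideal.span {e}))) := by
  set q' := q.comap (Ideal.Quotient.mk (Ideal.span {e})) with hq'
  have heq' : e ∈ q' := by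
    rw [hq', Ideal.mem_comap, Ideal.Quotient.eq_zero_iff_mem.mpr (Ideal.mem_span_singleton_self e)]
    exact q.zero_mem
  have h1e : (1 - e) ∉ q' := fun h ↦
    (Ideal.IsPrime.ne_top inferInstance) ((Ideal.eq_top_iff_one q').mpr
      (by simpa using q'.add_mem h heq'))
  have he0 : algebraMap S (Localization.AtPrime q') e = 0 := by
    have hu : IsUnit (algebraMap S (Localization.AtPrime q') (1 - e)) :=
      IsLocalization.map_units (M := q'.primeCompl) _ ⟨1 - e, h1e⟩
    have : algebraMap S (Localization.AtPrime q') e *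
        algebraMap S (Localization.AtPrime q') (1 - e) = 0 := by
      rw [← map_mul, mul_sub, mul_one, he.eq, sub_self, map_zero]
    exact hu.mul_left_eq_zero.mp this
  let f₀ : (S ⧸ Ideal.span {e}) →ₐ[R] Localization.AtPrime q' :=
    Ideal.Quotient.liftₐ (Ideal.span {e}) (IsScalarTower.toAlgHom R S (Localization.AtPrime q'))
      (fun a ha ↦ by
        obtain ⟨b, rfl⟩ := Ideal.mem_span_singleton'.mp ha
        change algebraMap S (Localization.AtPrime q') (b * e) = 0
        rw [map_mul, he0, mul_zero])
  have hf₀ : ∀ s : S, f₀ (Ideal.Quotient.mk _ s) = algebraMap S (Localization.AtPrime q') s :=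
    fun s ↦ rfl
  let f : Localization.AtPrime q →ₐ[R] Localization.AtPrime q' :=
    IsLocalization.liftAlgHom (M := q.primeCompl) (f := f₀) (by
      rintro ⟨t, ht⟩
      obtain ⟨s, rfl⟩ := Ideal.Quotient.mk_surjective t
      rw [hf₀]
      exact IsLocalization.map_units (M := q'.primeCompl) _ ⟨s, ht⟩)
  refine Algebra.QuasiFinite.of_surjective_algHom f fun x ↦ ?_
  obtain ⟨x, ⟨s, hs⟩, rfl⟩ := IsLocalization.exists_mk'_eq q'.primeCompl x
  refine ⟨IsLocalization.mk' _ (Ideal.Quotient.mk _ x)
    (⟨Ideal.Quotient.mk _ s, hs⟩ : q.primeCompl), ?_⟩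
  change IsLocalization.lift _ _ = _
  rw [IsLocalization.lift_mk'_spec]
  change f₀ (Ideal.Quotient.mk _ x) = f₀ (Ideal.Quotient.mk _ s) * _
  rw [hf₀, hf₀, mul_comm]
  exact (IsLocalization.mk'_spec _ x ⟨s, hs⟩).symm

lemma span_join_of_isIdempotentElem {S : Type*} [CommRing S] {a b : S}
    (ha : IsIdempotentElem a) (hb : IsIdempotentElem b) :
    Ideal.span {1 - (1 - a) * (1 - b)} = Ideal.span {a} ⊔ Ideal.span {b} := by
  apply le_antisymm
  · rw [Ideal.span_singleton_le_iff_mem]
    have : 1 - (1 - a) * (1 - b) = a + (1 - a) * b := by ring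
    rw [this]
    exact Ideal.add_mem _ (Ideal.mem_sup_left (Ideal.mem_span_singleton_self a))
      (Ideal.mem_sup_right (Ideal.mul_mem_left _ _ (Ideal.mem_span_singleton_self b)))
  · rw [sup_le_iff, Ideal.span_singleton_le_iff_mem, Ideal.span_singleton_le_iff_mem]
    constructor
    · rw [Ideal.mem_span_singleton']
      exact ⟨a, by linear_combination (1 - b) * ha.eq⟩
    · rw [Ideal.mem_span_singleton']
      exact ⟨b, by linear_combination (1 - a) * hb.eq⟩

/-- A finite type algebra over a henselian local ring splits off a module-finite factor containing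
all the points of the closed fibre at which the algebra is quasi-finite (version where finiteness
is expressed by saying that the ideal `(e)` is a finitely generated module over the base). -/
theorem exists_isIdempotentElem_fg_of_finiteType (R : Type u) [CommRing R]
    [HenselianLocalRing R] (S : Type*) [CommRing S] [Algebra R S] [Algebra.FiniteType R S] :
    ∃ e : S, IsIdempotentElem e ∧ ((Ideal.span {e}).restrictScalars R).FG ∧
      ∀ (q : Ideal (S ⧸ Ideal.span ({e} : Set S))) [q.IsPrime],
        q.LiesOver (IsLocalRing.maximalIdeal R) → ¬ Algebra.QuasiFiniteAt R q := by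
  classical
  let 𝒬 : Set (PrimeSpectrum S) := {q | q.comap (algebraMap R S) = closedPoint R ∧
    Algebra.QuasiFiniteAt R q.asIdeal}
  have h𝒬 : 𝒬.Finite := finite_setOf_quasiFiniteAt (closedPoint R)
  have hloc : ∀ q ∈ 𝒬, ∃ e : S, IsIdempotentElem e ∧ e ∉ q.asIdeal ∧
      ((Ideal.span {e}).restrictScalars R).FG := by
    rintro q ⟨hq1, hq2⟩
    have : q.asIdeal.LiesOver (maximalIdeal R) :=
      ⟨(congr_arg PrimeSpectrum.asIdeal hq1).symm⟩
    exact exists_isIdempotentElem_fg_of_quasiFiniteAt q.asIdeal
  choose! ε hε_idem hε_notMem hε_fg using hloc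
  have key : ∀ s : Finset (PrimeSpectrum S), (∀ q ∈ s, q ∈ 𝒬) →
      IsIdempotentElem (∏ q ∈ s, (1 - ε q)) ∧
      ((Ideal.span {1 - ∏ q ∈ s, (1 - ε q)}).restrictScalars R).FG := by
    intro s
    induction s using Finset.induction_on with
    | empty =>
      intro _
      refine ⟨by simpa using IsIdempotentElem.one, ?_⟩
      simp only [Finset.prod_empty, sub_self]
      rw [Ideal.span_singleton_eq_bot.mpr rfl, Submodule.restrictScalars_bot]
      exact Submodule.fg_bot
    | insert a s has ih =>
      intro hs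
      obtain ⟨ih1, ih2⟩ := ih fun q hq ↦ hs q (Finset.mem_insert_of_mem hq)
      have ha := hs a (Finset.mem_insert_self a s)
      rw [Finset.prod_insert has]
      refine ⟨(hε_idem a ha).one_sub.mul ih1, ?_⟩
      have h1 : (∏ q ∈ s, (1 - ε q)) = 1 - (1 - ∏ q ∈ s, (1 - ε q)) := by ring
      rw [h1, span_join_of_isIdempotentElem (hε_idem a ha) ih1.one_sub,
        Submodule.restrictScalars_sup]
      exact (hε_fg a ha).sup ih2
  set P := ∏ q ∈ h𝒬.toFinset, (1 - ε q) with hP
  obtain ⟨hPidem, hPfg⟩ := key h𝒬.toFinset fun q hq ↦ h𝒬.mem_toFinset.mp hq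
  refine ⟨1 - P, hPidem.one_sub, hPfg, ?_⟩
  intro q hqprime hqlies hqf
  set q' := q.comap (Ideal.Quotient.mk (Ideal.span {1 - P})) with hq'
  have hq'f : Algebra.QuasiFiniteAt R q' :=
    quasiFiniteAt_comap_quotient_of_isIdempotentElem hPidem.one_sub q
  have hmem : (⟨q', inferInstance⟩ : PrimeSpectrum S) ∈ 𝒬 := by
    refine ⟨?_, hq'f⟩
    apply PrimeSpectrum.ext
    change Ideal.comap (algebraMap R S) q' = maximalIdeal R
    rw [hq', Ideal.comap_comap]
    exact (hqlies.over).symm
  have h1 : (1 - P) ∈ q' := by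
    rw [hq', Ideal.mem_comap,
      Ideal.Quotient.eq_zero_iff_mem.mpr (Ideal.mem_span_singleton_self (1 - P))]
    exact q.zero_mem
  have h2 : P ∈ q' := by
    have h3 : (1 - ε ⟨q', inferInstance⟩) ∈ q' := by
      have h0 : ε ⟨q', inferInstance⟩ * (1 - ε ⟨q', inferInstance⟩) ∈ q' := by
        rw [mul_sub, mul_one, (hε_idem _ hmem).eq, sub_self]; exact q'.zero_mem
      exact ((Ideal.IsPrime.mem_or_mem inferInstance h0)).resolve_left (hε_notMem _ hmem)
    exact Ideal.mem_of_dvd _ (Finset.dvd_prod_of_mem _ (h𝒬.mem_toFinset.mpr hmem)) h3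
  exact (Ideal.IsPrime.ne_top inferInstance) ((Ideal.eq_top_iff_one q').mpr
    (by simpa using q'.add_mem h1 h2))

/-- A finite type algebra over a henselian local ring splits off a module-finite factor containing
all the points of the closed fibre at which the algebra is quasi-finite. -/
theorem exists_isIdempotentElem_finite_of_finiteType (R : Type u) [CommRing R]
    [HenselianLocalRing R] (S : Type*) [CommRing S] [Algebra R S] [Algebra.FiniteType R S] :
    ∃ e : S, IsIdempotentElem e ∧ Module.Finite R (S ⧸ Ideal.span ({1 - e} : Set S)) ∧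
      ∀ (q : Ideal (S ⧸ Ideal.span ({e} : Set S))) [q.IsPrime],
        q.LiesOver (IsLocalRing.maximalIdeal R) → ¬ Algebra.QuasiFiniteAt R q := by
  obtain ⟨e, he, hfg, hq⟩ := exists_isIdempotentElem_fg_of_finiteType R S
  refine ⟨e, he, ?_, hq⟩
  have hfin : Module.Finite R ((Ideal.span {e}).restrictScalars R) :=
    Module.Finite.iff_fg.mpr hfg
  let g : (Ideal.span {e}).restrictScalars R →ₗ[R] S ⧸ Ideal.span ({1 - e} : Set S) :=
    ((Ideal.Quotient.mkₐ R (Ideal.span ({1 - e} : Set S))).toLinearMap).comp
      (Submodule.subtype _)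
  refine Module.Finite.of_surjective g fun y ↦ ?_
  obtain ⟨y, rfl⟩ := Ideal.Quotient.mk_surjective y
  refine ⟨⟨e * y, Ideal.mul_mem_right _ _ (Ideal.mem_span_singleton_self _)⟩, ?_⟩
  change Ideal.Quotient.mk _ (e * y) = Ideal.Quotient.mk _ y
  rw [Ideal.Quotient.eq, Ideal.mem_span_singleton']
  exact ⟨-y, by ring⟩

end Groth.Agent.Helper1
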