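import Mathlib
import Groth.Agent.Lib.Helper1.HznTerm

/-!
# Henselization of a local ring via a term model: the ring
-/

set_option autoImplicit false

namespace Groth.Agent.Helper1.Hzn

universe u

open Polynomial IsLocalRing

variable (R : Type u) [CommRing R]

/-- index: local homomorphisms from `R` to henselian local rings in the same universe -/
structure Idx where
  T : Type u
  [cr : CommRing T]
  [hl : HenselianLocalRing T]
  f : R →+* T
  [hf : IsLocalHom f]

attribute [instance] Idx.cr Idx.hl Idx.hf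

/-- globally well-formed terms -/
def GWF (t : HTerm R) : Prop := ∀ i : Idx R, WF i.f t

/-- the big product -/
abbrev BigP : Type (u + 1) := ∀ i : Idx R, i.T

/-- evaluation in the big product -/
noncomputable def ev (t : HTerm R) : BigP R := fun i => eval i.f t

/-- the subring of values of globally well-formed terms -/
noncomputable def S' : Subring (BigP R) where
  carrier := {x | ∃ t, GWF R t ∧ ev R t = x}
  mul_mem' := by
    rintro _ _ ⟨s, hs, rfl⟩ ⟨t, ht, rfl⟩
    exact ⟨.mul s t, fun i => And.intro (hs i) (ht i), rfl⟩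
  one_mem' := ⟨.of 1, fun _ => trivial, funext fun i => map_one i.f⟩
  add_mem' := by
    rintro _ _ ⟨s, hs, rfl⟩ ⟨t, ht, rfl⟩
    exact ⟨.add s t, fun i => And.intro (hs i) (ht i), rfl⟩
  zero_mem' := ⟨.of 0, fun _ => trivial, funext fun i => map_zero i.f⟩
  neg_mem' := by
    rintro _ ⟨s, hs, rfl⟩
    exact ⟨.neg s, fun i => hs i, rfl⟩

instance : Small.{u} (S' R) := by
  refine small_of_surjective (α := {t : HTerm R // GWF R t})
    (f := fun t => ⟨ev R t.1, t.1, t.2, rfl⟩) ?_
  rintro ⟨x, t, ht, rfl⟩
  exact ⟨⟨t, ht⟩, rfl⟩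

/-- the henselization (term model) -/
def S : Type u := Shrink.{u} (S' R)

noncomputable instance : CommRing (S R) := inferInstanceAs (CommRing (Shrink.{u} (S' R)))

/-- the equivalence with the big subring -/
noncomputable def toS' : S R ≃+* S' R := Shrink.ringEquiv (S' R)

/-- the class of a term -/
noncomputable def mk (t : HTerm R) (ht : GWF R t) : S R :=
  (toS' R).symm ⟨ev R t, t, ht, rfl⟩

theorem exists_mk (x : S R) : ∃ t, ∃ ht : GWF R t, mk R t ht = x := by
  obtain ⟨t, ht, h⟩ := (toS' R x).2
  refine ⟨t, ht, ?_⟩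
  apply (toS' R).injective
  rw [mk, RingEquiv.apply_symm_apply]
  exact Subtype.ext h

/-- projection to a henselian local ring under `R` -/
noncomputable def proj (i : Idx R) : S R →+* i.T :=
  ((Pi.evalRingHom (fun i : Idx R => i.T) i).comp (S' R).subtype).comp (toS' R).toRingHom

theorem proj_mk (i : Idx R) (t : HTerm R) (ht : GWF R t) : proj R i (mk R t ht) = eval i.f t := by
  show ((toS' R) ((toS' R).symm ⟨ev R t, t, ht, rfl⟩)).1 i = _
  rw [RingEquiv.apply_symm_apply]
  rfl

theorem ext_proj {x y : S R} (h : ∀ i, proj R i x = proj R i y) : x = y := by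
  apply (toS' R).injective
  apply Subtype.ext
  funext i
  exact h i

/-- the structure map -/
noncomputable def ofHom : R →+* S R :=
  (toS' R).symm.toRingHom.comp ((RingHom.pi (fun i : Idx R => i.f)).codRestrict (S' R)
    (fun r => ⟨.of r, fun _ => trivial, rfl⟩))

theorem proj_ofHom (i : Idx R) (r : R) : proj R i (ofHom R r) = i.f r := by
  show ((toS' R) ((toS' R).symm _)).1 i = _
  rw [RingEquiv.apply_symm_apply]
  rfl

theorem ofHom_eq_mk (r : R) : ofHom R r = mk R (.of r) (fun _ => trivial) := by
  apply ext_proj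
  intro i
  rw [proj_ofHom, proj_mk]
  rfl

theorem GWF.add_left {s t : HTerm R} (h : GWF R (.add s t)) : GWF R s :=
  fun i => ((WF_add _).mp (h i)).1
theorem GWF.add_right {s t : HTerm R} (h : GWF R (.add s t)) : GWF R t :=
  fun i => ((WF_add _).mp (h i)).2
theorem GWF.mul_left {s t : HTerm R} (h : GWF R (.mul s t)) : GWF R s :=
  fun i => ((WF_mul _).mp (h i)).1
theorem GWF.mul_right {s t : HTerm R} (h : GWF R (.mul s t)) : GWF R t :=
  fun i => ((WF_mul _).mp (h i)).2
theorem GWF.of_neg {s : HTerm R} (h : GWF R (.neg s)) : GWF R s :=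
  fun i => (WF_neg _).mp (h i)
theorem GWF.of_inv {s : HTerm R} (h : GWF R (.inv s)) : GWF R s :=
  fun i => ((WF_inv _).mp (h i)).1
theorem GWF.root_coeff {n : ℕ} {c : Fin n → HTerm R} {a : HTerm R} (h : GWF R (.root n c a))
    (j : Fin n) : GWF R (c j) :=
  fun i => ((WF_root _).mp (h i)).1 j
theorem GWF.root_arg {n : ℕ} {c : Fin n → HTerm R} {a : HTerm R} (h : GWF R (.root n c a)) :
    GWF R a :=
  fun i => ((WF_root _).mp (h i)).2.1

theorem mk_add {s t : HTerm R} (h : GWF R (.add s t)) :
    mk R (.add s t) h = mk R s h.add_left + mk R t h.add_right := by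
  apply ext_proj; intro i
  rw [map_add, proj_mk, proj_mk, proj_mk]; rfl

theorem mk_mul {s t : HTerm R} (h : GWF R (.mul s t)) :
    mk R (.mul s t) h = mk R s h.mul_left * mk R t h.mul_right := by
  apply ext_proj; intro i
  rw [map_mul, proj_mk, proj_mk, proj_mk]; rfl

theorem mk_neg {s : HTerm R} (h : GWF R (.neg s)) :
    mk R (.neg s) h = - mk R s h.of_neg := by
  apply ext_proj; intro i
  rw [map_neg, proj_mk, proj_mk]; rfl

theorem mk_inv_mul {s : HTerm R} (h : GWF R (.inv s)) :
    mk R (.inv s) h * mk R s h.of_inv = 1 := by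
  apply ext_proj; intro i
  rw [map_mul, proj_mk, proj_mk, map_one, eval_inv]
  exact Ring.inverse_mul_cancel _ ((WF_inv _).mp (h i)).2

variable [IsLocalRing R]

/-- the index of the residue field -/
noncomputable def i₀ : Idx R where
  T := ResidueField R
  f := residue R

/-- the map to the residue field of `R` -/
noncomputable def ρ : S R →+* ResidueField R := proj R (i₀ R)

theorem ρ_mk (t : HTerm R) (ht : GWF R t) : ρ R (mk R t ht) = eval (residue R) t :=
  proj_mk R (i₀ R) t ht

theorem ρ_ofHom (r : R) : ρ R (ofHom R r) = residue R r := proj_ofHom R (i₀ R) r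

/-- residues of evaluations are determined by the evaluation in the residue field of `R` -/
theorem residue_eval (i : Idx R) (t : HTerm R) (ht : GWF R t) :
    residue i.T (eval i.f t) = ResidueField.map i.f (eval (residue R) t) := by
  have h1 := (eval_comp i.f (residue i.T) t (ht i)).2
  have h2 := (eval_comp (residue R) (ResidueField.map i.f) t (ht (i₀ R))).2
  rw [← h1, ← h2, ResidueField.map_comp_residue]

theorem isUnit_eval_of_ne_zero (t : HTerm R) (ht : GWF R t) (h0 : eval (residue R) t ≠ 0)
    (i : Idx R) : IsUnit (eval i.f t) := by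
  rw [← residue_ne_zero_iff_isUnit, residue_eval R i t ht]
  exact (_root_.map_ne_zero _).mpr h0

theorem isUnit_iff (x : S R) : IsUnit x ↔ ρ R x ≠ 0 := by
  constructor
  · intro hx
    exact (hx.map (ρ R)).ne_zero
  · intro hx
    obtain ⟨t, ht, rfl⟩ := exists_mk R x
    rw [ρ_mk] at hx
    have hinv : GWF R (.inv t) := fun i => And.intro (ht i) (isUnit_eval_of_ne_zero R t ht hx i)
    exact isUnit_iff_exists_inv'.mpr ⟨mk R (.inv t) hinv, mk_inv_mul R hinv⟩

instance : IsLocalHom (ρ R) := ⟨fun x hx => (isUnit_iff R x).mpr hx.ne_zero⟩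

instance : IsLocalRing (S R) := RingHom.domain_isLocalRing (ρ R)

theorem mem_maximalIdeal_iff (x : S R) : x ∈ maximalIdeal (S R) ↔ ρ R x = 0 := by
  rw [mem_maximalIdeal, mem_nonunits_iff, isUnit_iff, not_not]

noncomputable instance : Algebra R (S R) := (ofHom R).toAlgebra

theorem algebraMap_eq : algebraMap R (S R) = ofHom R := rfl

instance : IsLocalHom (algebraMap R (S R)) := by
  refine ⟨fun a ha => ?_⟩
  rw [algebraMap_eq, isUnit_iff, ρ_ofHom] at ha
  exact (residue_ne_zero_iff_isUnit a).mp ha

theorem proj_mem (i : Idx R) {x : S R} (hx : x ∈ maximalIdeal (S R)) :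
    proj R i x ∈ maximalIdeal i.T := by
  obtain ⟨t, ht, rfl⟩ := exists_mk R x
  rw [mem_maximalIdeal_iff, ρ_mk] at hx
  rw [proj_mk, ← residue_eq_zero_iff, residue_eval R i t ht, hx, map_zero]

section Root

variable (n : ℕ) (c : Fin n → HTerm R) (hc : ∀ j, GWF R (c j)) (a : HTerm R) (ha : GWF R a)

theorem map_proj_mpoly (i : Idx R) :
    (mpoly n (fun j => mk R (c j) (hc j))).map (proj R i) = mpoly n (fun j => eval i.f (c j)) := by
  rw [mpoly_map]
  congr 1
  funext j
  exact proj_mk R i _ _

theorem GWF_root (h1 : (mpoly n (fun j => mk R (c j) (hc j))).eval (mk R a ha) ∈ maximalIdeal (S R))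
    (h2 : IsUnit ((mpoly n (fun j => mk R (c j) (hc j))).derivative.eval (mk R a ha))) :
    GWF R (.root n c a) := by
  intro i
  refine (WF_root _).mpr ⟨fun j => hc j i, ha i, ?_, ?_⟩
  · have := proj_mem R i h1
    rwa [map_eval', map_proj_mpoly, proj_mk] at this
  · have := h2.map (proj R i)
    rwa [map_derivative_eval', map_proj_mpoly, proj_mk] at this

theorem root_spec (h : GWF R (.root n c a)) :
    (mpoly n (fun j => mk R (c j) (hc j))).IsRoot (mk R (.root n c a) h) ∧
      mk R (.root n c a) h - mk R a ha ∈ maximalIdeal (S R) := by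
  constructor
  · rw [IsRoot.def]
    apply ext_proj
    intro i
    obtain ⟨-, -, h1, h2⟩ := (WF_root _).mp (h i)
    rw [map_eval', map_proj_mpoly, proj_mk, map_zero, eval_root]
    exact (hroot_spec (mpoly_monic _ _) h1 h2).1.eq_zero
  · rw [mem_maximalIdeal_iff, map_sub, ρ_mk, ρ_mk, eval_root]
    obtain ⟨-, -, h1, h2⟩ := (WF_root _).mp (h (i₀ R))
    have this' : hroot (mpoly n fun i => eval (residue R) (c i)) (eval (residue R) a) -
        eval (residue R) a ∈ maximalIdeal (ResidueField R) :=
      (hroot_spec (mpoly_monic _ _) h1 h2).2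
    rw [maximalIdeal_eq_bot, Ideal.mem_bot] at this'
    exact this'

theorem root_conv (h : GWF R (.root n c a)) :
    (mpoly n (fun j => mk R (c j) (hc j))).eval (mk R a ha) ∈ maximalIdeal (S R) ∧
      IsUnit ((mpoly n (fun j => mk R (c j) (hc j))).derivative.eval (mk R a ha)) := by
  obtain ⟨-, -, h1, h2⟩ := (WF_root _).mp (h (i₀ R))
  constructor
  · rw [mem_maximalIdeal_iff]
    show proj R (i₀ R) _ = 0
    rw [map_eval', map_proj_mpoly, proj_mk]
    have h1' : Polynomial.eval (eval (residue R) a) (mpoly n fun i => eval (residue R) (c i)) ∈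
        maximalIdeal (ResidueField R) := h1
    rw [maximalIdeal_eq_bot, Ideal.mem_bot] at h1'
    exact h1'
  · rw [isUnit_iff]
    show proj R (i₀ R) _ ≠ 0
    rw [map_derivative_eval', map_proj_mpoly, proj_mk]
    exact h2.ne_zero

end Root

/-- the term model is henselian -/
theorem henselian : HenselianLocalRing (S R) := by
  refine { toIsLocalRing := inferInstance, is_henselian := ?_ }
  intro F hF a₀ h1 h2
  obtain ⟨n, c', rfl⟩ := exists_eq_mpoly hF
  have hc' : ∀ j, ∃ t, ∃ ht : GWF R t, mk R t ht = c' j := fun j => exists_mk R _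
  choose c hc hcm using hc'
  obtain rfl : (fun j => mk R (c j) (hc j)) = c' := funext hcm
  obtain ⟨a, ha, rfl⟩ := exists_mk R a₀
  have hr := GWF_root R n c hc a ha h1 h2
  exact ⟨mk R (.root n c a) hr, root_spec R n c hc a ha hr⟩

instance : HenselianLocalRing (S R) := henselian R

end Groth.Agent.Helper1.Hzn
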