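import Mathlib
import Groth.Prelude.Def_Hensel
import Groth.Agent.Lib.Helper1.HznModel

/-!
# Henselization of a local ring via a term model: universal property and first consequences
-/

set_option autoImplicit false

namespace Groth.Agent.Helper1.Hzn

universe u

open Polynomial IsLocalRing

section Generic

variable {R S₁ : Type*} [CommRing R] [IsLocalRing R] [CommRing S₁] [IsLocalRing S₁]
  [Algebra R S₁] [IsLocalHom (algebraMap R S₁)]

theorem map_maximalIdeal_eq_of_exists
    (H : ∀ x : S₁, ∃ r : R,
      x - algebraMap R S₁ r ∈ Ideal.map (algebraMap R S₁) (maximalIdeal R)) :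
    Ideal.map (algebraMap R S₁) (maximalIdeal R) = maximalIdeal S₁ := by
  have hle : Ideal.map (algebraMap R S₁) (maximalIdeal R) ≤ maximalIdeal S₁ :=
    map_maximalIdeal_le _
  apply le_antisymm hle
  intro x hx
  obtain ⟨r, hr⟩ := H x
  have h1 : x - algebraMap R S₁ r ∈ maximalIdeal S₁ := hle hr
  have h2 : algebraMap R S₁ r ∈ maximalIdeal S₁ := by
    have := Ideal.sub_mem _ hx h1
    simpa using this
  have h3 : r ∈ maximalIdeal R := by
    by_contra h
    have hu : IsUnit r := by
      rw [mem_maximalIdeal, mem_nonunits_iff, not_not] at h; exact h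
    exact (mem_maximalIdeal _).mp h2 (hu.map _)
  have := Ideal.add_mem _ hr (Ideal.mem_map_of_mem (algebraMap R S₁) h3)
  simpa using this

theorem residueField_map_bijective_of_exists
    (H : ∀ x : S₁, ∃ r : R,
      x - algebraMap R S₁ r ∈ Ideal.map (algebraMap R S₁) (maximalIdeal R)) :
    Function.Bijective (ResidueField.map (algebraMap R S₁)) := by
  have hle : Ideal.map (algebraMap R S₁) (maximalIdeal R) ≤ maximalIdeal S₁ :=
    map_maximalIdeal_le _
  refine ⟨(ResidueField.map (algebraMap R S₁)).injective, ?_⟩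
  intro y
  obtain ⟨x, rfl⟩ := residue_surjective y
  obtain ⟨r, hr⟩ := H x
  refine ⟨residue R r, ?_⟩
  rw [ResidueField.map_residue]
  have : residue S₁ (x - algebraMap R S₁ r) = 0 := (residue_eq_zero_iff _).mpr (hle hr)
  rw [map_sub, sub_eq_zero] at this
  exact this.symm

theorem range_sup_pow_smul_top
    (H : ∀ x : S₁, ∃ r : R,
      x - algebraMap R S₁ r ∈ Ideal.map (algebraMap R S₁) (maximalIdeal R)) (n : ℕ) :
    LinearMap.range (Algebra.linearMap R S₁) ⊔ (maximalIdeal R ^ n) • (⊤ : Submodule R S₁) = ⊤ := by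
  induction n with
  | zero => rw [pow_zero, Ideal.one_eq_top, Submodule.top_smul]; exact sup_top_eq _
  | succ n ih =>
    have h1 : LinearMap.range (Algebra.linearMap R S₁) ⊔
        (maximalIdeal R) • (⊤ : Submodule R S₁) = ⊤ := by
      rw [eq_top_iff]; intro x _
      obtain ⟨r, hr⟩ := H x
      have hr' : x - algebraMap R S₁ r ∈ maximalIdeal R • (⊤ : Submodule R S₁) := by
        rw [Ideal.smul_top_eq_map]; exact hr
      have : x = algebraMap R S₁ r + (x - algebraMap R S₁ r) := by ring
      rw [this]
      exact Submodule.add_mem_sup ⟨r, rfl⟩ hr'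
    rw [eq_top_iff]
    calc (⊤ : Submodule R S₁)
        = LinearMap.range (Algebra.linearMap R S₁) ⊔
            (maximalIdeal R ^ n) • (⊤ : Submodule R S₁) := ih.symm
      _ = LinearMap.range (Algebra.linearMap R S₁) ⊔ (maximalIdeal R ^ n) •
            (LinearMap.range (Algebra.linearMap R S₁) ⊔
              (maximalIdeal R) • (⊤ : Submodule R S₁)) := by rw [h1]
      _ = LinearMap.range (Algebra.linearMap R S₁) ⊔
            ((maximalIdeal R ^ n) • LinearMap.range (Algebra.linearMap R S₁) ⊔
              (maximalIdeal R ^ n) • ((maximalIdeal R) • (⊤ : Submodule R S₁))) := by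
          rw [Submodule.smul_sup]
      _ ≤ LinearMap.range (Algebra.linearMap R S₁) ⊔
            (maximalIdeal R ^ (n + 1)) • (⊤ : Submodule R S₁) := by
          refine sup_le le_sup_left (sup_le (le_sup_of_le_left Submodule.smul_le_right) ?_)
          rw [← Submodule.mul_smul, ← pow_succ]
          exact le_sup_right

end Generic

section Model

variable (R : Type u) [CommRing R] [IsLocalRing R]

/-- the extension of the maximal ideal of `R` -/
noncomputable def I : Ideal (S R) := Ideal.map (ofHom R) (maximalIdeal R)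

theorem I_le : I R ≤ maximalIdeal (S R) := map_maximalIdeal_le (algebraMap R (S R))

/-- quotient map modulo `I` -/
noncomputable def π : S R →+* S R ⧸ I R := Ideal.Quotient.mk (I R)

/-- `R` into the quotient modulo `I` -/
noncomputable def κ : R →+* S R ⧸ I R := (π R).comp (ofHom R)

/-- the residue map on the quotient -/
noncomputable def ρbar : S R ⧸ I R →+* ResidueField R :=
  Ideal.Quotient.lift (I R) (ρ R) (fun x hx => (mem_maximalIdeal_iff R x).mp (I_le R hx))

theorem ρbar_π (x : S R) : ρbar R (π R x) = ρ R x := Ideal.Quotient.lift_mk _ _ _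

theorem ρbar_κ (r : R) : ρbar R (κ R r) = residue R r := by
  show ρbar R (π R (ofHom R r)) = _
  rw [ρbar_π, ρ_ofHom]

theorem κ_eq_zero {r : R} (hr : r ∈ maximalIdeal R) : κ R r = 0 :=
  Ideal.Quotient.eq_zero_iff_mem.mpr (Ideal.mem_map_of_mem _ hr)

theorem π_eq_zero_iff (x : S R) : π R x = 0 ↔ x ∈ I R := Ideal.Quotient.eq_zero_iff_mem

/-- every element of the term model is congruent to an element of `R` modulo `𝔪_R S` -/
theorem π_mk_mem_range (t : HTerm R) : ∀ ht : GWF R t, π R (mk R t ht) ∈ (κ R).range := by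
  induction t with
  | of r =>
    intro ht
    refine ⟨r, ?_⟩
    show π R (ofHom R r) = _
    rw [ofHom_eq_mk]
  | add s t ihs iht =>
    intro ht
    rw [mk_add, map_add]
    exact Subring.add_mem _ (ihs _) (iht _)
  | mul s t ihs iht =>
    intro ht
    rw [mk_mul, map_mul]
    exact Subring.mul_mem _ (ihs _) (iht _)
  | neg s ih =>
    intro ht
    rw [mk_neg, map_neg]
    exact Subring.neg_mem _ (ih _)
  | inv s ih =>
    intro ht
    obtain ⟨r, hr⟩ := ih ht.of_inv
    have e1 := mk_inv_mul R ht
    have e2 : π R (mk R (.inv s) ht) * κ R r = 1 := by rw [hr, ← map_mul, e1, map_one]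
    have hru : IsUnit r := by
      rw [← residue_ne_zero_iff_isUnit, ← ρbar_κ, hr, ρbar_π]
      have : IsUnit (mk R s ht.of_inv) := isUnit_iff_exists_inv'.mpr ⟨_, e1⟩
      exact (isUnit_iff R _).mp this
    obtain ⟨u, rfl⟩ := hru
    refine ⟨↑u⁻¹, ?_⟩
    calc κ R ↑u⁻¹ = κ R ↑u⁻¹ * (π R (mk R (.inv s) ht) * κ R ↑u) := by rw [e2, mul_one]
      _ = π R (mk R (.inv s) ht) * (κ R ↑u⁻¹ * κ R ↑u) := by ring
      _ = π R (mk R (.inv s) ht) := by rw [← map_mul, Units.inv_mul, map_one, mul_one]
  | root n c a ihc iha =>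
    intro ht
    have hc : ∀ j, GWF R (c j) := ht.root_coeff
    have ha : GWF R a := ht.root_arg
    obtain ⟨hF1, hF2⟩ := root_conv R n c hc a ha ht
    obtain ⟨hx1, hx2⟩ := root_spec R n c hc a ha ht
    choose r hr using fun j => RingHom.mem_range.mp (ihc j (hc j))
    obtain ⟨ra, hra⟩ := iha ha
    have hmapF : (mpoly n (fun j => mk R (c j) (hc j))).map (π R) = (mpoly n r).map (κ R) := by
      rw [mpoly_map, mpoly_map]; congr 1; funext j; exact (hr j).symm
    have e1 : π R ((mpoly n (fun j => mk R (c j) (hc j))).eval (mk R a ha)) =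
        κ R ((mpoly n r).eval ra) := by
      rw [map_eval', hmapF, ← hra, ← map_eval']
    have e2 : (mpoly n r).eval ra ∈ maximalIdeal R := by
      rw [← residue_eq_zero_iff, ← ρbar_κ, ← e1, ρbar_π]
      exact (mem_maximalIdeal_iff R _).mp hF1
    have e3 : (mpoly n (fun j => mk R (c j) (hc j))).eval (mk R a ha) ∈ I R := by
      rw [← π_eq_zero_iff, e1]; exact κ_eq_zero R e2
    have e5 : mk R (.root n c a) ht - mk R a ha ∈ I R :=
      sub_mem_of_isRoot _ hx1 e3 hF2 (by rw [jacobson_bot_eq]; exact hx2)
    refine ⟨ra, ?_⟩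
    rw [hra]; symm
    rw [← sub_eq_zero, ← map_sub]
    exact (π_eq_zero_iff R _).mpr e5

theorem exists_sub_mem (x : S R) : ∃ r : R, x - ofHom R r ∈ I R := by
  obtain ⟨t, ht, rfl⟩ := exists_mk R x
  obtain ⟨r, hr⟩ := π_mk_mem_range R t ht
  refine ⟨r, ?_⟩
  rw [← π_eq_zero_iff, map_sub, ← hr, sub_eq_zero]; rfl

/-- the maximal ideal of the term model is generated by the maximal ideal of `R` -/
theorem map_maximalIdeal_eq :
    Ideal.map (algebraMap R (S R)) (maximalIdeal R) = maximalIdeal (S R) :=
  map_maximalIdeal_eq_of_exists (exists_sub_mem R)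

/-- the universal property of the term model -/
theorem universal (T : Type u) [CommRing T] [HenselianLocalRing T] (f : R →+* T)
    (hf : IsLocalHom f) : ∃! g : S R →+* T, g.comp (algebraMap R (S R)) = f := by
  let i : Idx R := { T := T, f := f }
  refine ⟨proj R i, ?_, ?_⟩
  · ext r; exact proj_ofHom R i r
  · intro g hg
    have hg' : ∀ r, g (ofHom R r) = f r := fun r => RingHom.congr_fun hg r
    have hloc : ∀ x ∈ maximalIdeal (S R), g x ∈ maximalIdeal T := by
      intro x hx
      rw [← map_maximalIdeal_eq R] at hx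
      have h1 : Ideal.map g (Ideal.map (algebraMap R (S R)) (maximalIdeal R)) ≤
          maximalIdeal T := by
        rw [Ideal.map_map, hg]; exact map_maximalIdeal_le f
      exact h1 (Ideal.mem_map_of_mem g hx)
    have key : ∀ t (ht : GWF R t), g (mk R t ht) = eval f t := by
      intro t
      induction t with
      | of r => intro ht; rw [← ofHom_eq_mk]; exact hg' r
      | add s t ihs iht => intro ht; rw [mk_add, map_add, ihs, iht]; rfl
      | mul s t ihs iht => intro ht; rw [mk_mul, map_mul, ihs, iht]; rfl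
      | neg s ih => intro ht; rw [mk_neg, map_neg, ih]; rfl
      | inv s ih =>
        intro ht
        have e1 := mk_inv_mul R ht
        have e2 : g (mk R (.inv s) ht) * eval f s = 1 := by
          rw [← ih ht.of_inv, ← map_mul, e1, map_one]
        rw [eval_inv]
        have hu : IsUnit (eval f s) := isUnit_iff_exists_inv'.mpr ⟨_, e2⟩
        calc g (mk R (.inv s) ht)
            = g (mk R (.inv s) ht) * (eval f s * Ring.inverse (eval f s)) := by
              rw [Ring.mul_inverse_cancel _ hu, mul_one]
          _ = Ring.inverse (eval f s) := by rw [← mul_assoc, e2, one_mul]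
      | root n c a ihc iha =>
        intro ht
        have hc : ∀ j, GWF R (c j) := ht.root_coeff
        have ha : GWF R a := ht.root_arg
        obtain ⟨hx1, hx2⟩ := root_spec R n c hc a ha ht
        obtain ⟨-, -, -, h2⟩ := (WF_root _).mp (ht i)
        have hmapF : (mpoly n (fun j => mk R (c j) (hc j))).map g =
            mpoly n (fun j => eval f (c j)) := by
          rw [mpoly_map]; congr 1; funext j; exact ihc j (hc j)
        rw [eval_root]
        symm
        refine hroot_unique h2 ?_ ?_
        · rw [IsRoot.def, ← hmapF, ← map_eval', hx1.eq_zero, map_zero]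
        · rw [← iha ha, ← map_sub]; exact hloc _ hx2
    ext x
    obtain ⟨t, ht, rfl⟩ := exists_mk R x
    rw [key, proj_mk]

/-- the term model is a henselization -/
theorem isHenselization : Hensel.IsHenselization R (S R) := ⟨henselian R, universal R⟩

/-- quotients of a local ring by powers of the maximal ideal are henselian local -/
theorem henselianLocalRing_quotient_pow (n : ℕ) (hn : n ≠ 0) :
    HenselianLocalRing (R ⧸ maximalIdeal R ^ n) ∧
      IsLocalHom (Ideal.Quotient.mk (maximalIdeal R ^ n)) := by
  have hle : maximalIdeal R ^ n ≤ maximalIdeal R := Ideal.pow_le_self hn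
  have hloc : IsLocalHom (Ideal.Quotient.mk (maximalIdeal R ^ n)) :=
    isLocalHom_of_le_jacobson_bot _ (by rw [jacobson_bot_eq]; exact hle)
  have hnt : Nontrivial (R ⧸ maximalIdeal R ^ n) :=
    Ideal.Quotient.nontrivial_iff.mpr
      (fun h => (maximalIdeal.isMaximal R).ne_top (top_le_iff.mp (h ▸ hle)))
  have hlr : IsLocalRing (R ⧸ maximalIdeal R ^ n) :=
    IsLocalRing.of_surjective' (Ideal.Quotient.mk _) Ideal.Quotient.mk_surjective
  have hnil : ∀ x ∈ maximalIdeal (R ⧸ maximalIdeal R ^ n), IsNilpotent x := by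
    intro x hx
    obtain ⟨y, rfl⟩ := Ideal.Quotient.mk_surjective x
    have hy : y ∈ maximalIdeal R := by
      by_contra h
      have hu : IsUnit y := by
        rw [mem_maximalIdeal, mem_nonunits_iff, not_not] at h; exact h
      exact (mem_maximalIdeal _).mp hx (hu.map _)
    refine ⟨n, ?_⟩
    rw [← map_pow, Ideal.Quotient.eq_zero_iff_mem]
    exact Ideal.pow_mem_pow hy n
  have hH : HenselianRing _ (maximalIdeal (R ⧸ maximalIdeal R ^ n)) :=
    henselianRing_of_nil _ hnil
  refine ⟨{ toIsLocalRing := hlr, is_henselian := ?_ }, hloc⟩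
  intro f hf a₀ h1 h2
  exact exists_root_of_henselianRing f hf a₀ h1 h2

end Model

section Arbitrary

variable (R : Type u) [CommRing R] [IsLocalRing R]
  (S₁ : Type u) [CommRing S₁] [IsLocalRing S₁] [Algebra R S₁] [IsLocalHom (algebraMap R S₁)]
  [Hensel.IsHenselization R S₁]

/-- every element of a henselization is congruent to an element of `R` modulo `𝔪_R S₁` -/
theorem exists_sub_mem_of_isHenselization (x : S₁) : ∃ r : R,
    x - algebraMap R S₁ r ∈ Ideal.map (algebraMap R S₁) (maximalIdeal R) := by
  have hS₁ : HenselianLocalRing S₁ := Hensel.IsHenselization.henselian (R := R)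
  obtain ⟨g, hg, -⟩ := universal R S₁ (algebraMap R S₁) inferInstance
  obtain ⟨h, hh, -⟩ := Hensel.IsHenselization.universal (R := R) (S := S₁) (S R)
    (algebraMap R (S R)) inferInstance
  have hgh : g.comp h = RingHom.id S₁ := by
    obtain ⟨k, -, hk⟩ := Hensel.IsHenselization.universal (R := R) (S := S₁) S₁
      (algebraMap R S₁) inferInstance
    have e1 : (g.comp h).comp (algebraMap R S₁) = algebraMap R S₁ := by
      rw [RingHom.comp_assoc, hh, hg]
    have e2 : (RingHom.id S₁).comp (algebraMap R S₁) = algebraMap R S₁ := RingHom.id_comp _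
    rw [hk (g.comp h) e1, hk (RingHom.id S₁) e2]
  obtain ⟨r, hr⟩ := exists_sub_mem R (h x)
  refine ⟨r, ?_⟩
  have h1 := Ideal.mem_map_of_mem g hr
  have h2 : Ideal.map g (I R) = Ideal.map (algebraMap R S₁) (maximalIdeal R) := by
    show Ideal.map g (Ideal.map (algebraMap R (S R)) _) = _
    rw [Ideal.map_map, hg]
  rw [h2, map_sub] at h1
  have h3 : g (h x) = x := RingHom.congr_fun hgh x
  have h4 : g (ofHom R r) = algebraMap R S₁ r := RingHom.congr_fun hg r
  rwa [h3, h4] at h1

theorem map_maximalIdeal_eq_of_isHenselization :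
    Ideal.map (algebraMap R S₁) (maximalIdeal R) = maximalIdeal S₁ :=
  map_maximalIdeal_eq_of_exists (exists_sub_mem_of_isHenselization R S₁)

theorem residueField_map_bijective_of_isHenselization :
    Function.Bijective (ResidueField.map (algebraMap R S₁)) :=
  residueField_map_bijective_of_exists (exists_sub_mem_of_isHenselization R S₁)

theorem quotientMap_pow_bijective (n : ℕ) :
    Function.Bijective (Ideal.quotientMap
      (Ideal.map (algebraMap R S₁) (maximalIdeal R ^ n)) (algebraMap R S₁)
      Ideal.le_comap_map) := by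
  constructor
  · apply Ideal.quotientMap_injective'
    rcases Nat.eq_zero_or_pos n with rfl | hn
    · rw [pow_zero, Ideal.one_eq_top]; exact le_top
    · intro r hr
      rw [Ideal.mem_comap] at hr
      obtain ⟨hT, hloc⟩ := henselianLocalRing_quotient_pow R n hn.ne'
      obtain ⟨g, hg, -⟩ := Hensel.IsHenselization.universal (R := R) (S := S₁)
        (R ⧸ maximalIdeal R ^ n) (Ideal.Quotient.mk _) hloc
      have h1 := Ideal.mem_map_of_mem g hr
      rw [Ideal.map_map, hg, Ideal.map_quotient_self, Ideal.mem_bot] at h1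
      have h2 : g (algebraMap R S₁ r) = Ideal.Quotient.mk _ r := RingHom.congr_fun hg r
      rw [h2, Ideal.Quotient.eq_zero_iff_mem] at h1
      exact h1
  · intro y
    obtain ⟨x, rfl⟩ := Ideal.Quotient.mk_surjective y
    have hx : x ∈ (⊤ : Submodule R S₁) := trivial
    rw [← range_sup_pow_smul_top (exists_sub_mem_of_isHenselization R S₁) n,
      Submodule.mem_sup] at hx
    obtain ⟨_, ⟨r, rfl⟩, z, hz, rfl⟩ := hx
    refine ⟨Ideal.Quotient.mk _ r, ?_⟩
    rw [Ideal.quotientMap_mk, Ideal.Quotient.eq]
    rw [Ideal.smul_top_eq_map] at hz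
    have : algebraMap R S₁ r - (Algebra.linearMap R S₁ r + z) = -z := by simp
    rw [this]
    exact (Ideal.neg_mem_iff _).mpr hz

end Arbitrary

end Groth.Agent.Helper1.Hzn
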