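import Groth.Agent.Lib.Helper1.TP2
import Groth.Agent.Lib.Helper1.HenselQF
import Groth.Agent.Lib.Helper1.HznUniv

/-!
# Quasi-finite algebras: finiteness of the map of (strict) henselizations
-/

set_option autoImplicit false

namespace Groth.Agent.Helper1.TP

open IsLocalRing TensorProduct Groth.Agent.Helper1

universe u

/-- a map out of a local ring whose maximal ideal is generated from below,
compatible with a local map, is local -/
theorem isLocalHom_of_comp_eq' (R₀ R₁ S₀ S₁ : Type u) [CommRing R₀] [IsLocalRing R₀]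
    [CommRing R₁] [IsLocalRing R₁] [Algebra R₀ R₁]
    [CommRing S₀] [IsLocalRing S₀] [CommRing S₁] [IsLocalRing S₁] [Algebra S₀ S₁]
    [IsLocalHom (algebraMap S₀ S₁)]
    (hmax : Ideal.map (algebraMap R₀ R₁) (maximalIdeal R₀) = maximalIdeal R₁)
    (u : R₀ →+* S₀) [IsLocalHom u] (v : R₁ →+* S₁)
    (huv : v.comp (algebraMap R₀ R₁) = (algebraMap S₀ S₁).comp u) : IsLocalHom v := by
  apply ((IsLocalRing.local_hom_TFAE v).out 2 0).mp
  rw [← hmax, Ideal.map_map, huv, Ideal.map_le_iff_le_comap]
  intro x hx
  exact map_nonunit (algebraMap S₀ S₁) _ (map_nonunit u x hx)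

section LemmaA

variable (R : Type u) [CommRing R] [HenselianLocalRing R] (T : Type u) [CommRing T] [Algebra R T]
  (Q : Ideal T) [Q.IsPrime] [hQR : Q.LiesOver (maximalIdeal R)] (e : T)
  (he : IsIdempotentElem e) (heQ : e ∉ Q)
  [hfin : Module.Finite R (T ⧸ Ideal.span ({1 - e} : Set T))]

include he heQ hfin hQR

theorem exists_mul_sub_one_eq_zero (s : T) (hs : s ∉ Q) :
    ∃ w t : T, t ∉ Q ∧ t * (s * w - 1) = 0 := by
  classical
  let π : T →+* T ⧸ Ideal.span ({1 - e} : Set T) := Ideal.Quotient.mk _
  have hπ : Function.Surjective π := Ideal.Quotient.mk_surjective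
  have he0 : e * (1 - e) = 0 := by rw [mul_sub, mul_one, he.eq, sub_self]
  have h1e : 1 - e ∈ Q := by
    have h : e * (1 - e) ∈ Q := by rw [he0]; exact Q.zero_mem
    exact (Ideal.IsPrime.mem_or_mem inferInstance h).resolve_left heQ
  have hker : RingHom.ker π ≤ Q := by
    rw [Ideal.mk_ker]; exact (Ideal.span_singleton_le_iff_mem Q).mpr h1e
  haveI hQ'p : (Q.map π).IsPrime := Ideal.map_isPrime_of_surjective hπ hker
  have hcomap : (Q.map π).comap π = Q := by
    rw [Ideal.comap_map_of_surjective π hπ Q]
    exact sup_eq_left.mpr hker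
  haveI hQ'm : (Q.map π).IsMaximal := by
    apply Ideal.isMaximal_of_isIntegral_of_isMaximal_comap (R := R)
    have h : (Q.map π).comap (algebraMap R (T ⧸ Ideal.span ({1 - e} : Set T))) =
        maximalIdeal R := by
      rw [show algebraMap R (T ⧸ Ideal.span ({1 - e} : Set T)) = π.comp (algebraMap R T) from rfl,
        ← Ideal.comap_comap, hcomap]
      exact (Q.over_def (maximalIdeal R)).symm
    rw [h]; exact IsLocalRing.maximalIdeal.isMaximal R
  obtain ⟨e', he', he'Q, he'N⟩ := exists_isIdempotentElem_notMem_forall_mem (R := R) (Q.map π)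
  have hsQ' : π s ∉ Q.map π := fun h => hs (by rw [← hcomap]; exact h)
  have htop : Ideal.span ({π s, 1 - e'} : Set (T ⧸ Ideal.span ({1 - e} : Set T))) = ⊤ := by
    by_contra hne
    obtain ⟨N, hN, hle⟩ := Ideal.exists_le_maximal _ hne
    have h1 : π s ∈ N := hle (Ideal.subset_span (by simp))
    have h2 : 1 - e' ∈ N := hle (Ideal.subset_span (by simp))
    by_cases hNQ : N = Q.map π
    · exact hsQ' (hNQ ▸ h1)
    · have h3 : e' ∈ N := he'N N hN hNQ
      apply hN.ne_top
      rw [Ideal.eq_top_iff_one]
      have h4 : (1 : T ⧸ Ideal.span ({1 - e} : Set T)) = e' + (1 - e') := by ring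
      rw [h4]; exact N.add_mem h3 h2
  have h1mem : (1 : T ⧸ Ideal.span ({1 - e} : Set T)) ∈
      Ideal.span ({π s, 1 - e'} : Set (T ⧸ Ideal.span ({1 - e} : Set T))) := by
    rw [htop]; trivial
  obtain ⟨w', z', hwz⟩ := Ideal.mem_span_pair.mp h1mem
  have he'0 : e' * (1 - e') = 0 := by rw [mul_sub, mul_one, he'.eq, sub_self]
  have hkey : e' * (π s * w' - 1) = 0 := by
    have h5 : π s * w' - 1 = - (z' * (1 - e')) := by linear_combination hwz
    rw [h5]
    calc e' * -(z' * (1 - e')) = -(z' * (e' * (1 - e'))) := by ring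
    _ = 0 := by rw [he'0, mul_zero, neg_zero]
  obtain ⟨w, rfl⟩ := hπ w'
  obtain ⟨ε, rfl⟩ := hπ e'
  have hmem : ε * (s * w - 1) ∈ Ideal.span ({1 - e} : Set T) := by
    rw [← Ideal.Quotient.eq_zero_iff_mem]
    show π (ε * (s * w - 1)) = 0
    rw [map_mul, map_sub, map_mul, map_one]; exact hkey
  obtain ⟨c, hc⟩ := Ideal.mem_span_singleton'.mp hmem
  refine ⟨w, e * ε, ?_, ?_⟩
  · intro h
    rcases Ideal.IsPrime.mem_or_mem inferInstance h with h | h
    · exact heQ h
    · exact he'Q (Ideal.mem_map_of_mem π h)
  · calc e * ε * (s * w - 1) = e * (ε * (s * w - 1)) := by ring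
    _ = e * (c * (1 - e)) := by rw [hc]
    _ = c * (e * (1 - e)) := by ring
    _ = 0 := by rw [he0, mul_zero]

theorem algebraMap_localization_surjective :
    Function.Surjective (algebraMap T (Localization.AtPrime Q)) := by
  intro z
  obtain ⟨x, ⟨s, hs⟩, rfl⟩ := IsLocalization.exists_mk'_eq Q.primeCompl z
  obtain ⟨w, t, ht, htw⟩ := exists_mul_sub_one_eq_zero R T Q e he heQ s hs
  have hu : IsUnit (algebraMap T (Localization.AtPrime Q) t) :=
    IsLocalization.map_units _ (⟨t, ht⟩ : Q.primeCompl)
  have h1 : algebraMap T (Localization.AtPrime Q) s * algebraMap T (Localization.AtPrime Q) w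
      = 1 := by
    have h2 : algebraMap T (Localization.AtPrime Q) t *
        (algebraMap T (Localization.AtPrime Q) s * algebraMap T (Localization.AtPrime Q) w - 1)
        = 0 := by
      rw [← map_mul, ← map_one (algebraMap T (Localization.AtPrime Q)), ← map_sub, ← map_mul,
        htw, map_zero]
    exact sub_eq_zero.mp ((hu.mul_right_eq_zero).mp h2)
  refine ⟨x * w, ?_⟩
  have h4 := IsLocalization.mk'_spec (Localization.AtPrime Q) x (⟨s, hs⟩ : Q.primeCompl)
  calc algebraMap T (Localization.AtPrime Q) (x * w)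
      = algebraMap T (Localization.AtPrime Q) x * algebraMap T (Localization.AtPrime Q) w :=
        map_mul _ _ _
    _ = IsLocalization.mk' (Localization.AtPrime Q) x (⟨s, hs⟩ : Q.primeCompl) *
        (algebraMap T (Localization.AtPrime Q) s * algebraMap T (Localization.AtPrime Q) w) := by
        rw [← h4, mul_assoc]
    _ = IsLocalization.mk' (Localization.AtPrime Q) x (⟨s, hs⟩ : Q.primeCompl) := by
        rw [h1, mul_one]

theorem finite_localization_of_idempotent : Module.Finite R (Localization.AtPrime Q) := by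
  have he0 : e * (1 - e) = 0 := by rw [mul_sub, mul_one, he.eq, sub_self]
  have hu : IsUnit (algebraMap T (Localization.AtPrime Q) e) :=
    IsLocalization.map_units _ (⟨e, heQ⟩ : Q.primeCompl)
  have h0 : algebraMap T (Localization.AtPrime Q) (1 - e) = 0 := by
    have h : algebraMap T (Localization.AtPrime Q) e *
        algebraMap T (Localization.AtPrime Q) (1 - e) = 0 := by
      rw [← map_mul, he0, map_zero]
    exact (hu.mul_right_eq_zero).mp h
  let F : T ⧸ Ideal.span ({1 - e} : Set T) →ₐ[R] Localization.AtPrime Q :=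
    Ideal.Quotient.liftₐ (Ideal.span ({1 - e} : Set T))
      (IsScalarTower.toAlgHom R T (Localization.AtPrime Q)) (fun a ha => by
        obtain ⟨c, rfl⟩ := Ideal.mem_span_singleton'.mp ha
        show algebraMap T (Localization.AtPrime Q) (c * (1 - e)) = 0
        rw [map_mul, h0, mul_zero])
  refine Module.Finite.of_surjective F.toLinearMap (fun z => ?_)
  obtain ⟨y, rfl⟩ := algebraMap_localization_surjective R T Q e he heQ z
  exact ⟨Ideal.Quotient.mk _ y, rfl⟩

end LemmaA

/-- over a henselian local ring, the local ring of a finite type algebra at a quasi-finite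
point of the closed fibre is finite -/
theorem finite_localization_of_quasiFiniteAt (R : Type u) [CommRing R] [HenselianLocalRing R]
    (T : Type u) [CommRing T] [Algebra R T] [Algebra.FiniteType R T] (Q : Ideal T) [Q.IsPrime]
    [Q.LiesOver (maximalIdeal R)] [Algebra.QuasiFiniteAt R Q] :
    Module.Finite R (Localization.AtPrime Q) := by
  obtain ⟨e, he, heQ, hfg⟩ := exists_isIdempotentElem_fg_of_quasiFiniteAt (R := R) Q
  haveI : Module.Finite R (T ⧸ Ideal.span ({1 - e} : Set T)) := by
    have hfin : Module.Finite R ((Ideal.span {e}).restrictScalars R) :=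
      Module.Finite.iff_fg.mpr hfg
    let g : (Ideal.span {e}).restrictScalars R →ₗ[R] T ⧸ Ideal.span ({1 - e} : Set T) :=
      ((Ideal.Quotient.mkₐ R (Ideal.span ({1 - e} : Set T))).toLinearMap).comp
        (Submodule.subtype _)
    refine Module.Finite.of_surjective g fun y ↦ ?_
    obtain ⟨y, rfl⟩ := Ideal.Quotient.mk_surjective y
    refine ⟨⟨e * y, Ideal.mul_mem_right _ _ (Ideal.mem_span_singleton_self _)⟩, ?_⟩
    change Ideal.Quotient.mk _ (e * y) = Ideal.Quotient.mk _ y
    rw [Ideal.Quotient.eq, Ideal.mem_span_singleton']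
    exact ⟨-y, by ring⟩
  exact finite_localization_of_idempotent R T Q e he heQ

/-- over a henselian local ring, the local ring of a finite algebra at a
point of the closed fibre is finite -/
theorem finite_localization_of_finite (R : Type u) [CommRing R] [HenselianLocalRing R]
    (T : Type u) [CommRing T] [Algebra R T] [Module.Finite R T] (Q : Ideal T) [Q.IsPrime]
    [Q.LiesOver (maximalIdeal R)] :
    Module.Finite R (Localization.AtPrime Q) := by
  haveI : Module.Finite R (T ⧸ Ideal.span ({1 - 1} : Set T)) :=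
    Module.Finite.of_surjective (Ideal.Quotient.mkₐ R _).toLinearMap
      (Ideal.Quotient.mkₐ_surjective R _)
  exact finite_localization_of_idempotent R T Q 1 IsIdempotentElem.one
    (fun h => (inferInstance : Q.IsPrime).ne_top ((Ideal.eq_top_iff_one Q).mpr h))

section Self

variable (L : Type u) [CommRing L] [IsLocalRing L]

/-- a henselian local ring is its own henselization -/
theorem isHenselization_self [HenselianLocalRing L] : Hensel.IsHenselization L L := by
  refine ⟨inferInstance, ?_⟩
  intro T' _ _ f _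
  refine ⟨f, RingHom.ext (fun x => rfl), fun g hg => ?_⟩
  have hg' : g.comp (algebraMap L L) = f := hg
  rw [← hg']
  exact RingHom.ext (fun x => rfl)

/-- a strictly henselian local ring is its own strict henselization -/
theorem isStrictHenselization_self [HenselianLocalRing L] [IsSepClosed (ResidueField L)] :
    Hensel.IsStrictHenselization L L := by
  have hsep : @Algebra.IsSeparable (ResidueField L) (ResidueField L) _ _
      ResidueField.instAlgebra := by
    letI : Algebra (ResidueField L) (ResidueField L) := ResidueField.instAlgebra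
    refine ⟨fun y => ?_⟩
    obtain ⟨l, rfl⟩ := residue_surjective y
    have h' : algebraMap (ResidueField L) (ResidueField L) (residue L l) = residue L l := by
      show ResidueField.map (algebraMap L L) (residue L l) = _
      rw [ResidueField.map_residue]
      rfl
    have h := isSeparable_algebraMap (F := ResidueField L) (K := ResidueField L) (residue L l)
    rw [h'] at h
    exact h
  refine ⟨inferInstance, @IsSepClosure.mk (ResidueField L) _ (ResidueField L) _
    ResidueField.instAlgebra inferInstance hsep, ?_⟩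
  intro T' _ _ f _ τ hτ
  refine ⟨f, ⟨RingHom.ext (fun x => rfl), fun x => ?_⟩, fun g hg => ?_⟩
  · have h := RingHom.congr_fun hτ (residue L x)
    rw [RingHom.comp_apply, ResidueField.map_residue, ResidueField.map_residue] at h
    exact h.symm
  · have hg' : g.comp (algebraMap L L) = f := hg.1
    rw [← hg']
    exact RingHom.ext (fun x => rfl)

end Self

section Plumbing

variable (R S : Type u) [CommRing R] [CommRing S] [Algebra R S] (p : Ideal R) [p.IsPrime]
  (q : Ideal S) [q.IsPrime] [q.LiesOver p]
  (Rh : Type u) [CommRing Rh] [IsLocalRing Rh] [Algebra (Localization.AtPrime p) Rh]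
  [Algebra R Rh] [IsScalarTower R (Localization.AtPrime p) Rh]
  (Sh : Type u) [CommRing Sh] [IsLocalRing Sh] [Algebra (Localization.AtPrime q) Sh]
  [IsLocalHom (algebraMap (Localization.AtPrime q) Sh)] [Algebra S Sh]
  [IsScalarTower S (Localization.AtPrime q) Sh] [Algebra R Sh] [IsScalarTower R S Sh]
  [Algebra Rh Sh] [IsScalarTower R Rh Sh]
  (Q : Ideal (Rh ⊗[R] S)) [Q.IsPrime]
  (hQ : Q = Ideal.comap (phi R S Rh Sh) (maximalIdeal Sh))

include hQ

theorem liesOver_Q [IsLocalHom (algebraMap Rh Sh)] : Q.LiesOver (maximalIdeal Rh) := by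
  refine ⟨?_⟩
  ext x
  rw [Ideal.under_def, Ideal.mem_comap, hQ, Ideal.mem_comap, phi_algebraMap]
  have h4 := ((IsLocalRing.local_hom_TFAE (algebraMap Rh Sh)).out 0 4).mp
    (inferInstance : IsLocalHom (algebraMap Rh Sh))
  rw [← h4, Ideal.mem_comap]

theorem finite_L [HenselianLocalRing Rh] [IsLocalHom (algebraMap Rh Sh)]
    [Algebra.FiniteType R S] [Algebra.QuasiFiniteAt R q] :
    Module.Finite Rh (Localization.AtPrime Q) := by
  haveI := liesOver_Q R S Rh Sh Q hQ
  haveI : Algebra.QuasiFiniteAt Rh Q :=
    Algebra.QuasiFiniteAt.baseChange q Q (under_eq R S q Rh Sh Q hQ)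
  exact finite_localization_of_quasiFiniteAt Rh (Rh ⊗[R] S) Q

theorem isLocalHom_algebraMap_L [IsLocalHom (algebraMap Rh Sh)] :
    IsLocalHom (algebraMap Rh (Localization.AtPrime Q)) := by
  have h : (cMap R S Rh Sh Q hQ).comp (algebraMap Rh (Localization.AtPrime Q)) =
      algebraMap Rh Sh := by
    rw [IsScalarTower.algebraMap_eq Rh (Rh ⊗[R] S) (Localization.AtPrime Q)]
    exact hca R S Rh Sh Q hQ
  haveI : IsLocalHom ((cMap R S Rh Sh Q hQ).comp (algebraMap Rh (Localization.AtPrime Q))) := by
    rw [h]; infer_instance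
  exact isLocalHom_of_comp (algebraMap Rh (Localization.AtPrime Q)) (cMap R S Rh Sh Q hQ)

omit hQ in
theorem finite_of_equiv [Module.Finite Rh (Localization.AtPrime Q)]
    (e : Localization.AtPrime Q ≃+* Sh)
    (he : ∀ d : Rh ⊗[R] S, e (algebraMap (Rh ⊗[R] S) (Localization.AtPrime Q) d) =
      phi R S Rh Sh d) : Module.Finite Rh Sh := by
  have h1 : (algebraMap Rh (Localization.AtPrime Q)).Finite :=
    RingHom.finite_algebraMap.mpr inferInstance
  have h2 : (e : Localization.AtPrime Q →+* Sh).Finite :=
    RingHom.Finite.of_surjective _ e.surjective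
  have h3 := h2.comp h1
  have h4 : (e : Localization.AtPrime Q →+* Sh).comp (algebraMap Rh (Localization.AtPrime Q)) =
      algebraMap Rh Sh := by
    refine RingHom.ext (fun x => ?_)
    show e (algebraMap Rh (Localization.AtPrime Q) x) = _
    rw [IsScalarTower.algebraMap_apply Rh (Rh ⊗[R] S) (Localization.AtPrime Q), he,
      phi_algebraMap]
  rw [h4] at h3
  exact RingHom.finite_algebraMap.mp h3

end Plumbing

section Main

variable (R S : Type u) [CommRing R] [CommRing S] [Algebra R S] (p : Ideal R) [p.IsPrime]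
  (q : Ideal S) [q.IsPrime] [q.LiesOver p]
  (Rh : Type u) [CommRing Rh] [IsLocalRing Rh] [Algebra (Localization.AtPrime p) Rh]
  [Algebra R Rh] [IsScalarTower R (Localization.AtPrime p) Rh]
  (Sh : Type u) [CommRing Sh] [IsLocalRing Sh] [Algebra (Localization.AtPrime q) Sh]
  [IsLocalHom (algebraMap (Localization.AtPrime q) Sh)] [Algebra S Sh]
  [IsScalarTower S (Localization.AtPrime q) Sh] [Algebra R Sh] [IsScalarTower R S Sh]
  [Algebra Rh Sh] [IsScalarTower R Rh Sh]
  [Algebra.FiniteType R S] [Algebra.QuasiFiniteAt R q]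
  [IsLocalHom (algebraMap (Localization.AtPrime p) Rh)]

theorem finite_of_isHenselization
    [Hensel.IsHenselization (Localization.AtPrime p) Rh]
    [Hensel.IsHenselization (Localization.AtPrime q) Sh] : Module.Finite Rh Sh := by
  haveI hRh : HenselianLocalRing Rh :=
    Hensel.IsHenselization.henselian (R := Localization.AtPrime p)
  haveI := isLocalHom_uMap R S p q
  haveI hloc : IsLocalHom (algebraMap Rh Sh) :=
    isLocalHom_of_comp_eq' (Localization.AtPrime p) Rh (Localization.AtPrime q) Sh
      (Hzn.map_maximalIdeal_eq_of_isHenselization (Localization.AtPrime p) Rh)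
      (uMap R S p q) (algebraMap Rh Sh) (v_comp R S p q Rh Sh)
  have hQ : Ideal.comap (phi R S Rh Sh) (maximalIdeal Sh) =
    Ideal.comap (phi R S Rh Sh) (maximalIdeal Sh) := rfl
  haveI hfin : Module.Finite Rh (Localization.AtPrime
      (Ideal.comap (phi R S Rh Sh) (maximalIdeal Sh))) := finite_L R S q Rh Sh _ hQ
  haveI : HenselianLocalRing (Localization.AtPrime
      (Ideal.comap (phi R S Rh Sh) (maximalIdeal Sh))) :=
    IH.henselianLocalRing_of_finite Rh _
  haveI : Hensel.IsHenselization (Localization.AtPrime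
      (Ideal.comap (phi R S Rh Sh) (maximalIdeal Sh))) (Localization.AtPrime
      (Ideal.comap (phi R S Rh Sh) (maximalIdeal Sh))) := isHenselization_self _
  obtain ⟨e, he⟩ := exists_equiv_hens R S p q Rh Sh _ hQ (Localization.AtPrime
      (Ideal.comap (phi R S Rh Sh) (maximalIdeal Sh)))
  exact finite_of_equiv R S Rh Sh _ e he

theorem finite_of_isStrictHenselization
    [Hensel.IsStrictHenselization (Localization.AtPrime p) Rh]
    [Hensel.IsStrictHenselization (Localization.AtPrime q) Sh] : Module.Finite Rh Sh := by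
  haveI hRh : HenselianLocalRing Rh :=
    Hensel.IsStrictHenselization.henselian (R := Localization.AtPrime p)
  haveI := isLocalHom_uMap R S p q
  haveI hloc : IsLocalHom (algebraMap Rh Sh) :=
    isLocalHom_of_comp_eq (Localization.AtPrime p) Rh (Localization.AtPrime q) Sh
      (uMap R S p q) (algebraMap Rh Sh) (v_comp R S p q Rh Sh)
  have hQ : Ideal.comap (phi R S Rh Sh) (maximalIdeal Sh) =
    Ideal.comap (phi R S Rh Sh) (maximalIdeal Sh) := rfl
  haveI hfin : Module.Finite Rh (Localization.AtPrime
      (Ideal.comap (phi R S Rh Sh) (maximalIdeal Sh))) := finite_L R S q Rh Sh _ hQ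
  haveI : HenselianLocalRing (Localization.AtPrime
      (Ideal.comap (phi R S Rh Sh) (maximalIdeal Sh))) :=
    IH.henselianLocalRing_of_finite Rh _
  haveI hlocL : IsLocalHom (algebraMap Rh (Localization.AtPrime
      (Ideal.comap (phi R S Rh Sh) (maximalIdeal Sh)))) :=
    isLocalHom_algebraMap_L R S Rh Sh _ hQ
  haveI : IsSepClosed (ResidueField Rh) :=
    (Hensel.IsStrictHenselization.isSepClosure (R := Localization.AtPrime p) (S := Rh)).sep_closed
  haveI : IsSepClosed (ResidueField (Localization.AtPrime
      (Ideal.comap (phi R S Rh Sh) (maximalIdeal Sh)))) :=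
    IH.isSepClosed_of_isPurelyInseparable (ResidueField Rh) _
  haveI : Hensel.IsStrictHenselization (Localization.AtPrime
      (Ideal.comap (phi R S Rh Sh) (maximalIdeal Sh))) (Localization.AtPrime
      (Ideal.comap (phi R S Rh Sh) (maximalIdeal Sh))) := isStrictHenselization_self _
  obtain ⟨e, he⟩ := exists_equiv_shens R S p q Rh Sh _ hQ (Localization.AtPrime
      (Ideal.comap (phi R S Rh Sh) (maximalIdeal Sh)))
  exact finite_of_equiv R S Rh Sh _ e he

end Main

end Groth.Agent.Helper1.TP
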