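import Groth.Agent.Lib.Helper1.CF1
import Groth.Agent.Lib.Helper1.BRN2
import Groth.Agent.Lib.Helper1.TP3

/-!
# Branches of a Noetherian local ring and of its completion
-/

set_option autoImplicit false

namespace Groth.Agent.Helper1.CF

open IsLocalRing TensorProduct Groth.Agent.Helper1

universe u

theorem henselianLocalRing_of_isAdicComplete (R : Type*) [CommRing R] [IsLocalRing R]
    [IsAdicComplete (maximalIdeal R) R] : HenselianLocalRing R where
  is_henselian := by
    intro f hf a₀ h₁ h₂
    exact HenselianRing.is_henselian (I := maximalIdeal R) f hf a₀ h₁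
      (h₂.map (Ideal.Quotient.mk (maximalIdeal R)))

theorem card_le_of_surjOn {α β : Type*} {f : α → β} {s : Set α} {t : Set β}
    (h : Set.SurjOn f s t) : ENat.card t ≤ ENat.card s := by
  show t.encard ≤ s.encard
  exact (Set.encard_le_encard h).trans (Set.encard_image_le f s)

section Fibres

variable {R T : Type*} [CommRing R] [CommRing T] [Algebra R T] [Module.Flat R T]

/-- for a flat map which is surjective on minimal primes, with finitely many minimal primes
upstairs: the numbers of minimal primes agree iff the radical of the extension of every minimal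
prime is prime -/
theorem card_minimalPrimes_eq_iff (hfin : (minimalPrimes T).Finite)
    (hsurj : Set.SurjOn (fun P : Ideal T => P.comap (algebraMap R T)) (minimalPrimes T)
      (minimalPrimes R)) :
    ENat.card (minimalPrimes R) = ENat.card (minimalPrimes T) ↔
      ∀ q ∈ minimalPrimes R, (q.map (algebraMap R T)).radical.IsPrime := by
  have hmaps : Set.MapsTo (fun P : Ideal T => P.comap (algebraMap R T)) (minimalPrimes T)
      (minimalPrimes R) := fun P hP => BRN.comap_mem_minimalPrimes hP
  constructor
  · intro hcard q hq
    have himg := hsurj.image_eq_of_mapsTo hmaps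
    have hinj : Set.InjOn (fun P : Ideal T => P.comap (algebraMap R T)) (minimalPrimes T) := by
      apply Set.Finite.injOn_of_encard_image_eq hfin
      rw [himg]
      exact hcard
    obtain ⟨P, hP, hPq⟩ := hsurj hq
    have hfib := BRN.fibre_eq (S := T) hq
    have hsingle : (q.map (algebraMap R T)).minimalPrimes = {P} := by
      rw [← hfib]
      ext Q
      constructor
      · rintro ⟨hQ, hQq⟩
        exact hinj hQ hP (hQq.trans hPq.symm)
      · intro hQ
        rw [Set.mem_singleton_iff] at hQ
        rw [hQ]
        exact ⟨hP, hPq⟩
    rw [← Ideal.sInf_minimalPrimes, hsingle, sInf_singleton]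
    exact hP.1.1
  · intro hrad
    have hinj : Set.InjOn (fun P : Ideal T => P.comap (algebraMap R T)) (minimalPrimes T) := by
      intro P₁ hP₁ P₂ hP₂ h12
      have hq := hmaps hP₁
      have hfib := BRN.fibre_eq (S := T) hq
      have hpr := hrad _ hq
      have key : ∀ P ∈ (Ideal.map (algebraMap R T)
          (P₁.comap (algebraMap R T))).minimalPrimes,
          P = (Ideal.map (algebraMap R T) (P₁.comap (algebraMap R T))).radical := by
        intro P hP
        have h1 : (Ideal.map (algebraMap R T) (P₁.comap (algebraMap R T))).radical ≤ P :=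
          (hP.1.1.radical_le_iff).mpr hP.1.2
        exact le_antisymm (hP.2 ⟨hpr, Ideal.le_radical⟩ h1) h1
      have m1 : P₁ ∈ (Ideal.map (algebraMap R T) (P₁.comap (algebraMap R T))).minimalPrimes := by
        rw [← hfib]
        exact ⟨hP₁, rfl⟩
      have m2 : P₂ ∈ (Ideal.map (algebraMap R T) (P₁.comap (algebraMap R T))).minimalPrimes := by
        rw [← hfib]
        exact ⟨hP₂, h12.symm⟩
      rw [key P₁ m1, key P₂ m2]
    have hbij : Set.BijOn (fun P : Ideal T => P.comap (algebraMap R T)) (minimalPrimes T)
        (minimalPrimes R) := ⟨hmaps, hinj, hsurj⟩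
    exact (ENat.card_congr hbij.equiv).symm

end Fibres

section Completion

variable (A : Type u) [CommRing A] [IsLocalRing A] [IsNoetherianRing A]

instance henselianLocalRing_adicCompletion :
    HenselianLocalRing (AdicCompletion (maximalIdeal A) A) :=
  henselianLocalRing_of_isAdicComplete _

theorem numBranches_completion_eq_card :
    Brnch.numBranches (AdicCompletion (maximalIdeal A) A) =
      ENat.card (minimalPrimes (AdicCompletion (maximalIdeal A) A)) := by
  haveI : Hensel.IsHenselization (AdicCompletion (maximalIdeal A) A)
      (AdicCompletion (maximalIdeal A) A) := TP.isHenselization_self _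
  exact BRN.numBranches_eq_card (AdicCompletion (maximalIdeal A) A)
    (AdicCompletion (maximalIdeal A) A)

theorem exists_psi (S : Type u) [CommRing S] [IsLocalRing S] [Algebra A S]
    [IsLocalHom (algebraMap A S)] [Hensel.IsHenselization A S] :
    ∃ ψ : S →+* AdicCompletion (maximalIdeal A) A,
      ψ.comp (algebraMap A S) = algebraMap A (AdicCompletion (maximalIdeal A) A) := by
  obtain ⟨g, hg, -⟩ := Hensel.IsHenselization.universal (R := A) (S := S)
    (AdicCompletion (maximalIdeal A) A) (algebraMap A (AdicCompletion (maximalIdeal A) A))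
    inferInstance
  exact ⟨g, hg⟩

theorem numBranches_le_completion :
    Brnch.numBranches A ≤ Brnch.numBranches (AdicCompletion (maximalIdeal A) A) := by
  haveI := Hzn.isHenselization A
  obtain ⟨ψ, hψ⟩ := exists_psi A (Hzn.S A)
  letI := ψ.toAlgebra
  haveI := faithfullyFlat_psi A (Hzn.S A) ψ hψ
  rw [BRN.numBranches_eq_card A (Hzn.S A), numBranches_completion_eq_card]
  exact card_le_of_surjOn (DM.surjOn_comap_minimalPrimes (Hzn.S A)
    (AdicCompletion (maximalIdeal A) A))

theorem numBranches_eq_completion_iff (S : Type u) [CommRing S] [IsLocalRing S] [Algebra A S]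
    [IsLocalHom (algebraMap A S)] [Hensel.IsHenselization A S]
    (ψ : S →+* AdicCompletion (maximalIdeal A) A)
    (hψ : ψ.comp (algebraMap A S) = algebraMap A (AdicCompletion (maximalIdeal A) A)) :
    Brnch.numBranches A = Brnch.numBranches (AdicCompletion (maximalIdeal A) A) ↔
      ∀ q ∈ minimalPrimes S, (Ideal.map ψ q).radical.IsPrime := by
  letI := ψ.toAlgebra
  haveI hff := faithfullyFlat_psi A S ψ hψ
  haveI : IsNoetherianRing (AdicCompletion (maximalIdeal A) A) :=
    Groth.Agent.S0543.result A (maximalIdeal A)
  rw [BRN.numBranches_eq_card A S, numBranches_completion_eq_card]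
  exact card_minimalPrimes_eq_iff
    (minimalPrimes.finite_of_isNoetherianRing (AdicCompletion (maximalIdeal A) A))
    (DM.surjOn_comap_minimalPrimes S (AdicCompletion (maximalIdeal A) A))

end Completion

end Groth.Agent.Helper1.CF
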