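import Groth.Agent.Lib.Helper1.IH3

/-!
# Tensor products of local rings with purely inseparable residue field extension
-/

set_option autoImplicit false

namespace Groth.Agent.Helper1.IH

open Polynomial IsLocalRing TensorProduct

universe u

/-- a criterion for a ring receiving maps from two local rings to be local -/
theorem isLocalRing_of_pow_sub_mem {B S C : Type*} [CommRing B] [IsLocalRing B] [CommRing S]
    [IsLocalRing S] [CommRing C] [Nontrivial C] (β : B →+* C) (σ : S →+* C)
    (hβ : ∀ M : Ideal C, M.IsMaximal → (maximalIdeal B).map β ≤ M)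
    (hσ : ∀ M : Ideal C, M.IsMaximal → M.comap σ = maximalIdeal S)
    (h : ∀ c : C, ∃ (N : ℕ) (s : S), 0 < N ∧ c ^ N - σ s ∈ (maximalIdeal B).map β) :
    IsLocalRing C := by
  apply IsLocalRing.of_unique_max_ideal
  obtain ⟨M, hM⟩ := Ideal.exists_maximal C
  have key : ∀ (M₁ M₂ : Ideal C), M₁.IsMaximal → M₂.IsMaximal → M₁ ≤ M₂ := by
    intro M₁ M₂ h₁ h₂ c hc
    obtain ⟨N, s, hN, hs⟩ := h c
    have h1 : σ s ∈ M₁ := by
      have h3 := M₁.sub_mem (M₁.pow_mem_of_mem hc N hN) (hβ M₁ h₁ hs)
      rwa [sub_sub_cancel] at h3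
    have h2 : s ∈ maximalIdeal S := by
      rw [← hσ M₁ h₁]
      exact h1
    have h3 : σ s ∈ M₂ := by
      rw [← hσ M₂ h₂] at h2
      exact h2
    have h4 := M₂.add_mem (hβ M₂ h₂ hs) h3
    rw [sub_add_cancel] at h4
    exact h₂.isPrime.mem_of_pow_mem _ h4
  exact ⟨M, hM, fun M' hM' => le_antisymm (key M' M hM' hM) (key M M' hM hM')⟩

/-- the tensor product of two local algebras over a local ring is nontrivial when one of the
residue field extensions is algebraic -/
theorem nontrivial_tensor_of_isAlgebraic (R A B : Type u) [CommRing R] [IsLocalRing R]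
    [CommRing A] [IsLocalRing A] [Algebra R A] [IsLocalHom (algebraMap R A)]
    [CommRing B] [IsLocalRing B] [Algebra R B] [IsLocalHom (algebraMap R B)]
    [Algebra.IsAlgebraic (ResidueField R) (ResidueField A)] : Nontrivial (A ⊗[R] B) := by
  let ι : ResidueField A →ₐ[ResidueField R] AlgebraicClosure (ResidueField B) := IsAlgClosed.lift
  letI : Algebra R (AlgebraicClosure (ResidueField B)) :=
    ((algebraMap (ResidueField R) (AlgebraicClosure (ResidueField B))).comp (residue R)).toAlgebra
  let fA : A →ₐ[R] AlgebraicClosure (ResidueField B) :=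
    { ι.toRingHom.comp (residue A) with
      commutes' := fun r => by
        show ι (residue A (algebraMap R A r)) =
          algebraMap (ResidueField R) (AlgebraicClosure (ResidueField B)) (residue R r)
        rw [← ResidueField.algebraMap_residue, ι.commutes] }
  let fB : B →ₐ[R] AlgebraicClosure (ResidueField B) :=
    { (algebraMap (ResidueField B) (AlgebraicClosure (ResidueField B))).comp (residue B) with
      commutes' := fun r => by
        show algebraMap (ResidueField B) (AlgebraicClosure (ResidueField B))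
          (residue B (algebraMap R B r)) =
          algebraMap (ResidueField R) (AlgebraicClosure (ResidueField B)) (residue R r)
        rw [← ResidueField.algebraMap_residue, ← IsScalarTower.algebraMap_apply] }
  exact (Algebra.TensorProduct.lift fA fB (fun _ _ => Commute.all _ _)).toRingHom.domain_nontrivial

/-- S13198 -/
theorem tensor_local_of_purelyInseparable (R A B : Type u) [CommRing R] [IsLocalRing R]
    [CommRing A] [IsLocalRing A] [Algebra R A] [IsLocalHom (algebraMap R A)]
    [Algebra.IsIntegral R A]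
    [IsPurelyInseparable (ResidueField R) (ResidueField A)]
    [CommRing B] [IsLocalRing B] [Algebra R B] [IsLocalHom (algebraMap R B)] :
    ∃ _ : IsLocalRing (A ⊗[R] B),
      IsLocalHom (Algebra.TensorProduct.includeRight : B →ₐ[R] A ⊗[R] B).toRingHom ∧
      ∀ x : A ⊗[R] B, ∃ (n : ℕ) (b : B),
        x ^ (ringExpChar (ResidueField B)) ^ n - (1 : A) ⊗ₜ[R] b ∈
          maximalIdeal (A ⊗[R] B) := by
  haveI : Algebra.IsAlgebraic (ResidueField R) (ResidueField A) :=
    IsPurelyInseparable.isAlgebraic _ _
  haveI hnt : Nontrivial (A ⊗[R] B) := nontrivial_tensor_of_isAlgebraic R A B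
  obtain ⟨q, hq⟩ : ∃ q, q = ringExpChar (ResidueField R) := ⟨_, rfl⟩
  haveI hR : ExpChar (ResidueField R) q := by
    rw [hq]
    exact ringExpChar.expChar _
  haveI hA : ExpChar (ResidueField A) q :=
    expChar_of_injective_ringHom (algebraMap (ResidueField R) (ResidueField A)).injective q
  haveI hB : ExpChar (ResidueField B) q :=
    expChar_of_injective_ringHom (algebraMap (ResidueField R) (ResidueField B)).injective q
  have hqB : ringExpChar (ResidueField B) = q := ringExpChar.eq _ q
  have hq' := hq_of_expChar' A q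
  have hqpos : 0 < q := by
    rcases hq' with h | ⟨h, -⟩
    · rw [h]; exact Nat.one_pos
    · exact h.pos
  have hPI : ∀ a : A, ∃ (n : ℕ) (r : R), a ^ q ^ n - algebraMap R A r ∈ maximalIdeal A := by
    intro a
    obtain ⟨n, y, hy⟩ := IsPurelyInseparable.pow_mem (ResidueField R) q (residue A a)
    obtain ⟨r, rfl⟩ := residue_surjective y
    refine ⟨n, r, ?_⟩
    rw [← residue_eq_zero_iff, map_sub, map_pow, sub_eq_zero, ← hy,
      ResidueField.algebraMap_residue]
  haveI hloc : IsLocalRing (A ⊗[R] B) := by
    apply isLocalRing_of_pow_sub_mem (algebraMap A (A ⊗[R] B)) (incR R A B)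
    · intro M hM
      haveI := hM
      rw [Ideal.map_le_iff_le_comap, comap_algebraMap_eq R A B M]
    · intro M hM
      haveI := hM
      exact comap_incR_eq R A B M
    · intro c
      obtain ⟨n, s, hs⟩ := exists_pow_sub_tmul_mem (S := B) q hq' hPI _ le_rfl c
      exact ⟨q ^ n, s, pow_pos hqpos n, hs⟩
  refine ⟨hloc, isLocalHom_incR R A B, ?_⟩
  intro x
  rw [hqB]
  have hI₀ : (maximalIdeal A).map (algebraMap A (A ⊗[R] B)) ≤ maximalIdeal (A ⊗[R] B) := by
    rw [Ideal.map_le_iff_le_comap, comap_algebraMap_eq R A B (maximalIdeal (A ⊗[R] B))]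
  exact exists_pow_sub_tmul_mem (S := B) q hq' hPI _ hI₀ x

/-- S11707 -/
theorem henselianLocalRing_tensor_finite {A B A' : Type u} [CommRing A] [CommRing B]
    [CommRing A'] [HenselianLocalRing A] [HenselianLocalRing B] [Algebra A B]
    [IsLocalHom (algebraMap A B)]
    (hins : IsPurelyInseparable (ResidueField A) (ResidueField B))
    [Algebra A A'] [Module.Finite A A'] [IsLocalRing A'] :
    HenselianLocalRing (B ⊗[A] A') := by
  haveI := hins
  haveI hAA' : Algebra.IsIntegral A A' := Algebra.IsIntegral.of_finite A A'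
  haveI hlAA' : IsLocalHom (algebraMap A A') :=
    ((IsLocalRing.local_hom_TFAE (algebraMap A A')).out 4 0).mp
      (IsLocalRing.eq_maximalIdeal
        (Ideal.isMaximal_comap_of_isIntegral_of_isMaximal (R := A) (maximalIdeal A')))
  haveI : Algebra.IsAlgebraic (ResidueField A) (ResidueField B) :=
    IsPurelyInseparable.isAlgebraic _ _
  haveI hnt : Nontrivial (B ⊗[A] A') := nontrivial_tensor_of_isAlgebraic A B A'
  obtain ⟨q, hq⟩ : ∃ q, q = ringExpChar (ResidueField A) := ⟨_, rfl⟩
  haveI hR : ExpChar (ResidueField A) q := by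
    rw [hq]
    exact ringExpChar.expChar _
  haveI hB : ExpChar (ResidueField B) q :=
    expChar_of_injective_ringHom (algebraMap (ResidueField A) (ResidueField B)).injective q
  have hq' := hq_of_expChar' B q
  have hqpos : 0 < q := by
    rcases hq' with h | ⟨h, -⟩
    · rw [h]; exact Nat.one_pos
    · exact h.pos
  have hPI : ∀ b : B, ∃ (n : ℕ) (a : A), b ^ q ^ n - algebraMap A B a ∈ maximalIdeal B := by
    intro b
    obtain ⟨n, y, hy⟩ := IsPurelyInseparable.pow_mem (ResidueField A) q (residue B b)
    obtain ⟨a, rfl⟩ := residue_surjective y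
    refine ⟨n, a, ?_⟩
    rw [← residue_eq_zero_iff, map_sub, map_pow, sub_eq_zero, ← hy,
      ResidueField.algebraMap_residue]
  haveI : Module.Finite B (B ⊗[A] A') := inferInstance
  haveI : Algebra.IsIntegral B (B ⊗[A] A') := Algebra.IsIntegral.of_finite B _
  have hcomB : ∀ M : Ideal (B ⊗[A] A'), M.IsMaximal →
      M.comap (algebraMap B (B ⊗[A] A')) = maximalIdeal B := by
    intro M hM
    haveI := hM
    exact IsLocalRing.eq_maximalIdeal
      (Ideal.isMaximal_comap_of_isIntegral_of_isMaximal (R := B) M)
  have hcomA' : ∀ M : Ideal (B ⊗[A] A'), M.IsMaximal →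
      M.comap (incR A B A') = maximalIdeal A' := by
    intro M hM
    haveI := hM
    haveI : (M.comap (incR A B A')).IsPrime := Ideal.comap_isPrime _ _
    apply IsLocalRing.eq_maximalIdeal
    apply Ideal.isMaximal_of_isIntegral_of_isMaximal_comap (R := A)
    have h1 : (M.comap (incR A B A')).comap (algebraMap A A') = maximalIdeal A := by
      rw [Ideal.comap_comap, incR_comp_algebraMap, ← Ideal.comap_comap, hcomB M hM]
      exact ((IsLocalRing.local_hom_TFAE (algebraMap A B)).out 0 4).mp
        ‹IsLocalHom (algebraMap A B)›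
    rw [h1]
    exact maximalIdeal.isMaximal A
  haveI hloc : IsLocalRing (B ⊗[A] A') := by
    apply isLocalRing_of_pow_sub_mem (algebraMap B (B ⊗[A] A')) (incR A B A')
    · intro M hM
      rw [Ideal.map_le_iff_le_comap, hcomB M hM]
    · exact hcomA'
    · intro c
      obtain ⟨n, s, hs⟩ := exists_pow_sub_tmul_mem (S := A') q hq' hPI _ le_rfl c
      exact ⟨q ^ n, s, pow_pos hqpos n, hs⟩
  exact henselianLocalRing_of_finite B (B ⊗[A] A')

end Groth.Agent.Helper1.IH
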