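import Groth.Agent.Lib.Helper1.TP3
import Groth.Agent.Lib.Helper1.IH4

/-!
# `Bsh ⊗[Ash] Csh ≃ Dsh` for `D = B ⊗[A] C`, when `Bsh` is integral over `Ash`
-/

set_option autoImplicit false

namespace Groth.Agent.Helper1.TP

open IsLocalRing TensorProduct Groth.Agent.Helper1

universe u

section Criterion

variable (S₀ S₁ L : Type u) [CommRing S₀] [IsLocalRing S₀] [CommRing S₁] [IsLocalRing S₁]
  [Algebra S₀ S₁] [IsLocalHom (algebraMap S₀ S₁)] [CommRing L] [IsLocalRing L]

/-- uniqueness part of the universal property of a strict henselization -/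
theorem ringHom_ext_of_isStrictHenselization [Hensel.IsStrictHenselization S₀ S₁] (X : Type u)
    [CommRing X] [HenselianLocalRing X] (h₁ h₂ : S₁ →+* X) [IsLocalHom h₁]
    (hcomp : h₁.comp (algebraMap S₀ S₁) = h₂.comp (algebraMap S₀ S₁))
    (hres : ∀ x, residue X (h₁ x) = residue X (h₂ x)) : h₁ = h₂ := by
  haveI : IsLocalHom (h₁.comp (algebraMap S₀ S₁)) :=
    RingHom.isLocalHom_comp h₁ (algebraMap S₀ S₁)
  obtain ⟨g, -, hguniq⟩ := Hensel.IsStrictHenselization.universal (R := S₀) (S := S₁) X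
    (h₁.comp (algebraMap S₀ S₁)) (ResidueField.map h₁) (by
      refine RingHom.ext (fun x => ?_)
      obtain ⟨r, rfl⟩ := residue_surjective x
      rw [RingHom.comp_apply, ResidueField.map_residue, ResidueField.map_residue,
        ResidueField.map_residue]
      rfl)
  rw [hguniq h₁ ⟨rfl, fun x => (ResidueField.map_residue h₁ x).symm⟩,
    hguniq h₂ ⟨hcomp.symm, fun x => by rw [← hres, ResidueField.map_residue]⟩]

/-- criterion: `S₁ = S₀ˢʰ` is also the strict henselization of an intermediate local ring `L`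
as soon as local maps out of `L` are determined by their restriction to `S₀` and their
residue map -/
theorem isStrictHenselization_of_epi [Hensel.IsStrictHenselization S₀ S₁]
    (b : S₀ →+* L) [IsLocalHom b] (c : L →+* S₁) [hc : IsLocalHom c]
    (hcb : c.comp b = algebraMap S₀ S₁)
    (hepi : ∀ (X : Type u) [CommRing X] [HenselianLocalRing X] (g₁ g₂ : L →+* X),
      IsLocalHom g₁ → IsLocalHom g₂ → g₁.comp b = g₂.comp b →
      (∀ l, residue X (g₁ l) = residue X (g₂ l)) → g₁ = g₂) :
    letI : Algebra L S₁ := c.toAlgebra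
    ∃ (_ : IsLocalHom (algebraMap L S₁)), Hensel.IsStrictHenselization L S₁ := by
  letI : Algebra L S₁ := c.toAlgebra
  haveI hcl : IsLocalHom (algebraMap L S₁) := hc
  refine ⟨hc, Hensel.IsStrictHenselization.henselian (R := S₀), ?_, ?_⟩
  · haveI hsc : IsSepClosure (ResidueField S₀) (ResidueField S₁) :=
      Hensel.IsStrictHenselization.isSepClosure
    haveI := hsc.separable
    letI : Algebra (ResidueField S₀) (ResidueField L) := (ResidueField.map b).toAlgebra
    haveI := IsScalarTower.of_algebraMap_eq (R := ResidueField S₀) (S := ResidueField L)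
      (A := ResidueField S₁) (fun x => by
        obtain ⟨s, rfl⟩ := residue_surjective x
        show ResidueField.map (algebraMap S₀ S₁) (residue S₀ s) =
          ResidueField.map c (ResidueField.map b (residue S₀ s))
        rw [ResidueField.map_residue, ResidueField.map_residue, ResidueField.map_residue,
          ← hcb]
        rfl)
    exact ⟨hsc.sep_closed, Algebra.isSeparable_tower_top_of_isSeparable (ResidueField S₀)
      (ResidueField L) (ResidueField S₁)⟩
  · intro T' _ _ f _ τ hτ
    haveI : IsLocalHom (f.comp b) := RingHom.isLocalHom_comp f b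
    have hτc : ∀ x : L, τ (residue S₁ (c x)) = residue T' (f x) := by
      intro x
      have h := RingHom.congr_fun hτ (residue L x)
      rw [RingHom.comp_apply, ResidueField.map_residue, ResidueField.map_residue] at h
      exact h
    have hcb' : ∀ s : S₀, algebraMap S₀ S₁ s = c (b s) := fun s =>
      (RingHom.congr_fun hcb s).symm
    have hτb : τ.comp (ResidueField.map (algebraMap S₀ S₁)) = ResidueField.map (f.comp b) := by
      refine RingHom.ext (fun x => ?_)
      obtain ⟨s, rfl⟩ := residue_surjective x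
      rw [RingHom.comp_apply, ResidueField.map_residue, ResidueField.map_residue, hcb', hτc]
      rfl
    obtain ⟨g, ⟨hg, hgres⟩, hguniq⟩ := Hensel.IsStrictHenselization.universal (R := S₀)
      (S := S₁) T' (f.comp b) τ hτb
    have hgloc : IsLocalHom g := by
      refine ⟨fun x hx => ?_⟩
      by_contra hnu
      have h1 : residue S₁ x = 0 := (residue_eq_zero_iff x).mpr ((mem_maximalIdeal x).mpr hnu)
      have h2 : residue T' (g x) = 0 := by rw [hgres, h1, map_zero]
      exact (mem_maximalIdeal _).mp ((residue_eq_zero_iff (g x)).mp h2) hx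
    refine ⟨g, ⟨?_, hgres⟩, ?_⟩
    · show g.comp c = f
      apply hepi T' (g.comp c) f (RingHom.isLocalHom_comp g c) inferInstance
      · rw [RingHom.comp_assoc, hcb, hg]
      · intro l
        show residue T' (g (c l)) = residue T' (f l)
        rw [hgres, hτc]
    · rintro g' ⟨hg', hg'res⟩
      apply hguniq
      have hg'' : g'.comp c = f := hg'
      refine ⟨?_, hg'res⟩
      rw [← hcb, ← RingHom.comp_assoc, hg'']

/-- if moreover `L` is strictly henselian then `c` is bijective -/
theorem bijective_of_epi [Hensel.IsStrictHenselization S₀ S₁] [HenselianLocalRing L]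
    [IsSepClosed (ResidueField L)]
    (b : S₀ →+* L) [IsLocalHom b] (c : L →+* S₁) [hc : IsLocalHom c]
    (hcb : c.comp b = algebraMap S₀ S₁)
    (hepi : ∀ (X : Type u) [CommRing X] [HenselianLocalRing X] (g₁ g₂ : L →+* X),
      IsLocalHom g₁ → IsLocalHom g₂ → g₁.comp b = g₂.comp b →
      (∀ l, residue X (g₁ l) = residue X (g₂ l)) → g₁ = g₂) :
    Function.Bijective c := by
  obtain ⟨hloc, hH⟩ := isStrictHenselization_of_epi S₀ S₁ L b c hcb hepi
  letI : Algebra L S₁ := c.toAlgebra
  haveI := hloc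
  haveI := hH
  haveI : Hensel.IsStrictHenselization L L := isStrictHenselization_self L
  obtain ⟨e, he⟩ := exists_ringEquiv_of_isStrictHenselization L L S₁
  have hce : ⇑c = ⇑e := funext (fun x => (he x).symm)
  rw [hce]
  exact e.bijective

end Criterion

/-- the residue field extension of an integral local extension is integral -/
theorem isIntegral_residueField (R S : Type u) [CommRing R] [CommRing S] [IsLocalRing R]
    [IsLocalRing S] [Algebra R S] [IsLocalHom (algebraMap R S)] [Algebra.IsIntegral R S] :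
    Algebra.IsIntegral (ResidueField R) (ResidueField S) := by
  refine ⟨fun x => ?_⟩
  obtain ⟨s, rfl⟩ := residue_surjective x
  obtain ⟨P, hP, hPs⟩ := Algebra.IsIntegral.isIntegral (R := R) s
  refine ⟨P.map (residue R), hP.map _, ?_⟩
  rw [Polynomial.eval₂_map]
  have h : (algebraMap (ResidueField R) (ResidueField S)).comp (residue R) =
      (residue S).comp (algebraMap R S) := ResidueField.map_comp_residue (algebraMap R S)
  rw [h, ← Polynomial.hom_eval₂, hPs, map_zero]

section W

variable (Ash Bsh Csh : Type u) [CommRing Ash] [IsLocalRing Ash] [CommRing Bsh] [IsLocalRing Bsh]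
  [CommRing Csh] [IsLocalRing Csh] [Algebra Ash Bsh] [IsLocalHom (algebraMap Ash Bsh)]
  [Algebra Ash Csh] [IsLocalHom (algebraMap Ash Csh)]
  [Algebra.IsIntegral Ash Bsh] [IsSepClosed (ResidueField Ash)]

theorem isPurelyInseparable_residueField :
    IsPurelyInseparable (ResidueField Ash) (ResidueField Bsh) := by
  haveI := isIntegral_residueField Ash Bsh
  infer_instance

theorem W_local : IsLocalRing (Bsh ⊗[Ash] Csh) := by
  haveI := isPurelyInseparable_residueField Ash Bsh
  obtain ⟨h, -, -⟩ := IH.tensor_local_of_purelyInseparable Ash Bsh Csh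
  exact h

variable [hW : IsLocalRing (Bsh ⊗[Ash] Csh)]

theorem W_henselian [HenselianLocalRing Csh] : HenselianLocalRing (Bsh ⊗[Ash] Csh) :=
  IH.henselianLocalRing_of_integral_ringHom (IH.incR Ash Bsh Csh)
    (IH.incR_isIntegral Ash Bsh Csh)

theorem W_sepClosed [IsSepClosed (ResidueField Csh)] :
    IsSepClosed (ResidueField (Bsh ⊗[Ash] Csh)) := by
  haveI := isPurelyInseparable_residueField Ash Bsh
  obtain ⟨h, h2, h3⟩ := IH.tensor_local_of_purelyInseparable Ash Bsh Csh
  haveI hl : IsLocalHom (IH.incR Ash Bsh Csh) := h2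
  letI : Algebra (ResidueField Csh) (ResidueField (Bsh ⊗[Ash] Csh)) :=
    (ResidueField.map (IH.incR Ash Bsh Csh)).toAlgebra
  haveI : ExpChar (ResidueField Csh) (ringExpChar (ResidueField Csh)) := ringExpChar.expChar _
  haveI : IsPurelyInseparable (ResidueField Csh) (ResidueField (Bsh ⊗[Ash] Csh)) := by
    refine (isPurelyInseparable_iff_pow_mem (ResidueField Csh)
      (ringExpChar (ResidueField Csh))).mpr (fun z => ?_)
    obtain ⟨w, rfl⟩ := residue_surjective z
    obtain ⟨n, s, hs⟩ := h3 w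
    refine ⟨n, residue Csh s, ?_⟩
    show ResidueField.map (IH.incR Ash Bsh Csh) (residue Csh s) = _
    rw [ResidueField.map_residue, ← map_pow]
    symm
    rw [← sub_eq_zero, ← map_sub]
    exact (residue_eq_zero_iff _).mpr hs
  exact IH.isSepClosed_of_isPurelyInseparable (ResidueField Csh)
    (ResidueField (Bsh ⊗[Ash] Csh))

variable (Dsh : Type u) [CommRing Dsh] [IsLocalRing Dsh] [Algebra Bsh Dsh]
  [IsLocalHom (algebraMap Bsh Dsh)] [Algebra Csh Dsh] [IsLocalHom (algebraMap Csh Dsh)]
  [Algebra Ash Dsh] [IsScalarTower Ash Bsh Dsh] [IsScalarTower Ash Csh Dsh]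

/-- the canonical map `Bsh ⊗[Ash] Csh → Dsh` -/
noncomputable abbrev cW : Bsh ⊗[Ash] Csh →ₐ[Ash] Dsh :=
  Algebra.TensorProduct.lift (IsScalarTower.toAlgHom Ash Bsh Dsh)
    (IsScalarTower.toAlgHom Ash Csh Dsh) (fun _ _ => Commute.all _ _)

theorem cW_tmul (x : Bsh) (y : Csh) :
    cW Ash Bsh Csh Dsh (x ⊗ₜ[Ash] y) = algebraMap Bsh Dsh x * algebraMap Csh Dsh y := by
  show Algebra.TensorProduct.lift (IsScalarTower.toAlgHom Ash Bsh Dsh)
    (IsScalarTower.toAlgHom Ash Csh Dsh) (fun _ _ => Commute.all _ _) (x ⊗ₜ[Ash] y) = _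
  rw [Algebra.TensorProduct.lift_tmul]
  rfl

theorem cW_algebraMap (x : Bsh) :
    cW Ash Bsh Csh Dsh (algebraMap Bsh (Bsh ⊗[Ash] Csh) x) = algebraMap Bsh Dsh x := by
  show cW Ash Bsh Csh Dsh (x ⊗ₜ[Ash] (1 : Csh)) = _
  rw [cW_tmul, map_one, mul_one]

theorem cW_incR (y : Csh) :
    cW Ash Bsh Csh Dsh (IH.incR Ash Bsh Csh y) = algebraMap Csh Dsh y := by
  show cW Ash Bsh Csh Dsh ((1 : Bsh) ⊗ₜ[Ash] y) = _
  rw [cW_tmul, map_one, one_mul]

theorem isLocalHom_cW : IsLocalHom (cW Ash Bsh Csh Dsh).toRingHom := by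
  haveI hP : (Ideal.comap (cW Ash Bsh Csh Dsh).toRingHom (maximalIdeal Dsh)).IsPrime :=
    Ideal.comap_isPrime _ _
  have h1 : (Ideal.comap (cW Ash Bsh Csh Dsh).toRingHom (maximalIdeal Dsh)).comap
      (IH.incR Ash Bsh Csh) = maximalIdeal Csh := by
    rw [Ideal.comap_comap]
    have h : (cW Ash Bsh Csh Dsh).toRingHom.comp (IH.incR Ash Bsh Csh) = algebraMap Csh Dsh :=
      RingHom.ext (fun y => cW_incR Ash Bsh Csh Dsh y)
    rw [h]
    exact ((IsLocalRing.local_hom_TFAE (algebraMap Csh Dsh)).out 0 4).mp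
      (inferInstance : IsLocalHom (algebraMap Csh Dsh))
  have h2 : (Ideal.comap (cW Ash Bsh Csh Dsh).toRingHom (maximalIdeal Dsh)).IsMaximal :=
    Ideal.isMaximal_of_isIntegral_of_isMaximal_comap' (IH.incR Ash Bsh Csh)
      (IH.incR_isIntegral Ash Bsh Csh) _ (by rw [h1]; exact maximalIdeal.isMaximal Csh)
  exact ((IsLocalRing.local_hom_TFAE (cW Ash Bsh Csh Dsh).toRingHom).out 4 0).mp
    (IsLocalRing.eq_maximalIdeal h2)

end W

section Beta

variable (A B C : Type u) [CommRing A] [CommRing B] [CommRing C] [Algebra A B] [Algebra A C]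
  (Ash Bsh Csh : Type u) [CommRing Ash] [CommRing Bsh] [CommRing Csh]
  [Algebra Ash Bsh] [Algebra Ash Csh]
  [Algebra A Ash] [Algebra B Bsh] [Algebra A Bsh] [IsScalarTower A B Bsh]
  [IsScalarTower A Ash Bsh]
  [Algebra C Csh] [Algebra A Csh] [IsScalarTower A C Csh] [IsScalarTower A Ash Csh]

theorem exists_betaW : ∃ β : B ⊗[A] C →+* Bsh ⊗[Ash] Csh, ∀ (x : B) (y : C),
    β (x ⊗ₜ[A] y) = algebraMap Bsh (Bsh ⊗[Ash] Csh) (algebraMap B Bsh x) *
      IH.incR Ash Bsh Csh (algebraMap C Csh y) := by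
  let fB : B →ₐ[A] Bsh ⊗[Ash] Csh :=
    (Algebra.TensorProduct.includeLeft : Bsh →ₐ[A] Bsh ⊗[Ash] Csh).comp
      (IsScalarTower.toAlgHom A B Bsh)
  let fC : C →ₐ[A] Bsh ⊗[Ash] Csh :=
    { (IH.incR Ash Bsh Csh).comp (algebraMap C Csh) with
      commutes' := fun a => by
        show IH.incR Ash Bsh Csh (algebraMap C Csh (algebraMap A C a)) =
          algebraMap A (Bsh ⊗[Ash] Csh) a
        rw [← IsScalarTower.algebraMap_apply A C Csh, IsScalarTower.algebraMap_apply A Ash Csh,
          IH.incR_algebraMap Ash Bsh Csh, ← IsScalarTower.algebraMap_apply A Ash Bsh]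
        rfl }
  refine ⟨(Algebra.TensorProduct.lift fB fC (fun _ _ => Commute.all _ _)).toRingHom,
    fun x y => ?_⟩
  show Algebra.TensorProduct.lift fB fC (fun _ _ => Commute.all _ _) (x ⊗ₜ[A] y) = _
  rw [Algebra.TensorProduct.lift_tmul]
  rfl

end Beta


/-- `Bsh ⊗[Ash] Csh → Dsh` is bijective when `Bsh` is integral over `Ash` -/
theorem bijective_cW (A B C : Type u) [CommRing A] [CommRing B]
    [CommRing C] [Algebra A B] [Algebra A C]
    (pA : Ideal A) [pA.IsPrime] (pB : Ideal B) [pB.IsPrime] [pB.LiesOver pA]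
    (pC : Ideal C) [pC.IsPrime] [pC.LiesOver pA]
    (pD : Ideal (B ⊗[A] C)) [pD.IsPrime] [pD.LiesOver pB]
    (hDC : pD.comap (Algebra.TensorProduct.includeRight : C →ₐ[A] B ⊗[A] C).toRingHom = pC)
    (Ash : Type u) [CommRing Ash] [IsLocalRing Ash] [Algebra (Localization.AtPrime pA) Ash]
    [IsLocalHom (algebraMap (Localization.AtPrime pA) Ash)]
    [Hensel.IsStrictHenselization (Localization.AtPrime pA) Ash] [Algebra A Ash]
    [IsScalarTower A (Localization.AtPrime pA) Ash]
    (Bsh : Type u) [CommRing Bsh] [IsLocalRing Bsh] [Algebra (Localization.AtPrime pB) Bsh]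
    [IsLocalHom (algebraMap (Localization.AtPrime pB) Bsh)]
    [Hensel.IsStrictHenselization (Localization.AtPrime pB) Bsh] [Algebra B Bsh]
    [IsScalarTower B (Localization.AtPrime pB) Bsh] [Algebra A Bsh] [IsScalarTower A B Bsh]
    [Algebra Ash Bsh] [IsScalarTower A Ash Bsh] [IsLocalHom (algebraMap Ash Bsh)]
    (Csh : Type u) [CommRing Csh] [IsLocalRing Csh] [Algebra (Localization.AtPrime pC) Csh]
    [IsLocalHom (algebraMap (Localization.AtPrime pC) Csh)]
    [Hensel.IsStrictHenselization (Localization.AtPrime pC) Csh] [Algebra C Csh]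
    [IsScalarTower C (Localization.AtPrime pC) Csh] [Algebra A Csh] [IsScalarTower A C Csh]
    [Algebra Ash Csh] [IsScalarTower A Ash Csh] [IsLocalHom (algebraMap Ash Csh)]
    (Dsh : Type u) [CommRing Dsh] [IsLocalRing Dsh] [Algebra (Localization.AtPrime pD) Dsh]
    [IsLocalHom (algebraMap (Localization.AtPrime pD) Dsh)]
    [Hensel.IsStrictHenselization (Localization.AtPrime pD) Dsh] [Algebra (B ⊗[A] C) Dsh]
    [IsScalarTower (B ⊗[A] C) (Localization.AtPrime pD) Dsh]
    [Algebra Bsh Dsh] [IsLocalHom (algebraMap Bsh Dsh)] [Algebra B Dsh] [IsScalarTower B Bsh Dsh]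
    [IsScalarTower B (B ⊗[A] C) Dsh]
    [Algebra Csh Dsh] [IsLocalHom (algebraMap Csh Dsh)]
    (hC : ∀ c : C, algebraMap Csh Dsh (algebraMap C Csh c) = algebraMap (B ⊗[A] C) Dsh (1 ⊗ₜ[A] c))
    [Algebra Ash Dsh] [IsScalarTower Ash Bsh Dsh] [IsScalarTower Ash Csh Dsh]
    [Algebra.IsIntegral Ash Bsh] :
    Function.Bijective (Algebra.TensorProduct.lift (IsScalarTower.toAlgHom Ash Bsh Dsh)
      (IsScalarTower.toAlgHom Ash Csh Dsh) (fun _ _ => Commute.all _ _)) := by
  haveI : IsSepClosed (ResidueField Ash) :=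
    (Hensel.IsStrictHenselization.isSepClosure (R := Localization.AtPrime pA)
      (S := Ash)).sep_closed
  haveI hW : IsLocalRing (Bsh ⊗[Ash] Csh) := W_local Ash Bsh Csh
  haveI : HenselianLocalRing Csh :=
    Hensel.IsStrictHenselization.henselian (R := Localization.AtPrime pC)
  haveI : IsSepClosed (ResidueField Csh) :=
    (Hensel.IsStrictHenselization.isSepClosure (R := Localization.AtPrime pC)
      (S := Csh)).sep_closed
  haveI hWh : HenselianLocalRing (Bsh ⊗[Ash] Csh) := W_henselian Ash Bsh Csh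
  haveI hWs : IsSepClosed (ResidueField (Bsh ⊗[Ash] Csh)) := W_sepClosed Ash Bsh Csh
  haveI hcl : IsLocalHom (cW Ash Bsh Csh Dsh).toRingHom := isLocalHom_cW Ash Bsh Csh Dsh
  obtain ⟨β, hβ⟩ := exists_betaW A B C Ash Bsh Csh
  -- `c ∘ β` is the structure map
  have hcβ : ∀ d : B ⊗[A] C, cW Ash Bsh Csh Dsh (β d) = algebraMap (B ⊗[A] C) Dsh d := by
    intro d
    induction d using TensorProduct.induction_on with
    | zero => rw [map_zero, map_zero, map_zero]
    | tmul x y =>
      rw [hβ, map_mul, cW_algebraMap, cW_incR, hC, ← IsScalarTower.algebraMap_apply B Bsh Dsh,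
        IsScalarTower.algebraMap_apply B (B ⊗[A] C) Dsh, ← map_mul]
      congr 1
      show (x ⊗ₜ[A] (1 : C)) * ((1 : B) ⊗ₜ[A] y) = x ⊗ₜ[A] y
      rw [Algebra.TensorProduct.tmul_mul_tmul, mul_one, one_mul]
    | add x y hx hy => rw [map_add, map_add, map_add, hx, hy]
  have hunit : ∀ y : pD.primeCompl, IsUnit (β y) := by
    intro y
    apply isUnit_of_map_unit (cW Ash Bsh Csh Dsh).toRingHom
    show IsUnit (cW Ash Bsh Csh Dsh (β y))
    rw [hcβ, IsScalarTower.algebraMap_apply (B ⊗[A] C) (Localization.AtPrime pD) Dsh]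
    exact (IsLocalization.map_units (Localization.AtPrime pD) y).map _
  obtain ⟨b, hb⟩ : ∃ b : Localization.AtPrime pD →+* Bsh ⊗[Ash] Csh,
      ∀ d, b (algebraMap (B ⊗[A] C) (Localization.AtPrime pD) d) = β d :=
    ⟨IsLocalization.lift (M := pD.primeCompl) (g := β) hunit,
      fun d => IsLocalization.lift_eq hunit d⟩
  have hcb : (cW Ash Bsh Csh Dsh).toRingHom.comp b = algebraMap (Localization.AtPrime pD) Dsh := by
    apply IsLocalization.ringHom_ext pD.primeCompl
    refine RingHom.ext (fun d => ?_)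
    show cW Ash Bsh Csh Dsh (b (algebraMap (B ⊗[A] C) (Localization.AtPrime pD) d)) =
      algebraMap (Localization.AtPrime pD) Dsh (algebraMap (B ⊗[A] C) (Localization.AtPrime pD) d)
    rw [hb, hcβ, ← IsScalarTower.algebraMap_apply (B ⊗[A] C) (Localization.AtPrime pD) Dsh]
  haveI hbl : IsLocalHom b := by
    haveI : IsLocalHom ((cW Ash Bsh Csh Dsh).toRingHom.comp b) := by
      rw [hcb]; infer_instance
    exact isLocalHom_of_comp b (cW Ash Bsh Csh Dsh).toRingHom
  have hlB : IsLocalHom (algebraMap Bsh (Bsh ⊗[Ash] Csh)) := by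
    haveI : IsLocalHom ((cW Ash Bsh Csh Dsh).toRingHom.comp
        (algebraMap Bsh (Bsh ⊗[Ash] Csh))) := by
      rw [show (cW Ash Bsh Csh Dsh).toRingHom.comp (algebraMap Bsh (Bsh ⊗[Ash] Csh)) =
        algebraMap Bsh Dsh from RingHom.ext (fun x => cW_algebraMap Ash Bsh Csh Dsh x)]
      infer_instance
    exact isLocalHom_of_comp _ (cW Ash Bsh Csh Dsh).toRingHom
  have hlC : IsLocalHom (IH.incR Ash Bsh Csh) := by
    haveI : IsLocalHom ((cW Ash Bsh Csh Dsh).toRingHom.comp (IH.incR Ash Bsh Csh)) := by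
      rw [show (cW Ash Bsh Csh Dsh).toRingHom.comp (IH.incR Ash Bsh Csh) =
        algebraMap Csh Dsh from RingHom.ext (fun x => cW_incR Ash Bsh Csh Dsh x)]
      infer_instance
    exact isLocalHom_of_comp _ (cW Ash Bsh Csh Dsh).toRingHom
  have hepi : ∀ (X : Type u) [CommRing X] [HenselianLocalRing X]
      (g₁ g₂ : Bsh ⊗[Ash] Csh →+* X), IsLocalHom g₁ → IsLocalHom g₂ → g₁.comp b = g₂.comp b →
      (∀ l, residue X (g₁ l) = residue X (g₂ l)) → g₁ = g₂ := by
    intro X _ _ g₁ g₂ hg₁ hg₂ hgb hres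
    have hgβ : ∀ d, g₁ (β d) = g₂ (β d) := fun d => by
      have h := RingHom.congr_fun hgb (algebraMap (B ⊗[A] C) (Localization.AtPrime pD) d)
      rw [RingHom.comp_apply, RingHom.comp_apply, hb] at h
      exact h
    apply IH.ringHom_ext_tensor
    · haveI : IsLocalHom (g₁.comp (algebraMap Bsh (Bsh ⊗[Ash] Csh))) :=
        RingHom.isLocalHom_comp _ _
      have h := ringHom_ext_of_isStrictHenselization (Localization.AtPrime pB) Bsh X
        (g₁.comp (algebraMap Bsh (Bsh ⊗[Ash] Csh))) (g₂.comp (algebraMap Bsh (Bsh ⊗[Ash] Csh)))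
        (by
          apply IsLocalization.ringHom_ext pB.primeCompl
          refine RingHom.ext (fun x => ?_)
          show g₁ (algebraMap Bsh (Bsh ⊗[Ash] Csh) (algebraMap (Localization.AtPrime pB) Bsh
              (algebraMap B (Localization.AtPrime pB) x))) =
            g₂ (algebraMap Bsh (Bsh ⊗[Ash] Csh) (algebraMap (Localization.AtPrime pB) Bsh
              (algebraMap B (Localization.AtPrime pB) x)))
          rw [← IsScalarTower.algebraMap_apply B (Localization.AtPrime pB) Bsh]
          have h1 : algebraMap Bsh (Bsh ⊗[Ash] Csh) (algebraMap B Bsh x) =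
              β (x ⊗ₜ[A] (1 : C)) := by
            rw [hβ, map_one, map_one, mul_one]
          rw [h1, hgβ])
        (fun x => hres _)
      exact fun x => RingHom.congr_fun h x
    · haveI : IsLocalHom (g₁.comp (IH.incR Ash Bsh Csh)) := RingHom.isLocalHom_comp _ _
      have h := ringHom_ext_of_isStrictHenselization (Localization.AtPrime pC) Csh X
        (g₁.comp (IH.incR Ash Bsh Csh)) (g₂.comp (IH.incR Ash Bsh Csh))
        (by
          apply IsLocalization.ringHom_ext pC.primeCompl
          refine RingHom.ext (fun x => ?_)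
          show g₁ (IH.incR Ash Bsh Csh (algebraMap (Localization.AtPrime pC) Csh
              (algebraMap C (Localization.AtPrime pC) x))) =
            g₂ (IH.incR Ash Bsh Csh (algebraMap (Localization.AtPrime pC) Csh
              (algebraMap C (Localization.AtPrime pC) x)))
          rw [← IsScalarTower.algebraMap_apply C (Localization.AtPrime pC) Csh]
          have h1 : IH.incR Ash Bsh Csh (algebraMap C Csh x) = β ((1 : B) ⊗ₜ[A] x) := by
            rw [hβ, map_one, map_one, one_mul]
          rw [h1, hgβ])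
        (fun x => hres _)
      exact fun x => RingHom.congr_fun h x
  exact bijective_of_epi (Localization.AtPrime pD) Dsh (Bsh ⊗[Ash] Csh) b
    (cW Ash Bsh Csh Dsh).toRingHom hcb hepi

end Groth.Agent.Helper1.TP
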