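import Groth.Agent.Lib.Helper1.CF2
import Groth.Agent.Lib.Helper1.BRN3
import Groth.Agent.Lib.Helper1.TP4

/-!
# The map of strict henselizations induced by `A → Â` is faithfully flat
-/

set_option autoImplicit false

namespace Groth.Agent.Helper1.CF

open IsLocalRing TensorProduct Groth.Agent.Helper1

universe u

/-- a map between two strict henselizations of `R` over `R` is bijective -/
theorem bijective_of_isStrictHenselization (R S₁ S₂ : Type u) [CommRing R] [IsLocalRing R]
    [CommRing S₁] [IsLocalRing S₁] [Algebra R S₁] [IsLocalHom (algebraMap R S₁)]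
    [Hensel.IsStrictHenselization R S₁]
    [CommRing S₂] [IsLocalRing S₂] [Algebra R S₂] [IsLocalHom (algebraMap R S₂)]
    [Hensel.IsStrictHenselization R S₂]
    (g : S₁ →+* S₂) (hg : g.comp (algebraMap R S₁) = algebraMap R S₂) :
    Function.Bijective g := by
  haveI : HenselianLocalRing S₁ := Hensel.IsStrictHenselization.henselian (R := R)
  haveI : IsSepClosed (ResidueField S₁) :=
    (Hensel.IsStrictHenselization.isSepClosure (R := R) (S := S₁)).sep_closed
  haveI hgl : IsLocalHom g :=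
    TP.isLocalHom_of_comp_eq R S₁ R S₂ (RingHom.id R) g (by rw [hg, RingHom.comp_id])
  exact TP.bijective_of_epi R S₂ S₁ (algebraMap R S₁) g hg
    (fun X _ _ g₁ g₂ h1 _ hcomp hres =>
      haveI := h1
      TP.ringHom_ext_of_isStrictHenselization R S₁ X g₁ g₂ hcomp hres)

/-- if `B/IB ≅ A/I` then `Bˢʰ/IBˢʰ` is a strict henselization of `A/I` -/
theorem isStrictHenselization_quotient_of_ker (A B T : Type u) [CommRing A] [IsLocalRing A]
    [CommRing B] [IsLocalRing B] [Algebra A B] [CommRing T] [IsLocalRing T] [Algebra B T]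
    [IsLocalHom (algebraMap B T)] [Hensel.IsStrictHenselization B T] [Algebra A T]
    [IsScalarTower A B T] (I : Ideal A) (hI : I ≠ ⊤)
    (π : B →+* A ⧸ I) (hπ1 : ∀ a, π (algebraMap A B a) = Ideal.Quotient.mk I a)
    (hπ2 : RingHom.ker π = I.map (algebraMap A B)) :
    letI : Algebra (A ⧸ I) (T ⧸ I.map (algebraMap A T)) :=
      (Ideal.quotientMap (I.map (algebraMap A T)) (algebraMap A T) Ideal.le_comap_map).toAlgebra
    ∃ (_ : IsLocalRing (A ⧸ I)) (_ : IsLocalRing (T ⧸ I.map (algebraMap A T)))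
      (_ : IsLocalHom (algebraMap (A ⧸ I) (T ⧸ I.map (algebraMap A T)))),
      Hensel.IsStrictHenselization (A ⧸ I) (T ⧸ I.map (algebraMap A T)) := by
  letI : Algebra (A ⧸ I) (T ⧸ I.map (algebraMap A T)) :=
    (Ideal.quotientMap (I.map (algebraMap A T)) (algebraMap A T) Ideal.le_comap_map).toAlgebra
  haveI : Nontrivial (A ⧸ I) := Ideal.Quotient.nontrivial_iff.mpr hI
  have hmap : (I.map (algebraMap A B)).map (algebraMap B T) = I.map (algebraMap A T) := by
    rw [Ideal.map_map, ← IsScalarTower.algebraMap_eq]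
  have hkerle : RingHom.ker π ≤ maximalIdeal B :=
    IsLocalRing.le_maximalIdeal (RingHom.ker_ne_top π)
  have hIT : I.map (algebraMap A T) ≠ ⊤ := by
    rw [← hmap, ← hπ2]
    intro htop
    have h1 : (RingHom.ker π).map (algebraMap B T) ≤ maximalIdeal T := by
      rw [Ideal.map_le_iff_le_comap, IsLocalRing.maximalIdeal_comap]
      exact hkerle
    rw [htop] at h1
    exact (maximalIdeal.isMaximal T).ne_top (top_le_iff.mp h1)
  haveI : Nontrivial (T ⧸ I.map (algebraMap A T)) := Ideal.Quotient.nontrivial_iff.mpr hIT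
  haveI hlR : IsLocalRing (A ⧸ I) :=
    IsLocalRing.of_surjective' (Ideal.Quotient.mk _) Ideal.Quotient.mk_surjective
  haveI hlS : IsLocalRing (T ⧸ I.map (algebraMap A T)) :=
    IsLocalRing.of_surjective' (Ideal.Quotient.mk _) Ideal.Quotient.mk_surjective
  have hπsurj : Function.Surjective π := by
    intro y
    obtain ⟨a, rfl⟩ := Ideal.Quotient.mk_surjective y
    exact ⟨algebraMap A B a, hπ1 a⟩
  have hcomm : ∀ r : B, Ideal.Quotient.mk (I.map (algebraMap A T)) (algebraMap B T r) =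
      algebraMap (A ⧸ I) (T ⧸ I.map (algebraMap A T)) (π r) := by
    intro r
    obtain ⟨a, ha⟩ := Ideal.Quotient.mk_surjective (π r)
    have h1 : r - algebraMap A B a ∈ RingHom.ker π := by
      rw [RingHom.mem_ker, map_sub, hπ1, ha, sub_self]
    rw [hπ2] at h1
    have h2 : algebraMap B T (r - algebraMap A B a) ∈ I.map (algebraMap A T) := by
      rw [← hmap]
      exact Ideal.mem_map_of_mem _ h1
    rw [← ha]
    show _ = Ideal.quotientMap _ (algebraMap A T) _ (Ideal.Quotient.mk I a)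
    rw [Ideal.quotientMap_mk, IsScalarTower.algebraMap_apply A B T a, Ideal.Quotient.eq,
      ← map_sub]
    exact h2
  obtain ⟨hlh, hH⟩ := UB.isStrictHenselization_of_surjective B T (A ⧸ I)
    (T ⧸ I.map (algebraMap A T)) π hπsurj
    (Ideal.Quotient.mk (I.map (algebraMap A T))) Ideal.Quotient.mk_surjective
    hcomm (by rw [Ideal.mk_ker, hπ2, hmap])
  exact ⟨hlR, hlS, hlh, hH⟩

section Step

variable (A B : Type u) [CommRing A] [IsLocalRing A] [CommRing B] [IsLocalRing B] [Algebra A B]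
  [IsLocalHom (algebraMap A B)]
  (Ash Bsh : Type u) [CommRing Ash] [IsLocalRing Ash] [Algebra A Ash]
  [IsLocalHom (algebraMap A Ash)] [Hensel.IsStrictHenselization A Ash]
  [CommRing Bsh] [IsLocalRing Bsh] [Algebra B Bsh] [IsLocalHom (algebraMap B Bsh)]
  [Hensel.IsStrictHenselization B Bsh] [Algebra A Bsh] [IsScalarTower A B Bsh]
  (ρ : Ash →+* Bsh) (hρ : ρ.comp (algebraMap A Ash) = algebraMap A Bsh)

include hρ in
theorem quotient_step (I : Ideal A) (hI : I ≠ ⊤)
    (π : B →+* A ⧸ I) (hπ1 : ∀ a, π (algebraMap A B a) = Ideal.Quotient.mk I a)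
    (hπ2 : RingHom.ker π = I.map (algebraMap A B)) :
    (∀ t : Bsh, ∃ r : Ash, t - ρ r ∈ I.map (algebraMap A Bsh)) ∧
      (∀ r : Ash, ρ r ∈ I.map (algebraMap A Bsh) → r ∈ I.map (algebraMap A Ash)) := by
  have hρA : ∀ a : A, ρ (algebraMap A Ash a) = algebraMap A Bsh a :=
    fun a => RingHom.congr_fun hρ a
  obtain ⟨hlR, hlS, hlh, hH⟩ := BRN.isStrictHenselization_quotient_map A Ash I hI
  obtain ⟨_, hlT, hlh', hH'⟩ := isStrictHenselization_quotient_of_ker A B Bsh I hI π hπ1 hπ2
  letI alg1 : Algebra (A ⧸ I) (Ash ⧸ I.map (algebraMap A Ash)) :=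
    (Ideal.quotientMap (I.map (algebraMap A Ash)) (algebraMap A Ash) Ideal.le_comap_map).toAlgebra
  letI alg2 : Algebra (A ⧸ I) (Bsh ⧸ I.map (algebraMap A Bsh)) :=
    (Ideal.quotientMap (I.map (algebraMap A Bsh)) (algebraMap A Bsh) Ideal.le_comap_map).toAlgebra
  haveI := hlR
  haveI := hlS
  haveI := hlT
  haveI := hlh
  haveI := hlh'
  haveI := hH
  haveI := hH'
  have hle : I.map (algebraMap A Ash) ≤ (I.map (algebraMap A Bsh)).comap ρ := by
    rw [← Ideal.map_le_iff_le_comap, Ideal.map_map, hρ]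
  have hρn : (Ideal.quotientMap (I.map (algebraMap A Bsh)) ρ hle).comp
      (algebraMap (A ⧸ I) (Ash ⧸ I.map (algebraMap A Ash))) =
      algebraMap (A ⧸ I) (Bsh ⧸ I.map (algebraMap A Bsh)) := by
    refine Ideal.Quotient.ringHom_ext (RingHom.ext (fun a => ?_))
    show Ideal.quotientMap (I.map (algebraMap A Bsh)) ρ hle
        (Ideal.quotientMap (I.map (algebraMap A Ash)) (algebraMap A Ash) Ideal.le_comap_map
          (Ideal.Quotient.mk I a)) =
      Ideal.quotientMap (I.map (algebraMap A Bsh)) (algebraMap A Bsh) Ideal.le_comap_map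
        (Ideal.Quotient.mk I a)
    rw [Ideal.quotientMap_mk, Ideal.quotientMap_mk, Ideal.quotientMap_mk, hρA]
  have hbij := bijective_of_isStrictHenselization (A ⧸ I) _ _
    (Ideal.quotientMap (I.map (algebraMap A Bsh)) ρ hle) hρn
  refine ⟨fun t => ?_, fun r hr => ?_⟩
  · obtain ⟨y, hy⟩ := hbij.2 (Ideal.Quotient.mk _ t)
    obtain ⟨r, rfl⟩ := Ideal.Quotient.mk_surjective y
    refine ⟨r, ?_⟩
    rw [Ideal.quotientMap_mk, Ideal.Quotient.eq] at hy
    have := (Ideal.neg_mem_iff _).mpr hy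
    rwa [neg_sub] at this
  · have h1 : Ideal.quotientMap (I.map (algebraMap A Bsh)) ρ hle (Ideal.Quotient.mk _ r) = 0 := by
      rw [Ideal.quotientMap_mk, Ideal.Quotient.eq_zero_iff_mem]
      exact hr
    have h2 : Ideal.Quotient.mk (I.map (algebraMap A Ash)) r = 0 :=
      hbij.1 (h1.trans (map_zero _).symm)
    exact Ideal.Quotient.eq_zero_iff_mem.mp h2

end Step

section Main

variable (A B : Type u) [CommRing A] [IsLocalRing A] [IsNoetherianRing A] [CommRing B]
  [IsLocalRing B] [IsNoetherianRing B] [Algebra A B] [IsLocalHom (algebraMap A B)]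
  (Ash Bsh : Type u) [CommRing Ash] [IsLocalRing Ash] [Algebra A Ash]
  [IsLocalHom (algebraMap A Ash)] [Hensel.IsStrictHenselization A Ash]
  [CommRing Bsh] [IsLocalRing Bsh] [Algebra B Bsh] [IsLocalHom (algebraMap B Bsh)]
  [Hensel.IsStrictHenselization B Bsh]
  (ρ : Ash →+* Bsh) (hρ : ρ.comp (algebraMap A Ash) = (algebraMap B Bsh).comp (algebraMap A B))
  (hB : ∀ n : ℕ, 0 < n → ∃ π : B →+* A ⧸ maximalIdeal A ^ n,
    (∀ a, π (algebraMap A B a) = Ideal.Quotient.mk _ a) ∧
      RingHom.ker π = (maximalIdeal A ^ n).map (algebraMap A B))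

include hρ hB in
/-- if `A → B` induces isomorphisms `A/𝔪ⁿ ≅ B/𝔪ⁿB` then `Aˢʰ → Bˢʰ` is faithfully flat -/
theorem faithfullyFlat_rho : letI := ρ.toAlgebra; Module.FaithfullyFlat Ash Bsh := by
  letI algρ : Algebra Ash Bsh := ρ.toAlgebra
  letI algABsh : Algebra A Bsh := ((algebraMap B Bsh).comp (algebraMap A B)).toAlgebra
  haveI : IsScalarTower A B Bsh := IsScalarTower.of_algebraMap_eq (fun _ => rfl)
  haveI : IsNoetherianRing Ash :=
    (HFlat.isNoetherianRing_iff_of_isStrictHenselization A Ash).mp inferInstance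
  haveI : IsNoetherianRing Bsh :=
    (HFlat.isNoetherianRing_iff_of_isStrictHenselization B Bsh).mp inferInstance
  haveI hρl : IsLocalHom ρ := TP.isLocalHom_of_comp_eq A Ash B Bsh (algebraMap A B) ρ hρ
  haveI : IsLocalHom (algebraMap Ash Bsh) := hρl
  have hρ' : ρ.comp (algebraMap A Ash) = algebraMap A Bsh := hρ
  have hmapρ : ∀ n : ℕ, (maximalIdeal Ash ^ n).map ρ =
      (maximalIdeal A ^ n).map (algebraMap A Bsh) := by
    intro n
    rw [← SHzn.map_maximalIdeal_eq_of_isStrictHenselization A Ash, ← Ideal.map_pow,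
      Ideal.map_map, hρ']
  have hmem : ∀ (n : ℕ) (x : Bsh), x ∈ (maximalIdeal Ash ^ n) • (⊤ : Submodule Ash Bsh) ↔
      x ∈ (maximalIdeal A ^ n).map (algebraMap A Bsh) := by
    intro n x
    rw [Ideal.smul_top_eq_map, Submodule.restrictScalars_mem]
    show x ∈ (maximalIdeal Ash ^ n).map ρ ↔ _
    rw [hmapρ]
  have h0 : (maximalIdeal Ash).map ρ ≤ maximalIdeal Bsh :=
    ((IsLocalRing.local_hom_TFAE ρ).out 0 2).mp hρl
  haveI : Module.Flat Ash Bsh := by
    refine flat_of_flat_quotient_pow (R := Ash) (S := Bsh) (M := Bsh) (maximalIdeal Ash) ?_ ?_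
    · rw [IsLocalRing.jacobson_eq_maximalIdeal ⊥ bot_ne_top]
      exact h0
    · intro n hn
      have hI : maximalIdeal A ^ n ≠ ⊤ := by
        intro htop
        have h1 : maximalIdeal A ^ n ≤ maximalIdeal A := Ideal.pow_le_self hn.ne'
        rw [htop] at h1
        exact (maximalIdeal.isMaximal A).ne_top (top_le_iff.mp h1)
      obtain ⟨π, hπ1, hπ2⟩ := hB n hn
      obtain ⟨hC1, hC2⟩ := quotient_step A B Ash Bsh ρ hρ' (maximalIdeal A ^ n) hI π hπ1 hπ2
      refine flat_quotient_tensor_of_cyclic (maximalIdeal Ash ^ n) (1 : Bsh) ?_ ?_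
      · intro t
        obtain ⟨r, hr⟩ := hC1 t
        refine ⟨r, ?_⟩
        rw [hmem, Algebra.smul_def, mul_one]
        exact hr
      · intro r hr
        rw [hmem, Algebra.smul_def, mul_one] at hr
        have := hC2 r hr
        rwa [Ideal.map_pow, SHzn.map_maximalIdeal_eq_of_isStrictHenselization A Ash] at this
  exact Module.FaithfullyFlat.of_flat_of_isLocalHom

end Main

end Groth.Agent.Helper1.CF
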