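import Groth.Agent.Lib.Helper1.CF3

/-!
# Geometric branches of a Noetherian local ring and of its completion
-/

set_option autoImplicit false

namespace Groth.Agent.Helper1.CF

open IsLocalRing TensorProduct Groth.Agent.Helper1

universe u

/-- a map `Aˢʰ → Bˢʰ` over a local map `A → B` -/
theorem exists_rho (A B S T : Type u) [CommRing A] [IsLocalRing A] [CommRing B] [IsLocalRing B]
    [Algebra A B] [IsLocalHom (algebraMap A B)]
    [CommRing S] [IsLocalRing S] [Algebra A S] [IsLocalHom (algebraMap A S)]
    [Hensel.IsStrictHenselization A S]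
    [CommRing T] [IsLocalRing T] [Algebra B T] [IsLocalHom (algebraMap B T)]
    [Hensel.IsStrictHenselization B T] : ∃ v : S →+* T,
    v.comp (algebraMap A S) = (algebraMap B T).comp (algebraMap A B) := by
  haveI hT : HenselianLocalRing T := Hensel.IsStrictHenselization.henselian (R := B)
  haveI : IsSepClosed (ResidueField T) :=
    (Hensel.IsStrictHenselization.isSepClosure (R := B) (S := T)).sep_closed
  haveI : Algebra.IsSeparable (ResidueField A) (ResidueField S) :=
    (Hensel.IsStrictHenselization.isSepClosure (R := A) (S := S)).separable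
  haveI hloc : IsLocalHom ((algebraMap B T).comp (algebraMap A B)) :=
    RingHom.isLocalHom_comp _ _
  letI : Algebra (ResidueField A) (ResidueField T) :=
    (ResidueField.map ((algebraMap B T).comp (algebraMap A B))).toAlgebra
  let τ₀ : ResidueField S →ₐ[ResidueField A] ResidueField T := IsSepClosed.lift
  obtain ⟨v, ⟨hv, -⟩, -⟩ := Hensel.IsStrictHenselization.universal (R := A) (S := S) T
    ((algebraMap B T).comp (algebraMap A B)) (τ₀ : ResidueField S →+* ResidueField T)
    τ₀.comp_algebraMap
  exact ⟨v, hv⟩

section Completion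

variable (A : Type u) [CommRing A] [IsLocalRing A] [IsNoetherianRing A]

theorem exists_pi (n : ℕ) :
    ∃ π : AdicCompletion (maximalIdeal A) A →+* A ⧸ maximalIdeal A ^ n,
      (∀ a, π (algebraMap A (AdicCompletion (maximalIdeal A) A) a) = Ideal.Quotient.mk _ a) ∧
        RingHom.ker π =
          (maximalIdeal A ^ n).map (algebraMap A (AdicCompletion (maximalIdeal A) A)) := by
  refine ⟨(AdicCompletion.evalₐ (maximalIdeal A) n).toRingHom, fun a => ?_, ?_⟩
  · show AdicCompletion.evalₐ (maximalIdeal A) n (algebraMap A _ a) = _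
    rw [AlgHom.commutes]
    rfl
  · ext x
    rw [RingHom.mem_ker, mem_map_pow_iff]
    show AdicCompletion.evalₐ (maximalIdeal A) n x = 0 ↔ _
    have h1 : (maximalIdeal A ^ n • ⊤ : Ideal A) = maximalIdeal A ^ n := by
      rw [smul_eq_mul, Ideal.mul_top]
    constructor
    · intro h
      rw [← AdicCompletion.factor_evalₐ_eq_eval (maximalIdeal A) x h1.ge, h, map_zero]
    · intro h
      rw [← AdicCompletion.factor_eval_eq_evalₐ (maximalIdeal A) x h1.le, h, map_zero]

theorem numGeomBranches_le_completion :
    Brnch.numGeomBranches A ≤ Brnch.numGeomBranches (AdicCompletion (maximalIdeal A) A) := by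
  haveI := SHzn.isStrictHenselization A
  haveI := SHzn.isStrictHenselization (AdicCompletion (maximalIdeal A) A)
  haveI : IsNoetherianRing (AdicCompletion (maximalIdeal A) A) :=
    Groth.Agent.S0543.result A (maximalIdeal A)
  obtain ⟨ρ, hρ⟩ := exists_rho A (AdicCompletion (maximalIdeal A) A) (SHzn.S A)
    (SHzn.S (AdicCompletion (maximalIdeal A) A))
  letI := ρ.toAlgebra
  haveI := faithfullyFlat_rho A (AdicCompletion (maximalIdeal A) A) (SHzn.S A)
    (SHzn.S (AdicCompletion (maximalIdeal A) A)) ρ hρ (fun n _ => exists_pi A n)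
  rw [← GB.card_minimalPrimes_eq_numGeomBranches A (SHzn.S A),
    ← GB.card_minimalPrimes_eq_numGeomBranches (AdicCompletion (maximalIdeal A) A)
      (SHzn.S (AdicCompletion (maximalIdeal A) A))]
  exact card_le_of_surjOn (DM.surjOn_comap_minimalPrimes (SHzn.S A)
    (SHzn.S (AdicCompletion (maximalIdeal A) A)))

end Completion

end Groth.Agent.Helper1.CF
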