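import Mathlib
import Groth.Prelude.Def_EtCech
import Groth.Agent.Lib.Helper1.CH1
import Groth.Agent.Lib.Helper1.ES4

/-!
# Čech complexes and product-preserving functors; Čech-flasque sheaves and direct image (helper1, CHP1)
-/

universe w v u v' u'
set_option linter.unusedSectionVars false
set_option autoImplicit false
set_option linter.style.haveILetI false
open CategoryTheory CategoryTheory.Limits Opposite

namespace Groth.Agent.Helper1.CE

section Push
variable {D : Type u} [Category.{v} D] [HasFiniteProducts D]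
  {D' : Type u'} [Category.{v'} D'] [HasFiniteProducts D']
  (G : D ⥤ D') [PreservesFiniteProducts G]
  {ι : Type w} (Y : ι → D) (Q : D'ᵒᵖ ⥤ AddCommGrpCat.{w})

/-- the image family -/
abbrev GY : ι → D' := fun i => G.obj (Y i)

/-- image of a tuple -/
def mapσ {n : ℕ} {T : D} (σ : Fin (n+1) → Sg Y T) : Fin (n+1) → Sg (GY G Y) (G.obj T) :=
  fun k => ⟨(σ k).1, G.map (σ k).2⟩

/-- comparison on one component -/
noncomputable def psiC {n : ℕ} (b : Fin (n+1) → ι) :
    Q.obj (op (∏ᶜ (GY G Y ∘ b))) ⟶ (G.op ⋙ Q).obj (op (∏ᶜ (Y ∘ b))) :=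
  Q.map (piComparison G (Y ∘ b)).op

instance {n : ℕ} (b : Fin (n+1) → ι) : IsIso (psiC G Y Q b) :=
  (inferInstance : IsIso (Q.map (piComparison G (Y ∘ b)).op))

/-- comparison in degree `n` -/
noncomputable def psiF (n : ℕ) : (cech (GY G Y) Q).X n ⟶ (cech Y (G.op ⋙ Q)).X n :=
  Limits.Pi.map (fun b : Fin (n+1) → ι => psiC G Y Q b)

lemma psi_ev {n : ℕ} (T : D) (σ : Fin (n+1) → Sg Y T) :
    psiF G Y Q n ≫ ev Y (G.op ⋙ Q) T σ = ev (GY G Y) Q (G.obj T) (mapσ G Y σ) := by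
  unfold psiF ev
  erw [Limits.Pi.map_π_assoc]
  unfold psiC
  have key : G.map (Pi.lift (fun k => (σ k).2) : T ⟶ ∏ᶜ (Y ∘ fun k => (σ k).1)) ≫
      piComparison G (Y ∘ fun k => (σ k).1) = Pi.lift (fun k => G.map (σ k).2) :=
    map_lift_piComparison G _ _ _
  have key' : Q.map (piComparison G (Y ∘ fun k => (σ k).1)).op ≫
      (G.op ⋙ Q).map (Pi.lift (fun k => (σ k).2) : T ⟶ ∏ᶜ (Y ∘ fun k => (σ k).1)).op =
      Q.map (Pi.lift (fun k => (mapσ G Y σ k).2) :
        G.obj T ⟶ ∏ᶜ (GY G Y ∘ fun k => (mapσ G Y σ k).1)).op :=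
    (Q.map_comp _ _).symm.trans (congrArg (fun m => Q.map (Quiver.Hom.op m)) key)
  exact congrArg (CategoryStruct.comp (Pi.π (fun a : Fin (n+1) → ι =>
    Q.obj (op (∏ᶜ (GY G Y ∘ a)))) (fun k => (σ k).1))) key'

/-- the comparison chain map -/
noncomputable def psi : cech (GY G Y) Q ⟶ cech Y (G.op ⋙ Q) where
  f n := psiF G Y Q n
  comm' := by
    intro i j hij
    obtain rfl : i + 1 = j := hij
    apply hom_ext Y (G.op ⋙ Q)
    intro T σ
    rw [Category.assoc, Category.assoc, d_ev, psi_ev, Preadditive.comp_sum, d_ev]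
    refine Finset.sum_congr rfl fun k _ => ?_
    rw [Preadditive.comp_zsmul, psi_ev]
    rfl

theorem isZero_homology_of_map (p : ℕ) (h : IsZero ((cech (GY G Y) Q).homology p)) :
    IsZero ((cech Y (G.op ⋙ Q)).homology p) := by
  haveI : ∀ n, IsIso ((psi G Y Q).f n) := fun n =>
    (Limits.Pi.map_isIso (fun b : Fin (n+1) → ι => psiC G Y Q b) :
      IsIso (Limits.Pi.map (fun b : Fin (n+1) → ι => psiC G Y Q b)))
  haveI : IsIso (psi G Y Q) := HomologicalComplex.Hom.isIso_of_components _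
  exact IsZero.of_iso h
    ((HomologicalComplex.homologyFunctor _ _ p).mapIso (asIso (psi G Y Q))).symm

end Push

section Etale
open AlgebraicGeometry

theorem main14626 {X Y : Scheme.{u}} (f : X ⟶ Y)
    [∀ U : X.Etale, HasFiniteProducts (Over U)] [∀ V : Y.Etale, HasFiniteProducts (Over V)]
    (F : EtCoh.Ab X)
    (hF : ∀ (U : X.Etale) (ι : Type (u + 1)) (Uf : ι → Over U),
      (∀ x : ↥(U.left), ∃ (i : ι) (y : ↥((Uf i).left.left)), (Uf i).hom.left.base y = x) →
      ∀ p : ℕ, 0 < p → IsZero (EtCech.cechH Uf F.obj p))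
    (V : Y.Etale) (ι : Type (u + 1)) (Vf : ι → Over V)
    (hV : ∀ x : ↥(V.left), ∃ (i : ι) (y : ↥((Vf i).left.left)), (Vf i).hom.left.base y = x)
    (p : ℕ) (hp : 0 < p) :
    IsZero (EtCech.cechH Vf ((EtCoh.push f).obj F).obj p) := by
  let G : Over V ⥤ Over ((EtCoh.bc f).obj V) := Over.post (EtCoh.bc f)
  let Q : (Over ((EtCoh.bc f).obj V))ᵒᵖ ⥤ AddCommGrpCat.{u+1} := (Over.forget _).op ⋙ F.obj
  have h1 : IsZero ((cech (GY G Vf) Q).homology p) := by
    refine hF ((EtCoh.bc f).obj V) ι (GY G Vf) ?_ p hp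
    intro x
    obtain ⟨i, y, hy⟩ := hV ((pullback.fst V.hom f : ((EtCoh.bc f).obj V).left ⟶ V.left).base x)
    obtain ⟨z, hz1, -⟩ := ES.exists_preimage_of_isPullback
      (EtCoh.isPullback_bc_map f (Vf i).hom) x y hy.symm
    exact ⟨i, z, hz1⟩
  have h2 := isZero_homology_of_map G Vf Q p h1
  exact h2

end Etale

end Groth.Agent.Helper1.CE
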