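import Mathlib
import Groth.Prelude.Def_CohTop
import Groth.Agent.Lib.Helper1.CHP1
import Groth.Agent.S0455

/-!
# Čech vanishing for sheaves with surjective restrictions to unions of finite intersections
(helper1, CHP2): reduction to the flasque case on the coarse topology generated by the cover.
-/

universe w v u v' u'
set_option linter.unusedSectionVars false
set_option autoImplicit false
set_option linter.style.haveILetI false
open CategoryTheory CategoryTheory.Limits Opposite TopologicalSpace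

namespace Groth.Agent.Helper1.CE

namespace NE

section Push
variable {D : Type u} [Category.{v} D] [HasFiniteProducts D]
  {D' : Type u'} [Category.{v'} D'] [HasFiniteProducts D']
  (G : D ⥤ D') [∀ n : ℕ, PreservesLimitsOfShape (Discrete (Fin (n+1))) G]
  {ι : Type w} (Y : ι → D) (Q : D'ᵒᵖ ⥤ AddCommGrpCat.{w})

/-- image of a tuple -/
def mapσ {n : ℕ} {T : D} (σ : Fin (n+1) → Sg Y T) :
    Fin (n+1) → Sg (fun i => G.obj (Y i)) (G.obj T) :=
  fun k => ⟨(σ k).1, G.map (σ k).2⟩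

/-- comparison on one component -/
noncomputable def psiC {n : ℕ} (b : Fin (n+1) → ι) :
    Q.obj (op (∏ᶜ ((fun i => G.obj (Y i)) ∘ b))) ⟶ (G.op ⋙ Q).obj (op (∏ᶜ (Y ∘ b))) :=
  Q.map (piComparison G (Y ∘ b)).op

instance {n : ℕ} (b : Fin (n+1) → ι) : IsIso (psiC G Y Q b) :=
  (inferInstance : IsIso (Q.map (piComparison G (Y ∘ b)).op))

/-- comparison in degree `n` -/
noncomputable def psiF (n : ℕ) :
    (cech (fun i => G.obj (Y i)) Q).X n ⟶ (cech Y (G.op ⋙ Q)).X n :=
  Limits.Pi.map (fun b : Fin (n+1) → ι => psiC G Y Q b)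

lemma psi_ev {n : ℕ} (T : D) (σ : Fin (n+1) → Sg Y T) :
    psiF G Y Q n ≫ ev Y (G.op ⋙ Q) T σ =
      ev (fun i => G.obj (Y i)) Q (G.obj T) (mapσ G Y σ) := by
  unfold psiF ev
  erw [Limits.Pi.map_π_assoc]
  unfold psiC
  have key : G.map (Pi.lift (fun k => (σ k).2) : T ⟶ ∏ᶜ (Y ∘ fun k => (σ k).1)) ≫
      piComparison G (Y ∘ fun k => (σ k).1) = Pi.lift (fun k => G.map (σ k).2) :=
    map_lift_piComparison G _ _ _
  have key' : Q.map (piComparison G (Y ∘ fun k => (σ k).1)).op ≫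
      (G.op ⋙ Q).map (Pi.lift (fun k => (σ k).2) : T ⟶ ∏ᶜ (Y ∘ fun k => (σ k).1)).op =
      Q.map (Pi.lift (fun k => (mapσ G Y σ k).2) :
        G.obj T ⟶ ∏ᶜ ((fun i => G.obj (Y i)) ∘ fun k => (mapσ G Y σ k).1)).op :=
    (Q.map_comp _ _).symm.trans (congrArg (fun m => Q.map (Quiver.Hom.op m)) key)
  exact congrArg (CategoryStruct.comp (Pi.π (fun a : Fin (n+1) → ι =>
    Q.obj (op (∏ᶜ ((fun i => G.obj (Y i)) ∘ a)))) (fun k => (σ k).1))) key'

/-- the comparison chain map -/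
noncomputable def psi : cech (fun i => G.obj (Y i)) Q ⟶ cech Y (G.op ⋙ Q) where
  f n := psiF G Y Q n
  comm' := by
    intro i j hij
    obtain rfl : i + 1 = j := hij
    apply hom_ext Y (G.op ⋙ Q)
    intro T σ
    rw [Category.assoc, Category.assoc, d_ev, psi_ev, Preadditive.comp_sum, d_ev]
    refine Finset.sum_congr rfl fun k _ => ?_
    rw [Preadditive.comp_zsmul, psi_ev]
    rfl

theorem isIso_psi : IsIso (psi G Y Q) := by
  haveI : ∀ n, IsIso ((psi G Y Q).f n) := fun n =>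
    (Limits.Pi.map_isIso (fun b : Fin (n+1) → ι => psiC G Y Q b) :
      IsIso (Limits.Pi.map (fun b : Fin (n+1) → ι => psiC G Y Q b)))
  exact HomologicalComplex.Hom.isIso_of_components _

theorem isZero_homology_of_map (p : ℕ)
    (h : IsZero ((cech (fun i => G.obj (Y i)) Q).homology p)) :
    IsZero ((cech Y (G.op ⋙ Q)).homology p) := by
  haveI := isIso_psi G Y Q
  exact IsZero.of_iso h
    ((HomologicalComplex.homologyFunctor _ _ p).mapIso (asIso (psi G Y Q))).symm

theorem isZero_homology_of_map' (p : ℕ) (h : IsZero ((cech Y (G.op ⋙ Q)).homology p)) :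
    IsZero ((cech (fun i => G.obj (Y i)) Q).homology p) := by
  haveI := isIso_psi G Y Q
  exact IsZero.of_iso h
    ((HomologicalComplex.homologyFunctor _ _ p).mapIso (asIso (psi G Y Q)))

end Push

end NE

section Top

variable {X : TopCat.{u}} {ι : Type u} (U : ι → Opens X)

/-- coarse topology on `⨆ U` generated by the `U i` -/
def coarseTop : TopologicalSpace ↥(iSup U : Opens X) where
  IsOpen W := ∀ y ∈ W, ∃ l : List ι, l ≠ [] ∧ (∀ i ∈ l, (y : X) ∈ U i) ∧
    ∀ z : ↥(iSup U : Opens X), (∀ i ∈ l, (z : X) ∈ U i) → z ∈ W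
  isOpen_univ := by
    intro y _
    obtain ⟨i, hi⟩ := Opens.mem_iSup.1 y.2
    exact ⟨[i], by simp, by simpa using hi, fun z _ => Set.mem_univ z⟩
  isOpen_inter := by
    intro s t hs ht y hy
    obtain ⟨l₁, h1, h2, h3⟩ := hs y hy.1
    obtain ⟨l₂, g1, g2, g3⟩ := ht y hy.2
    refine ⟨l₁ ++ l₂, by simp [h1], ?_, ?_⟩
    · intro i hi
      rcases List.mem_append.1 hi with h | h
      · exact h2 i h
      · exact g2 i h
    · intro z hz
      exact ⟨h3 z (fun i hi => hz i (List.mem_append_left _ hi)),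
        g3 z (fun i hi => hz i (List.mem_append_right _ hi))⟩
  isOpen_sUnion := by
    intro S hS y hy
    obtain ⟨t, htS, hyt⟩ := hy
    obtain ⟨l, h1, h2, h3⟩ := hS t htS y hyt
    exact ⟨l, h1, h2, fun z hz => ⟨t, htS, h3 z hz⟩⟩

/-- the coarse space -/
def Xc : TopCat.{u} := @TopCat.of ↥(iSup U : Opens X) (coarseTop U)

/-- points of the coarse space as points of the open subspace -/
def toSub (y : ↑(Xc U)) : ↥(iSup U : Opens X) := y

lemma isOpen_Xc_iff (W : Set ↑(Xc U)) : IsOpen W ↔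
    ∀ y ∈ W, ∃ l : List ι, l ≠ [] ∧ (∀ i ∈ l, (toSub U y : X) ∈ U i) ∧
      ∀ z : ↥(iSup U : Opens X), (∀ i ∈ l, (z : X) ∈ U i) → z ∈ W := Iff.rfl

/-- the identity as a continuous map from the subspace to the coarse space -/
def phi : (Opens.toTopCat X).obj (iSup U) ⟶ Xc U :=
  TopCat.ofHom (X := (Opens.toTopCat X).obj (iSup U)) (Y := Xc U)
    { toFun := fun y => y
      continuous_toFun := by
        refine ⟨fun W hW => ?_⟩
        rw [isOpen_Xc_iff] at hW
        refine isOpen_iff_forall_mem_open.2 (fun y hy => ?_)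
        obtain ⟨l, -, h2, h3⟩ := hW y hy
        refine ⟨⋂ i ∈ {i | i ∈ l}, Subtype.val ⁻¹' (U i : Set X), ?_, ?_, ?_⟩
        · intro z hz
          exact h3 z (fun i hi => Set.mem_iInter₂.1 hz i hi)
        · exact Set.Finite.isOpen_biInter (List.finite_toSet l)
            (fun i _ => (U i).isOpen.preimage continuous_subtype_val)
        · exact Set.mem_iInter₂.2 (fun i hi => h2 i hi) }

/-- the functor from opens of the coarse space to opens of `X` -/
noncomputable def Theta : Opens ↑(Xc U) ⥤ Opens ↑X :=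
  Opens.map (phi U) ⋙ (iSup U).isOpenEmbedding.functor

lemma mem_Theta (W : Opens ↑(Xc U)) (x : X) :
    x ∈ (Theta U).obj W ↔ ∃ z : ↥(iSup U : Opens X), z ∈ (W : Set ↑(Xc U)) ∧ (z : X) = x :=
  Iff.rfl

lemma Theta_le (W : Opens ↑(Xc U)) : (Theta U).obj W ≤ iSup U := by
  intro x hx
  obtain ⟨z, -, rfl⟩ := (mem_Theta U W x).1 hx
  exact z.2

instance (n : ℕ) : PreservesLimitsOfShape (Discrete (Fin (n+1))) (Theta U) := by
  unfold Theta
  haveI : PreservesFiniteLimits (Opens.map (phi U)) := preservesFiniteLimits_of_flat _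
  infer_instance

/-- the members of the cover as opens of the coarse space -/
def Up (i : ι) : Opens ↑(Xc U) :=
  ⟨{z : ↥(iSup U : Opens X) | (z : X) ∈ U i}, by
    rw [isOpen_Xc_iff]
    intro y hy
    exact ⟨[i], by simp, fun i' hi' => by
      obtain rfl := List.mem_singleton.1 hi'
      exact hy, fun z hz => hz i (by simp)⟩⟩

lemma Theta_Up (i : ι) : (Theta U).obj (Up U i) = U i := by
  ext x
  constructor
  · intro hx
    obtain ⟨z, hz, rfl⟩ := (mem_Theta U _ _).1 hx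
    exact hz
  · intro hx
    exact (mem_Theta U _ _).2 ⟨⟨x, Opens.mem_iSup.2 ⟨i, hx⟩⟩, hx, rfl⟩

lemma exists_tup (W : Opens ↑(Xc U)) :
    ∃ (κ : Type u) (a : κ → Σ p : ℕ, Fin (p + 1) → ι),
      (Theta U).obj W = ⨆ k, ⨅ j, U ((a k).2 j) := by
  have H : ∀ k : ↥(W : Set ↑(Xc U)), ∃ (p : ℕ) (b : Fin (p+1) → ι),
      (∀ j, (toSub U k.1 : X) ∈ U (b j)) ∧
      ∀ z : ↥(iSup U : Opens X), (∀ j, (z : X) ∈ U (b j)) → z ∈ (W : Set ↑(Xc U)) := by
    intro k
    obtain ⟨l, h1, h2, h3⟩ := (isOpen_Xc_iff U _).1 W.isOpen k.1 k.2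
    obtain ⟨i, l', rfl⟩ := List.exists_cons_of_ne_nil h1
    refine ⟨l'.length, fun j => (i :: l').get j, ?_, ?_⟩
    · intro j
      exact h2 _ (List.get_mem _ _)
    · intro z hz
      apply h3
      intro i' hi'
      obtain ⟨n, hn⟩ := List.mem_iff_get.1 hi'
      rw [← hn]
      exact hz n
  choose p b hb1 hb2 using H
  refine ⟨↥(W : Set ↑(Xc U)), fun k => ⟨p k, b k⟩, ?_⟩
  ext x
  constructor
  · intro hx
    obtain ⟨z, hz, rfl⟩ := (mem_Theta U _ _).1 hx
    refine Opens.mem_iSup.2 ⟨⟨z, hz⟩, ?_⟩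
    rw [← SetLike.mem_coe, Opens.coe_iInf]
    exact Set.mem_iInter.2 (hb1 ⟨z, hz⟩)
  · intro hx
    obtain ⟨k, hk⟩ := Opens.mem_iSup.1 hx
    rw [← SetLike.mem_coe, Opens.coe_iInf] at hk
    have hk' : ∀ j, x ∈ U (b k j) := fun j => Set.mem_iInter.1 hk j
    have hx0 : x ∈ iSup U := Opens.mem_iSup.2 ⟨b k 0, hk' 0⟩
    exact (mem_Theta U _ _).2 ⟨⟨x, hx0⟩, hb2 k ⟨x, hx0⟩ hk', rfl⟩

variable (F : CohTop.Ab X)

/-- the sheaf on the coarse space -/
noncomputable def Fc : CohTop.Ab (Xc U) :=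
  haveI := (iSup U).isOpenEmbedding.functor_isContinuous
  haveI : (Theta U).IsContinuous (Opens.grothendieckTopology ↑(Xc U))
      (Opens.grothendieckTopology ↑X) :=
    Functor.isContinuous_comp (Opens.map (phi U)) (iSup U).isOpenEmbedding.functor
      (Opens.grothendieckTopology ↑(Xc U))
      (Opens.grothendieckTopology ↑((Opens.toTopCat X).obj (iSup U)))
      (Opens.grothendieckTopology ↑X)
  ⟨(Theta U).op ⋙ F.obj, Functor.op_comp_isSheaf (Theta U) _ _ F⟩

lemma surj_of_eq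
    (h : ∀ (κ : Type u) (a : κ → Σ p : ℕ, Fin (p + 1) → ι),
      Function.Surjective (F.obj.map (homOfLE
        (iSup_le fun k => (iInf_le _ ⟨0, Nat.succ_pos _⟩).trans
          (le_iSup U ((a k).2 ⟨0, Nat.succ_pos _⟩)) :
          (⨆ k, ⨅ j, U ((a k).2 j)) ≤ iSup U)).op))
    (V : Opens X) (hV : V ≤ iSup U) (κ : Type u) (a : κ → Σ p : ℕ, Fin (p + 1) → ι)
    (e : V = ⨆ k, ⨅ j, U ((a k).2 j)) :
    Function.Surjective (F.obj.map (homOfLE hV).op) := by
  subst e
  exact h κ a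

theorem flasque
    (h : ∀ (κ : Type u) (a : κ → Σ p : ℕ, Fin (p + 1) → ι),
      Function.Surjective (F.obj.map (homOfLE
        (iSup_le fun k => (iInf_le _ ⟨0, Nat.succ_pos _⟩).trans
          (le_iSup U ((a k).2 ⟨0, Nat.succ_pos _⟩)) :
          (⨆ k, ⨅ j, U ((a k).2 j)) ≤ iSup U)).op)) :
    TopCat.Sheaf.IsFlasque (Fc U F) := by
  constructor
  intro W₁ W₂ i
  rw [AddCommGrpCat.epi_iff_surjective]
  intro t
  obtain ⟨κ, a, ha⟩ := exists_tup U W₂.unop
  have hle₁ := Theta_le U W₁.unop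
  have hle₂ := Theta_le U W₂.unop
  obtain ⟨s, hs⟩ := surj_of_eq U F h _ hle₂ κ a ha t
  refine ⟨(F.obj.map (homOfLE hle₁).op) s, ?_⟩
  have e : (homOfLE hle₁).op ≫ ((Theta U).map i.unop).op = (homOfLE hle₂).op :=
    congrArg Quiver.Hom.op (Subsingleton.elim ((Theta U).map i.unop ≫ homOfLE hle₁) (homOfLE hle₂))
  have e2 : (F.obj.map ((Theta U).map i.unop).op) ((F.obj.map (homOfLE hle₁).op) s) =
      (F.obj.map (homOfLE hle₂).op) s := by
    rw [← ConcreteCategory.comp_apply, ← F.obj.map_comp, e]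
  exact e2.trans hs

theorem main0901
    (h : ∀ (κ : Type u) (a : κ → Σ p : ℕ, Fin (p + 1) → ι),
      Function.Surjective (F.obj.map (homOfLE
        (iSup_le fun k => (iInf_le _ ⟨0, Nat.succ_pos _⟩).trans
          (le_iSup U ((a k).2 ⟨0, Nat.succ_pos _⟩)) :
          (⨆ k, ⨅ j, U ((a k).2 j)) ≤ iSup U)).op)) (p : ℕ) :
    IsZero (CohTop.cechH F.obj U (p + 1)) := by
  haveI := flasque U F h
  have h1 : IsZero (CohTop.cechH (Fc U F).obj (Up U) (p + 1)) :=
    Groth.Agent.S0455.result (Fc U F) (Up U) p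
  have h2 : IsZero ((cech (fun i => (Theta U).obj (Up U i)) F.obj).homology (p + 1)) :=
    NE.isZero_homology_of_map' (Theta U) (Up U) F.obj (p + 1) h1
  have e : (fun i => (Theta U).obj (Up U i)) = U := funext (Theta_Up U)
  exact Eq.mp (congrArg (fun Y : ι → Opens X => IsZero ((cech Y F.obj).homology (p + 1))) e) h2

end Top

end Groth.Agent.Helper1.CE
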