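import Mathlib
import Groth.Prelude.Def_EtCore
import Groth.Agent.Lib.Helper1.SHC5

/-!
# Mono / epi of étale sheaves of sets tested on geometric stalks (helper1)
-/

set_option autoImplicit false
set_option linter.unusedSectionVars false
set_option linter.style.haveILetI false

open CategoryTheory CategoryTheory.Limits AlgebraicGeometry Opposite

namespace Groth.Agent.Helper1.SHC

universe u

variable {X : Scheme.{u}}

theorem mono_iff_stalks_type {F G : Sheaf X.smallEtaleTopology (Type (u + 1))} (v : F ⟶ G) :
    Mono v ↔ ∀ (Ω : Type u) [Field Ω] [IsSepClosed Ω] (ξ : Spec (CommRingCat.of Ω) ⟶ X),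
      Function.Injective (((Scheme.pointSmallEtale ξ).sheafFiber (A := Type (u + 1))).map v) := by
  haveI := preservesFilteredColimits_forget_type.{u}
  constructor
  · intro ha Ω _ _ ξ
    have h1 : ∀ U, Function.Injective (v.hom.app U) := by
      intro U
      haveI h2 : Mono ((sheafToPresheaf _ _).map v) := inferInstance
      haveI h3 : Mono (v.hom.app U) := (NatTrans.mono_iff_mono_app _).1 h2 U
      exact (mono_iff_injective _).1 h3
    haveI := Presheaf.isLocallyInjective_of_injective X.smallEtaleTopology v.hom h1
    exact (Scheme.pointSmallEtale ξ).toPresheafFiber_map_injective v.hom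
  · intro h
    haveI : Sheaf.IsLocallyInjective v := isLocallyInjective_of_stalks v.hom h
    exact Sheaf.mono_of_isLocallyInjective v

theorem epi_iff_stalks_type {F G : Sheaf X.smallEtaleTopology (Type (u + 1))} (v : F ⟶ G) :
    Epi v ↔ ∀ (Ω : Type u) [Field Ω] [IsSepClosed Ω] (ξ : Spec (CommRingCat.of Ω) ⟶ X),
      Function.Surjective (((Scheme.pointSmallEtale ξ).sheafFiber (A := Type (u + 1))).map v) := by
  haveI := preservesFilteredColimits_forget_type.{u}
  constructor
  · intro ha Ω _ _ ξ
    haveI hls : Sheaf.IsLocallySurjective v := (Sheaf.isLocallySurjective_iff_epi v).mpr ha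
    exact (Scheme.pointSmallEtale ξ).toPresheafFiber_map_surjective v.hom
  · intro h
    haveI : Sheaf.IsLocallySurjective v := isLocallySurjective_of_stalks v.hom h
    exact (Sheaf.isLocallySurjective_iff_epi v).mp inferInstance

end Groth.Agent.Helper1.SHC
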