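import Mathlib
import Groth.Prelude.Def_EtCore
import Groth.Prelude.Def_SGA4b
import Groth.Agent.Lib.Helper1.CI7
import Groth.Agent.Lib.Helper1.CI9
import Groth.Agent.Lib.Helper1.SHC7
import Groth.Agent.Lib.Helper1.SHC13

/-!
# Direct image of sheaves of sets along a closed immersion (helper1)
-/

set_option autoImplicit false
set_option linter.unusedSectionVars false
set_option linter.style.haveILetI false

open CategoryTheory CategoryTheory.Limits AlgebraicGeometry Opposite

namespace Groth.Agent.Helper1.CI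

universe u

open Groth.Agent.Helper1.SHC

section

variable {X : Scheme.{u}} {Ω : Type u} [Field Ω] [IsSepClosed Ω]
  (ξ : Spec (CommRingCat.of Ω) ⟶ X)

/-- a stalk is a singleton if sections are singletons on a cofinal family of neighbourhoods -/
theorem unique_presheafFiber_of_local (P : X.Etaleᵒᵖ ⥤ Type (u + 1))
    (h : ∀ (V : X.Etale) (y : (Scheme.pointSmallEtale ξ).fiber.obj V),
      ∃ (V' : X.Etale) (g : V' ⟶ V) (y' : (Scheme.pointSmallEtale ξ).fiber.obj V'),
        (Scheme.pointSmallEtale ξ).fiber.map g y' = y ∧ Nonempty (Unique (P.obj (op V')))) :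
    Nonempty (Unique ((Scheme.pointSmallEtale ξ).presheafFiber.obj P)) := by
  haveI := preservesFilteredColimits_forget_type.{u}
  let y₀ : (Scheme.pointSmallEtale ξ).fiber.obj (EtCoh.top X) :=
    (Over.homMk ξ (Category.comp_id _) : Over.mk ξ ⟶ (Scheme.Etale.forget X).obj (EtCoh.top X))
  obtain ⟨V₀, g₀, y₀', -, ⟨u₀⟩⟩ := h _ y₀
  have hsub : ∀ a b : ToType ((Scheme.pointSmallEtale ξ).presheafFiber.obj P), a = b := by
    intro a b
    obtain ⟨V, y, z₁, z₂, rfl, rfl⟩ :=
      (Scheme.pointSmallEtale ξ).toPresheafFiber_jointly_surjective₂ a b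
    obtain ⟨V', g, y', hy', ⟨u'⟩⟩ := h V y
    rw [← hy', ← (Scheme.pointSmallEtale ξ).toPresheafFiber_w_apply g y' P z₁,
      ← (Scheme.pointSmallEtale ξ).toPresheafFiber_w_apply g y' P z₂]
    congr 1
    exact (u'.uniq _).trans (u'.uniq _).symm
  exact ⟨{ default := (Scheme.pointSmallEtale ξ).toPresheafFiber V₀ y₀' P u₀.default
           uniq := fun a => hsub _ _ }⟩

/-- the stalks of the terminal sheaf are singletons -/
theorem unique_stalk_terminal :
    Nonempty (Unique ((Scheme.pointSmallEtale ξ).presheafFiber.obj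
      (Sheaf.terminal X.smallEtaleTopology Types.isTerminalPUnit.{u + 1}).obj)) := by
  apply unique_presheafFiber_of_local
  intro V y
  refine ⟨V, 𝟙 V, y, ?_, ⟨(inferInstance : Unique PUnit.{u + 2})⟩⟩
  simp

theorem unique_of_iso {A B : Type (u + 1)} (e : A ≅ B) (h : Nonempty (Unique A)) :
    Nonempty (Unique B) := by
  obtain ⟨hu⟩ := h
  exact ⟨(Iso.toEquiv e).symm.unique⟩

/-- a sheaf of sets is terminal iff its stalks are singletons -/
theorem isIso_terminal_from_iff (P : EtDesc.Sh X) :
    IsIso (terminal.from P) ↔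
      ∀ (Ω : Type u) [Field Ω] [IsSepClosed Ω] (ξ : Spec (CommRingCat.of Ω) ⟶ X),
        Nonempty (Unique ((Scheme.pointSmallEtale ξ).presheafFiber.obj P.obj)) := by
  let T₀ : EtDesc.Sh X := Sheaf.terminal X.smallEtaleTopology Types.isTerminalPUnit.{u + 1}
  let e₀ : T₀ ≅ ⊤_ (EtDesc.Sh X) :=
    (Sheaf.isTerminalTerminal X.smallEtaleTopology Types.isTerminalPUnit.{u + 1}).uniqueUpToIso
      terminalIsTerminal
  have hT : ∀ (Ω : Type u) [Field Ω] [IsSepClosed Ω] (ξ : Spec (CommRingCat.of Ω) ⟶ X),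
      Nonempty (Unique ((Scheme.pointSmallEtale ξ).presheafFiber.obj (⊤_ (EtDesc.Sh X)).obj)) := by
    intro Ω _ _ ξ
    exact unique_of_iso (((Scheme.pointSmallEtale ξ).sheafFiber (A := Type (u + 1))).mapIso e₀)
      (unique_stalk_terminal ξ)
  constructor
  · intro hiso Ω _ _ ξ
    exact unique_of_iso (((Scheme.pointSmallEtale ξ).sheafFiber (A := Type (u + 1))).mapIso
      (asIso (terminal.from P)).symm) (hT Ω ξ)
  · intro h
    haveI : Mono (terminal.from P) := by
      rw [mono_iff_stalks_type]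
      intro Ω _ _ ξ a b _
      obtain ⟨hu⟩ := h Ω ξ
      exact (hu.uniq a).trans (hu.uniq b).symm
    haveI : Epi (terminal.from P) := by
      rw [epi_iff_stalks_type]
      intro Ω _ _ ξ b
      obtain ⟨hu⟩ := h Ω ξ
      obtain ⟨hv⟩ := hT Ω ξ
      exact ⟨hu.default, (hv.uniq _).trans (hv.uniq _).symm⟩
    exact isIso_of_mono_of_epi _

end

section Push

variable {Z X : Scheme.{u}} (i : Z ⟶ X) [IsClosedImmersion i]

set_option backward.isDefEq.respectTransparency.types false in
/-- stalks of `i_* G` outside of `Z` are singletons -/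
theorem unique_stalk_pushSh (G : EtDesc.Sh Z) {Ω : Type u} [Field Ω] [IsSepClosed Ω]
    (ξ : Spec (CommRingCat.of Ω) ⟶ X)
    (hξ : Disjoint (Set.range ξ.base) (Set.range i.base)) :
    Nonempty (Unique ((Scheme.pointSmallEtale ξ).presheafFiber.obj
      ((EtDesc.pushSh i).obj G).obj)) := by
  apply unique_presheafFiber_of_local
  intro U y
  let O : X.Opens := ⟨(Set.range i.base)ᶜ, i.isClosedEmbedding.isClosed_range.isOpen_compl⟩
  let W : U.left.Opens := U.hom ⁻¹ᵁ O
  let U' : X.Etale := Scheme.Etale.mk (W.ι ≫ U.hom)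
  let f : U' ⟶ U := MorphismProperty.Over.homMk W.ι rfl trivial
  let yl : Spec (CommRingCat.of Ω) ⟶ U.left := y.left
  have hy : yl ≫ U.hom = ξ := Over.w y
  have hrange : Set.range yl.base ⊆ Set.range W.ι.base := by
    rintro _ ⟨a, rfl⟩
    rw [Scheme.Opens.range_ι]
    change U.hom.base (yl.base a) ∈ (Set.range i.base)ᶜ
    have h1 : U.hom.base (yl.base a) = ξ.base a := by
      rw [← hy]; rfl
    rw [h1]
    exact Set.disjoint_left.1 hξ ⟨a, rfl⟩
  let l : Spec (CommRingCat.of Ω) ⟶ W.toScheme := IsOpenImmersion.lift W.ι yl hrange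
  have hl : l ≫ W.ι = yl := IsOpenImmersion.lift_fac _ _ _
  have hl' : l ≫ U'.hom = ξ := by
    change l ≫ (W.ι ≫ U.hom) = ξ
    rw [← Category.assoc, hl, hy]
  let y' : (Scheme.pointSmallEtale ξ).fiber.obj U' := Over.homMk l hl'
  have hy' : (Scheme.pointSmallEtale ξ).fiber.map f y' = y := by
    apply Over.OverMorphism.ext
    exact hl
  haveI : IsEmpty ((EtCoh.bc i).obj U').left := by
    constructor
    intro t
    let a : U'.left := (pullback.fst U'.hom i : ((EtCoh.bc i).obj U').left ⟶ U'.left).base t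
    let b : Z := (pullback.snd U'.hom i : ((EtCoh.bc i).obj U').left ⟶ Z).base t
    have hab : U'.hom.base a = i.base b := by
      have h2 := congrArg (fun φ => φ.base t) (pullback.condition (f := U'.hom) (g := i))
      exact h2
    have ha : U.hom.base (W.ι.base a) ∈ (Set.range i.base)ᶜ := a.2
    exact ha ⟨b, hab.symm⟩
  have ht := Sheaf.isTerminalOfBotCover G ((EtCoh.bc i).obj U')
    (bot_mem_of_isEmpty ((EtCoh.bc i).obj U'))
  exact ⟨U', f, y', hy', ⟨(Types.isTerminalEquivUnique _) ht⟩⟩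

theorem full_faithful_pushSh : (EtDesc.pushSh i).Full ∧ (EtDesc.pushSh i).Faithful := by
  haveI := isCoverDense_bc i
  haveI := isLocallyFull_bc i
  exact ⟨Functor.IsCoverDense.full_sheafPushforwardContinuous _ _ _,
    Functor.IsCoverDense.faithful_sheafPushforwardContinuous _ _ _⟩

theorem isIso_counitSh (G : EtDesc.Sh Z) : IsIso ((EtDesc.adjSh i).counit.app G) := by
  obtain ⟨hfull, hfaith⟩ := full_faithful_pushSh i
  haveI := hfull
  haveI := hfaith
  infer_instance

end Push

end Groth.Agent.Helper1.CI
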