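import Mathlib
import Groth.Prelude.Def_EtCore
import Groth.Prelude.Def_SGA4b
import Groth.Agent.Lib.Helper1.CI10

/-!
# Sheaves of sets on a closed subscheme (helper1)
-/

set_option autoImplicit false
set_option linter.unusedSectionVars false
set_option linter.style.haveILetI false

open CategoryTheory CategoryTheory.Limits AlgebraicGeometry Opposite

namespace Groth.Agent.Helper1.CI

universe u

open Groth.Agent.Helper1.SHC

variable {Y X U : Scheme.{u}} (i : Y ⟶ X) [IsClosedImmersion i] (j : U ⟶ X) [IsOpenImmersion j]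
  (hU : Set.range j.base = (Set.range i.base)ᶜ)

include hU in
theorem disjoint_comp {Ω : Type u} [Field Ω] (ξ' : Spec (CommRingCat.of Ω) ⟶ U) :
    Disjoint (Set.range (ξ' ≫ j).base) (Set.range i.base) := by
  rw [Set.disjoint_left]
  rintro _ ⟨a, rfl⟩ hmem
  have h1 : (ξ' ≫ j).base a ∈ Set.range j.base := ⟨ξ'.base a, rfl⟩
  rw [hU] at h1
  exact h1 hmem

include hU in
theorem bijective_stalk_unitSh (F : EtDesc.Sh X)
    (hiso : IsIso (terminal.from ((EtDesc.pullSh j).obj F)))
    {Ω : Type u} [Field Ω] [IsSepClosed Ω] (ξ : Spec (CommRingCat.of Ω) ⟶ X) :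
    Function.Bijective (((Scheme.pointSmallEtale ξ).sheafFiber (A := Type (u + 1))).map
      ((EtDesc.adjSh i).unit.app F)) := by
  by_cases hξ : ξ.base (default : Spec (CommRingCat.of Ω)) ∈ Set.range i.base
  · obtain ⟨ζ, rfl⟩ := exists_factor_of_mem_range i ξ hξ
    haveI : (EtDesc.pushSh i).IsRightAdjoint := (EtDesc.adjSh i).isRightAdjoint
    have h1 := stalk_map_eq i ζ (Type (u + 1)) ((EtDesc.adjSh i).unit.app F)
    haveI := isIso_counitSh i ((EtDesc.pullSh i).obj F)
    haveI : IsIso ((EtDesc.pullSh i).map ((EtDesc.adjSh i).unit.app F)) := by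
      have hsplit := (EtDesc.adjSh i).left_triangle_components F
      haveI : IsIso ((EtDesc.pullSh i).map ((EtDesc.adjSh i).unit.app F) ≫
          (EtDesc.adjSh i).counit.app ((EtDesc.pullSh i).obj F)) := by
        rw [hsplit]; exact IsIso.id _
      exact IsIso.of_isIso_comp_right _ ((EtDesc.adjSh i).counit.app ((EtDesc.pullSh i).obj F))
    have h3 : IsIso (((Scheme.pointSmallEtale (ζ ≫ i)).sheafFiber (A := Type (u + 1))).map
        ((EtDesc.adjSh i).unit.app F)) := by
      rw [h1]; infer_instance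
    exact (isIso_iff_bijective _).1 h3
  · have hr : Set.range ξ.base ⊆ Set.range j.base := by
      rw [hU]
      rintro _ ⟨a, rfl⟩ hmem
      rw [Subsingleton.elim a (default : Spec (CommRingCat.of Ω))] at hmem
      exact hξ hmem
    obtain ⟨ξ', rfl⟩ : ∃ ξ' : Spec (CommRingCat.of Ω) ⟶ U, ξ' ≫ j = ξ :=
      ⟨IsOpenImmersion.lift j ξ hr, IsOpenImmersion.lift_fac _ _ _⟩
    haveI : (EtDesc.pushSh j).IsRightAdjoint := (EtDesc.adjSh j).isRightAdjoint
    obtain ⟨hu⟩ := unique_of_iso ((stalkPullIso j ξ' (Type (u + 1))).app F)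
      ((isIso_terminal_from_iff _).1 hiso Ω ξ')
    obtain ⟨hv⟩ := unique_stalk_pushSh i ((EtDesc.pullSh i).obj F) (ξ' ≫ j)
      (disjoint_comp i j hU ξ')
    exact ⟨fun a b _ => (hu.uniq a).trans (hu.uniq b).symm,
      fun b => ⟨hu.default, (hv.uniq _).trans (hv.uniq _).symm⟩⟩

include hU in
theorem main3883 :
    (EtDesc.pushSh i).Full ∧ (EtDesc.pushSh i).Faithful ∧
    ∀ F : EtDesc.Sh X, (EtDesc.pushSh i).essImage F ↔
      IsIso (terminal.from ((EtDesc.pullSh j).obj F)) := by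
  refine ⟨(full_faithful_pushSh i).1, (full_faithful_pushSh i).2, fun F => ⟨?_, ?_⟩⟩
  · rintro ⟨G, ⟨e⟩⟩
    rw [isIso_terminal_from_iff]
    intro Ω _ _ ξ'
    haveI : (EtDesc.pushSh j).IsRightAdjoint := (EtDesc.adjSh j).isRightAdjoint
    exact unique_of_iso
      ((((Scheme.pointSmallEtale (ξ' ≫ j)).sheafFiber (A := Type (u + 1))).mapIso e) ≪≫
        ((stalkPullIso j ξ' (Type (u + 1))).app F).symm)
      (unique_stalk_pushSh i G (ξ' ≫ j) (disjoint_comp i j hU ξ'))
  · intro hiso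
    haveI : Mono ((EtDesc.adjSh i).unit.app F) :=
      (mono_iff_stalks_type _).2 (fun Ω _ _ ξ => (bijective_stalk_unitSh i j hU F hiso ξ).1)
    haveI : Epi ((EtDesc.adjSh i).unit.app F) :=
      (epi_iff_stalks_type _).2 (fun Ω _ _ ξ => (bijective_stalk_unitSh i j hU F hiso ξ).2)
    haveI : IsIso ((EtDesc.adjSh i).unit.app F) := isIso_of_mono_of_epi _
    exact ⟨(EtDesc.pullSh i).obj F, ⟨(asIso ((EtDesc.adjSh i).unit.app F)).symm⟩⟩

end Groth.Agent.Helper1.CI
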