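import Mathlib
import Groth.Prelude.Def_EtCore
import Groth.Agent.Lib.Helper1.CI2

/-!
# Refining étale coverings of a closed subscheme (helper1)
-/

set_option autoImplicit false
set_option linter.unusedSectionVars false
set_option linter.style.haveILetI false

open CategoryTheory CategoryTheory.Limits AlgebraicGeometry Opposite

namespace Groth.Agent.Helper1.CI

universe u

theorem main0632 {X Y : Scheme.{u}} (f : X ⟶ Y) [IsClosedImmersion f]
    {ι : Type u} (U : ι → X.Etale) (hU : EtCoh.Covers U) :
    ∃ (κ : Type u) (V : κ → Y.Etale), EtCoh.Covers V ∧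
      ∀ j, IsEmpty ↥(pullback (V j).hom f) ∨
        ∃ (i : ι) (h : pullback (V j).hom f ⟶ (U i).left),
          h ≫ (U i).hom = pullback.snd (V j).hom f := by
  choose i y hy using hU
  choose V v hv T t₁ t₂ hopen hpb hmem using
    fun x : X => exists_etale_lift f (U (i x)).hom (y x)
  let W : Y.Opens := ⟨(Set.range f.base)ᶜ, f.isClosedEmbedding.isClosed_range.isOpen_compl⟩
  let VV : Option X → Y.Etale := fun j => match j with
    | none => Scheme.Etale.mk W.ι
    | some x => (letI := hv x; Scheme.Etale.mk (v x))
  refine ⟨Option X, VV, ?_, ?_⟩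
  · intro y'
    by_cases hy' : y' ∈ Set.range f.base
    · obtain ⟨x, rfl⟩ := hy'
      obtain ⟨t, ht⟩ := hmem x
      refine ⟨some x, (t₁ x).base t, ?_⟩
      change (v x).base ((t₁ x).base t) = f.base x
      have h1 := congrArg (fun φ => φ.base t) (hpb x).w
      refine h1.trans ?_
      change f.base ((U (i x)).hom.base ((t₂ x).base t)) = f.base x
      rw [ht, hy]
    · refine ⟨none, (⟨y', hy'⟩ : W), ?_⟩
      rfl
  · intro j
    cases j with
    | none =>
      left
      constructor
      intro z
      have h1 := congrArg (fun φ => φ.base z) (pullback.condition (f := W.ι) (g := f))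
      have h2 : (W.ι.base ((pullback.fst W.ι f).base z)) ∈ (W : Set Y) :=
        ((pullback.fst W.ι f).base z).2
      exact h2 ⟨(pullback.snd W.ι f).base z, h1.symm⟩
    | some x =>
      right
      refine ⟨i x, (hpb x).isoPullback.inv ≫ t₂ x, ?_⟩
      rw [Category.assoc]
      exact (hpb x).isoPullback_inv_snd

end Groth.Agent.Helper1.CI
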