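import Mathlib
import Groth.Prelude.Def_EtShriek2
import Groth.Agent.Lib.Helper1.ES7
import Groth.Agent.Lib.Helper1.OI4

/-!
# Extension by zero along an open immersion is the direct image with proper support
(helper1, ES8): towards S0686, S0687
-/

set_option autoImplicit false
set_option linter.unusedSectionVars false
set_option linter.style.haveILetI false

open CategoryTheory CategoryTheory.Limits AlgebraicGeometry Opposite

namespace Groth.Agent.Helper1.ES

universe u

open Groth.Agent.Helper1.SHC Groth.Agent.Helper1.OI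

variable {X Y : Scheme.{u}}

/-- the inclusion `f_! ⟶ f_*` as a natural transformation -/
noncomputable def ιSnat (f : X ⟶ Y) [LocallyOfFiniteType f] : shriekSheaf f ⟶ EtCoh.push f where
  app F := ιS f F
  naturality F G α := by
    ext V s
    rfl

theorem isProperOver_of_isProper {P B : Scheme.{u}} (p : P ⟶ B) [IsProper p] {A : Set P}
    (hA : IsClosed A) : ClSub.IsProperOver p A :=
  ⟨hA, inferInstance⟩

theorem mem_shriekSubgroup_of_isProper (f : X ⟶ Y) [LocallyOfFiniteType f] (F : EtCoh.Ab X)
    (V : Y.Etale) [IsProper (EtShriek.prV f V)] (s : EtCoh.sect F ((EtCoh.bc f).obj V)) :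
    s ∈ EtShriek.shriekSubgroup f F V :=
  (mem_shriekSubgroup_iff' f F V s).2 (isProperOver_of_isProper _ (isClosed_sectSupp F _ s))

theorem isIso_of_bijective_app {F G : EtCoh.Ab X} (α : F ⟶ G)
    (h : ∀ V : X.Etale, Function.Bijective (α.hom.app (op V)).hom) : IsIso α := by
  haveI : ∀ V : X.Etaleᵒᵖ, IsIso (α.hom.app V) := fun V =>
    (ConcreteCategory.isIso_iff_bijective _).2 (h V.unop)
  haveI : IsIso α.hom := NatIso.isIso_of_isIso_app _
  haveI : IsIso ((sheafToPresheaf X.smallEtaleTopology AddCommGrpCat.{u + 1}).map α) :=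
    ‹IsIso α.hom›
  exact isIso_of_reflects_iso α (sheafToPresheaf X.smallEtaleTopology AddCommGrpCat.{u + 1})

/-- for proper `f`, all sections have proper support -/
instance isIso_ιS_of_isProper (f : X ⟶ Y) [IsProper f] (F : EtCoh.Ab X) : IsIso (ιS f F) := by
  apply isIso_of_bijective_app
  intro V
  haveI : IsProper (EtShriek.prV f V) :=
    MorphismProperty.pullback_fst (P := @IsProper) _ _ inferInstance
  refine ⟨fun a b hab => valS_injective f F V hab, fun t => ?_⟩
  exact ⟨mkS f F V t (mem_shriekSubgroup_of_isProper f F V t), rfl⟩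

/-- for proper `f`, `f_! ≅ f_*` -/
noncomputable def properIso (f : X ⟶ Y) [IsProper f] : shriekSheaf f ≅ EtCoh.push f :=
  haveI : ∀ F, IsIso ((ιSnat f).app F) := fun F => isIso_ιS_of_isProper f F
  haveI : IsIso (ιSnat f) := NatIso.isIso_of_isIso_app _
  asIso (ιSnat f)

theorem isIso_fst_of_mono {A B C : Scheme.{u}} (a : A ⟶ B) (j : B ⟶ C) [Mono j] :
    IsIso (pullback.fst (a ≫ j) j) := by
  have w : 𝟙 A ≫ (a ≫ j) = a ≫ j := Category.id_comp _
  refine ⟨⟨pullback.lift (𝟙 _) a w, ?_, pullback.lift_fst _ _ _⟩⟩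
  apply pullback.hom_ext
  · rw [Category.assoc, pullback.lift_fst, Category.comp_id, Category.id_comp]
  · rw [Category.assoc, pullback.lift_snd, Category.id_comp, ← cancel_mono j, Category.assoc,
      pullback.condition]

/-- stalks of `f_! F` vanish outside the image of `f` -/
theorem isZero_stalk_shriekSheaf (f : X ⟶ Y) [LocallyOfFiniteType f] (F : EtCoh.Ab X)
    {Ω : Type u} [Field Ω] [IsSepClosed Ω] (ξ : Spec (CommRingCat.of Ω) ⟶ Y)
    (hξ : ξ.base (default : Spec (CommRingCat.of Ω)) ∉ Set.range f.base) :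
    IsZero ((EtCoh.stalk ξ).obj ((shriekSheaf f).obj F)) := by
  haveI := preservesFilteredColimits_forget.{u}
  suffices h : ∀ p : ToType ((Scheme.pointSmallEtale ξ).presheafFiber.obj
      ((shriekSheaf f).obj F).obj), p = 0 by
    haveI : Subsingleton (ToType ((Scheme.pointSmallEtale ξ).presheafFiber.obj
      ((shriekSheaf f).obj F).obj)) := ⟨fun a b => (h a).trans (h b).symm⟩
    exact AddCommGrpCat.isZero_of_subsingleton
      ((Scheme.pointSmallEtale ξ).presheafFiber.obj ((shriekSheaf f).obj F).obj)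
  intro p
  obtain ⟨V, y, z, rfl⟩ := (Scheme.pointSmallEtale ξ).toPresheafFiber_jointly_surjective p
  have hcl : IsClosed (EtShriek.sectSupp ((shriekSheaf f).obj F) V z) :=
    isClosed_sectSupp _ V z
  let O : V.left.Opens := ⟨_, hcl.isOpen_compl⟩
  let yl : Spec (CommRingCat.of Ω) ⟶ V.left := y.left
  have hy : yl ≫ V.hom = ξ := Over.w y
  have hrange : Set.range yl.base ⊆ Set.range O.ι.base := by
    rintro _ ⟨a, rfl⟩
    rw [Scheme.Opens.range_ι]
    change yl.base a ∉ EtShriek.sectSupp ((shriekSheaf f).obj F) V z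
    rw [sectSupp_shriekSheaf]
    rintro ⟨x, -, hx⟩
    apply hξ
    refine ⟨(pullback.snd V.hom f : ((EtCoh.bc f).obj V).left ⟶ X).base x, ?_⟩
    have h1 : V.hom.base (yl.base a) = ξ.base a := by
      rw [← hy]; rfl
    rw [Subsingleton.elim (default : Spec (CommRingCat.of Ω)) a, ← h1, ← hx]
    exact (congrArg (fun φ => φ.base x) (pullback.condition (f := V.hom) (g := f))).symm
  let l : Spec (CommRingCat.of Ω) ⟶ O.toScheme := IsOpenImmersion.lift O.ι yl hrange
  have hl : l ≫ O.ι = yl := IsOpenImmersion.lift_fac _ _ _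
  have hl' : l ≫ (openObj V O).hom = ξ := by
    change l ≫ (O.ι ≫ V.hom) = ξ
    rw [← Category.assoc, hl, hy]
  let y' : (Scheme.pointSmallEtale ξ).fiber.obj (openObj V O) := Over.homMk l hl'
  have hy' : (Scheme.pointSmallEtale ξ).fiber.map (openObjι V O) y' = y := by
    apply Over.OverMorphism.ext
    exact hl
  rw [← hy', ← (Scheme.pointSmallEtale ξ).toPresheafFiber_w_apply (openObjι V O) y' _ z]
  have hz : ((shriekSheaf f).obj F).obj.map (openObjι V O).op z = 0 := by
    rw [map_eq_zero_iff]
    intro v hv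
    exact v.2 hv
  rw [hz, map_zero]

end Groth.Agent.Helper1.ES
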