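import Mathlib
import Groth.Prelude.Def_EtShriek2
import Groth.Agent.Lib.Helper1.ES8

/-!
# `j_! ≅` proper-support direct image for an open immersion `j`; compactification formula
(helper1, ES9): S0686
-/

set_option autoImplicit false
set_option linter.unusedSectionVars false
set_option linter.style.haveILetI false

open CategoryTheory CategoryTheory.Limits AlgebraicGeometry Opposite

namespace Groth.Agent.Helper1.ES

universe u

open Groth.Agent.Helper1.SHC Groth.Agent.Helper1.OI

variable {U X Y : Scheme.{u}}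

section

variable (j : U ⟶ X) [IsOpenImmersion j] [EtShriek.JCont j]

instance isIso_restr_ιS (F : EtCoh.Ab U) : IsIso ((EtShriek.restrAlong j).map (ιS j F)) := by
  apply isIso_of_bijective_app
  intro V
  haveI : IsIso (EtShriek.prV j ((EtShriek.compEtale j).obj V)) :=
    isIso_fst_of_mono V.hom j
  haveI hp : IsProper (EtShriek.prV j ((EtShriek.compEtale j).obj V)) := inferInstance
  refine ⟨fun a b hab => valS_injective j F _ hab, fun t => ?_⟩
  exact ⟨mkS j F ((EtShriek.compEtale j).obj V) t
    (@mem_shriekSubgroup_of_isProper _ _ j _ F ((EtShriek.compEtale j).obj V) hp t), rfl⟩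

instance isIso_counit_restrPush (F : EtCoh.Ab U) : IsIso ((restrPushAdj j).counit.app F) := by
  haveI := (full_faithful_push_open j).1
  haveI := (full_faithful_push_open j).2
  infer_instance

/-- `j^{-1} j_!^{prop} F ⟶ F` -/
noncomputable def ρ : shriekSheaf j ⋙ EtShriek.restrAlong j ⟶ 𝟭 (EtCoh.Ab U) :=
  Functor.whiskerRight (ιSnat j) (EtShriek.restrAlong j) ≫ (restrPushAdj j).counit

instance isIso_ρ : IsIso (ρ j) := by
  haveI : ∀ F, IsIso ((ρ j).app F) := by
    intro F
    change IsIso ((EtShriek.restrAlong j).map (ιS j F) ≫ (restrPushAdj j).counit.app F)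
    infer_instance
  exact NatIso.isIso_of_isIso_app _

/-- the comparison `j_! ⟶ j_!^{prop}` -/
noncomputable def τ : EtShriek.extZero j ⟶ shriekSheaf j where
  app F := (EtShriek.extZero j).map ((inv (ρ j)).app F) ≫
    (EtShriek.extZeroAdj j).counit.app ((shriekSheaf j).obj F)
  naturality F F' α := by
    have h1 := (inv (ρ j)).naturality α
    have h2 := (EtShriek.extZeroAdj j).counit.naturality ((shriekSheaf j).map α)
    simp only [Functor.id_obj, Functor.id_map, Functor.comp_obj, Functor.comp_map] at h1 h2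
    rw [← Category.assoc, ← Functor.map_comp, h1, Functor.map_comp, Category.assoc, h2,
      Category.assoc]

theorem unit_τ (F : EtCoh.Ab U) :
    (EtShriek.extZeroAdj j).unit.app F ≫ (EtShriek.restrAlong j).map ((τ j).app F) =
      (inv (ρ j)).app F := by
  have h1 := (EtShriek.extZeroAdj j).unit.naturality ((inv (ρ j)).app F)
  have h2 := (EtShriek.extZeroAdj j).right_triangle_components ((shriekSheaf j).obj F)
  simp only [Functor.id_obj, Functor.id_map, Functor.comp_obj, Functor.comp_map] at h1 h2
  change _ ≫ (EtShriek.restrAlong j).map ((EtShriek.extZero j).map ((inv (ρ j)).app F) ≫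
    (EtShriek.extZeroAdj j).counit.app ((shriekSheaf j).obj F)) = _
  rw [Functor.map_comp, ← Category.assoc, ← h1, Category.assoc, h2, Category.comp_id]

instance isIso_τ_app (F : EtCoh.Ab U) : IsIso ((τ j).app F) := by
  have hφ := unit_τ j F
  haveI := isIso_unit_extZero j F
  haveI : IsIso ((EtShriek.restrAlong j).map ((τ j).app F)) := by
    haveI : IsIso ((EtShriek.extZeroAdj j).unit.app F ≫
        (EtShriek.restrAlong j).map ((τ j).app F)) := by
      rw [hφ]; infer_instance
    exact IsIso.of_isIso_comp_left ((EtShriek.extZeroAdj j).unit.app F) _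
  have hb : ∀ (Ω : Type u) [Field Ω] [IsSepClosed Ω] (ξ : Spec (CommRingCat.of Ω) ⟶ X),
      Function.Bijective ((EtCoh.stalk ξ).map ((τ j).app F)) := by
    intro Ω _ _ ξ
    by_cases hξ : ξ.base (default : Spec (CommRingCat.of Ω)) ∈ Set.range j.base
    · have hr : Set.range ξ.base ⊆ Set.range j.base := by
        rintro _ ⟨a, rfl⟩
        rw [Subsingleton.elim a (default : Spec (CommRingCat.of Ω))]; exact hξ
      obtain ⟨ξ', rfl⟩ : ∃ ξ' : Spec (CommRingCat.of Ω) ⟶ U, ξ' ≫ j = ξ :=
        ⟨IsOpenImmersion.lift j ξ hr, IsOpenImmersion.lift_fac _ _ _⟩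
      have h1 := stalk_map_eq_restr j ξ' ((τ j).app F)
      have h3 : IsIso ((EtCoh.stalk (ξ' ≫ j)).map ((τ j).app F)) := by rw [h1]; infer_instance
      exact ConcreteCategory.bijective_of_isIso _
    · have hz1 := isZero_stalk_extZero j ξ F hξ
      have hz2 := isZero_stalk_shriekSheaf j F ξ hξ
      haveI : Subsingleton ((EtCoh.stalk ξ).obj ((EtShriek.extZero j).obj F)) :=
        AddCommGrpCat.subsingleton_of_isZero hz1
      haveI : Subsingleton ((EtCoh.stalk ξ).obj ((shriekSheaf j).obj F)) :=
        AddCommGrpCat.subsingleton_of_isZero hz2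
      exact ⟨fun a b _ => Subsingleton.elim a b, fun b => ⟨0, Subsingleton.elim _ _⟩⟩
  haveI : Mono ((τ j).app F) := (mono_iff_stalks _).2 (fun Ω _ _ ξ => (hb Ω ξ).1)
  haveI : Epi ((τ j).app F) := (epi_iff_stalks _).2 (fun Ω _ _ ξ => (hb Ω ξ).2)
  exact isIso_of_mono_of_epi _

/-- extension by zero along an open immersion is the direct image with proper support -/
noncomputable def extZeroIso : EtShriek.extZero j ≅ shriekSheaf j :=
  haveI : IsIso (τ j) := NatIso.isIso_of_isIso_app _
  asIso (τ j)

end

theorem main0686 {X Xb Y : Scheme.{u}} (j : X ⟶ Xb) [IsOpenImmersion j]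
    (fb : Xb ⟶ Y) [IsProper fb] (f : X ⟶ Y) (hf : f = j ≫ fb) [EtShriek.JCont j] :
    Nonempty (EtShriek.lowerShriek f ≅ EtShriek.extZero j ⋙ EtCoh.push fb) := by
  subst hf
  exact ⟨shriekIso (j ≫ fb) ≪≫ compIso j fb ≪≫
    Functor.isoWhiskerRight (extZeroIso j).symm (shriekSheaf fb) ≪≫
    Functor.isoWhiskerLeft (EtShriek.extZero j) (properIso fb)⟩

end Groth.Agent.Helper1.ES
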