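import Mathlib
import Groth.Prelude.Def_EtShriek2
import Groth.Agent.Lib.Helper1.ES9

/-!
# Extension by zero of a section along a clopen immersion of the small étale site (helper1, EZ1)
-/

set_option autoImplicit false
set_option linter.unusedSectionVars false
set_option linter.style.haveILetI false

open CategoryTheory CategoryTheory.Limits AlgebraicGeometry Opposite

namespace Groth.Agent.Helper1.EZ

universe u

open Groth.Agent.Helper1.ES

variable {X : Scheme.{u}}

/-- sections over an object with empty underlying space are all equal -/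
theorem eq_of_isEmpty (F : EtCoh.Ab X) (W : X.Etale) (hW : IsEmpty W.left)
    (a b : EtCoh.sect F W) : a = b := by
  apply SHC.eq_of_equalizerSieve_mem F W
  apply SHC.mem_of_pointwise
  intro x
  exact hW.elim x

theorem mono_of_left {V B : X.Etale} (γ : V ⟶ B) [Mono γ.left] {Y : X.Etale} (a b : Y ⟶ V)
    (h : a ≫ γ = b ≫ γ) : a = b := by
  apply MorphismProperty.Over.Hom.ext
  have h' := congrArg (fun k => k.left) h
  exact (cancel_mono γ.left).1 h'

/-- the lift of a morphism through an open immersion of the small étale site -/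
noncomputable def liftOpen {V B Y : X.Etale} (γ : V ⟶ B) [IsOpenImmersion γ.left] (g : Y ⟶ B)
    (h : Set.range g.left.base ⊆ Set.range γ.left.base) : Y ⟶ V :=
  MorphismProperty.Over.homMk (IsOpenImmersion.lift γ.left g.left h) (by
    have e1 : γ.left ≫ B.hom = V.hom := MorphismProperty.Over.w γ
    have e2 : g.left ≫ B.hom = Y.hom := MorphismProperty.Over.w g
    rw [← e1, ← Category.assoc, IsOpenImmersion.lift_fac, e2]) trivial

theorem liftOpen_fac {V B Y : X.Etale} (γ : V ⟶ B) [IsOpenImmersion γ.left] (g : Y ⟶ B)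
    (h : Set.range g.left.base ⊆ Set.range γ.left.base) : liftOpen γ g h ≫ γ = g := by
  apply MorphismProperty.Over.Hom.ext
  exact IsOpenImmersion.lift_fac _ _ _

theorem range_comp_subset {Y Y' B : X.Etale} (k : Y' ⟶ Y) (g : Y ⟶ B) :
    Set.range (k ≫ g).left.base ⊆ Set.range g.left.base := by
  rintro _ ⟨y, rfl⟩
  exact ⟨k.left.base y, rfl⟩

/-- uniqueness of the extension by zero -/
theorem extByZero_unique (F : EtCoh.Ab X) {V B : X.Etale} (γ : V ⟶ B)
    (t t' : EtCoh.sect F B) (h1 : F.obj.map γ.op t = F.obj.map γ.op t')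
    (h2 : EtShriek.sectSupp F B t ⊆ Set.range γ.left.base)
    (h2' : EtShriek.sectSupp F B t' ⊆ Set.range γ.left.base) : t = t' := by
  rw [← sub_eq_zero]
  apply eq_zero_of_sectSupp_eq_empty
  rw [Set.eq_empty_iff_forall_notMem]
  intro x hx
  have hx' : x ∈ Set.range γ.left.base := by
    have := sectSupp_add_subset F B t (-t') (by rwa [← sub_eq_add_neg])
    rcases this with h | h
    · exact h2 h
    · rw [sectSupp_neg] at h
      exact h2' h
  obtain ⟨v, rfl⟩ := hx'
  have h0 : F.obj.map γ.op (t - t') = 0 := by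
    rw [map_sub, h1, sub_self]
  exact ((map_eq_zero_iff F γ (t - t')).1 h0 v) hx

/-- existence of the extension by zero along a clopen immersion -/
theorem exists_extByZero (F : EtCoh.Ab X) {V B : X.Etale} (γ : V ⟶ B) [IsOpenImmersion γ.left]
    (hcl : IsClosed (Set.range γ.left.base)) (s : EtCoh.sect F V) :
    ∃ t : EtCoh.sect F B, F.obj.map γ.op t = s ∧
      EtShriek.sectSupp F B t ⊆ Set.range γ.left.base := by
  classical
  let Γ : Set B.left := Set.range γ.left.base
  let C : B.left.Opens := ⟨Γᶜ, hcl.isOpen_compl⟩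
  let R : Sieve B :=
    { arrows := fun Y g => Set.range g.left.base ⊆ Γ ∨ Set.range g.left.base ⊆ Γᶜ
      downward_closed := by
        intro Y Y' g hg k
        rcases hg with hg | hg
        · exact Or.inl ((range_comp_subset k g).trans hg)
        · exact Or.inr ((range_comp_subset k g).trans hg) }
  have hR : R ∈ X.smallEtaleTopology B := by
    apply SHC.mem_of_pointwise
    intro x
    by_cases hx : x ∈ Γ
    · obtain ⟨v, hv⟩ := hx
      exact ⟨V, γ, v, Or.inl le_rfl, hv⟩
    · refine ⟨openObj B C, openObjι B C, ⟨x, hx⟩, Or.inr ?_, rfl⟩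
      rintro _ ⟨y, rfl⟩
      exact y.2
  let G := F.obj ⋙ forget AddCommGrpCat.{u + 1}
  have hsh : Presieve.IsSheaf X.smallEtaleTopology G := by
    rw [← isSheaf_iff_isSheaf_of_type]
    exact ((sheafCompose X.smallEtaleTopology (forget AddCommGrpCat.{u + 1})).obj F).2
  let fam : Presieve.FamilyOfElements G R.arrows := fun Y g _ =>
    if h : Set.range g.left.base ⊆ Γ then F.obj.map (liftOpen γ g h).op s else (0 : EtCoh.sect F Y)
  have hcomp : fam.Compatible := by
    intro Y₁ Y₂ Z g₁ g₂ f₁ f₂ h₁ h₂ comm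
    change F.obj.map g₁.op (fam f₁ h₁) = F.obj.map g₂.op (fam f₂ h₂)
    by_cases c1 : Set.range f₁.left.base ⊆ Γ
    · by_cases c2 : Set.range f₂.left.base ⊆ Γ
      · simp only [fam, dif_pos c1, dif_pos c2]
        have e : g₁ ≫ liftOpen γ f₁ c1 = g₂ ≫ liftOpen γ f₂ c2 := by
          apply mono_of_left γ
          rw [Category.assoc, Category.assoc, liftOpen_fac, liftOpen_fac, comm]
        rw [← ConcreteCategory.comp_apply, ← F.obj.map_comp, ← op_comp,
          ← ConcreteCategory.comp_apply, ← F.obj.map_comp, ← op_comp, e]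
      · have c2' : Set.range f₂.left.base ⊆ Γᶜ := h₂.resolve_left c2
        apply eq_of_isEmpty F Z
        constructor
        intro z
        have e1 : (g₁ ≫ f₁).left.base z ∈ Γ := c1 ⟨g₁.left.base z, rfl⟩
        have e2 : (g₂ ≫ f₂).left.base z ∈ Γᶜ := c2' ⟨g₂.left.base z, rfl⟩
        rw [comm] at e1
        exact e2 e1
    · have c1' : Set.range f₁.left.base ⊆ Γᶜ := h₁.resolve_left c1
      by_cases c2 : Set.range f₂.left.base ⊆ Γ
      · apply eq_of_isEmpty F Z
        constructor
        intro z
        have e1 : (g₁ ≫ f₁).left.base z ∈ Γᶜ := c1' ⟨g₁.left.base z, rfl⟩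
        have e2 : (g₂ ≫ f₂).left.base z ∈ Γ := c2 ⟨g₂.left.base z, rfl⟩
        rw [comm] at e1
        exact e1 e2
      · simp only [fam, dif_neg c1, dif_neg c2, map_zero]
  obtain ⟨t, ht, -⟩ := hsh R hR fam hcomp
  refine ⟨t, ?_, ?_⟩
  · have hγ : Set.range γ.left.base ⊆ Γ := le_rfl
    have hRγ : R.arrows γ := Or.inl hγ
    have h := ht γ hRγ
    change F.obj.map γ.op t = fam γ hRγ at h
    rw [h]
    simp only [fam, dif_pos hγ]
    have e : liftOpen γ γ hγ = 𝟙 V := by
      apply mono_of_left γ
      rw [liftOpen_fac, Category.id_comp]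
    rw [e, op_id, F.obj.map_id]
    rfl
  · intro x hx
    by_contra hxΓ
    have hι : R.arrows (openObjι B C) := by
      refine Or.inr ?_
      rintro _ ⟨y, rfl⟩
      exact y.2
    have h := ht (openObjι B C) hι
    change F.obj.map (openObjι B C).op t = fam (openObjι B C) hι at h
    have hn : ¬ Set.range (openObjι B C).left.base ⊆ Γ := by
      intro hsub
      exact hxΓ (hsub ⟨⟨x, hxΓ⟩, rfl⟩)
    simp only [fam, dif_neg hn] at h
    exact hx (openObj B C) (openObjι B C) ⟨⟨x, hxΓ⟩, rfl⟩ h

end Groth.Agent.Helper1.EZ
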