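import Mathlib
import Groth.Prelude.Def_EtShriek2
import Groth.Agent.Lib.Helper1.EZ1

/-!
# Graphs of `U`-valued points of étale `X`-schemes and extension by zero along them (helper1, EZ2)
-/

set_option autoImplicit false
set_option linter.unusedSectionVars false
set_option linter.style.haveILetI false

open CategoryTheory CategoryTheory.Limits AlgebraicGeometry Opposite

namespace Groth.Agent.Helper1.EZ

universe u

open Groth.Agent.Helper1.ES

variable {U X : Scheme.{u}} (j : U ⟶ X) [hj : Etale j]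

noncomputable def objφ (W : X.Etale) (φ : W.left ⟶ U) (hφ : φ ≫ j = W.hom) : U.Etale :=
  MorphismProperty.Over.mk ⊤ φ
    (EtCoh.etaleMP.of_postcomp (W' := EtCoh.etaleMP) φ j hj (by rw [hφ]; exact W.prop))

noncomputable def cφ (W : X.Etale) (φ : W.left ⟶ U) (hφ : φ ≫ j = W.hom) :
    W ⟶ (EtShriek.compEtale j).obj (objφ j W φ hφ) :=
  MorphismProperty.Over.homMk (𝟙 _) ((Category.id_comp _).trans hφ) trivial

/-- the graph of `φ` as a morphism of schemes -/
noncomputable def graphL (W : X.Etale) (φ : W.left ⟶ U) (hφ : φ ≫ j = W.hom) :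
    W.left ⟶ pullback W.hom j :=
  pullback.lift (𝟙 W.left) φ ((Category.id_comp _).trans hφ.symm)

theorem graphL_fst (W : X.Etale) (φ : W.left ⟶ U) (hφ : φ ≫ j = W.hom) :
    graphL j W φ hφ ≫ pullback.fst W.hom j = 𝟙 W.left :=
  pullback.lift_fst _ _ _

theorem graphL_snd (W : X.Etale) (φ : W.left ⟶ U) (hφ : φ ≫ j = W.hom) :
    graphL j W φ hφ ≫ pullback.snd W.hom j = φ :=
  pullback.lift_snd _ _ _

noncomputable def graph (W : X.Etale) (φ : W.left ⟶ U) (hφ : φ ≫ j = W.hom) :
    objφ j W φ hφ ⟶ (EtCoh.bc j).obj W :=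
  MorphismProperty.Over.homMk (graphL j W φ hφ) (graphL_snd j W φ hφ) trivial

instance (W : X.Etale) (φ : W.left ⟶ U) (hφ : φ ≫ j = W.hom) : Mono (graphL j W φ hφ) :=
  mono_of_mono_fac (graphL_fst j W φ hφ)

instance (W : X.Etale) (φ : W.left ⟶ U) (hφ : φ ≫ j = W.hom) : Etale (graphL j W φ hφ) :=
  inferInstanceAs (Etale (graph j W φ hφ).left)

instance (W : X.Etale) (φ : W.left ⟶ U) (hφ : φ ≫ j = W.hom) :
    IsOpenImmersion (graphL j W φ hφ) :=
  IsOpenImmersion.of_flat_of_mono _

instance (W : X.Etale) (φ : W.left ⟶ U) (hφ : φ ≫ j = W.hom) :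
    IsOpenImmersion (graph j W φ hφ).left :=
  inferInstanceAs (IsOpenImmersion (graphL j W φ hφ))

instance [IsSeparated j] (W : X.Etale) (φ : W.left ⟶ U) (hφ : φ ≫ j = W.hom) :
    IsClosedImmersion (graphL j W φ hφ) := by
  haveI : IsClosedImmersion (graphL j W φ hφ ≫ pullback.fst W.hom j) := by
    rw [graphL_fst]; infer_instance
  haveI : IsSeparated (pullback.fst W.hom j) := sep_prV j W
  exact IsClosedImmersion.of_comp _ (pullback.fst W.hom j)

theorem isClosed_range_graph [IsSeparated j] (W : X.Etale) (φ : W.left ⟶ U) (hφ : φ ≫ j = W.hom) :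
    IsClosed (Set.range (graph j W φ hφ).left.base) :=
  (graphL j W φ hφ).isClosedEmbedding.isClosed_range


set_option backward.isDefEq.respectTransparency.types false in
theorem bc_map_left_snd {W W' : X.Etale} (k : W' ⟶ W) :
    ((EtCoh.bc j).map k).left ≫ pullback.snd W.hom j = pullback.snd W'.hom j := by
  dsimp [EtCoh.bc]
  exact pullback.lift_snd _ _ _

theorem bc_map_left_fst {W W' : X.Etale} (k : W' ⟶ W) :
    ((EtCoh.bc j).map k).left ≫ pullback.fst W.hom j = pullback.fst W'.hom j ≫ k.left :=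
  (EtCoh.isPullback_bc_map j k).w

theorem hφ_res {W W' : X.Etale} (k : W' ⟶ W) (φ : W.left ⟶ U) (hφ : φ ≫ j = W.hom) :
    (k.left ≫ φ) ≫ j = W'.hom := by
  rw [Category.assoc, hφ]
  exact MorphismProperty.Over.w k

section Res

variable {W W' : X.Etale} (k : W' ⟶ W) (φ : W.left ⟶ U) (hφ : φ ≫ j = W.hom)

/-- the morphism `(W', k ≫ φ) ⟶ (W, φ)` of étale `U`-schemes -/
noncomputable def resφ : objφ j W' (k.left ≫ φ) (hφ_res j k φ hφ) ⟶ objφ j W φ hφ :=
  MorphismProperty.Over.homMk k.left rfl trivial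

theorem graphL_natural :
    graphL j W' (k.left ≫ φ) (hφ_res j k φ hφ) ≫ ((EtCoh.bc j).map k).left =
      k.left ≫ graphL j W φ hφ := by
  apply pullback.hom_ext
  · have e1 := congrArg (fun m => graphL j W' (k.left ≫ φ) (hφ_res j k φ hφ) ≫ m)
      (bc_map_left_fst j k)
    have e2 := congrArg (fun m => m ≫ k.left) (graphL_fst j W' (k.left ≫ φ) (hφ_res j k φ hφ))
    have e3 := congrArg (fun m => k.left ≫ m) (graphL_fst j W φ hφ)
    simp only [Category.assoc, Category.id_comp, Category.comp_id] at e1 e2 e3 ⊢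
    rw [e3]
    exact e1.trans e2
  · have e1 := congrArg (fun m => graphL j W' (k.left ≫ φ) (hφ_res j k φ hφ) ≫ m)
      (bc_map_left_snd j k)
    have e2 := graphL_snd j W' (k.left ≫ φ) (hφ_res j k φ hφ)
    have e3 := congrArg (fun m => k.left ≫ m) (graphL_snd j W φ hφ)
    simp only [Category.assoc] at e1 e2 e3 ⊢
    rw [e3]
    exact e1.trans e2

theorem graph_natural :
    graph j W' (k.left ≫ φ) (hφ_res j k φ hφ) ≫ (EtCoh.bc j).map k =
      resφ j k φ hφ ≫ graph j W φ hφ := by
  apply MorphismProperty.Over.Hom.ext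
  exact graphL_natural j k φ hφ

/-- the graphs form a cartesian square -/
theorem isPullback_graphL :
    IsPullback (graphL j W' (k.left ≫ φ) (hφ_res j k φ hφ)) k.left
      ((EtCoh.bc j).map k).left (graphL j W φ hφ) := by
  refine IsPullback.of_right (h₁₂ := pullback.fst W'.hom j) (v₁₃ := k.left)
    (h₂₂ := pullback.fst W.hom j) ?_ (graphL_natural j k φ hφ)
    (EtCoh.isPullback_bc_map j k).flip
  rw [graphL_fst, graphL_fst]
  exact IsPullback.of_horiz_isIso ⟨by simp⟩

theorem preimage_range_graphL :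
    ((EtCoh.bc j).map k).left.base ⁻¹' Set.range (graphL j W φ hφ).base =
      Set.range (graphL j W' (k.left ≫ φ) (hφ_res j k φ hφ)).base := by
  ext z
  constructor
  · rintro ⟨w, hw⟩
    obtain ⟨w', h1, -⟩ := exists_preimage_of_isPullback (isPullback_graphL j k φ hφ) z w hw.symm
    exact ⟨w', h1⟩
  · rintro ⟨w', rfl⟩
    refine ⟨k.left.base w', ?_⟩
    have := congrArg (fun f => f.base w') (graphL_natural j k φ hφ)
    exact this.symm

end Res

section Ext

variable [IsSeparated j] (F : EtCoh.Ab U) (W : X.Etale) (φ : W.left ⟶ U) (hφ : φ ≫ j = W.hom)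

/-- extension by zero of a section over the graph of `φ` -/
noncomputable def ext (s : EtCoh.sect F (objφ j W φ hφ)) : EtCoh.sect F ((EtCoh.bc j).obj W) :=
  (exists_extByZero F (graph j W φ hφ) (isClosed_range_graph j W φ hφ) s).choose

theorem ext_graph (s : EtCoh.sect F (objφ j W φ hφ)) :
    F.obj.map (graph j W φ hφ).op (ext j F W φ hφ s) = s :=
  (exists_extByZero F (graph j W φ hφ) (isClosed_range_graph j W φ hφ) s).choose_spec.1

theorem supp_ext (s : EtCoh.sect F (objφ j W φ hφ)) :
    EtShriek.sectSupp F _ (ext j F W φ hφ s) ⊆ Set.range (graphL j W φ hφ).base :=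
  (exists_extByZero F (graph j W φ hφ) (isClosed_range_graph j W φ hφ) s).choose_spec.2

theorem ext_unique (s : EtCoh.sect F (objφ j W φ hφ)) (t : EtCoh.sect F ((EtCoh.bc j).obj W))
    (h1 : F.obj.map (graph j W φ hφ).op t = s)
    (h2 : EtShriek.sectSupp F _ t ⊆ Set.range (graphL j W φ hφ).base) :
    t = ext j F W φ hφ s :=
  extByZero_unique F (graph j W φ hφ) t (ext j F W φ hφ s)
    (h1.trans (ext_graph j F W φ hφ s).symm) h2 (supp_ext j F W φ hφ s)

theorem ext_add (s s' : EtCoh.sect F (objφ j W φ hφ)) :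
    ext j F W φ hφ (s + s') = ext j F W φ hφ s + ext j F W φ hφ s' := by
  symm
  apply ext_unique
  · rw [map_add, ext_graph, ext_graph]
  · refine (sectSupp_add_subset F _ _ _).trans ?_
    exact Set.union_subset (supp_ext j F W φ hφ s) (supp_ext j F W φ hφ s')

/-- extension by zero as a homomorphism -/
noncomputable def extHom : EtCoh.sect F (objφ j W φ hφ) →+ EtCoh.sect F ((EtCoh.bc j).obj W) :=
  AddMonoidHom.mk' (ext j F W φ hφ) (ext_add j F W φ hφ)

@[simp] theorem extHom_apply (s : EtCoh.sect F (objφ j W φ hφ)) :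
    extHom j F W φ hφ s = ext j F W φ hφ s := rfl

/-- the extension by zero has proper support -/
theorem ext_mem (s : EtCoh.sect F (objφ j W φ hφ)) :
    ext j F W φ hφ s ∈ EtShriek.shriekSubgroup j F W := by
  rw [mem_shriekSubgroup_iff']
  apply isProperOver_mono _ (SHC.isClosed_sectSupp F _ _) (supp_ext j F W φ hφ s)
  let g : W.left ⟶ ((EtCoh.bc j).obj W).left := graphL j W φ hφ
  haveI : IsClosedImmersion g := inferInstanceAs (IsClosedImmersion (graphL j W φ hφ))
  refine (Helper2.isProperOver_iff_of_closedImmersion (EtShriek.prV j W) g _ rfl).2 ?_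
  have e : g ≫ EtShriek.prV j W = 𝟙 W.left := graphL_fst j W φ hφ
  rw [e]
  infer_instance

/-- extension by zero commutes with restriction -/
theorem ext_res {W' : X.Etale} (k : W' ⟶ W) (s : EtCoh.sect F (objφ j W φ hφ)) :
    F.obj.map ((EtCoh.bc j).map k).op (ext j F W φ hφ s) =
      ext j F W' (k.left ≫ φ) (hφ_res j k φ hφ) (F.obj.map (resφ j k φ hφ).op s) := by
  apply ext_unique
  · rw [← ConcreteCategory.comp_apply, ← F.obj.map_comp, ← op_comp, graph_natural, op_comp,
      F.obj.map_comp, ConcreteCategory.comp_apply, ext_graph]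
  · rw [sectSupp_map]
    exact (Set.preimage_mono (supp_ext j F W φ hφ s)).trans (preimage_range_graphL j k φ hφ).le

/-- extension by zero is natural in the sheaf -/
theorem ext_app {F G : EtCoh.Ab U} (α : F ⟶ G) (s : EtCoh.sect F (objφ j W φ hφ)) :
    α.hom.app (op ((EtCoh.bc j).obj W)) (ext j F W φ hφ s) =
      ext j G W φ hφ (α.hom.app (op (objφ j W φ hφ)) s) := by
  apply ext_unique
  · have := congrArg (fun ψ => ψ (ext j F W φ hφ s))
      (congrArg AddCommGrpCat.Hom.hom (α.hom.naturality (graph j W φ hφ).op))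
    simp only [AddCommGrpCat.hom_comp, AddMonoidHom.coe_comp, Function.comp_apply] at this
    rw [← this, ext_graph]
  · exact (EtShriek.sectSupp_map_subset α _ _).trans (supp_ext j F W φ hφ s)

end Ext

end Groth.Agent.Helper1.EZ
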