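import Mathlib
import Groth.Prelude.Def_EtShriek2
import Groth.Agent.Lib.Helper1.EZ2

/-!
# The comparison `j_! ⟶` (sections with proper support) for a separated étale `j` (helper1, EZ3)
-/

set_option autoImplicit false
set_option linter.unusedSectionVars false
set_option linter.style.haveILetI false

open CategoryTheory CategoryTheory.Limits AlgebraicGeometry Opposite

namespace Groth.Agent.Helper1.EZ

universe u

open Groth.Agent.Helper1.ES

variable {U X : Scheme.{u}} (j : U ⟶ X) [hj : Etale j] [IsSeparated j]

/-- restriction compatibility of `ext`, general form -/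
theorem ext_res' (F : EtCoh.Ab U) {W' W : X.Etale} (k : W' ⟶ W) (φ : W.left ⟶ U)
    (hφ : φ ≫ j = W.hom) (φ' : W'.left ⟶ U) (hφ' : φ' ≫ j = W'.hom) (h : k.left ≫ φ = φ')
    (g : objφ j W' φ' hφ' ⟶ objφ j W φ hφ) (hg : g.left = k.left)
    (s : EtCoh.sect F (objφ j W φ hφ)) :
    F.obj.map ((EtCoh.bc j).map k).op (ext j F W φ hφ s) =
      ext j F W' φ' hφ' (F.obj.map g.op s) := by
  subst h
  obtain rfl : g = resφ j k φ hφ := MorphismProperty.Over.Hom.ext hg
  exact ext_res j F W φ hφ k s

section Unit

variable [EtShriek.JCont j]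

/-- `s ↦ ext(s)` on sections over `V` -/
noncomputable def ηfun (F : EtCoh.Ab U) (V : U.Etale) (s : EtCoh.sect F V) :
    EtCoh.sect ((shriekSheaf j).obj F) ((EtShriek.compEtale j).obj V) :=
  mkS j F ((EtShriek.compEtale j).obj V) (ext j F ((EtShriek.compEtale j).obj V) V.hom rfl s)
    (ext_mem j F ((EtShriek.compEtale j).obj V) V.hom rfl s)

theorem valS_ηfun (F : EtCoh.Ab U) (V : U.Etale) (s : EtCoh.sect F V) :
    valS j F _ (ηfun j F V s) = ext j F ((EtShriek.compEtale j).obj V) V.hom rfl s := rfl

theorem ηfun_add (F : EtCoh.Ab U) (V : U.Etale) (a b : EtCoh.sect F V) :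
    ηfun j F V (a + b) = ηfun j F V a + ηfun j F V b := by
  apply valS_injective
  change ext j F ((EtShriek.compEtale j).obj V) V.hom rfl (a + b) =
    ext j F ((EtShriek.compEtale j).obj V) V.hom rfl a +
      ext j F ((EtShriek.compEtale j).obj V) V.hom rfl b
  exact ext_add j F ((EtShriek.compEtale j).obj V) V.hom rfl a b

/-- the morphism `F ⟶ j^{-1} j_!^{prop} F` -/
noncomputable def ηF (F : EtCoh.Ab U) :
    F ⟶ (EtShriek.restrAlong j).obj ((shriekSheaf j).obj F) :=
  ⟨{ app := fun V => AddCommGrpCat.ofHom (AddMonoidHom.mk' (ηfun j F V.unop) (ηfun_add j F V.unop))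
     naturality := by
       intro V V' g
       ext s
       apply valS_injective
       exact (ext_res' j F ((EtShriek.compEtale j).map g.unop) V.unop.hom rfl V'.unop.hom rfl
         (MorphismProperty.Over.w g.unop) g.unop rfl s).symm }⟩

theorem ηF_app (F : EtCoh.Ab U) (V : U.Etale) (s : EtCoh.sect F V) :
    (ηF j F).hom.app (op V) s = ηfun j F V s := rfl

/-- the natural transformation `𝟭 ⟶ j^{-1} j_!^{prop}` -/
noncomputable def ηnat : 𝟭 (EtCoh.Ab U) ⟶ shriekSheaf j ⋙ EtShriek.restrAlong j where
  app F := ηF j F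
  naturality F G α := by
    ext V s
    apply valS_injective
    exact (ext_app j ((EtShriek.compEtale j).obj V.unop) V.unop.hom rfl α s).symm

/-- the comparison `j_! ⟶ j_!^{prop}` -/
noncomputable def Φ : EtShriek.extZero j ⟶ shriekSheaf j where
  app F := (EtShriek.extZero j).map ((ηnat j).app F) ≫
    (EtShriek.extZeroAdj j).counit.app ((shriekSheaf j).obj F)
  naturality F F' α := by
    have h1 := (ηnat j).naturality α
    have h2 := (EtShriek.extZeroAdj j).counit.naturality ((shriekSheaf j).map α)
    simp only [Functor.id_obj, Functor.id_map, Functor.comp_obj, Functor.comp_map] at h1 h2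
    rw [← Category.assoc, ← Functor.map_comp, h1, Functor.map_comp, Category.assoc, h2,
      Category.assoc]

theorem unit_Φ (F : EtCoh.Ab U) :
    (EtShriek.extZeroAdj j).unit.app F ≫ (EtShriek.restrAlong j).map ((Φ j).app F) =
      (ηnat j).app F := by
  have h1 := (EtShriek.extZeroAdj j).unit.naturality ((ηnat j).app F)
  have h2 := (EtShriek.extZeroAdj j).right_triangle_components ((shriekSheaf j).obj F)
  simp only [Functor.id_obj, Functor.id_map, Functor.comp_obj, Functor.comp_map] at h1 h2
  change _ ≫ (EtShriek.restrAlong j).map ((EtShriek.extZero j).map ((ηnat j).app F) ≫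
    (EtShriek.extZeroAdj j).counit.app ((shriekSheaf j).obj F)) = _
  rw [Functor.map_comp, ← Category.assoc, ← h1, Category.assoc, h2, Category.comp_id]

/-- the unit section of `j_! F` attached to a section of `F` -/
noncomputable def unitSec (F : EtCoh.Ab U) (V : U.Etale) (s : EtCoh.sect F V) :
    EtCoh.sect ((EtShriek.extZero j).obj F) ((EtShriek.compEtale j).obj V) :=
  ((EtShriek.extZeroAdj j).unit.app F).hom.app (op V) s

theorem Φ_unitSec (F : EtCoh.Ab U) (V : U.Etale) (s : EtCoh.sect F V) :
    ((Φ j).app F).hom.app (op ((EtShriek.compEtale j).obj V)) (unitSec j F V s) =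
      ηfun j F V s := by
  have h := unit_Φ j F
  have h' := congrArg (fun (m : F ⟶ (EtShriek.restrAlong j).obj ((shriekSheaf j).obj F)) =>
    m.hom.app (op V) s) h
  exact h'

theorem unitSec_add (F : EtCoh.Ab U) (V : U.Etale) (a b : EtCoh.sect F V) :
    unitSec j F V (a + b) = unitSec j F V a + unitSec j F V b :=
  map_add _ a b

/-- naturality of unit sections -/
theorem unitSec_map (F : EtCoh.Ab U) {V V' : U.Etale} (g : V' ⟶ V) (s : EtCoh.sect F V) :
    ((EtShriek.extZero j).obj F).obj.map ((EtShriek.compEtale j).map g).op (unitSec j F V s) =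
      unitSec j F V' (F.obj.map g.op s) := by
  have := congrArg (fun ψ => ψ s) (congrArg AddCommGrpCat.Hom.hom
    (((EtShriek.extZeroAdj j).unit.app F).hom.naturality g.op))
  simp only [AddCommGrpCat.hom_comp, AddMonoidHom.coe_comp, Function.comp_apply] at this
  exact this.symm

end Unit

end Groth.Agent.Helper1.EZ
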