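import Mathlib
import Groth.Prelude.Def_EtShriek2
import Groth.Agent.Lib.Helper1.EZ3

/-!
# Local subsheaves and the induction principle for sections of `j_! F` (helper1, EZ4)
-/

set_option autoImplicit false
set_option linter.unusedSectionVars false
set_option linter.style.haveILetI false

open CategoryTheory CategoryTheory.Limits AlgebraicGeometry Opposite

namespace Groth.Agent.Helper1.EZ

universe u

open Groth.Agent.Helper1.ES

section LocSub

variable {X : Scheme.{u}}

/-- a family of subgroups of the sections of an abelian sheaf, stable under restriction and local -/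
structure LocSub (G : EtCoh.Ab X) where
  A : ∀ W : X.Etale, AddSubgroup (EtCoh.sect G W)
  res : ∀ {W W' : X.Etale} (k : W' ⟶ W) (g : EtCoh.sect G W), g ∈ A W → G.obj.map k.op g ∈ A W'
  loc : ∀ (W : X.Etale) (g : EtCoh.sect G W) (R : Sieve W), R ∈ X.smallEtaleTopology W →
    (∀ (W' : X.Etale) (k : W' ⟶ W), R k → G.obj.map k.op g ∈ A W') → g ∈ A W

namespace LocSub

variable {G : EtCoh.Ab X} (D : LocSub G)

set_option linter.unusedTactic false in
set_option linter.unreachableTactic false in
/-- the presheaf of sections in the subgroups -/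
noncomputable def pre : X.Etaleᵒᵖ ⥤ AddCommGrpCat.{u + 1} where
  obj W := AddCommGrpCat.of (D.A W.unop)
  map {W W'} k := AddCommGrpCat.ofHom
    (((G.obj.map k).hom.comp (D.A W.unop).subtype).codRestrict (D.A W'.unop)
      (fun s => D.res k.unop s.1 s.2))
  map_id W := by
    ext ⟨s, hs⟩
    simp
  map_comp φ ψ := by
    ext ⟨s, hs⟩
    simp <;> rfl

theorem isSheaf_pre : Presheaf.IsSheaf X.smallEtaleTopology D.pre := by
  let J := X.smallEtaleTopology
  rw [Presheaf.isSheaf_iff_isSheaf_forget J _ (forget AddCommGrpCat.{u + 1}),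
    isSheaf_iff_isSheaf_of_type]
  have hG : Presieve.IsSheaf J (G.obj ⋙ forget AddCommGrpCat.{u + 1}) := by
    rw [← isSheaf_iff_isSheaf_of_type]
    exact ((sheafCompose J (forget AddCommGrpCat.{u + 1})).obj G).2
  let Sub : Subfunctor (G.obj ⋙ forget AddCommGrpCat.{u + 1}) :=
    { obj := fun V => {s | s ∈ D.A V.unop}
      map := fun {V V'} φ s hs => D.res φ.unop s hs }
  have hSub : Presieve.IsSheaf J Sub.toFunctor := by
    rw [Subfunctor.isSheaf_iff Sub hG]
    intro V s hs
    exact D.loc V.unop s _ hs (fun V' φ hφ => hφ)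
  let e : D.pre ⋙ forget AddCommGrpCat.{u + 1} ≅ Sub.toFunctor :=
    NatIso.ofComponents (fun V => Equiv.toIso
      ⟨fun x => ⟨x.1, x.2⟩, fun x => ⟨x.1, x.2⟩, fun _ => rfl, fun _ => rfl⟩)
      (by intros; ext; rfl)
  exact Presieve.isSheaf_iso J e.symm hSub

/-- the subsheaf -/
noncomputable def sheaf : EtCoh.Ab X := ⟨D.pre, D.isSheaf_pre⟩

/-- the inclusion of the subsheaf -/
noncomputable def ι : D.sheaf ⟶ G :=
  ⟨{ app := fun W => AddCommGrpCat.ofHom (D.A W.unop).subtype }⟩

end LocSub

/-- a predicate on sections stable under the group operations and restriction -/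
structure StablePred (G : EtCoh.Ab X) where
  P : ∀ W : X.Etale, EtCoh.sect G W → Prop
  zero : ∀ W, P W 0
  add : ∀ W a b, P W a → P W b → P W (a + b)
  neg : ∀ W a, P W a → P W (-a)
  res : ∀ {W W' : X.Etale} (k : W' ⟶ W) (a : EtCoh.sect G W), P W a → P W' (G.obj.map k.op a)

/-- sections locally satisfying a stable predicate -/
def StablePred.locSub {G : EtCoh.Ab X} (Q : StablePred G) : LocSub G where
  A W :=
    { carrier := {g | ∃ R : Sieve W, R ∈ X.smallEtaleTopology W ∧
        ∀ (W' : X.Etale) (k : W' ⟶ W), R k → Q.P W' (G.obj.map k.op g)}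
      zero_mem' := ⟨⊤, X.smallEtaleTopology.top_mem W, fun W' k _ => by
        rw [map_zero]; exact Q.zero W'⟩
      add_mem' := by
        rintro a b ⟨R₁, h₁, p₁⟩ ⟨R₂, h₂, p₂⟩
        refine ⟨R₁ ⊓ R₂, X.smallEtaleTopology.intersection_covering h₁ h₂, fun W' k hk => ?_⟩
        rw [map_add]
        exact Q.add _ _ _ (p₁ W' k hk.1) (p₂ W' k hk.2)
      neg_mem' := by
        rintro a ⟨R, h, p⟩
        refine ⟨R, h, fun W' k hk => ?_⟩
        rw [map_neg]
        exact Q.neg _ _ (p W' k hk) }
  res {W W'} k g := by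
    rintro ⟨R, hR, p⟩
    refine ⟨R.pullback k, X.smallEtaleTopology.pullback_stable k hR, fun W'' l hl => ?_⟩
    have := p W'' (l ≫ k) hl
    rwa [op_comp, G.obj.map_comp, ConcreteCategory.comp_apply] at this
  loc W g R hR h := by
    refine ⟨Sieve.bind R (fun W' k hk => (h W' k hk).choose),
      X.smallEtaleTopology.bind_covering hR (fun W' k hk => (h W' k hk).choose_spec.1), ?_⟩
    rintro W'' m ⟨W', l, k, hk, hl, rfl⟩
    have := (h W' k hk).choose_spec.2 W'' l hl
    rwa [← ConcreteCategory.comp_apply, ← G.obj.map_comp, ← op_comp] at this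

end LocSub

section Induction

variable {U X : Scheme.{u}} (j : U ⟶ X) [hj : Etale j] [EtShriek.JCont j] (F : EtCoh.Ab U)

/-- the unit section of `j_! F` attached to a section of `F` (no separatedness needed) -/
noncomputable def unitSec' (V : U.Etale) (s : EtCoh.sect F V) :
    EtCoh.sect ((EtShriek.extZero j).obj F) ((EtShriek.compEtale j).obj V) :=
  ((EtShriek.extZeroAdj j).unit.app F).hom.app (op V) s

theorem unitSec'_map {V V' : U.Etale} (g : V' ⟶ V) (s : EtCoh.sect F V) :
    ((EtShriek.extZero j).obj F).obj.map ((EtShriek.compEtale j).map g).op (unitSec' j F V s) =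
      unitSec' j F V' (F.obj.map g.op s) := by
  have := congrArg (fun ψ => ψ s) (congrArg AddCommGrpCat.Hom.hom
    (((EtShriek.extZeroAdj j).unit.app F).hom.naturality g.op))
  simp only [AddCommGrpCat.hom_comp, AddMonoidHom.coe_comp, Function.comp_apply] at this
  exact this.symm

/-- a local family of subgroups of `j_! F` containing the unit sections is everything -/
theorem mem_of_unit (D : LocSub ((EtShriek.extZero j).obj F))
    (h : ∀ (V : U.Etale) (s : EtCoh.sect F V),
      unitSec' j F V s ∈ D.A ((EtShriek.compEtale j).obj V))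
    (W : X.Etale) (g : EtCoh.sect ((EtShriek.extZero j).obj F) W) : g ∈ D.A W := by
  let η' : F ⟶ (EtShriek.restrAlong j).obj D.sheaf :=
    ⟨{ app := fun V => AddCommGrpCat.ofHom (AddMonoidHom.mk'
          (fun s => (⟨unitSec' j F V.unop s, h V.unop s⟩ :
            D.A ((EtShriek.compEtale j).obj V.unop)))
          (by
            intro a b
            apply Subtype.ext
            exact map_add _ a b))
       naturality := by
         intro V V' g
         ext s
         apply Subtype.ext
         exact (unitSec'_map j F g.unop s).symm }⟩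
  let Ψ := ((EtShriek.extZeroAdj j).homEquiv F D.sheaf).symm η'
  have hΨ : Ψ ≫ D.ι = 𝟙 _ := by
    apply ((EtShriek.extZeroAdj j).homEquiv F _).injective
    rw [Adjunction.homEquiv_naturality_right, Equiv.apply_symm_apply, Adjunction.homEquiv_id]
    ext V s
    rfl
  have e : g = D.ι.hom.app (op W) (Ψ.hom.app (op W) g) := by
    have := congrArg (fun (m : (EtShriek.extZero j).obj F ⟶ (EtShriek.extZero j).obj F) =>
      m.hom.app (op W) g) hΨ
    exact this.symm
  rw [e]
  exact (show ↥(D.A W) from Ψ.hom.app (op W) g).2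

/-- induction principle for sections of `j_! F` -/
theorem induction_extZero (Q : StablePred ((EtShriek.extZero j).obj F))
    (h : ∀ (V : U.Etale) (s : EtCoh.sect F V), Q.P _ (unitSec' j F V s))
    (W : X.Etale) (g : EtCoh.sect ((EtShriek.extZero j).obj F) W) :
    ∃ R : Sieve W, R ∈ X.smallEtaleTopology W ∧
      ∀ (W' : X.Etale) (k : W' ⟶ W), R k →
        Q.P W' (((EtShriek.extZero j).obj F).obj.map k.op g) := by
  refine mem_of_unit j F Q.locSub (fun V s => ?_) W g
  refine ⟨⊤, X.smallEtaleTopology.top_mem _, fun W' k _ => ?_⟩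
  exact Q.res k _ (h V s)

end Induction

end Groth.Agent.Helper1.EZ
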