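import Mathlib
import Groth.Prelude.Def_EtShriek2
import Groth.Agent.Lib.Helper1.EZ4

/-!
# Normalized sections of `j_! F` for a separated étale `j` (helper1, EZ5)
-/

set_option autoImplicit false
set_option linter.unusedSectionVars false
set_option linter.style.haveILetI false

open CategoryTheory CategoryTheory.Limits AlgebraicGeometry Opposite

namespace Groth.Agent.Helper1.EZ

universe u

open Groth.Agent.Helper1.ES

variable {U X : Scheme.{u}} (j : U ⟶ X) [hj : Etale j] [IsSeparated j] [EtShriek.JCont j]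
  (F : EtCoh.Ab U)

theorem cφ_natural {W W' : X.Etale} (k : W' ⟶ W) (φ : W.left ⟶ U) (hφ : φ ≫ j = W.hom) :
    k ≫ cφ j W φ hφ = cφ j W' (k.left ≫ φ) (hφ_res j k φ hφ) ≫
      (EtShriek.compEtale j).map (resφ j k φ hφ) := by
  apply MorphismProperty.Over.Hom.ext
  change k.left ≫ 𝟙 _ = 𝟙 _ ≫ k.left
  rw [Category.comp_id, Category.id_comp]

/-- the normalized section `u_φ(s)` of `j_! F` -/
noncomputable def uSec (W : X.Etale) (φ : W.left ⟶ U) (hφ : φ ≫ j = W.hom)
    (s : EtCoh.sect F (objφ j W φ hφ)) : EtCoh.sect ((EtShriek.extZero j).obj F) W :=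
  ((EtShriek.extZero j).obj F).obj.map (cφ j W φ hφ).op (unitSec j F (objφ j W φ hφ) s)

theorem uSec_res {W W' : X.Etale} (k : W' ⟶ W) (φ : W.left ⟶ U) (hφ : φ ≫ j = W.hom)
    (s : EtCoh.sect F (objφ j W φ hφ)) :
    ((EtShriek.extZero j).obj F).obj.map k.op (uSec j F W φ hφ s) =
      uSec j F W' (k.left ≫ φ) (hφ_res j k φ hφ) (F.obj.map (resφ j k φ hφ).op s) := by
  unfold uSec
  rw [← unitSec_map]
  rw [← ConcreteCategory.comp_apply, ← Functor.map_comp, ← op_comp,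
    ← ConcreteCategory.comp_apply, ← Functor.map_comp, ← op_comp, cφ_natural]

/-- `û_φ` as a homomorphism -/
noncomputable def uhatHom (W : X.Etale) (φ : W.left ⟶ U) (hφ : φ ≫ j = W.hom) :
    EtCoh.sect F ((EtCoh.bc j).obj W) →+ EtCoh.sect ((EtShriek.extZero j).obj F) W :=
  (((EtShriek.extZero j).obj F).obj.map (cφ j W φ hφ).op).hom.comp
    ((((EtShriek.extZeroAdj j).unit.app F).hom.app (op (objφ j W φ hφ))).hom.comp
      (F.obj.map (graph j W φ hφ).op).hom)

/-- `û_φ(t) = u_φ(t|graph)` -/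
noncomputable def uhat (W : X.Etale) (φ : W.left ⟶ U) (hφ : φ ≫ j = W.hom)
    (t : EtCoh.sect F ((EtCoh.bc j).obj W)) : EtCoh.sect ((EtShriek.extZero j).obj F) W :=
  uhatHom j F W φ hφ t

theorem uhat_eq (W : X.Etale) (φ : W.left ⟶ U) (hφ : φ ≫ j = W.hom)
    (t : EtCoh.sect F ((EtCoh.bc j).obj W)) :
    uhat j F W φ hφ t = uSec j F W φ hφ (F.obj.map (graph j W φ hφ).op t) := rfl

theorem uhat_res {W W' : X.Etale} (k : W' ⟶ W) (φ : W.left ⟶ U) (hφ : φ ≫ j = W.hom)
    (t : EtCoh.sect F ((EtCoh.bc j).obj W)) :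
    ((EtShriek.extZero j).obj F).obj.map k.op (uhat j F W φ hφ t) =
      uhat j F W' (k.left ≫ φ) (hφ_res j k φ hφ) (F.obj.map ((EtCoh.bc j).map k).op t) := by
  rw [uhat_eq, uhat_eq, uSec_res]
  congr 1
  rw [← ConcreteCategory.comp_apply, ← F.obj.map_comp, ← op_comp, ← graph_natural, op_comp,
    F.obj.map_comp, ConcreteCategory.comp_apply]

theorem uhat_congr (W : X.Etale) (φ φ' : W.left ⟶ U) (hφ : φ ≫ j = W.hom)
    (hφ' : φ' ≫ j = W.hom) (h : φ = φ') (t : EtCoh.sect F ((EtCoh.bc j).obj W)) :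
    uhat j F W φ hφ t = uhat j F W φ' hφ' t := by
  subst h
  rfl

theorem range_graphL_congr (W : X.Etale) (φ φ' : W.left ⟶ U) (hφ : φ ≫ j = W.hom)
    (hφ' : φ' ≫ j = W.hom) (h : φ = φ') :
    Set.range (graphL j W φ hφ).base = Set.range (graphL j W φ' hφ').base := by
  subst h
  rfl

theorem Φ_uSec (W : X.Etale) (φ : W.left ⟶ U) (hφ : φ ≫ j = W.hom)
    (s : EtCoh.sect F (objφ j W φ hφ)) :
    valS j F W (((Φ j).app F).hom.app (op W) (uSec j F W φ hφ s)) = ext j F W φ hφ s := by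
  unfold uSec
  have nat := congrArg (fun ψ => ψ (unitSec j F (objφ j W φ hφ) s))
    (congrArg AddCommGrpCat.Hom.hom (((Φ j).app F).hom.naturality (cφ j W φ hφ).op))
  simp only [AddCommGrpCat.hom_comp, AddMonoidHom.coe_comp, Function.comp_apply] at nat
  rw [nat, Φ_unitSec, valS_map, valS_ηfun]
  have := ext_res' j F (cφ j W φ hφ) (objφ j W φ hφ).hom rfl φ hφ (Category.id_comp _)
    (𝟙 _) rfl s
  have e2 : F.obj.map (𝟙 (objφ j W φ hφ)).op = 𝟙 _ := F.obj.map_id _
  rw [this]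
  refine congrArg (ext j F W φ hφ) ?_
  have e3 := congrArg (fun m => (ConcreteCategory.hom m) s) e2
  exact e3

theorem Φ_uhat (W : X.Etale) (φ : W.left ⟶ U) (hφ : φ ≫ j = W.hom)
    (t : EtCoh.sect F ((EtCoh.bc j).obj W))
    (ht : EtShriek.sectSupp F _ t ⊆ Set.range (graphL j W φ hφ).base) :
    valS j F W (((Φ j).app F).hom.app (op W) (uhat j F W φ hφ t)) = t := by
  rw [uhat_eq, Φ_uSec]
  exact (ext_unique j F W φ hφ _ t rfl ht).symm

theorem unitSec_eq_uhat (V : U.Etale) (s : EtCoh.sect F V) :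
    unitSec j F V s = uhat j F ((EtShriek.compEtale j).obj V) V.hom rfl
      (ext j F ((EtShriek.compEtale j).obj V) V.hom rfl s) := by
  rw [uhat_eq, ext_graph]
  unfold uSec
  have e : cφ j ((EtShriek.compEtale j).obj V) V.hom rfl = 𝟙 _ :=
    MorphismProperty.Over.Hom.ext rfl
  have e2 : ((EtShriek.extZero j).obj F).obj.map (𝟙 ((EtShriek.compEtale j).obj V)).op = 𝟙 _ :=
    ((EtShriek.extZero j).obj F).obj.map_id _
  rw [e]
  have e3 := congrArg (fun m => (ConcreteCategory.hom m) (unitSec j F V s)) e2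
  exact e3.symm

end Groth.Agent.Helper1.EZ
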