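import Mathlib
import Groth.Prelude.Def_EtShriek2
import Groth.Agent.Lib.Helper1.EZ5

/-!
# The comparison `j_! ⟶ j_*` is a monomorphism for a separated étale `j` (helper1, EZ6): S0650
-/

set_option autoImplicit false
set_option linter.unusedSectionVars false
set_option linter.style.haveILetI false

open CategoryTheory CategoryTheory.Limits AlgebraicGeometry Opposite

namespace Groth.Agent.Helper1.EZ

universe u

open Groth.Agent.Helper1.ES

theorem sectSupp_sum_subset {X : Scheme.{u}} (F : EtCoh.Ab X) (W : X.Etale) {ι : Type*}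
    (s : Finset ι) (a : ι → EtCoh.sect F W) (Z : Set W.left)
    (h : ∀ i ∈ s, EtShriek.sectSupp F W (a i) ⊆ Z) :
    EtShriek.sectSupp F W (∑ i ∈ s, a i) ⊆ Z := by
  classical
  induction s using Finset.induction_on with
  | empty =>
    rw [Finset.sum_empty, sectSupp_zero]
    exact Set.empty_subset _
  | insert i s hi ih =>
    rw [Finset.sum_insert hi]
    exact (sectSupp_add_subset F W _ _).trans (Set.union_subset (h i (Finset.mem_insert_self i s))
      (ih (fun i' hi' => h i' (Finset.mem_insert_of_mem hi'))))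

variable {U X : Scheme.{u}} (j : U ⟶ X) [hj : Etale j] [IsSeparated j]

/-- lifts of `W → X` to `U` -/
abbrev Lifts (W : X.Etale) := {φ : W.left ⟶ U // φ ≫ j = W.hom}

/-- two lifts agree on an open over which their graphs agree -/
theorem eq_of_range_subset {W N : X.Etale} (k : N ⟶ W) (φ₁ : W.left ⟶ U) (hφ₁ : φ₁ ≫ j = W.hom)
    (φ₂ : W.left ⟶ U) (hφ₂ : φ₂ ≫ j = W.hom)
    (h : ∀ x : N.left, (graphL j W φ₂ hφ₂).base (k.left.base x) ∈
      Set.range (graphL j W φ₁ hφ₁).base) :
    k.left ≫ φ₁ = k.left ≫ φ₂ := by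
  have hr : Set.range (k.left ≫ graphL j W φ₂ hφ₂).base ⊆ Set.range (graphL j W φ₁ hφ₁).base := by
    rintro _ ⟨x, rfl⟩
    exact h x
  let l := IsOpenImmersion.lift (graphL j W φ₁ hφ₁) (k.left ≫ graphL j W φ₂ hφ₂) hr
  have hl : l ≫ graphL j W φ₁ hφ₁ = k.left ≫ graphL j W φ₂ hφ₂ := IsOpenImmersion.lift_fac _ _ _
  have h1 : l = k.left := by
    have := congrArg (fun m => m ≫ pullback.fst W.hom j) hl
    simp only [Category.assoc, graphL_fst, Category.comp_id] at this
    exact this
  have h2 := congrArg (fun m => m ≫ pullback.snd W.hom j) hl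
  simp only [Category.assoc, graphL_snd] at h2
  rw [h1] at h2
  exact h2

/-- graphs that are disjoint over an open stay disjoint after restriction to it -/
theorem disjoint_range_graphL_res {W N : X.Etale} (k : N ⟶ W) (φ₁ : W.left ⟶ U)
    (hφ₁ : φ₁ ≫ j = W.hom) (φ₂ : W.left ⟶ U) (hφ₂ : φ₂ ≫ j = W.hom)
    (h : ∀ x : N.left, (graphL j W φ₂ hφ₂).base (k.left.base x) ∉
      Set.range (graphL j W φ₁ hφ₁).base) :
    Disjoint (Set.range (graphL j N (k.left ≫ φ₁) (hφ_res j k φ₁ hφ₁)).base)
      (Set.range (graphL j N (k.left ≫ φ₂) (hφ_res j k φ₂ hφ₂)).base) := by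
  rw [Set.disjoint_left]
  rintro z hz1 ⟨x, rfl⟩
  rw [← preimage_range_graphL j k φ₁ hφ₁] at hz1
  apply h x
  have e := congrArg (fun f => f.base x) (graphL_natural j k φ₂ hφ₂)
  have e' : ((EtCoh.bc j).map k).left.base
      ((graphL j N (k.left ≫ φ₂) (hφ_res j k φ₂ hφ₂)).base x) =
      (graphL j W φ₂ hφ₂).base (k.left.base x) := e
  rw [← e']
  exact hz1

variable [EtShriek.JCont j] (F : EtCoh.Ab U)

theorem uhat_zero (W : X.Etale) (φ : W.left ⟶ U) (hφ : φ ≫ j = W.hom) :
    uhat j F W φ hφ 0 = 0 := map_zero (uhatHom j F W φ hφ)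

theorem uhat_neg (W : X.Etale) (φ : W.left ⟶ U) (hφ : φ ≫ j = W.hom)
    (t : EtCoh.sect F ((EtCoh.bc j).obj W)) :
    uhat j F W φ hφ (-t) = -uhat j F W φ hφ t := map_neg (uhatHom j F W φ hφ) t

/-- `g` is a finite sum of normalized sections -/
def IsNormSum (W : X.Etale) (g : EtCoh.sect ((EtShriek.extZero j).obj F) W) : Prop :=
  ∃ (n : ℕ) (φ : Fin n → Lifts j W) (t : Fin n → EtCoh.sect F ((EtCoh.bc j).obj W)),
    (∀ i, EtShriek.sectSupp F _ (t i) ⊆ Set.range (graphL j W (φ i).1 (φ i).2).base) ∧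
    g = ∑ i, uhat j F W (φ i).1 (φ i).2 (t i)

/-- being a finite sum of normalized sections is a stable predicate -/
noncomputable def normSumPred : StablePred ((EtShriek.extZero j).obj F) where
  P := IsNormSum j F
  zero W := ⟨0, Fin.elim0, Fin.elim0, fun i => i.elim0, by simp⟩
  add W a b := by
    rintro ⟨n₁, φ₁, t₁, h₁, e₁⟩ ⟨n₂, φ₂, t₂, h₂, e₂⟩
    refine ⟨n₁ + n₂, Fin.append φ₁ φ₂, Fin.append t₁ t₂, ?_, ?_⟩
    · intro i
      have key : ∀ (x : Lifts j W) (y : EtCoh.sect F ((EtCoh.bc j).obj W)) (x' : Lifts j W)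
          (y' : EtCoh.sect F ((EtCoh.bc j).obj W)), x = x' → y = y' →
          (EtShriek.sectSupp F _ y' ⊆ Set.range (graphL j W x'.1 x'.2).base) →
          EtShriek.sectSupp F _ y ⊆ Set.range (graphL j W x.1 x.2).base := by
        rintro x y _ _ rfl rfl h
        exact h
      induction i using Fin.addCases with
      | left i => exact key _ _ _ _ (Fin.append_left _ _ _) (Fin.append_left _ _ _) (h₁ i)
      | right i => exact key _ _ _ _ (Fin.append_right _ _ _) (Fin.append_right _ _ _) (h₂ i)
    · rw [Fin.sum_univ_add, e₁, e₂]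
      simp only [Fin.append_left, Fin.append_right]
  neg W a := by
    rintro ⟨n, φ, t, h, e⟩
    refine ⟨n, φ, fun i => -(t i), fun i => ?_, ?_⟩
    · rw [sectSupp_neg]
      exact h i
    · rw [e, ← Finset.sum_neg_distrib]
      exact Finset.sum_congr rfl (fun i _ => (uhat_neg j F W _ _ _).symm)
  res {W W'} k a := by
    rintro ⟨n, φ, t, h, e⟩
    refine ⟨n, fun i => ⟨k.left ≫ (φ i).1, hφ_res j k _ (φ i).2⟩,
      fun i => F.obj.map ((EtCoh.bc j).map k).op (t i), fun i => ?_, ?_⟩
    · rw [sectSupp_map]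
      exact (Set.preimage_mono (h i)).trans (preimage_range_graphL j k _ (φ i).2).le
    · rw [e, map_sum]
      exact Finset.sum_congr rfl (fun i _ => uhat_res j F k _ (φ i).2 (t i))

theorem isNormSum_unitSec (V : U.Etale) (s : EtCoh.sect F V) :
    IsNormSum j F _ (unitSec' j F V s) := by
  refine ⟨1, fun _ => ⟨V.hom, rfl⟩,
    fun _ => ext j F ((EtShriek.compEtale j).obj V) V.hom rfl s,
    fun _ => supp_ext j F ((EtShriek.compEtale j).obj V) V.hom rfl s, ?_⟩
  rw [Fin.sum_univ_one]
  exact unitSec_eq_uhat j F V s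

/-- the inductive step -/
theorem step (n : ℕ)
    (ih : ∀ (W : X.Etale) (φ : Fin n → Lifts j W)
      (t : Fin n → EtCoh.sect F ((EtCoh.bc j).obj W)),
      (∀ i, EtShriek.sectSupp F _ (t i) ⊆ Set.range (graphL j W (φ i).1 (φ i).2).base) →
      ∑ i, t i = 0 → ∑ i, uhat j F W (φ i).1 (φ i).2 (t i) = 0)
    (N : X.Etale) (φ : Fin (n + 1) → Lifts j N)
    (t : Fin (n + 1) → EtCoh.sect F ((EtCoh.bc j).obj N))
    (ht : ∀ i, EtShriek.sectSupp F _ (t i) ⊆ Set.range (graphL j N (φ i).1 (φ i).2).base)
    (hsum : ∑ i, t i = 0) (A : Fin n → Prop)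
    (hA : ∀ i, A i → (φ i.castSucc).1 = (φ (Fin.last n)).1)
    (hnA : ∀ i, ¬ A i →
      Disjoint (Set.range (graphL j N (φ i.castSucc).1 (φ i.castSucc).2).base)
        (Set.range (graphL j N (φ (Fin.last n)).1 (φ (Fin.last n)).2).base)) :
    ∑ i, uhat j F N (φ i).1 (φ i).2 (t i) = 0 := by
  classical
  let t'' : Fin n → EtCoh.sect F ((EtCoh.bc j).obj N) := fun i => if A i then 0 else t i.castSucc
  let r : Fin n → EtCoh.sect F ((EtCoh.bc j).obj N) := fun i => if A i then t i.castSucc else 0
  have htr : ∀ i, t i.castSucc = t'' i + r i := by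
    intro i
    by_cases h : A i
    · simp only [t'', r, if_pos h, zero_add]
    · simp only [t'', r, if_neg h, add_zero]
  have hsum' : ∑ i, t'' i + (∑ i, r i + t (Fin.last n)) = 0 := by
    rw [Fin.sum_univ_castSucc] at hsum
    rw [← add_assoc, ← Finset.sum_add_distrib, ← hsum]
    congr 1
    exact Finset.sum_congr rfl (fun i _ => (htr i).symm)
  have hr_supp : ∀ i, EtShriek.sectSupp F _ (r i) ⊆
      Set.range (graphL j N (φ (Fin.last n)).1 (φ (Fin.last n)).2).base := by
    intro i
    by_cases h : A i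
    · simp only [r, if_pos h]
      exact (ht i.castSucc).trans
        (range_graphL_congr j N _ _ (φ i.castSucc).2 (φ (Fin.last n)).2 (hA i h)).le
    · simp only [r, if_neg h, sectSupp_zero]
      exact Set.empty_subset _
  have hT0 : ∑ i, t'' i = 0 := by
    apply eq_zero_of_sectSupp_eq_empty
    rw [Set.eq_empty_iff_forall_notMem]
    intro x hx
    have hx2 : x ∈ Set.range (graphL j N (φ (Fin.last n)).1 (φ (Fin.last n)).2).base := by
      have e : ∑ i, t'' i = -(∑ i, r i + t (Fin.last n)) := eq_neg_of_add_eq_zero_left hsum'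
      rw [e, sectSupp_neg] at hx
      refine (sectSupp_add_subset F _ _ _).trans (Set.union_subset ?_ (ht (Fin.last n))) hx
      exact sectSupp_sum_subset F _ _ _ _ (fun i _ => hr_supp i)
    have hx1 : x ∈ ⋃ i : {i : Fin n // ¬ A i},
        Set.range (graphL j N (φ i.1.castSucc).1 (φ i.1.castSucc).2).base := by
      refine sectSupp_sum_subset F _ _ _ _ (fun i _ => ?_) hx
      by_cases h : A i
      · simp only [t'', if_pos h, sectSupp_zero]
        exact Set.empty_subset _
      · simp only [t'', if_neg h]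
        exact (ht i.castSucc).trans (Set.subset_iUnion
          (fun i : {i : Fin n // ¬ A i} =>
            Set.range (graphL j N (φ i.1.castSucc).1 (φ i.1.castSucc).2).base) ⟨i, h⟩)
    obtain ⟨⟨i, hi⟩, hxi⟩ := Set.mem_iUnion.1 hx1
    exact Set.disjoint_left.1 (hnA i hi) hxi hx2
  have hIH := ih N (fun i => φ i.castSucc) t'' (by
      intro i
      by_cases h : A i
      · simp only [t'', if_pos h, sectSupp_zero]
        exact Set.empty_subset _
      · simp only [t'', if_neg h]
        exact ht i.castSucc) hT0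
  rw [Fin.sum_univ_castSucc]
  have hterm : ∀ i : Fin n, uhat j F N (φ i.castSucc).1 (φ i.castSucc).2 (t i.castSucc) =
      uhat j F N (φ i.castSucc).1 (φ i.castSucc).2 (t'' i) +
        uhat j F N (φ (Fin.last n)).1 (φ (Fin.last n)).2 (r i) := by
    intro i
    by_cases h : A i
    · simp only [t'', r, if_pos h]
      rw [uhat_zero, zero_add]
      exact uhat_congr j F N _ _ _ _ (hA i h) _
    · simp only [t'', r, if_neg h]
      rw [uhat_zero, add_zero]
  rw [Finset.sum_congr rfl (fun i _ => hterm i), Finset.sum_add_distrib, hIH, zero_add]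
  have h0 : ∑ i, r i + t (Fin.last n) = 0 := by
    rw [hT0, zero_add] at hsum'
    exact hsum'
  change ∑ i, uhatHom j F N (φ (Fin.last n)).1 (φ (Fin.last n)).2 (r i) +
    uhatHom j F N (φ (Fin.last n)).1 (φ (Fin.last n)).2 (t (Fin.last n)) = 0
  rw [← map_sum, ← map_add, h0, map_zero]

/-- a sum of normalized sections vanishes as soon as the sum of the underlying sections does -/
theorem sum_uhat_eq_zero (n : ℕ) : ∀ (W : X.Etale) (φ : Fin n → Lifts j W)
    (t : Fin n → EtCoh.sect F ((EtCoh.bc j).obj W)),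
    (∀ i, EtShriek.sectSupp F _ (t i) ⊆ Set.range (graphL j W (φ i).1 (φ i).2).base) →
    ∑ i, t i = 0 → ∑ i, uhat j F W (φ i).1 (φ i).2 (t i) = 0 := by
  induction n with
  | zero =>
    intro W φ t _ _
    simp
  | succ n ih =>
    intro W φ t ht hsum
    classical
    apply SHC.eq_of_equalizerSieve_mem _ W
    apply SHC.mem_of_pointwise
    intro w
    let L := φ (Fin.last n)
    let E : Fin n → Set W.left := fun i =>
      (graphL j W L.1 L.2).base ⁻¹' Set.range (graphL j W (φ i.castSucc).1 (φ i.castSucc).2).base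
    have hEo : ∀ i, IsOpen (E i) := fun i =>
      (graphL j W (φ i.castSucc).1 (φ i.castSucc).2).isOpenEmbedding.isOpen_range.preimage
        (graphL j W L.1 L.2).continuous
    have hEc : ∀ i, IsClosed (E i) := fun i =>
      (graphL j W (φ i.castSucc).1 (φ i.castSucc).2).isClosedEmbedding.isClosed_range.preimage
        (graphL j W L.1 L.2).continuous
    let O : W.left.Opens := ⟨⋂ i, (if w ∈ E i then E i else (E i)ᶜ),
      isOpen_iInter_of_finite (fun i => by
        by_cases h : w ∈ E i
        · simp only [if_pos h]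
          exact hEo i
        · simp only [if_neg h]
          exact (hEc i).isOpen_compl)⟩
    have hwO : w ∈ O := by
      change w ∈ ⋂ i, (if w ∈ E i then E i else (E i)ᶜ)
      rw [Set.mem_iInter]
      intro i
      by_cases h : w ∈ E i
      · simp only [if_pos h]
        exact h
      · simp only [if_neg h]
        exact h
    have hO1 : ∀ i, w ∈ E i → ∀ x : W.left, x ∈ O → x ∈ E i := by
      intro i h x hx
      have := Set.mem_iInter.1 hx i
      simpa only [if_pos h] using this
    have hO2 : ∀ i, w ∉ E i → ∀ x : W.left, x ∈ O → x ∉ E i := by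
      intro i h x hx
      have := Set.mem_iInter.1 hx i
      simp only [if_neg h] at this
      exact this
    let k := openObjι W O
    have hkO : ∀ x : (openObj W O).left, k.left.base x ∈ O := fun x => x.2
    refine ⟨openObj W O, k, ⟨w, hwO⟩, ?_, rfl⟩
    change ((EtShriek.extZero j).obj F).obj.map k.op _ =
      ((EtShriek.extZero j).obj F).obj.map k.op _
    rw [map_zero, map_sum]
    rw [Finset.sum_congr rfl (fun i _ => uhat_res j F k (φ i).1 (φ i).2 (t i))]
    refine step j F n ih (openObj W O) (fun i => ⟨k.left ≫ (φ i).1, hφ_res j k _ (φ i).2⟩)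
      (fun i => F.obj.map ((EtCoh.bc j).map k).op (t i)) (fun i => ?_) ?_ (fun i => w ∈ E i)
      (fun i h => ?_) (fun i h => ?_)
    · rw [sectSupp_map]
      exact (Set.preimage_mono (ht i)).trans (preimage_range_graphL j k _ (φ i).2).le
    · rw [← map_sum, hsum, map_zero]
    · exact eq_of_range_subset j k _ (φ i.castSucc).2 _ L.2 (fun x => hO1 i h _ (hkO x))
    · exact disjoint_range_graphL_res j k _ (φ i.castSucc).2 _ L.2 (fun x => hO2 i h _ (hkO x))

/-- the comparison `j_! F ⟶ j_!^{prop} F` is injective on sections -/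
theorem injective_Φ (W : X.Etale) :
    Function.Injective (((Φ j).app F).hom.app (op W)).hom := by
  rw [injective_iff_map_eq_zero]
  intro g hg
  obtain ⟨R, hR, hP⟩ := induction_extZero j F (normSumPred j F) (isNormSum_unitSec j F) W g
  apply SHC.eq_of_equalizerSieve_mem _ W
  refine X.smallEtaleTopology.superset_covering ?_ hR
  intro W' k hk
  change ((EtShriek.extZero j).obj F).obj.map k.op g =
    ((EtShriek.extZero j).obj F).obj.map k.op 0
  rw [map_zero]
  obtain ⟨n, φ, t, ht, e⟩ := hP W' k hk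
  rw [e]
  apply sum_uhat_eq_zero j F n W' φ t ht
  have nat := congrArg (fun ψ => ψ g)
    (congrArg AddCommGrpCat.Hom.hom (((Φ j).app F).hom.naturality k.op))
  simp only [AddCommGrpCat.hom_comp, AddMonoidHom.coe_comp, Function.comp_apply] at nat
  have h1 : valS j F W' (((Φ j).app F).hom.app (op W')
      (((EtShriek.extZero j).obj F).obj.map k.op g)) = 0 := by
    have h1' := congrArg (valS j F W') nat
    rw [h1']
    have hg' : ((Φ j).app F).hom.app (op W) g = 0 := hg
    rw [hg', map_zero]
    rfl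
  have h2 : ∀ (m : ℕ) (a : Fin m → EtCoh.sect ((shriekSheaf j).obj F) W'),
      valS j F W' (∑ i, a i) = ∑ i, valS j F W' (a i) := by
    intro m a
    exact map_sum (EtShriek.shriekSubgroup j F W').subtype
      (fun i => (show ↥(EtShriek.shriekSubgroup j F W') from a i)) Finset.univ
  rw [e, map_sum, h2] at h1
  rw [← h1]
  exact Finset.sum_congr rfl (fun i _ => (Φ_uhat j F W' (φ i).1 (φ i).2 (t i) (ht i)).symm)

instance mono_Φ_app : Mono ((Φ j).app F) :=
  mono_of_injective_app _ (injective_Φ j F)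

/-- S0650 -/
theorem main0650 : ∃ τ : EtShriek.extZero j ⟶ EtCoh.push j, ∀ F : EtCoh.Ab U, Mono (τ.app F) := by
  refine ⟨Φ j ≫ ιSnat j, fun F => ?_⟩
  change Mono ((Φ j).app F ≫ ιS j F)
  infer_instance

end Groth.Agent.Helper1.EZ
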