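import Groth.Agent.Lib.Helper1.HPFactor
import Mathlib.Algebra.Polynomial.Identities

set_option autoImplicit false

/-! # Equivalent characterizations of henselian pairs: roots, Gabber's criterion, factorizations -/

namespace Groth.Agent.Helper1

open Polynomial

universe u

section Gabber

variable {A : Type*} [CommRing A] {I : Ideal A}

lemma map_mk_eq_zero_of_coeff_mem {p : A[X]} (hp : ∀ i, p.coeff i ∈ I) :
    p.map (Ideal.Quotient.mk I) = 0 := by
  ext i
  rw [coeff_map, coeff_zero]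
  exact Ideal.Quotient.eq_zero_iff_mem.mpr (hp i)

/-- For `F = Xⁿ(X-1) + p` with `p ≡ 0` and `β ≡ 1` modulo `I`: `F(β) ≡ 0` and `F'(β) ≡ 1`. -/
lemma mk_eval_gabber_poly {n : ℕ} {p : A[X]} (hp : ∀ i, p.coeff i ∈ I) {β : A}
    (hβ : β - 1 ∈ I) :
    Ideal.Quotient.mk I ((X ^ n * (X - 1) + p).eval β) = 0 ∧
      Ideal.Quotient.mk I ((X ^ n * (X - 1) + p).derivative.eval β) = 1 := by
  have hβ1 : Ideal.Quotient.mk I β = 1 := by
    rw [← sub_eq_zero, ← map_one (Ideal.Quotient.mk I), ← map_sub]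
    exact Ideal.Quotient.eq_zero_iff_mem.mpr hβ
  have hmap : (X ^ n * (X - 1) + p).map (Ideal.Quotient.mk I) = X ^ n * (X - 1) := by
    rw [Polynomial.map_add, map_mk_eq_zero_of_coeff_mem hp, add_zero]
    simp
  constructor
  · rw [← eval_map_apply, hmap, hβ1]
    simp
  · rw [← eval_map_apply, ← derivative_map, hmap, hβ1]
    simp [derivative_mul]

theorem gabberProp_of_henselianRing [HenselianRing A I] : GabberProp A I := by
  refine ⟨HenselianRing.jac, fun n hn p hpdeg hpI ↦ ?_⟩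
  cases subsingleton_or_nontrivial A
  · exact ⟨1, by simp, Subsingleton.elim _ _⟩
  have hmonic : (X ^ n * (X - 1) + p).Monic := by
    have h1 : (X ^ n * (X - 1) : A[X]).Monic := by
      rw [show (X - 1 : A[X]) = X - C 1 by simp]
      exact (monic_X_pow n).mul (monic_X_sub_C 1)
    apply h1.add_of_left
    have h2 : (X ^ n * (X - 1) : A[X]).natDegree = n + 1 := by
      rw [show (X - 1 : A[X]) = X - C 1 by simp,
        (monic_X_pow n).natDegree_mul (monic_X_sub_C (1 : A)), natDegree_X_pow,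
        natDegree_X_sub_C]
    rw [degree_eq_natDegree h1.ne_zero, h2]
    exact lt_of_le_of_lt degree_le_natDegree (by exact_mod_cast Nat.lt_succ_of_le hpdeg)
  obtain ⟨h0, h1⟩ := mk_eval_gabber_poly (n := n) hpI (β := (1 : A)) (by simp)
  obtain ⟨a, ha, ha1⟩ := HenselianRing.is_henselian (X ^ n * (X - 1) + p) hmonic 1
    (Ideal.Quotient.eq_zero_iff_mem.mp h0) (by rw [h1]; exact isUnit_one)
  exact ⟨a, ha1, ha⟩

/-- Uniqueness of the root in Gabber's criterion. -/
theorem gabber_root_unique (hI : I ≤ Ideal.jacobson ⊥) {n : ℕ} {p : A[X]}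
    (hp : ∀ i, p.coeff i ∈ I) {α β : A} (hα : α - 1 ∈ I) (hβ : β - 1 ∈ I)
    (hαr : IsRoot (X ^ n * (X - 1) + p) α) (hβr : IsRoot (X ^ n * (X - 1) + p) β) : α = β := by
  set F := X ^ n * (X - 1) + p with hF
  obtain ⟨c, hc⟩ := F.binomExpansion β (α - β)
  have e1 : F.eval α = 0 := hαr
  have e2 : F.eval β = 0 := hβr
  rw [add_sub_cancel, e1, e2, zero_add] at hc
  have h1 : (α - β) * (F.derivative.eval β + c * (α - β)) = 0 := by linear_combination -hc
  have h2 : (F.derivative.eval β + c * (α - β)) - 1 ∈ I := by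
    rw [← Ideal.Quotient.eq_zero_iff_mem, map_sub, map_add, map_mul,
      (mk_eval_gabber_poly (n := n) hp hβ).2, map_one]
    have : Ideal.Quotient.mk I (α - β) = 0 := by
      rw [Ideal.Quotient.eq_zero_iff_mem]
      have : α - β = (α - 1) - (β - 1) := by ring
      rw [this]
      exact I.sub_mem hα hβ
    rw [this]
    ring
  have h3 := Ideal.isUnit_of_sub_one_mem_jacobson_bot _ (hI h2)
  exact sub_eq_zero.mp (h3.mul_left_eq_zero.mp h1)

/-- Lifting of coprime factorizations implies the root lifting property. -/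
theorem henselianRing_of_factor_lift (hI : I ≤ Ideal.jacobson ⊥)
    (H : ∀ f : A[X], f.Monic → ∀ g₀ h₀ : (A ⧸ I)[X], g₀.Monic → h₀.Monic →
      IsCoprime g₀ h₀ → f.map (Ideal.Quotient.mk I) = g₀ * h₀ →
      ∃ g h : A[X], g.Monic ∧ h.Monic ∧ f = g * h ∧
        g.map (Ideal.Quotient.mk I) = g₀ ∧ h.map (Ideal.Quotient.mk I) = h₀) :
    HenselianRing A I := by
  refine ⟨hI, fun f hf a₀ ha₀ hder ↦ ?_⟩
  cases subsingleton_or_nontrivial (A ⧸ I)
  · have hItop : I = ⊤ := Ideal.Quotient.subsingleton_iff.mp ‹_›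
    have : Ideal.jacobson (⊥ : Ideal A) = ⊤ := top_le_iff.mp (hItop ▸ hI)
    have hbt : (⊥ : Ideal A) = ⊤ := Ideal.jacobson_eq_top_iff.mp this
    have h10 : (1 : A) ∈ (⊥ : Ideal A) := hbt ▸ Submodule.mem_top
    have : Subsingleton A := subsingleton_of_zero_eq_one (Ideal.mem_bot.mp h10).symm
    exact ⟨a₀, Subsingleton.elim _ _, by simp⟩
  set fb := f.map (Ideal.Quotient.mk I) with hfb
  obtain ⟨ab, hab⟩ : ∃ ab, ab = Ideal.Quotient.mk I a₀ := ⟨_, rfl⟩
  have hroot : fb.IsRoot ab := by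
    rw [IsRoot.def, hfb, hab, eval_map_apply]
    exact Ideal.Quotient.eq_zero_iff_mem.mpr ha₀
  set h₀ := fb /ₘ (X - C ab) with hh₀
  have hmul : (X - C ab) * h₀ = fb := mul_divByMonic_eq_iff_isRoot.mpr hroot
  have hh₀monic : h₀.Monic :=
    (monic_X_sub_C ab).of_mul_monic_left (hmul ▸ hf.map _)
  have hh₀eval : h₀.eval ab = Ideal.Quotient.mk I (f.derivative.eval a₀) := by
    rw [← eval_map_apply, ← derivative_map, ← hfb, ← hmul, derivative_mul, ← hab]
    simp
  have hcop : IsCoprime (X - C ab) h₀ := by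
    obtain ⟨u, hu⟩ := hder
    have h1 : h₀ %ₘ (X - C ab) + (X - C ab) * (h₀ /ₘ (X - C ab)) = h₀ :=
      modByMonic_add_div h₀ (X - C ab)
    rw [modByMonic_X_sub_C_eq_C_eval, hh₀eval, ← hu] at h1
    refine ⟨-(C (↑u⁻¹ : A ⧸ I) * (h₀ /ₘ (X - C ab))), C (↑u⁻¹ : A ⧸ I), ?_⟩
    have h2 : C (↑u⁻¹ : A ⧸ I) * C (u : A ⧸ I) = 1 := by
      rw [← C_mul, Units.inv_mul, C_1]
    linear_combination (-(C (↑u⁻¹ : A ⧸ I))) * h1 + h2
  obtain ⟨g, h, hg, hh, hfgh, hgmap, hhmap⟩ :=
    H f hf (X - C ab) h₀ (monic_X_sub_C ab) hh₀monic hcop hmul.symm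
  have hgdeg : g.natDegree = 1 := by
    rw [← hg.natDegree_map (Ideal.Quotient.mk I), hgmap, natDegree_X_sub_C]
  have hgeq := hg.eq_X_add_C hgdeg
  refine ⟨-g.coeff 0, ?_, ?_⟩
  · rw [IsRoot.def, hfgh, eval_mul]
    have : g.eval (-g.coeff 0) = 0 := by
      rw [hgeq]; simp
    rw [this, zero_mul]
  · have h1 : Ideal.Quotient.mk I (g.coeff 0) = -ab := by
      rw [← coeff_map, hgmap]; simp
    rw [← Ideal.Quotient.eq_zero_iff_mem, map_sub, map_neg, h1, hab]
    ring

end Gabber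

/-- Mathlib's henselian condition is equivalent to `I ≤ jac` plus Gabber's root condition. -/
theorem henselianRing_of_gabberProp {A : Type u} [CommRing A] {I : Ideal A}
    (hG : GabberProp A I) : HenselianRing A I :=
  henselianRing_of_factor_lift hG.1 fun f hf g₀ h₀ hg₀ hh₀ hcop hfac ↦
    exists_factor_lift_of_gabberProp hG f hf g₀ h₀ hg₀ hh₀ hcop hfac

theorem henselianRing_iff_gabberProp {A : Type u} [CommRing A] {I : Ideal A} :
    HenselianRing A I ↔ GabberProp A I :=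
  ⟨fun _ ↦ gabberProp_of_henselianRing, henselianRing_of_gabberProp⟩

end Groth.Agent.Helper1
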