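import Groth.Agent.Lib.Helper1.HPEquiv
import Mathlib.RingTheory.IntegralClosure.Algebra.Ideal

set_option autoImplicit false

/-! # Henselian pairs and idempotents of integral algebras -/

namespace Groth.Agent.Helper1

open Polynomial

universe u v

section Lift

variable {A : Type u} [CommRing A] {I : Ideal A}

/-- An integral element that is idempotent modulo `IB` is killed by a monic polynomial reducing to
`X^d (X-1)^d`. -/
theorem exists_monic_aeval_eq_zero_map_eq_of_isIdempotentElem_mk {B : Type v} [CommRing B]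
    [Nontrivial B] [Algebra A B] [Algebra.IsIntegral A B] (y : B)
    (hy : y * y - y ∈ I.map (algebraMap A B)) :
    ∃ (F : A[X]) (d : ℕ), F.Monic ∧ aeval y F = 0 ∧ 0 < d ∧
      F.map (Ideal.Quotient.mk I) = X ^ d * (X - C 1) ^ d := by
  have : Nontrivial A := (algebraMap A B).domain_nontrivial
  obtain ⟨p, hp, hpz, hpI⟩ := exists_monic_aeval_eq_zero_forall_mem_of_mem_map hy
  have hq : (X ^ 2 - X : A[X]).Monic := by
    apply monic_X_pow_sub
    rw [degree_X]
    norm_num
  have hqdeg : (X ^ 2 - X : A[X]).natDegree ≠ 0 := by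
    rw [natDegree_sub_eq_left_of_natDegree_lt] <;> simp
  refine ⟨p.comp (X ^ 2 - X), p.natDegree, hp.comp hq hqdeg, ?_, ?_, ?_⟩
  · rw [aeval_comp]
    have : aeval y (X ^ 2 - X : A[X]) = y * y - y := by simp [sq]
    rw [this, hpz]
  · rw [Nat.pos_iff_ne_zero]
    intro h0
    have : p = 1 := eq_one_of_monic_natDegree_zero hp h0
    rw [this, map_one] at hpz
    exact one_ne_zero hpz
  · have hpmap : p.map (Ideal.Quotient.mk I) = X ^ p.natDegree := by
      ext i
      rw [coeff_map, coeff_X_pow]
      split_ifs with h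
      · rw [h, hp.coeff_natDegree, map_one]
      · exact Ideal.Quotient.eq_zero_iff_mem.mpr (hpI i h)
    rw [map_comp, hpmap, X_pow_comp, ← mul_pow]
    congr 1
    simp only [Polynomial.map_sub, Polynomial.map_pow, map_X, map_one]
    ring

/-- Over a henselian pair, idempotents lift along `B → B/IB` for integral `B`. -/
theorem exists_isIdempotentElem_lift_of_isIntegral (hG : GabberProp A I) {B : Type v}
    [CommRing B] [Algebra A B] [Algebra.IsIntegral A B]
    (w : B ⧸ I.map (algebraMap A B)) (hw : IsIdempotentElem w) :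
    ∃ e : B, IsIdempotentElem e ∧ Ideal.Quotient.mk (I.map (algebraMap A B)) e = w := by
  cases subsingleton_or_nontrivial B
  · exact ⟨0, IsIdempotentElem.zero, Subsingleton.elim _ _⟩
  obtain ⟨y, hy⟩ := Ideal.Quotient.mk_surjective w
  have hyy : y * y - y ∈ I.map (algebraMap A B) := by
    rw [← Ideal.Quotient.eq_zero_iff_mem, map_sub, map_mul, hy, hw.eq, sub_self]
  obtain ⟨F, d, hF, hFy, hd, hFmap⟩ :=
    exists_monic_aeval_eq_zero_map_eq_of_isIdempotentElem_mk y hyy
  have hcop0 : IsCoprime (X ^ d : (A ⧸ I)[X]) ((X - C 1) ^ d) := by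
    apply IsCoprime.pow
    exact ⟨1, -1, by simp⟩
  obtain ⟨G, H, hG', hH', hFGH, hGmap, hHmap⟩ := exists_factor_lift_of_gabberProp hG F hF
    (X ^ d) ((X - C 1) ^ d) (monic_X_pow d) ((monic_X_sub_C 1).pow d) hcop0 hFmap
  have hcop : IsCoprime G H := isCoprime_of_isCoprime_map_mk hG.1 hG' (by
    rw [hGmap, hHmap]; exact hcop0)
  obtain ⟨r, s, hrs⟩ := hcop
  refine ⟨aeval y (r * G), ?_, ?_⟩
  · have h1 : aeval y (r * G) * aeval y (s * H) = 0 := by
      rw [← map_mul]
      have : r * G * (s * H) = r * s * F := by rw [hFGH]; ring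
      rw [this, map_mul, hFy, mul_zero]
    have h2 : aeval y (r * G) + aeval y (s * H) = 1 := by
      rw [← map_add, hrs, map_one]
    change aeval y (r * G) * aeval y (r * G) = aeval y (r * G)
    have h3 : aeval y (s * H) = 1 - aeval y (r * G) := by rw [← h2]; ring
    rw [h3] at h1
    linear_combination -h1
  · -- reduction modulo `IB`
    have hmk : ∀ P : A[X], Ideal.Quotient.mk (I.map (algebraMap A B)) (aeval y P) =
        aeval w (P.map (algebraMap A (A ⧸ I))) := by
      intro P
      rw [aeval_map_algebraMap, ← hy]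
      exact (aeval_algHom_apply (Ideal.Quotient.mkₐ A (I.map (algebraMap A B))) y P).symm
    have hGw : aeval w (G.map (algebraMap A (A ⧸ I))) = w := by
      have : G.map (algebraMap A (A ⧸ I)) = X ^ d := hGmap
      rw [this, map_pow, aeval_X]
      obtain ⟨d', rfl⟩ := Nat.exists_eq_succ_of_ne_zero hd.ne'
      exact hw.pow_succ_eq d'
    have hHw : w * aeval w (H.map (algebraMap A (A ⧸ I))) = 0 := by
      have : H.map (algebraMap A (A ⧸ I)) = (X - C 1) ^ d := hHmap
      rw [this, map_pow, map_sub, aeval_X, aeval_C, map_one]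
      obtain ⟨d', rfl⟩ := Nat.exists_eq_succ_of_ne_zero hd.ne'
      rw [pow_succ', ← mul_assoc]
      have : w * (w - 1) = 0 := by rw [mul_sub, hw.eq, mul_one, sub_self]
      rw [this, zero_mul]
    have h1 := congrArg (fun P ↦ Ideal.Quotient.mk (I.map (algebraMap A B)) (aeval y P)) hrs
    simp only [map_add, map_mul, map_one] at h1
    rw [hmk G, hmk H, hGw] at h1
    rw [map_mul, map_mul, hmk G, hGw]
    have h2 := congrArg (fun z ↦ w * z) h1
    simp only [mul_add, mul_one] at h2
    have hww := hw.eq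
    set rr := Ideal.Quotient.mk (I.map (algebraMap A B)) (aeval y r)
    set ss := Ideal.Quotient.mk (I.map (algebraMap A B)) (aeval y s)
    linear_combination h2 - ss * hHw + (-rr) * hww

/-- Over a henselian pair, reduction modulo `IB` is a bijection on idempotents for integral `B`. -/
theorem bijOn_isIdempotentElem_of_isIntegral (hG : GabberProp A I) (B : Type v)
    [CommRing B] [Algebra A B] [Algebra.IsIntegral A B] :
    Set.BijOn (Ideal.Quotient.mk (Ideal.map (algebraMap A B) I))
      {e : B | IsIdempotentElem e} {e | IsIdempotentElem e} := by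
  refine ⟨fun e he ↦ he.map _, fun e he e' he' h ↦ ?_, fun w hw ↦ ?_⟩
  · apply eq_of_isIdempotentElem_of_sub_mem_jacobson he he'
    apply map_le_jacobson_of_isIntegral hG.1
    rw [← Ideal.Quotient.eq_zero_iff_mem, map_sub, h, sub_self]
  · obtain ⟨e, he, hew⟩ := exists_isIdempotentElem_lift_of_isIntegral hG w hw
    exact ⟨e, he, hew⟩

end Lift

section Converse

variable {A : Type u} [CommRing A] {I : Ideal A}

/-- A rank one idempotent in a finite flat algebra gives a retraction. -/
theorem exists_retraction_of_rankOne (hI : I ≤ Ideal.jacobson ⊥) (B : Type v) [CommRing B]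
    [Algebra A B] [Module.Finite A B] [Module.Flat A B] (e : B) (heid : IsIdempotentElem e)
    (σB : B →ₐ[A] A ⧸ I) (hσBe : σB e = 1)
    (hcong : ∀ (x : B) (a : A), Ideal.Quotient.mk I a = σB x →
      x * e - algebraMap A B a * e ∈ I.map (algebraMap A B)) :
    ∃ χ : B →ₐ[A] A, χ e = 1 ∧ (Ideal.Quotient.mkₐ A I).comp χ = σB := by
  let k := A ⧸ I
  let C := B ⧸ Ideal.span ({1 - e} : Set B)
  let mkC : B →ₐ[A] C := Ideal.Quotient.mkₐ A _
  have hmkCsurj : Function.Surjective mkC := Ideal.Quotient.mkₐ_surjective A _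
  have hCfin : Module.Finite A C := Module.Finite.of_surjective mkC.toLinearMap hmkCsurj
  have hmkCe : mkC e = 1 := by
    have h1 : mkC (1 - e) = 0 :=
      Ideal.Quotient.eq_zero_iff_mem.mpr (Ideal.subset_span rfl)
    rw [map_sub, map_one, sub_eq_zero] at h1
    exact h1.symm
  have hmapJ : ∀ x ∈ I.map (algebraMap A B), mkC x ∈ I.map (algebraMap A C) := by
    intro x hx
    have h1 : mkC x ∈ (I.map (algebraMap A B)).map mkC.toRingHom := Ideal.mem_map_of_mem _ hx
    rw [Ideal.map_map] at h1
    exact h1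
  have hCsmul : (I • (⊤ : Submodule A C)) = (I.map (algebraMap A C)).restrictScalars A :=
    Ideal.smul_top_eq_map I
  have hsurjC : Function.Surjective (algebraMap A C) := by
    have h1 : LinearMap.range (Algebra.linearMap A C) = ⊤ := by
      apply eq_top_of_sup_smul_eq_top hI
      intro c _
      obtain ⟨x, rfl⟩ := hmkCsurj c
      obtain ⟨a, ha⟩ := Ideal.Quotient.mk_surjective (σB x)
      have h2 : mkC x = algebraMap A C a + mkC (x * e - algebraMap A B a * e) := by
        rw [map_sub, map_mul, map_mul, hmkCe, mul_one, mul_one, AlgHom.commutes]; ring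
      rw [h2]
      refine Submodule.add_mem_sup ⟨a, rfl⟩ ?_
      rw [hCsmul]
      exact hmapJ _ (hcong x a ha)
    intro c
    have : c ∈ LinearMap.range (Algebra.linearMap A C) := h1 ▸ Submodule.mem_top
    obtain ⟨a, ha⟩ := this
    exact ⟨a, ha⟩
  have hσB1e : ∀ x ∈ Ideal.span ({1 - e} : Set B), σB x = 0 := by
    have : Ideal.span ({1 - e} : Set B) ≤ RingHom.ker σB := by
      rw [Ideal.span_le, Set.singleton_subset_iff]
      change σB (1 - e) = 0
      rw [map_sub, map_one, hσBe, sub_self]
    exact fun x hx ↦ this hx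
  let σC : C →ₐ[A] k := Ideal.Quotient.liftₐ _ σB hσB1e
  have hσC : ∀ x : B, σC (mkC x) = σB x := fun x ↦ rfl
  have hkerC : RingHom.ker (algebraMap A C) ≤ Ideal.jacobson ⊥ := by
    intro a ha
    apply hI
    rw [RingHom.mem_ker] at ha
    have h1 : σC (algebraMap A C a) = 0 := by rw [ha, map_zero]
    rw [AlgHom.commutes] at h1
    exact Ideal.Quotient.eq_zero_iff_mem.mp h1
  have hinjC : Function.Injective (algebraMap A C) := by
    rw [injective_iff_map_eq_zero]
    intro a ha
    have h1 : algebraMap A B a ∈ Ideal.span ({1 - e} : Set B) := by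
      rw [← Ideal.Quotient.eq_zero_iff_mem]
      have : mkC (algebraMap A B a) = 0 := by rw [AlgHom.commutes]; exact ha
      exact this
    obtain ⟨c, hc⟩ := Ideal.mem_span_singleton'.mp h1
    have h2 : a • e = 0 := by
      rw [Algebra.smul_def, ← hc]
      have := heid.eq
      linear_combination (-c) * this
    exact eq_zero_of_smul_eq_zero_of_flat hsurjC hkerC mkC.toLinearMap e hmkCe h2
  let E : A ≃ₐ[A] C := AlgEquiv.ofBijective (Algebra.ofId A C) ⟨hinjC, hsurjC⟩
  have hE : ∀ c : C, Ideal.Quotient.mk I (E.symm c) = σC c := by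
    intro c
    obtain ⟨a, rfl⟩ := E.surjective c
    rw [AlgEquiv.symm_apply_apply]
    change _ = σC (algebraMap A C a)
    rw [AlgHom.commutes]
    rfl
  refine ⟨(E.symm : C →ₐ[A] A).comp mkC, ?_, ?_⟩
  · change E.symm (mkC e) = 1
    rw [hmkCe, map_one]
  · apply AlgHom.ext
    intro x
    change Ideal.Quotient.mk I (E.symm (mkC x)) = σB x
    rw [hE, hσC]

/-- If idempotents of finite algebras correspond bijectively to idempotents modulo `I`, then
`(A, I)` is henselian. -/
theorem henselianRing_of_bijOn_finite {A : Type u} [CommRing A] {I : Ideal A}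
    (H : ∀ (B : Type u) [CommRing B] [Algebra A B], Module.Finite A B →
      Set.BijOn (Ideal.Quotient.mk (Ideal.map (algebraMap A B) I))
        {e : B | IsIdempotentElem e} {e | IsIdempotentElem e}) :
    HenselianRing A I := by
  apply henselianRing_of_gabberProp
  have hjac : I ≤ Ideal.jacobson ⊥ := by
    intro i hi
    rw [Ideal.jacobson, Ideal.mem_sInf]
    rintro M ⟨-, hM⟩
    by_contra hiM
    obtain ⟨y, m, hm, hym⟩ := hM.exists_inv hiM
    set i' := y * i with hi'
    have hi'I : i' ∈ I := I.mul_mem_left _ hi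
    let B := A ⧸ (I ⊓ M)
    have hBfin : Module.Finite A B := Module.Finite.of_surjective
      (Ideal.Quotient.mkₐ A (I ⊓ M)).toLinearMap (Ideal.Quotient.mkₐ_surjective A _)
    have hidem : IsIdempotentElem (Ideal.Quotient.mk (I ⊓ M) i') := by
      change _ * _ = _
      rw [← map_mul, ← sub_eq_zero, ← map_sub, Ideal.Quotient.eq_zero_iff_mem]
      have : i' * i' - i' = -(i' * m) := by linear_combination i' * hym
      rw [this]
      exact Ideal.neg_mem_iff _ |>.mpr ⟨I.mul_mem_right _ hi'I, M.mul_mem_left _ hm⟩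
    have h0 : Ideal.Quotient.mk (Ideal.map (algebraMap A B) I) (Ideal.Quotient.mk (I ⊓ M) i') =
        Ideal.Quotient.mk (Ideal.map (algebraMap A B) I) 0 := by
      rw [map_zero, Ideal.Quotient.eq_zero_iff_mem]
      exact Ideal.mem_map_of_mem (algebraMap A B) hi'I
    have h1 := (H B hBfin).injOn hidem IsIdempotentElem.zero h0
    have h2 : i' ∈ I ⊓ M := Ideal.Quotient.eq_zero_iff_mem.mp h1
    apply hM.ne_top
    rw [Ideal.eq_top_iff_one, ← hym]
    exact M.add_mem h2.2 hm
  refine ⟨hjac, fun n hn p hpdeg hpI ↦ ?_⟩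
  cases subsingleton_or_nontrivial A
  · exact ⟨1, by simp, Subsingleton.elim _ _⟩
  set F := X ^ n * (X - 1) + p with hF
  have hmonic : F.Monic := by
    have h1 : (X ^ n * (X - 1) : A[X]).Monic := by
      rw [show (X - 1 : A[X]) = X - C 1 by simp]
      exact (monic_X_pow n).mul (monic_X_sub_C 1)
    apply h1.add_of_left
    have h2 : (X ^ n * (X - 1) : A[X]).natDegree = n + 1 := by
      rw [show (X - 1 : A[X]) = X - C 1 by simp,
        (monic_X_pow n).natDegree_mul (monic_X_sub_C (1 : A)), natDegree_X_pow,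
        natDegree_X_sub_C]
    rw [degree_eq_natDegree h1.ne_zero, h2]
    exact lt_of_le_of_lt degree_le_natDegree (by exact_mod_cast Nat.lt_succ_of_le hpdeg)
  let B := AdjoinRoot F
  have hBfin : Module.Finite A B := hmonic.finite_adjoinRoot
  have hBfree : Module.Free A B := hmonic.free_adjoinRoot
  set t : B := AdjoinRoot.root F with ht
  have hpt : aeval t p ∈ I.map (algebraMap A B) := by
    rw [ht, AdjoinRoot.aeval_eq]
    exact mk_mem_map_of_map_eq_zero I F p (map_mk_eq_zero_of_coeff_mem hpI)
  have hFt : t ^ n * (t - 1) + aeval t p = 0 := by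
    have h1 : aeval t F = 0 := by rw [ht, AdjoinRoot.aeval_eq, AdjoinRoot.mk_self]
    have h2 : aeval t F = aeval t (X ^ n * (X - 1) + p) := congrArg (aeval t) hF
    rw [h2] at h1
    simpa using h1
  have htn : t ^ n * (t - 1) ∈ I.map (algebraMap A B) := by
    have : t ^ n * (t - 1) = -aeval t p := by linear_combination hFt
    rw [this]
    exact (Ideal.neg_mem_iff _).mpr hpt
  have hidem : IsIdempotentElem (Ideal.Quotient.mk (I.map (algebraMap A B)) (t ^ n)) := by
    change _ * _ = _
    rw [← map_mul, ← sub_eq_zero, ← map_sub, Ideal.Quotient.eq_zero_iff_mem]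
    have h1 := mul_geom_sum t n
    have : t ^ n * t ^ n - t ^ n = t ^ n * (t - 1) * ∑ i ∈ Finset.range n, t ^ i := by
      linear_combination (-(t ^ n)) * h1
    rw [this]
    exact Ideal.mul_mem_right _ _ htn
  obtain ⟨e, heid, hew⟩ := (H B hBfin).surjOn hidem
  have hetn : e - t ^ n ∈ I.map (algebraMap A B) := by
    rw [← Ideal.Quotient.eq_zero_iff_mem, map_sub, hew, sub_self]
  -- the section `t ↦ 1`
  have hF1 : eval₂ (algebraMap A (A ⧸ I)) 1 F = 0 := by
    have := (mk_eval_gabber_poly (n := n) hpI (β := (1 : A)) (by simp)).1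
    rw [← map_one (algebraMap A (A ⧸ I)), eval₂_at_apply]
    exact this
  let σB : B →ₐ[A] A ⧸ I := AdjoinRoot.liftAlgHom F (Algebra.ofId A (A ⧸ I)) 1 hF1
  have hσBt : σB t = 1 := AdjoinRoot.liftAlgHom_root _ _ _ _
  have hσBJ : ∀ x ∈ I.map (algebraMap A B), σB x = 0 := by
    have : I.map (algebraMap A B) ≤ RingHom.ker σB := by
      rw [Ideal.map_le_iff_le_comap]
      intro i hi
      rw [Ideal.mem_comap, RingHom.mem_ker, AlgHom.commutes]
      exact Ideal.Quotient.eq_zero_iff_mem.mpr hi
    exact fun x hx ↦ this hx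
  have hσBe : σB e = 1 := by
    have h1 := hσBJ _ hetn
    rw [map_sub, map_pow, hσBt, one_pow, sub_eq_zero] at h1
    exact h1
  have hte : t * e - e ∈ I.map (algebraMap A B) := by
    have : t * e - e = (t - 1) * (e - t ^ n) + t ^ n * (t - 1) := by ring
    rw [this]
    exact Ideal.add_mem _ (Ideal.mul_mem_left _ _ hetn) htn
  -- rank one condition
  have hrank1 : ∀ x : B, ∃ a : A, x * e - algebraMap A B a * e ∈ I.map (algebraMap A B) := by
    intro x
    have hx : x ∈ Algebra.adjoin A ({t} : Set B) := by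
      rw [ht, AdjoinRoot.adjoinRoot_eq_top]; exact Algebra.mem_top
    induction hx using Algebra.adjoin_induction with
    | mem x hx =>
      rw [Set.mem_singleton_iff] at hx
      exact ⟨1, by rw [hx, map_one, one_mul]; exact hte⟩
    | algebraMap a => exact ⟨a, by rw [sub_self]; exact Ideal.zero_mem _⟩
    | add x y _ _ hx hy =>
      obtain ⟨a, ha⟩ := hx
      obtain ⟨a', ha'⟩ := hy
      refine ⟨a + a', ?_⟩
      have : (x + y) * e - algebraMap A B (a + a') * e =
          (x * e - algebraMap A B a * e) + (y * e - algebraMap A B a' * e) := by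
        rw [map_add]; ring
      rw [this]
      exact Ideal.add_mem _ ha ha'
    | mul x y _ _ hx hy =>
      obtain ⟨a, ha⟩ := hx
      obtain ⟨a', ha'⟩ := hy
      refine ⟨a * a', ?_⟩
      have : (x * y) * e - algebraMap A B (a * a') * e =
          x * (y * e - algebraMap A B a' * e) +
            algebraMap A B a' * (x * e - algebraMap A B a * e) := by
        rw [map_mul]; ring
      rw [this]
      exact Ideal.add_mem _ (Ideal.mul_mem_left _ _ ha') (Ideal.mul_mem_left _ _ ha)
  have hcong : ∀ (x : B) (a : A), Ideal.Quotient.mk I a = σB x →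
      x * e - algebraMap A B a * e ∈ I.map (algebraMap A B) := by
    intro x a ha
    obtain ⟨a', ha'⟩ := hrank1 x
    have h1 := hσBJ _ ha'
    rw [map_sub, map_mul, map_mul, hσBe, mul_one, mul_one, AlgHom.commutes, ← ha,
      sub_eq_zero] at h1
    have h2 : a - a' ∈ I := by
      rw [← Ideal.Quotient.eq_zero_iff_mem, map_sub, sub_eq_zero]
      exact h1
    have : x * e - algebraMap A B a * e =
        (x * e - algebraMap A B a' * e) - algebraMap A B (a - a') * e := by
      rw [map_sub]; ring
    rw [this]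
    exact Ideal.sub_mem _ ha' (Ideal.mul_mem_right _ _ (Ideal.mem_map_of_mem _ h2))
  obtain ⟨χ, hχe, hχ⟩ := exists_retraction_of_rankOne hjac B e heid σB hσBe hcong
  refine ⟨χ t, ?_, ?_⟩
  · rw [← Ideal.Quotient.eq_zero_iff_mem, map_sub, map_one, sub_eq_zero]
    have := DFunLike.congr_fun hχ t
    rw [hσBt] at this
    exact this
  · have h1 : aeval (χ t) F = χ (aeval t F) := (aeval_algHom_apply χ t F)
    have h2 : aeval t F = 0 := by rw [ht, AdjoinRoot.aeval_eq, AdjoinRoot.mk_self]
    rw [h2, map_zero] at h1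
    rw [IsRoot.def, ← h1]
    exact (coe_aeval_eq_eval (χ t) ▸ rfl)

end Converse

end Groth.Agent.Helper1
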