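import Mathlib
import Groth.Agent.Lib.Helper1.HPIdem
import Groth.Agent.Lib.Helper1.HPEquiv

/-!
# Splitting off the finite part over a henselian pair: the algebraic core (helper1)

`exists_idem_of_open`: for a henselian (Gabber) pair `(A, I)`, an integral `A`-algebra `B` and an open
`O ⊆ Spec B` such that `O ∩ V(IB)` is closed, there is an idempotent `e` of `B` with `D(e) ⊆ O` and
`D(e) ∩ V(IB) = O ∩ V(IB)`.
-/

set_option autoImplicit false

universe u v

namespace Groth.Agent.Helper1.HS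

open PrimeSpectrum

theorem eq_top_of_sup_eq_top_of_le_jacobson {B : Type*} [CommRing B] {K J : Ideal B}
    (hJ : J ≤ Ideal.jacobson ⊥) (h : K ⊔ J = ⊤) : K = ⊤ := by
  have h1 : (1 : B) ∈ K ⊔ J := h ▸ Submodule.mem_top
  obtain ⟨k, hk, j, hj, hkj⟩ := Submodule.mem_sup.mp h1
  have hu : IsUnit k := by
    have := (Ideal.mem_jacobson_bot.mp (hJ hj)) (-1)
    have e : j * -1 + 1 = k := by linear_combination (-1 : B) * hkj
    rwa [e] at this
  exact Ideal.eq_top_of_isUnit_mem _ hk hu

theorem exists_idem_of_open {A : Type u} [CommRing A] {I : Ideal A} (hG : GabberProp A I)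
    (B : Type v) [CommRing B] [Algebra A B] [Algebra.IsIntegral A B]
    (O : Set (PrimeSpectrum B)) (hO : IsOpen O)
    (hcl : IsClosed (O ∩ zeroLocus (I.map (algebraMap A B) : Set B))) :
    ∃ e : B, IsIdempotentElem e ∧ (basicOpen e : Set (PrimeSpectrum B)) ⊆ O ∧
      (basicOpen e : Set (PrimeSpectrum B)) ∩ zeroLocus (I.map (algebraMap A B) : Set B) =
        O ∩ zeroLocus (I.map (algebraMap A B) : Set B) := by
  set J := I.map (algebraMap A B) with hJ
  let q : B →+* B ⧸ J := Ideal.Quotient.mk J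
  have hq : Function.Surjective q := Ideal.Quotient.mk_surjective
  have hrange : Set.range (comap q) = zeroLocus (J : Set B) := by
    rw [range_comap_of_surjective _ q hq, Ideal.mk_ker]
  -- the clopen subset of `Spec (B/J)`
  let C : Set (PrimeSpectrum (B ⧸ J)) := comap q ⁻¹' O
  have hC1 : IsOpen C := hO.preimage (continuous_comap q)
  have hC2 : IsClosed C := by
    have : C = comap q ⁻¹' (O ∩ zeroLocus (J : Set B)) := by
      ext p
      simp only [C, Set.mem_preimage, Set.mem_inter_iff, iff_self_and]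
      intro _
      rw [← hrange]
      exact ⟨p, rfl⟩
    rw [this]
    exact hcl.preimage (continuous_comap q)
  obtain ⟨w, hw, hCw⟩ := PrimeSpectrum.isClopen_iff.mp ⟨hC2, hC1⟩
  obtain ⟨e, he, hew⟩ := exists_isIdempotentElem_lift_of_isIntegral hG w hw
  have key : ∀ p : PrimeSpectrum B, p ∈ zeroLocus (J : Set B) →
      (p ∈ (basicOpen e : Set (PrimeSpectrum B)) ↔ p ∈ O) := by
    intro p hp
    rw [← hrange] at hp
    obtain ⟨p', rfl⟩ := hp
    have h1 : comap q p' ∈ O ↔ p' ∈ C := Iff.rfl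
    rw [h1, hCw]
    simp only [SetLike.mem_coe, mem_basicOpen]
    rw [← hew]
    rfl
  have hinter : (basicOpen e : Set (PrimeSpectrum B)) ∩ zeroLocus (J : Set B) =
      O ∩ zeroLocus (J : Set B) := by
    ext p
    simp only [Set.mem_inter_iff]
    constructor
    · rintro ⟨h1, h2⟩
      exact ⟨(key p h2).mp h1, h2⟩
    · rintro ⟨h1, h2⟩
      exact ⟨(key p h2).mpr h1, h2⟩
  refine ⟨e, he, ?_, hinter⟩
  -- `D(e) ⊆ O`
  have hDe : IsClopen (basicOpen e : Set (PrimeSpectrum B)) := PrimeSpectrum.isClopen_iff.mpr ⟨e, he, rfl⟩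
  have hZ : IsClosed ((basicOpen e : Set (PrimeSpectrum B)) ∩ Oᶜ) :=
    hDe.1.inter hO.isClosed_compl
  obtain ⟨K, hK⟩ := (isClosed_iff_zeroLocus_ideal _).mp hZ
  have hempty : zeroLocus ((K ⊔ J : Ideal B) : Set B) = ∅ := by
    rw [zeroLocus_sup, ← hK]
    ext p
    simp only [Set.mem_inter_iff, Set.mem_compl_iff, Set.mem_empty_iff_false, iff_false]
    rintro ⟨⟨h1, h2⟩, h3⟩
    exact h2 ((key p h3).mp h1)
  have hKJ : K ⊔ J = ⊤ := zeroLocus_empty_iff_eq_top.mp hempty
  have hJjac : J ≤ Ideal.jacobson ⊥ := map_le_jacobson_of_isIntegral hG.1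
  have hKtop : K = ⊤ := eq_top_of_sup_eq_top_of_le_jacobson hJjac hKJ
  intro p hp
  by_contra hpO
  have : p ∈ zeroLocus (K : Set B) := by
    rw [← hK]
    exact ⟨hp, hpO⟩
  rw [hKtop] at this
  simp at this

end Groth.Agent.Helper1.HS
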