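import Mathlib
import Groth.Agent.Lib.Helper1.HS1

/-!
# Splitting off the finite part of a quasi-finite separated étale scheme over a henselian pair
(helper1)
-/

set_option autoImplicit false
set_option linter.style.haveILetI false

universe u

open CategoryTheory CategoryTheory.Limits AlgebraicGeometry Opposite PrimeSpectrum

namespace Groth.Agent.Helper1.HS

theorem lqf_of_etale' {X Y : Scheme.{u}} (f : X ⟶ Y) [Etale f] : LocallyQuasiFinite f := by
  refine ⟨fun {U} hU {V} hV e => ?_⟩
  have h := f.etale_appLE hU hV e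
  algebraize [(f.appLE U V e).hom]
  show Algebra.QuasiFinite _ _
  infer_instance

variable {A : Type u} [CommRing A] {I : Ideal A}

theorem range_SpecMap_mk (I : Ideal A) :
    Set.range (Spec.map (CommRingCat.ofHom (Ideal.Quotient.mk I))) = zeroLocus (I : Set A) := by
  have := _root_.range_comap_of_surjective _ (Ideal.Quotient.mk I)
    Ideal.Quotient.mk_surjective
  rw [Ideal.mk_ker] at this
  exact this

theorem exists_split_of_openImmersion (hG : GabberProp A I) {B : CommRingCat.{u}}
    (ψ : CommRingCat.of A ⟶ B) (hψ : ψ.hom.IsIntegral) {U : Scheme.{u}}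
    (j : U ⟶ Spec B) [IsOpenImmersion j] (g : U ⟶ Spec (CommRingCat.of A))
    (hg : j ≫ Spec.map ψ = g) [LocallyOfFiniteType g]
    (hfin : IsFinite (pullback.snd g (Spec.map (CommRingCat.ofHom (Ideal.Quotient.mk I))))) :
    ∃ W : U.Opens, IsClosed (W : Set U) ∧ IsFinite (W.ι ≫ g) ∧
      ∀ u : U, u ∉ W → ¬ I ≤ (g.base u : PrimeSpectrum A).asIdeal := by
  letI : Algebra A B := ψ.hom.toAlgebra
  haveI : Algebra.IsIntegral A B := ⟨hψ⟩
  set i := Spec.map (CommRingCat.ofHom (Ideal.Quotient.mk I)) with hi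
  haveI : IsClosedImmersion i :=
    IsClosedImmersion.spec_of_surjective _ Ideal.Quotient.mk_surjective
  set J : Ideal B := I.map (algebraMap A B) with hJ
  let O : Set (PrimeSpectrum B) := Set.range j
  have hO : IsOpen O := j.isOpenEmbedding.isOpen_range
  have hgu : ∀ u : U, g.base u = (Spec.map ψ).base (j.base u) := by
    intro u
    rw [← hg]
    rfl
  have hV' : ∀ x : PrimeSpectrum B, x ∈ zeroLocus (J : Set B) ↔
      I ≤ ((Spec.map ψ).base x : PrimeSpectrum A).asIdeal := by
    intro x
    rw [PrimeSpectrum.mem_zeroLocus, SetLike.coe_subset_coe, hJ, Ideal.map_le_iff_le_comap]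
    rfl
  have hV : ∀ u : U, ((j.base u : PrimeSpectrum B) ∈ zeroLocus (J : Set B)) ↔
      I ≤ (g.base u : PrimeSpectrum A).asIdeal := by
    intro u
    rw [hgu u]
    exact hV' (j.base u)
  -- closedness
  let p₁ := pullback.fst g i
  have hprop : IsProper (p₁ ≫ j) := by
    haveI : IsFinite (pullback.snd g i) := hfin
    haveI : IsFinite (p₁ ≫ g) := by
      rw [show p₁ ≫ g = pullback.snd g i ≫ i from pullback.condition]
      infer_instance
    haveI : IsProper ((p₁ ≫ j) ≫ Spec.map ψ) := by
      rw [Category.assoc, hg]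
      infer_instance
    exact IsProper.of_comp (p₁ ≫ j) (Spec.map ψ)
  have hrange : Set.range (p₁ ≫ j) = O ∩ zeroLocus (J : Set B) := by
    ext x
    constructor
    · rintro ⟨z, rfl⟩
      refine ⟨⟨p₁.base z, rfl⟩, ?_⟩
      show (j.base (p₁.base z) : PrimeSpectrum B) ∈ _
      rw [hV]
      have h1 : g.base (p₁.base z) = i.base ((pullback.snd g i).base z) := by
        have := congrArg (fun k => k.base z) (pullback.condition (f := g) (g := i))
        exact this
      rw [h1]
      have h2 : i.base ((pullback.snd g i).base z) ∈ Set.range i := ⟨_, rfl⟩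
      rw [range_SpecMap_mk] at h2
      exact h2
    · rintro ⟨⟨u, rfl⟩, hx⟩
      have h1 : I ≤ (g.base u : PrimeSpectrum A).asIdeal := (hV u).mp hx
      have h2 : g.base u ∈ Set.range i := by
        rw [range_SpecMap_mk]
        exact h1
      have h3 : u ∈ Set.range p₁ := by
        rw [Scheme.Pullback.range_fst]
        exact h2
      obtain ⟨z, rfl⟩ := h3
      exact ⟨z, rfl⟩
  have hclosed : IsClosed (O ∩ zeroLocus (J : Set B)) := by
    rw [← hrange]
    exact (p₁ ≫ j).isClosedMap.isClosed_range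
  obtain ⟨e, he, hsub, hint⟩ := exists_idem_of_open hG B O hO hclosed
  have hDe : IsClopen (basicOpen e : Set (PrimeSpectrum B)) :=
    PrimeSpectrum.isClopen_iff.mpr ⟨e, he, rfl⟩
  let D : (Spec B).Opens := basicOpen e
  let W : U.Opens := j ⁻¹ᵁ D
  have hW : ∀ u : U, u ∈ W ↔ j.base u ∈ (basicOpen e : Set (PrimeSpectrum B)) := fun u => Iff.rfl
  refine ⟨W, ?_, ?_, ?_⟩
  · exact hDe.1.preimage j.continuous
  · have hr : Set.range (W.ι ≫ j) = (basicOpen e : Set (PrimeSpectrum B)) := by
      ext x
      constructor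
      · rintro ⟨w, rfl⟩
        exact (hW _).mp w.2
      · intro hx
        obtain ⟨u, rfl⟩ := hsub hx
        exact ⟨⟨u, (hW u).mpr hx⟩, rfl⟩
    haveI : IsClosedImmersion (W.ι ≫ j) :=
      IsClosedImmersion.of_isPreimmersion _ (hr ▸ hDe.1)
    haveI : IsIntegralHom (Spec.map ψ) := IsIntegralHom.SpecMap_iff.mpr hψ
    have hcomp : W.ι ≫ g = (W.ι ≫ j) ≫ Spec.map ψ := by rw [Category.assoc, hg]
    refine (IsFinite.iff_isIntegralHom_and_locallyOfFiniteType _).mpr ⟨?_, inferInstance⟩
    rw [hcomp]
    infer_instance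
  · intro u hu hI
    apply hu
    rw [hW]
    have h1 : j.base u ∈ O ∩ zeroLocus (J : Set B) := ⟨⟨u, rfl⟩, (hV u).mpr hI⟩
    rw [← hint] at h1
    exact h1.1

/-- S0784. -/
theorem main0784 (A : Type u) [CommRing A] (I : Ideal A) [HenselianRing A I]
    {U : Scheme.{u}} (g : U ⟶ Spec (CommRingCat.of A)) [QuasiCompact g] [IsSeparated g] [Etale g]
    (hfin : IsFinite (pullback.snd g (Spec.map (CommRingCat.ofHom (Ideal.Quotient.mk I))))) :
    ∃ W : U.Opens, IsClosed (W : Set U) ∧ IsFinite (W.ι ≫ g) ∧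
      ∀ u : U, u ∉ W → ¬ I ≤ (g.base u : PrimeSpectrum A).asIdeal := by
  have hG : GabberProp A I := gabberProp_of_henselianRing
  haveI : LocallyQuasiFinite g := lqf_of_etale' g
  haveI : IsAffine g.normalization := isAffine_of_isAffineHom g.fromNormalization
  let B : CommRingCat.{u} := Γ(g.normalization, ⊤)
  let eN : g.normalization ≅ Spec B := g.normalization.isoSpec
  let ψ : CommRingCat.of A ⟶ B := Spec.preimage (eN.inv ≫ g.fromNormalization)
  have hψ : Spec.map ψ = eN.inv ≫ g.fromNormalization := Spec.map_preimage _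
  have hint : ψ.hom.IsIntegral := by
    rw [← IsIntegralHom.SpecMap_iff, hψ]
    infer_instance
  refine exists_split_of_openImmersion hG ψ hint (g.toNormalization ≫ eN.hom) g ?_ hfin
  rw [Category.assoc, hψ, Iso.hom_inv_id_assoc, Scheme.Hom.toNormalization_fromNormalization]

end Groth.Agent.Helper1.HS
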