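import Mathlib
import Groth.Prelude.Def_EtShriek2
import Groth.Agent.Lib.Helper1.EZ6
import Groth.Agent.Lib.Helper1.HS2

/-!
# Geometric points of the support of a section with proper support (helper1, EZ7)
-/

set_option autoImplicit false
set_option linter.unusedSectionVars false
set_option linter.style.haveILetI false

open CategoryTheory CategoryTheory.Limits AlgebraicGeometry Opposite

namespace Groth.Agent.Helper1.EZ

universe u

open Groth.Agent.Helper1.ES

/-- a section of an étale morphism is an open immersion -/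
theorem isOpenImmersion_of_section {Q B : Scheme.{u}} (q : Q ⟶ B) [Etale q] (σ : B ⟶ Q)
    (h : σ ≫ q = 𝟙 B) : IsOpenImmersion σ := by
  haveI : Mono σ := mono_of_mono_fac h
  haveI : Etale (σ ≫ q) := by rw [h]; infer_instance
  haveI : Etale σ := MorphismProperty.of_postcomp (W := @Etale) (W' := @Etale) σ q
    inferInstance inferInstance
  exact IsOpenImmersion.of_flat_of_mono σ

/-- sections over the spectrum of a field which are open immersions are determined by their
image point -/
theorem section_ext {Q : Scheme.{u}} {Ω : Type u} [Field Ω] (q : Q ⟶ Spec (CommRingCat.of Ω))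
    (σ₁ σ₂ : Spec (CommRingCat.of Ω) ⟶ Q) [IsOpenImmersion σ₂]
    (h₁ : σ₁ ≫ q = 𝟙 _) (h₂ : σ₂ ≫ q = 𝟙 _)
    (h : σ₁.base default = σ₂.base default) : σ₁ = σ₂ := by
  have hr : Set.range σ₁.base ⊆ Set.range σ₂.base := by
    rintro _ ⟨a, rfl⟩
    refine ⟨default, ?_⟩
    rw [Subsingleton.elim a default, h]
  have hl := IsOpenImmersion.lift_fac σ₂ σ₁ hr
  have e : IsOpenImmersion.lift σ₂ σ₁ hr = 𝟙 _ := by
    have := congrArg (fun m => m ≫ q) hl
    simp only [Category.assoc, h₁, h₂, Category.comp_id] at this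
    exact this
  rw [← hl, e, Category.id_comp]

variable {U X : Scheme.{u}} (j : U ⟶ X) [hj : Etale j] [IsSeparated j] (F : EtCoh.Ab U)

/-- geometric points of the support of `t` over a geometric point of `W` -/
def GP (W : X.Etale) (t : EtCoh.sect F ((EtCoh.bc j).obj W)) {Ω : Type u} [Field Ω]
    (wb : Spec (CommRingCat.of Ω) ⟶ W.left) : Type u :=
  {zb : Spec (CommRingCat.of Ω) ⟶ ((EtCoh.bc j).obj W).left //
    zb ≫ EtShriek.prV j W = wb ∧ zb.base default ∈ EtShriek.sectSupp F _ t}

instance etale_prV (W : X.Etale) : Etale (EtShriek.prV j W) :=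
  inferInstanceAs (Etale (pullback.fst W.hom j))

theorem finite_GP (W : X.Etale) (t : EtCoh.sect F ((EtCoh.bc j).obj W))
    (ht : t ∈ EtShriek.shriekSubgroup j F W) {Ω : Type u} [Field Ω]
    (wb : Spec (CommRingCat.of Ω) ⟶ W.left) : Finite (GP j F W t wb) := by
  have hprop : ClSub.IsProperOver (EtShriek.prV j W) (EtShriek.sectSupp F _ t) :=
    (mem_shriekSubgroup_iff' j F W t).1 ht
  let p : ((EtCoh.bc j).obj W).left ⟶ W.left := EtShriek.prV j W
  let q : pullback p wb ⟶ Spec (CommRingCat.of Ω) := pullback.snd p wb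
  let Zb : Set ↥(pullback p wb) := (pullback.fst p wb).base ⁻¹' EtShriek.sectSupp F _ t
  have hZb : ClSub.IsProperOver q Zb :=
    Groth.Agent.S0793.result p wb (pullback.fst p wb) q (IsPullback.of_hasPullback p wb) _ hprop
  haveI : Etale q := inferInstanceAs (Etale (pullback.snd p wb))
  have hfin : Zb.Finite := by
    obtain ⟨hc, hp⟩ := hZb
    haveI : IsProper ((Scheme.IdealSheafData.vanishingIdeal ⟨Zb, hc⟩).subschemeι ≫ q) := hp
    haveI : LocallyQuasiFinite q := HS.lqf_of_etale' q
    have h1 := Scheme.Hom.finite_preimage_singleton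
      ((Scheme.IdealSheafData.vanishingIdeal ⟨Zb, hc⟩).subschemeι ≫ q) default
    have h2 : ((Scheme.IdealSheafData.vanishingIdeal ⟨Zb, hc⟩).subschemeι ≫ q).base ⁻¹' {default} =
        Set.univ := by
      ext x
      simp only [Set.mem_preimage, Set.mem_singleton_iff, Set.mem_univ, iff_true]
      exact Subsingleton.elim _ _
    rw [h2] at h1
    haveI : Finite ↥(Scheme.IdealSheafData.vanishingIdeal ⟨Zb, hc⟩).subscheme :=
      Set.finite_univ_iff.1 h1
    rw [← Helper2.range_red Zb hc]
    exact Set.finite_range _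
  haveI : Finite Zb := hfin.to_subtype
  have hw : ∀ zb : GP j F W t wb, zb.1 ≫ p = 𝟙 _ ≫ wb := fun zb => by
    rw [Category.id_comp]
    exact zb.2.1
  let f : GP j F W t wb → Zb := fun zb =>
    ⟨(pullback.lift zb.1 (𝟙 _) (hw zb)).base default, by
      change (pullback.fst p wb).base ((pullback.lift zb.1 (𝟙 _) (hw zb)).base default) ∈
        EtShriek.sectSupp F _ t
      have e : (pullback.lift zb.1 (𝟙 _) (hw zb) ≫ pullback.fst p wb).base default =
          zb.1.base default := by
        rw [pullback.lift_fst]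
      exact e ▸ zb.2.2⟩
  apply Finite.of_injective f
  intro a b hab
  apply Subtype.ext
  have hab' : (pullback.lift a.1 (𝟙 _) (hw a)).base default =
      (pullback.lift b.1 (𝟙 _) (hw b)).base default := congrArg Subtype.val hab
  haveI : IsOpenImmersion (pullback.lift b.1 (𝟙 _) (hw b)) :=
    isOpenImmersion_of_section q _ (pullback.lift_snd _ _ _)
  have e := section_ext q (pullback.lift a.1 (𝟙 _) (hw a)) (pullback.lift b.1 (𝟙 _) (hw b))
    (pullback.lift_snd _ _ _) (pullback.lift_snd _ _ _) hab'
  have e' := congrArg (fun m => m ≫ pullback.fst p wb) e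
  simp only [pullback.lift_fst] at e'
  exact e'

end Groth.Agent.Helper1.EZ
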