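import Mathlib
import Groth.Prelude.Def_EtShriek2
import Groth.Agent.Lib.Helper1.EZ7

/-!
# Splitting off the diagonal: the inductive step for surjectivity of `j_! ⟶ j_!^{prop}`
(helper1, EZ8)
-/

set_option autoImplicit false
set_option linter.unusedSectionVars false
set_option linter.style.haveILetI false

open CategoryTheory CategoryTheory.Limits AlgebraicGeometry Opposite

namespace Groth.Agent.Helper1.EZ

universe u

open Groth.Agent.Helper1.ES

variable {U X : Scheme.{u}} (j : U ⟶ X) [hj : Etale j] [IsSeparated j] (F : EtCoh.Ab U)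

/-- `U ×_X W` as an étale `X`-scheme -/
noncomputable abbrev W1 (W : X.Etale) : X.Etale :=
  (EtShriek.compEtale j).obj ((EtCoh.bc j).obj W)

/-- the projection `U ×_X W → W` in the small étale site of `X` -/
noncomputable def k1 (W : X.Etale) : W1 j W ⟶ W :=
  MorphismProperty.Over.homMk (pullback.fst W.hom j) pullback.condition trivial

theorem k1_left (W : X.Etale) : (k1 j W).left = EtShriek.prV j W := rfl

/-- the tautological lift `U ×_X W → U` -/
noncomputable abbrev φ0 (W : X.Etale) : (W1 j W).left ⟶ U := ((EtCoh.bc j).obj W).hom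

theorem φ0_eq (W : X.Etale) : φ0 j W = pullback.snd W.hom j := rfl

section General

variable {W W₁ : X.Etale} (k : W₁ ⟶ W) (φ : W₁.left ⟶ U) (hφ : φ ≫ j = W₁.hom)

include hφ in
theorem lift_cond : k.left ≫ W.hom = φ ≫ j := by
  rw [hφ]
  exact MorphismProperty.Over.w k

/-- the comparison `W₁ → U ×_X W` -/
noncomputable def dmap : W₁.left ⟶ pullback W.hom j :=
  pullback.lift k.left φ (lift_cond j k φ hφ)

theorem graphL_comp_bc : graphL j W₁ φ hφ ≫ ((EtCoh.bc j).map k).left = dmap j k φ hφ := by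
  apply pullback.hom_ext
  · have e1 := congrArg (fun m => graphL j W₁ φ hφ ≫ m) (bc_map_left_fst j k)
    have e2 := congrArg (fun m => m ≫ k.left) (graphL_fst j W₁ φ hφ)
    have e3 : dmap j k φ hφ ≫ pullback.fst W.hom j = k.left := pullback.lift_fst _ _ _
    simp only [Category.assoc, Category.id_comp] at e1 e2 ⊢
    rw [e3]
    exact e1.trans e2
  · have e1 : graphL j W₁ φ hφ ≫ ((EtCoh.bc j).map k).left ≫ pullback.snd W.hom j =
        graphL j W₁ φ hφ ≫ pullback.snd W₁.hom j :=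
      congrArg (fun m => graphL j W₁ φ hφ ≫ m) (bc_map_left_snd j k)
    have e2 := graphL_snd j W₁ φ hφ
    have e3 : dmap j k φ hφ ≫ pullback.snd W.hom j = φ := pullback.lift_snd _ _ _
    exact (Category.assoc _ _ _).trans (e1.trans (e2.trans e3.symm))

variable {S : Scheme.{u}}

theorem gp_fst (y : S ⟶ pullback W₁.hom j) (z0 : S ⟶ W₁.left)
    (h : y ≫ pullback.fst W₁.hom j = z0) :
    (y ≫ ((EtCoh.bc j).map k).left) ≫ pullback.fst W.hom j = z0 ≫ k.left := by
  have e1 := congrArg (fun m => y ≫ m) (bc_map_left_fst j k)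
  have e2 := congrArg (fun m => m ≫ k.left) h
  simp only [Category.assoc] at e1 e2 ⊢
  exact e1.trans e2

theorem gp_snd (y : S ⟶ pullback W₁.hom j) :
    (y ≫ ((EtCoh.bc j).map k).left) ≫ pullback.snd W.hom j = y ≫ pullback.snd W₁.hom j := by
  have e1 := congrArg (fun m => y ≫ m) (bc_map_left_snd j k)
  simp only [Category.assoc] at e1 ⊢
  exact e1

theorem gp_inj (y₁ y₂ : S ⟶ pullback W₁.hom j)
    (h1 : y₁ ≫ pullback.fst W₁.hom j = y₂ ≫ pullback.fst W₁.hom j)
    (h2 : y₁ ≫ ((EtCoh.bc j).map k).left = y₂ ≫ ((EtCoh.bc j).map k).left) : y₁ = y₂ := by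
  apply pullback.hom_ext h1
  rw [← gp_snd j k y₁, ← gp_snd j k y₂, h2]

theorem gp_diag (y : S ⟶ pullback W₁.hom j) (z0 : S ⟶ W₁.left)
    (h : y ≫ pullback.fst W₁.hom j = z0)
    (h2 : y ≫ ((EtCoh.bc j).map k).left = z0 ≫ dmap j k φ hφ) :
    y = z0 ≫ graphL j W₁ φ hφ := by
  have e3 : dmap j k φ hφ ≫ pullback.snd W.hom j = φ := pullback.lift_snd _ _ _
  apply pullback.hom_ext
  · rw [Category.assoc, graphL_fst, Category.comp_id]
    exact h
  · have a1 : y ≫ pullback.snd W₁.hom j = z0 ≫ φ :=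
      (gp_snd j k y).symm.trans ((congrArg (fun m => m ≫ pullback.snd W.hom j) h2).trans
        ((Category.assoc _ _ _).trans (congrArg (fun m => z0 ≫ m) e3)))
    have a2 : (z0 ≫ graphL j W₁ φ hφ) ≫ pullback.snd W₁.hom j = z0 ≫ φ :=
      (Category.assoc _ _ _).trans (congrArg (fun m => z0 ≫ m) (graphL_snd j W₁ φ hφ))
    exact a1.trans a2.symm

end General

theorem dmap_k1 (W : X.Etale) : dmap j (k1 j W) (φ0 j W) rfl = 𝟙 _ := by
  apply pullback.hom_ext
  · exact (pullback.lift_fst _ _ _).trans (Category.id_comp _).symm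
  · exact (pullback.lift_snd _ _ _).trans (Category.id_comp _).symm

theorem graphL_comp_bc_k1 (W : X.Etale) :
    graphL j (W1 j W) (φ0 j W) rfl ≫ ((EtCoh.bc j).map (k1 j W)).left = 𝟙 _ :=
  (graphL_comp_bc j (k1 j W) (φ0 j W) rfl).trans (dmap_k1 j W)

theorem graph_comp_bc_k1 (W : X.Etale) :
    graph j (W1 j W) (φ0 j W) rfl ≫ (EtCoh.bc j).map (k1 j W) = 𝟙 ((EtCoh.bc j).obj W) := by
  apply MorphismProperty.Over.Hom.ext
  exact graphL_comp_bc_k1 j W

/-- the section with the diagonal part split off -/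
noncomputable def t1 (W : X.Etale) (t : EtCoh.sect F ((EtCoh.bc j).obj W)) :
    EtCoh.sect F ((EtCoh.bc j).obj (W1 j W)) :=
  F.obj.map ((EtCoh.bc j).map (k1 j W)).op t - ext j F (W1 j W) (φ0 j W) rfl t

theorem t1_add_ext (W : X.Etale) (t : EtCoh.sect F ((EtCoh.bc j).obj W)) :
    t1 j F W t + ext j F (W1 j W) (φ0 j W) rfl t = F.obj.map ((EtCoh.bc j).map (k1 j W)).op t :=
  sub_add_cancel _ _

theorem t1_mem (W : X.Etale) (t : EtCoh.sect F ((EtCoh.bc j).obj W))
    (ht : t ∈ EtShriek.shriekSubgroup j F W) :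
    t1 j F W t ∈ EtShriek.shriekSubgroup j F (W1 j W) :=
  AddSubgroup.sub_mem _ (EtShriek.shriekSubgroup_le_comap j F (k1 j W) ht)
    (ext_mem j F (W1 j W) (φ0 j W) rfl t)

theorem graph_t1 (W : X.Etale) (t : EtCoh.sect F ((EtCoh.bc j).obj W)) :
    F.obj.map (graph j (W1 j W) (φ0 j W) rfl).op (t1 j F W t) = 0 := by
  unfold t1
  rw [map_sub, ext_graph]
  have e : F.obj.map (graph j (W1 j W) (φ0 j W) rfl).op
      (F.obj.map ((EtCoh.bc j).map (k1 j W)).op t) = t := by
    have h1 : F.obj.map (graph j (W1 j W) (φ0 j W) rfl).op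
        (F.obj.map ((EtCoh.bc j).map (k1 j W)).op t) =
        F.obj.map (graph j (W1 j W) (φ0 j W) rfl ≫ (EtCoh.bc j).map (k1 j W)).op t := by
      rw [op_comp, F.obj.map_comp, ConcreteCategory.comp_apply]
    rw [h1, graph_comp_bc_k1]
    have e2 : F.obj.map (𝟙 ((EtCoh.bc j).obj W)).op = 𝟙 _ := F.obj.map_id _
    have e3 := congrArg (fun m => (ConcreteCategory.hom m) t) e2
    exact e3
  rw [e, sub_self]

theorem supp_t1_disjoint (W : X.Etale) (t : EtCoh.sect F ((EtCoh.bc j).obj W))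
    (y : ((EtCoh.bc j).obj (W1 j W)).left) (hy : y ∈ EtShriek.sectSupp F _ (t1 j F W t)) :
    y ∉ Set.range (graphL j (W1 j W) (φ0 j W) rfl).base := by
  rintro ⟨x, rfl⟩
  exact (map_eq_zero_iff F (graph j (W1 j W) (φ0 j W) rfl) (t1 j F W t)).1 (graph_t1 j F W t) x hy

theorem supp_t1_subset (W : X.Etale) (t : EtCoh.sect F ((EtCoh.bc j).obj W)) :
    EtShriek.sectSupp F _ (t1 j F W t) ⊆
      ((EtCoh.bc j).map (k1 j W)).left.base ⁻¹' EtShriek.sectSupp F _ t := by
  intro y hy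
  have hy' : y ∈ EtShriek.sectSupp F _ (F.obj.map ((EtCoh.bc j).map (k1 j W)).op t +
      -ext j F (W1 j W) (φ0 j W) rfl t) := by
    rw [← sub_eq_add_neg]
    exact hy
  rcases sectSupp_add_subset F _ _ _ hy' with h | h
  · rwa [sectSupp_map] at h
  · rw [sectSupp_neg] at h
    exact absurd (supp_ext j F (W1 j W) (φ0 j W) rfl t h) (supp_t1_disjoint j F W t y hy)

/-- splitting off the diagonal strictly decreases the number of geometric points of the support -/
theorem card_GP_lt (W : X.Etale) (t : EtCoh.sect F ((EtCoh.bc j).obj W))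
    (ht : t ∈ EtShriek.shriekSubgroup j F W) {Ω : Type u} [Field Ω]
    (wb : Spec (CommRingCat.of Ω) ⟶ W.left) (z0 : GP j F W t wb) :
    Nat.card (GP j F (W1 j W) (t1 j F W t) z0.1) < Nat.card (GP j F W t wb) := by
  haveI := finite_GP j F W t ht wb
  haveI := finite_GP j F (W1 j W) (t1 j F W t) (t1_mem j F W t ht) z0.1
  let f : GP j F (W1 j W) (t1 j F W t) z0.1 → GP j F W t wb := fun y =>
    ⟨y.1 ≫ ((EtCoh.bc j).map (k1 j W)).left,
      (gp_fst j (k1 j W) y.1 z0.1 y.2.1).trans z0.2.1, supp_t1_subset j F W t y.2.2⟩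
  have hf : Function.Injective f := by
    intro y₁ y₂ h
    apply Subtype.ext
    have h' : y₁.1 ≫ ((EtCoh.bc j).map (k1 j W)).left = y₂.1 ≫ ((EtCoh.bc j).map (k1 j W)).left :=
      congrArg Subtype.val h
    exact gp_inj j (k1 j W) y₁.1 y₂.1 ((y₁.2.1).trans (y₂.2.1).symm) h'
  have hz : z0 ∉ Set.range f := by
    rintro ⟨y, hy⟩
    have h' : y.1 ≫ ((EtCoh.bc j).map (k1 j W)).left = z0.1 := congrArg Subtype.val hy
    have h'' : y.1 ≫ ((EtCoh.bc j).map (k1 j W)).left =
        z0.1 ≫ dmap j (k1 j W) (φ0 j W) rfl := by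
      rw [dmap_k1]
      exact h'.trans (Category.comp_id _).symm
    have e : y.1 = z0.1 ≫ graphL j (W1 j W) (φ0 j W) rfl :=
      gp_diag j (k1 j W) (φ0 j W) rfl y.1 z0.1 y.2.1 h''
    apply supp_t1_disjoint j F W t _ y.2.2
    rw [e]
    exact ⟨z0.1.base default, rfl⟩
  letI := Fintype.ofFinite (GP j F W t wb)
  letI := Fintype.ofFinite (GP j F (W1 j W) (t1 j F W t) z0.1)
  rw [Nat.card_eq_fintype_card, Nat.card_eq_fintype_card]
  exact Fintype.card_lt_of_injective_of_notMem f hf hz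

end Groth.Agent.Helper1.EZ
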