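import Mathlib
import Groth.Prelude.Def_EtShriek2
import Groth.Agent.Lib.Helper1.EZ8

/-!
# `j_! ≅` direct image with proper support for a separated étale `j` (helper1, EZ9): S0727
-/

set_option autoImplicit false
set_option linter.unusedSectionVars false
set_option linter.style.haveILetI false

open CategoryTheory CategoryTheory.Limits AlgebraicGeometry Opposite

namespace Groth.Agent.Helper1.EZ

universe u

open Groth.Agent.Helper1.ES

variable {U X : Scheme.{u}} (j : U ⟶ X) [hj : Etale j] [IsSeparated j] [EtShriek.JCont j]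
  (F : EtCoh.Ab U)

/-- naturality of `Φ_F` on sections, in terms of the underlying sections of `F` -/
theorem valS_Φ_map {W W' : X.Etale} (k : W' ⟶ W)
    (g : EtCoh.sect ((EtShriek.extZero j).obj F) W) :
    valS j F W' (((Φ j).app F).hom.app (op W')
      (((EtShriek.extZero j).obj F).obj.map k.op g)) =
      F.obj.map ((EtCoh.bc j).map k).op (valS j F W (((Φ j).app F).hom.app (op W) g)) := by
  have nat := congrArg (fun ψ => ψ g)
    (congrArg AddCommGrpCat.Hom.hom (((Φ j).app F).hom.naturality k.op))
  simp only [AddCommGrpCat.hom_comp, AddMonoidHom.coe_comp, Function.comp_apply] at nat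
  exact congrArg (valS j F W') nat

theorem valS_Φ_add (W : X.Etale) (a b : EtCoh.sect ((EtShriek.extZero j).obj F) W) :
    valS j F W (((Φ j).app F).hom.app (op W) (a + b)) =
      valS j F W (((Φ j).app F).hom.app (op W) a) +
        valS j F W (((Φ j).app F).hom.app (op W) b) := by
  rw [map_add]
  rfl

/-- every section with proper support is, étale locally, in the image of `Φ` -/
theorem exists_local_preimage : ∀ (m : ℕ) (W : X.Etale)
    (t : EtCoh.sect F ((EtCoh.bc j).obj W)) (_ : t ∈ EtShriek.shriekSubgroup j F W)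
    (Ω : Type u) [Field Ω] [IsSepClosed Ω] (wb : Spec (CommRingCat.of Ω) ⟶ W.left),
    Nat.card (GP j F W t wb) = m →
    ∃ (W' : X.Etale) (k : W' ⟶ W) (w' : W'.left), k.left.base w' = wb.base default ∧
      ∃ g : EtCoh.sect ((EtShriek.extZero j).obj F) W',
        valS j F W' (((Φ j).app F).hom.app (op W') g) =
          F.obj.map ((EtCoh.bc j).map k).op t := by
  intro m
  induction m using Nat.strong_induction_on with
  | _ m ih =>
    intro W t ht Ω _ _ wb hm
    by_cases hne : Nonempty (GP j F W t wb)
    · obtain ⟨z0⟩ := hne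
      have hlt := card_GP_lt j F W t ht wb z0
      rw [hm] at hlt
      obtain ⟨W₂, k₂, w₂, hw₂, g₂, hg₂⟩ :=
        ih _ hlt (W1 j W) (t1 j F W t) (t1_mem j F W t ht) Ω z0.1 rfl
      refine ⟨W₂, k₂ ≫ k1 j W, w₂, ?_,
        g₂ + ((EtShriek.extZero j).obj F).obj.map k₂.op (uSec j F (W1 j W) (φ0 j W) rfl t), ?_⟩
      · have h1 : (k₂ ≫ k1 j W).left.base w₂ = (k1 j W).left.base (k₂.left.base w₂) := rfl
        rw [h1, hw₂]
        have h2 : z0.1 ≫ EtShriek.prV j W = wb := z0.2.1
        have h3 := congrArg (fun m => m.base default) h2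
        exact h3
      · rw [valS_Φ_add, hg₂, valS_Φ_map, Φ_uSec, ← map_add, t1_add_ext,
          ← ConcreteCategory.comp_apply, ← F.obj.map_comp, ← op_comp, ← Functor.map_comp]
    · let u : EtCoh.sect ((shriekSheaf j).obj F) W := mkS j F W t ht
      have hw : wb.base default ∉ EtShriek.sectSupp ((shriekSheaf j).obj F) W u := by
        rw [sectSupp_shriekSheaf]
        rintro ⟨z, hz, hzw⟩
        obtain ⟨l, hl1, hl2⟩ :=
          Scheme.exists_fac_of_etale_of_isSepClosed (EtShriek.prV j W) wb z hzw
        apply hne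
        refine ⟨⟨l, hl1, ?_⟩⟩
        have hl2' : l.base default = z := hl2
        rw [hl2']
        exact hz
      obtain ⟨W', k, ⟨w', hw'⟩, h0⟩ := (not_mem_sectSupp_iff _ W u _).1 hw
      refine ⟨W', k, w', hw', 0, ?_⟩
      rw [map_zero]
      have h1 := congrArg (valS j F W') h0
      rw [valS_map] at h1
      exact h1.symm

/-- `Φ_F` is locally surjective -/
theorem isLocallySurjective_Φ : Sheaf.IsLocallySurjective ((Φ j).app F) := by
  constructor
  intro W u
  apply SHC.mem_of_pointwise
  intro w
  obtain ⟨Ω, _, _, ξ, y, hy⟩ := SHC.exists_geom_point W w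
  let wb : Spec (CommRingCat.of Ω) ⟶ W.left := y.left
  obtain ⟨W', k, w', hw', g, hg⟩ := exists_local_preimage j F _ W (valS j F W u)
    (valS_mem j F W u) Ω wb rfl
  refine ⟨W', k, w', ⟨g, ?_⟩, hw'.trans hy⟩
  apply valS_injective
  rw [hg]
  rfl

instance epi_Φ_app : Epi ((Φ j).app F) :=
  haveI := isLocallySurjective_Φ j F
  (Sheaf.isLocallySurjective_iff_epi' _ _).1 inferInstance

instance isIso_Φ_app : IsIso ((Φ j).app F) :=
  isIso_of_mono_of_epi _

/-- extension by zero along a separated étale morphism is the direct image with proper support -/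
noncomputable def extZeroIsoEtale : EtShriek.extZero j ≅ shriekSheaf j :=
  haveI : IsIso (Φ j) := NatIso.isIso_of_isIso_app _
  asIso (Φ j)

theorem main0727 : Nonempty (EtShriek.extZero j ≅ EtShriek.lowerShriek j) :=
  ⟨extZeroIsoEtale j ≪≫ (shriekIso j).symm⟩

end Groth.Agent.Helper1.EZ
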