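import Mathlib
import Groth.Agent.Lib.Helper1.FP4

/-!
# Étale local structure of integral morphisms
-/

set_option autoImplicit false
set_option linter.unusedSectionVars false
set_option linter.style.haveILetI false
open CategoryTheory CategoryTheory.Limits AlgebraicGeometry Opposite Polynomial TensorProduct
universe u

namespace Groth.Agent.Helper1.FP

open Groth.Agent.Helper1.ELR

section RingLevel

/-- a point of an integral extension with values in an algebraically closed field extends -/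
theorem exists_extension {B₀ B : Type u} [CommRing B₀] [CommRing B] [Algebra B₀ B]
    [Algebra.IsIntegral B₀ B] (hinj : Function.Injective (algebraMap B₀ B))
    {Ω : Type u} [Field Ω] [IsAlgClosed Ω] (c : B₀ →+* Ω) :
    ∃ c' : B →+* Ω, c'.comp (algebraMap B₀ B) = c := by
  haveI : (RingHom.ker c).IsPrime := RingHom.ker_isPrime c
  obtain ⟨Q, -, hQ, hQc⟩ := Ideal.exists_ideal_over_prime_of_isIntegral (RingHom.ker c)
    (⊥ : Ideal B) (by
      rw [← RingHom.ker_eq_comap_bot, (RingHom.injective_iff_ker_eq_bot _).1 hinj]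
      exact bot_le)
  haveI := hQ
  haveI : (Q.comap (algebraMap B₀ B)).IsPrime := Ideal.comap_isPrime _ _
  let c₀ : B₀ ⧸ Q.comap (algebraMap B₀ B) →+* Ω :=
    Ideal.Quotient.lift (Q.comap (algebraMap B₀ B)) c (fun a ha => by
      rw [hQc] at ha
      exact ha)
  have hc₀ : Function.Injective c₀ :=
    RingHom.lift_injective_of_ker_le_ideal (Q.comap (algebraMap B₀ B)) _ (le_of_eq hQc.symm)
  letI : Algebra (B₀ ⧸ Q.comap (algebraMap B₀ B)) Ω := c₀.toAlgebra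
  haveI : Module.IsTorsionFree (B₀ ⧸ Q.comap (algebraMap B₀ B)) Ω :=
    Module.isTorsionFree_iff_algebraMap_injective.2 hc₀
  haveI : Module.IsTorsionFree (B₀ ⧸ Q.comap (algebraMap B₀ B)) (B ⧸ Q) :=
    Module.isTorsionFree_iff_algebraMap_injective.2 Ideal.algebraMap_quotient_injective
  haveI : Algebra.IsIntegral (B₀ ⧸ Q.comap (algebraMap B₀ B)) (B ⧸ Q) :=
    Algebra.IsIntegral.quotient
  haveI : Algebra.IsAlgebraic (B₀ ⧸ Q.comap (algebraMap B₀ B)) (B ⧸ Q) :=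
    Algebra.IsIntegral.isAlgebraic
  let l : B ⧸ Q →ₐ[B₀ ⧸ Q.comap (algebraMap B₀ B)] Ω := IsAlgClosed.lift
  refine ⟨(l : B ⧸ Q →+* Ω).comp (Ideal.Quotient.mk Q), ?_⟩
  ext b
  show l (Ideal.Quotient.mk Q (algebraMap B₀ B b)) = c b
  have h1 : Ideal.Quotient.mk Q (algebraMap B₀ B b) =
      algebraMap (B₀ ⧸ Q.comap (algebraMap B₀ B)) (B ⧸ Q)
        (Ideal.Quotient.mk (Q.comap (algebraMap B₀ B)) b) := rfl
  rw [h1, l.commutes]
  rfl

theorem exists_poly_lift {A B : Type u} [CommRing A] [CommRing B] [Algebra A B]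
    (B₀ : Subalgebra A B) (p : Polynomial B) (h : ∀ n, p.coeff n ∈ B₀) :
    ∃ q : Polynomial B₀, q.map (algebraMap B₀ B) = p := by
  have h2 : p ∈ Polynomial.lifts (algebraMap B₀ B) := by
    rw [Polynomial.lifts_iff_coeff_lifts]
    intro n
    exact ⟨⟨p.coeff n, h n⟩, rfl⟩
  exact (Polynomial.mem_lifts p).1 h2

/-- finitely many standard étale pairs over an integral algebra descend to a finite subalgebra -/
theorem exists_descent_pairs {A B : Type u} [CommRing A] [CommRing B] [Algebra A B]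
    [Algebra.IsIntegral A B] {κ : Type*} [Finite κ] (P : κ → StandardEtalePair B) :
    ∃ (B₀ : Subalgebra A B) (_ : Module.Finite A B₀) (P₀ : κ → StandardEtalePair B₀),
      ∀ k, (P₀ k).f.map (algebraMap B₀ B) = (P k).f ∧
        (P₀ k).g.map (algebraMap B₀ B) = (P k).g := by
  classical
  choose p₁ p₂ m hm using fun k => (P k).cond
  let t : κ → Set B := fun k => (↑(P k).f.coeffs : Set B) ∪ ((↑(P k).g.coeffs : Set B) ∪
    ((↑(p₁ k).coeffs : Set B) ∪ (↑(p₂ k).coeffs : Set B)))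
  have ht : ∀ k, (t k).Finite := fun k =>
    (Finset.finite_toSet _).union ((Finset.finite_toSet _).union
      ((Finset.finite_toSet _).union (Finset.finite_toSet _)))
  let s : Set B := ⋃ k, t k
  have hs : s.Finite := Set.finite_iUnion ht
  let B₀ : Subalgebra A B := Algebra.adjoin A s
  haveI hfin : Module.Finite A B₀ :=
    Algebra.finite_adjoin_of_finite_of_isIntegral hs (fun x _ => Algebra.IsIntegral.isIntegral x)
  have hmem : ∀ (k : κ) (q : Polynomial B), (↑q.coeffs : Set B) ⊆ t k → ∀ n, q.coeff n ∈ B₀ := by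
    intro k q hq n
    by_cases h0 : q.coeff n = 0
    · rw [h0]
      exact zero_mem _
    · exact Algebra.subset_adjoin (Set.mem_iUnion.2 ⟨k, hq (Polynomial.coeff_mem_coeffs h0)⟩)
  have hinj : Function.Injective (algebraMap B₀ B) := Subtype.val_injective
  choose f₀ hf₀ using fun k => exists_poly_lift B₀ (P k).f
    (hmem k _ Set.subset_union_left)
  choose g₀ hg₀ using fun k => exists_poly_lift B₀ (P k).g
    (hmem k _ (Set.subset_union_left.trans Set.subset_union_right))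
  choose q₁ hq₁ using fun k => exists_poly_lift B₀ (p₁ k)
    (hmem k _ ((Set.subset_union_left.trans Set.subset_union_right).trans
      Set.subset_union_right))
  choose q₂ hq₂ using fun k => exists_poly_lift B₀ (p₂ k)
    (hmem k _ ((Set.subset_union_right.trans Set.subset_union_right).trans
      Set.subset_union_right))
  refine ⟨B₀, hfin, fun k => ⟨f₀ k, ?_, g₀ k, ⟨q₁ k, q₂ k, m k, ?_⟩⟩, fun k => ⟨hf₀ k, hg₀ k⟩⟩
  · apply Polynomial.monic_of_injective hinj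
    rw [hf₀]
    exact (P k).monic_f
  · apply Polynomial.map_injective (algebraMap B₀ B) hinj
    rw [Polynomial.map_add, Polynomial.map_mul, Polynomial.map_mul, Polynomial.map_pow,
      ← Polynomial.derivative_map, hf₀, hg₀, hq₁, hq₂]
    exact hm k

end RingLevel

section SysRing

variable {Y : Scheme.{u}} {Ω : Type u} [Field Ω] [IsSepClosed Ω]
  (η : Spec (CommRingCat.of Ω) ⟶ Y)

attribute [local instance] algΓ algO

/-- `Ω`-valued points of a `Γ(Y, ⊤)`-algebra lying over the geometric point `η` -/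
abbrev PtS (S : Type u) [CommRing S] [Algebra Γ(Y, ⊤) S] :=
  {c : S →+* Ω // c.comp (algebraMap Γ(Y, ⊤) S) = evPt η}

/-- **Decomposition over an étale neighbourhood, for an abstract finite algebra.** -/
theorem exists_decomp_ring [IsAlgClosed Ω] (S : Type u) [CommRing S] [Algebra Γ(Y, ⊤) S]
    [Module.Finite Γ(Y, ⊤) S]
    (P : PtS η S → StandardEtalePair S) (ω : PtS η S → Ω)
    (h0 : ∀ c, (P c).f.eval₂ c.1 (ω c) = 0)
    (h1 : ∀ c, IsUnit ((P c).g.eval₂ c.1 (ω c))) :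
    ∃ (_ : Fintype (PtS η S)) (V : Y.Etale)
      (v : Spec (CommRingCat.of Ω) ⟶ V.left) (_ : v ≫ V.hom = η),
      ∀ (Z : Scheme.{u}) (p : Z ⟶ V.left) (qS : S →+* Γ(Z, ⊤)),
        qS.comp (algebraMap Γ(Y, ⊤) S) = (p ≫ V.hom).appTop.hom →
        ∃ e x y : PtS η S → Γ(Z, ⊤),
          (∀ c, e c * e c = e c) ∧ (∀ c c', c ≠ c' → e c * e c' = 0) ∧ ∑ c, e c = 1 ∧
          (∀ c, (P c).f.eval₂ qS (x c) * e c = 0) ∧
          (∀ c, ((P c).g.eval₂ qS (x c) * y c - 1) * e c = 0) ∧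
          ∀ (c : PtS η S) (z : Spec (CommRingCat.of Ω) ⟶ Z), z ≫ p = v →
            (evPt z).comp qS = c.1 → evPt z (e c) = 1 ∧ evPt z (x c) = ω c := by
  classical
  letI : Algebra Γ(Y, ⊤) Ω := (evPt η).toAlgebra
  haveI : HenselianLocalRing (EtBase.etaleLocalRing η) := henselian η
  haveI : IsSepClosed (IsLocalRing.ResidueField (EtBase.etaleLocalRing η)) :=
    isSepClosed_residueField η
  let evO : EtBase.etaleLocalRing η →ₐ[Γ(Y, ⊤)] Ω :=
    { (ev η).hom with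
      commutes' := fun r => by
        show (ev η).hom ((ρ η (EtCoh.top Y) (x₀ η)).hom r) = evPt η r
        rw [ev_ρ_apply]
        rfl }
  have hloc : IsLocalHom (evO : EtBase.etaleLocalRing η →+* Ω) := isLocalHom_ev η
  let cOf : PtS η S → (S →ₐ[Γ(Y, ⊤)] Ω) := fun c =>
    { c.1 with
      commutes' := fun r => RingHom.congr_fun c.2 r }
  let ξOf : (S →ₐ[Γ(Y, ⊤)] Ω) → PtS η S := fun c =>
    ⟨(c : S →+* Ω), RingHom.ext fun r => c.commutes r⟩
  have hcξ : ∀ c, cOf (ξOf c) = c := fun c => AlgHom.coe_ringHom_injective rfl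
  have hξc : ∀ c, ξOf (cOf c) = c := fun c => Subtype.ext rfl
  have hcoe : ∀ c : PtS η S, ((cOf c : S →ₐ[Γ(Y, ⊤)] Ω) : S →+* Ω) = c.1 := fun c => rfl
  obtain ⟨hfinPt, k, e, x, y, hidem, horth, hsum, hf, hg, hev, hevx⟩ :=
    (isSystem η).exists_decomp S evO hloc (fun c => P (ξOf c)) (fun c => ω (ξOf c))
      (fun c => h0 (ξOf c)) (fun c => h1 (ξOf c))
  let εq : PtS η S ≃ (S →ₐ[Γ(Y, ⊤)] Ω) := ⟨cOf, ξOf, hξc, hcξ⟩
  letI := hfinPt
  letI : Fintype (PtS η S) := Fintype.ofEquiv _ εq.symm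
  refine ⟨inferInstance, k.1, pt η k.1 k.2, pt_comp η k.1 k.2, ?_⟩
  intro Z p qS hq
  letI : Algebra Γ(Y, ⊤) Γ(Z, ⊤) := (p ≫ k.1.hom).appTop.hom.toAlgebra
  let pA : Γ(k.1.left, ⊤) →ₐ[Γ(Y, ⊤)] Γ(Z, ⊤) :=
    { p.appTop.hom with
      commutes' := fun r => by
        show p.appTop.hom (k.1.hom.appTop.hom r) = (p ≫ k.1.hom).appTop.hom r
        rw [Scheme.Hom.comp_appTop]
        rfl }
  let qA : S →ₐ[Γ(Y, ⊤)] Γ(Z, ⊤) :=
    { qS with
      commutes' := fun r => RingHom.congr_fun hq r }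
  let θ := Algebra.TensorProduct.productMap pA qA
  have hθq : (θ : Γ(k.1.left, ⊤) ⊗[Γ(Y, ⊤)] S →+* Γ(Z, ⊤)).comp
      (incR S Γ(k.1.left, ⊤)) = qS :=
    productMap_comp_incR S pA qA
  have hθeval : ∀ (pp : Polynomial S) (t : Γ(k.1.left, ⊤) ⊗[Γ(Y, ⊤)] S),
      θ (pp.eval₂ (incR S Γ(k.1.left, ⊤)) t) = pp.eval₂ qS (θ t) := by
    intro pp t
    have h := hom_eval₂ pp (incR S Γ(k.1.left, ⊤))
      (θ : Γ(k.1.left, ⊤) ⊗[Γ(Y, ⊤)] S →+* Γ(Z, ⊤)) t
    rw [hθq] at h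
    exact h
  refine ⟨fun ξ => θ (e (cOf ξ)), fun ξ => θ (x (cOf ξ)), fun ξ => θ (y (cOf ξ)),
    ?_, ?_, ?_, ?_, ?_, ?_⟩
  · intro c
    rw [← map_mul, hidem]
  · intro c c' hcc
    rw [← map_mul, horth (cOf c) (cOf c') (fun h => hcc (εq.injective h)), map_zero]
  · have h2 : ∑ ξ, θ (e (cOf ξ)) = θ (∑ c, e c) := by
      rw [map_sum]
      exact Fintype.sum_equiv εq _ _ (fun ξ => rfl)
    rw [h2, hsum, map_one]
  · intro c
    have h2 := congrArg θ (hf (cOf c))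
    beta_reduce at h2
    rw [map_mul, hθeval, map_zero, hξc c] at h2
    exact h2
  · intro c
    have h2 := congrArg θ (hg (cOf c))
    beta_reduce at h2
    rw [map_mul, map_sub, map_mul, map_one, hθeval, map_zero, hξc c] at h2
    exact h2
  · intro c z hzp hzq
    have key : ∀ t, evPt z (θ t) =
        Algebra.TensorProduct.productMap (evO.comp (ρA η k)) (cOf c) t := by
      intro t
      induction t using TensorProduct.induction_on with
      | zero => rw [map_zero, map_zero, map_zero]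
      | tmul a s =>
        rw [Algebra.TensorProduct.productMap_apply_tmul,
          Algebra.TensorProduct.productMap_apply_tmul, map_mul]
        congr 1
        · show evPt z (p.appTop.hom a) = (ev η).hom ((ρ η k.1 k.2).hom a)
          rw [← evPt_comp_apply, hzp, ev_ρ_apply]
          rfl
        · show evPt z (qS s) = c.1 s
          rw [← hzq]
          rfl
      | add t₁ t₂ h₁ h₂ => rw [map_add, map_add, map_add, h₁, h₂]
    constructor
    · rw [key]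
      exact hev (cOf c)
    · rw [key, hevx (cOf c), hξc c]

/-- chart data at a point of a finite subalgebra -/
structure PtChart {X : Scheme.{u}} {S : Type u} [CommRing S] (ι : S →+* Γ(X, ⊤))
    (c : S →+* Ω) where
  T : Scheme.{u}
  aff : IsAffine T
  g : T ⟶ X
  C : StdChart g
  P₀ : StandardEtalePair S
  hf : P₀.f.map ι = C.P.f
  hg : P₀.g.map ι = C.P.g
  ū : Spec (CommRingCat.of Ω) ⟶ T
  hū : (evPt (ū ≫ g)).comp ι = c

/-- **Decomposition, core form.** -/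
theorem exists_decomp_core [IsAlgClosed Ω] {X : Scheme.{u}} [IsAffine X] (f : X ⟶ Y)
    (S : Type u) [CommRing S] [Algebra Γ(Y, ⊤) S] [Module.Finite Γ(Y, ⊤) S]
    (ι : S →+* Γ(X, ⊤)) (hι : ι.comp (algebraMap Γ(Y, ⊤) S) = f.appTop.hom)
    (D : ∀ c : PtS η S, PtChart (X := X) ι c.1) :
    ∃ (_ : Fintype (PtS η S)) (V : Y.Etale) (v : Spec (CommRingCat.of Ω) ⟶ V.left)
      (_ : v ≫ V.hom = η),
      ∀ (Z : Scheme.{u}) (p : Z ⟶ V.left) (q : Z ⟶ X), p ≫ V.hom = q ≫ f →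
        ∃ W : PtS η S → Z.Opens,
          (∀ c c', c ≠ c' → Disjoint (W c) (W c')) ∧ (⨆ c, W c) = ⊤ ∧
          ∀ c, ∃ h : (W c).toScheme ⟶ (D c).T, h ≫ (D c).g = (W c).ι ≫ q ∧
            ∀ z : Spec (CommRingCat.of Ω) ⟶ Z, z ≫ p = v → z ≫ q = (D c).ū ≫ (D c).g →
              ∃ w : Spec (CommRingCat.of Ω) ⟶ (W c).toScheme,
                w ≫ (W c).ι = z ∧ w ≫ h = (D c).ū := by
  classical
  obtain ⟨hF, V, v, hv, H⟩ := exists_decomp_ring η S (fun c => (D c).P₀)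
    (fun c => evPt (D c).ū (D c).C.x)
    (fun c => by
      have h2 := congrArg (evPt (D c).ū) (D c).C.hf
      rw [map_zero, hom_eval₂, ← evPt_comp, ← (D c).hf, Polynomial.eval₂_map] at h2
      exact (congrArg (fun φ => (D c).P₀.f.eval₂ φ (evPt (D c).ū (D c).C.x))
        (D c).hū).symm.trans h2)
    (fun c => by
      have h2 := (D c).C.hg.map (evPt (D c).ū)
      rw [hom_eval₂, ← evPt_comp, ← (D c).hg, Polynomial.eval₂_map] at h2
      have h3 := congrArg (fun φ => (D c).P₀.g.eval₂ φ (evPt (D c).ū (D c).C.x)) (D c).hū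
      beta_reduce at h3
      rw [← h3]
      exact h2)
  refine ⟨hF, V, v, hv, ?_⟩
  intro Z p q hpq
  have hq : (q.appTop.hom.comp ι).comp (algebraMap Γ(Y, ⊤) S) = (p ≫ V.hom).appTop.hom := by
    rw [RingHom.comp_assoc, hι, hpq, Scheme.Hom.comp_appTop]
    rfl
  obtain ⟨e, x, y, hidem, horth, hsum, hf, hg, hpt⟩ := H Z p (q.appTop.hom.comp ι) hq
  letI := hF
  refine ⟨fun c => Z.basicOpen (e c), ?_, ?_, ?_⟩
  · intro c c' hcc
    exact basicOpen_disjoint_of_mul_eq_zero _ _ (horth c c' hcc)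
  · exact iSup_basicOpen_eq_top e hsum
  · intro c
    haveI : IsAffine (D c).T := (D c).aff
    have hf' : (D c).C.P.f.eval₂ q.appTop.hom (x c) * e c = 0 := by
      rw [← (D c).hf, Polynomial.eval₂_map]
      exact hf c
    have hg' : ((D c).C.P.g.eval₂ q.appTop.hom (x c) * y c - 1) * e c = 0 := by
      rw [← (D c).hg, Polynomial.eval₂_map]
      exact hg c
    obtain ⟨h', hh', hpts⟩ := exists_hom_of_root (Ω := Ω) (X := X) (D c).g (D c).C q
      (e c) (x c) (y c) (hidem c) hf' hg'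
    refine ⟨h', hh', ?_⟩
    intro z hzp hzq
    have hzc : (evPt z).comp (q.appTop.hom.comp ι) = c.1 := by
      rw [← RingHom.comp_assoc, ← evPt_comp, hzq]
      exact (D c).hū
    obtain ⟨h1, h2⟩ := hpt c z hzp hzc
    exact hpts z (D c).ū (by rw [h1]; exact one_ne_zero) hzq.symm h2.symm

end SysRing

section Charts

/-- finitely many standard étale charts cover an affine scheme, given a covering family -/
theorem exists_finite_charts {X : Scheme.{u}} [IsAffine X] {I : Type*} (U : I → X.Etale)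
    (hcov : ∀ x : X, ∃ i, x ∈ Set.range (homX (U i)).base) :
    ∃ (κ : Type u) (_ : Fintype κ) (i : κ → I) (D : ∀ k, (U (i k)).left.Opens),
      (∀ k, IsAffineOpen (D k)) ∧ (∀ k, Nonempty (StdChart ((D k).ι ≫ homX (U (i k))))) ∧
      ∀ x : X, ∃ k, x ∈ Set.range ((D k).ι ≫ homX (U (i k))).base := by
  have hdata : ∀ x : X, ∃ (i : I) (D : (U i).left.Opens), IsAffineOpen D ∧
      Nonempty (StdChart (D.ι ≫ homX (U i))) ∧ x ∈ Set.range (D.ι ≫ homX (U i)).base := by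
    intro x
    obtain ⟨i, u, hu⟩ := hcov x
    haveI : Etale (homX (U i)) := (U i).prop
    obtain ⟨D, hD, hmem, hC⟩ := exists_stdChart (X := X) (homX (U i)) u
    refine ⟨i, D, hD, hC, ⟨⟨u, hmem⟩, ?_⟩⟩
    exact hu
  choose i D hD hC hx using hdata
  let O : X → Set X := fun x => Set.range ((D x).ι ≫ homX (U (i x))).base
  have hO : ∀ x, IsOpen (O x) := by
    intro x
    haveI : Etale (homX (U (i x))) := (U (i x)).prop
    exact ((D x).ι ≫ homX (U (i x))).isOpenMap.isOpen_range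
  obtain ⟨t, ht⟩ := isCompact_univ.elim_finite_subcover O hO
    (fun x _ => Set.mem_iUnion.2 ⟨x, hx x⟩)
  refine ⟨{x // x ∈ t}, inferInstance, fun k => i k.1, fun k => D k.1, fun k => hD k.1,
    fun k => hC k.1, ?_⟩
  intro x
  have h2 := ht (Set.mem_univ x)
  obtain ⟨x', hx't, hx'⟩ : ∃ x' ∈ t, x ∈ O x' := by simpa using h2
  exact ⟨⟨x', hx't⟩, hx'⟩

/-- the trivial standard étale pair `(X, 1)` -/
noncomputable def trivPair (R : Type u) [CommRing R] : StandardEtalePair R where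
  f := Polynomial.X
  monic_f := Polynomial.monic_X
  g := 1
  cond := ⟨1, 0, 0, by simp⟩

/-- the identity as a standard étale chart -/
noncomputable def trivChart (X : Scheme.{u}) : StdChart (𝟙 X) where
  P := trivPair Γ(X, ⊤)
  x := 0
  hf := by
    show (Polynomial.X : Polynomial Γ(X, ⊤)).eval₂ _ 0 = 0
    rw [Polynomial.eval₂_X]
  hg := by
    show IsUnit ((1 : Polynomial Γ(X, ⊤)).eval₂ _ 0)
    rw [Polynomial.eval₂_one]
    exact isUnit_one
  univ := by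
    intro B _ φ b h0 _
    have hb : b = 0 := by
      have h2 : (Polynomial.X : Polynomial Γ(X, ⊤)).eval₂ φ b = 0 := h0
      rwa [Polynomial.eval₂_X] at h2
    have hid : (𝟙 X : X ⟶ X).appTop.hom = RingHom.id _ := rfl
    refine ⟨φ, ⟨by rw [hid, RingHom.comp_id], by rw [map_zero, hb]⟩, ?_⟩
    rintro ψ ⟨hψ, -⟩
    rw [hid, RingHom.comp_id] at hψ
    exact hψ

theorem isClosed_of_disjoint_cover {Z : Scheme.{u}} {κ : Type*} (W : κ → Z.Opens)
    (hdis : ∀ c c', c ≠ c' → Disjoint (W c) (W c')) (hcov : (⨆ c, W c) = ⊤) (c₀ : κ) :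
    IsClosed ((W c₀ : Z.Opens) : Set Z) := by
  have h : ((W c₀ : Z.Opens) : Set Z)ᶜ = ((⨆ c : {c // c ≠ c₀}, W c.1 : Z.Opens) : Set Z) := by
    ext x
    constructor
    · intro hx
      have hx' : x ∈ (⨆ c, W c) := by rw [hcov]; trivial
      obtain ⟨c, hc⟩ := TopologicalSpace.Opens.mem_iSup.1 hx'
      have hne : c ≠ c₀ := fun h => hx (h ▸ hc)
      exact TopologicalSpace.Opens.mem_iSup.2 ⟨⟨c, hne⟩, hc⟩
    · intro hx hx0
      obtain ⟨c, hc⟩ := TopologicalSpace.Opens.mem_iSup.1 hx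
      exact (hdis c.1 c₀ c.2).le_bot ⟨hc, hx0⟩
  rw [← isOpen_compl_iff, h]
  exact (⨆ c : {c // c ≠ c₀}, W c.1).isOpen

end Charts

section Integral

variable {Ω : Type u} [Field Ω] [IsAlgClosed Ω]

/-- **Étale local structure of an integral morphism over an affine base** (covering form). -/
theorem exists_decomp_integral_affine {X Y : Scheme.{u}} [IsAffine Y] (f : X ⟶ Y)
    [IsIntegralHom f] (η : Spec (CommRingCat.of Ω) ⟶ Y) {I : Type*} (U : I → X.Etale)
    (hcov : ∀ x : X, ∃ i, x ∈ Set.range (homX (U i)).base) :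
    ∃ (V : Y.Etale) (v : Spec (CommRingCat.of Ω) ⟶ V.left) (_ : v ≫ V.hom = η),
      ∀ (Z : Scheme.{u}) (p : Z ⟶ V.left) (q : Z ⟶ X), p ≫ V.hom = q ≫ f →
        ∃ (κ : Type u) (_ : Finite κ) (W : κ → Z.Opens),
          (∀ c c', c ≠ c' → Disjoint (W c) (W c')) ∧ (⨆ c, W c) = ⊤ ∧
          ∀ c, ∃ (i : I) (h : (W c).toScheme ⟶ (U i).left),
            h ≫ (U i).hom = (W c).ι ≫ q := by
  classical
  haveI : IsAffine X := isAffine_of_isAffineHom f
  obtain ⟨κ₀, hκ₀, i, D, hD, hC, hx⟩ := exists_finite_charts U hcov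
  letI := hκ₀
  letI : Algebra Γ(Y, ⊤) Γ(X, ⊤) := f.appTop.hom.toAlgebra
  haveI : Algebra.IsIntegral Γ(Y, ⊤) Γ(X, ⊤) :=
    ⟨IsIntegralHom.isIntegral_app f ⊤ (isAffineOpen_top Y)⟩
  let C₀ : ∀ k, StdChart ((D k).ι ≫ homX (U (i k))) := fun k => (hC k).some
  obtain ⟨B₀, hfin, P₀, hP₀⟩ := exists_descent_pairs (A := Γ(Y, ⊤)) (fun k => (C₀ k).P)
  haveI := hfin
  haveI : Algebra.IsIntegral B₀ Γ(X, ⊤) := Algebra.IsIntegral.tower_top Γ(Y, ⊤)
  have hinj : Function.Injective (algebraMap B₀ Γ(X, ⊤)) := Subtype.val_injective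
  have hdata : ∀ c : PtS η B₀, ∃ (d : PtChart (X := X) (algebraMap B₀ Γ(X, ⊤)) c.1) (j : I)
      (m : d.T ⟶ (U j).left), m ≫ (U j).hom = d.g := by
    intro c
    obtain ⟨c', hc'⟩ := exists_extension hinj c.1
    obtain ⟨k, t, ht⟩ := hx ((ptOf c') default)
    haveI : Etale (homX (U (i k))) := (U (i k)).prop
    obtain ⟨l, hl, -⟩ := Scheme.exists_fac_of_etale_of_isSepClosed
      ((D k).ι ≫ homX (U (i k))) (ptOf c') t ht
    exact ⟨{ T := (D k).toScheme, aff := hD k, g := (D k).ι ≫ homX (U (i k)), C := C₀ k,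
             P₀ := P₀ k, hf := (hP₀ k).1, hg := (hP₀ k).2, ū := l,
             hū := by rw [hl, evPt_ptOf]; exact hc' }, i k, (D k).ι, rfl⟩
  choose d j m hm using hdata
  obtain ⟨hF, V, v, hv, H⟩ := exists_decomp_core η f B₀ (algebraMap B₀ Γ(X, ⊤))
    (RingHom.ext fun r => rfl) d
  refine ⟨V, v, hv, ?_⟩
  intro Z p q hpq
  obtain ⟨W, hdis, hcov', hW⟩ := H Z p q hpq
  letI := hF
  refine ⟨PtS η B₀, Finite.of_fintype _, W, hdis, hcov', ?_⟩
  intro c
  obtain ⟨h, hh, -⟩ := hW c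
  refine ⟨j c, h ≫ m c, ?_⟩
  rw [Category.assoc, hm c]
  exact hh

/-- **Étale local structure of an integral morphism** (covering form). -/
theorem exists_decomp_integral {X Y : Scheme.{u}} (f : X ⟶ Y)
    [IsIntegralHom f] (η : Spec (CommRingCat.of Ω) ⟶ Y) {I : Type*} (U : I → X.Etale)
    (hcov : ∀ x : X, ∃ i, x ∈ Set.range (homX (U i)).base) :
    ∃ (V : Y.Etale) (v : Spec (CommRingCat.of Ω) ⟶ V.left) (_ : v ≫ V.hom = η),
      ∀ (Z : Scheme.{u}) (p : Z ⟶ V.left) (q : Z ⟶ X), p ≫ V.hom = q ≫ f →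
        ∃ (κ : Type u) (_ : Finite κ) (W : κ → Z.Opens),
          (∀ c c', c ≠ c' → Disjoint (W c) (W c')) ∧ (⨆ c, W c) = ⊤ ∧
          ∀ c, ∃ (i : I) (h : (W c).toScheme ⟶ (U i).left),
            h ≫ (U i).hom = (W c).ι ≫ q := by
  obtain ⟨R', j, hj, hmem, -⟩ := Scheme.exists_affine_mem_range_and_range_subset
    (x := η default) (U := ⊤) (by trivial)
  have hrange : Set.range η ⊆ Set.range j := by
    rintro _ ⟨a, rfl⟩
    rwa [Subsingleton.elim a default]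
  let η₀ : Spec (CommRingCat.of Ω) ⟶ Spec R' := IsOpenImmersion.lift j η hrange
  have hη₀ : η₀ ≫ j = η := IsOpenImmersion.lift_fac _ _ _
  let f₀ : pullback f j ⟶ Spec R' := pullback.snd f j
  let j' : pullback f j ⟶ X := pullback.fst f j
  have hcond : j' ≫ f = f₀ ≫ j := pullback.condition
  let U₀ : I → (pullback f j).Etale := fun i =>
    haveI : Etale (homX (U i)) := (U i).prop
    Scheme.Etale.mk (pullback.snd (homX (U i)) j')
  have hcov₀ : ∀ x : ↥(pullback f j), ∃ i, x ∈ Set.range (homX (U₀ i)).base := by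
    intro x
    obtain ⟨i, u, hu⟩ := hcov (j'.base x)
    obtain ⟨z, -, hz⟩ := Scheme.Pullback.exists_preimage_pullback (f := homX (U i)) (g := j')
      u x hu
    exact ⟨i, z, hz⟩
  obtain ⟨V₀, v₀, hv₀, H₀⟩ := exists_decomp_integral_affine f₀ η₀ U₀ hcov₀
  haveI : Etale (homX V₀) := V₀.prop
  refine ⟨Scheme.Etale.mk (homX V₀ ≫ j), v₀, ?_, ?_⟩
  · show v₀ ≫ V₀.hom ≫ j = η
    rw [← Category.assoc, hv₀, hη₀]
  intro Z p q hpq
  let p₀ : Z ⟶ V₀.left := p
  have hpq' : q ≫ f = (p₀ ≫ homX V₀) ≫ j := by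
    rw [Category.assoc]
    exact hpq.symm
  let q₀ : Z ⟶ pullback f j := pullback.lift q (p₀ ≫ homX V₀) hpq'
  have hq₀1 : q₀ ≫ j' = q := pullback.lift_fst _ _ _
  have hq₀2 : q₀ ≫ f₀ = p₀ ≫ homX V₀ := pullback.lift_snd _ _ _
  obtain ⟨κ, hκ, W, hdis, hcovW, hW⟩ := H₀ Z p₀ q₀ hq₀2.symm
  refine ⟨κ, hκ, W, hdis, hcovW, ?_⟩
  intro c
  obtain ⟨i, h₀, hh₀⟩ := hW c
  let h₀' : (W c).toScheme ⟶ pullback (homX (U i)) j' := h₀
  refine ⟨i, h₀' ≫ pullback.fst (homX (U i)) j', ?_⟩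
  have h2 : h₀' ≫ pullback.snd (homX (U i)) j' = (W c).ι ≫ q₀ := hh₀
  show (h₀' ≫ pullback.fst (homX (U i)) j') ≫ homX (U i) = (W c).ι ≫ q
  have hc : pullback.fst (homX (U i)) j' ≫ homX (U i) =
      pullback.snd (homX (U i)) j' ≫ j' := pullback.condition
  rw [Category.assoc, hc, ← Category.assoc, h2, Category.assoc, hq₀1]

/-- **Étale local structure of an integral morphism over an affine base** (pointed form). -/
theorem exists_clopen_integral_affine {X Y : Scheme.{u}} [IsAffine Y] (f : X ⟶ Y)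
    [IsIntegralHom f] (η : Spec (CommRingCat.of Ω) ⟶ Y) (U : X.Etale)
    (ū : Spec (CommRingCat.of Ω) ⟶ U.left) (hη : (ū ≫ homX U) ≫ f = η) :
    ∃ (V : Y.Etale) (v : Spec (CommRingCat.of Ω) ⟶ V.left) (_ : v ≫ V.hom = η),
      ∀ (Z : Scheme.{u}) (p : Z ⟶ V.left) (q : Z ⟶ X), p ≫ V.hom = q ≫ f →
        ∃ W : Z.Opens, IsClosed (W : Set Z) ∧ ∃ h : W.toScheme ⟶ U.left,
          h ≫ U.hom = W.ι ≫ q ∧
          ∀ z : Spec (CommRingCat.of Ω) ⟶ Z, z ≫ p = v → z ≫ q = ū ≫ U.hom →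
            ∃ w : Spec (CommRingCat.of Ω) ⟶ W.toScheme, w ≫ W.ι = z ∧ w ≫ h = ū := by
  classical
  haveI : IsAffine X := isAffine_of_isAffineHom f
  haveI : Etale (homX U) := U.prop
  obtain ⟨D, hD, hmem, hC⟩ := exists_stdChart (X := X) (homX U) (ū default)
  let C := hC.some
  have hrange : Set.range ū ⊆ Set.range D.ι := by
    rw [Scheme.Opens.range_ι]
    rintro _ ⟨a, rfl⟩
    rw [Subsingleton.elim a default]
    exact hmem
  let ū' : Spec (CommRingCat.of Ω) ⟶ D.toScheme := IsOpenImmersion.lift D.ι ū hrange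
  have hū' : ū' ≫ D.ι = ū := IsOpenImmersion.lift_fac _ _ _
  letI : Algebra Γ(Y, ⊤) Γ(X, ⊤) := f.appTop.hom.toAlgebra
  haveI : Algebra.IsIntegral Γ(Y, ⊤) Γ(X, ⊤) :=
    ⟨IsIntegralHom.isIntegral_app f ⊤ (isAffineOpen_top Y)⟩
  obtain ⟨B₀, hfin, P₀, hP₀⟩ := exists_descent_pairs (A := Γ(Y, ⊤)) (fun _ : Unit => C.P)
  haveI := hfin
  haveI : Algebra.IsIntegral B₀ Γ(X, ⊤) := Algebra.IsIntegral.tower_top Γ(Y, ⊤)
  have hinj : Function.Injective (algebraMap B₀ Γ(X, ⊤)) := Subtype.val_injective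
  have hι : (algebraMap B₀ Γ(X, ⊤)).comp (algebraMap Γ(Y, ⊤) B₀) = f.appTop.hom :=
    RingHom.ext fun r => rfl
  let c₀ : PtS η B₀ := ⟨(evPt (ū ≫ homX U)).comp (algebraMap B₀ Γ(X, ⊤)), by
    rw [RingHom.comp_assoc, hι, ← evPt_comp, hη]⟩
  have hdata : ∀ c : PtS η B₀, ∃ (d : PtChart (X := X) (algebraMap B₀ Γ(X, ⊤)) c.1),
      c = c₀ → ∃ m : d.T ⟶ U.left, m ≫ U.hom = d.g ∧ d.ū ≫ m = ū := by
    intro c
    by_cases hc : c = c₀
    · subst hc
      exact ⟨{ T := D.toScheme, aff := hD, g := D.ι ≫ homX U, C := C, P₀ := P₀ (),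
               hf := (hP₀ ()).1, hg := (hP₀ ()).2, ū := ū',
               hū := by rw [← Category.assoc, hū'] }, fun _ => ⟨D.ι, rfl, hū'⟩⟩
    · obtain ⟨c', hc'⟩ := exists_extension hinj c.1
      exact ⟨{ T := X, aff := inferInstance, g := 𝟙 X, C := trivChart X, P₀ := trivPair B₀,
               hf := Polynomial.map_X _, hg := Polynomial.map_one _, ū := ptOf c',
               hū := by rw [Category.comp_id, evPt_ptOf]; exact hc' },
        fun h => (hc h).elim⟩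
  choose d hd using hdata
  obtain ⟨hF, V, v, hv, H⟩ := exists_decomp_core η f B₀ (algebraMap B₀ Γ(X, ⊤)) hι d
  refine ⟨V, v, hv, ?_⟩
  intro Z p q hpq
  obtain ⟨W, hdis, hcov', hW⟩ := H Z p q hpq
  obtain ⟨m, hm1, hm2⟩ := hd c₀ rfl
  obtain ⟨h, hh, hpts⟩ := hW c₀
  refine ⟨W c₀, isClosed_of_disjoint_cover W hdis hcov' c₀, h ≫ m, ?_, ?_⟩
  · rw [Category.assoc, hm1]
    exact hh
  · intro z hzp hzq
    have hzq' : z ≫ q = (d c₀).ū ≫ (d c₀).g := by
      rw [hzq, ← hm1, ← Category.assoc, hm2]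
    obtain ⟨w, hw1, hw2⟩ := hpts z hzp hzq'
    exact ⟨w, hw1, by rw [← Category.assoc, hw2, hm2]⟩

/-- **Étale local structure of an integral morphism** (pointed form). -/
theorem exists_clopen_integral {X Y : Scheme.{u}} (f : X ⟶ Y)
    [IsIntegralHom f] (η : Spec (CommRingCat.of Ω) ⟶ Y) (U : X.Etale)
    (ū : Spec (CommRingCat.of Ω) ⟶ U.left) (hη : (ū ≫ homX U) ≫ f = η) :
    ∃ (V : Y.Etale) (v : Spec (CommRingCat.of Ω) ⟶ V.left) (_ : v ≫ V.hom = η),
      ∀ (Z : Scheme.{u}) (p : Z ⟶ V.left) (q : Z ⟶ X), p ≫ V.hom = q ≫ f →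
        ∃ W : Z.Opens, IsClosed (W : Set Z) ∧ ∃ h : W.toScheme ⟶ U.left,
          h ≫ U.hom = W.ι ≫ q ∧
          ∀ z : Spec (CommRingCat.of Ω) ⟶ Z, z ≫ p = v → z ≫ q = ū ≫ U.hom →
            ∃ w : Spec (CommRingCat.of Ω) ⟶ W.toScheme, w ≫ W.ι = z ∧ w ≫ h = ū := by
  obtain ⟨R', j, hj, hmem, -⟩ := Scheme.exists_affine_mem_range_and_range_subset
    (x := η default) (U := ⊤) (by trivial)
  have hrange : Set.range η ⊆ Set.range j := by
    rintro _ ⟨a, rfl⟩
    rwa [Subsingleton.elim a default]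
  let η₀ : Spec (CommRingCat.of Ω) ⟶ Spec R' := IsOpenImmersion.lift j η hrange
  have hη₀ : η₀ ≫ j = η := IsOpenImmersion.lift_fac _ _ _
  let f₀ : pullback f j ⟶ Spec R' := pullback.snd f j
  let j' : pullback f j ⟶ X := pullback.fst f j
  have hcond : j' ≫ f = f₀ ≫ j := pullback.condition
  haveI : Etale (homX U) := U.prop
  let U₀ : (pullback f j).Etale := Scheme.Etale.mk (pullback.snd (homX U) j')
  let ξ₀ : Spec (CommRingCat.of Ω) ⟶ pullback f j :=
    pullback.lift (ū ≫ homX U) η₀ (by rw [hη, hη₀])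
  have hξ₀1 : ξ₀ ≫ j' = ū ≫ homX U := pullback.lift_fst _ _ _
  have hξ₀2 : ξ₀ ≫ f₀ = η₀ := pullback.lift_snd _ _ _
  let ū₀ : Spec (CommRingCat.of Ω) ⟶ U₀.left := pullback.lift ū ξ₀ hξ₀1.symm
  have hū₀1 : ū₀ ≫ pullback.fst (homX U) j' = ū := pullback.lift_fst _ _ _
  have hū₀2 : ū₀ ≫ homX U₀ = ξ₀ := pullback.lift_snd _ _ _
  obtain ⟨V₀, v₀, hv₀, H₀⟩ := exists_clopen_integral_affine f₀ η₀ U₀ ū₀
    (by rw [hū₀2, hξ₀2])
  haveI : Etale (homX V₀) := V₀.prop
  refine ⟨Scheme.Etale.mk (homX V₀ ≫ j), v₀, ?_, ?_⟩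
  · show v₀ ≫ V₀.hom ≫ j = η
    rw [← Category.assoc, hv₀, hη₀]
  intro Z p q hpq
  let p₀ : Z ⟶ V₀.left := p
  have hpq' : q ≫ f = (p₀ ≫ homX V₀) ≫ j := by
    rw [Category.assoc]
    exact hpq.symm
  let q₀ : Z ⟶ pullback f j := pullback.lift q (p₀ ≫ homX V₀) hpq'
  have hq₀1 : q₀ ≫ j' = q := pullback.lift_fst _ _ _
  have hq₀2 : q₀ ≫ f₀ = p₀ ≫ homX V₀ := pullback.lift_snd _ _ _
  obtain ⟨W, hcl, h₀, hh₀, hpts⟩ := H₀ Z p₀ q₀ hq₀2.symm
  let h₀' : W.toScheme ⟶ pullback (homX U) j' := h₀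
  refine ⟨W, hcl, h₀' ≫ pullback.fst (homX U) j', ?_, ?_⟩
  · have h2 : h₀' ≫ pullback.snd (homX U) j' = W.ι ≫ q₀ := hh₀
    show (h₀' ≫ pullback.fst (homX U) j') ≫ homX U = W.ι ≫ q
    have hc : pullback.fst (homX U) j' ≫ homX U = pullback.snd (homX U) j' ≫ j' :=
      pullback.condition
    rw [Category.assoc, hc, ← Category.assoc, h2, Category.assoc, hq₀1]
  · intro z hzp hzq
    have hz : z ≫ q₀ = ū₀ ≫ homX U₀ := by
      rw [hū₀2]
      apply pullback.hom_ext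
      · rw [Category.assoc]
        show z ≫ q₀ ≫ j' = ξ₀ ≫ j'
        rw [hq₀1, hξ₀1]
        exact hzq
      · rw [Category.assoc]
        show z ≫ q₀ ≫ f₀ = ξ₀ ≫ f₀
        have hv₀' : v₀ ≫ homX V₀ = η₀ := hv₀
        have hzp' : z ≫ p₀ = v₀ := hzp
        rw [hq₀2, ← Category.assoc, hzp', hv₀', hξ₀2]
    obtain ⟨w, hw1, hw2⟩ := hpts z hzp hz
    refine ⟨w, hw1, ?_⟩
    have hw2' : w ≫ h₀' = ū₀ := hw2
    rw [← Category.assoc, hw2']
    exact hū₀1

end Integral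

end Groth.Agent.Helper1.FP
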