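import Mathlib
import Groth.Agent.Lib.Helper1.FP8
import Groth.Agent.Lib.Helper1.FP5

/-!
# Direct image along an integral morphism is exact (étale topology)
-/

set_option autoImplicit false
set_option linter.unusedSectionVars false
set_option linter.style.haveILetI false
open CategoryTheory CategoryTheory.Limits AlgebraicGeometry Opposite
universe u

namespace Groth.Agent.Helper1.FP

/-- **Refinement of coverings along an integral morphism.** -/
theorem exists_refinement_of_cover_integral {X Y : Scheme.{u}} (f : X ⟶ Y) [IsIntegralHom f]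
    (V : Y.Etale)
    (R : Sieve ((EtCoh.bc f).obj V)) (hR : R ∈ X.smallEtaleTopology ((EtCoh.bc f).obj V))
    (y : V.left) :
    ∃ (V' : Y.Etale) (g : V' ⟶ V), (∃ v : V'.left, g.left.base v = y) ∧
      ∃ (ι : Type u) (_ : Finite ι) (W : ι → X.Etale) (w : ∀ a, W a ⟶ (EtCoh.bc f).obj V'),
        (∀ a, Mono (w a).left) ∧
        (∀ a b, a ≠ b → ∀ (za : (W a).left) (zb : (W b).left),
          (w a).left.base za ≠ (w b).left.base zb) ∧
        (∀ x : ((EtCoh.bc f).obj V').left, ∃ (a : ι) (z : (W a).left), (w a).left.base z = x) ∧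
        ∀ a, R (w a ≫ (EtCoh.bc f).map g) := by
  obtain ⟨Ω, hΩ1, hΩ2, η', hη'⟩ := exists_geomPoint y
  letI := hΩ1
  haveI := hΩ2
  let f' : ((EtCoh.bc f).obj V).left ⟶ V.left := (pullback.fst V.hom f : _)
  haveI : IsIntegralHom f' := inferInstanceAs (IsIntegralHom (pullback.fst V.hom f))
  let I := Σ (U : X.Etale), {u : U ⟶ (EtCoh.bc f).obj V // R u}
  let UU : I → ((EtCoh.bc f).obj V).left.Etale := fun i => Scheme.Etale.mk (i.2.1).left
  have hcov : ∀ x : ((EtCoh.bc f).obj V).left, ∃ i, x ∈ Set.range (homX (UU i)).base := by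
    intro x
    obtain ⟨U, u, z, hu, hz⟩ := SZ.pointwise_of_mem _ R hR x
    exact ⟨⟨U, u, hu⟩, z, hz⟩
  obtain ⟨V₁, v₁, hv₁, H⟩ := exists_decomp_integral f' η' UU hcov
  haveI : Etale (homX V₁) := V₁.prop
  haveI : Etale (homX V) := V.prop
  let V' : Y.Etale := Scheme.Etale.mk (homX V₁ ≫ homX V)
  let g : V' ⟶ V := MorphismProperty.Over.homMk (homX V₁) rfl trivial
  refine ⟨V', g, ⟨v₁ default, ?_⟩, ?_⟩
  · show (homX V₁) (v₁ default) = y
    rw [← hη', ← hv₁]
    rfl
  let p : ((EtCoh.bc f).obj V').left ⟶ V₁.left := (pullback.fst V'.hom f : _)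
  let q : ((EtCoh.bc f).obj V').left ⟶ ((EtCoh.bc f).obj V).left := ((EtCoh.bc f).map g).left
  have hpq : p ≫ homX V₁ = q ≫ f' := (EtCoh.isPullback_bc_map f g).w.symm
  obtain ⟨κ, hκ, W, hdis, hcovW, hW⟩ := H _ p q hpq
  choose i h hh using hW
  haveI : Etale (homX ((EtCoh.bc f).obj V')) := ((EtCoh.bc f).obj V').prop
  let Wobj : κ → X.Etale := fun c => Scheme.Etale.mk ((W c).ι ≫ homX ((EtCoh.bc f).obj V'))
  let w : ∀ c, Wobj c ⟶ (EtCoh.bc f).obj V' := fun c =>
    MorphismProperty.Over.homMk (W c).ι rfl trivial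
  refine ⟨κ, hκ, Wobj, w, ?_, ?_, ?_, ?_⟩
  · intro a
    show Mono (W a).ι
    infer_instance
  · intro a b hab za zb heq
    have ha : (W a).ι.base za ∈ W a := za.2
    have hb : (W a).ι.base za ∈ W b := by
      have heq' : (W a).ι.base za = (W b).ι.base zb := heq
      rw [heq']
      exact zb.2
    exact (hdis a b hab).le_bot ⟨ha, hb⟩
  · intro x
    have hx : x ∈ (⨆ c, W c) := by rw [hcovW]; trivial
    obtain ⟨a, ha⟩ := TopologicalSpace.Opens.mem_iSup.1 hx
    exact ⟨a, ⟨x, ha⟩, rfl⟩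
  · intro c
    let U := (i c).1
    let u : U ⟶ (EtCoh.bc f).obj V := (i c).2.1
    have hu : R u := (i c).2.2
    let hc : (W c).toScheme ⟶ U.left := h c
    have hm : hc ≫ U.hom = (Wobj c).hom := by
      have e1 : u.left ≫ ((EtCoh.bc f).obj V).hom = U.hom :=
        MorphismProperty.Over.w u
      have e2 : q ≫ ((EtCoh.bc f).obj V).hom = ((EtCoh.bc f).obj V').hom :=
        MorphismProperty.Over.w ((EtCoh.bc f).map g)
      have e3 : hc ≫ u.left = (W c).ι ≫ q := hh c
      calc hc ≫ U.hom = hc ≫ (u.left ≫ ((EtCoh.bc f).obj V).hom) :=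
            congrArg (fun k => hc ≫ k) e1.symm
        _ = (hc ≫ u.left) ≫ ((EtCoh.bc f).obj V).hom := (Category.assoc _ _ _).symm
        _ = ((W c).ι ≫ q) ≫ ((EtCoh.bc f).obj V).hom :=
            congrArg (fun k => k ≫ ((EtCoh.bc f).obj V).hom) e3
        _ = (W c).ι ≫ (q ≫ ((EtCoh.bc f).obj V).hom) := Category.assoc _ _ _
        _ = (W c).ι ≫ ((EtCoh.bc f).obj V').hom := congrArg (fun k => (W c).ι ≫ k) e2
        _ = (Wobj c).hom := rfl
    let m : Wobj c ⟶ U := MorphismProperty.Over.homMk hc hm trivial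
    have hfac : w c ≫ (EtCoh.bc f).map g = m ≫ u :=
      MorphismProperty.Over.Hom.ext (hh c).symm
    rw [hfac]
    exact R.downward_closed hu m

theorem epi_push_map_integral {X Y : Scheme.{u}} (f : X ⟶ Y) [IsIntegralHom f] {F G : EtCoh.Ab X}
    (e : F ⟶ G) [Epi e] : Epi ((EtCoh.push f).map e) := by
  haveI := SHC.preservesFilteredColimits_forget.{u}
  haveI hls : Sheaf.IsLocallySurjective e :=
    (Sheaf.isLocallySurjective_iff_epi' _ e).2 inferInstance
  refine (Sheaf.isLocallySurjective_iff_epi' _ ((EtCoh.push f).map e)).1 ?_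
  refine ⟨fun {V} s => ?_⟩
  apply SHC.mem_of_pointwise
  intro y
  have hR := hls.imageSieve_mem (U := (EtCoh.bc f).obj V) s
  obtain ⟨V', g, ⟨v, hv⟩, ι, hι, W, w, hmono, hdisj, hsurj, hRw⟩ :=
    exists_refinement_of_cover_integral f V _ hR y
  refine ⟨V', g, v, ?_, hv⟩
  have hloc : ∀ a, ∃ l : F.obj.obj (op (W a)), e.hom.app (op (W a)) l =
      G.obj.map (w a).op (G.obj.map ((EtCoh.bc f).map g).op s) := by
    intro a
    obtain ⟨l, hl⟩ := hRw a
    refine ⟨l, ?_⟩
    rw [map_map']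
    exact hl
  obtain ⟨t, ht⟩ := exists_glue e W w hmono hdisj hsurj _ hloc
  exact ⟨t, ht⟩

theorem preservesEpimorphisms_push_integral {X Y : Scheme.{u}} (f : X ⟶ Y) [IsIntegralHom f] :
    (EtCoh.push f).PreservesEpimorphisms :=
  ⟨fun e _ => epi_push_map_integral f e⟩

theorem preservesFiniteColimits_push_integral {X Y : Scheme.{u}} (f : X ⟶ Y)
    [IsIntegralHom f] : PreservesFiniteColimits (EtCoh.push f) := by
  haveI := preservesFiniteLimits_push' f
  rw [Functor.preservesFiniteColimits_iff_forall_exact_map_and_epi]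
  intro S hS
  have h1 := (Functor.preservesFiniteLimits_iff_forall_exact_map_and_mono (EtCoh.push f)).1
    inferInstance S hS
  haveI := hS.epi_g
  exact ⟨h1.1, epi_push_map_integral f S.g⟩

theorem isZero_Rpush_integral {X Y : Scheme.{u}} (f : X ⟶ Y) [IsIntegralHom f] (F : EtCoh.Ab X)
    (q : ℕ) (hq : 1 ≤ q) : IsZero ((EtCoh.Rpush f q).obj F) := by
  obtain ⟨n, rfl⟩ : ∃ n, q = n + 1 := ⟨q - 1, by omega⟩
  haveI := preservesFiniteLimits_push' f
  haveI := preservesFiniteColimits_push_integral f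
  exact isZero_rightDerived_of_exact' (EtCoh.push f) n F

end Groth.Agent.Helper1.FP
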