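import Mathlib
import Groth.Prelude.Def_EtShriek2
import Groth.Agent.Lib.Helper1.EZ9
import Groth.Agent.Lib.Helper1.FP10

/-!
# Locally quasi-finite separated morphisms: geometric points of supports and the étale local
structure (helper1, LQ1)
-/

set_option autoImplicit false
set_option linter.unusedSectionVars false
set_option linter.style.haveILetI false

open CategoryTheory CategoryTheory.Limits AlgebraicGeometry Opposite

namespace Groth.Agent.Helper1.LQ

universe u

open Groth.Agent.Helper1.ES Groth.Agent.Helper1.EZ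

variable {X Y : Scheme.{u}} (f : X ⟶ Y) [LocallyOfFiniteType f] [LocallyQuasiFinite f]
  [IsSeparated f]

instance lqf_prV (V : Y.Etale) : LocallyQuasiFinite (EtShriek.prV f V) :=
  inferInstanceAs (LocallyQuasiFinite (pullback.fst V.hom f))

/-- geometric points of the support of `t` over a geometric point of `V` -/
def GPf (F : EtCoh.Ab X) (V : Y.Etale) (t : EtCoh.sect F ((EtCoh.bc f).obj V)) {Ω : Type u}
    [Field Ω] (wb : Spec (CommRingCat.of Ω) ⟶ V.left) : Type u :=
  {zb : Spec (CommRingCat.of Ω) ⟶ ((EtCoh.bc f).obj V).left //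
    zb ≫ EtShriek.prV f V = wb ∧ zb.base default ∈ EtShriek.sectSupp F _ t}

theorem finite_GPf (F : EtCoh.Ab X) (V : Y.Etale) (t : EtCoh.sect F ((EtCoh.bc f).obj V))
    (ht : t ∈ EtShriek.shriekSubgroup f F V) {Ω : Type u} [Field Ω] [IsAlgClosed Ω]
    (wb : Spec (CommRingCat.of Ω) ⟶ V.left) : Finite (GPf f F V t wb) := by
  have hprop : ClSub.IsProperOver (EtShriek.prV f V) (EtShriek.sectSupp F _ t) :=
    (mem_shriekSubgroup_iff' f F V t).1 ht
  let p : ((EtCoh.bc f).obj V).left ⟶ V.left := EtShriek.prV f V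
  let q : pullback p wb ⟶ Spec (CommRingCat.of Ω) := pullback.snd p wb
  let Zb : Set ↥(pullback p wb) := (pullback.fst p wb).base ⁻¹' EtShriek.sectSupp F _ t
  have hZb : ClSub.IsProperOver q Zb :=
    Groth.Agent.S0793.result p wb (pullback.fst p wb) q (IsPullback.of_hasPullback p wb) _ hprop
  haveI : LocallyQuasiFinite q := inferInstanceAs (LocallyQuasiFinite (pullback.snd p wb))
  haveI : LocallyOfFiniteType q := inferInstanceAs (LocallyOfFiniteType (pullback.snd p wb))
  have hfin : Zb.Finite := by
    obtain ⟨hc, hp⟩ := hZb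
    haveI : IsProper ((Scheme.IdealSheafData.vanishingIdeal ⟨Zb, hc⟩).subschemeι ≫ q) := hp
    have h1 := Scheme.Hom.finite_preimage_singleton
      ((Scheme.IdealSheafData.vanishingIdeal ⟨Zb, hc⟩).subschemeι ≫ q) default
    have h2 : ((Scheme.IdealSheafData.vanishingIdeal ⟨Zb, hc⟩).subschemeι ≫ q).base ⁻¹' {default} =
        Set.univ := by
      ext x
      simp only [Set.mem_preimage, Set.mem_singleton_iff, Set.mem_univ, iff_true]
      exact Subsingleton.elim _ _
    rw [h2] at h1
    haveI : Finite ↥(Scheme.IdealSheafData.vanishingIdeal ⟨Zb, hc⟩).subscheme :=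
      Set.finite_univ_iff.1 h1
    rw [← Helper2.range_red Zb hc]
    exact Set.finite_range _
  haveI : Finite Zb := hfin.to_subtype
  have hw : ∀ zb : GPf f F V t wb, zb.1 ≫ p = 𝟙 _ ≫ wb := fun zb => by
    rw [Category.id_comp]
    exact zb.2.1
  let fm : GPf f F V t wb → Zb := fun zb =>
    ⟨(pullback.lift zb.1 (𝟙 _) (hw zb)).base default, by
      change (pullback.fst p wb).base ((pullback.lift zb.1 (𝟙 _) (hw zb)).base default) ∈
        EtShriek.sectSupp F _ t
      have e : (pullback.lift zb.1 (𝟙 _) (hw zb) ≫ pullback.fst p wb).base default =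
          zb.1.base default := by
        rw [pullback.lift_fst]
      exact e ▸ zb.2.2⟩
  apply Finite.of_injective fm
  intro a b hab
  apply Subtype.ext
  have hab' : (pullback.lift a.1 (𝟙 _) (hw a)).base default =
      (pullback.lift b.1 (𝟙 _) (hw b)).base default := congrArg Subtype.val hab
  have e := ext_of_apply_closedPoint_eq (f := pullback.lift a.1 (𝟙 _) (hw a))
    (g := pullback.lift b.1 (𝟙 _) (hw b)) q
    (pullback.lift_snd _ _ _) (pullback.lift_snd _ _ _) (by
      rw [Subsingleton.elim (IsLocalRing.closedPoint Ω)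
        (default : ↥(Spec (CommRingCat.of Ω)))]
      exact hab')
  have e' := congrArg (fun m => m ≫ pullback.fst p wb) e
  simp only [pullback.lift_fst] at e'
  exact e'

/-- existence of a geometric point over a given geometric point of the base, through a given
point of the fibre (algebraically closed field, locally quasi-finite morphism) -/
theorem exists_geom_lift {P B : Scheme.{u}} (p : P ⟶ B) [LocallyOfFiniteType p]
    [LocallyQuasiFinite p] {Ω : Type u} [Field Ω] [IsAlgClosed Ω]
    (wb : Spec (CommRingCat.of Ω) ⟶ B) (z : P) (hz : p.base z = wb.base default) :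
    ∃ l : Spec (CommRingCat.of Ω) ⟶ P, l ≫ p = wb ∧ l.base default = z := by
  obtain ⟨y, hy1, -⟩ := Scheme.Pullback.exists_preimage_pullback (f := p) (g := wb) z default hz
  let q : pullback p wb ⟶ Spec (CommRingCat.of Ω) := pullback.snd p wb
  haveI : LocallyQuasiFinite q := inferInstanceAs (LocallyQuasiFinite (pullback.snd p wb))
  haveI : LocallyOfFiniteType q := inferInstanceAs (LocallyOfFiniteType (pullback.snd p wb))
  have hd : _root_.IsDiscrete (q.base ⁻¹' {default}) := Scheme.Hom.isDiscrete_preimage_singleton q default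
  have huniv : q.base ⁻¹' {default} = Set.univ := by
    ext x
    simp only [Set.mem_preimage, Set.mem_singleton_iff, Set.mem_univ, iff_true]
    exact Subsingleton.elim _ _
  rw [huniv] at hd
  haveI : DiscreteTopology ↥(pullback p wb) := by
    rw [← isDiscrete_univ_iff]
    exact hd
  have hcl : IsClosed ({y} : Set ↥(pullback p wb)) := isClosed_discrete _
  refine ⟨pointOfClosedPoint q y hcl ≫ pullback.fst p wb, ?_, ?_⟩
  · rw [Category.assoc, pullback.condition, ← Category.assoc, pointOfClosedPoint_comp,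
      Category.id_comp]
  · have h1 : (pointOfClosedPoint q y hcl) default = y := pointOfClosedPoint_apply q y hcl default
    have h2 : (pointOfClosedPoint q y hcl ≫ pullback.fst p wb).base default =
        (pullback.fst p wb).base ((pointOfClosedPoint q y hcl).base default) := rfl
    rw [h2]
    exact (congrArg (pullback.fst p wb).base h1).trans hy1

theorem isFinite_of_eq {A B : Scheme.{u}} {a b : A ⟶ B} (h : a = b) [IsFinite b] : IsFinite a :=
  h ▸ inferInstance

/-- scheme-level form of the étale local structure of a separated locally quasi-finite morphism -/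
theorem exists_local_structure₀ {P B : Scheme.{u}} (p : P ⟶ B) [LocallyOfFiniteType p]
    [LocallyQuasiFinite p] [IsSeparated p] {Ω : Type u} [Field Ω] [IsAlgClosed Ω]
    (z0 : Spec (CommRingCat.of Ω) ⟶ P) :
    ∃ (U : Scheme.{u}) (g : U ⟶ B), Etale g ∧
      ∀ (P1 : Scheme.{u}) (g' : P1 ⟶ P) (p1 : P1 ⟶ U), IsPullback g' p1 p g →
        ∃ (T : P1.Opens) (ζ1 : Spec (CommRingCat.of Ω) ⟶ P1),
          IsClosed (T : Set P1) ∧ IsFinite (T.ι ≫ p1) ∧ ζ1 ≫ g' = z0 ∧ ζ1.base default ∈ T := by
  obtain ⟨U, g, hg, -, V0, W0, v0, hc, hfin, hv0⟩ :=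
    exists_etale_isCompl_of_quasiFiniteAt p (x := z0.base default) (s := p.base (z0.base default))
      rfl (Scheme.Hom.quasiFiniteAt p (z0.base default))
  haveI := hg
  haveI := hfin
  refine ⟨U, g, hg, ?_⟩
  intro P1 g' p1 sq
  obtain ⟨ζ, hζ1, hζ2⟩ :=
    Scheme.exists_fac_of_etale_of_isSepClosed (pullback.fst p g) z0 v0.1 hv0
  refine ⟨sq.isoPullback.hom ⁻¹ᵁ V0, ζ ≫ sq.isoPullback.inv, ?_, ?_, ?_, ?_⟩
  · have hV0 : (V0 : Set ↥(pullback p g)) = (W0 : Set ↥(pullback p g))ᶜ := by
      ext x
      constructor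
      · intro hx hx'
        have h1 : x ∈ V0 ⊓ W0 := ⟨hx, hx'⟩
        rw [hc.inf_eq_bot] at h1
        exact h1
      · intro hx
        have h1 : x ∈ V0 ⊔ W0 := by
          rw [hc.sup_eq_top]
          trivial
        rcases h1 with h | h
        · exact h
        · exact absurd h hx
    have h1 : IsClosed (V0 : Set ↥(pullback p g)) := by
      rw [hV0]
      exact W0.2.isClosed_compl
    exact h1.preimage sq.isoPullback.hom.continuous
  · have e : (sq.isoPullback.hom ⁻¹ᵁ V0).ι ≫ p1 =
        (sq.isoPullback.hom ∣_ V0) ≫ (V0.ι ≫ pullback.snd p g) := by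
      rw [← Category.assoc, morphismRestrict_ι, Category.assoc, sq.isoPullback_hom_snd]
    haveI : IsFinite ((sq.isoPullback.hom ∣_ V0) ≫ (V0.ι ≫ pullback.snd p g)) := inferInstance
    exact isFinite_of_eq e
  · rw [Category.assoc, sq.isoPullback_inv_fst]
    exact hζ1
  · have h3 : (ζ ≫ sq.isoPullback.inv) ≫ sq.isoPullback.hom = ζ := by
      rw [Category.assoc, Iso.inv_hom_id, Category.comp_id]
    have h4 : sq.isoPullback.hom.base ((ζ ≫ sq.isoPullback.inv).base default) = v0.1 :=
      (congrArg (fun m => m.base default) h3).trans hζ2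
    change sq.isoPullback.hom.base ((ζ ≫ sq.isoPullback.inv).base default) ∈ V0
    rw [h4]
    exact v0.2

/-- **Étale local structure of a separated locally quasi-finite morphism at a geometric point**
(from Zariski's main theorem): after an étale base change the morphism has a clopen piece, finite
over the base, through which the given geometric point factors. -/
theorem exists_local_structure (V : Y.Etale) {Ω : Type u} [Field Ω] [IsAlgClosed Ω]
    (z0 : Spec (CommRingCat.of Ω) ⟶ ((EtCoh.bc f).obj V).left) :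
    ∃ (V1 : Y.Etale) (k1 : V1 ⟶ V) (T : ((EtCoh.bc f).obj V1).left.Opens)
      (ζ1 : Spec (CommRingCat.of Ω) ⟶ ((EtCoh.bc f).obj V1).left),
      IsClosed (T : Set ((EtCoh.bc f).obj V1).left) ∧ IsFinite (T.ι ≫ EtShriek.prV f V1) ∧
      ζ1 ≫ ((EtCoh.bc f).map k1).left = z0 ∧ ζ1.base default ∈ T := by
  obtain ⟨U, g, hg, H⟩ := exists_local_structure₀ (EtShriek.prV f V) z0
  haveI := hg
  haveI : Etale V.hom := V.prop
  obtain ⟨T, ζ1, h1, h2, h3, h4⟩ := H _ _ _
    (EtCoh.isPullback_bc_map f
      (MorphismProperty.Over.homMk g rfl trivial : Scheme.Etale.mk (g ≫ V.hom) ⟶ V))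
  exact ⟨Scheme.Etale.mk (g ≫ V.hom), MorphismProperty.Over.homMk g rfl trivial, T, ζ1,
    h1, h2, h3, h4⟩

end Groth.Agent.Helper1.LQ
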