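import Mathlib
import Groth.Prelude.Def_EtShriek2
import Groth.Agent.Lib.Helper1.LQ1

/-!
# Lifting sections supported in a clopen piece finite over the base (helper1, LQ2)
-/

set_option autoImplicit false
set_option linter.unusedSectionVars false
set_option linter.style.haveILetI false

open CategoryTheory CategoryTheory.Limits AlgebraicGeometry Opposite

namespace Groth.Agent.Helper1.LQ

universe u

open Groth.Agent.Helper1.ES Groth.Agent.Helper1.EZ

theorem etale_of_comp_eq {A B C : Scheme.{u}} (a : A ⟶ B) (b : B ⟶ C) (c : A ⟶ C)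
    (h : a ≫ b = c) [Etale b] [Etale c] : Etale a := by
  haveI : Etale (a ≫ b) := h ▸ inferInstance
  exact MorphismProperty.of_postcomp (W := @Etale) (W' := @Etale) a b inferInstance inferInstance

/-- a clopen subset which is finite over the base is proper over the base -/
theorem isProperOver_of_clopen_finite {P B : Scheme.{u}} (p : P ⟶ B) [LocallyOfFiniteType p]
    (T : P.Opens) (hT : IsClosed (T : Set P)) [IsFinite (T.ι ≫ p)] :
    ClSub.IsProperOver p (T : Set P) := by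
  have hr : Set.range T.ι = (T : Set P) := Scheme.Opens.range_ι T
  haveI : IsClosedImmersion T.ι := IsClosedImmersion.of_isPreimmersion T.ι (hr ▸ hT)
  rw [Helper2.isProperOver_iff_of_closedImmersion p T.ι _ hr]
  infer_instance

/-- base change of a finite clopen piece stays finite -/
theorem isFinite_preimage_piece {P1 P3 B1 B3 : Scheme.{u}} {q3 : P3 ⟶ P1} {p3 : P3 ⟶ B3}
    {p1 : P1 ⟶ B1} {k : B3 ⟶ B1} (sq : IsPullback q3 p3 p1 k) (T : P1.Opens)
    [IsFinite (T.ι ≫ p1)] : IsFinite ((q3 ⁻¹ᵁ T).ι ≫ p3) := by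
  have sq2 : IsPullback (q3 ∣_ T) ((q3 ⁻¹ᵁ T).ι ≫ p3) (T.ι ≫ p1) k :=
    (isPullback_morphismRestrict q3 T).paste_vert sq
  exact MorphismProperty.of_isPullback (P := @IsFinite) sq2 inferInstance

variable {X Y : Scheme.{u}} (f : X ⟶ Y) [LocallyOfFiniteType f] [LocallyQuasiFinite f]
  [IsSeparated f]

/-- **Lifting the finite part.** A section of `G` supported in a clopen piece of `X ×_Y V₁` which is
finite over `V₁` lifts, after an étale localisation of `V₁` at a given geometric point, along an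
epimorphism `F ⟶ G` to a section of `F` with proper support. -/
theorem exists_lift_finite_part {F G : EtCoh.Ab X} (α : F ⟶ G) [Epi α] (V1 : Y.Etale)
    (T : ((EtCoh.bc f).obj V1).left.Opens)
    (hTc : IsClosed (T : Set ((EtCoh.bc f).obj V1).left))
    [hfin : IsFinite (T.ι ≫ EtShriek.prV f V1)]
    (a : EtCoh.sect G ((EtCoh.bc f).obj V1))
    (ha : EtShriek.sectSupp G _ a ⊆ (T : Set ((EtCoh.bc f).obj V1).left))
    {Ω : Type u} [Field Ω] [IsAlgClosed Ω] (wb1 : Spec (CommRingCat.of Ω) ⟶ V1.left) :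
    ∃ (V3 : Y.Etale) (k3 : V3 ⟶ V1) (wb3 : Spec (CommRingCat.of Ω) ⟶ V3.left),
      wb3 ≫ k3.left = wb1 ∧
      ∃ s : EtCoh.sect F ((EtCoh.bc f).obj V3), s ∈ EtShriek.shriekSubgroup f F V3 ∧
        α.hom.app (op ((EtCoh.bc f).obj V3)) s = G.obj.map ((EtCoh.bc f).map k3).op a := by
  haveI := SHC.preservesFilteredColimits_forget.{u}
  have hls : Sheaf.IsLocallySurjective α :=
    (Sheaf.isLocallySurjective_iff_epi' _ α).2 inferInstance
  let B : X.Etale := (EtCoh.bc f).obj V1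
  let Tobj : X.Etale := openObj B T
  let γ : Tobj ⟶ B := openObjι B T
  let aT : EtCoh.sect G Tobj := G.obj.map γ.op a
  obtain ⟨R, hR, hRdef⟩ : ∃ R : Sieve Tobj, R ∈ X.smallEtaleTopology Tobj ∧
      ∀ {U : X.Etale} (u : U ⟶ Tobj), R u →
        ∃ l : F.obj.obj (op U), α.hom.app (op U) l = G.obj.map u.op aT :=
    ⟨_, hls.imageSieve_mem (U := Tobj) aT, fun u hu => hu⟩
  let π1 : T.toScheme ⟶ V1.left := T.ι ≫ EtShriek.prV f V1
  haveI : IsFinite π1 := hfin
  haveI : Etale Tobj.hom := Tobj.prop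
  have het : ∀ {U : X.Etale} (u : U ⟶ Tobj), Etale u.left := by
    intro U u
    haveI : Etale U.hom := U.prop
    exact etale_of_comp_eq u.left Tobj.hom U.hom (MorphismProperty.Over.w u)
  let I := Σ (U : X.Etale), {u : U ⟶ Tobj // R u}
  let UU : I → T.toScheme.Etale := fun i =>
    @Scheme.Etale.mk T.toScheme i.1.left (i.2.1).left (het i.2.1)
  have hcov : ∀ x : T.toScheme, ∃ i, x ∈ Set.range (FP.homX (UU i)).base := by
    intro x
    obtain ⟨U, u, z, hu, hz⟩ := pointwise_of_mem Tobj R hR x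
    refine ⟨⟨U, u, hu⟩, ?_⟩
    exact ⟨z, hz⟩
  obtain ⟨V₁', v, hv, H⟩ := FP.exists_decomp_integral π1 wb1 UU hcov
  haveI : Etale V₁'.hom := V₁'.prop
  haveI : Etale V1.hom := V1.prop
  let V3 : Y.Etale := Scheme.Etale.mk (V₁'.hom ≫ V1.hom)
  let k3 : V3 ⟶ V1 := MorphismProperty.Over.homMk V₁'.hom rfl trivial
  refine ⟨V3, k3, v, hv, ?_⟩
  let B3 : X.Etale := (EtCoh.bc f).obj V3
  let q3 : B3.left ⟶ B.left := ((EtCoh.bc f).map k3).left
  have sq : IsPullback q3 (EtShriek.prV f V3) (EtShriek.prV f V1) V₁'.hom :=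
    EtCoh.isPullback_bc_map f k3
  let T3 : B3.left.Opens := q3 ⁻¹ᵁ T
  let p : T3.toScheme ⟶ V₁'.left := T3.ι ≫ EtShriek.prV f V3
  let q : T3.toScheme ⟶ T.toScheme := q3 ∣_ T
  have hqι : q ≫ T.ι = T3.ι ≫ q3 := morphismRestrict_ι q3 T
  have hpq : p ≫ V₁'.hom = q ≫ π1 :=
    calc p ≫ V₁'.hom = T3.ι ≫ (EtShriek.prV f V3 ≫ V₁'.hom) := Category.assoc _ _ _
      _ = T3.ι ≫ (q3 ≫ EtShriek.prV f V1) := congrArg (fun m => T3.ι ≫ m) sq.w.symm
      _ = (T3.ι ≫ q3) ≫ EtShriek.prV f V1 := (Category.assoc _ _ _).symm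
      _ = (q ≫ T.ι) ≫ EtShriek.prV f V1 := congrArg (fun m => m ≫ EtShriek.prV f V1) hqι.symm
      _ = q ≫ π1 := Category.assoc _ _ _
  obtain ⟨κ, hκ, W, hdis, hcovW, hW⟩ := H _ p q hpq
  choose i h hh using hW
  let T3obj : X.Etale := openObj B3 T3
  let γ3 : T3obj ⟶ B3 := openObjι B3 T3
  let a3 : EtCoh.sect G B3 := G.obj.map ((EtCoh.bc f).map k3).op a
  let Wobj : κ → X.Etale := fun c => openObj T3obj (W c)
  let w : ∀ c, Wobj c ⟶ T3obj := fun c => openObjι T3obj (W c)
  have hBw : q3 ≫ B.hom = B3.hom := MorphismProperty.Over.w ((EtCoh.bc f).map k3)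
  -- local lifts on the pieces
  have hloc : ∀ c, ∃ l : F.obj.obj (op (Wobj c)),
      α.hom.app (op (Wobj c)) l = G.obj.map (w c).op (G.obj.map γ3.op a3) := by
    intro c
    let U := (i c).1
    let u : U ⟶ Tobj := (i c).2.1
    have hu : R u := (i c).2.2
    obtain ⟨l0, hl0⟩ := hRdef u hu
    let hc : (W c).toScheme ⟶ U.left := h c
    have hhc : hc ≫ u.left = (W c).ι ≫ q := hh c
    have e1 : u.left ≫ Tobj.hom = U.hom := MorphismProperty.Over.w u
    have hleft : hc ≫ (u.left ≫ T.ι) = (W c).ι ≫ (T3.ι ≫ q3) :=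
      calc hc ≫ (u.left ≫ T.ι) = (hc ≫ u.left) ≫ T.ι := (Category.assoc _ _ _).symm
        _ = ((W c).ι ≫ q) ≫ T.ι := congrArg (fun m => m ≫ T.ι) hhc
        _ = (W c).ι ≫ (q ≫ T.ι) := Category.assoc _ _ _
        _ = (W c).ι ≫ (T3.ι ≫ q3) := congrArg (fun m => (W c).ι ≫ m) hqι
    have hm : hc ≫ U.hom = (Wobj c).hom :=
      calc hc ≫ U.hom = hc ≫ (u.left ≫ (T.ι ≫ B.hom)) :=
            congrArg (fun m => hc ≫ m) e1.symm
        _ = (hc ≫ (u.left ≫ T.ι)) ≫ B.hom := by
            simp only [Category.assoc]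
        _ = ((W c).ι ≫ (T3.ι ≫ q3)) ≫ B.hom := congrArg (fun m => m ≫ B.hom) hleft
        _ = (W c).ι ≫ (T3.ι ≫ (q3 ≫ B.hom)) := by
            simp only [Category.assoc]
        _ = (W c).ι ≫ (T3.ι ≫ B3.hom) := congrArg (fun m => (W c).ι ≫ (T3.ι ≫ m)) hBw
    let m : Wobj c ⟶ U := MorphismProperty.Over.homMk hc hm trivial
    have hfac : m ≫ (u ≫ γ) = w c ≫ (γ3 ≫ (EtCoh.bc f).map k3) :=
      MorphismProperty.Over.Hom.ext hleft
    refine ⟨F.obj.map m.op l0, ?_⟩
    have nat := congrArg (fun ψ => ψ l0)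
      (congrArg AddCommGrpCat.Hom.hom (α.hom.naturality m.op))
    simp only [AddCommGrpCat.hom_comp, AddMonoidHom.coe_comp, Function.comp_apply] at nat
    rw [nat, hl0]
    change G.obj.map m.op (G.obj.map u.op (G.obj.map γ.op a)) =
      G.obj.map (w c).op (G.obj.map γ3.op (G.obj.map ((EtCoh.bc f).map k3).op a))
    rw [FP.map_map', FP.map_map', FP.map_map', FP.map_map']
    have hfac' : (m ≫ u) ≫ γ = (w c ≫ γ3) ≫ (EtCoh.bc f).map k3 :=
      (Category.assoc _ _ _).trans (hfac.trans (Category.assoc _ _ _).symm)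
    exact congrArg (fun k => (ConcreteCategory.hom (G.obj.map k.op)) a) hfac'
  -- glue
  obtain ⟨b, hb⟩ := FP.exists_glue α Wobj w
    (fun c => inferInstanceAs (Mono (W c).ι))
    (by
      intro c c' hcc za zb heq
      have ha' : (W c).ι.base za ∈ W c := za.2
      have hb' : (W c).ι.base za ∈ W c' := by
        have heq' : (W c).ι.base za = (W c').ι.base zb := heq
        rw [heq']
        exact zb.2
      exact (hdis c c' hcc).le_bot ⟨ha', hb'⟩)
    (by
      intro x
      have hx : x ∈ (⨆ c, W c) := by rw [hcovW]; trivial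
      obtain ⟨c, hc⟩ := TopologicalSpace.Opens.mem_iSup.1 hx
      exact ⟨c, ⟨x, hc⟩, rfl⟩)
    (G.obj.map γ3.op a3) hloc
  -- extend by zero
  haveI : IsOpenImmersion γ3.left := inferInstanceAs (IsOpenImmersion T3.ι)
  have hT3c : IsClosed (T3 : Set B3.left) := hTc.preimage q3.continuous
  have hrange : Set.range γ3.left.base = (T3 : Set B3.left) := Scheme.Opens.range_ι T3
  obtain ⟨s, hs1, hs2⟩ := exists_extByZero F γ3 (hrange ▸ hT3c) b
  refine ⟨s, ?_, ?_⟩
  · rw [mem_shriekSubgroup_iff']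
    haveI : IsFinite (T3.ι ≫ EtShriek.prV f V3) := isFinite_preimage_piece sq T
    exact isProperOver_mono _ (SHC.isClosed_sectSupp F _ s) (hrange ▸ hs2)
      (isProperOver_of_clopen_finite (EtShriek.prV f V3) T3 hT3c)
  · apply extByZero_unique G γ3
    · have nat := congrArg (fun ψ => ψ s)
        (congrArg AddCommGrpCat.Hom.hom (α.hom.naturality γ3.op))
      simp only [AddCommGrpCat.hom_comp, AddMonoidHom.coe_comp, Function.comp_apply] at nat
      rw [← nat, hs1]
      exact hb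
    · exact (EtShriek.sectSupp_map_subset α _ s).trans hs2
    · rw [sectSupp_map, hrange]
      intro y hy
      exact ha hy

end Groth.Agent.Helper1.LQ
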