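import Mathlib
import Groth.Prelude.Def_EtShriek2
import Groth.Agent.Lib.Helper1.LQ2
import Groth.Agent.Lib.Helper1.CH2

/-!
# `f_!` is exact for `f` separated and locally quasi-finite (helper1, LQ3): S0684
-/

set_option autoImplicit false
set_option linter.unusedSectionVars false
set_option linter.style.haveILetI false

open CategoryTheory CategoryTheory.Limits AlgebraicGeometry Opposite

namespace Groth.Agent.Helper1.LQ

universe u

open Groth.Agent.Helper1.ES Groth.Agent.Helper1.EZ

/-! ### Short exactness of abelian étale sheaves from sectionwise left exactness and local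
surjectivity (adapted from helper23's `ShLocExact`, for the small étale site) -/

section Lift

variable {Y : Scheme.{u}} (S : ShortComplex (EtCoh.Ab Y))
  (hinj : ∀ W : Y.Etaleᵒᵖ, Function.Injective (S.f.hom.app W).hom)
  (hex : ∀ (W : Y.Etaleᵒᵖ) (y : S.X₂.obj.obj W), (S.g.hom.app W).hom y = 0 →
      ∃ x, (S.f.hom.app W).hom x = y)

include hex in
lemma exists_pre {T : EtCoh.Ab Y} (g' : T ⟶ S.X₂) (h : g' ≫ S.g = 0)
    (W : Y.Etaleᵒᵖ) (t : T.obj.obj W) : ∃ x, (S.f.hom.app W).hom x = (g'.hom.app W).hom t := by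
  apply hex
  have := congr((($h).hom.app W).hom t)
  exact this

/-- the sectionwise lift. -/
noncomputable def liftFun {T : EtCoh.Ab Y} (g' : T ⟶ S.X₂) (h : g' ≫ S.g = 0)
    (W : Y.Etaleᵒᵖ) (t : T.obj.obj W) : S.X₁.obj.obj W :=
  (exists_pre S hex g' h W t).choose

lemma f_liftFun {T : EtCoh.Ab Y} (g' : T ⟶ S.X₂) (h : g' ≫ S.g = 0)
    (W : Y.Etaleᵒᵖ) (t : T.obj.obj W) :
    (S.f.hom.app W).hom (liftFun S hex g' h W t) = (g'.hom.app W).hom t :=
  (exists_pre S hex g' h W t).choose_spec

/-- the lift as a morphism of sheaves. -/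
noncomputable def lift {T : EtCoh.Ab Y} (g' : T ⟶ S.X₂) (h : g' ≫ S.g = 0) :
    T ⟶ S.X₁ :=
  ⟨{ app := fun W => AddCommGrpCat.ofHom
      { toFun := liftFun S hex g' h W
        map_zero' := by
          apply hinj W
          rw [f_liftFun, map_zero, map_zero]
        map_add' := fun a b => by
          apply hinj W
          rw [f_liftFun, map_add, map_add, f_liftFun, f_liftFun] }
     naturality := fun W W' i => by
      ext t
      apply hinj W'
      change (S.f.hom.app W').hom (liftFun S hex g' h W' ((T.obj.map i).hom t)) =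
        (S.f.hom.app W').hom ((S.X₁.obj.map i).hom (liftFun S hex g' h W t))
      rw [f_liftFun]
      have h1 := congr(($(S.f.hom.naturality i)).hom (liftFun S hex g' h W t))
      have h2 := congr(($(g'.hom.naturality i)).hom t)
      change (S.f.hom.app W').hom ((S.X₁.obj.map i).hom (liftFun S hex g' h W t)) =
        (S.X₂.obj.map i).hom ((S.f.hom.app W).hom (liftFun S hex g' h W t)) at h1
      change (g'.hom.app W').hom ((T.obj.map i).hom t) =
        (S.X₂.obj.map i).hom ((g'.hom.app W).hom t) at h2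
      rw [h1, h2, f_liftFun] }⟩

lemma lift_f {T : EtCoh.Ab Y} (g' : T ⟶ S.X₂) (h : g' ≫ S.g = 0) :
    lift S hinj hex g' h ≫ S.f = g' := by
  apply Sheaf.hom_ext
  ext W t
  exact f_liftFun S hex g' h W t

end Lift

/-- short exactness of abelian étale sheaves from sectionwise left exactness and local
surjectivity. -/
theorem shortExact_of_locally {Y : Scheme.{u}} (S : ShortComplex (EtCoh.Ab Y))
    (hinj : ∀ W : Y.Etaleᵒᵖ, Function.Injective (S.f.hom.app W).hom)
    (hex : ∀ (W : Y.Etaleᵒᵖ) (y : S.X₂.obj.obj W), (S.g.hom.app W).hom y = 0 →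
      ∃ x, (S.f.hom.app W).hom x = y)
    (hsurj : Sheaf.IsLocallySurjective S.g) : S.ShortExact := by
  have hm : Mono S.f := by
    apply mono_of_injective_app
    intro U
    exact hinj (op U)
  have he : Epi S.g := by
    haveI := hsurj
    exact Sheaf.epi_of_isLocallySurjective S.g
  refine { exact := ?_, mono_f := hm, epi_g := he }
  apply S.exact_of_f_is_kernel
  refine KernelFork.IsLimit.ofι S.f S.zero (fun g' h => lift S hinj hex g' h)
    (fun g' h => lift_f S hinj hex g' h) (fun g' h m hm' => ?_)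
  rw [← cancel_mono S.f, hm', lift_f]

variable {X Y : Scheme.{u}} (f : X ⟶ Y) [LocallyOfFiniteType f] [LocallyQuasiFinite f]
  [IsSeparated f]

/-- restriction along `bc f` of a composite -/
theorem map_bc_comp (G : EtCoh.Ab X) {V V' V'' : Y.Etale} (k' : V'' ⟶ V') (k : V' ⟶ V)
    (t : EtCoh.sect G ((EtCoh.bc f).obj V)) :
    G.obj.map ((EtCoh.bc f).map k').op (G.obj.map ((EtCoh.bc f).map k).op t) =
      G.obj.map ((EtCoh.bc f).map (k' ≫ k)).op t :=
  (FP.map_map' G _ _ t).trans
    (congrArg (fun m => (ConcreteCategory.hom (G.obj.map m.op)) t)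
      ((EtCoh.bc f).map_comp k' k).symm)

/-- the support of the image of a section under a monomorphism -/
theorem sectSupp_app_of_mono {F G : EtCoh.Ab X} (β : F ⟶ G) [Mono β] (U : X.Etale)
    (s : EtCoh.sect F U) :
    EtShriek.sectSupp G U (β.hom.app (op U) s) = EtShriek.sectSupp F U s := by
  apply Set.Subset.antisymm (EtShriek.sectSupp_map_subset β U s)
  intro x hx W g hw h0
  apply hx W g hw
  apply injective_app_of_mono β W
  have nat := congrArg (fun ψ => ψ s) (congrArg AddCommGrpCat.Hom.hom (β.hom.naturality g.op))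
  simp only [AddCommGrpCat.hom_comp, AddMonoidHom.coe_comp, Function.comp_apply] at nat
  rw [map_zero]
  exact nat.trans h0

/-- comparison of the numbers of geometric points of supports under étale localisation -/
theorem card_GPf_lt (G : EtCoh.Ab X) {V V' : Y.Etale} (k : V' ⟶ V)
    (t : EtCoh.sect G ((EtCoh.bc f).obj V)) (ht : t ∈ EtShriek.shriekSubgroup f G V)
    (t' : EtCoh.sect G ((EtCoh.bc f).obj V'))
    (hsupp : EtShriek.sectSupp G _ t' ⊆
      ((EtCoh.bc f).map k).left.base ⁻¹' EtShriek.sectSupp G _ t)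
    {Ω : Type u} [Field Ω] [IsAlgClosed Ω] (wb' : Spec (CommRingCat.of Ω) ⟶ V'.left)
    (wb : Spec (CommRingCat.of Ω) ⟶ V.left) (hwb : wb' ≫ k.left = wb)
    (z0 : GPf f G V t wb)
    (hz0 : ∀ y : GPf f G V' t' wb', y.1 ≫ ((EtCoh.bc f).map k).left ≠ z0.1) :
    Nat.card (GPf f G V' t' wb') < Nat.card (GPf f G V t wb) := by
  haveI := finite_GPf f G V t ht wb
  have sq : IsPullback ((EtCoh.bc f).map k).left (EtShriek.prV f V') (EtShriek.prV f V) k.left :=
    EtCoh.isPullback_bc_map f k
  let fm : GPf f G V' t' wb' → GPf f G V t wb := fun y =>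
    ⟨y.1 ≫ ((EtCoh.bc f).map k).left,
      calc (y.1 ≫ ((EtCoh.bc f).map k).left) ≫ EtShriek.prV f V
          = y.1 ≫ (((EtCoh.bc f).map k).left ≫ EtShriek.prV f V) := Category.assoc _ _ _
        _ = y.1 ≫ (EtShriek.prV f V' ≫ k.left) := congrArg (fun m => y.1 ≫ m) sq.w
        _ = (y.1 ≫ EtShriek.prV f V') ≫ k.left := (Category.assoc _ _ _).symm
        _ = wb' ≫ k.left := congrArg (fun m => m ≫ k.left) y.2.1
        _ = wb := hwb,
      hsupp y.2.2⟩
  have hinj : Function.Injective fm := by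
    intro y₁ y₂ h
    apply Subtype.ext
    have h' : y₁.1 ≫ ((EtCoh.bc f).map k).left = y₂.1 ≫ ((EtCoh.bc f).map k).left :=
      congrArg Subtype.val h
    exact sq.hom_ext h' ((y₁.2.1).trans (y₂.2.1).symm)
  haveI : Finite (GPf f G V' t' wb') := Finite.of_injective fm hinj
  have hz : z0 ∉ Set.range fm := by
    rintro ⟨y, hy⟩
    exact hz0 y (congrArg Subtype.val hy)
  letI := Fintype.ofFinite (GPf f G V t wb)
  letI := Fintype.ofFinite (GPf f G V' t' wb')
  rw [Nat.card_eq_fintype_card, Nat.card_eq_fintype_card]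
  exact Fintype.card_lt_of_injective_of_notMem fm hinj hz

/-- splitting a section with proper support along a clopen piece -/
theorem exists_decomp (G : EtCoh.Ab X) (V1 : Y.Etale) (T : ((EtCoh.bc f).obj V1).left.Opens)
    (hTc : IsClosed (T : Set ((EtCoh.bc f).obj V1).left))
    (t1 : EtCoh.sect G ((EtCoh.bc f).obj V1)) (ht1 : t1 ∈ EtShriek.shriekSubgroup f G V1) :
    ∃ a a' : EtCoh.sect G ((EtCoh.bc f).obj V1), a + a' = t1 ∧
      EtShriek.sectSupp G _ a ⊆ (T : Set ((EtCoh.bc f).obj V1).left) ∧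
      (∀ y ∈ EtShriek.sectSupp G _ a', y ∉ T) ∧
      EtShriek.sectSupp G _ a' ⊆ EtShriek.sectSupp G _ t1 ∧
      a' ∈ EtShriek.shriekSubgroup f G V1 := by
  let B : X.Etale := (EtCoh.bc f).obj V1
  let γ : openObj B T ⟶ B := openObjι B T
  haveI : IsOpenImmersion γ.left := inferInstanceAs (IsOpenImmersion T.ι)
  have hrange : Set.range γ.left.base = (T : Set B.left) := Scheme.Opens.range_ι T
  obtain ⟨a, ha1, ha2⟩ := exists_extByZero G γ (hrange ▸ hTc) (G.obj.map γ.op t1)
  have hA1 : EtShriek.sectSupp G _ a ⊆ EtShriek.sectSupp G _ t1 := by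
    intro y hy
    obtain ⟨τ, rfl⟩ := ha2 hy
    have h1 : τ ∈ EtShriek.sectSupp G _ (G.obj.map γ.op a) := by
      rw [sectSupp_map]
      exact hy
    rw [ha1, sectSupp_map] at h1
    exact h1
  have hA0 : G.obj.map γ.op (t1 - a) = 0 := by
    rw [map_sub, ha1, sub_self]
  refine ⟨a, t1 - a, add_sub_cancel a t1, hrange ▸ ha2, ?_, ?_, ?_⟩
  · intro y hy hyT
    obtain ⟨τ, rfl⟩ : y ∈ Set.range γ.left.base := hrange ▸ hyT
    exact (map_eq_zero_iff G γ (t1 - a)).1 hA0 τ hy
  · intro y hy
    have hy' : y ∈ EtShriek.sectSupp G _ (t1 + -a) := by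
      rwa [← sub_eq_add_neg]
    rcases sectSupp_add_subset G _ _ _ hy' with h | h
    · exact h
    · rw [sectSupp_neg] at h
      exact hA1 h
  · have haM : a ∈ EtShriek.shriekSubgroup f G V1 := by
      rw [mem_shriekSubgroup_iff']
      exact isProperOver_mono _ (SHC.isClosed_sectSupp G _ a) hA1
        ((mem_shriekSubgroup_iff' f G V1 t1).1 ht1)
    exact AddSubgroup.sub_mem _ ht1 haM

end Groth.Agent.Helper1.LQ
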