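import Mathlib
import Groth.Prelude.Def_EtShriek2
import Groth.Agent.Lib.Helper1.LQ3

/-!
# `f_!` is exact for `f` separated and locally quasi-finite: the induction (helper1, LQ4): S0684
-/

set_option autoImplicit false
set_option linter.unusedSectionVars false
set_option linter.style.haveILetI false

open CategoryTheory CategoryTheory.Limits AlgebraicGeometry Opposite

namespace Groth.Agent.Helper1.LQ

universe u

open Groth.Agent.Helper1.ES Groth.Agent.Helper1.EZ

variable {X Y : Scheme.{u}} (f : X ⟶ Y) [LocallyOfFiniteType f] [LocallyQuasiFinite f]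
  [IsSeparated f]

/-- every section of `G` with proper support lifts, étale locally on the base, along an
epimorphism `F ⟶ G` to a section of `F` with proper support -/
theorem exists_local_lift {F G : EtCoh.Ab X} (α : F ⟶ G) [Epi α] : ∀ (m : ℕ) (V : Y.Etale)
    (t : EtCoh.sect G ((EtCoh.bc f).obj V)) (_ : t ∈ EtShriek.shriekSubgroup f G V)
    (Ω : Type u) [Field Ω] [IsAlgClosed Ω] (wb : Spec (CommRingCat.of Ω) ⟶ V.left),
    Nat.card (GPf f G V t wb) = m →
    ∃ (V' : Y.Etale) (k : V' ⟶ V) (w' : V'.left), k.left.base w' = wb.base default ∧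
      ∃ s : EtCoh.sect F ((EtCoh.bc f).obj V'), s ∈ EtShriek.shriekSubgroup f F V' ∧
        α.hom.app (op ((EtCoh.bc f).obj V')) s = G.obj.map ((EtCoh.bc f).map k).op t := by
  intro m
  induction m using Nat.strong_induction_on with
  | _ m ih =>
    intro V t ht Ω _ _ wb hm
    by_cases hne : Nonempty (GPf f G V t wb)
    · obtain ⟨z0⟩ := hne
      obtain ⟨V1, k1, T, ζ1, hTc, hTfin, hζ1, hζT⟩ := exists_local_structure f V z0.1
      haveI := hTfin
      have sq1 : IsPullback ((EtCoh.bc f).map k1).left (EtShriek.prV f V1) (EtShriek.prV f V)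
          k1.left := EtCoh.isPullback_bc_map f k1
      obtain ⟨wb1, hwb1def⟩ : ∃ wb1 : Spec (CommRingCat.of Ω) ⟶ V1.left,
          wb1 = ζ1 ≫ EtShriek.prV f V1 := ⟨_, rfl⟩
      have hwb1 : wb1 ≫ k1.left = wb :=
        calc wb1 ≫ k1.left = (ζ1 ≫ EtShriek.prV f V1) ≫ k1.left :=
              congrArg (fun m => m ≫ k1.left) hwb1def
          _ = ζ1 ≫ (EtShriek.prV f V1 ≫ k1.left) := Category.assoc _ _ _
          _ = ζ1 ≫ (((EtCoh.bc f).map k1).left ≫ EtShriek.prV f V) :=
              congrArg (fun m => ζ1 ≫ m) sq1.w.symm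
          _ = (ζ1 ≫ ((EtCoh.bc f).map k1).left) ≫ EtShriek.prV f V := (Category.assoc _ _ _).symm
          _ = z0.1 ≫ EtShriek.prV f V := congrArg (fun m => m ≫ EtShriek.prV f V) hζ1
          _ = wb := z0.2.1
      obtain ⟨t1, ht1def⟩ : ∃ t1 : EtCoh.sect G ((EtCoh.bc f).obj V1),
          t1 = G.obj.map ((EtCoh.bc f).map k1).op t := ⟨_, rfl⟩
      have ht1 : t1 ∈ EtShriek.shriekSubgroup f G V1 := by
        rw [ht1def]
        exact EtShriek.shriekSubgroup_le_comap f G k1 ht
      have ht1supp : EtShriek.sectSupp G _ t1 =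
          ((EtCoh.bc f).map k1).left.base ⁻¹' EtShriek.sectSupp G _ t := by
        rw [ht1def, sectSupp_map]
      obtain ⟨a, a', haa', haT, ha'T, ha'supp, ha'M⟩ := exists_decomp f G V1 T hTc t1 ht1
      obtain ⟨V3, k3, wb3, hwb3, s, hs, hαs⟩ :=
        exists_lift_finite_part f α V1 T hTc a haT wb1
      obtain ⟨a3', ha3'def⟩ : ∃ a3' : EtCoh.sect G ((EtCoh.bc f).obj V3),
          a3' = G.obj.map ((EtCoh.bc f).map k3).op a' := ⟨_, rfl⟩
      have ha3'M : a3' ∈ EtShriek.shriekSubgroup f G V3 := by
        rw [ha3'def]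
        exact EtShriek.shriekSubgroup_le_comap f G k3 ha'M
      have ha3'supp : EtShriek.sectSupp G _ a3' =
          ((EtCoh.bc f).map k3).left.base ⁻¹' EtShriek.sectSupp G _ a' := by
        rw [ha3'def, sectSupp_map]
      have hcompleft : ((EtCoh.bc f).map (k3 ≫ k1)).left =
          ((EtCoh.bc f).map k3).left ≫ ((EtCoh.bc f).map k1).left :=
        congrArg (fun m => m.left) ((EtCoh.bc f).map_comp k3 k1)
      have hlt : Nat.card (GPf f G V3 a3' wb3) < Nat.card (GPf f G V t wb) := by
        refine card_GPf_lt f G (k3 ≫ k1) t ht a3' ?_ wb3 wb ?_ z0 ?_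
        · intro y hy
          rw [ha3'supp] at hy
          have h2 : ((EtCoh.bc f).map k3).left.base y ∈ EtShriek.sectSupp G _ t1 := ha'supp hy
          rw [ht1supp] at h2
          change ((EtCoh.bc f).map (k3 ≫ k1)).left.base y ∈ EtShriek.sectSupp G _ t
          rw [hcompleft]
          exact h2
        · calc wb3 ≫ (k3 ≫ k1).left = (wb3 ≫ k3.left) ≫ k1.left := (Category.assoc _ _ _).symm
            _ = wb1 ≫ k1.left := congrArg (fun m => m ≫ k1.left) hwb3
            _ = wb := hwb1
        · intro y hy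
          have sq3 : IsPullback ((EtCoh.bc f).map k3).left (EtShriek.prV f V3)
              (EtShriek.prV f V1) k3.left := EtCoh.isPullback_bc_map f k3
          have e1 : (y.1 ≫ ((EtCoh.bc f).map k3).left) ≫ ((EtCoh.bc f).map k1).left =
              ζ1 ≫ ((EtCoh.bc f).map k1).left :=
            calc (y.1 ≫ ((EtCoh.bc f).map k3).left) ≫ ((EtCoh.bc f).map k1).left
                = y.1 ≫ (((EtCoh.bc f).map k3).left ≫ ((EtCoh.bc f).map k1).left) :=
                  Category.assoc _ _ _
              _ = y.1 ≫ ((EtCoh.bc f).map (k3 ≫ k1)).left :=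
                  congrArg (fun m => y.1 ≫ m) hcompleft.symm
              _ = z0.1 := hy
              _ = ζ1 ≫ ((EtCoh.bc f).map k1).left := hζ1.symm
          have e2 : (y.1 ≫ ((EtCoh.bc f).map k3).left) ≫ EtShriek.prV f V1 =
              ζ1 ≫ EtShriek.prV f V1 :=
            calc (y.1 ≫ ((EtCoh.bc f).map k3).left) ≫ EtShriek.prV f V1
                = y.1 ≫ (((EtCoh.bc f).map k3).left ≫ EtShriek.prV f V1) := Category.assoc _ _ _
              _ = y.1 ≫ (EtShriek.prV f V3 ≫ k3.left) := congrArg (fun m => y.1 ≫ m) sq3.w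
              _ = (y.1 ≫ EtShriek.prV f V3) ≫ k3.left := (Category.assoc _ _ _).symm
              _ = wb3 ≫ k3.left := congrArg (fun m => m ≫ k3.left) y.2.1
              _ = wb1 := hwb3
              _ = ζ1 ≫ EtShriek.prV f V1 := hwb1def
          have e3 : y.1 ≫ ((EtCoh.bc f).map k3).left = ζ1 := sq1.hom_ext e1 e2
          have h1 : ((EtCoh.bc f).map k3).left.base (y.1.base default) ∈
              EtShriek.sectSupp G _ a' :=
            (Set.ext_iff.1 ha3'supp _).1 y.2.2
          apply ha'T _ h1
          have e4 : ((EtCoh.bc f).map k3).left.base (y.1.base default) = ζ1.base default :=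
            congrArg (fun m => m.base default) e3
          rw [e4]
          exact hζT
      rw [hm] at hlt
      obtain ⟨V4, k4, w4, hw4, s', hs', hαs'⟩ := ih _ hlt V3 a3' ha3'M Ω wb3 rfl
      refine ⟨V4, k4 ≫ (k3 ≫ k1), w4, ?_, F.obj.map ((EtCoh.bc f).map k4).op s + s', ?_, ?_⟩
      · change k1.left.base (k3.left.base (k4.left.base w4)) = wb.base default
        rw [hw4]
        have h1 : k3.left.base (wb3.base default) = wb1.base default :=
          congrArg (fun m => m.base default) hwb3
        rw [h1]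
        exact congrArg (fun m => m.base default) hwb1
      · exact AddSubgroup.add_mem _ (EtShriek.shriekSubgroup_le_comap f F k4 hs) hs'
      · have nat := congrArg (fun ψ => ψ s)
          (congrArg AddCommGrpCat.Hom.hom (α.hom.naturality ((EtCoh.bc f).map k4).op))
        simp only [AddCommGrpCat.hom_comp, AddMonoidHom.coe_comp, Function.comp_apply] at nat
        rw [map_add, nat, hαs', hαs, ha3'def, ← map_add, ← map_add, haa', ht1def,
          map_bc_comp, map_bc_comp]
        exact congrArg (fun k => (ConcreteCategory.hom (G.obj.map ((EtCoh.bc f).map k).op)) t)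
          (Category.assoc k4 k3 k1)
    · let u : EtCoh.sect ((shriekSheaf f).obj G) V := mkS f G V t ht
      have hw : wb.base default ∉ EtShriek.sectSupp ((shriekSheaf f).obj G) V u := by
        rw [sectSupp_shriekSheaf]
        rintro ⟨z, hz, hzw⟩
        obtain ⟨l, hl1, hl2⟩ := exists_geom_lift (EtShriek.prV f V) wb z hzw
        apply hne
        refine ⟨⟨l, hl1, ?_⟩⟩
        rw [hl2]
        exact hz
      obtain ⟨V', k, ⟨w', hw'⟩, h0⟩ := (not_mem_sectSupp_iff _ V u _).1 hw
      refine ⟨V', k, w', hw', 0, AddSubgroup.zero_mem _, ?_⟩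
      rw [map_zero]
      have h1 := congrArg (valS f G V') h0
      rw [valS_map] at h1
      exact h1.symm

/-- `f_!` of an epimorphism is locally surjective -/
theorem isLocallySurjective_map {F G : EtCoh.Ab X} (α : F ⟶ G) [Epi α] :
    Sheaf.IsLocallySurjective ((shriekSheaf f).map α) := by
  constructor
  intro V u
  apply SHC.mem_of_pointwise
  intro v
  obtain ⟨Ω, hΩ1, hΩ2, wb, hwb⟩ := FP.exists_geomPoint v
  letI := hΩ1
  haveI := hΩ2
  obtain ⟨V', k, w', hw', s, hs, hαs⟩ := exists_local_lift f α _ V (valS f G V u)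
    (valS_mem f G V u) Ω wb rfl
  refine ⟨V', k, w', ⟨mkS f F V' s hs, ?_⟩, hw'.trans hwb⟩
  apply valS_injective
  exact hαs

instance additive_shriekSheaf : (shriekSheaf f).Additive where
  map_add {F G α β} := by
    apply Sheaf.hom_ext
    ext V s
    rfl

/-- `f_!` preserves short exact sequences -/
theorem shortExact_map (S : ShortComplex (EtCoh.Ab X)) (hS : S.ShortExact) :
    (S.map (shriekSheaf f)).ShortExact := by
  haveI := hS.mono_f
  haveI := hS.epi_g
  apply shortExact_of_locally
  · intro W x y hxy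
    apply valS_injective f S.X₁ W.unop
    apply injective_app_of_mono S.f ((EtCoh.bc f).obj W.unop)
    exact congrArg (valS f S.X₂ W.unop) hxy
  · intro W y hy
    have h0 : (S.g.hom.app (op ((EtCoh.bc f).obj W.unop))).hom (valS f S.X₂ W.unop y) = 0 :=
      congrArg (valS f S.X₃ W.unop) hy
    obtain ⟨x0, hx0⟩ := CE.sections_exact S hS _ _ h0
    have hmem : x0 ∈ EtShriek.shriekSubgroup f S.X₁ W.unop := by
      rw [mem_shriekSubgroup_iff']
      have hsupp := sectSupp_app_of_mono S.f ((EtCoh.bc f).obj W.unop) x0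
      rw [← hsupp]
      have hx0' : S.f.hom.app (op ((EtCoh.bc f).obj W.unop)) x0 = valS f S.X₂ W.unop y := hx0
      rw [hx0']
      exact (mem_shriekSubgroup_iff' f S.X₂ W.unop _).1 (valS_mem f S.X₂ W.unop y)
    exact ⟨mkS f S.X₁ W.unop x0 hmem, valS_injective f S.X₂ W.unop hx0⟩
  · exact isLocallySurjective_map f S.g

theorem exact_shriekSheaf :
    PreservesFiniteLimits (shriekSheaf f) ∧ PreservesFiniteColimits (shriekSheaf f) :=
  ((Functor.exact_tfae (shriekSheaf f)).out 0 3).1 (fun S hS => shortExact_map f S hS)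

theorem main0684 :
    PreservesFiniteLimits (EtShriek.lowerShriek f) ∧
      PreservesFiniteColimits (EtShriek.lowerShriek f) := by
  obtain ⟨h1, h2⟩ := exact_shriekSheaf f
  exact ⟨preservesFiniteLimits_of_natIso (shriekIso f).symm,
    preservesFiniteColimits_of_natIso (shriekIso f).symm⟩

end Groth.Agent.Helper1.LQ
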