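import Mathlib
import Groth.Prelude.Def_EtShriek2
import Groth.Agent.Lib.Helper1.LQ4
import Groth.Agent.Lib.Helper1.FP7

/-!
# Stalks of `f_!` for `f` separated and locally quasi-finite: the comparison maps, joint
injectivity and finiteness of supports (helper1, LQ6): towards S0683
-/

set_option autoImplicit false
set_option linter.unusedSectionVars false
set_option linter.style.haveILetI false

open CategoryTheory CategoryTheory.Limits AlgebraicGeometry Opposite

namespace Groth.Agent.Helper1.LQ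

universe u

open Groth.Agent.Helper1.ES Groth.Agent.Helper1.ELR Groth.Agent.Helper1.FP

section Germ

variable {X : Scheme.{u}} {Ω : Type u} [Field Ω] [IsSepClosed Ω]
  (ξ : Spec (CommRingCat.of Ω) ⟶ X)

/-- a germ vanishes iff the geometric point is not in the support of the section -/
theorem germ_eq_zero_iff (F : EtCoh.Ab X) (U : X.Etale) (l : (Φ ξ).fiber.obj U)
    (s : EtCoh.sect F U) :
    (Φ ξ).toPresheafFiber U l F.obj s = 0 ↔
      (pt ξ U l).base default ∉ EtShriek.sectSupp F U s := by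
  haveI := SHC.preservesFilteredColimits_forget.{u}
  constructor
  · intro h
    have h' : (Φ ξ).toPresheafFiber U l F.obj s = (Φ ξ).toPresheafFiber U l F.obj 0 := by
      rw [h, map_zero]
    obtain ⟨W, g, z, hz, hg⟩ := ((Φ ξ).toPresheafFiber_eq_iff' (P := F.obj) U l s 0).1 h'
    rw [not_mem_sectSupp_iff]
    refine ⟨W, g, ⟨(pt ξ W z).base default, ?_⟩, ?_⟩
    · have e : pt ξ W z ≫ g.left = pt ξ U l := by rw [← pt_map, hz]
      exact congrArg (fun m => m.base default) e
    · rw [hg, map_zero]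
  · intro h
    obtain ⟨W, g, ⟨w, hw⟩, h0⟩ := (not_mem_sectSupp_iff F U s _).1 h
    haveI : Etale W.hom := W.prop
    haveI : Etale U.hom := U.prop
    haveI : Etale g.left := etale_of_comp_eq g.left U.hom W.hom (MorphismProperty.Over.w g)
    obtain ⟨ζ, hζ1, hζ2⟩ := Scheme.exists_fac_of_etale_of_isSepClosed g.left (pt ξ U l) w hw
    have hζ : ζ ≫ W.hom = ξ := by
      rw [← MorphismProperty.Over.w g, ← Category.assoc, hζ1, pt_comp]
    have e1 := (Φ ξ).toPresheafFiber_w_apply g (mkPt ξ W ζ hζ) F.obj s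
    have e2 : (Φ ξ).fiber.map g (mkPt ξ W ζ hζ) = l := by
      apply pt_ext
      rw [pt_map, pt_mkPt]
      exact hζ1
    rw [e2] at e1
    rw [← e1, h0, map_zero]

/-- a geometric point factors through an open subscheme containing its image -/
theorem exists_lift_opens {P : Scheme.{u}} (O : P.Opens) (lam : Spec (CommRingCat.of Ω) ⟶ P)
    (h : lam.base default ∈ O) :
    ∃ z : Spec (CommRingCat.of Ω) ⟶ O.toScheme, z ≫ O.ι = lam := by
  have hr : Set.range lam.base ⊆ Set.range O.ι.base := by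
    rintro _ ⟨y, rfl⟩
    rw [Scheme.Opens.range_ι, Subsingleton.elim y default]
    exact h
  exact ⟨IsOpenImmersion.lift O.ι lam hr, IsOpenImmersion.lift_fac _ _ _⟩

end Germ

section Stalk

variable {X Y : Scheme.{u}} (f : X ⟶ Y) [LocallyOfFiniteType f] [LocallyQuasiFinite f]
  [IsSeparated f] (F : EtCoh.Ab X) {Ω : Type u} [Field Ω] [IsAlgClosed Ω]
  (η : Spec (CommRingCat.of Ω) ⟶ Y)

/-- the components of the comparison map -/
noncomputable def shU (ξ : Lifts f η) (V : Y.Etale) (x : (Φ η).fiber.obj V) :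
    ((shriekSheaf f).obj F).obj.obj (op V) ⟶ (EtCoh.stalk ξ.1).obj F :=
  (ιS f F).hom.app (op V) ≫
    ((Φ ξ.1).toPresheafFiber ((EtCoh.bc f).obj V) (liftPt f η ξ V x) F.obj :
      ((EtCoh.push f).obj F).obj.obj (op V) ⟶ (EtCoh.stalk ξ.1).obj F)

theorem shU_apply (ξ : Lifts f η) (V : Y.Etale) (x : (Φ η).fiber.obj V)
    (u : EtCoh.sect ((shriekSheaf f).obj F) V) :
    shU f F η ξ V x u =
      (Φ ξ.1).toPresheafFiber ((EtCoh.bc f).obj V) (liftPt f η ξ V x) F.obj (valS f F V u) :=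
  rfl

theorem shU_compat (ξ : Lifts f η) ⦃V' V : Y.Etale⦄ (g : V' ⟶ V) (x' : (Φ η).fiber.obj V') :
    ((shriekSheaf f).obj F).obj.map g.op ≫ shU f F η ξ V' x' =
      shU f F η ξ V ((Φ η).fiber.map g x') := by
  refine AddCommGrpCat.hom_ext (AddMonoidHom.ext fun u => ?_)
  have e := (Φ ξ.1).toPresheafFiber_w_apply ((EtCoh.bc f).map g) (liftPt f η ξ V' x') F.obj
    (valS f F V u)
  rw [liftPt_map] at e
  exact e

/-- the comparison map from the stalk of `f_! F` to the stalk of `F` at a lift -/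
noncomputable def shStalkMap (ξ : Lifts f η) :
    (EtCoh.stalk η).obj ((shriekSheaf f).obj F) ⟶ (EtCoh.stalk ξ.1).obj F :=
  (Φ η).presheafFiberDesc (P := ((shriekSheaf f).obj F).obj) (shU f F η ξ) (shU_compat f F η ξ)

theorem shStalkMap_germ (ξ : Lifts f η) (V : Y.Etale) (x : (Φ η).fiber.obj V)
    (u : EtCoh.sect ((shriekSheaf f).obj F) V) :
    shStalkMap f F η ξ ((Φ η).toPresheafFiber V x ((shriekSheaf f).obj F).obj u) =
      (Φ ξ.1).toPresheafFiber ((EtCoh.bc f).obj V) (liftPt f η ξ V x) F.obj (valS f F V u) := by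
  have h := (Φ η).toPresheafFiber_presheafFiberDesc (P := ((shriekSheaf f).obj F).obj)
    (shU f F η ξ) (shU_compat f F η ξ) V x
  exact congrArg (fun k => k u) h

/-- every geometric point of `X ×_Y V` over a lift `x` of `η` comes from a lift of `η` to `X` -/
theorem exists_lifts_of_point (V : Y.Etale) (x : (Φ η).fiber.obj V)
    (l : Spec (CommRingCat.of Ω) ⟶ ((EtCoh.bc f).obj V).left)
    (hl : l ≫ EtShriek.prV f V = pt η V x) :
    ∃ ξ : Lifts f η, pt ξ.1 _ (liftPt f η ξ V x) = l := by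
  have hc : ((EtCoh.bc f).obj V).hom ≫ f = EtShriek.prV f V ≫ V.hom := pullback.condition.symm
  have hξ : (l ≫ ((EtCoh.bc f).obj V).hom) ≫ f = η :=
    calc (l ≫ ((EtCoh.bc f).obj V).hom) ≫ f = l ≫ (((EtCoh.bc f).obj V).hom ≫ f) :=
          Category.assoc _ _ _
      _ = l ≫ (EtShriek.prV f V ≫ V.hom) := congrArg (fun k => l ≫ k) hc
      _ = (l ≫ EtShriek.prV f V) ≫ V.hom := (Category.assoc _ _ _).symm
      _ = pt η V x ≫ V.hom := congrArg (fun k => k ≫ V.hom) hl
      _ = η := pt_comp η V x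
  refine ⟨⟨l ≫ ((EtCoh.bc f).obj V).hom, hξ⟩, ?_⟩
  apply pt_bc_ext f V
  · rw [pt_liftPt_fst]
    exact hl.symm
  · rw [pt_liftPt_snd]

/-- joint injectivity of the comparison maps -/
theorem sh_injective (a : (EtCoh.stalk η).obj ((shriekSheaf f).obj F))
    (h : ∀ ξ : Lifts f η, shStalkMap f F η ξ a = 0) : a = 0 := by
  haveI := SHC.preservesFilteredColimits_forget.{u}
  obtain ⟨V, x, u, rfl⟩ :=
    (Φ η).toPresheafFiber_jointly_surjective (P := ((shriekSheaf f).obj F).obj) a
  refine (germ_eq_zero_iff η ((shriekSheaf f).obj F) V x u).2 ?_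
  rw [sectSupp_shriekSheaf]
  rintro ⟨z, hz, hzx⟩
  obtain ⟨l, hl1, hl2⟩ := exists_geom_lift (EtShriek.prV f V) (pt η V x) z hzx
  obtain ⟨ξ, hξ⟩ := exists_lifts_of_point f η V x l hl1
  have h1 := h ξ
  rw [shStalkMap_germ] at h1
  have h2 := (germ_eq_zero_iff ξ.1 F _ (liftPt f η ξ V x) (valS f F V u)).1 h1
  rw [hξ, hl2] at h2
  exact h2 hz

/-- the comparison maps vanish at all but finitely many lifts -/
theorem sh_finite_support (a : (EtCoh.stalk η).obj ((shriekSheaf f).obj F)) :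
    {ξ : Lifts f η | shStalkMap f F η ξ a ≠ 0}.Finite := by
  haveI := SHC.preservesFilteredColimits_forget.{u}
  obtain ⟨V, x, u, rfl⟩ :=
    (Φ η).toPresheafFiber_jointly_surjective (P := ((shriekSheaf f).obj F).obj) a
  haveI := finite_GPf f F V (valS f F V u) (valS_mem f F V u) (pt η V x)
  let fm : {ξ : Lifts f η // shStalkMap f F η ξ
      ((Φ η).toPresheafFiber V x ((shriekSheaf f).obj F).obj u) ≠ 0} →
      GPf f F V (valS f F V u) (pt η V x) := fun ξ =>
    ⟨pt ξ.1.1 _ (liftPt f η ξ.1 V x), pt_liftPt_fst f η ξ.1 V x, by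
      by_contra hmem
      apply ξ.2
      rw [shStalkMap_germ]
      exact (germ_eq_zero_iff ξ.1.1 F _ (liftPt f η ξ.1 V x) (valS f F V u)).2 hmem⟩
  have hinj : Function.Injective fm := by
    intro ξ1 ξ2 h
    apply Subtype.ext
    apply Subtype.ext
    have h' : pt ξ1.1.1 _ (liftPt f η ξ1.1 V x) = pt ξ2.1.1 _ (liftPt f η ξ2.1 V x) :=
      congrArg Subtype.val h
    exact (pt_liftPt_snd f η ξ1.1 V x).symm.trans
      ((congrArg (fun m => m ≫ ((EtCoh.bc f).obj V).hom) h').trans (pt_liftPt_snd f η ξ2.1 V x))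
  exact Set.finite_coe_iff.1 (Finite.of_injective fm hinj)

end Stalk

end Groth.Agent.Helper1.LQ
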