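import Mathlib
import Groth.Prelude.Def_EtShriek2
import Groth.Agent.Lib.Helper1.LQ6

/-!
# Subsheaves of sections supported over a set of points, and filtered unions of subsheaves
(helper1, CP1): towards S0171
-/

set_option autoImplicit false
set_option linter.unusedSectionVars false
set_option linter.style.haveILetI false

open CategoryTheory CategoryTheory.Limits AlgebraicGeometry Opposite

namespace Groth.Agent.Helper1.CP

universe u

open Groth.Agent.Helper1.ES Groth.Agent.Helper1.ELR Groth.Agent.Helper1.FP

section Supp

variable {X : Scheme.{u}} (G : EtCoh.Ab X)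

/-- sections supported over a set of points of `X` -/
def suppSub (S : Set X) : EZ.LocSub G where
  A W :=
    { carrier := {s | EtShriek.sectSupp G W s ⊆ (homX W).base ⁻¹' S}
      zero_mem' := by
        show EtShriek.sectSupp G W 0 ⊆ _
        rw [sectSupp_zero]
        exact Set.empty_subset _
      add_mem' := by
        intro a b ha hb
        exact (sectSupp_add_subset G W a b).trans (Set.union_subset ha hb)
      neg_mem' := by
        intro a ha
        show EtShriek.sectSupp G W (-a) ⊆ _
        rw [sectSupp_neg]
        exact ha }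
  res := by
    intro W W' k g hg
    show EtShriek.sectSupp G W' (G.obj.map k.op g) ⊆ _
    rw [sectSupp_map]
    intro w hw
    have h1 : (homX W).base (k.left.base w) ∈ S := hg hw
    have h2 : k.left ≫ homX W = homX W' := MorphismProperty.Over.w k
    have h3 : (homX W').base w = (homX W).base (k.left.base w) :=
      congrArg (fun m => m.base w) h2.symm
    show (homX W').base w ∈ S
    rw [h3]
    exact h1
  loc := by
    intro W g R hR h w hw
    obtain ⟨W', k, w', hk, hw'⟩ := pointwise_of_mem W R hR w
    have h1 : EtShriek.sectSupp G W' (G.obj.map k.op g) ⊆ (homX W').base ⁻¹' S := h W' k hk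
    have h2 : w' ∈ EtShriek.sectSupp G W' (G.obj.map k.op g) := by
      rw [sectSupp_map]
      show k.left.base w' ∈ EtShriek.sectSupp G W g
      rw [hw']
      exact hw
    have h3 : (homX W').base w' ∈ S := h1 h2
    have h4 : k.left ≫ homX W = homX W' := MorphismProperty.Over.w k
    have h5 : (homX W').base w' = (homX W).base (k.left.base w') :=
      congrArg (fun m => m.base w') h4.symm
    show (homX W).base w ∈ S
    rw [← hw', ← h5]
    exact h3

theorem mem_suppSub_iff (S : Set X) (W : X.Etale) (s : EtCoh.sect G W) :
    s ∈ (suppSub G S).A W ↔ EtShriek.sectSupp G W s ⊆ (homX W).base ⁻¹' S := Iff.rfl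

/-- the subsheaf of sections supported over `S` -/
noncomputable abbrev suppSheaf (S : Set X) : EtCoh.Ab X := (suppSub G S).sheaf

/-- the inclusion of the subsheaf of sections supported over `S` -/
noncomputable abbrev suppι (S : Set X) : suppSheaf G S ⟶ G := (suppSub G S).ι

theorem suppι_app (S : Set X) (W : X.Etale) (s : EtCoh.sect (suppSheaf G S) W) :
    (suppι G S).hom.app (op W) s = (show ↥((suppSub G S).A W) from s).1 := rfl

instance mono_suppι (S : Set X) : Mono (suppι G S) := by
  apply mono_of_injective_app
  intro U a b hab
  exact Subtype.ext hab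

/-- the inclusion between the subsheaves attached to `S ⊆ S'` -/
noncomputable def suppIncl {S S' : Set X} (h : S ⊆ S') : suppSheaf G S ⟶ suppSheaf G S' :=
  ⟨{ app := fun W => AddCommGrpCat.ofHom
      (AddSubgroup.inclusion (H := (suppSub G S).A W.unop) (K := (suppSub G S').A W.unop)
        (fun s hs => Set.Subset.trans hs (Set.preimage_mono h)))
     naturality := by
      intro W W' k
      ext ⟨s, hs⟩
      rfl }⟩

theorem suppIncl_ι {S S' : Set X} (h : S ⊆ S') : suppIncl G h ≫ suppι G S' = suppι G S := by
  apply Sheaf.hom_ext
  ext W ⟨s, hs⟩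
  rfl

/-- finite sets of closed points -/
structure FinClosed (X : Scheme.{u}) : Type u where
  val : Set X
  property : val.Finite ∧ ∀ x ∈ val, IsClosed ({x} : Set X)

instance : Preorder (FinClosed X) := Preorder.lift FinClosed.val

instance : IsDirected (FinClosed X) (· ≤ ·) :=
  ⟨fun a b => ⟨⟨a.1 ∪ b.1, a.2.1.union b.2.1, by
    rintro x (h | h)
    · exact a.2.2 x h
    · exact b.2.2 x h⟩, Set.subset_union_left, Set.subset_union_right⟩⟩

instance : Nonempty (FinClosed X) :=
  ⟨⟨∅, Set.finite_empty, fun x hx => (Set.notMem_empty x hx).elim⟩⟩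

instance : IsFiltered (FinClosed X) := isFiltered_of_directed_le_nonempty _

/-- the directed system of the subsheaves of sections supported over finite sets of closed
points -/
noncomputable def suppFunctor : FinClosed X ⥤ EtCoh.Ab X where
  obj S := suppSheaf G S.1
  map {S S'} h := suppIncl G (leOfHom h)
  map_id S := by
    rw [← cancel_mono (suppι G S.1), suppIncl_ι, Category.id_comp]
  map_comp {S S' S''} h h' := by
    rw [← cancel_mono (suppι G S''.1), Category.assoc, suppIncl_ι, suppIncl_ι, suppIncl_ι]

/-- the cocone of inclusions -/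
noncomputable def suppCocone : Cocone (suppFunctor G) where
  pt := G
  ι :=
    { app := fun S => suppι G S.1
      naturality := by
        intro S S' h
        exact (suppIncl_ι G (leOfHom h)).trans (Category.comp_id _).symm }

end Supp

section Union

variable {X : Scheme.{u}}

/-- a filtered cocone of monomorphisms of abelian étale sheaves which is locally jointly
surjective is a colimit cocone -/
theorem nonempty_isColimit_of_mono {J : Type u} [SmallCategory J] [IsFiltered J]
    (D : J ⥤ EtCoh.Ab X) (c : Cocone D) (hmono : ∀ j, Mono (c.ι.app j))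
    (hsurj : ∀ (W : X.Etale) (s : EtCoh.sect c.pt W) (w : W.left),
      ∃ (W' : X.Etale) (k : W' ⟶ W) (w' : W'.left) (j : J) (t : EtCoh.sect (D.obj j) W'),
        k.left.base w' = w ∧ (c.ι.app j).hom.app (op W') t = c.pt.obj.map k.op s) :
    Nonempty (IsColimit c) := by
  haveI : AB5OfSize.{u, u} (EtCoh.Ab X) := AB5OfSize_shrink.{u, u, u + 1, u + 1} (EtCoh.Ab X)
  haveI : HasExactColimitsOfShape J (EtCoh.Ab X) := AB5OfSize.ofShape J
  haveI := IsFiltered.isConnected J
  haveI : ∀ j, Mono (c.ι.app j) := hmono
  haveI : Mono c.ι := NatTrans.mono_of_mono_app c.ι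
  let φ : colimit D ⟶ c.pt := colimit.desc D c
  haveI hm : Mono φ := by
    refine colim.map_mono' c.ι (colimit.isColimit D) (isColimitConstCocone J c.pt) φ ?_
    intro j
    exact (colimit.ι_desc c j).trans (Category.comp_id _).symm
  haveI he : Epi φ := by
    haveI : Sheaf.IsLocallySurjective φ := by
      constructor
      intro W s
      apply SHC.mem_of_pointwise
      intro w
      obtain ⟨W', k, w', j, t, hw', ht⟩ := hsurj W s w
      refine ⟨W', k, w', ⟨(colimit.ι D j).hom.app (op W') t, ?_⟩, hw'⟩
      have h1 : colimit.ι D j ≫ φ = c.ι.app j := colimit.ι_desc c j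
      have h2 := congrArg (fun m => m.hom.app (op W') t) h1
      exact h2.trans ht
    exact Sheaf.epi_of_isLocallySurjective φ
  haveI : IsIso φ := isIso_of_mono_of_epi φ
  haveI : IsIso ((colimit.isColimit D).desc c) := ‹IsIso φ›
  exact ⟨IsColimit.ofPointIso (colimit.isColimit D)⟩

end Union

end Groth.Agent.Helper1.CP
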