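import Mathlib
import Groth.Agent.Lib.Helper1.SZ1

/-!
# Zariski-local sections of étale morphisms through a given point
(at points with strictly henselian local ring; general base)
-/

universe u
set_option linter.unusedSectionVars false
set_option linter.style.haveILetI false
open CategoryTheory CategoryTheory.Limits AlgebraicGeometry TopologicalSpace Opposite

namespace Groth.Agent.Helper1.DS

/-- transfer of the henselian property along a ring isomorphism -/
theorem henselianLocalRing_of_ringEquiv {R R' : Type*} [CommRing R] [CommRing R']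
    [HenselianLocalRing R] (e : R ≃+* R') : HenselianLocalRing R' := by
  haveI : IsLocalRing R' := e.isLocalRing
  let φ : R' →+* R := e.symm.toRingHom
  have hφ : ∀ x, φ x = e.symm x := fun _ => rfl
  have hunit : ∀ x : R', IsUnit (φ x) ↔ IsUnit x := by
    intro x
    constructor
    · intro h
      have := h.map e
      rwa [hφ, e.apply_symm_apply] at this
    · intro h
      exact h.map φ
  have hmem : ∀ x : R', x ∈ IsLocalRing.maximalIdeal R' ↔ φ x ∈ IsLocalRing.maximalIdeal R := by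
    intro x
    rw [IsLocalRing.mem_maximalIdeal, IsLocalRing.mem_maximalIdeal, mem_nonunits_iff,
      mem_nonunits_iff]
    exact not_congr (hunit x).symm
  refine ⟨fun f hf a₀ h1 h2 => ?_⟩
  have key := HenselianLocalRing.is_henselian (f.map φ) (hf.map _) (φ a₀)
    (by rw [Polynomial.eval_map_apply]; exact (hmem _).1 h1)
    (by rw [Polynomial.derivative_map, Polynomial.eval_map_apply]; exact h2.map φ)
  obtain ⟨a, ha1, ha2⟩ := key
  refine ⟨e a, ?_, ?_⟩
  · show Polynomial.eval (e a) f = 0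
    have h3 : Polynomial.eval (φ (e a)) (f.map φ) = φ (Polynomial.eval (e a) f) :=
      Polynomial.eval_map_apply _ _
    have h3' : φ (e a) = a := e.symm_apply_apply a
    rw [h3'] at h3
    have h4 : φ (Polynomial.eval (e a) f) = 0 := h3.symm.trans ha1
    have h5 : e (φ (Polynomial.eval (e a) f)) = Polynomial.eval (e a) f := e.apply_symm_apply _
    rw [← h5, h4, map_zero]
  · rw [hmem, map_sub]
    have h3' : φ (e a) = a := e.symm_apply_apply a
    rw [h3']
    exact ha2

/-- transfer of separable closedness along a ring isomorphism -/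
theorem isSepClosed_of_ringEquiv {K K' : Type*} [Field K] [Field K'] [IsSepClosed K]
    (e : K ≃+* K') : IsSepClosed K' := by
  refine ⟨fun p hp => ?_⟩
  have h1 : (p.map e.symm.toRingHom).Splits := IsSepClosed.splits_of_separable _ hp.map
  have h2 := h1.map e.toRingHom
  rw [Polynomial.map_map] at h2
  have h3 : e.toRingHom.comp e.symm.toRingHom = RingHom.id K' := by
    ext x
    exact e.apply_symm_apply x
  rw [h3, Polynomial.map_id] at h2
  exact h2

/-- the affine version, with a section through the given point -/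
theorem exists_zariski_section_through {S U : Scheme.{u}} [IsAffine S] (j : U ⟶ S) [Etale j]
    (u : U) (s : S) (hs : j.base u = s) [HenselianLocalRing (S.presheaf.stalk s)]
    [IsSepClosed (IsLocalRing.ResidueField (S.presheaf.stalk s))] :
    ∃ (V : S.Opens) (σ : V.toScheme ⟶ U) (hsV : s ∈ V),
      σ ≫ j = V.ι ∧ σ.base ⟨s, hsV⟩ = u := by
  classical
  -- Step 1: a section over `Spec (S.presheaf.stalk s)`
  obtain ⟨p, hp1, hp2⟩ := Scheme.Pullback.exists_preimage_pullback (f := j)
    (g := S.fromSpecStalk s) u (IsLocalRing.closedPoint (S.presheaf.stalk s))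
    (by rw [Scheme.fromSpecStalk_closedPoint]; exact hs)
  have key := @Groth.Agent.Helper26.EtSecPt.exists_section_through (S.presheaf.stalk s) _ _ _
  obtain ⟨τ, hτ1, hτ2⟩ := key
    (pullback j (S.fromSpecStalk s)) (pullback.snd j (S.fromSpecStalk s)) p hp2
  let ρ : Spec (S.presheaf.stalk s) ⟶ U := τ ≫ pullback.fst j (S.fromSpecStalk s)
  have hρj : ρ ≫ j = S.fromSpecStalk s := by
    show (τ ≫ pullback.fst j (S.fromSpecStalk s)) ≫ j = _
    rw [Category.assoc, pullback.condition, ← Category.assoc]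
    exact (congrArg (fun z => z ≫ S.fromSpecStalk s) hτ1).trans (Category.id_comp _)
  have hρu : ρ.base (IsLocalRing.closedPoint (S.presheaf.stalk s)) = u := by
    show (τ ≫ pullback.fst j (S.fromSpecStalk s)).base
      (IsLocalRing.closedPoint (S.presheaf.stalk s)) = u
    rw [Scheme.Hom.comp_base, TopCat.comp_app, hτ2, hp1]
  -- Step 2: affine opens
  obtain ⟨U', hU', huU'⟩ : ∃ U' : U.Opens, IsAffineOpen U' ∧ u ∈ U' := by
    obtain ⟨_, ⟨U', hU', rfl⟩, huU', -⟩ :=
      U.isBasis_affineOpens.exists_subset_of_mem_open (Set.mem_univ u) isOpen_univ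
    exact ⟨U', hU', huU'⟩
  have htop : IsAffineOpen (⊤ : S.Opens) := isAffineOpen_top S
  have e : U' ≤ j ⁻¹ᵁ ⊤ := by simp
  let φ : Γ(S, ⊤) ⟶ Γ(U, U') := j.appLE ⊤ U' e
  have hφ : φ.hom.FinitePresentation :=
    (HasRingHomProperty.appLE (P := @Etale) j inferInstance ⟨⊤, htop⟩ ⟨U', hU'⟩ e).finitePresentation
  -- Step 3: `ρ` factors through `U'`
  have hrange : Set.range ρ.base ⊆ Set.range U'.ι.base :=
    SZ.range_subset_of_closedPoint_mem ρ U' (by rw [hρu]; exact huU')
  let ρ' : Spec (S.presheaf.stalk s) ⟶ U'.toScheme := IsOpenImmersion.lift U'.ι ρ hrange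
  have hρ' : ρ' ≫ U'.ι = ρ := IsOpenImmersion.lift_fac _ _ _
  let β : Γ(U, U') ⟶ (S.presheaf.stalk s) := Spec.preimage (ρ' ≫ hU'.isoSpec.hom)
  have hβ : Spec.map β = ρ' ≫ hU'.isoSpec.hom := Spec.map_preimage _
  have hβ2 : Spec.map β ≫ hU'.fromSpec = ρ := by
    rw [hβ, ← hU'.isoSpec_inv_ι, Category.assoc, Iso.hom_inv_id_assoc, hρ']
  -- Step 4: compatibility with the germ map
  let γ : Γ(S, ⊤) ⟶ (S.presheaf.stalk s) := S.presheaf.germ ⊤ s trivial
  have hγ : φ ≫ β = γ := by
    apply Spec.map_injective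
    rw [← cancel_mono htop.fromSpec, Spec.map_comp, Category.assoc,
      IsAffineOpen.SpecMap_appLE_fromSpec j htop hU' e, ← Category.assoc, hβ2, hρj]
    exact (htop.fromSpecStalk_eq_fromSpecStalk (x := s) trivial).symm
  -- Step 5: the finite presentation argument
  let F : (OpenNhds s)ᵒᵖ ⥤ CommRingCat.{u} := (OpenNhds.inclusion s).op ⋙ S.presheaf
  let α : (Functor.const (OpenNhds s)ᵒᵖ).obj Γ(S, ⊤) ⟶ F :=
    { app := fun i => S.presheaf.map (homOfLE (le_top : i.unop.1 ≤ ⊤)).op
      naturality := fun i k f => by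
        simp only [Functor.const_obj_obj, Functor.const_obj_map, Category.id_comp]
        refine Eq.trans ?_ (S.presheaf.map_comp _ _)
        exact congrArg S.presheaf.map (Quiver.Hom.unop_inj (Subsingleton.elim _ _)) }
  have hg : ∀ i : (OpenNhds s)ᵒᵖ, φ ≫ β = α.app i ≫ (colimit.cocone F).ι.app i := by
    intro i
    rw [hγ]
    exact (S.presheaf.germ_res (homOfLE (le_top : i.unop.1 ≤ ⊤)) s i.unop.2).symm
  obtain ⟨i, g', hg'1, hg'2⟩ := RingHom.EssFiniteType.exists_eq_comp_ι_app_of_isColimit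
    Γ(S, ⊤) F α φ (colimit.cocone F) (colimit.isColimit F) hφ β hg
  -- Step 6: the section
  let V : S.Opens := i.unop.1
  have hsV : s ∈ V := i.unop.2
  let ψ : Γ(U, U') ⟶ Γ(V.toScheme, ⊤) := g' ≫ V.topIso.inv
  have hψ : φ ≫ ψ = V.ι.appTop := by
    show φ ≫ g' ≫ V.topIso.inv = _
    rw [← Category.assoc, hg'1, Scheme.Opens.ι_appTop]
    show S.presheaf.map _ ≫ S.presheaf.map _ = _
    rw [← S.presheaf.map_comp]
    rfl
  let σ : V.toScheme ⟶ U := V.toScheme.toSpecΓ ≫ Spec.map ψ ≫ hU'.fromSpec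
  have hσj : σ ≫ j = V.ι := by
    show (V.toScheme.toSpecΓ ≫ Spec.map ψ ≫ hU'.fromSpec) ≫ j = V.ι
    rw [Category.assoc, Category.assoc, ← IsAffineOpen.SpecMap_appLE_fromSpec j htop hU' e,
      ← Category.assoc (Spec.map ψ), ← Spec.map_comp, hψ, IsAffineOpen.fromSpec_top,
      ← Category.assoc, ← Scheme.toSpecΓ_naturality, Category.assoc, ← Scheme.isoSpec_hom,
      Iso.hom_inv_id, Category.comp_id]
  refine ⟨V, σ, hsV, hσj, ?_⟩
  -- Step 7: the section passes through `u`
  have hgerm : g' ≫ S.presheaf.germ V s hsV = β := hg'2.symm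
  have h2 : V.toScheme.toSpecΓ ≫ Spec.map ψ = V.toSpecΓ ≫ Spec.map g' := by
    show V.toScheme.toSpecΓ ≫ Spec.map (g' ≫ V.topIso.inv) =
      (V.toScheme.toSpecΓ ≫ Spec.map V.topIso.inv) ≫ Spec.map g'
    rw [Spec.map_comp, Category.assoc]
    rfl
  have h1 : V.fromSpecStalkOfMem s hsV ≫ σ = ρ := by
    calc V.fromSpecStalkOfMem s hsV ≫ σ
        = V.fromSpecStalkOfMem s hsV ≫ ((V.toScheme.toSpecΓ ≫ Spec.map ψ) ≫ hU'.fromSpec) := by
          show _ ≫ (V.toScheme.toSpecΓ ≫ Spec.map ψ ≫ hU'.fromSpec) = _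
          rw [Category.assoc]
      _ = (V.fromSpecStalkOfMem s hsV ≫ V.toSpecΓ) ≫ Spec.map g' ≫ hU'.fromSpec := by
          rw [h2, Category.assoc, Category.assoc]
      _ = Spec.map (S.presheaf.germ V s hsV) ≫ Spec.map g' ≫ hU'.fromSpec := by
          rw [Scheme.Opens.fromSpecStalkOfMem_toSpecΓ]
      _ = Spec.map β ≫ hU'.fromSpec :=
          (Category.assoc _ _ _).symm.trans (congrArg (fun z => z ≫ hU'.fromSpec)
            ((Spec.map_comp _ _).symm.trans (congrArg Spec.map hgerm)))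
      _ = ρ := hβ2
  have h3 : (V.fromSpecStalkOfMem s hsV).base (IsLocalRing.closedPoint (S.presheaf.stalk s)) =
      ⟨s, hsV⟩ := by
    apply V.ι.isOpenEmbedding.injective
    have h4 : (V.fromSpecStalkOfMem s hsV ≫ V.ι).base
        (IsLocalRing.closedPoint (S.presheaf.stalk s)) = s := by
      rw [Scheme.Opens.fromSpecStalkOfMem_ι]
      exact Scheme.fromSpecStalk_closedPoint
    exact h4
  have h5 : (V.fromSpecStalkOfMem s hsV ≫ σ).base
      (IsLocalRing.closedPoint (S.presheaf.stalk s)) = u := by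
    rw [h1]
    exact hρu
  rw [Scheme.Hom.comp_base, TopCat.comp_app, h3] at h5
  exact h5

/-- the general version -/
theorem exists_section_through_general {S T : Scheme.{u}} (j : T ⟶ S) [Etale j] (t : T)
    [HenselianLocalRing (S.presheaf.stalk (j.base t))]
    [IsSepClosed (IsLocalRing.ResidueField (S.presheaf.stalk (j.base t)))] :
    ∃ (V : S.Opens) (σ : V.toScheme ⟶ T) (v : V.toScheme), σ ≫ j = V.ι ∧ σ.base v = t := by
  obtain ⟨W, hW, hsW⟩ : ∃ W : S.Opens, IsAffineOpen W ∧ j.base t ∈ W := by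
    obtain ⟨_, ⟨W, hW, rfl⟩, hsW, -⟩ :=
      S.isBasis_affineOpens.exists_subset_of_mem_open (Set.mem_univ (j.base t)) isOpen_univ
    exact ⟨W, hW, hsW⟩
  let T' : T.Opens := j ⁻¹ᵁ W
  let j' : T'.toScheme ⟶ W.toScheme := j ∣_ W
  haveI : IsAffine W.toScheme := hW
  haveI : Etale j' := inferInstanceAs (Etale (j ∣_ W))
  let t' : T'.toScheme := ⟨t, hsW⟩
  let s' : W.toScheme := ⟨j.base t, hsW⟩
  have hts : j'.base t' = s' := Subtype.ext (morphismRestrict_base_coe j W t')
  let e : W.toScheme.presheaf.stalk s' ≃+* S.presheaf.stalk (j.base t) :=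
    (W.stalkIso s').commRingCatIsoToRingEquiv
  haveI : HenselianLocalRing (W.toScheme.presheaf.stalk s') :=
    henselianLocalRing_of_ringEquiv e.symm
  haveI : IsSepClosed (IsLocalRing.ResidueField (W.toScheme.presheaf.stalk s')) :=
    isSepClosed_of_ringEquiv (IsLocalRing.ResidueField.mapEquiv e.symm)
  obtain ⟨V', σ', hsV', hσ', hpt⟩ := exists_zariski_section_through j' t' s' hts
  let V : S.Opens := W.ι ''ᵁ V'
  let ι' : V'.toScheme ≅ V.toScheme := W.ι.isoImage V'
  have hι' : ι'.hom ≫ V.ι = V'.ι ≫ W.ι := Scheme.Hom.isoImage_hom_ι W.ι V'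
  have h1 : T'.ι ≫ j = j' ≫ W.ι := (morphismRestrict_ι j W).symm
  refine ⟨V, ι'.inv ≫ σ' ≫ T'.ι, ι'.hom.base ⟨s', hsV'⟩, ?_, ?_⟩
  · rw [Category.assoc, Category.assoc, h1, ← Category.assoc σ', hσ', ← hι',
      Iso.inv_hom_id_assoc]
  · have h2 : (ι'.hom ≫ ι'.inv ≫ σ' ≫ T'.ι).base ⟨s', hsV'⟩ = t := by
      rw [Iso.hom_inv_id_assoc, Scheme.Hom.comp_base, TopCat.comp_app, hpt]
      rfl
    rw [Scheme.Hom.comp_base, TopCat.comp_app] at h2
    exact h2

end Groth.Agent.Helper1.DS
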