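import Mathlib
import Groth.Prelude.Def_EtShriek2
import Groth.Prelude.Def_EtLim
import Groth.Agent.Lib.Helper1.CP1
import Groth.Agent.Lib.Helper1.DS1
import Groth.Agent.S14451
import Groth.Agent.S0071
import Groth.Agent.S0073
import Groth.Agent.S0101
import Groth.Agent.S0068

/-!
# Vanishing of the cohomology of sheaves concentrated at a closed point of a scheme locally of
finite type over a separably closed field (helper1, CP2): towards S0171
-/

set_option autoImplicit false
set_option linter.unusedSectionVars false
set_option linter.style.haveILetI false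

open CategoryTheory CategoryTheory.Limits AlgebraicGeometry Opposite

namespace Groth.Agent.Helper1.CP

universe w v u

section Abstract

variable {C : Type u} [Category.{v} C] [Abelian C] [HasExt.{w} C]

open Abelian

/-- the middle term of a short exact sequence has vanishing `Ext` if the outer terms do -/
theorem ext_subsingleton_of_shortExact {T : C} {S : ShortComplex C} (hS : S.ShortExact) (n : ℕ)
    (h1 : Subsingleton (Ext T S.X₁ n)) (h3 : Subsingleton (Ext T S.X₃ n)) :
    Subsingleton (Ext T S.X₂ n) := by
  refine subsingleton_of_forall_eq 0 fun ξ => ?_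
  have hξ' : ξ.comp (Ext.mk₀ S.g) (add_zero n) = 0 := Subsingleton.elim _ _
  obtain ⟨x₁, hx₁⟩ := Ext.covariant_sequence_exact₂ T hS ξ hξ'
  rw [← hx₁, Subsingleton.elim x₁ 0, Ext.zero_comp]

end Abstract

section Sheaf

variable {X : Scheme.{u}}

theorem H_subsingleton_of_shortExact {S : ShortComplex (EtCoh.Ab X)} (hS : S.ShortExact) (q : ℕ)
    (h1 : Subsingleton (EtCoh.H X S.X₁ q)) (h3 : Subsingleton (EtCoh.H X S.X₃ q)) :
    Subsingleton (EtCoh.H X S.X₂ q) :=
  ext_subsingleton_of_shortExact hS q h1 h3

theorem H_subsingleton_of_iso {G G' : EtCoh.Ab X} (e : G ≅ G') (q : ℕ)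
    (h : Subsingleton (EtCoh.H X G q)) : Subsingleton (EtCoh.H X G' q) := by
  haveI : Subsingleton ((EtCoh.HF X q).obj G) := h
  have hinj := ((EtCoh.HF X q).mapIso e.symm).addCommGroupIsoToAddEquiv.injective
  exact hinj.subsingleton

theorem H_subsingleton_of_isZero {G : EtCoh.Ab X} (hG : IsZero G) (q : ℕ) :
    Subsingleton (EtCoh.H X G q) :=
  Sheaf.subsingleton_H_of_isZero hG q

end Sheaf

section Point

/-- the residue field of a field, as a local ring, is separably closed if the field is -/
theorem isSepClosed_residueField (K : Type u) [Field K] [IsSepClosed K] :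
    IsSepClosed (IsLocalRing.ResidueField K) := by
  have hb : Function.Bijective (IsLocalRing.residue K) :=
    ⟨(IsLocalRing.residue K).injective, Ideal.Quotient.mk_surjective⟩
  exact DS.isSepClosed_of_ringEquiv (RingEquiv.ofBijective _ hb)

variable {K : Type u} [Field K] [IsSepClosed K] {X : Scheme.{u}}
  (a : X ⟶ Spec (CommRingCat.of K)) [LocallyOfFiniteType a]

include a

/-- the residue field of a closed point of a scheme locally of finite type over a separably
closed field is separably closed -/
theorem isSepClosed_residueField_of_isClosed (x : X) (hx : IsClosed ({x} : Set X)) :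
    IsSepClosed (X.residueField x) := by
  have hci : IsClosedImmersion (X.fromSpecResidueField x) :=
    isClosed_singleton_iff_isClosedImmersion.mp hx
  have hfin : IsFinite (X.fromSpecResidueField x ≫ a) := by
    rw [isFinite_iff_locallyOfFiniteType_of_jacobsonSpace]
    infer_instance
  let φ : CommRingCat.of K ⟶ X.residueField x :=
    Spec.preimage (X.fromSpecResidueField x ≫ a)
  have hφ : φ.hom.IsIntegral := by
    rw [← IsIntegralHom.SpecMap_iff, Spec.map_preimage]
    infer_instance
  letI : Algebra K (X.residueField x) := φ.hom.toAlgebra
  haveI : Algebra.IsIntegral K (X.residueField x) := ⟨hφ⟩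
  haveI : Algebra.IsAlgebraic K (X.residueField x) := inferInstance
  exact Algebra.IsAlgebraic.isSepClosed (F := K)

/-- cohomology of a sheaf pushed forward from a closed point vanishes in positive degrees -/
theorem vanish_point (x : X) (hx : IsClosed ({x} : Set X))
    (G : EtCoh.Ab (Spec (X.residueField x))) (q : ℕ) (hq : 1 ≤ q) :
    Subsingleton (EtCoh.H X ((EtCoh.push (X.fromSpecResidueField x)).obj G) q) := by
  have hci : IsClosedImmersion (X.fromSpecResidueField x) :=
    isClosed_singleton_iff_isClosedImmersion.mp hx
  have hpl : PreservesFiniteLimits (EtCoh.pull (X.fromSpecResidueField x)) :=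
    Groth.Agent.S0101.result _
  have hbij := Groth.Agent.S14451.result (X.fromSpecResidueField x) G
    (fun p hp => Groth.Agent.S0071.result (X.fromSpecResidueField x) G p hp) q
  haveI hsc0 : IsSepClosed (X.residueField x) := isSepClosed_residueField_of_isClosed a x hx
  have hsc := isSepClosed_residueField (X.residueField x)
  have hh : @HenselianLocalRing ↑(X.residueField x) (X.residueField x).commRing :=
    Field.henselian _
  have hsub : Subsingleton (EtCoh.H (Spec (X.residueField x)) G q) :=
    @Groth.Agent.S0073.result (X.residueField x) (X.residueField x).commRing hh hsc G q hq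
  exact hbij.injective.subsingleton

/-- cohomology of a sheaf whose sections vanish away from a closed point vanishes in positive
degrees -/
theorem vanish_of_sections_away (x : X) (hx : IsClosed ({x} : Set X)) (G : EtCoh.Ab X)
    (hG : ∀ U : X.Etale, x ∉ Set.range U.hom.base → IsZero (G.obj.obj (op U)))
    (q : ℕ) (hq : 1 ≤ q) : Subsingleton (EtCoh.H X G q) := by
  have hci : IsClosedImmersion (X.fromSpecResidueField x) :=
    isClosed_singleton_iff_isClosedImmersion.mp hx
  have hess : (EtCoh.push (X.fromSpecResidueField x)).essImage G := by
    refine (Groth.Agent.S0068.result (X.fromSpecResidueField x) G).2 (fun U hdisj => hG U ?_)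
    intro hxU
    have hx2 : x ∈ Set.range (X.fromSpecResidueField x).base := by
      rw [Scheme.range_fromSpecResidueField]
      exact Set.mem_singleton x
    exact Set.disjoint_left.1 hdisj hxU hx2
  obtain ⟨G', ⟨e⟩⟩ := hess
  exact H_subsingleton_of_iso e q (vanish_point a x hx G' q hq)

end Point

end Groth.Agent.Helper1.CP
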