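import Mathlib
import Groth.Prelude.Def_EtShriek2
import Groth.Agent.Lib.Helper1.CP2
import Groth.Agent.Lib.Helper1.OI6
import Groth.Agent.Lib.Helper1.SHC9

/-!
# Vanishing of the cohomology of the subsheaf of sections supported over finitely many closed
points (helper1, CP3): towards S0171
-/

set_option autoImplicit false
set_option linter.unusedSectionVars false
set_option linter.style.haveILetI false

open CategoryTheory CategoryTheory.Limits AlgebraicGeometry Opposite

namespace Groth.Agent.Helper1.CP

universe u

open Groth.Agent.Helper1.ES Groth.Agent.Helper1.ELR Groth.Agent.Helper1.FP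

section

variable {X : Scheme.{u}} (G : EtCoh.Ab X)

theorem isZero_suppSheaf_empty : IsZero (suppSheaf G (∅ : Set X)) := by
  apply OI.isZero_of_sections
  intro W
  suffices hs : ∀ s : EtCoh.sect (suppSheaf G (∅ : Set X)) W, s = 0 by
    haveI : Subsingleton ((suppSheaf G (∅ : Set X)).obj.obj (op W)) :=
      ⟨fun a b => (hs a).trans (hs b).symm⟩
    exact AddCommGrpCat.isZero_of_subsingleton _
  intro s
  let s1 : ↥((suppSub G (∅ : Set X)).A W) := s
  have h1 : EtShriek.sectSupp G W s1.1 ⊆ (homX W).base ⁻¹' (∅ : Set X) := s1.2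
  have h2 : EtShriek.sectSupp G W s1.1 = ∅ := by
    apply Set.eq_empty_of_subset_empty
    intro w hw
    exact h1 hw
  have h3 : s1.1 = 0 := eq_zero_of_sectSupp_eq_empty G W s1.1 h2
  have h4 : s1 = 0 := Subtype.ext h3
  exact h4

end

section

variable {K : Type u} [Field K] [IsSepClosed K] {X : Scheme.{u}}
  (a : X ⟶ Spec (CommRingCat.of K)) [LocallyOfFiniteType a] (G : EtCoh.Ab X)

include a

theorem vanish_insert (x : X) (hx : IsClosed ({x} : Set X)) (S : Set X) (q : ℕ) (hq : 1 ≤ q)
    (ih : Subsingleton (EtCoh.H X (suppSheaf G S) q)) :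
    Subsingleton (EtCoh.H X (suppSheaf G (insert x S)) q) := by
  let f : suppSheaf G S ⟶ suppSheaf G (insert x S) := suppIncl G (Set.subset_insert x S)
  haveI : Mono f := mono_of_mono_fac (suppIncl_ι G (Set.subset_insert x S))
  let T : ShortComplex (EtCoh.Ab X) := ShortComplex.mk f (cokernel.π f) (cokernel.condition f)
  have hT : T.ShortExact :=
    { exact := ShortComplex.exact_of_g_is_cokernel T (cokernelIsCokernel f)
      mono_f := inferInstanceAs (Mono f)
      epi_g := inferInstanceAs (Epi (cokernel.π f)) }
  have h3 : Subsingleton (EtCoh.H X (cokernel f) q) := by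
    refine vanish_of_sections_away a x hx (cokernel f) ?_ q hq
    intro U hU
    suffices hs : ∀ c : (cokernel f).obj.obj (op U), c = 0 by
      haveI : Subsingleton ((cokernel f).obj.obj (op U)) :=
        ⟨fun a b => (hs a).trans (hs b).symm⟩
      exact AddCommGrpCat.isZero_of_subsingleton _
    intro c
    haveI hls : Sheaf.IsLocallySurjective (cokernel.π f) :=
      (Sheaf.isLocallySurjective_iff_epi' _ _).mpr inferInstance
    have hmem := Presheaf.imageSieve_mem X.smallEtaleTopology (cokernel.π f).hom (U := op U) c
    apply SHC.eq_of_equalizerSieve_mem (cokernel f) U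
    refine X.smallEtaleTopology.superset_covering ?_ hmem
    intro W k hk
    obtain ⟨t, ht⟩ := hk
    let t1 : ↥((suppSub G (insert x S)).A W) := t
    have ht1 : EtShriek.sectSupp G W t1.1 ⊆ (homX W).base ⁻¹' (insert x S) := t1.2
    have ht' : t1.1 ∈ (suppSub G S).A W := by
      intro w hw
      rcases ht1 hw with h1 | h1
      · exact (hU ⟨k.left.base w,
          (congrArg (fun m => m.base w) (MorphismProperty.Over.w k)).trans h1⟩).elim
      · exact h1
    let t' : EtCoh.sect (suppSheaf G S) W := (⟨t1.1, ht'⟩ : ↥((suppSub G S).A W))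
    have e1 : f.hom.app (op W) t' = t := rfl
    show (cokernel f).obj.map k.op c = (cokernel f).obj.map k.op 0
    rw [map_zero]
    have h0 : f ≫ cokernel.π f = 0 := cokernel.condition f
    have h2 : (cokernel.π f).hom.app (op W) (f.hom.app (op W) t') = 0 :=
      congrArg (fun m => m.hom.app (op W) t') h0
    exact ht.symm.trans ((congrArg (fun z => (cokernel.π f).hom.app (op W) z) e1.symm).trans h2)
  exact H_subsingleton_of_shortExact hT q ih h3

theorem vanish_suppSheaf (q : ℕ) (hq : 1 ≤ q) (S : Set X) (hfin : S.Finite) :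
    (∀ x ∈ S, IsClosed ({x} : Set X)) → Subsingleton (EtCoh.H X (suppSheaf G S) q) := by
  induction S, hfin using Set.Finite.induction_on with
  | empty =>
    intro _
    exact H_subsingleton_of_isZero (isZero_suppSheaf_empty G) q
  | @insert x S hxS hfin ih =>
    intro hcl
    have ih' := ih (fun y hy => hcl y (Set.mem_insert_of_mem x hy))
    have hx := hcl x (Set.mem_insert x S)
    exact vanish_insert a G x hx S q hq ih'

end

end Groth.Agent.Helper1.CP
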