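import Mathlib
import Groth.Prelude.Def_EtShriek2
import Groth.Prelude.Def_PBC
import Groth.Agent.Lib.Helper1.CP1
import Groth.Agent.Lib.Helper1.HS2
import Groth.Agent.Lib.Helper1.SHC18
import Groth.Agent.Lib.Helper1.ES4

/-!
# Sections of a sheaf supported in closed points are locally supported over finitely many closed
points (helper1, CP4): towards S0171
-/

set_option autoImplicit false
set_option linter.unusedSectionVars false
set_option linter.style.haveILetI false

open CategoryTheory CategoryTheory.Limits AlgebraicGeometry Opposite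

namespace Groth.Agent.Helper1.CP

universe u

open Groth.Agent.Helper1.ES Groth.Agent.Helper1.ELR Groth.Agent.Helper1.FP

section Top

open TopologicalSpace

/-- a closed set of closed points of a noetherian quasi-sober space is finite -/
theorem finite_of_isClosed_of_forall_isClosed_singleton {T : Type*} [TopologicalSpace T]
    [NoetherianSpace T] [QuasiSober T] {Z : Set T} (hZ : IsClosed Z)
    (h : ∀ z ∈ Z, IsClosed ({z} : Set T)) : Z.Finite := by
  obtain ⟨S, hSf, hSc, hSi, hSU⟩ := NoetherianSpace.exists_finite_set_isClosed_irreducible hZ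
  have hsub : ∀ t ∈ S, t.Finite := by
    intro t ht
    obtain ⟨η, hη⟩ := QuasiSober.sober (hSi t ht) (hSc t ht)
    have h1 : closure ({η} : Set T) = t := hη.def
    have hηt : η ∈ t := by
      rw [← h1]
      exact subset_closure (Set.mem_singleton η)
    have hηZ : η ∈ Z := by
      rw [hSU]
      exact Set.mem_sUnion.2 ⟨t, ht, hηt⟩
    rw [← h1, (h η hηZ).closure_eq]
    exact Set.finite_singleton η
  rw [hSU]
  exact Set.Finite.sUnion hSf hsub

end Top

section Sch

/-- a point of the source of a locally quasi-finite morphism lying over a closed point is closed -/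
theorem isClosed_singleton_of_lqf {P X : Scheme.{u}} (g : P ⟶ X) [LocallyQuasiFinite g] (z : P)
    (h : IsClosed ({g.base z} : Set X)) : IsClosed ({z} : Set P) := by
  rw [← closure_subset_iff_isClosed]
  intro z' hz'
  have hsp : z ⤳ z' := specializes_iff_mem_closure.2 hz'
  have hsp' : g.base z ⤳ g.base z' := hsp.map g.continuous
  have h1 : g.base z' ∈ closure ({g.base z} : Set X) := specializes_iff_mem_closure.1 hsp'
  rw [h.closure_eq] at h1
  have h2 : g.base z' = g.base z := h1
  have hd : _root_.IsDiscrete (g ⁻¹' {g.base z}) := g.isDiscrete_preimage_singleton (g.base z)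
  have h3 : z = z' := hd.eq_of_specializes hsp (Set.mem_singleton _) h2
  rw [← h3]
  exact Set.mem_singleton z

variable {X : Scheme.{u}} (F : EtCoh.Ab X)

/-- the points of the support of a section lie over the support of the sheaf -/
theorem mem_supp_of_mem_sectSupp (W : X.Etale) (s : EtCoh.sect F W) (z : W.left)
    (hz : z ∈ EtShriek.sectSupp F W s) : (homX W).base z ∈ EtPBC.supp F := by
  haveI := SHC.preservesFilteredColimits_forget.{u}
  obtain ⟨Ω, i1, i2, ξ, y, hy⟩ := SHC.exists_geom_point W z
  have hy' : (pt ξ W y).base default = z := hy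
  have e : pt ξ W y ≫ W.hom = ξ := pt_comp ξ W y
  have e1 : ξ.base default = (homX W).base z := by
    rw [← hy']
    exact congrArg (fun m => m.base default) e.symm
  refine ⟨Ω, i1, i2, ξ, ?_, ?_⟩
  · ext p
    constructor
    · rintro ⟨t, rfl⟩
      have ht : t = default := Subsingleton.elim _ _
      rw [ht]
      exact e1
    · intro hp
      refine ⟨default, ?_⟩
      exact e1.trans (Set.mem_singleton_iff.1 hp).symm
  · intro hzero
    haveI : Subsingleton (ToType ((Scheme.pointSmallEtale ξ).presheafFiber.obj F.obj)) :=
      AddCommGrpCat.subsingleton_of_isZero hzero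
    have h0 : (Φ ξ).toPresheafFiber W y F.obj s = 0 := Subsingleton.elim _ _
    have h1 := (LQ.germ_eq_zero_iff ξ F W y s).1 h0
    apply h1
    rw [hy']
    exact hz

/-- sections of a sheaf supported in closed points are locally supported over finitely many
closed points -/
theorem exists_finite_support [IsLocallyNoetherian X]
    (hF : ∀ x ∈ EtPBC.supp F, IsClosed ({x} : Set X))
    (W : X.Etale) (s : EtCoh.sect F W) (w : W.left) :
    ∃ (W' : X.Etale) (k : W' ⟶ W) (w' : W'.left) (S : FinClosed X),
      k.left.base w' = w ∧ F.obj.map k.op s ∈ (suppSub F S.val).A W' := by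
  haveI : Etale (homX W) := W.prop
  haveI : IsLocallyNoetherian W.left := LocallyOfFiniteType.isLocallyNoetherian (homX W)
  have hex : ∃ O : W.left.Opens, IsAffineOpen O ∧ w ∈ O := by
    obtain ⟨_, ⟨O, hO, rfl⟩, hwO, -⟩ :=
      W.left.isBasis_affineOpens.exists_subset_of_mem_open (Set.mem_univ w) isOpen_univ
    exact ⟨O, hO, hwO⟩
  obtain ⟨O, hO, hwO⟩ := hex
  let W' : X.Etale := openObj W O
  let k : W' ⟶ W := openObjι W O
  haveI : IsAffine O.toScheme := hO
  haveI : IsLocallyNoetherian O.toScheme := inferInstance
  haveI : IsNoetherian O.toScheme := {}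
  haveI hN : TopologicalSpace.NoetherianSpace O.toScheme := inferInstance
  let σ : EtCoh.sect F W' := F.obj.map k.op s
  let Z : Set O.toScheme := EtShriek.sectSupp F W' σ
  have hZcl : IsClosed Z := SHC.isClosed_sectSupp F W' σ
  haveI : Etale (homX W') := W'.prop
  haveI : LocallyQuasiFinite (homX W') := HS.lqf_of_etale' _
  have hZpt : ∀ z ∈ Z, IsClosed ({z} : Set O.toScheme) := by
    intro z hz
    apply isClosed_singleton_of_lqf (homX W') z
    exact hF _ (mem_supp_of_mem_sectSupp F W' σ z hz)
  have hZfin : Z.Finite := finite_of_isClosed_of_forall_isClosed_singleton hZcl hZpt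
  refine ⟨W', k, (⟨w, hwO⟩ : O), ⟨(homX W').base '' Z, hZfin.image _, ?_⟩, rfl, ?_⟩
  · rintro x ⟨z, hz, rfl⟩
    exact hF _ (mem_supp_of_mem_sectSupp F W' σ z hz)
  · show EtShriek.sectSupp F W' σ ⊆ (homX W').base ⁻¹' ((homX W').base '' Z)
    exact Set.subset_preimage_image _ _

end Sch

end Groth.Agent.Helper1.CP
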