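import Mathlib
import Groth.Prelude.Def_EtShriek2
import Groth.Prelude.Def_PBC
import Groth.Agent.Lib.Helper1.CP3
import Groth.Agent.Lib.Helper1.CP4
import Groth.Agent.S0099

/-!
# Vanishing of the cohomology of a sheaf supported in closed points, over a separably closed
field (helper1, CP5): S0171
-/

set_option autoImplicit false
set_option linter.unusedSectionVars false
set_option linter.style.haveILetI false

open CategoryTheory CategoryTheory.Limits AlgebraicGeometry Opposite

namespace Groth.Agent.Helper1.CP

universe u

attribute [-instance] Groth.Agent.Helper13.DeltaFColim.forgetPres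

theorem main0171 {K : Type u} [Field K] [IsSepClosed K] (X : Scheme.{u})
    (a : X ⟶ Spec (CommRingCat.of K)) [LocallyOfFiniteType a] [QuasiCompact a]
    (F : EtCoh.Ab X) (hF : ∀ x ∈ EtPBC.supp F, IsClosed ({x} : Set X)) (q : ℕ) (hq : 0 < q) :
    Subsingleton (EtCoh.H X F q) := by
  haveI : IsLocallyNoetherian X := LocallyOfFiniteType.isLocallyNoetherian a
  haveI : CompactSpace X := QuasiCompact.compactSpace_of_compactSpace a
  haveI : QuasiSeparatedSpace X := inferInstance
  obtain ⟨hc⟩ := nonempty_isColimit_of_mono (suppFunctor F) (suppCocone F)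
    (fun j => mono_suppι F j.val)
    (by
      intro W s w
      obtain ⟨W', k, w', S, hw', hmem⟩ := exists_finite_support F hF W s w
      exact ⟨W', k, w', S, (⟨F.obj.map k.op s, hmem⟩ : ↥((suppSub F S.val).A W')), hw', rfl⟩)
  haveI := Groth.Agent.S0099.result X q (FinClosed X)
  have hc' : IsColimit ((EtCoh.HF X q).mapCocone (suppCocone F)) := isColimitOfPreserves _ hc
  have hz : IsZero ((EtCoh.HF X q).obj F) := by
    rw [IsZero.iff_id_eq_zero]
    apply hc'.hom_ext
    intro j
    have hj : IsZero ((EtCoh.HF X q).obj (suppSheaf F j.val)) := by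
      haveI : Subsingleton ((EtCoh.HF X q).obj (suppSheaf F j.val)) :=
        vanish_suppSheaf a F q hq j.val j.property.1 j.property.2
      exact AddCommGrpCat.isZero_of_subsingleton _
    exact hj.eq_of_src _ _
  exact AddCommGrpCat.subsingleton_of_isZero hz

end Groth.Agent.Helper1.CP
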