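import Mathlib
import Groth.Prelude.Def_EtShriek2
import Groth.Prelude.Def_PBC
import Groth.Agent.Lib.Helper1.CP5

/-!
# Sheaves on a curve over a separably closed field with vanishing stalks at the maximal points
(helper1, CP6): S19483
-/

set_option autoImplicit false
set_option linter.unusedSectionVars false
set_option linter.style.haveILetI false

open CategoryTheory CategoryTheory.Limits AlgebraicGeometry Opposite

namespace Groth.Agent.Helper1.CP

universe u

open TopologicalSpace in
/-- in a T0 space of dimension at most one, a point with a proper generization is closed -/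
theorem isClosed_singleton_of_dim_le_one {T : Type*} [TopologicalSpace T] [T0Space T]
    (hdim : topologicalKrullDim T ≤ 1) (x y : T) (hyx : y ⤳ x) (hne : y ≠ x) :
    IsClosed ({x} : Set T) := by
  have h1 : ∀ z : IrreducibleCloseds T, IsMin z ∨ IsMax z := Order.krullDim_le_one_iff.1 hdim
  let b : IrreducibleCloseds T := ⟨closure {x}, isIrreducible_singleton.closure, isClosed_closure⟩
  let c : IrreducibleCloseds T := ⟨closure {y}, isIrreducible_singleton.closure, isClosed_closure⟩
  have hbc : b ≤ c := by
    show closure ({x} : Set T) ⊆ closure ({y} : Set T)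
    exact closure_minimal (Set.singleton_subset_iff.2 (specializes_iff_mem_closure.1 hyx))
      isClosed_closure
  rcases h1 b with hmin | hmax
  · rw [← closure_subset_iff_isClosed]
    intro x' hx'
    let a : IrreducibleCloseds T :=
      ⟨closure {x'}, isIrreducible_singleton.closure, isClosed_closure⟩
    have hab : a ≤ b := by
      show closure ({x'} : Set T) ⊆ closure ({x} : Set T)
      exact closure_minimal (Set.singleton_subset_iff.2 hx') isClosed_closure
    have hba : b ≤ a := hmin hab
    have hx : x ∈ closure ({x'} : Set T) := hba (subset_closure (Set.mem_singleton x))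
    have e : x' = x :=
      ((specializes_iff_mem_closure.2 hx).antisymm (specializes_iff_mem_closure.2 hx')).eq
    rw [e]
    exact Set.mem_singleton x
  · exfalso
    have hcb : c ≤ b := hmax hbc
    have hy : y ∈ closure ({x} : Set T) := hcb (subset_closure (Set.mem_singleton y))
    exact hne ((hyx.antisymm (specializes_iff_mem_closure.2 hy)).eq)

theorem main19483 (k : Type u) [Field k] [IsSepClosed k] (C : Scheme.{u})
    (f : C ⟶ Spec (CommRingCat.of k)) [LocallyOfFiniteType f] [QuasiCompact f]
    (hdim : topologicalKrullDim C ≤ 1) (F : EtCoh.Ab C)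
    (hgen : ∀ (Ω : Type u) [Field Ω] [IsSepClosed Ω] (ξ : Spec (CommRingCat.of Ω) ⟶ C),
      (∀ x ∈ Set.range ξ.base, ∀ y : C, y ⤳ x → y = x) → IsZero ((EtCoh.stalk ξ).obj F))
    (q : ℕ) (hq : 0 < q) : Subsingleton (EtCoh.H C F q) := by
  refine main0171 C f F ?_ q hq
  rintro x ⟨Ω, i1, i2, ξ, hr, hnz⟩
  by_contra hcl
  apply hnz
  apply hgen Ω ξ
  intro x' hx' y hy
  have hx'x : x' = x := hr.subset hx'
  rw [hx'x] at hy ⊢
  by_contra hne
  exact hcl (isClosed_singleton_of_dim_le_one hdim x y hy hne)

end Groth.Agent.Helper1.CP
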