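import Mathlib
import Groth.Prelude.Def_EtShriek2
import Groth.Prelude.Def_PBC
import Groth.Agent.Lib.Helper1.CP6
import Groth.Agent.Lib.Helper1.SHC6

/-!
# Morphisms of sheaves on a curve over a separably closed field which are isomorphisms at the
maximal points (helper1, CP7): S19484
-/

set_option autoImplicit false
set_option linter.unusedSectionVars false
set_option linter.style.haveILetI false

open CategoryTheory CategoryTheory.Limits AlgebraicGeometry Opposite

namespace Groth.Agent.Helper1.CP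

universe w v u

attribute [-instance] Groth.Agent.Helper13.DeltaFColim.forgetPres

section Abstract

variable {C : Type u} [Category.{v} C] [Abelian C] [HasExt.{w} C]

open Abelian

/-- postcomposition with `g` of a short exact sequence is bijective on `Ext^n` if `Ext^n` and
`Ext^{n+1}` of `X₁` vanish -/
theorem postcomp_g_bijective {T : C} {S : ShortComplex C} (hS : S.ShortExact) (n : ℕ)
    (h1 : Subsingleton (Ext T S.X₁ n)) (h2 : Subsingleton (Ext T S.X₁ (n + 1))) :
    Function.Bijective ((Ext.mk₀ S.g).postcomp T (add_zero n)) := by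
  constructor
  · rw [injective_iff_map_eq_zero]
    intro x hx
    have hx' : x.comp (Ext.mk₀ S.g) (add_zero n) = 0 := hx
    obtain ⟨x₁, hx₁⟩ := Ext.covariant_sequence_exact₂ T hS x hx'
    rw [← hx₁, Subsingleton.elim x₁ 0, Ext.zero_comp]
  · intro y
    obtain ⟨x₂, hx₂⟩ := Ext.covariant_sequence_exact₃ T hS y (rfl : n + 1 = n + 1)
      (Subsingleton.elim _ _)
    exact ⟨x₂, hx₂⟩

/-- postcomposition with `f` of a short exact sequence is bijective on `Ext^{n+1}` if `Ext^n` and
`Ext^{n+1}` of `X₃` vanish -/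
theorem postcomp_f_bijective {T : C} {S : ShortComplex C} (hS : S.ShortExact) (n : ℕ)
    (h1 : Subsingleton (Ext T S.X₃ n)) (h2 : Subsingleton (Ext T S.X₃ (n + 1))) :
    Function.Bijective ((Ext.mk₀ S.f).postcomp T (add_zero (n + 1))) := by
  constructor
  · rw [injective_iff_map_eq_zero]
    intro x hx
    have hx' : x.comp (Ext.mk₀ S.f) (add_zero (n + 1)) = 0 := hx
    obtain ⟨x₃, hx₃⟩ := Ext.covariant_sequence_exact₁ T hS x hx' (rfl : n + 1 = n + 1)
    rw [← hx₃, Subsingleton.elim x₃ 0, Ext.zero_comp]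
  · intro y
    have hy : y.comp (Ext.mk₀ S.g) (add_zero (n + 1)) = 0 := Subsingleton.elim _ _
    obtain ⟨x₁, hx₁⟩ := Ext.covariant_sequence_exact₂ T hS y hy
    exact ⟨x₁, hx₁⟩

end Abstract

section Stalk

variable {X : Scheme.{u}} {F G : EtCoh.Ab X} (φ : F ⟶ G)
  {Ω : Type u} [Field Ω] [IsSepClosed Ω] (ξ : Spec (CommRingCat.of Ω) ⟶ X)

theorem isZero_stalk_kernel (h : IsIso ((EtCoh.stalk ξ).map φ)) :
    IsZero ((EtCoh.stalk ξ).obj (kernel φ)) := by
  haveI := SHC.preservesFiniteLimits_stalk ξ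
  haveI := SHC.additive_stalk ξ
  have hmp : (EtCoh.stalk ξ).map (kernel.ι φ) ≫ (EtCoh.stalk ξ).map φ = 0 := by
    rw [← Functor.map_comp, kernel.condition, Functor.map_zero]
  haveI : Mono ((EtCoh.stalk ξ).map (kernel.ι φ) ≫ (EtCoh.stalk ξ).map φ) := mono_comp _ _
  rw [IsZero.iff_id_eq_zero,
    ← cancel_mono ((EtCoh.stalk ξ).map (kernel.ι φ) ≫ (EtCoh.stalk ξ).map φ), hmp, comp_zero,
    comp_zero]

theorem isZero_stalk_cokernel (h : IsIso ((EtCoh.stalk ξ).map φ)) :
    IsZero ((EtCoh.stalk ξ).obj (cokernel φ)) := by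
  haveI := SHC.preservesHomology_stalk ξ
  haveI := SHC.additive_stalk ξ
  haveI : PreservesFiniteColimits (EtCoh.stalk ξ) :=
    Functor.preservesFiniteColimits_of_preservesHomology _
  have hmp : (EtCoh.stalk ξ).map φ ≫ (EtCoh.stalk ξ).map (cokernel.π φ) = 0 := by
    rw [← Functor.map_comp, cokernel.condition, Functor.map_zero]
  haveI : Epi ((EtCoh.stalk ξ).map φ ≫ (EtCoh.stalk ξ).map (cokernel.π φ)) := epi_comp _ _
  rw [IsZero.iff_id_eq_zero,
    ← cancel_epi ((EtCoh.stalk ξ).map φ ≫ (EtCoh.stalk ξ).map (cokernel.π φ)), hmp, zero_comp,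
    zero_comp]

end Stalk

section Main

theorem isIso_HF_map_of_bijective {X : Scheme.{u}} {F G : EtCoh.Ab X} (φ : F ⟶ G) (q : ℕ)
    (h : Function.Bijective (Sheaf.H.map φ q)) : IsIso ((EtCoh.HF X q).map φ) :=
  (ConcreteCategory.isIso_iff_bijective ((EtCoh.HF X q).map φ)).2 h

theorem main19484 (k : Type u) [Field k] [IsSepClosed k] (C : Scheme.{u})
    (f : C ⟶ Spec (CommRingCat.of k)) [LocallyOfFiniteType f] [QuasiCompact f]
    (hdim : topologicalKrullDim C ≤ 1) (F G : EtCoh.Ab C) (φ : F ⟶ G)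
    (hgen : ∀ (Ω : Type u) [Field Ω] [IsSepClosed Ω] (ξ : Spec (CommRingCat.of Ω) ⟶ C),
      (∀ x ∈ Set.range ξ.base, ∀ y : C, y ⤳ x → y = x) → IsIso ((EtCoh.stalk ξ).map φ)) :
    (∀ q : ℕ, 1 < q → IsIso ((EtCoh.HF C q).map φ)) ∧
      (Epi φ → IsIso ((EtCoh.HF C 1).map φ)) := by
  have hK : ∀ q : ℕ, 0 < q → Subsingleton (EtCoh.H C (kernel φ) q) := fun q hq =>
    main19483 k C f hdim (kernel φ)
      (fun Ω _ _ ξ hξ => isZero_stalk_kernel φ ξ (hgen Ω ξ hξ)) q hq
  have hQ : ∀ q : ℕ, 0 < q → Subsingleton (EtCoh.H C (cokernel φ) q) := fun q hq =>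
    main19483 k C f hdim (cokernel φ)
      (fun Ω _ _ ξ hξ => isZero_stalk_cokernel φ ξ (hgen Ω ξ hξ)) q hq
  have hem : Abelian.factorThruImage φ ≫ Abelian.image.ι φ = φ := Abelian.image.fac φ
  constructor
  · intro q hq
    obtain ⟨n, rfl⟩ : ∃ n, q = n + 1 := ⟨q - 1, by omega⟩
    let S2 : ShortComplex (EtCoh.Ab C) :=
      ShortComplex.mk (Abelian.image.ι φ) (cokernel.π φ) (kernel.condition _)
    have hS2 : S2.ShortExact :=
      { exact := ShortComplex.exact_of_f_is_kernel S2 (kernelIsKernel _)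
        mono_f := inferInstanceAs (Mono (Abelian.image.ι φ))
        epi_g := inferInstanceAs (Epi (cokernel.π φ)) }
    have w1 : kernel.ι φ ≫ Abelian.factorThruImage φ = 0 := by
      rw [← cancel_mono (Abelian.image.ι φ), Category.assoc, hem, kernel.condition, zero_comp]
    let S1 : ShortComplex (EtCoh.Ab C) :=
      ShortComplex.mk (kernel.ι φ) (Abelian.factorThruImage φ) w1
    have hS1 : S1.ShortExact :=
      { exact := ShortComplex.exact_of_f_is_kernel S1
          (isKernelOfComp (Abelian.image.ι φ) φ (kernelIsKernel φ) w1 hem)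
        mono_f := inferInstanceAs (Mono (kernel.ι φ))
        epi_g := inferInstanceAs (Epi (Abelian.factorThruImage φ)) }
    have b1 : Function.Bijective (Sheaf.H.map (Abelian.factorThruImage φ) (n + 1)) :=
      postcomp_g_bijective hS1 (n + 1) (hK (n + 1) (by omega)) (hK (n + 1 + 1) (by omega))
    have b2 : Function.Bijective (Sheaf.H.map (Abelian.image.ι φ) (n + 1)) :=
      postcomp_f_bijective hS2 n (hQ n (by omega)) (hQ (n + 1) (by omega))
    haveI := isIso_HF_map_of_bijective _ _ b1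
    haveI := isIso_HF_map_of_bijective _ _ b2
    have hcomp : (EtCoh.HF C (n + 1)).map φ =
        (EtCoh.HF C (n + 1)).map (Abelian.factorThruImage φ) ≫
          (EtCoh.HF C (n + 1)).map (Abelian.image.ι φ) := by
      rw [← Functor.map_comp, hem]
    rw [hcomp]
    infer_instance
  · intro hepi
    let S : ShortComplex (EtCoh.Ab C) := ShortComplex.mk (kernel.ι φ) φ (kernel.condition φ)
    have hS : S.ShortExact :=
      { exact := ShortComplex.exact_of_f_is_kernel S (kernelIsKernel φ)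
        mono_f := inferInstanceAs (Mono (kernel.ι φ))
        epi_g := hepi }
    have b : Function.Bijective (Sheaf.H.map φ 1) :=
      postcomp_g_bijective hS 1 (hK 1 (by omega)) (hK (1 + 1) (by omega))
    exact isIso_HF_map_of_bijective _ _ b

end Main

end Groth.Agent.Helper1.CP
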