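import Groth.Agent.Lib.Helper1.CSASkolem

set_option autoImplicit false
set_option linter.style.haveILetI false

/-! # The centralizer theorems for simple subalgebras of central simple algebras -/

namespace Groth.Agent.Helper1

open Module MulOpposite
open scoped TensorProduct

universe u v w

section

variable (k : Type u) [Field k] (A : Type v) [Ring A] [Algebra k A]

/-- The representation of `B ⊗ Aᵐᵒᵖ` on `A` given by `(b ⊗ op a) • x = b * x * a`. -/
noncomputable def bimodRep (B : Subalgebra k A) : B ⊗[k] Aᵐᵒᵖ →ₐ[k] Module.End k A :=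
  (AlgHom.mulLeftRight k A).comp (Algebra.TensorProduct.map B.val (AlgHom.id k Aᵐᵒᵖ))

theorem bimodRep_tmul (B : Subalgebra k A) (b : B) (a x : A) :
    bimodRep k A B (b ⊗ₜ op a) x = b * x * a := by
  simp [bimodRep, AlgHom.mulLeftRight_apply]

variable [Algebra.IsCentral k A] [IsSimpleRing A] [FiniteDimensional k A]

/-- The centralizer of a simple subalgebra of a central simple algebra is simple, and
`dim A = dim B * dim C`. -/
theorem centralizer_isSimpleRing_and_finrank (B : Subalgebra k A) [IsSimpleRing B] :
    IsSimpleRing (Subalgebra.centralizer k (B : Set A)) ∧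
      finrank k A = finrank k B * finrank k (Subalgebra.centralizer k (B : Set A)) := by
  have : IsSimpleRing (B ⊗[k] Aᵐᵒᵖ) := Groth.Agent.Helper17.isSimpleRing_tensor k B Aᵐᵒᵖ
  have : IsArtinianRing (B ⊗[k] Aᵐᵒᵖ) := IsArtinianRing.of_finite k _
  letI : Module (B ⊗[k] Aᵐᵒᵖ) A := Module.compHom A (bimodRep k A B).toRingHom
  have hsmul : ∀ (r : B ⊗[k] Aᵐᵒᵖ) (x : A), r • x = bimodRep k A B r x := fun _ _ ↦ rfl
  haveI : IsScalarTower k (B ⊗[k] Aᵐᵒᵖ) A :=
    ⟨fun c r v ↦ by rw [hsmul, hsmul, map_smul]; rfl⟩
  obtain ⟨hsimp, hdim⟩ := isSimpleRing_end_and_finrank k (B ⊗[k] Aᵐᵒᵖ) A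
  -- left multiplications by elements of the centralizer are linear
  have hcomm : ∀ c ∈ Subalgebra.centralizer k (B : Set A), ∀ (r : B ⊗[k] Aᵐᵒᵖ) (x : A),
      c * (r • x) = r • (c * x) := by
    intro c hc r x
    induction r using TensorProduct.induction_on with
    | zero => rw [hsmul, hsmul, map_zero, LinearMap.zero_apply, LinearMap.zero_apply, mul_zero]
    | tmul b a =>
      obtain ⟨a, rfl⟩ := MulOpposite.op_surjective a
      rw [hsmul, hsmul, bimodRep_tmul, bimodRep_tmul]
      have := (Subalgebra.mem_centralizer_iff k).mp hc b b.2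
      rw [← mul_assoc (b : A) c x, this, mul_assoc c, mul_assoc c, mul_assoc (b : A)]
    | add r s hr hs =>
      rw [hsmul, hsmul] at hr hs
      rw [hsmul, hsmul, map_add, LinearMap.add_apply, LinearMap.add_apply, mul_add, hr, hs]
  let Φ : Subalgebra.centralizer k (B : Set A) →ₐ[k] Module.End (B ⊗[k] Aᵐᵒᵖ) A :=
    { toFun := fun c ↦
        { toFun := fun x ↦ c * x
          map_add' := fun x y ↦ mul_add _ _ _
          map_smul' := fun r x ↦ hcomm c c.2 r x }
      map_one' := by ext x; simp
      map_mul' := fun c c' ↦ by ext x; simp [mul_assoc]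
      map_zero' := by ext x; simp
      map_add' := fun c c' ↦ by ext x; simp [add_mul]
      commutes' := fun t ↦ by
        ext x
        simp [Algebra.algebraMap_eq_smul_one] }
  have hΦ : ∀ c x, Φ c x = c * x := fun _ _ ↦ rfl
  have hΦbij : Function.Bijective Φ := by
    refine ⟨fun c c' h ↦ ?_, fun φ ↦ ?_⟩
    · have := LinearMap.congr_fun h 1
      rw [hΦ, hΦ, mul_one, mul_one] at this
      exact Subtype.ext this
    · have h1 : ∀ b : B, (b : A) * φ 1 = φ b := by
        intro b
        have := φ.map_smul (b ⊗ₜ op 1) 1
        rw [hsmul, hsmul, bimodRep_tmul, bimodRep_tmul, mul_one, mul_one, mul_one] at this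
        exact this.symm
      have h2 : ∀ a : A, φ 1 * a = φ a := by
        intro a
        have := φ.map_smul ((1 : B) ⊗ₜ op a) 1
        rw [hsmul, hsmul, bimodRep_tmul, bimodRep_tmul, OneMemClass.coe_one, one_mul, one_mul,
          one_mul] at this
        exact this.symm
      refine ⟨⟨φ 1, ?_⟩, ?_⟩
      · rw [Subalgebra.mem_centralizer_iff k]
        intro b hb
        rw [h1 ⟨b, hb⟩, h2]
      · ext x
        rw [hΦ]
        exact h2 x
  let e : Subalgebra.centralizer k (B : Set A) ≃ₐ[k] Module.End (B ⊗[k] Aᵐᵒᵖ) A :=
    AlgEquiv.ofBijective Φ hΦbij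
  refine ⟨IsSimpleRing.of_ringEquiv e.symm.toRingEquiv hsimp, ?_⟩
  have hR : finrank k (B ⊗[k] Aᵐᵒᵖ) = finrank k B * finrank k A := by
    rw [Module.finrank_tensorProduct, (MulOpposite.opLinearEquiv k).symm.finrank_eq]
  rw [← e.toLinearEquiv.finrank_eq, hR] at hdim
  have hA : 0 < finrank k A := Module.finrank_pos
  have : finrank k A * finrank k A =
      (finrank k B * finrank k (Subalgebra.centralizer k (B : Set A))) * finrank k A := by
    rw [← hdim]; ring
  exact Nat.eq_of_mul_eq_mul_right hA this

/-- **Double centralizer theorem.** -/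
theorem centralizer_centralizer_eq (B : Subalgebra k A) [IsSimpleRing B] :
    Subalgebra.centralizer k (Subalgebra.centralizer k (B : Set A) : Set A) = B := by
  obtain ⟨hC, hdim⟩ := centralizer_isSimpleRing_and_finrank k A B
  obtain ⟨-, hdim'⟩ := centralizer_isSimpleRing_and_finrank k A
    (Subalgebra.centralizer k (B : Set A))
  have hCpos : 0 < finrank k (Subalgebra.centralizer k (B : Set A)) := Module.finrank_pos
  have hfin : finrank k B =
      finrank k (Subalgebra.centralizer k (Subalgebra.centralizer k (B : Set A) : Set A)) := by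
    have : finrank k (Subalgebra.centralizer k (B : Set A)) * finrank k B =
        finrank k (Subalgebra.centralizer k (B : Set A)) *
          finrank k (Subalgebra.centralizer k (Subalgebra.centralizer k (B : Set A) : Set A)) := by
      rw [← hdim', hdim, mul_comm]
    exact Nat.eq_of_mul_eq_mul_left hCpos this
  have hle : B ≤ Subalgebra.centralizer k (Subalgebra.centralizer k (B : Set A) : Set A) :=
    Subalgebra.le_centralizer_centralizer k
  symm
  apply Subalgebra.toSubmodule_injective
  exact Submodule.eq_of_le_of_finrank_eq hle hfin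

/-- A central simple subalgebra and its centralizer decompose `A` as a tensor product. -/
theorem lift_centralizer_bijective (B : Subalgebra k A) [IsSimpleRing B] [Algebra.IsCentral k B] :
    Function.Bijective (Algebra.TensorProduct.lift B.val
      (Subalgebra.centralizer k (B : Set A)).val (fun x y => y.2 x.1 x.2)) := by
  obtain ⟨hC, hdim⟩ := centralizer_isSimpleRing_and_finrank k A B
  have h1 : IsSimpleRing (Subalgebra.centralizer k (B : Set A) ⊗[k] B) :=
    Groth.Agent.Helper17.isSimpleRing_tensor k _ B
  have h2 : IsSimpleRing (B ⊗[k] Subalgebra.centralizer k (B : Set A)) :=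
    IsSimpleRing.of_ringEquiv (Algebra.TensorProduct.comm k _ B).toRingEquiv h1
  have hinj : Function.Injective (Algebra.TensorProduct.lift B.val
      (Subalgebra.centralizer k (B : Set A)).val (fun x y => y.2 x.1 x.2)) :=
    RingHom.injective ((Algebra.TensorProduct.lift B.val
      (Subalgebra.centralizer k (B : Set A)).val (fun x y => y.2 x.1 x.2)).toRingHom)
  refine ⟨hinj, ?_⟩
  have hfin : finrank k (B ⊗[k] Subalgebra.centralizer k (B : Set A)) = finrank k A := by
    rw [Module.finrank_tensorProduct, hdim]
  exact (LinearMap.injective_iff_surjective_of_finrank_eq_finrank (f := (Algebra.TensorProduct.lift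
    B.val (Subalgebra.centralizer k (B : Set A)).val (fun x y => y.2 x.1 x.2)).toLinearMap)
    hfin).mp hinj

end

end Groth.Agent.Helper1

namespace Groth.Agent.Helper1

open Module

universe u v

/-- A maximal commutative subalgebra `L` of a central division algebra `D` has
`dim D = (dim L) ^ 2`. -/
theorem finrank_eq_sq_of_maximal_comm (k : Type u) [Field k]
    (D : Type v) [DivisionRing D] [Algebra k D] [Algebra.IsCentral k D] [FiniteDimensional k D]
    (L : Subalgebra k D) (hcomm : ∀ x ∈ L, ∀ y ∈ L, x * y = y * x)
    (hmax : ∀ L' : Subalgebra k D, (∀ x ∈ L', ∀ y ∈ L', x * y = y * x) → L ≤ L' → L' = L) :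
    finrank k D = finrank k L ^ 2 := by
  have hsimple : IsSimpleRing L := by
    apply IsSimpleRing.of_eq_bot_or_eq_top
    intro I
    rw [or_iff_not_imp_left, ← I.one_mem_iff]
    intro H
    obtain ⟨x, hx1, hx2 : x ≠ 0⟩ := SetLike.exists_of_lt (bot_lt_iff_ne_bot.mpr H : ⊥ < I)
    have hinj : Function.Injective (LinearMap.mulRight k x : L →ₗ[k] L) := by
      intro y z hyz
      simp only [LinearMap.mulRight_apply] at hyz
      have h0 : (y - z) * x = 0 := by rw [sub_mul, hyz, sub_self]
      rcases mul_eq_zero.mp h0 with h | h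
      · exact sub_eq_zero.mp h
      · exact absurd h hx2
    obtain ⟨y, hy⟩ := (LinearMap.injective_iff_surjective.mp hinj) 1
    simp only [LinearMap.mulRight_apply] at hy
    have := I.mul_mem_left y x hx1
    rwa [hy] at this
  have hC : Subalgebra.centralizer k (L : Set D) = L := by
    apply le_antisymm
    · intro c hc
      have hpair : ∀ x ∈ insert c (L : Set D), ∀ y ∈ insert c (L : Set D), x * y = y * x := by
        intro x hx y hy
        rcases hx with rfl | hx <;> rcases hy with rfl | hy
        · rfl
        · exact ((Subalgebra.mem_centralizer_iff k).mp hc y hy).symm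
        · exact (Subalgebra.mem_centralizer_iff k).mp hc x hx
        · exact hcomm x hx y hy
      have hcomm' := Algebra.isMulCommutative_adjoin k hpair
      have hL' : Algebra.adjoin k (insert c (L : Set D)) = L :=
        hmax _ (fun x hx y hy ↦ setLike_mul_comm hx hy)
          (fun x hx ↦ Algebra.subset_adjoin (Set.mem_insert_of_mem _ hx))
      have : c ∈ Algebra.adjoin k (insert c (L : Set D)) :=
        Algebra.subset_adjoin (Set.mem_insert _ _)
      rwa [hL'] at this
    · intro x hx
      rw [Subalgebra.mem_centralizer_iff]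
      intro g hg
      exact hcomm g hg x hx
  have := (centralizer_isSimpleRing_and_finrank k D L).2
  rw [hC] at this
  rw [this, sq]

end Groth.Agent.Helper1
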