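import Groth.Agent.Lib.Helper1.CSAMod
import Mathlib.LinearAlgebra.Matrix.Action

set_option autoImplicit false
set_option linter.style.haveILetI false

/-! # Column vectors as a module over the matrix ring, and uniqueness in Wedderburn's theorem -/

namespace Groth.Agent.Helper1

open Module MulOpposite Matrix

universe u v w

section

variable (k : Type u) [Field k] (D : Type v) [Ring D] [Algebra k D] (n : ℕ)

/-- Right multiplication by `d` on column vectors, as an endomorphism over the matrix ring. -/
def colEndOfOp : Dᵐᵒᵖ →ₐ[k] Module.End (Matrix (Fin n) (Fin n) D) (Fin n → D) where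
  toFun d :=
    { toFun := fun v i ↦ v i * d.unop
      map_add' := fun v w ↦ by ext i; simp [add_mul]
      map_smul' := fun M v ↦ by
        ext i
        simp [Matrix.mulVec, dotProduct, Finset.sum_mul, mul_assoc] }
  map_one' := by ext v i; simp
  map_mul' := fun d d' ↦ by ext v i; simp [mul_assoc]
  map_zero' := by ext v i; simp
  map_add' := fun d d' ↦ by ext v i; simp [mul_add]
  commutes' := fun c ↦ by
    ext v i
    simp [Algebra.algebraMap_eq_smul_one]

theorem colEndOfOp_apply (d : Dᵐᵒᵖ) (v : Fin n → D) (i : Fin n) :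
    colEndOfOp k D n d v i = v i * d.unop := rfl

theorem colEndOfOp_bijective [NeZero n] : Function.Bijective (colEndOfOp k D n) := by
  refine ⟨fun d d' h ↦ ?_, fun f ↦ ?_⟩
  · have := congrFun (LinearMap.congr_fun h (Pi.single 0 1)) 0
    rw [colEndOfOp_apply, colEndOfOp_apply, Pi.single_eq_same, one_mul, one_mul] at this
    exact MulOpposite.unop_injective this
  · refine ⟨op (f (Pi.single 0 1) 0), ?_⟩
    ext v i
    rw [colEndOfOp_apply, unop_op]
    have hv : v = (Matrix.of fun i j ↦ if j = 0 then v i else 0 : Matrix (Fin n) (Fin n) D) •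
        (Pi.single 0 1 : Fin n → D) := by
      ext i
      simp [Matrix.mulVec, dotProduct]
    conv_rhs => rw [hv, map_smul]
    simp [Matrix.mulVec, dotProduct]

end

/-- Column vectors form a simple module over the matrix ring of a division ring. -/
theorem isSimpleModule_col (D : Type v) [DivisionRing D] (n : ℕ) [NeZero n] :
    IsSimpleModule (Matrix (Fin n) (Fin n) D) (Fin n → D) := by
  rw [isSimpleModule_iff_toSpanSingleton_surjective]
  refine ⟨inferInstance, fun v hv w ↦ ?_⟩
  obtain ⟨j, hj⟩ : ∃ j, v j ≠ 0 := by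
    by_contra h
    push Not at h
    exact hv (funext h)
  refine ⟨Matrix.of fun i l ↦ if l = j then w i * (v j)⁻¹ else 0, ?_⟩
  ext i
  simp [Matrix.mulVec, dotProduct, hj]

/-- Any two simple modules over a simple artinian ring are isomorphic. -/
theorem nonempty_linearEquiv_of_isSimpleModule (R : Type v) [Ring R] [IsSimpleRing R]
    [IsArtinianRing R] (S : Type*) [AddCommGroup S] [Module R S] [IsSimpleModule R S]
    (M : Type*) [AddCommGroup M] [Module R M] [IsSimpleModule R M] : Nonempty (M ≃ₗ[R] S) := by
  have : IsSimpleModule R (⊤ : Submodule R M) := IsSimpleModule.congr Submodule.topEquiv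
  obtain ⟨e⟩ := isIsotypicOfType_of_isSimpleRing R S M ⊤
  exact ⟨Submodule.topEquiv.symm.trans e⟩

section Transport

variable (k : Type u) [Field k] {R : Type v} [Ring R] [Algebra k R] {R' : Type w} [Ring R']
  [Algebra k R'] (e : R ≃ₐ[k] R') (V : Type*) [AddCommGroup V] [Module k V] [Module R' V]
  [IsScalarTower k R' V] [Module R V] [IsScalarTower k R V]
  (h : ∀ (r : R) (x : V), r • x = e r • x)

include h in
omit [Module k V] [IsScalarTower k R' V] [IsScalarTower k R V] in
theorem isSimpleModule_of_algEquiv [IsSimpleModule R' V] : IsSimpleModule R V := by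
  rw [isSimpleModule_iff_toSpanSingleton_surjective]
  refine ⟨IsSimpleModule.nontrivial R' V, fun x hx w ↦ ?_⟩
  obtain ⟨r', hr'⟩ := (isSimpleModule_iff_toSpanSingleton_surjective.mp ‹_›).2 x hx w
  refine ⟨e.symm r', ?_⟩
  rw [LinearMap.toSpanSingleton_apply] at hr' ⊢
  rw [h, e.apply_symm_apply, hr']

/-- Endomorphisms over `R` and over `R'` agree when the actions are identified along `e`. -/
def endAlgEquivOfAlgEquiv : Module.End R V ≃ₐ[k] Module.End R' V where
  toFun f :=
    { toFun := f
      map_add' := f.map_add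
      map_smul' := fun r' x ↦ by
        have := f.map_smul (e.symm r') x
        rwa [h, h, e.apply_symm_apply] at this }
  invFun f :=
    { toFun := f
      map_add' := f.map_add
      map_smul' := fun r x ↦ by
        rw [h, h]
        exact f.map_smul (e r) x }
  left_inv f := rfl
  right_inv f := rfl
  map_mul' f g := rfl
  map_add' f g := rfl
  commutes' c := rfl

end Transport

/-- Uniqueness of the division algebra in Wedderburn's theorem. -/
theorem nonempty_algEquiv_of_matrix_algEquiv (k : Type u) [Field k]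
    (D : Type v) [DivisionRing D] [Algebra k D] [FiniteDimensional k D]
    (D' : Type w) [DivisionRing D'] [Algebra k D']
    (n m : ℕ) (hn : n ≠ 0) (hm : m ≠ 0)
    (e : Matrix (Fin n) (Fin n) D ≃ₐ[k] Matrix (Fin m) (Fin m) D') :
    Nonempty (D ≃ₐ[k] D') := by
  have : NeZero n := ⟨hn⟩
  have : NeZero m := ⟨hm⟩
  have : IsArtinianRing (Matrix (Fin n) (Fin n) D) := IsArtinianRing.of_finite k _
  have := isSimpleModule_col D n
  have := isSimpleModule_col D' m
  letI : Module (Matrix (Fin n) (Fin n) D) (Fin m → D') := Module.compHom _ e.toRingEquiv.toRingHom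
  have h : ∀ (r : Matrix (Fin n) (Fin n) D) (x : Fin m → D'), r • x = e r • x := fun _ _ ↦ rfl
  haveI : IsScalarTower k (Matrix (Fin n) (Fin n) D) (Fin m → D') :=
    ⟨fun c r x ↦ by rw [h, h, map_smul, smul_assoc]⟩
  have := isSimpleModule_of_algEquiv k e (Fin m → D') h
  obtain ⟨θ⟩ := nonempty_linearEquiv_of_isSimpleModule (Matrix (Fin n) (Fin n) D)
    (Fin m → D') (Fin n → D)
  let α : Dᵐᵒᵖ ≃ₐ[k] D'ᵐᵒᵖ :=
    (AlgEquiv.ofBijective _ (colEndOfOp_bijective k D n)).trans <|
      (θ.conjAlgEquiv k).trans <| (endAlgEquivOfAlgEquiv k e (Fin m → D') h).trans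
        (AlgEquiv.ofBijective _ (colEndOfOp_bijective k D' m)).symm
  exact ⟨AlgEquiv.op.symm α⟩

end Groth.Agent.Helper1
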