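import Mathlib.RingTheory.SimpleModule.WedderburnArtin
import Mathlib.RingTheory.SimpleModule.Isotypic
import Mathlib.LinearAlgebra.FiniteDimensional.Lemmas
import Mathlib.LinearAlgebra.Dimension.Constructions
import Mathlib.LinearAlgebra.Matrix.ToLin
import Mathlib.RingTheory.SimpleRing.Matrix
import Mathlib.RingTheory.SimpleRing.Congr
import Mathlib.Algebra.Algebra.Opposite

set_option autoImplicit false
set_option linter.style.haveILetI false

/-! # Modules over simple artinian algebras: classification by dimension -/

namespace Groth.Agent.Helper1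

open Module

universe u v w

section

variable (k : Type u) [Field k] (R : Type v) [Ring R] [Algebra k R] [IsSimpleRing R]
  [IsArtinianRing R]

/-- Over a simple artinian ring, every module is isotypic of the type of any fixed simple module. -/
theorem isIsotypicOfType_of_isSimpleRing (S : Type*) [AddCommGroup S] [Module R S]
    [IsSimpleModule R S] (M : Type*) [AddCommGroup M] [Module R M] : IsIsotypicOfType R M S := by
  intro m _
  obtain ⟨J, ⟨e⟩⟩ := IsSemisimpleRing.exists_linearEquiv_ideal_of_isSimpleModule R m
  obtain ⟨J', ⟨e'⟩⟩ := IsSemisimpleRing.exists_linearEquiv_ideal_of_isSimpleModule R S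
  have := IsSimpleModule.congr e.symm
  have := IsSimpleModule.congr e'.symm
  exact ⟨e.trans ((IsSimpleRing.isIsotypic R R J' J).some.trans e'.symm)⟩

/-- Finite modules over a simple artinian algebra are powers of a fixed simple module, and the
dimension is the obvious one. -/
theorem exists_linearEquiv_fun_and_finrank_eq (S : Type*) [AddCommGroup S] [Module R S]
    [IsSimpleModule R S] [Module k S] [IsScalarTower k R S] [Module.Finite k S]
    (M : Type*) [AddCommGroup M] [Module R M] [Module k M] [IsScalarTower k R M]
    [Module.Finite k M] :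
    ∃ n : ℕ, Nonempty (M ≃ₗ[R] Fin n → S) ∧ finrank k M = n * finrank k S := by
  have : Module.Finite R M := Module.Finite.of_restrictScalars_finite k R M
  obtain ⟨n, ⟨e⟩⟩ := (isIsotypicOfType_of_isSimpleRing R S M).linearEquiv_fun
  refine ⟨n, ⟨e⟩, ?_⟩
  rw [(e.restrictScalars k).finrank_eq, Module.finrank_pi_fintype]
  simp

/-- Two finite-dimensional modules over a simple finite-dimensional algebra with the same
dimension are isomorphic. -/
theorem nonempty_linearEquiv_of_finrank_eq [Module.Finite k R]
    (M : Type*) [AddCommGroup M] [Module R M] [Module k M] [IsScalarTower k R M]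
    [Module.Finite k M]
    (N : Type*) [AddCommGroup N] [Module R N] [Module k N] [IsScalarTower k R N]
    [Module.Finite k N] (h : finrank k M = finrank k N) : Nonempty (M ≃ₗ[R] N) := by
  obtain ⟨n, hn, S, hS, -⟩ := (IsSimpleRing.isIsotypic R R).linearEquiv_fun
  have : Module.Finite k S :=
    Module.Finite.of_injective (S.subtype.restrictScalars k) S.subtype_injective
  obtain ⟨a, ⟨eM⟩, hM⟩ := exists_linearEquiv_fun_and_finrank_eq k R S M
  obtain ⟨b, ⟨eN⟩, hN⟩ := exists_linearEquiv_fun_and_finrank_eq k R S N
  have : Nontrivial S := IsSimpleModule.nontrivial R S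
  have hpos : 0 < finrank k S := Module.finrank_pos
  have hab : a = b := by
    rw [hM, hN] at h
    exact Nat.eq_of_mul_eq_mul_right hpos h
  subst hab
  exact ⟨eM.trans eN.symm⟩

/-- Two representations of a simple finite-dimensional algebra on spaces of the same dimension
are intertwined by a linear isomorphism. -/
theorem exists_linearEquiv_intertwining [Module.Finite k R]
    (V : Type*) [AddCommGroup V] [Module k V] [Module.Finite k V]
    (W : Type*) [AddCommGroup W] [Module k W] [Module.Finite k W]
    (ρ : R →ₐ[k] Module.End k V) (σ : R →ₐ[k] Module.End k W)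
    (h : finrank k V = finrank k W) :
    ∃ θ : V ≃ₗ[k] W, ∀ r v, θ (ρ r v) = σ r (θ v) := by
  letI : Module R V := Module.compHom V ρ.toRingHom
  letI : Module R W := Module.compHom W σ.toRingHom
  have hV : ∀ (r : R) (v : V), r • v = ρ r v := fun _ _ ↦ rfl
  have hW : ∀ (r : R) (w : W), r • w = σ r w := fun _ _ ↦ rfl
  haveI : IsScalarTower k R V := ⟨fun c r v ↦ by rw [hV, hV, map_smul]; rfl⟩
  haveI : IsScalarTower k R W := ⟨fun c r v ↦ by rw [hW, hW, map_smul]; rfl⟩
  obtain ⟨e⟩ := nonempty_linearEquiv_of_finrank_eq k R V W h
  exact ⟨e.restrictScalars k, fun r v ↦ e.map_smul r v⟩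

/-- The endomorphism algebra of a finite module over a simple finite-dimensional algebra: simplicity
and dimension. -/
theorem isSimpleRing_end_and_finrank [Module.Finite k R]
    (M : Type*) [AddCommGroup M] [Module R M] [Module k M] [IsScalarTower k R M]
    [Module.Finite k M] [Nontrivial M] :
    IsSimpleRing (Module.End R M) ∧
      finrank k (Module.End R M) * finrank k R = finrank k M * finrank k M := by
  classical
  obtain ⟨n, hn, S, hS, ⟨eR⟩⟩ := (IsSimpleRing.isIsotypic R R).linearEquiv_fun
  have : Module.Finite k S :=
    Module.Finite.of_injective (S.subtype.restrictScalars k) S.subtype_injective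
  obtain ⟨m, ⟨eM⟩, hM⟩ := exists_linearEquiv_fun_and_finrank_eq k R S M
  have : Nontrivial S := IsSimpleModule.nontrivial R S
  have hs : 0 < finrank k S := Module.finrank_pos
  have hm : m ≠ 0 := by
    rintro rfl
    have : 0 < finrank k M := Module.finrank_pos
    omega
  have : NeZero m := ⟨hm⟩
  -- endomorphism algebras
  let αM : Module.End R M ≃ₐ[k] Matrix (Fin m) (Fin m) (Module.End R S) :=
    (eM.conjAlgEquiv k).trans (endVecAlgEquivMatrixEnd (Fin m) k R S)
  let αR : Module.End R R ≃ₐ[k] Matrix (Fin n) (Fin n) (Module.End R S) :=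
    (eR.conjAlgEquiv k).trans (endVecAlgEquivMatrixEnd (Fin n) k R S)
  have hR1 : finrank k R = n * finrank k S := by
    rw [(eR.restrictScalars k).finrank_eq, Module.finrank_pi_fintype]
    simp
  have hR2 : finrank k R = n * n * finrank k (Module.End R S) := by
    have h1 : finrank k Rᵐᵒᵖ = finrank k R := (MulOpposite.opLinearEquiv k).symm.finrank_eq
    rw [← h1, ((AlgEquiv.moduleEndSelf k).trans αR).toLinearEquiv.finrank_eq,
      Module.finrank_matrix]
    simp
  have hM2 : finrank k (Module.End R M) = m * m * finrank k (Module.End R S) := by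
    rw [αM.toLinearEquiv.finrank_eq, Module.finrank_matrix]
    simp
  refine ⟨?_, ?_⟩
  · have : IsSimpleRing (Matrix (Fin m) (Fin m) (Module.End R S)) := inferInstance
    exact IsSimpleRing.of_ringEquiv αM.symm.toRingEquiv this
  · have hn0 : 0 < n := Nat.pos_of_ne_zero hn.out
    have hS2 : finrank k S = n * finrank k (Module.End R S) := by
      have : n * finrank k S = n * (n * finrank k (Module.End R S)) := by
        rw [← hR1, hR2, mul_assoc]
      exact Nat.eq_of_mul_eq_mul_left hn0 this
    rw [hM2, hR2, hM, hS2]
    ring

end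

end Groth.Agent.Helper1
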