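import Groth.Agent.Lib.Helper1.CSAMod
import Groth.Agent.Lib.Helper17.CSA1
import Mathlib.Algebra.Azumaya.Defs

set_option autoImplicit false
set_option linter.style.haveILetI false

/-! # The Skolem–Noether theorem -/

namespace Groth.Agent.Helper1

open Module MulOpposite
open scoped TensorProduct

universe u v w

section

variable (k : Type u) [Field k] (A : Type v) [Ring A] [Algebra k A]

/-- The representation of `Bᵐᵒᵖ ⊗ A` on `A` given by `(op b ⊗ a) • x = a * x * f b`. -/
noncomputable def twistedRep {B : Type w} [Ring B] [Algebra k B] (f : B →ₐ[k] A) :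
    Bᵐᵒᵖ ⊗[k] A →ₐ[k] Module.End k A :=
  (AlgHom.mulLeftRight k A).comp
    ((Algebra.TensorProduct.map (AlgHom.id k A) (AlgHom.op f)).comp
      (Algebra.TensorProduct.comm k Bᵐᵒᵖ A).toAlgHom)

theorem twistedRep_tmul {B : Type w} [Ring B] [Algebra k B] (f : B →ₐ[k] A) (b : B) (a x : A) :
    twistedRep k A f (op b ⊗ₜ a) x = a * x * f b := by
  simp [twistedRep, AlgHom.mulLeftRight_apply]

/-- **Skolem–Noether**: two algebra maps from a simple algebra to a finite central simple algebra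
are conjugate. -/
theorem skolem_noether [Algebra.IsCentral k A] [IsSimpleRing A] [FiniteDimensional k A]
    (B : Type w) [Ring B] [Algebra k B] [IsSimpleRing B] (f g : B →ₐ[k] A) :
    ∃ x : Aˣ, ∀ b : B, f b = (x : A) * g b * (x⁻¹ : Aˣ) := by
  have hfinj : Function.Injective f := (f : B →+* A).injective
  have : FiniteDimensional k B := FiniteDimensional.of_injective f.toLinearMap hfinj
  have : IsSimpleRing (Bᵐᵒᵖ ⊗[k] A) := Groth.Agent.Helper17.isSimpleRing_tensor k Bᵐᵒᵖ A
  have : IsArtinianRing (Bᵐᵒᵖ ⊗[k] A) := IsArtinianRing.of_finite k _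
  obtain ⟨θ, hθ⟩ := exists_linearEquiv_intertwining k (Bᵐᵒᵖ ⊗[k] A) A A
    (twistedRep k A f) (twistedRep k A g) rfl
  have h1 : ∀ a : A, θ a = a * θ 1 := by
    intro a
    have := hθ (op 1 ⊗ₜ a) 1
    rwa [twistedRep_tmul, twistedRep_tmul, map_one f, map_one g, mul_one, mul_one, mul_one] at this
  have h2 : ∀ b : B, f b * θ 1 = θ 1 * g b := by
    intro b
    have := hθ (op b ⊗ₜ 1) 1
    rwa [twistedRep_tmul, twistedRep_tmul, one_mul, one_mul, one_mul, h1] at this
  obtain ⟨v, hv⟩ := θ.surjective 1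
  have hvu : v * θ 1 = 1 := by rw [← h1, hv]
  have huv : θ 1 * v = 1 := by
    apply θ.injective
    rw [h1 (θ 1 * v), mul_assoc, hvu, mul_one]
  refine ⟨⟨θ 1, v, huv, hvu⟩, fun b ↦ ?_⟩
  change f b = θ 1 * g b * v
  rw [← h2, mul_assoc, huv, mul_one]

end

end Groth.Agent.Helper1
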