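import Groth.Prelude.Def_Curves
import Groth.Agent.Lib.Helper17.BR3
import Groth.Agent.Lib.Helper17.SN2
import Mathlib.RingTheory.Finiteness.Descent
import Mathlib.Algebra.Central.Matrix

set_option autoImplicit false
set_option linter.style.haveILetI false

/-! # Splitting fields of central simple algebras -/

namespace Groth.Agent.Helper1

open Module
open scoped TensorProduct

universe u v w

section

variable (k : Type u) [Field k] (A : Type v) [Ring A] [Algebra k A]

/-- A finite central simple algebra is split by the separable closure. -/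
theorem splits_separableClosure_of_csa [Algebra.IsCentral k A] [IsSimpleRing A]
    [FiniteDimensional k A] : Curves.Splits k A (SeparableClosure k) := by
  have h1 : IsSimpleRing (SeparableClosure k ⊗[k] A) :=
    Groth.Agent.Helper17.isSimpleRing_tensor k (SeparableClosure k) A
  have h2 : Algebra.IsCentral (SeparableClosure k) (SeparableClosure k ⊗[k] A) :=
    Groth.Agent.Helper17.isCentral_baseChange k (SeparableClosure k) A
  obtain ⟨m, ⟨e⟩⟩ := Groth.Agent.Helper17.BR.exists_algEquiv_matrix_of_isSepClosed
    (SeparableClosure k) (SeparableClosure k ⊗[k] A)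
  refine ⟨m, ?_, ⟨e⟩⟩
  rintro rfl
  have : Subsingleton (SeparableClosure k ⊗[k] A) := e.toEquiv.subsingleton
  exact not_subsingleton _ this

variable {k A}

/-- An algebra split by some field extension is finite central simple. -/
theorem csa_of_splits {K : Type w} [Field K] [Algebra k K] (h : Curves.Splits k A K) :
    Algebra.IsCentral k A ∧ IsSimpleRing A ∧ FiniteDimensional k A := by
  obtain ⟨n, hn, ⟨e⟩⟩ := h
  have : NeZero n := ⟨hn⟩
  have hfinT : Module.Finite K (K ⊗[k] A) := Module.Finite.equiv e.symm.toLinearEquiv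
  have hfin : Module.Finite k A := Module.Finite.of_finite_tensorProduct_of_faithfullyFlat K
  have hsimpT : IsSimpleRing (K ⊗[k] A) :=
    IsSimpleRing.of_ringEquiv e.symm.toRingEquiv inferInstance
  have hcentT : ∀ t ∈ Subalgebra.center K (K ⊗[k] A), ∃ c : K, algebraMap K _ c = t := by
    intro t ht
    have h1 : e t ∈ Subalgebra.center K (Matrix (Fin n) (Fin n) K) := by
      rw [Subalgebra.mem_center_iff] at ht ⊢
      intro M
      have := congrArg e (ht (e.symm M))
      simpa using this
    obtain ⟨c, hc⟩ := Algebra.mem_bot.mp (Algebra.IsCentral.out h1)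
    exact ⟨c, e.injective (by rw [e.commutes, hc])⟩
  have hinj : Function.Injective (fun a : A ↦ (1 : K) ⊗ₜ[k] a) :=
    Algebra.TensorProduct.includeRight_injective (algebraMap k K).injective
  have hnt : Nontrivial A := by
    by_contra hA
    rw [not_nontrivial_iff_subsingleton] at hA
    have h10 : (1 : K ⊗[k] A) = 0 := by
      rw [Algebra.TensorProduct.one_def, Subsingleton.elim (1 : A) 0, TensorProduct.tmul_zero]
    exact one_ne_zero h10
  refine ⟨?_, ?_, hfin⟩
  · -- central
    constructor
    intro z hz
    by_contra hz'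
    obtain ⟨f, hfz, hf⟩ := Submodule.exists_le_ker_of_notMem
      (p := Subalgebra.toSubmodule (⊥ : Subalgebra k A)) hz'
    have h1 : f 1 = 0 := hf (one_mem (⊥ : Subalgebra k A))
    have hzc : (1 : K) ⊗ₜ[k] z ∈ Subalgebra.center K (K ⊗[k] A) := by
      rw [Subalgebra.mem_center_iff]
      intro t
      induction t using TensorProduct.induction_on with
      | zero => simp
      | tmul c a =>
        rw [Algebra.TensorProduct.tmul_mul_tmul, Algebra.TensorProduct.tmul_mul_tmul,
          Subalgebra.mem_center_iff.mp hz a, mul_one, one_mul]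
      | add x y hx hy => rw [add_mul, mul_add, hx, hy]
    obtain ⟨c, hc⟩ := hcentT _ hzc
    have h2 := congrArg (f.baseChange K) hc
    rw [Algebra.TensorProduct.algebraMap_apply, LinearMap.baseChange_tmul,
      LinearMap.baseChange_tmul, h1, TensorProduct.tmul_zero] at h2
    have h3 := congrArg (TensorProduct.rid k K) h2
    rw [map_zero, TensorProduct.rid_tmul] at h3
    -- `h3 : 0 = f z • 1`
    rw [Algebra.smul_def, mul_one] at h3
    exact hfz ((algebraMap k K).injective (by rw [← h3, map_zero]))
  · -- simple
    apply IsSimpleRing.of_eq_bot_or_eq_top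
    intro I
    let π : A →ₐ[k] I.ringCon.Quotient := { I.ringCon.mk' with commutes' := fun r ↦ rfl }
    have hπ : ∀ x, π x = 0 ↔ x ∈ I := fun x ↦ by
      rw [TwoSidedIdeal.mem_iff]
      exact Quotient.eq'
    let Φ : K ⊗[k] A →ₐ[K] K ⊗[k] I.ringCon.Quotient :=
      Algebra.TensorProduct.map (AlgHom.id K K) π
    rcases IsSimpleRing.injective_ringHom_or_subsingleton_codomain Φ.toRingHom with h | h
    · left
      rw [eq_bot_iff]
      intro x hx
      have h0 : Φ (1 ⊗ₜ x) = Φ 0 := by
        rw [map_zero]
        change (AlgHom.id K K) 1 ⊗ₜ[k] π x = 0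
        rw [(hπ x).mpr hx, TensorProduct.tmul_zero]
      have := hinj ((h h0).trans (TensorProduct.tmul_zero A (1 : K)).symm)
      rw [this]
      exact zero_mem _
    · right
      have hinjQ : Function.Injective (fun a : I.ringCon.Quotient ↦ (1 : K) ⊗ₜ[k] a) :=
        Algebra.TensorProduct.includeRight_injective (algebraMap k K).injective
      have h10 : (1 : I.ringCon.Quotient) = 0 := hinjQ (Subsingleton.elim _ _)
      rw [← map_one π, hπ] at h10
      rw [eq_top_iff]
      intro x _
      have := I.mul_mem_left x 1 h10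
      rwa [mul_one] at this

end

section Descent

variable {k : Type u} [Field k] {A : Type v} [Ring A] [Algebra k A] {K : Type w} [Field K]
  [Algebra k K]

/-- If a splitting isomorphism over `K` has all matrix entries of the images of `A` in an
intermediate field `F`, then `F` already splits `A`. -/
theorem splits_intermediateField {n : ℕ} (hn : n ≠ 0)
    (e : K ⊗[k] A ≃ₐ[K] Matrix (Fin n) (Fin n) K) (F : IntermediateField k K)
    (hF : ∀ (a : A) (i j : Fin n), e (1 ⊗ₜ a) i j ∈ F) : Curves.Splits k A F := by
  classical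
  have hfin : Module.Finite k A := (csa_of_splits ⟨n, hn, ⟨e⟩⟩).2.2
  let ι : Matrix (Fin n) (Fin n) F →ₐ[k] Matrix (Fin n) (Fin n) K := F.val.mapMatrix
  have hιapp : ∀ (M : Matrix (Fin n) (Fin n) F) i j, ι M i j = (M i j : K) := fun _ _ _ ↦ rfl
  have hι : Function.Injective ι := by
    intro M N h
    ext i j
    have := congrFun (congrFun h i) j
    rw [hιapp, hιapp] at this
    exact this
  let ψ : A →ₐ[k] Matrix (Fin n) (Fin n) K :=
    (e.toAlgHom.restrictScalars k).comp Algebra.TensorProduct.includeRight
  have hψ : ∀ a, ψ a = e (1 ⊗ₜ a) := fun a ↦ rfl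
  have hmem : ∀ a, ψ a ∈ ι.range := fun a ↦
    ⟨Matrix.of fun i j ↦ ⟨e (1 ⊗ₜ a) i j, hF a i j⟩, by ext i j; rfl⟩
  let ψ' : A →ₐ[k] Matrix (Fin n) (Fin n) F :=
    (AlgEquiv.ofInjective ι hι).symm.toAlgHom.comp (ψ.codRestrict ι.range hmem)
  have hψ' : ∀ a, ι (ψ' a) = ψ a := fun a ↦
    congrArg Subtype.val
      ((AlgEquiv.ofInjective ι hι).apply_symm_apply (ψ.codRestrict ι.range hmem a))
  let φ' : F ⊗[k] A →ₐ[F] Matrix (Fin n) (Fin n) F :=
    Algebra.TensorProduct.lift (Algebra.ofId F _) ψ' (fun c a ↦ Algebra.commutes c (ψ' a))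
  let j : F ⊗[k] A →ₗ[k] K ⊗[k] A := (F.val.toLinearMap).rTensor A
  have hj : Function.Injective j :=
    Module.Flat.rTensor_preserves_injective_linearMap _ F.val.injective
  have hcomp : ∀ t, ι (φ' t) = e (j t) := by
    intro t
    induction t using TensorProduct.induction_on with
    | zero => simp
    | tmul c a =>
      have h1 : φ' (c ⊗ₜ a) = c • ψ' a := by
        rw [Algebra.smul_def]
        exact Algebra.TensorProduct.lift_tmul _ _ _ c a
      have h2 : j (c ⊗ₜ a) = (c : K) • ((1 : K) ⊗ₜ[k] a) := by
        simp [j, TensorProduct.smul_tmul']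
      rw [h1, h2, map_smul e, ← hψ, ← hψ']
      ext i l
      rw [hιapp, Matrix.smul_apply, Matrix.smul_apply, hιapp]
      rfl
    | add x y hx hy => rw [map_add, map_add, hx, hy, map_add, map_add]
  have hφinj : Function.Injective φ' := by
    intro x y hxy
    apply hj
    apply e.injective
    rw [← hcomp, ← hcomp, hxy]
  have hdim : finrank F (F ⊗[k] A) = finrank F (Matrix (Fin n) (Fin n) F) := by
    have h1 : finrank K (K ⊗[k] A) = finrank k A := Module.finrank_baseChange
    rw [Module.finrank_baseChange, ← h1, e.toLinearEquiv.finrank_eq, Module.finrank_matrix,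
      Module.finrank_matrix]
    simp
  have hsurj : Function.Surjective φ' :=
    (LinearMap.injective_iff_surjective_of_finrank_eq_finrank (f := φ'.toLinearMap) hdim).mp
      hφinj
  exact ⟨n, hn, ⟨AlgEquiv.ofBijective φ' ⟨hφinj, hsurj⟩⟩⟩

end Descent

/-- A finite central simple algebra is split by a finite Galois subextension of the separable
closure. -/
theorem exists_galois_intermediateField_splits (k : Type u) [Field k] (A : Type v) [Ring A]
    [Algebra k A] [Algebra.IsCentral k A] [IsSimpleRing A] [FiniteDimensional k A] :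
    ∃ F : IntermediateField k (SeparableClosure k), FiniteDimensional k F ∧ IsGalois k F ∧
      Curves.Splits k A F := by
  classical
  obtain ⟨n, hn, ⟨e⟩⟩ := splits_separableClosure_of_csa k A
  let b := Module.finBasis k A
  let ψ : A →ₐ[k] Matrix (Fin n) (Fin n) (SeparableClosure k) :=
    (e.toAlgHom.restrictScalars k).comp Algebra.TensorProduct.includeRight
  have hψ : ∀ a, ψ a = e (1 ⊗ₜ a) := fun a ↦ rfl
  let S : Set (SeparableClosure k) :=
    Set.range fun p : Fin (finrank k A) × Fin n × Fin n ↦ ψ (b p.1) p.2.1 p.2.2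
  have hSfin : Finite S := Set.finite_range _
  have hF₀fin : FiniteDimensional k (IntermediateField.adjoin k S) :=
    IntermediateField.finiteDimensional_adjoin fun x _ ↦ Algebra.IsIntegral.isIntegral x
  have hS : ∀ (a : A) (i j : Fin n), ψ a i j ∈ IntermediateField.adjoin k S := by
    intro a i j
    let L : A →ₗ[k] SeparableClosure k :=
      (Matrix.entryLinearMap k (SeparableClosure k) i j).comp ψ.toLinearMap
    have hL : ∀ a, L a = ψ a i j := fun a ↦ rfl
    have htop : Submodule.comap L
        (Subalgebra.toSubmodule (IntermediateField.adjoin k S).toSubalgebra) = ⊤ := by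
      rw [eq_top_iff, ← b.span_eq, Submodule.span_le]
      rintro _ ⟨l, rfl⟩
      exact IntermediateField.subset_adjoin k S ⟨(l, i, j), rfl⟩
    have : a ∈ Submodule.comap L
        (Subalgebra.toSubmodule (IntermediateField.adjoin k S).toSubalgebra) := by
      rw [htop]; trivial
    exact this
  refine ⟨IntermediateField.normalClosure k (IntermediateField.adjoin k S) (SeparableClosure k),
    inferInstance, ⟨⟩, ?_⟩
  apply splits_intermediateField hn e
  intro a i j
  exact IntermediateField.le_normalClosure (IntermediateField.adjoin k S) (hS a i j)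

end Groth.Agent.Helper1
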