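import Mathlib
import Groth.Agent.Lib.Helper14.CatenaryRing
import Groth.Agent.S9126

/-!
# Catenary and universally catenary are local at maximal ideals
-/

set_option autoImplicit false
universe u v w
open Groth.Agent.Helper14 TensorProduct

namespace Groth.Agent.Helper1.CatLocal

theorem le_last {P : Type u} [PartialOrder P] (s : LTSeries P) (j : Fin (s.length + 1)) :
    s j ≤ s.last :=
  s.strictMono.monotone (Fin.le_last j)

theorem isCatPoset_of_cover_lower {P : Type u} [PartialOrder P] {ι : Type w} (Q : ι → Type v)
    [∀ i, PartialOrder (Q i)] (e : ∀ i, Q i ↪o P) (hlow : ∀ i, IsLowerSet (Set.range (e i)))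
    (hcov : ∀ p : P, ∃ i, p ∈ Set.range (e i)) (h : ∀ i, IsCatPoset (Q i)) : IsCatPoset P := by
  have hmem : ∀ (i : ι) (s : LTSeries P), s.last ∈ Set.range (e i) →
      ∀ j, s j ∈ Set.range (e i) := by
    intro i s hs j
    exact hlow i (le_last s j) hs
  constructor
  · intro p q hpq
    obtain ⟨i, q', rfl⟩ := hcov q
    obtain ⟨p', rfl⟩ := hlow i hpq ⟨q', rfl⟩
    obtain ⟨n, hn⟩ := (h i).1 p' q' ((e i).le_iff_le.mp hpq)
    refine ⟨n, fun s hs hl => ?_⟩
    have hsm := hmem i s (hl ▸ ⟨q', rfl⟩)
    have h1 := hn (liftSeries (e i) s hsm)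
      ((e i).injective (by
        change (e i) ((liftSeries (e i) s hsm) 0) = _
        rw [liftSeries_apply]; exact hs))
      ((e i).injective (by
        change (e i) ((liftSeries (e i) s hsm) (Fin.last _)) = _
        rw [liftSeries_apply]; exact hl))
    exact h1
  · intro s t hst hst' hs ht
    obtain ⟨i, hi⟩ := hcov s.last
    have hsm := hmem i s hi
    have htm := hmem i t (hst' ▸ hi)
    have hoc : (Set.range (e i)).OrdConnected := (hlow i).ordConnected
    have h1 := (h i).2 (liftSeries (e i) s hsm) (liftSeries (e i) t htm)
      ((e i).injective (by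
        change (e i) ((liftSeries (e i) s hsm) 0) = (e i) ((liftSeries (e i) t htm) 0)
        rw [liftSeries_apply, liftSeries_apply]; exact hst))
      ((e i).injective (by
        change (e i) ((liftSeries (e i) s hsm) (Fin.last _)) =
          (e i) ((liftSeries (e i) t htm) (Fin.last _))
        rw [liftSeries_apply, liftSeries_apply]; exact hst'))
      (fun j => by
        rw [← hoc.apply_covBy_apply_iff (e i)]
        have := hs j
        rw [← liftSeries_apply (e i) s hsm, ← liftSeries_apply (e i) s hsm] at this
        exact this)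
      (fun j => by
        rw [← hoc.apply_covBy_apply_iff (e i)]
        have := ht j
        rw [← liftSeries_apply (e i) t htm, ← liftSeries_apply (e i) t htm] at this
        exact this)
    exact h1

theorem range_specEmbOfLocalization {A : Type u} (B : Type v) [CommRing A] [CommRing B]
    [Algebra A B] (S : Submonoid A) [IsLocalization S B] :
    Set.range (specEmbOfLocalization B S) =
      {p : PrimeSpectrum A | Disjoint (S : Set A) p.asIdeal} :=
  PrimeSpectrum.localization_comap_range B S

theorem isLowerSet_range_specEmbOfLocalization {A : Type u} (B : Type v) [CommRing A]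
    [CommRing B] [Algebra A B] (S : Submonoid A) [IsLocalization S B] :
    IsLowerSet (Set.range (specEmbOfLocalization B S)) := by
  rw [range_specEmbOfLocalization]
  intro p q hqp hp
  exact Set.disjoint_of_subset_right hqp hp

theorem isCatenary_iff_localization_maximal (R : Type u) [CommRing R] :
    CAlg.IsCatenary R ↔
      ∀ (m : Ideal R) [m.IsMaximal], CAlg.IsCatenary (Localization.AtPrime m) := by
  constructor
  · intro h m hm
    exact isCatenary_of_isLocalization (Localization.AtPrime m) m.primeCompl h
  · intro h
    refine isCatPoset_of_cover_lower (ι := {m : Ideal R // m.IsMaximal})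
      (fun m => PrimeSpectrum (@Localization.AtPrime R _ m.1 m.2.isPrime))
      (fun m => @specEmbOfLocalization R (@Localization.AtPrime R _ m.1 m.2.isPrime) _ _ _
        (@Ideal.primeCompl R _ m.1 m.2.isPrime) _) ?_ ?_ ?_
    · intro m
      exact isLowerSet_range_specEmbOfLocalization _ _
    · intro p
      obtain ⟨m, hm, hpm⟩ := Ideal.exists_le_maximal p.asIdeal p.2.ne_top
      refine ⟨⟨m, hm⟩, ?_⟩
      rw [range_specEmbOfLocalization]
      show Disjoint _ _
      rw [Set.disjoint_left]
      intro x hx hxp
      exact hx (hpm hxp)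
    · intro m
      exact @h m.1 m.2

attribute [local instance] Algebra.TensorProduct.rightAlgebra in
theorem isUniversallyCatenary_iff_localization_maximal (R : Type u) [CommRing R]
    [IsNoetherianRing R] :
    CAlg.IsUniversallyCatenary R ↔
      ∀ (m : Ideal R) [m.IsMaximal], CAlg.IsUniversallyCatenary (Localization.AtPrime m) := by
  constructor
  · intro h m hm
    have : Algebra.EssFiniteType R (Localization.AtPrime m) :=
      Algebra.EssFiniteType.of_isLocalization _ m.primeCompl
    exact Groth.Agent.S9126.result R (Localization.AtPrime m) h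
  · intro h
    refine ⟨inferInstance, fun S _ _ hS => ?_⟩
    refine isCatPoset_of_cover_lower (ι := {m : Ideal R // m.IsMaximal})
      (fun m => PrimeSpectrum ((@Localization.AtPrime R _ m.1 m.2.isPrime) ⊗[R] S))
      (fun m => @specEmbOfLocalization S ((@Localization.AtPrime R _ m.1 m.2.isPrime) ⊗[R] S)
        _ _ _ (Algebra.algebraMapSubmonoid S (@Ideal.primeCompl R _ m.1 m.2.isPrime))
        (@IsLocalization.tensorRight R S _ _ _ (@Localization.AtPrime R _ m.1 m.2.isPrime) _ _
          (@Ideal.primeCompl R _ m.1 m.2.isPrime) _)) ?_ ?_ ?_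
    · intro m
      exact @isLowerSet_range_specEmbOfLocalization _ _ _ _ _ _ (_)
    · intro q
      have hp : (q.asIdeal.comap (algebraMap R S)).IsPrime := Ideal.comap_isPrime _ _
      obtain ⟨m, hm, hpm⟩ := Ideal.exists_le_maximal _ hp.ne_top
      refine ⟨⟨m, hm⟩, ?_⟩
      rw [@range_specEmbOfLocalization _ _ _ _ _ _ (_)]
      show Disjoint _ _
      rw [Set.disjoint_left]
      rintro x ⟨r, hr, rfl⟩ hxq
      exact hr (hpm hxq)
    · intro m
      have hm : m.1.IsMaximal := m.2
      exact (@h m.1 m.2).2 _ inferInstance

end Groth.Agent.Helper1.CatLocal
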