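import Mathlib
import Groth.Agent.Lib.Helper1.SHznSection

/-!
# Coefficient fields of complete local rings with residue characteristic zero
-/

set_option autoImplicit false

namespace Groth.Agent.Helper1.CoeffField

universe u

open IsLocalRing

theorem exists_coefficient_field (R : Type u) [CommRing R] [IsLocalRing R]
    [IsAdicComplete (IsLocalRing.maximalIdeal R) R] [CharZero (IsLocalRing.ResidueField R)] :
    ∃ s : IsLocalRing.ResidueField R →+* R, (IsLocalRing.residue R).comp s = RingHom.id _ := by
  classical
  have hH : HenselianLocalRing R :=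
    { is_henselian := fun f hf a₀ h1 h2 =>
        HenselianRing.is_henselian f hf a₀ h1 (h2.map (Ideal.Quotient.mk _)) }
  have hint : ∀ y : nonZeroDivisors ℤ, IsUnit (Int.castRingHom R y) := fun y => by
    rw [← IsLocalRing.residue_ne_zero_iff_isUnit, eq_intCast, map_intCast]
    exact Int.cast_ne_zero.mpr (nonZeroDivisors.coe_ne_zero y)
  let q : ℚ →+* R := IsLocalization.lift (M := nonZeroDivisors ℤ) (g := Int.castRingHom R) hint
  obtain ⟨s, hs⟩ := exists_isTranscendenceBasis ℚ (ResidueField R)
  have hinj : Function.Injective
      (MvPolynomial.aeval (R := ℚ) ((↑) : s → ResidueField R)) :=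
    algebraicIndependent_iff_injective_aeval.mp hs.1
  choose lft hlft using fun i : s => IsLocalRing.residue_surjective (i : ResidueField R)
  let ι : MvPolynomial s ℚ →+* R := MvPolynomial.eval₂Hom q lft
  have hι : ∀ p, residue R (ι p) = MvPolynomial.aeval ((↑) : s → ResidueField R) p := by
    intro p
    have h0 : (residue R).comp ι
        = (MvPolynomial.aeval (R := ℚ) ((↑) : s → ResidueField R)).toRingHom := by
      apply MvPolynomial.ringHom_ext
      · intro r
        have h1 : ((residue R).comp ι).comp MvPolynomial.C
            = (MvPolynomial.aeval (R := ℚ) ((↑) : s → ResidueField R)).toRingHom.comp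
              MvPolynomial.C := RingHom.ext_rat _ _
        exact RingHom.congr_fun h1 r
      · intro i
        simp [ι, hlft]
    exact RingHom.congr_fun h0 p
  have hunit : ∀ y : nonZeroDivisors (MvPolynomial s ℚ), IsUnit (ι y) := fun y => by
    rw [← IsLocalRing.residue_ne_zero_iff_isUnit, hι]
    intro h
    exact nonZeroDivisors.coe_ne_zero y (hinj (by rw [h, map_zero]))
  let k := FractionRing (MvPolynomial s ℚ)
  let ι' : k →+* R :=
    IsLocalization.lift (M := nonZeroDivisors (MvPolynomial s ℚ)) (g := ι) hunit
  have hι' : ∀ p, ι' (algebraMap (MvPolynomial s ℚ) k p) = ι p := fun p =>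
    IsLocalization.lift_eq _ _
  let _ : Algebra k R := ι'.toAlgebra
  let _ : Algebra k (ResidueField R) := ((residue R).comp ι').toAlgebra
  let ρ : R →ₐ[k] ResidueField R := { residue R with commutes' := fun _ => rfl }
  have hsurj : Function.Surjective ρ := IsLocalRing.residue_surjective
  have hcz : CharZero k :=
    RingHom.charZero (algebraMap k (ResidueField R))
  have halg : Algebra.IsAlgebraic k (ResidueField R) := by
    constructor
    intro α
    have h1 := hs.isAlgebraic.isAlgebraic α
    let f : Algebra.adjoin ℚ (Set.range ((↑) : s → ResidueField R)) →+* k :=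
      (algebraMap (MvPolynomial s ℚ) k).comp (hs.1.aevalEquiv.symm : _ →+* _)
    have hf : Function.Injective f :=
      (IsFractionRing.injective (MvPolynomial s ℚ) k).comp hs.1.aevalEquiv.symm.injective
    have hcomm : (algebraMap k (ResidueField R)).comp f = (RingHom.id _).comp
        (algebraMap (Algebra.adjoin ℚ (Set.range ((↑) : s → ResidueField R)))
          (ResidueField R)) := by
      ext y
      obtain ⟨p, rfl⟩ := hs.1.aevalEquiv.surjective y
      show residue R (ι' (algebraMap _ k (hs.1.aevalEquiv.symm (hs.1.aevalEquiv p)))) = _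
      rw [AlgEquiv.symm_apply_apply, hι', hι]
      exact (hs.1.algebraMap_aevalEquiv p).symm
    exact h1.ringHom_of_comp_eq f (RingHom.id _) hf hcomm
  have hsep : Algebra.IsSeparable k (ResidueField R) :=
    Algebra.IsAlgebraic.isSeparable_of_perfectField
  obtain ⟨σ, hσ⟩ := Groth.Agent.Helper1.SHzn.exists_section ρ hsurj
  refine ⟨σ.toRingHom, ?_⟩
  ext α
  exact hσ α

end Groth.Agent.Helper1.CoeffField
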