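import Mathlib

/-!
# Deligne's completeness theorem, part 1: rigid names and solution objects

`Rec C` is a type of rigid names (the root, or a witness for a lifting problem posed on the solution
object of a finite set of earlier names).  For a finite set `F` of names, `P X₀ F` is the object of
`C` classifying compatible families of points of the sorts of the names in `F`.
-/

set_option autoImplicit false
universe u

open CategoryTheory CategoryTheory.Limits Opposite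

namespace Groth.Agent.Helper1.DL

/-- Rigid names. -/
inductive Rec (C : Type u) [SmallCategory C] : Type u
  | root : Rec C
  | mk (O X Y : C) (f : O ⟶ X) (g : Y ⟶ X) (m : ℕ) (par : Fin m → Rec C)
      (js : Fin m → Σ Z : C, (O ⟶ Z)) : Rec C

variable {C : Type u} [SmallCategory C]

namespace Rec

/-- number of parents -/
def arity : Rec C → ℕ
  | root => 0
  | mk _ _ _ _ _ m _ _ => m

/-- the parents -/
def par : (w : Rec C) → Fin w.arity → Rec C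
  | root => fun i => Fin.elim0 i
  | mk _ _ _ _ _ _ p _ => p

/-- the base object -/
def base (X₀ : C) : Rec C → C
  | root => X₀
  | mk O _ _ _ _ _ _ _ => O

/-- the maps from the base to the (claimed) sorts of the parents -/
def js (X₀ : C) : (w : Rec C) → Fin w.arity → Σ Z : C, (w.base X₀ ⟶ Z)
  | root => fun i => Fin.elim0 i
  | mk _ _ _ _ _ _ _ j => j

variable [HasFiniteLimits C]

/-- the sort of a name -/
noncomputable def sort (X₀ : C) : Rec C → C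
  | root => X₀
  | mk _ _ _ f g _ _ _ => pullback f g

/-- the map from the sort to the base -/
noncomputable def toBase (X₀ : C) : (w : Rec C) → (w.sort X₀ ⟶ w.base X₀)
  | root => 𝟙 X₀
  | mk _ _ _ f g _ _ _ => pullback.fst f g

end Rec

section Sol

variable [HasFiniteLimits C] (X₀ : C) (F : Finset (Rec C))

/-- index type of constraints -/
abbrev KIdx : Type u := Σ w : {v // v ∈ F}, Fin w.1.arity

/-- target of a constraint -/
noncomputable abbrev tgt (c : KIdx F) : C := (Rec.js X₀ c.1.1 c.2).1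

/-- the sorts of the variables -/
noncomputable abbrev srt (v : {v // v ∈ F}) : C := v.1.sort X₀

/-- first map -/
noncomputable def m1 : ∏ᶜ (srt X₀ F) ⟶ ∏ᶜ (tgt X₀ F) :=
  Pi.lift fun c => Pi.π (srt X₀ F) c.1 ≫ c.1.1.toBase X₀ ≫ (Rec.js X₀ c.1.1 c.2).2

open Classical in
/-- second map -/
noncomputable def m2 : ∏ᶜ (srt X₀ F) ⟶ ∏ᶜ (tgt X₀ F) :=
  Pi.lift fun c =>
    if h : c.1.1.par c.2 ∈ F ∧ (Rec.js X₀ c.1.1 c.2).1 = (c.1.1.par c.2).sort X₀ then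
      Pi.π (srt X₀ F) ⟨c.1.1.par c.2, h.1⟩ ≫ eqToHom h.2.symm
    else Pi.π (srt X₀ F) c.1 ≫ c.1.1.toBase X₀ ≫ (Rec.js X₀ c.1.1 c.2).2

lemma m1_π (c : KIdx F) :
    m1 X₀ F ≫ Pi.π (tgt X₀ F) c =
      Pi.π (srt X₀ F) c.1 ≫ c.1.1.toBase X₀ ≫ (Rec.js X₀ c.1.1 c.2).2 := by
  unfold m1
  rw [Pi.lift_π]

lemma m2_π_pos (c : KIdx F)
    (h : c.1.1.par c.2 ∈ F ∧ (Rec.js X₀ c.1.1 c.2).1 = (c.1.1.par c.2).sort X₀) :
    m2 X₀ F ≫ Pi.π (tgt X₀ F) c =
      Pi.π (srt X₀ F) ⟨c.1.1.par c.2, h.1⟩ ≫ eqToHom h.2.symm := by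
  unfold m2
  rw [Pi.lift_π, dif_pos h]

lemma m2_π_neg (c : KIdx F)
    (h : ¬ (c.1.1.par c.2 ∈ F ∧ (Rec.js X₀ c.1.1 c.2).1 = (c.1.1.par c.2).sort X₀)) :
    m2 X₀ F ≫ Pi.π (tgt X₀ F) c =
      Pi.π (srt X₀ F) c.1 ≫ c.1.1.toBase X₀ ≫ (Rec.js X₀ c.1.1 c.2).2 := by
  unfold m2
  rw [Pi.lift_π, dif_neg h]

/-- the solution object -/
noncomputable def P : C := equalizer (m1 X₀ F) (m2 X₀ F)

/-- the coordinates -/
noncomputable def π (v : {v // v ∈ F}) : P X₀ F ⟶ v.1.sort X₀ :=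
  equalizer.ι (m1 X₀ F) (m2 X₀ F) ≫ Pi.π (srt X₀ F) v

lemma π_sat (w : {v // v ∈ F}) (i : Fin w.1.arity) (hv : w.1.par i ∈ F)
    (hs : (Rec.js X₀ w.1 i).1 = (w.1.par i).sort X₀) :
    π X₀ F w ≫ w.1.toBase X₀ ≫ (Rec.js X₀ w.1 i).2 =
      π X₀ F ⟨w.1.par i, hv⟩ ≫ eqToHom hs.symm := by
  have h := equalizer.condition (m1 X₀ F) (m2 X₀ F)
  have h' := congrArg (fun φ => φ ≫ Pi.π (tgt X₀ F) (⟨w, i⟩ : KIdx F)) h
  simp only [Category.assoc] at h'
  rw [m1_π, m2_π_pos X₀ F ⟨w, i⟩ ⟨hv, hs⟩] at h'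
  unfold π
  simp only [Category.assoc]
  exact h'

lemma exists_lift {T : C} (t : ∀ v : {v // v ∈ F}, T ⟶ v.1.sort X₀)
    (ht : ∀ (w : {v // v ∈ F}) (i : Fin w.1.arity) (hv : w.1.par i ∈ F)
      (hs : (Rec.js X₀ w.1 i).1 = (w.1.par i).sort X₀),
      t w ≫ w.1.toBase X₀ ≫ (Rec.js X₀ w.1 i).2 = t ⟨w.1.par i, hv⟩ ≫ eqToHom hs.symm) :
    ∃ φ : T ⟶ P X₀ F, ∀ v, φ ≫ π X₀ F v = t v := by
  have hcond : Pi.lift t ≫ m1 X₀ F = Pi.lift t ≫ m2 X₀ F := by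
    apply Pi.hom_ext
    intro c
    rw [Category.assoc, Category.assoc, m1_π]
    by_cases h : c.1.1.par c.2 ∈ F ∧ (Rec.js X₀ c.1.1 c.2).1 = (c.1.1.par c.2).sort X₀
    · rw [m2_π_pos X₀ F c h, Pi.lift_π_assoc, Pi.lift_π_assoc]
      exact ht c.1 c.2 h.1 h.2
    · rw [m2_π_neg X₀ F c h]
  refine ⟨equalizer.lift (Pi.lift t) hcond, fun v => ?_⟩
  show equalizer.lift (Pi.lift t) hcond ≫ equalizer.ι (m1 X₀ F) (m2 X₀ F) ≫
    Pi.π (srt X₀ F) v = t v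
  rw [equalizer.lift_ι_assoc, Pi.lift_π]

lemma P_hom_ext {T : C} {φ ψ : T ⟶ P X₀ F} (h : ∀ v, φ ≫ π X₀ F v = ψ ≫ π X₀ F v) :
    φ = ψ := by
  apply equalizer.hom_ext
  apply Pi.hom_ext
  intro v
  have := h v
  unfold π at this
  rw [Category.assoc, Category.assoc]
  exact this

end Sol

section Restr

variable [HasFiniteLimits C] (X₀ : C)

/-- restriction maps -/
noncomputable def restr {F G : Finset (Rec C)} (h : F ⊆ G) : P X₀ G ⟶ P X₀ F :=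
  (exists_lift X₀ F (fun v => π X₀ G ⟨v.1, h v.2⟩)
    (fun w i hv hs => π_sat X₀ G ⟨w.1, h w.2⟩ i (h hv) hs)).choose

@[reassoc]
lemma restr_π {F G : Finset (Rec C)} (h : F ⊆ G) (v : {v // v ∈ F}) :
    restr X₀ h ≫ π X₀ F v = π X₀ G ⟨v.1, h v.2⟩ :=
  (exists_lift X₀ F (fun v => π X₀ G ⟨v.1, h v.2⟩)
    (fun w i hv hs => π_sat X₀ G ⟨w.1, h w.2⟩ i (h hv) hs)).choose_spec v

/-- projection to the root coordinate -/
noncomputable def πr (F : Finset (Rec C)) (hr : Rec.root ∈ F) : P X₀ F ⟶ X₀ :=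
  π X₀ F ⟨Rec.root, hr⟩

@[reassoc]
lemma restr_πr {F G : Finset (Rec C)} (h : F ⊆ G) (hr : Rec.root ∈ F) :
    restr X₀ h ≫ πr X₀ F hr = πr X₀ G (h hr) :=
  restr_π X₀ h ⟨Rec.root, hr⟩

/-- the name of the witness for the problem `f`, member `g` -/
noncomputable def mkRec (F : Finset (Rec C)) {X Y : C} (f : P X₀ F ⟶ X) (g : Y ⟶ X) : Rec C :=
  Rec.mk (P X₀ F) X Y f g F.card (fun i => (F.equivFin.symm i).1)
    (fun i => ⟨(F.equivFin.symm i).1.sort X₀, π X₀ F (F.equivFin.symm i)⟩)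

lemma mkRec_ne_root (F : Finset (Rec C)) {X Y : C} (f : P X₀ F ⟶ X) (g : Y ⟶ X) :
    mkRec X₀ F f g ≠ Rec.root := by
  intro h
  unfold mkRec at h
  cases h

variable (F : Finset (Rec C)) {X Y : C} (f : P X₀ F ⟶ X) (g : Y ⟶ X)

/-- first projection of the witness sort -/
noncomputable def wFst : (mkRec X₀ F f g).sort X₀ ⟶ P X₀ F := pullback.fst f g

/-- second projection of the witness sort -/
noncomputable def wSnd : (mkRec X₀ F f g).sort X₀ ⟶ Y := pullback.snd f g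

lemma w_cond : wFst X₀ F f g ≫ f = wSnd X₀ F f g ≫ g := pullback.condition

/-- maps into the witness sort -/
noncomputable def wLift {Z : C} (a : Z ⟶ P X₀ F) (b : Z ⟶ Y) (h : a ≫ f = b ≫ g) :
    Z ⟶ (mkRec X₀ F f g).sort X₀ := pullback.lift a b h

@[reassoc]
lemma wLift_fst {Z : C} (a : Z ⟶ P X₀ F) (b : Z ⟶ Y) (h : a ≫ f = b ≫ g) :
    wLift X₀ F f g a b h ≫ wFst X₀ F f g = a := pullback.lift_fst _ _ _

@[reassoc]
lemma wLift_snd {Z : C} (a : Z ⟶ P X₀ F) (b : Z ⟶ Y) (h : a ≫ f = b ≫ g) :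
    wLift X₀ F f g a b h ≫ wSnd X₀ F f g = b := pullback.lift_snd _ _ _

lemma π_mkRec {G : Finset (Rec C)} (hFG : F ⊆ G) (hw : mkRec X₀ F f g ∈ G)
    (v : {v // v ∈ F}) :
    π X₀ G ⟨mkRec X₀ F f g, hw⟩ ≫ wFst X₀ F f g ≫ π X₀ F v = π X₀ G ⟨v.1, hFG v.2⟩ := by
  obtain ⟨i, rfl⟩ := F.equivFin.symm.surjective v
  have h1 := π_sat X₀ G ⟨mkRec X₀ F f g, hw⟩ i (hFG (F.equivFin.symm i).2) rfl
  exact h1.trans (Category.comp_id _)

end Restr

end Groth.Agent.Helper1.DL
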