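import Groth.Agent.Lib.Helper1.DL1

/-!
# Deligne's completeness theorem, part 2: maximal avoiding systems
-/

set_option autoImplicit false
universe u

open CategoryTheory CategoryTheory.Limits Opposite

namespace Groth.Agent.Helper1.DL

open scoped Classical

variable {C : Type u} [SmallCategory C] [HasFiniteLimits C] (X₀ : C)

section Ext

variable {F G : Finset (Rec C)} (hFG : F ⊆ G) {X Y : C} (f : P X₀ F ⟶ X) (g : Y ⟶ X)
  {Z : C} (h : Z ⟶ P X₀ G) (a : Z ⟶ Y) (hc : h ≫ restr X₀ hFG ≫ f = a ≫ g)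

/-- the family of coordinates of the extended point -/
noncomputable def extFam :
    ∀ v : {v // v ∈ insert (mkRec X₀ F f g) G}, Z ⟶ v.1.sort X₀ := fun v =>
  if hv : v.1 = mkRec X₀ F f g then
    wLift X₀ F f g (h ≫ restr X₀ hFG) a (by rw [Category.assoc]; exact hc) ≫
      eqToHom (congrArg (Rec.sort X₀) hv).symm
  else h ≫ π X₀ G ⟨v.1, (Finset.mem_insert.1 v.2).resolve_left hv⟩

lemma extFam_self (hmem : mkRec X₀ F f g ∈ insert (mkRec X₀ F f g) G) :
    extFam X₀ hFG f g h a hc ⟨mkRec X₀ F f g, hmem⟩ =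
      wLift X₀ F f g (h ≫ restr X₀ hFG) a (by rw [Category.assoc]; exact hc) := by
  unfold extFam
  rw [dif_pos rfl]
  exact Category.comp_id _

lemma extFam_of_ne (v : {v // v ∈ insert (mkRec X₀ F f g) G}) (hv : v.1 ≠ mkRec X₀ F f g) :
    extFam X₀ hFG f g h a hc v =
      h ≫ π X₀ G ⟨v.1, (Finset.mem_insert.1 v.2).resolve_left hv⟩ := by
  unfold extFam
  rw [dif_neg hv]

end Ext

/-- closed sets of names -/
def Closed (W : Set (Rec C)) : Prop :=
  ∀ w ∈ W, ∀ i : Fin w.arity, w.par i ∈ W ∨ w.par i = Rec.root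

variable (J : GrothendieckTopology C) (S : Sieve X₀)

/-- avoiding sets of names -/
def Avoids (W : Set (Rec C)) : Prop :=
  ∀ (F : Finset (Rec C)) (hr : Rec.root ∈ F), (∀ v ∈ F, v ∈ W ∨ v = Rec.root) →
    S.pullback (πr X₀ F hr) ∉ J (P X₀ F)

/-- good sets of names -/
def Good (W : Set (Rec C)) : Prop := Closed W ∧ Avoids X₀ J S W

lemma extend_point {W : Set (Rec C)} (hW : Closed W) {F G : Finset (Rec C)} (hFG : F ⊆ G)
    (hG : ∀ v ∈ G, v ∈ W ∨ v = Rec.root) {X Y : C} (f : P X₀ F ⟶ X) (g : Y ⟶ X)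
    (hw : mkRec X₀ F f g ∉ W) {Z : C} (h : Z ⟶ P X₀ G) (a : Z ⟶ Y)
    (hc : h ≫ restr X₀ hFG ≫ f = a ≫ g) (hr : Rec.root ∈ G) :
    ∃ φ : Z ⟶ P X₀ (insert (mkRec X₀ F f g) G),
      φ ≫ πr X₀ _ (Finset.mem_insert_of_mem hr) = h ≫ πr X₀ G hr := by
  have hwG : mkRec X₀ F f g ∉ G := fun hmem =>
    (hG _ hmem).elim hw (mkRec_ne_root X₀ F f g)
  suffices hsat : ∀ (w : {v // v ∈ insert (mkRec X₀ F f g) G}) (i : Fin w.1.arity)
      (hv : w.1.par i ∈ insert (mkRec X₀ F f g) G)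
      (hs : (Rec.js X₀ w.1 i).1 = (w.1.par i).sort X₀),
      extFam X₀ hFG f g h a hc w ≫ w.1.toBase X₀ ≫ (Rec.js X₀ w.1 i).2 =
        extFam X₀ hFG f g h a hc ⟨w.1.par i, hv⟩ ≫ eqToHom hs.symm by
    obtain ⟨φ, hφ⟩ := exists_lift X₀ (insert (mkRec X₀ F f g) G)
      (extFam X₀ hFG f g h a hc) hsat
    refine ⟨φ, ?_⟩
    have := hφ ⟨Rec.root, Finset.mem_insert_of_mem hr⟩
    rw [extFam_of_ne X₀ hFG f g h a hc _ (fun e => mkRec_ne_root X₀ F f g e.symm)] at this
    exact this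
  · rintro ⟨w', hw'⟩ i hv hs
    by_cases h1 : w' = mkRec X₀ F f g
    · subst h1
      have hpF : (F.equivFin.symm i).1 ∈ F := (F.equivFin.symm i).2
      have hpne : (mkRec X₀ F f g).par i ≠ mkRec X₀ F f g := fun e => hwG (e ▸ hFG hpF)
      rw [extFam_self X₀ hFG f g h a hc hw', extFam_of_ne X₀ hFG f g h a hc _ hpne]
      have e1 := wLift_fst X₀ F f g (h ≫ restr X₀ hFG) a (by rw [Category.assoc]; exact hc)
      have e2 := restr_π X₀ hFG (F.equivFin.symm i)
      have e3 : wLift X₀ F f g (h ≫ restr X₀ hFG) a (by rw [Category.assoc]; exact hc) ≫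
          wFst X₀ F f g ≫ π X₀ F (F.equivFin.symm i) =
          h ≫ π X₀ G ⟨(F.equivFin.symm i).1, hFG (F.equivFin.symm i).2⟩ := by
        rw [← Category.assoc, e1, Category.assoc, e2]
      exact e3.trans (Category.comp_id _).symm
    · have hw'G : w' ∈ G := (Finset.mem_insert.1 hw').resolve_left h1
      by_cases h2 : w'.par i = mkRec X₀ F f g
      · exfalso
        rcases hG w' hw'G with h3 | h3
        · rcases hW w' h3 i with h4 | h4
          · exact hw (h2 ▸ h4)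
          · exact mkRec_ne_root X₀ F f g (h2 ▸ h4)
        · subst h3
          exact i.elim0
      · rw [extFam_of_ne X₀ hFG f g h a hc ⟨w', hw'⟩ h1,
          extFam_of_ne X₀ hFG f g h a hc ⟨w'.par i, hv⟩ h2, Category.assoc, Category.assoc,
          π_sat X₀ G ⟨w', hw'G⟩ i ((Finset.mem_insert.1 hv).resolve_left h2) hs]

lemma avoids_of_all_root (hS : S ∉ J X₀) (F : Finset (Rec C)) (hr : Rec.root ∈ F)
    (hall : ∀ v ∈ F, v = Rec.root) : S.pullback (πr X₀ F hr) ∉ J (P X₀ F) := by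
  intro hcov
  obtain ⟨φ, hφ⟩ := exists_lift X₀ F (T := X₀)
    (fun v => eqToHom (by rw [hall v.1 v.2]; rfl))
    (by
      rintro ⟨w, hw⟩ i hv hs
      obtain rfl := hall w hw
      exact i.elim0)
  have h1 : φ ≫ πr X₀ F hr = 𝟙 X₀ := (hφ ⟨Rec.root, hr⟩).trans (eqToHom_refl _ _)
  have := J.pullback_stable φ hcov
  rw [← Sieve.pullback_comp, h1, Sieve.pullback_id] at this
  exact hS this

lemma exists_maximal_good (hS : S ∉ J X₀) :
    ∃ W : Set (Rec C), Good X₀ J S W ∧ ∀ W', Good X₀ J S W' → W ⊆ W' → W' ⊆ W := by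
  have h0 : Good X₀ J S (∅ : Set (Rec C)) := by
    refine ⟨fun w hw => absurd hw (Set.notMem_empty _), fun F hr hF => ?_⟩
    exact avoids_of_all_root X₀ J S hS F hr
      (fun v hv => (hF v hv).resolve_left (Set.notMem_empty _))
  suffices hch : ∀ c ⊆ {W | Good X₀ J S W}, IsChain (· ⊆ ·) c → c.Nonempty →
      ∃ ub ∈ {W | Good X₀ J S W}, ∀ s ∈ c, s ⊆ ub by
    obtain ⟨m, -, hm⟩ := zorn_subset_nonempty {W | Good X₀ J S W} hch ∅ h0
    exact ⟨m, hm.prop, fun W' hW' hsub => hm.le_of_ge hW' hsub⟩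
  · intro c hc hchain hne
    refine ⟨⋃₀ c, ⟨?_, ?_⟩, fun s hs => Set.subset_sUnion_of_mem hs⟩
    · rintro w ⟨W', hW'c, hwW'⟩ i
      rcases (hc hW'c).1 w hwW' i with h | h
      · exact Or.inl ⟨W', hW'c, h⟩
      · exact Or.inr h
    · intro F hr hF
      have key : ∀ T : Finset (Rec C), (∀ v ∈ T, v ∈ ⋃₀ c) → ∃ W' ∈ c, ∀ v ∈ T, v ∈ W' := by
        intro T
        induction T using Finset.induction_on with
        | empty =>
          intro _
          obtain ⟨W', hW'⟩ := hne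
          exact ⟨W', hW', fun v hv => absurd hv (Finset.notMem_empty v)⟩
        | insert b T hb ih =>
          intro hT
          obtain ⟨W₁, hW₁c, hW₁⟩ := ih (fun v hv => hT v (Finset.mem_insert_of_mem hv))
          obtain ⟨W₂, hW₂c, hbW₂⟩ := hT b (Finset.mem_insert_self b T)
          rcases hchain.total hW₁c hW₂c with h12 | h21
          · refine ⟨W₂, hW₂c, fun v hv => ?_⟩
            rcases Finset.mem_insert.1 hv with rfl | hv
            · exact hbW₂
            · exact h12 (hW₁ v hv)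
          · refine ⟨W₁, hW₁c, fun v hv => ?_⟩
            rcases Finset.mem_insert.1 hv with rfl | hv
            · exact h21 hbW₂
            · exact hW₁ v hv
      obtain ⟨W', hW'c, hFW'⟩ := key (F.erase Rec.root) (fun v hv => by
        obtain ⟨hne', hvF⟩ := Finset.mem_erase.1 hv
        exact (hF v hvF).resolve_right hne')
      refine (hc hW'c).2 F hr (fun v hv => ?_)
      by_cases hvr : v = Rec.root
      · exact Or.inr hvr
      · exact Or.inl (hFW' v (Finset.mem_erase.2 ⟨hvr, hv⟩))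

lemma exists_mem_mkRec {W : Set (Rec C)} (hW : Good X₀ J S W)
    (hmax : ∀ W', Good X₀ J S W' → W ⊆ W' → W' ⊆ W)
    (F : Finset (Rec C)) (hrF : Rec.root ∈ F) (hF : ∀ v ∈ F, v ∈ W ∨ v = Rec.root)
    {X : C} (f : P X₀ F ⟶ X) (n : ℕ) (V : Fin n → C) (g : ∀ k, V k ⟶ X)
    (hcov : Sieve.ofArrows V g ∈ J X) : ∃ k, mkRec X₀ F f (g k) ∈ W := by
  by_contra hno
  have hno' : ∀ k, mkRec X₀ F f (g k) ∉ W := fun k hk => hno ⟨k, hk⟩
  have hbad : ∀ k, ∃ (Fk : Finset (Rec C)) (hr : Rec.root ∈ Fk),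
      (∀ v ∈ Fk, v ∈ insert (mkRec X₀ F f (g k)) W ∨ v = Rec.root) ∧
      S.pullback (πr X₀ Fk hr) ∈ J (P X₀ Fk) := by
    intro k
    by_contra hk
    have hgood : Good X₀ J S (insert (mkRec X₀ F f (g k)) W) := by
      refine ⟨?_, fun Fk hr hsub hc => hk ⟨Fk, hr, hsub, hc⟩⟩
      intro w hw i
      rcases hw with rfl | hw
      · rcases hF _ (F.equivFin.symm i).2 with h | h
        · exact Or.inl (Set.mem_insert_of_mem _ h)
        · exact Or.inr h
      · rcases hW.1 w hw i with h | h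
        · exact Or.inl (Set.mem_insert_of_mem _ h)
        · exact Or.inr h
    exact hno' k (hmax _ hgood (Set.subset_insert _ _) (Set.mem_insert _ _))
  choose Fk hrk hsubk hcovk using hbad
  let G : Finset (Rec C) :=
    F ∪ Finset.univ.biUnion (fun k => (Fk k).erase (mkRec X₀ F f (g k)))
  have hFG : F ⊆ G := Finset.subset_union_left
  have hrG : Rec.root ∈ G := hFG hrF
  have hG : ∀ v ∈ G, v ∈ W ∨ v = Rec.root := by
    intro v hv
    rcases Finset.mem_union.1 hv with h | h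
    · exact hF v h
    · obtain ⟨k, -, hk⟩ := Finset.mem_biUnion.1 h
      obtain ⟨hne, hvk⟩ := Finset.mem_erase.1 hk
      rcases hsubk k v hvk with h' | h'
      · rcases h' with h'' | h''
        · exact absurd h'' hne
        · exact Or.inl h''
      · exact Or.inr h'
  apply hW.2 G hrG hG
  refine J.transitive (J.pullback_stable (restr X₀ hFG ≫ f) hcov) _ ?_
  intro Z h hh
  rw [Sieve.pullback_apply, Sieve.mem_ofArrows_iff] at hh
  obtain ⟨k, a, hka⟩ := hh
  obtain ⟨φ, hφ⟩ := extend_point X₀ hW.1 hFG hG f (g k) (hno' k) h a hka hrG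
  have hsub : Fk k ⊆ insert (mkRec X₀ F f (g k)) G := by
    intro v hv
    by_cases hvw : v = mkRec X₀ F f (g k)
    · exact hvw ▸ Finset.mem_insert_self _ _
    · exact Finset.mem_insert_of_mem (Finset.mem_union_right _
        (Finset.mem_biUnion.2 ⟨k, Finset.mem_univ _, Finset.mem_erase.2 ⟨hvw, hv⟩⟩))
  have e : h ≫ πr X₀ G hrG = (φ ≫ restr X₀ hsub) ≫ πr X₀ (Fk k) (hrk k) := by
    rw [Category.assoc, restr_πr]
    exact hφ.symm
  rw [← Sieve.pullback_comp, e, Sieve.pullback_comp]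
  exact J.pullback_stable _ (hcovk k)

end Groth.Agent.Helper1.DL
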