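import Groth.Agent.Lib.Helper1.DL2

/-!
# Deligne's completeness theorem, part 3: the points
-/

set_option autoImplicit false
universe u

open CategoryTheory CategoryTheory.Limits Opposite

namespace Groth.Agent.Helper1.DL

open scoped Classical

variable {C : Type u} [SmallCategory C] [HasFiniteLimits C] (X₀ : C)

/-- the index category: finite sets of activated names containing the root -/
def NObj (W : Set (Rec C)) : Type u :=
  {F : Finset (Rec C) // Rec.root ∈ F ∧ ∀ v ∈ F, v ∈ W ∨ v = Rec.root}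

instance (W : Set (Rec C)) : Preorder (NObj W) where
  le a b := b.1 ⊆ a.1
  le_refl a := Finset.Subset.refl _
  le_trans _ _ _ h1 h2 := Finset.Subset.trans h2 h1

instance (W : Set (Rec C)) : Nonempty (NObj W) :=
  ⟨⟨{Rec.root}, Finset.mem_singleton_self _, fun _ hv => Or.inr (Finset.mem_singleton.1 hv)⟩⟩

instance (W : Set (Rec C)) : IsCodirectedOrder (NObj W) :=
  ⟨fun a b => ⟨⟨a.1 ∪ b.1, Finset.mem_union_left _ a.2.1,
    fun v hv => (Finset.mem_union.1 hv).elim (a.2.2 v) (b.2.2 v)⟩,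
    (Finset.subset_union_left : a.1 ⊆ a.1 ∪ b.1), (Finset.subset_union_right : b.1 ⊆ a.1 ∪ b.1)⟩⟩

instance (W : Set (Rec C)) : InitiallySmall.{u} (NObj W) :=
  initiallySmall_of_essentiallySmall _

/-- the pro-object -/
noncomputable def pF (W : Set (Rec C)) : NObj W ⥤ C where
  obj a := P X₀ a.1
  map {a b} h := restr X₀ (leOfHom h)
  map_id a := by
    apply P_hom_ext
    intro v
    rw [restr_π, Category.id_comp]
  map_comp {a b c} f g := by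
    apply P_hom_ext
    intro v
    rw [restr_π, Category.assoc, restr_π, restr_π]

variable (J : GrothendieckTopology C) (S : Sieve X₀)

theorem hp_lemma
    (hJ : ∀ (U : C) (S : Sieve U), S ∈ J U →
      ∃ (n : ℕ) (V : Fin n → C) (g : ∀ k, V k ⟶ U), (∀ k, S (g k)) ∧ Sieve.ofArrows V g ∈ J U)
    {W : Set (Rec C)} (hW : Good X₀ J S W)
    (hmax : ∀ W', Good X₀ J S W' → W ⊆ W' → W' ⊆ W)
    ⦃X : C⦄ (R : Sieve X) (hR : R ∈ J X) ⦃U : NObj W⦄ (f : (pF X₀ W).obj U ⟶ X) :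
    ∃ (Y : C) (g : Y ⟶ X) (_ : R g) (V : NObj W) (q : V ⟶ U) (a : (pF X₀ W).obj V ⟶ Y),
      a ≫ g = (pF X₀ W).map q ≫ f := by
  obtain ⟨n, V, g, hRg, hcov⟩ := hJ X R hR
  have f' : P X₀ U.1 ⟶ X := f
  obtain ⟨k, hk⟩ := exists_mem_mkRec X₀ J S hW hmax U.1 U.2.1 U.2.2 (X := X) f n V g hcov
  let U' : NObj W := ⟨insert (mkRec X₀ U.1 f (g k)) U.1, Finset.mem_insert_of_mem U.2.1,
    fun v hv => (Finset.mem_insert.1 hv).elim (fun e => Or.inl (e ▸ hk)) (U.2.2 v)⟩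
  have hle : U.1 ⊆ U'.1 := Finset.subset_insert _ _
  have hle' : U' ≤ U := hle
  have hmem : mkRec X₀ U.1 f (g k) ∈ U'.1 := Finset.mem_insert_self _ _
  refine ⟨V k, g k, hRg k, U', homOfLE hle',
    π X₀ U'.1 ⟨mkRec X₀ U.1 f (g k), hmem⟩ ≫ wSnd X₀ U.1 f (g k), ?_⟩
  have key : π X₀ U'.1 ⟨mkRec X₀ U.1 f (g k), hmem⟩ ≫ wFst X₀ U.1 f (g k) = restr X₀ hle := by
    apply P_hom_ext
    intro v
    rw [Category.assoc, π_mkRec X₀ U.1 f (g k) hle hmem v, restr_π]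
  show _ = restr X₀ hle ≫ f
  rw [Category.assoc, ← w_cond, ← Category.assoc]
  exact congrArg (fun z => z ≫ f) key

/-- the point attached to a maximal good set of names -/
noncomputable def pt
    (hJ : ∀ (U : C) (S : Sieve U), S ∈ J U →
      ∃ (n : ℕ) (V : Fin n → C) (g : ∀ k, V k ⟶ U), (∀ k, S (g k)) ∧ Sieve.ofArrows V g ∈ J U)
    {W : Set (Rec C)} (hW : Good X₀ J S W)
    (hmax : ∀ W', Good X₀ J S W' → W ⊆ W' → W' ⊆ W) : GrothendieckTopology.Point.{u} J :=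
  GrothendieckTopology.Point.ofIsCofiltered (pF X₀ W) (hp_lemma X₀ J S hJ hW hmax)

open GrothendieckTopology.Point.ofIsCofiltered in
theorem exists_point
    (hJ : ∀ (U : C) (S : Sieve U), S ∈ J U →
      ∃ (n : ℕ) (V : Fin n → C) (g : ∀ k, V k ⟶ U), (∀ k, S (g k)) ∧ Sieve.ofArrows V g ∈ J U)
    (hS : S ∉ J X₀) :
    ∃ (Φ : GrothendieckTopology.Point.{u} J) (x : Φ.fiber.obj X₀),
      ∀ (Y : C) (g : Y ⟶ X₀), S g → ∀ y : Φ.fiber.obj Y, Φ.fiber.map g y ≠ x := by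
  obtain ⟨W, hW, hmax⟩ := exists_maximal_good X₀ J S hS
  let F₀ : NObj W := ⟨{Rec.root}, Finset.mem_singleton_self _,
    fun v hv => Or.inr (Finset.mem_singleton.1 hv)⟩
  refine ⟨pt X₀ J S hJ hW hmax,
    fiberMk.{u} (p := pF X₀ W) (U := F₀) (πr X₀ F₀.1 F₀.2.1), ?_⟩
  intro Y g hg y hy
  obtain ⟨U, h, rfl⟩ := fiberMk_jointly_surjective (p := pF X₀ W) y
  have hy' : fiberMk.{u} (p := pF X₀ W) (U := U) (h ≫ g) =
      fiberMk.{u} (p := pF X₀ W) (U := F₀) (πr X₀ F₀.1 F₀.2.1) := by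
    rw [← fiber_map_fiberMk]
    exact hy
  have hle : F₀.1 ⊆ U.1 := by
    intro v hv
    rw [Finset.mem_singleton.1 hv]
    exact U.2.1
  have hle' : U ≤ F₀ := hle
  have h2 : fiberMk.{u} (p := pF X₀ W) (U := F₀) (πr X₀ F₀.1 F₀.2.1) =
      fiberMk.{u} (p := pF X₀ W) (U := U) (πr X₀ U.1 U.2.1) := by
    have e := fiberMk_map_comp.{u} (pF X₀ W) (homOfLE hle') (πr X₀ F₀.1 F₀.2.1)
    have e' : (pF X₀ W).map (homOfLE hle') ≫ πr X₀ F₀.1 F₀.2.1 = πr X₀ U.1 U.2.1 :=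
      restr_πr X₀ hle F₀.2.1
    rw [e'] at e
    exact e.symm
  rw [h2] at hy'
  obtain ⟨V, r, hr⟩ := exists_of_fiberMk_eq_fiberMk hy'
  have h3 : (pF X₀ W).map r ≫ πr X₀ U.1 U.2.1 = πr X₀ V.1 V.2.1 :=
    restr_πr X₀ (leOfHom r) U.2.1
  have h4 : S (πr X₀ V.1 V.2.1) := by
    rw [← h3, ← hr, ← Category.assoc]
    exact S.downward_closed hg _
  refine hW.2 V.1 V.2.1 V.2.2 ?_
  rw [(Sieve.mem_iff_pullback_eq_top _).1 h4]
  exact J.top_mem _

theorem main (J : GrothendieckTopology C)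
    (hJ : ∀ (U : C) (S : Sieve U), S ∈ J U →
      ∃ (n : ℕ) (V : Fin n → C) (g : ∀ k, V k ⟶ U), (∀ k, S (g k)) ∧ Sieve.ofArrows V g ∈ J U) :
    GrothendieckTopology.HasEnoughPoints.{u} J := by
  have key : ∀ (i : Σ X : C, {S : Sieve X // S ∉ J X}),
      ∃ (Φ : GrothendieckTopology.Point.{u} J) (x : Φ.fiber.obj i.1),
        ∀ (Y : C) (g : Y ⟶ i.1), i.2.1 g → ∀ y : Φ.fiber.obj Y, Φ.fiber.map g y ≠ x :=
    fun i => exists_point i.1 J i.2.1 hJ i.2.2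
  choose pts x hx using key
  refine ⟨⟨ObjectProperty.ofObj pts, inferInstance, ?_⟩⟩
  apply ObjectProperty.IsConservativeFamilyOfPoints.mk'
  intro X S hS
  by_contra hn
  obtain ⟨Y, g, hg, y, hy⟩ := hS ⟨pts ⟨X, S, hn⟩, ⟨_⟩⟩ (x ⟨X, S, hn⟩)
  exact hx ⟨X, S, hn⟩ Y g hg y hy

end Groth.Agent.Helper1.DL
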