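import Groth.Agent.Lib.Helper1.DL3

/-!
# The regular topology on a small abelian category
-/

set_option autoImplicit false
universe u

open CategoryTheory CategoryTheory.Limits Opposite

namespace Groth.Agent.Helper1.DL

variable {A : Type u} [SmallCategory A] [Abelian A] [Preregular A]

lemma isSheaf_pY (Y : A) :
    Presheaf.IsSheaf (regularTopology A) (preadditiveYoneda.obj Y) := by
  rw [Presheaf.isSheaf_iff_isSheaf_forget _ _ (forget AddCommGrpCat.{u}),
    isSheaf_iff_isSheaf_of_type]
  exact regularTopology.isSheaf_yoneda_obj Y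

variable (A) in
/-- additive Yoneda as a functor to sheaves -/
noncomputable def yS : A ⥤ Sheaf (regularTopology A) AddCommGrpCat.{u} :=
  ObjectProperty.lift _ preadditiveYoneda isSheaf_pY

instance : (yS A).Full := by unfold yS; infer_instance

instance : (yS A).Faithful := by unfold yS; infer_instance

variable (A) in
/-- the comparison with sheafified additive Yoneda -/
noncomputable def isoG :
    yS A ≅ preadditiveYoneda ⋙ presheafToSheaf (regularTopology A) AddCommGrpCat.{u} :=
  (Functor.rightUnitor _).symm ≪≫
    Functor.isoWhiskerLeft (yS A)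
      (asIso (sheafificationAdjunction (regularTopology A) AddCommGrpCat.{u}).counit).symm ≪≫
    (Functor.associator _ _ _).symm ≪≫
    Functor.isoWhiskerRight (ObjectProperty.liftCompιIso _ preadditiveYoneda isSheaf_pY) _

theorem full_G :
    (preadditiveYoneda ⋙ presheafToSheaf (regularTopology A) AddCommGrpCat.{u}).Full :=
  Functor.Full.of_iso (isoG A)

theorem faithful_G :
    (preadditiveYoneda ⋙ presheafToSheaf (regularTopology A) AddCommGrpCat.{u}).Faithful :=
  Functor.Faithful.of_iso (isoG A)

instance preservesFiniteLimits_pY :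
    PreservesFiniteLimits (preadditiveYoneda : A ⥤ Aᵒᵖ ⥤ AddCommGrpCat.{u}) := by
  constructor
  intro J _ _
  apply preservesLimitsOfShape_of_evaluation
  intro k
  show PreservesLimitsOfShape J (preadditiveCoyoneda.obj k)
  infer_instance

theorem preservesFiniteLimits_G :
    PreservesFiniteLimits
      (preadditiveYoneda ⋙ presheafToSheaf (regularTopology A) AddCommGrpCat.{u}) :=
  inferInstance

lemma epi_G_map {X Y : A} (g : X ⟶ Y) [Epi g] :
    Epi ((preadditiveYoneda ⋙ presheafToSheaf (regularTopology A) AddCommGrpCat.{u}).map g) := by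
  have h1 : Presheaf.IsLocallySurjective (regularTopology A) (preadditiveYoneda.map g) := by
    constructor
    intro U s
    rw [regularTopology.mem_sieves_iff_hasEffectiveEpi]
    let s' : U ⟶ Y := s
    haveI : IsRegularEpi (pullback.fst s' g) := IsRegularEpiCategory.regularEpiOfEpi _
    refine ⟨pullback s' g, pullback.fst s' g, inferInstance, ⟨pullback.snd s' g, ?_⟩⟩
    exact pullback.condition.symm
  haveI h2 : Sheaf.IsLocallySurjective
      ((presheafToSheaf (regularTopology A) AddCommGrpCat.{u}).map (preadditiveYoneda.map g)) :=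
    (Presheaf.isLocallySurjective_presheafToSheaf_map_iff _ _).2 h1
  show Epi ((presheafToSheaf (regularTopology A) AddCommGrpCat.{u}).map
    (preadditiveYoneda.map g))
  exact Sheaf.epi_of_isLocallySurjective _

instance additive_pY : (preadditiveYoneda : A ⥤ Aᵒᵖ ⥤ AddCommGrpCat.{u}).Additive where
  map_add {X Y f g} := by
    ext Z x
    exact Preadditive.comp_add _ _ _ x f g

instance additive_G :
    (preadditiveYoneda ⋙ presheafToSheaf (regularTopology A) AddCommGrpCat.{u}).Additive :=
  inferInstance

theorem preservesFiniteColimits_G :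
    PreservesFiniteColimits
      (preadditiveYoneda ⋙ presheafToSheaf (regularTopology A) AddCommGrpCat.{u}) := by
  have hlim := preservesFiniteLimits_G (A := A)
  rw [Functor.preservesFiniteColimits_iff_forall_exact_map_and_epi]
  intro S hS
  have h1 := (Functor.preservesFiniteLimits_iff_forall_exact_map_and_mono _).1 hlim S hS
  refine ⟨h1.1, ?_⟩
  haveI := hS.epi_g
  exact epi_G_map S.g

theorem hasEnoughPoints_regular :
    GrothendieckTopology.HasEnoughPoints.{u} (regularTopology A) := by
  apply main
  intro U S hS
  obtain ⟨Y, π, hπ, hSπ⟩ := (regularTopology.mem_sieves_iff_hasEffectiveEpi S).1 hS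
  refine ⟨1, fun _ => Y, fun _ => π, fun _ => hSπ, ?_⟩
  rw [regularTopology.mem_sieves_iff_hasEffectiveEpi]
  exact ⟨Y, π, hπ, Sieve.ofArrows_mk _ _ (0 : Fin 1)⟩

end Groth.Agent.Helper1.DL
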