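import Groth.Agent.Lib.Helper1.TP3
import Groth.Agent.Lib.Helper1.SH1

/-!
# `(B ⊗[A] Aʰ)_M` embeds in the (strict) henselization of `B_{m'}` : plumbing
-/

set_option autoImplicit false

namespace Groth.Agent.Helper1.DM

open IsLocalRing TensorProduct Groth.Agent.Helper1

universe u

section Plumbing

variable (A B Ah : Type u) [CommRing A] [CommRing B] [Algebra A B] [CommRing Ah] [Algebra A Ah]
  (m' : Ideal B) [m'.IsPrime]
  (S₁ : Type u) [CommRing S₁] [IsLocalRing S₁] [Algebra (Localization.AtPrime m') S₁]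
  [IsLocalHom (algebraMap (Localization.AtPrime m') S₁)]
  (v : Ah →+* S₁)
  (hv : v.comp (algebraMap A Ah) =
    (algebraMap (Localization.AtPrime m') S₁).comp (algebraMap A (Localization.AtPrime m')))

include hv in
/-- the map `B ⊗[A] Ah → S₁` induced by `B → B_{m'} → S₁` and `v` -/
theorem exists_Phi : ∃ Φ : B ⊗[A] Ah →+* S₁,
    (∀ b : B, Φ (algebraMap B (B ⊗[A] Ah) b) =
      algebraMap (Localization.AtPrime m') S₁ (algebraMap B (Localization.AtPrime m') b)) ∧
    (∀ s : Ah, Φ (IH.incR A B Ah s) = v s) := by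
  letI algAS : Algebra A S₁ := ((algebraMap (Localization.AtPrime m') S₁).comp
    (algebraMap A (Localization.AtPrime m'))).toAlgebra
  let f₁ : B →ₐ[A] S₁ :=
    { (algebraMap (Localization.AtPrime m') S₁).comp (algebraMap B (Localization.AtPrime m')) with
      commutes' := fun a => by
        show algebraMap (Localization.AtPrime m') S₁
            (algebraMap B (Localization.AtPrime m') (algebraMap A B a)) =
          algebraMap (Localization.AtPrime m') S₁ (algebraMap A (Localization.AtPrime m') a)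
        rw [← IsScalarTower.algebraMap_apply A B (Localization.AtPrime m')] }
  let f₂ : Ah →ₐ[A] S₁ := { v with commutes' := fun a => RingHom.congr_fun hv a }
  let phi : B ⊗[A] Ah →ₐ[A] S₁ :=
    Algebra.TensorProduct.lift f₁ f₂ (fun _ _ => Commute.all _ _)
  have hphi : ∀ (x : B) (s : Ah), phi (x ⊗ₜ[A] s) =
      algebraMap (Localization.AtPrime m') S₁ (algebraMap B (Localization.AtPrime m') x) *
        v s := by
    intro x s
    show Algebra.TensorProduct.lift f₁ f₂ (fun _ _ => Commute.all _ _) (x ⊗ₜ[A] s) = _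
    rw [Algebra.TensorProduct.lift_tmul]
    rfl
  refine ⟨phi.toRingHom, fun b => ?_, fun s => ?_⟩
  · show phi (b ⊗ₜ[A] (1 : Ah)) = _
    rw [hphi, map_one, mul_one]
  · show phi ((1 : B) ⊗ₜ[A] s) = _
    rw [hphi, map_one, map_one, one_mul]

variable (Φ : B ⊗[A] Ah →+* S₁)
  (hΦB : ∀ b : B, Φ (algebraMap B (B ⊗[A] Ah) b) =
    algebraMap (Localization.AtPrime m') S₁ (algebraMap B (Localization.AtPrime m') b))
  (hΦA : ∀ s : Ah, Φ (IH.incR A B Ah s) = v s)
  (M : Ideal (B ⊗[A] Ah)) [M.IsPrime] (hM : M = Ideal.comap Φ (maximalIdeal S₁))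

include hΦB hM in
theorem under_eq : m' = M.comap (algebraMap B (B ⊗[A] Ah)) := by
  ext b
  rw [Ideal.mem_comap, hM, Ideal.mem_comap, hΦB]
  have h4 := ((IsLocalRing.local_hom_TFAE (algebraMap (Localization.AtPrime m') S₁)).out 0 4).mp
    (inferInstance : IsLocalHom (algebraMap (Localization.AtPrime m') S₁))
  rw [← Ideal.mem_comap, h4,
    IsLocalization.AtPrime.to_map_mem_maximal_iff (Localization.AtPrime m') m' b]

/-- the local map `B_{m'} → (B ⊗ Ah)_M` -/
noncomputable def bMap : Localization.AtPrime m' →+* Localization.AtPrime M :=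
  Localization.localRingHom m' M (algebraMap B (B ⊗[A] Ah)) (under_eq A B Ah m' S₁ Φ hΦB M hM)

theorem isLocalHom_bMap : IsLocalHom (bMap A B Ah m' S₁ Φ hΦB M hM) :=
  Localization.isLocalHom_localRingHom m' M (algebraMap B (B ⊗[A] Ah))
    (under_eq A B Ah m' S₁ Φ hΦB M hM)

theorem bMap_algebraMap (b : B) :
    bMap A B Ah m' S₁ Φ hΦB M hM (algebraMap B (Localization.AtPrime m') b) =
      algebraMap (B ⊗[A] Ah) (Localization.AtPrime M) (algebraMap B (B ⊗[A] Ah) b) :=
  Localization.localRingHom_to_map m' M (algebraMap B (B ⊗[A] Ah))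
    (under_eq A B Ah m' S₁ Φ hΦB M hM) b

/-- the map `Ah → (B ⊗ Ah)_M` -/
noncomputable def aMap : Ah →+* Localization.AtPrime M :=
  (algebraMap (B ⊗[A] Ah) (Localization.AtPrime M)).comp (IH.incR A B Ah)

include hM in
theorem isUnit_Phi (y : M.primeCompl) : IsUnit (Φ y) := by
  obtain ⟨y, hy⟩ := y
  have hy' : y ∉ M := hy
  rw [hM, Ideal.mem_comap] at hy'
  exact IsLocalRing.notMem_maximalIdeal.mp hy'

/-- the map `(B ⊗ Ah)_M → S₁` -/
noncomputable def cMap : Localization.AtPrime M →+* S₁ :=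
  IsLocalization.lift (M := M.primeCompl) (g := Φ) (isUnit_Phi A B Ah S₁ Φ M hM)

theorem cMap_algebraMap (d : B ⊗[A] Ah) :
    cMap A B Ah S₁ Φ M hM (algebraMap (B ⊗[A] Ah) (Localization.AtPrime M) d) = Φ d :=
  IsLocalization.lift_eq (isUnit_Phi A B Ah S₁ Φ M hM) d

theorem isLocalHom_cMap : IsLocalHom (cMap A B Ah S₁ Φ M hM) := by
  refine ⟨fun z hz => ?_⟩
  obtain ⟨x, y, rfl⟩ := IsLocalization.exists_mk'_eq M.primeCompl z
  have h1 : IsLocalization.mk' (Localization.AtPrime M) x y *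
      algebraMap (B ⊗[A] Ah) (Localization.AtPrime M) (y : B ⊗[A] Ah) =
      algebraMap (B ⊗[A] Ah) (Localization.AtPrime M) x := IsLocalization.mk'_spec _ x y
  have h2 : IsUnit (Φ x) := by
    rw [← cMap_algebraMap A B Ah S₁ Φ M hM x, ← h1, map_mul, cMap_algebraMap]
    exact hz.mul (isUnit_Phi A B Ah S₁ Φ M hM y)
  have h3 : x ∉ M := by
    rw [hM, Ideal.mem_comap]
    exact IsLocalRing.notMem_maximalIdeal.mpr h2
  have h4 : IsUnit (algebraMap (B ⊗[A] Ah) (Localization.AtPrime M) x) :=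
    IsLocalization.map_units (Localization.AtPrime M) (⟨x, h3⟩ : M.primeCompl)
  rw [← h1] at h4
  exact isUnit_of_mul_isUnit_left h4

omit [IsLocalRing S₁] [IsLocalHom (algebraMap (Localization.AtPrime m') S₁)] in
theorem hepi_aux (X : Type u) [CommRing X] (g₁ g₂ : Localization.AtPrime M →+* X)
    (h1 : g₁.comp (aMap A B Ah M) = g₂.comp (aMap A B Ah M))
    (h2 : ∀ b : B, g₁ (algebraMap (B ⊗[A] Ah) (Localization.AtPrime M)
        (algebraMap B (B ⊗[A] Ah) b)) =
      g₂ (algebraMap (B ⊗[A] Ah) (Localization.AtPrime M) (algebraMap B (B ⊗[A] Ah) b))) :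
    g₁ = g₂ := by
  apply IsLocalization.ringHom_ext M.primeCompl
  apply IH.ringHom_ext_tensor
  · intro b
    exact h2 b
  · intro s
    exact RingHom.congr_fun h1 s

theorem hepi (X : Type u) [CommRing X] (g₁ g₂ : Localization.AtPrime M →+* X)
    (h1 : g₁.comp (aMap A B Ah M) = g₂.comp (aMap A B Ah M))
    (h2 : g₁.comp (bMap A B Ah m' S₁ Φ hΦB M hM) = g₂.comp (bMap A B Ah m' S₁ Φ hΦB M hM)) :
    g₁ = g₂ := by
  apply hepi_aux A B Ah M X g₁ g₂ h1
  intro b
  have h := RingHom.congr_fun h2 (algebraMap B (Localization.AtPrime m') b)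
  rw [RingHom.comp_apply, RingHom.comp_apply, bMap_algebraMap] at h
  exact h

theorem hab :
    (aMap A B Ah M).comp (algebraMap A Ah) =
      (bMap A B Ah m' S₁ Φ hΦB M hM).comp (algebraMap A (Localization.AtPrime m')) := by
  refine RingHom.ext (fun a => ?_)
  show algebraMap (B ⊗[A] Ah) (Localization.AtPrime M) (IH.incR A B Ah (algebraMap A Ah a)) =
    bMap A B Ah m' S₁ Φ hΦB M hM (algebraMap A (Localization.AtPrime m') a)
  rw [IsScalarTower.algebraMap_apply A B (Localization.AtPrime m'), bMap_algebraMap,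
    IH.incR_algebraMap A B Ah a]

include hΦA in
theorem hca : (cMap A B Ah S₁ Φ M hM).comp (aMap A B Ah M) = v := by
  refine RingHom.ext (fun s => ?_)
  show cMap A B Ah S₁ Φ M hM (algebraMap (B ⊗[A] Ah) (Localization.AtPrime M)
    (IH.incR A B Ah s)) = _
  rw [cMap_algebraMap, hΦA]

theorem hcb : (cMap A B Ah S₁ Φ M hM).comp (bMap A B Ah m' S₁ Φ hΦB M hM) =
    algebraMap (Localization.AtPrime m') S₁ := by
  apply IsLocalization.ringHom_ext m'.primeCompl
  refine RingHom.ext (fun b => ?_)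
  show cMap A B Ah S₁ Φ M hM (bMap A B Ah m' S₁ Φ hΦB M hM
      (algebraMap B (Localization.AtPrime m') b)) =
    algebraMap (Localization.AtPrime m') S₁ (algebraMap B (Localization.AtPrime m') b)
  rw [bMap_algebraMap, cMap_algebraMap, hΦB]

variable [IsLocalRing A] [IsLocalRing Ah] [IsLocalHom (algebraMap A Ah)]
  [IsLocalHom (algebraMap A (Localization.AtPrime m'))]

include hv hΦA hΦB in
/-- henselization case: `(B ⊗ Ah)_M → S₁` is injective -/
theorem injective_cMap_hens [Hensel.IsHenselization A Ah]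
    [Hensel.IsHenselization (Localization.AtPrime m') S₁] :
    Function.Injective (cMap A B Ah S₁ Φ M hM) := by
  haveI := isLocalHom_bMap A B Ah m' S₁ Φ hΦB M hM
  haveI := isLocalHom_cMap A B Ah S₁ Φ M hM
  obtain ⟨hloc, hH⟩ := TP.isHenselization_of_generated A Ah (Localization.AtPrime m') S₁
    (Localization.AtPrime M) (algebraMap A (Localization.AtPrime m')) v hv
    (aMap A B Ah M) (bMap A B Ah m' S₁ Φ hΦB M hM) (cMap A B Ah S₁ Φ M hM)
    (hab A B Ah m' S₁ Φ hΦB M hM) (hca A B Ah S₁ v Φ hΦA M hM)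
    (hcb A B Ah m' S₁ Φ hΦB M hM) (hepi A B Ah m' S₁ Φ hΦB M hM)
  letI : Algebra (Localization.AtPrime M) S₁ := (cMap A B Ah S₁ Φ M hM).toAlgebra
  haveI := hloc
  haveI := hH
  haveI := HFlat.faithfullyFlat_of_isHenselization (Localization.AtPrime M) S₁
  exact FaithfulSMul.algebraMap_injective (Localization.AtPrime M) S₁

include hv hΦA hΦB in
/-- strict henselization case: `(B ⊗ Ah)_M → S₁` is injective -/
theorem injective_cMap_shens [Hensel.IsStrictHenselization A Ah]
    [Hensel.IsStrictHenselization (Localization.AtPrime m') S₁] [IsLocalHom v] :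
    Function.Injective (cMap A B Ah S₁ Φ M hM) := by
  haveI := isLocalHom_bMap A B Ah m' S₁ Φ hΦB M hM
  haveI := isLocalHom_cMap A B Ah S₁ Φ M hM
  obtain ⟨hloc, hH⟩ := TP.isStrictHenselization_of_generated A Ah (Localization.AtPrime m') S₁
    (Localization.AtPrime M) (algebraMap A (Localization.AtPrime m')) v hv
    (aMap A B Ah M) (bMap A B Ah m' S₁ Φ hΦB M hM) (cMap A B Ah S₁ Φ M hM)
    (hab A B Ah m' S₁ Φ hΦB M hM) (hca A B Ah S₁ v Φ hΦA M hM)
    (hcb A B Ah m' S₁ Φ hΦB M hM) (hepi A B Ah m' S₁ Φ hΦB M hM)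
  letI : Algebra (Localization.AtPrime M) S₁ := (cMap A B Ah S₁ Φ M hM).toAlgebra
  haveI := hloc
  haveI := hH
  haveI := HFlat.faithfullyFlat_of_isStrictHenselization (Localization.AtPrime M) S₁
  exact FaithfulSMul.algebraMap_injective (Localization.AtPrime M) S₁

end Plumbing

end Groth.Agent.Helper1.DM
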