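import Mathlib
import Groth.Agent.Lib.Helper1.HznTerm

/-!
# Normality: trace-dual lemma for simple separable extensions, an elementary criterion for
integral closedness, and directed unions of normal domains
-/

set_option autoImplicit false

namespace Groth.Agent.Helper1.NM

open Polynomial

universe u

section TraceDual

variable {B : Type u} [CommRing B] [IsDomain B] [IsIntegrallyClosed B]
  {K : Type u} [Field K] [Algebra B K] [IsFractionRing B K]

theorem aeval_root_map (q₁ : B[X]) :
    aeval (AdjoinRoot.root (q₁.map (algebraMap B K))) q₁ = 0 := by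
  rw [← Polynomial.aeval_map_algebraMap K, AdjoinRoot.aeval_eq, AdjoinRoot.mk_self]

/-- `f'(x) · (integral closure of B in K[x]) ⊆ B[x]` for `x` a root of the separable irreducible
monic `f` -/
theorem deriv_mul_mem_adjoin (q₁ : B[X]) (hq₁ : q₁.Monic)
    [hirr : Fact (Irreducible (q₁.map (algebraMap B K)))]
    (hsep : (q₁.map (algebraMap B K)).Separable)
    (w : AdjoinRoot (q₁.map (algebraMap B K))) (hw : IsIntegral B w) :
    ∃ g : B[X], aeval (AdjoinRoot.root (q₁.map (algebraMap B K))) (derivative q₁) * w =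
      aeval (AdjoinRoot.root (q₁.map (algebraMap B K))) g := by
  obtain ⟨f, hf⟩ : ∃ f : K[X], f = q₁.map (algebraMap B K) := ⟨_, rfl⟩
  subst hf
  have hfm : (q₁.map (algebraMap B K)).Monic := hq₁.map _
  haveI : Module.Finite K (AdjoinRoot (q₁.map (algebraMap B K))) := hfm.finite_adjoinRoot
  have hmin : minpoly K (AdjoinRoot.root (q₁.map (algebraMap B K))) = q₁.map (algebraMap B K) := by
    rw [AdjoinRoot.minpoly_root hfm.ne_zero, hfm.leadingCoeff, inv_one, C_1, mul_one]
  have hxsep : IsSeparable K (AdjoinRoot.root (q₁.map (algebraMap B K))) := by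
    unfold IsSeparable
    rw [hmin]
    exact hsep
  have htop : Algebra.adjoin K {AdjoinRoot.root (q₁.map (algebraMap B K))} = ⊤ :=
    AdjoinRoot.adjoinRoot_eq_top
  have hsc : separableClosure K (AdjoinRoot (q₁.map (algebraMap B K))) = ⊤ := by
    apply IntermediateField.toSubalgebra_injective
    rw [IntermediateField.top_toSubalgebra, eq_top_iff, ← htop]
    exact Algebra.adjoin_le (Set.singleton_subset_iff.mpr (mem_separableClosure_iff.mpr hxsep))
  haveI : Algebra.IsSeparable K (AdjoinRoot (q₁.map (algebraMap B K))) :=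
    (separableClosure.eq_top_iff K _).mp hsc
  have hintx : IsIntegral B (AdjoinRoot.root (q₁.map (algebraMap B K))) :=
    ⟨q₁, hq₁, by rw [← aeval_def]; exact aeval_root_map q₁⟩
  have hdual := traceForm_dualSubmodule_adjoin B K htop hintx
  have hwmem : w ∈ (Algebra.traceForm K (AdjoinRoot (q₁.map (algebraMap B K)))).dualSubmodule
      (Subalgebra.toSubmodule (Algebra.adjoin B {AdjoinRoot.root (q₁.map (algebraMap B K))})) := by
    rw [LinearMap.BilinForm.mem_dualSubmodule]
    intro y hy
    have hyint : IsIntegral B y := adjoin_le_integralClosure hintx hy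
    rw [Algebra.traceForm_apply, Submodule.mem_one]
    exact IsIntegrallyClosed.isIntegral_iff.mp (Algebra.isIntegral_trace (hw.mul hyint))
  rw [hdual, Submodule.mem_smul_pointwise_iff_exists] at hwmem
  obtain ⟨c, hc, hcw⟩ := hwmem
  have hc' : c ∈ Algebra.adjoin B {AdjoinRoot.root (q₁.map (algebraMap B K))} := hc
  rw [Algebra.adjoin_singleton_eq_range_aeval] at hc'
  obtain ⟨g, hg⟩ := hc'
  refine ⟨g, ?_⟩
  have hd : aeval (AdjoinRoot.root (q₁.map (algebraMap B K)))
      (derivative (minpoly K (AdjoinRoot.root (q₁.map (algebraMap B K))))) =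
      aeval (AdjoinRoot.root (q₁.map (algebraMap B K))) (derivative q₁) := by
    rw [hmin, Polynomial.derivative_map, Polynomial.aeval_map_algebraMap]
  have hd0 : aeval (AdjoinRoot.root (q₁.map (algebraMap B K))) (derivative q₁) ≠ 0 := by
    rw [← hd, hmin]
    apply hsep.aeval_derivative_ne_zero
    rw [AdjoinRoot.aeval_eq, AdjoinRoot.mk_self]
  rw [hd, smul_eq_mul] at hcw
  have hg' : (aeval (AdjoinRoot.root (q₁.map (algebraMap B K)))) g = c := hg
  rw [hg', ← hcw, mul_inv_cancel_left₀ hd0]

end TraceDual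

section Criterion

/-- an injective map to a field whose image contains everything integral over it exhibits a normal
domain -/
theorem isIntegrallyClosed_of_injective_field {A L : Type u} [CommRing A] [Field L]
    (ρ : A →+* L) (hinj : Function.Injective ρ)
    (h : ∀ z : L, (letI := ρ.toAlgebra; IsIntegral A z) → z ∈ ρ.range) :
    ∃ _ : IsDomain A, IsIntegrallyClosed A := by
  haveI : IsDomain A := hinj.isDomain ρ
  refine ⟨inferInstance, ?_⟩
  rw [isIntegrallyClosed_iff (FractionRing A)]
  intro x hx
  letI := ρ.toAlgebra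
  have hιx : IsIntegral A (IsFractionRing.lift (K := FractionRing A) hinj x) := by
    obtain ⟨p, hp, hpx⟩ := hx
    refine ⟨p, hp, ?_⟩
    have e : (algebraMap A L) = (IsFractionRing.lift (K := FractionRing A) hinj).comp
        (algebraMap A (FractionRing A)) := by
      ext a
      exact (IsFractionRing.lift_algebraMap hinj a).symm
    rw [e, ← Polynomial.hom_eval₂, hpx, map_zero]
  obtain ⟨a, ha⟩ := h _ hιx
  refine ⟨a, ?_⟩
  apply (IsFractionRing.lift (K := FractionRing A) hinj).injective
  rw [IsFractionRing.lift_algebraMap]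
  exact ha

/-- elementary form of integral closedness of a domain -/
def IC (D : Type u) [CommRing D] : Prop :=
  ∀ (a b : D), b ≠ 0 → ∀ (n : ℕ) (c : Fin n → D),
    a ^ n + ∑ i : Fin n, c i * a ^ (i : ℕ) * b ^ (n - i) = 0 → ∃ e, e * b = a

theorem ic_key {D : Type u} [CommRing D] {K : Type u} [Field K] [Algebra D K] (a b : D)
    (hb : algebraMap D K b ≠ 0) (n : ℕ) (c : Fin n → D) :
    (algebraMap D K b) ^ n * aeval (algebraMap D K a / algebraMap D K b) (Hzn.mpoly n c) =
      algebraMap D K (a ^ n + ∑ i : Fin n, c i * a ^ (i : ℕ) * b ^ (n - i)) := by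
  unfold Hzn.mpoly
  rw [map_add, map_pow, aeval_X, map_sum, mul_add, Finset.mul_sum, map_add, map_pow, map_sum]
  congr 1
  · rw [div_pow, mul_div_cancel₀ _ (pow_ne_zero n hb)]
  · apply Finset.sum_congr rfl
    intro i _
    rw [map_mul, aeval_C, map_pow, aeval_X, map_mul, map_mul, map_pow, map_pow, div_pow]
    have e1 : (algebraMap D K b) ^ n =
        (algebraMap D K b) ^ (i : ℕ) * (algebraMap D K b) ^ (n - i) := by
      rw [← pow_add, Nat.add_sub_cancel' i.2.le]
    rw [e1]
    have hbi : (algebraMap D K b) ^ (i : ℕ) ≠ 0 := pow_ne_zero _ hb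
    field_simp

theorem ic_of_isIntegrallyClosed (D : Type u) [CommRing D] [IsDomain D] [IsIntegrallyClosed D] :
    IC D := by
  intro a b hb n c h
  have hb' : algebraMap D (FractionRing D) b ≠ 0 := by
    rw [Ne, map_eq_zero_iff _ (IsFractionRing.injective D (FractionRing D))]
    exact hb
  have key := ic_key (K := FractionRing D) a b hb' n c
  rw [h, map_zero] at key
  have h0 : aeval (algebraMap D (FractionRing D) a / algebraMap D (FractionRing D) b)
      (Hzn.mpoly n c) = 0 := by
    rcases mul_eq_zero.mp key with h1 | h1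
    · exact absurd h1 (pow_ne_zero n hb')
    · exact h1
  have hint : IsIntegral D
      (algebraMap D (FractionRing D) a / algebraMap D (FractionRing D) b) :=
    ⟨Hzn.mpoly n c, Hzn.mpoly_monic n c, by rw [← aeval_def]; exact h0⟩
  obtain ⟨y, hy⟩ := IsIntegrallyClosed.isIntegral_iff.mp hint
  refine ⟨y, ?_⟩
  apply IsFractionRing.injective D (FractionRing D)
  rw [map_mul, hy, div_mul_cancel₀ _ hb']

theorem isIntegrallyClosed_of_ic (D : Type u) [CommRing D] [IsDomain D] (h : IC D) :
    IsIntegrallyClosed D := by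
  rw [isIntegrallyClosed_iff (FractionRing D)]
  intro x hx
  obtain ⟨a, b, hb, rfl⟩ := IsFractionRing.div_surjective (A := D) x
  have hb0 : b ≠ 0 := nonZeroDivisors.ne_zero hb
  have hb' : algebraMap D (FractionRing D) b ≠ 0 := by
    rw [Ne, map_eq_zero_iff _ (IsFractionRing.injective D (FractionRing D))]
    exact hb0
  obtain ⟨p, hp, hpx⟩ := hx
  obtain ⟨n, c, rfl⟩ := Hzn.exists_eq_mpoly hp
  have key := ic_key (K := FractionRing D) a b hb' n c
  rw [aeval_def, hpx, mul_zero] at key
  have h0 : a ^ n + ∑ i : Fin n, c i * a ^ (i : ℕ) * b ^ (n - i) = 0 := by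
    apply IsFractionRing.injective D (FractionRing D)
    rw [map_zero]
    exact key.symm
  obtain ⟨e, he⟩ := h a b hb0 n c h0
  refine ⟨e, ?_⟩
  rw [eq_div_iff hb', ← map_mul, he]

/-- a directed union of normal domains is a normal domain -/
theorem normal_of_directed_union {S : Type u} [CommRing S] [Nontrivial S]
    (h : ∀ (m : ℕ) (x : Fin m → S), ∃ (E : Type u) (_ : CommRing E) (_ : IsDomain E)
      (_ : IsIntegrallyClosed E) (φ : E →+* S), Function.Injective φ ∧ ∀ j, x j ∈ φ.range) :
    ∃ _ : IsDomain S, IsIntegrallyClosed S := by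
  haveI : NoZeroDivisors S := by
    constructor
    intro x y hxy
    obtain ⟨E, _, _, _, φ, hinj, hall⟩ := h 2 ![x, y]
    obtain ⟨ex, hex⟩ := hall 0
    obtain ⟨ey, hey⟩ := hall 1
    have hex' : φ ex = x := hex
    have hey' : φ ey = y := hey
    rw [← hex', ← hey', ← map_mul, map_eq_zero_iff φ hinj] at hxy
    rcases mul_eq_zero.mp hxy with h1 | h1
    · left; rw [← hex', h1, map_zero]
    · right; rw [← hey', h1, map_zero]
  haveI : IsDomain S := NoZeroDivisors.to_isDomain S
  refine ⟨inferInstance, isIntegrallyClosed_of_ic S ?_⟩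
  intro a b hb n c hab
  obtain ⟨E, _, _, _, φ, hinj, hall⟩ := h (n + 2) (Fin.cons a (Fin.cons b c))
  obtain ⟨a', ha'⟩ : ∃ a' : E, φ a' = a := by
    have := hall 0
    rwa [Fin.cons_zero] at this
  obtain ⟨b', hb'⟩ : ∃ b' : E, φ b' = b := by
    have := hall (Fin.succ 0)
    rwa [Fin.cons_succ, Fin.cons_zero] at this
  have hc' : ∀ i : Fin n, ∃ c' : E, φ c' = c i := by
    intro i
    have := hall (Fin.succ (Fin.succ i))
    rwa [Fin.cons_succ, Fin.cons_succ] at this
  choose c' hc' using hc'
  have hb'0 : b' ≠ 0 := by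
    rintro rfl
    rw [map_zero] at hb'
    exact hb hb'.symm
  have heq : a' ^ n + ∑ i : Fin n, c' i * a' ^ (i : ℕ) * b' ^ (n - i) = 0 := by
    apply hinj
    rw [map_zero, map_add, map_pow, map_sum, ha', ← hab]
    congr 1
    apply Finset.sum_congr rfl
    intro i _
    rw [map_mul, map_mul, map_pow, map_pow, ha', hb', hc']
  obtain ⟨e, he⟩ := ic_of_isIntegrallyClosed E a' b' hb'0 n c' heq
  refine ⟨φ e, ?_⟩
  rw [← hb', ← map_mul, he, ha']

end Criterion

end Groth.Agent.Helper1.NM
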