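import Groth.Agent.Lib.Helper1.SH6
import Groth.Agent.Lib.Helper1.NM1

/-!
# Normality passes to and from the (strict) henselization
-/

set_option autoImplicit false

namespace Groth.Agent.Helper1.NM

universe u

/-- normality descends along an injective map for which every ideal is contracted -/
theorem normal_descent {R S : Type u} [CommRing R] [CommRing S] [IsDomain S]
    [IsIntegrallyClosed S] (ψ : R →+* S) (hinj : Function.Injective ψ)
    (hcm : ∀ I : Ideal R, (I.map ψ).comap ψ = I) : ∃ _ : IsDomain R, IsIntegrallyClosed R := by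
  haveI : IsDomain R := hinj.isDomain ψ
  refine ⟨inferInstance, isIntegrallyClosed_of_ic R ?_⟩
  intro a b hb n c hab
  have hb' : ψ b ≠ 0 := fun h => hb (hinj (by rw [h, map_zero]))
  have heq : (ψ a) ^ n + ∑ i : Fin n, ψ (c i) * (ψ a) ^ (i : ℕ) * (ψ b) ^ (n - i) = 0 := by
    have h1 := congrArg ψ hab
    rw [map_zero, map_add, map_pow, map_sum] at h1
    rw [← h1]
    congr 1
    apply Finset.sum_congr rfl
    intro i _
    rw [map_mul, map_mul, map_pow, map_pow]
  obtain ⟨e, he⟩ := ic_of_isIntegrallyClosed S (ψ a) (ψ b) hb' n (fun i => ψ (c i)) heq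
  have hmem : a ∈ ((Ideal.span {b}).map ψ).comap ψ := by
    rw [Ideal.mem_comap, Ideal.map_span, Set.image_singleton, Ideal.mem_span_singleton']
    exact ⟨e, he⟩
  rw [hcm, Ideal.mem_span_singleton'] at hmem
  exact hmem

end Groth.Agent.Helper1.NM

namespace Groth.Agent.Helper1.HFlat

open Polynomial IsLocalRing

universe u

section Cls

variable {B : Type u} [CommRing B] (p : PUnit.{u + 1} → B[X])

/-- class of a polynomial in `Q p` -/
noncomputable def cls : B[X] →+* Q p :=
  (Ideal.Quotient.mk (relIdeal p)).comp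
    (ev (default : PUnit.{u + 1}) : B[X] →ₐ[B] MvPolynomial PUnit.{u + 1} B).toRingHom

theorem cls_apply (g : B[X]) :
    cls p g = Ideal.Quotient.mk (relIdeal p) (ev (default : PUnit.{u + 1}) g) := rfl

theorem cls_surjective : Function.Surjective (cls p) := by
  intro a
  obtain ⟨P, rfl⟩ := Ideal.Quotient.mk_surjective a
  obtain ⟨f, rfl⟩ := ev_default_surjective (Λ := PUnit.{u + 1}) P
  exact ⟨f, rfl⟩

theorem cls_eq_zero_iff (g : B[X]) : cls p g = 0 ↔ p default ∣ g := mk_ev_eq_zero_iff p g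

end Cls

section LocNormal

variable {B : Type u} [CommRing B] [IsLocalRing B] [IsDomain B] [IsIntegrallyClosed B]
  (p : PUnit.{u + 1} → B[X])

theorem isNormal_Loc_of_factor (hp : (p default).Monic) {κ : Type u} [Field κ] (φ : Q p →+* κ)
    (q₁ h : B[X]) (hq₁m : q₁.Monic) (hh : p default = q₁ * h)
    [hirrK : Fact (Irreducible (q₁.map (algebraMap B (FractionRing B))))]
    (hq₁φ : φ (cls p q₁) = 0) (hq₁' : φ (cls p (derivative q₁)) ≠ 0) (hhφ : φ (cls p h) ≠ 0) :
    ∃ _ : IsDomain (Loc p φ), IsIntegrallyClosed (Loc p φ) := by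
  have hβ : ∀ l, (p l).eval₂
      (algebraMap B (AdjoinRoot (q₁.map (algebraMap B (FractionRing B)))))
      ((fun _ : PUnit.{u + 1} => AdjoinRoot.root (q₁.map (algebraMap B (FractionRing B)))) l)
        = 0 := by
    intro l
    show (p default).eval₂ _ (AdjoinRoot.root (q₁.map (algebraMap B (FractionRing B)))) = 0
    rw [hh, eval₂_mul, ← aeval_def, NM.aeval_root_map, zero_mul]
  obtain ⟨θ, hθ⟩ : ∃ θ : Q p →+* AdjoinRoot (q₁.map (algebraMap B (FractionRing B))),
      θ = liftQ p _ _ hβ := ⟨_, rfl⟩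
  have hθcls : ∀ g : B[X], θ (cls p g) =
      aeval (AdjoinRoot.root (q₁.map (algebraMap B (FractionRing B)))) g := by
    intro g
    rw [hθ]
    unfold liftQ
    rw [cls_apply, Ideal.Quotient.lift_mk, eval₂Hom_ev, aeval_def]
  have hθ0 : ∀ g : B[X], θ (cls p g) = 0 ↔ q₁ ∣ g := by
    intro g
    rw [hθcls, ← Polynomial.aeval_map_algebraMap (FractionRing B), AdjoinRoot.aeval_eq,
      AdjoinRoot.mk_eq_zero]
    exact Polynomial.map_dvd_map _ (IsFractionRing.injective B (FractionRing B)) hq₁m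
  have hunit : ∀ y : (RingHom.ker φ).primeCompl, IsUnit (θ y) := by
    intro y
    rw [isUnit_iff_ne_zero]
    intro hy0
    have hy : (y : Q p) ∉ RingHom.ker φ := y.2
    obtain ⟨g, hg⟩ := cls_surjective p (y : Q p)
    rw [← hg, hθ0] at hy0
    obtain ⟨g', rfl⟩ := hy0
    apply hy
    rw [RingHom.mem_ker, ← hg, map_mul, map_mul, hq₁φ, zero_mul]
  obtain ⟨ρ, hρ⟩ : ∃ ρ : Loc p φ →+* AdjoinRoot (q₁.map (algebraMap B (FractionRing B))),
      ρ = IsLocalization.lift hunit := ⟨_, rfl⟩
  have hρalg : ∀ a : Q p, ρ (algebraMap (Q p) (Loc p φ) a) = θ a := by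
    intro a
    rw [hρ, IsLocalization.lift_eq]
  have hhmem : cls p h ∈ (RingHom.ker φ).primeCompl := by
    show cls p h ∉ RingHom.ker φ
    rw [RingHom.mem_ker]
    exact hhφ
  have hq₁'mem : cls p (derivative q₁) ∈ (RingHom.ker φ).primeCompl := by
    show cls p (derivative q₁) ∉ RingHom.ker φ
    rw [RingHom.mem_ker]
    exact hq₁'
  have hq₁0 : algebraMap (Q p) (Loc p φ) (cls p q₁) = 0 := by
    have hu : IsUnit (algebraMap (Q p) (Loc p φ) (cls p h)) :=
      IsLocalization.map_units (Loc p φ) (⟨cls p h, hhmem⟩ : (RingHom.ker φ).primeCompl)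
    have h0 : algebraMap (Q p) (Loc p φ) (cls p q₁) * algebraMap (Q p) (Loc p φ) (cls p h)
        = 0 := by
      rw [← map_mul, ← map_mul, ← hh, (cls_eq_zero_iff p _).mpr dvd_rfl, map_zero]
    exact (hu.mul_left_eq_zero).mp h0
  have hinj : Function.Injective ρ := by
    rw [injective_iff_map_eq_zero]
    intro y hy
    obtain ⟨a, s, rfl⟩ := IsLocalization.exists_mk'_eq (RingHom.ker φ).primeCompl y
    have h1 := IsLocalization.mk'_spec (Loc p φ) a s
    have h2 : θ a = 0 := by
      rw [← hρalg, ← h1, map_mul, hy, zero_mul]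
    obtain ⟨g, rfl⟩ := cls_surjective p a
    rw [hθ0] at h2
    obtain ⟨g', rfl⟩ := h2
    have h3 : algebraMap (Q p) (Loc p φ) (cls p (q₁ * g')) = 0 := by
      rw [map_mul, map_mul, hq₁0, zero_mul]
    rw [h3] at h1
    exact ((IsLocalization.map_units (Loc p φ) s).mul_left_eq_zero).mp h1
  have hsep : (q₁.map (algebraMap B (FractionRing B))).Separable := by
    rw [Polynomial.separable_iff_derivative_ne_zero hirrK.out, Polynomial.derivative_map]
    intro h0
    have h1 : derivative q₁ = 0 :=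
      Polynomial.map_injective _ (IsFractionRing.injective B (FractionRing B))
        (by rw [h0, Polynomial.map_zero])
    rw [h1, map_zero, map_zero] at hq₁'
    exact hq₁' rfl
  refine NM.isIntegrallyClosed_of_injective_field (A := Loc p φ) ρ hinj ?_
  intro z hz
  letI algQ : Algebra (Q p) (AdjoinRoot (q₁.map (algebraMap B (FractionRing B)))) := θ.toAlgebra
  letI algA : Algebra (Loc p φ) (AdjoinRoot (q₁.map (algebraMap B (FractionRing B)))) :=
    ρ.toAlgebra
  haveI : IsScalarTower (Q p) (Loc p φ) (AdjoinRoot (q₁.map (algebraMap B (FractionRing B)))) :=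
    IsScalarTower.of_algebraMap_eq (fun a => (hρalg a).symm)
  have hθB : ∀ b : B, algebraMap B (AdjoinRoot (q₁.map (algebraMap B (FractionRing B)))) b =
      θ (algebraMap B (Q p) b) := by
    intro b
    rw [hθ, liftQ_algebraMap]
  haveI hST2 := IsScalarTower.of_algebraMap_eq (R := B) (S := Q p)
    (A := AdjoinRoot (q₁.map (algebraMap B (FractionRing B)))) hθB
  haveI : Algebra.IsIntegral B (Q p) := isIntegral_Q p (fun _ => hp)
  obtain ⟨m, hm⟩ := IsIntegral.exists_multiple_integral_of_isLocalization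
    (RingHom.ker φ).primeCompl z hz
  have hmB : IsIntegral B (m • z) := isIntegral_trans (A := Q p) _ hm
  have hmz : m • z = θ m * z := rfl
  rw [hmz] at hmB
  obtain ⟨g, hg⟩ := NM.deriv_mul_mem_adjoin q₁ hq₁m hsep (θ m * z) hmB
  rw [← hθcls, ← hθcls, ← mul_assoc, ← map_mul] at hg
  have hmem : cls p (derivative q₁) * (m : Q p) ∈ (RingHom.ker φ).primeCompl :=
    Submonoid.mul_mem _ hq₁'mem m.2
  have hs0 : θ (cls p (derivative q₁) * (m : Q p)) ≠ 0 := (hunit ⟨_, hmem⟩).ne_zero
  refine ⟨IsLocalization.mk' (Loc p φ) (cls p g)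
    (⟨cls p (derivative q₁) * m, hmem⟩ : (RingHom.ker φ).primeCompl), ?_⟩
  have h1 := IsLocalization.mk'_spec (Loc p φ) (cls p g)
    (⟨cls p (derivative q₁) * m, hmem⟩ : (RingHom.ker φ).primeCompl)
  have h2 := congrArg ρ h1
  rw [map_mul, hρalg, hρalg] at h2
  apply mul_right_cancel₀ hs0
  rw [mul_comm z, hg]
  exact h2

theorem isNormal_Loc_single (hp : (p default).Monic) {κ : Type u} [Field κ] (φ : Q p →+* κ)
    (hφ : φ (Ideal.Quotient.mk _ (ev (default : PUnit.{u + 1}) (derivative (p default)))) ≠ 0) :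
    ∃ _ : IsDomain (Loc p φ), IsIntegrallyClosed (Loc p φ) := by
  classical
  change φ (cls p (derivative (p default))) ≠ 0 at hφ
  have hex : ∃ n : ℕ, ∃ q₁ : B[X], q₁.Monic ∧ q₁ ∣ p default ∧ φ (cls p q₁) = 0 ∧
      q₁.natDegree = n :=
    ⟨_, p default, hp, dvd_rfl, by rw [(cls_eq_zero_iff p _).mpr dvd_rfl, map_zero], rfl⟩
  obtain ⟨q₁, hq₁m, hq₁d, hq₁φ, hq₁n⟩ := Nat.find_spec hex
  have hmin : ∀ q₂ : B[X], q₂.Monic → q₂ ∣ p default → φ (cls p q₂) = 0 →
      q₁.natDegree ≤ q₂.natDegree := by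
    intro q₂ h1 h2 h3
    rw [hq₁n]
    exact Nat.find_min' hex ⟨q₂, h1, h2, h3, rfl⟩
  have hirr : Irreducible q₁ := by
    rw [hq₁m.irreducible_iff_natDegree]
    refine ⟨?_, ?_⟩
    · intro h1
      rw [h1, map_one, map_one] at hq₁φ
      exact one_ne_zero hq₁φ
    · intro f g hf hg hfg
      have hdeg : q₁.natDegree = f.natDegree + g.natDegree := by
        rw [← hfg, hf.natDegree_mul hg]
      have h0 : φ (cls p f) * φ (cls p g) = 0 := by
        rw [← map_mul, ← map_mul, hfg, hq₁φ]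
      rcases mul_eq_zero.mp h0 with h1 | h1
      · right
        have := hmin f hf (dvd_trans (Dvd.intro _ hfg) hq₁d) h1
        omega
      · left
        have := hmin g hg (dvd_trans (Dvd.intro_left _ hfg) hq₁d) h1
        omega
  have hirrK : Irreducible (q₁.map (algebraMap B (FractionRing B))) :=
    (hq₁m.irreducible_iff_irreducible_map_fraction_map).mp hirr
  haveI : Fact (Irreducible (q₁.map (algebraMap B (FractionRing B)))) := ⟨hirrK⟩
  obtain ⟨h, hh⟩ := hq₁d
  have hder : φ (cls p (derivative (p default))) =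
      φ (cls p (derivative q₁)) * φ (cls p h) := by
    rw [hh, derivative_mul, map_add, map_add, map_mul, map_mul, map_mul, map_mul, hq₁φ,
      zero_mul, add_zero]
  have hq₁' : φ (cls p (derivative q₁)) ≠ 0 := fun h0 => hφ (by rw [hder, h0, zero_mul])
  have hhφ : φ (cls p h) ≠ 0 := fun h0 => hφ (by rw [hder, h0, mul_zero])
  exact isNormal_Loc_of_factor p hp φ q₁ h hq₁m hh hq₁φ hq₁' hhφ

end LocNormal

section Good

variable {R S : Type u} [CommRing R] [IsLocalRing R] [CommRing S] [HenselianLocalRing S]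
  {ψ : R →+* S}

theorem GoodMap.isNormal [IsDomain R] [IsIntegrallyClosed R] {E : LocRing.{u}} {φ : E.A →+* S}
    (hg : GoodMap ψ E φ) : ∃ _ : IsDomain E.A, IsIntegrallyClosed E.A := by
  induction hg with
  | base => exact ⟨‹IsDomain R›, ‹IsIntegrallyClosed R›⟩
  | step E φ δ h ih =>
    obtain ⟨hd, hic⟩ := ih
    apply isNormal_Loc_single (dpoly fun _ : PUnit.{u + 1} => δ)
      (dpoly_monic (fun _ : PUnit.{u + 1} => δ) default) (dφ fun _ : PUnit.{u + 1} => δ)
    rw [dφ_mk_ev]
    exact (residue_ne_zero_iff_isUnit _).mpr δ.2.2.2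

theorem SGoodMap.isNormal [IsDomain R] [IsIntegrallyClosed R] {E : LocRing.{u}} {φ : E.A →+* S}
    (hg : SGoodMap ψ E φ) : ∃ _ : IsDomain E.A, IsIntegrallyClosed E.A := by
  induction hg with
  | base => exact ⟨‹IsDomain R›, ‹IsIntegrallyClosed R›⟩
  | step E φ δ h ih =>
    obtain ⟨hd, hic⟩ := ih
    apply isNormal_Loc_single (spoly fun _ : PUnit.{u + 1} => δ)
      (spoly_monic (fun _ : PUnit.{u + 1} => δ) default) (sψ fun _ : PUnit.{u + 1} => δ)
    rw [sψ_mk_ev, ← Polynomial.derivative_map]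
    exact (residue_ne_zero_iff_isUnit _).mpr
      (spoly_isUnit (fun _ : PUnit.{u + 1} => δ) default)

theorem isNormal_of_isHensHom (hψ : IsHensHom ψ) [IsDomain R] [IsIntegrallyClosed R] :
    ∃ _ : IsDomain S, IsIntegrallyClosed S := by
  haveI := hψ.isLocalHom
  apply NM.normal_of_directed_union
  intro m x
  obtain ⟨E, φ, g, hx⟩ := exists_good_fin hψ x
  obtain ⟨hd, hic⟩ := g.isNormal
  exact ⟨E.A, inferInstance, hd, hic, φ, (g.isHensHom hψ).injective, hx⟩

theorem isNormal_of_isSHensHom (hψ : IsSHensHom ψ) [IsDomain R] [IsIntegrallyClosed R] :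
    ∃ _ : IsDomain S, IsIntegrallyClosed S := by
  haveI := hψ.isLocalHom
  apply NM.normal_of_directed_union
  intro m x
  obtain ⟨E, φ, g, hx⟩ := exists_sgood_fin hψ x
  obtain ⟨hd, hic⟩ := g.isNormal
  exact ⟨E.A, inferInstance, hd, hic, φ, (g.isSHensHom hψ).injective, hx⟩

end Good

theorem isNormal_iff_of_isHenselization (R : Type u) [CommRing R] [IsLocalRing R]
    (S : Type u) [CommRing S] [IsLocalRing S] [Algebra R S] [IsLocalHom (algebraMap R S)]
    [Hensel.IsHenselization R S] :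
    (IsDomain R ∧ IsIntegrallyClosed R) ↔ (IsDomain S ∧ IsIntegrallyClosed S) := by
  haveI hS : HenselianLocalRing S := Hensel.IsHenselization.henselian (R := R)
  have hψ : IsHensHom (algebraMap R S) := IsHensHom.of_isHenselization R S
  constructor
  · rintro ⟨h1, h2⟩
    obtain ⟨h3, h4⟩ := isNormal_of_isHensHom hψ
    exact ⟨h3, h4⟩
  · rintro ⟨h1, h2⟩
    obtain ⟨h3, h4⟩ := NM.normal_descent (algebraMap R S) hψ.injective hψ.comap_map
    exact ⟨h3, h4⟩

theorem isNormal_iff_of_isStrictHenselization (R : Type u) [CommRing R] [IsLocalRing R]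
    (S : Type u) [CommRing S] [IsLocalRing S] [Algebra R S] [IsLocalHom (algebraMap R S)]
    [Hensel.IsStrictHenselization R S] :
    (IsDomain R ∧ IsIntegrallyClosed R) ↔ (IsDomain S ∧ IsIntegrallyClosed S) := by
  haveI hS : HenselianLocalRing S := Hensel.IsStrictHenselization.henselian (R := R)
  have hψ : IsSHensHom (algebraMap R S) := IsSHensHom.of_isStrictHenselization R S
  constructor
  · rintro ⟨h1, h2⟩
    obtain ⟨h3, h4⟩ := isNormal_of_isSHensHom hψ
    exact ⟨h3, h4⟩
  · rintro ⟨h1, h2⟩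
    obtain ⟨h3, h4⟩ := NM.normal_descent (algebraMap R S) hψ.injective hψ.comap_map
    exact ⟨h3, h4⟩

end Groth.Agent.Helper1.HFlat
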