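import Groth.Agent.Lib.Helper1.DM1
import Groth.Agent.Lib.Helper1.NM2

/-!
# `(B ⊗[A] Aʰ)_M` is a domain when `B` is integral over `A` with normal local rings
-/

set_option autoImplicit false

namespace Groth.Agent.Helper1.DM

open IsLocalRing TensorProduct Groth.Agent.Helper1

universe u

section Gen

variable (A B Ah : Type u) [CommRing A] [IsLocalRing A] [CommRing B] [Algebra A B]
  [Algebra.IsIntegral A B] [CommRing Ah] [IsLocalRing Ah] [Algebra A Ah]
  [IsLocalHom (algebraMap A Ah)]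

theorem comap_incR_eq (M : Ideal (B ⊗[A] Ah)) [M.IsMaximal] :
    M.comap (IH.incR A B Ah) = maximalIdeal Ah :=
  IsLocalRing.eq_maximalIdeal
    (Ideal.isMaximal_comap_of_isIntegral_of_isMaximal' _ (IH.incR_isIntegral A B Ah) M)

theorem comap_comap_eq (M : Ideal (B ⊗[A] Ah)) [M.IsMaximal] :
    (M.comap (algebraMap B (B ⊗[A] Ah))).comap (algebraMap A B) = maximalIdeal A := by
  rw [Ideal.comap_comap, ← IH.incR_comp_algebraMap, ← Ideal.comap_comap, comap_incR_eq]
  exact ((IsLocalRing.local_hom_TFAE (algebraMap A Ah)).out 0 4).mp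
    ‹IsLocalHom (algebraMap A Ah)›

theorem isMaximal_comap (M : Ideal (B ⊗[A] Ah)) [M.IsMaximal] :
    (M.comap (algebraMap B (B ⊗[A] Ah))).IsMaximal := by
  haveI : (M.comap (algebraMap B (B ⊗[A] Ah))).IsPrime := Ideal.comap_isPrime _ _
  apply Ideal.isMaximal_of_isIntegral_of_isMaximal_comap (R := A)
  rw [comap_comap_eq]
  exact maximalIdeal.isMaximal A

omit [Algebra.IsIntegral A B] in
theorem isLocalHom_algebraMap_loc (m' : Ideal B) [m'.IsPrime]
    (h : m'.comap (algebraMap A B) = maximalIdeal A) :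
    IsLocalHom (algebraMap A (Localization.AtPrime m')) := by
  refine ⟨fun a ha => ?_⟩
  rw [IsScalarTower.algebraMap_apply A B (Localization.AtPrime m'),
    IsLocalization.AtPrime.isUnit_to_map_iff (Localization.AtPrime m') m'] at ha
  by_contra hnu
  have h1 : a ∈ maximalIdeal A := (mem_maximalIdeal a).mpr hnu
  rw [← h] at h1
  exact ha h1

/-- a prime of `B ⊗ Ah` lying over the maximal ideal of `Ah` is maximal -/
theorem isMaximal_of_comap_incR (M : Ideal (B ⊗[A] Ah)) [M.IsPrime]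
    (h : M.comap (IH.incR A B Ah) = maximalIdeal Ah) : M.IsMaximal := by
  apply Ideal.isMaximal_of_isIntegral_of_isMaximal_comap' (IH.incR A B Ah)
    (IH.incR_isIntegral A B Ah)
  rw [h]
  exact maximalIdeal.isMaximal Ah

section Hens

variable [Hensel.IsHenselization A Ah]

omit [Algebra.IsIntegral A B] in
theorem exists_sub_tmul_mem (c : B ⊗[A] Ah) :
    ∃ b : B, c - b ⊗ₜ[A] (1 : Ah) ∈ (maximalIdeal Ah).map (IH.incR A B Ah) := by
  induction c using TensorProduct.induction_on with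
  | zero => exact ⟨0, by rw [TensorProduct.zero_tmul, sub_zero]; exact Ideal.zero_mem _⟩
  | tmul b s =>
    obtain ⟨a, ha⟩ := Hzn.exists_sub_mem_of_isHenselization A Ah s
    rw [Hzn.map_maximalIdeal_eq_of_isHenselization] at ha
    refine ⟨a • b, ?_⟩
    have h1 : b ⊗ₜ[A] s - (a • b) ⊗ₜ[A] (1 : Ah) =
        (b ⊗ₜ[A] (1 : Ah)) * IH.incR A B Ah (s - algebraMap A Ah a) := by
      rw [IH.incR_apply, Algebra.TensorProduct.tmul_mul_tmul, mul_one, one_mul,
        TensorProduct.tmul_sub, TensorProduct.smul_tmul, Algebra.algebraMap_eq_smul_one]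
    rw [h1]
    exact Ideal.mul_mem_left _ _ (Ideal.mem_map_of_mem _ ha)
  | add x y hx hy =>
    obtain ⟨b₁, h₁⟩ := hx
    obtain ⟨b₂, h₂⟩ := hy
    refine ⟨b₁ + b₂, ?_⟩
    have e : x + y - (b₁ + b₂) ⊗ₜ[A] (1 : Ah) =
        (x - b₁ ⊗ₜ[A] (1 : Ah)) + (y - b₂ ⊗ₜ[A] (1 : Ah)) := by
      rw [TensorProduct.add_tmul]; ring
    rw [e]
    exact Ideal.add_mem _ h₁ h₂

theorem le_of_comap_eq (N₁ N₂ : Ideal (B ⊗[A] Ah)) [N₁.IsMaximal] [N₂.IsMaximal]
    (hN : N₁.comap (algebraMap B (B ⊗[A] Ah)) = N₂.comap (algebraMap B (B ⊗[A] Ah))) :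
    N₁ ≤ N₂ := by
  intro c hc
  obtain ⟨b, hb⟩ := exists_sub_tmul_mem A B Ah c
  have hle₁ : (maximalIdeal Ah).map (IH.incR A B Ah) ≤ N₁ := by
    rw [Ideal.map_le_iff_le_comap, comap_incR_eq]
  have hle₂ : (maximalIdeal Ah).map (IH.incR A B Ah) ≤ N₂ := by
    rw [Ideal.map_le_iff_le_comap, comap_incR_eq]
  have h1 : b ⊗ₜ[A] (1 : Ah) ∈ N₁ := by
    have := N₁.sub_mem hc (hle₁ hb)
    rwa [sub_sub_cancel] at this
  have h2 : b ∈ N₁.comap (algebraMap B (B ⊗[A] Ah)) := h1
  rw [hN] at h2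
  have h3 : b ⊗ₜ[A] (1 : Ah) ∈ N₂ := h2
  have := N₂.add_mem (hle₂ hb) h3
  rwa [sub_add_cancel] at this

theorem eq_of_comap_eq (M₁ M₂ : Ideal (B ⊗[A] Ah)) [M₁.IsMaximal] [M₂.IsMaximal]
    (h : M₁.comap (algebraMap B (B ⊗[A] Ah)) = M₂.comap (algebraMap B (B ⊗[A] Ah))) :
    M₁ = M₂ :=
  le_antisymm (le_of_comap_eq A B Ah M₁ M₂ h) (le_of_comap_eq A B Ah M₂ M₁ h.symm)

theorem isDomain_localization_hens (M : Ideal (B ⊗[A] Ah)) [hMmax : M.IsMaximal]
    (hnorm : ∀ (m' : Ideal B) [m'.IsMaximal],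
      IsDomain (Localization.AtPrime m') ∧ IsIntegrallyClosed (Localization.AtPrime m')) :
    IsDomain (Localization.AtPrime M) := by
  obtain ⟨m', hm'⟩ : ∃ m' : Ideal B, m' = M.comap (algebraMap B (B ⊗[A] Ah)) := ⟨_, rfl⟩
  haveI hm'max : m'.IsMaximal := by rw [hm']; exact isMaximal_comap A B Ah M
  haveI : IsLocalHom (algebraMap A (Localization.AtPrime m')) :=
    isLocalHom_algebraMap_loc A B m' (by rw [hm']; exact comap_comap_eq A B Ah M)
  obtain ⟨hdom, hic⟩ := hnorm m'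
  haveI : Hensel.IsHenselization (Localization.AtPrime m') (Hzn.S (Localization.AtPrime m')) :=
    Hzn.isHenselization _
  have hfloc : IsLocalHom ((algebraMap (Localization.AtPrime m')
      (Hzn.S (Localization.AtPrime m'))).comp (algebraMap A (Localization.AtPrime m'))) :=
    RingHom.isLocalHom_comp _ _
  obtain ⟨v, hv0, -⟩ := Hensel.IsHenselization.universal (R := A) (S := Ah)
    (Hzn.S (Localization.AtPrime m')) _ hfloc
  have hv : v.comp (algebraMap A Ah) = (algebraMap (Localization.AtPrime m')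
      (Hzn.S (Localization.AtPrime m'))).comp (algebraMap A (Localization.AtPrime m')) := hv0
  haveI hvloc : IsLocalHom v := TP.isLocalHom_of_comp_eq' A Ah (Localization.AtPrime m')
    (Hzn.S (Localization.AtPrime m')) (Hzn.map_maximalIdeal_eq_of_isHenselization A Ah)
    (algebraMap A (Localization.AtPrime m')) v hv
  obtain ⟨Φ, hΦB, hΦA⟩ := exists_Phi A B Ah m' (Hzn.S (Localization.AtPrime m')) v hv
  haveI hM₁p : (Ideal.comap Φ (maximalIdeal (Hzn.S (Localization.AtPrime m')))).IsPrime :=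
    Ideal.comap_isPrime _ _
  have hM₁A : (Ideal.comap Φ (maximalIdeal (Hzn.S (Localization.AtPrime m')))).comap
      (IH.incR A B Ah) = maximalIdeal Ah := by
    rw [Ideal.comap_comap]
    have : Φ.comp (IH.incR A B Ah) = v := RingHom.ext hΦA
    rw [this]
    exact ((IsLocalRing.local_hom_TFAE v).out 0 4).mp hvloc
  haveI hM₁max : (Ideal.comap Φ (maximalIdeal (Hzn.S (Localization.AtPrime m')))).IsMaximal :=
    isMaximal_of_comap_incR A B Ah _ hM₁A
  have hM₁B : m' = (Ideal.comap Φ (maximalIdeal (Hzn.S (Localization.AtPrime m')))).comap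
      (algebraMap B (B ⊗[A] Ah)) :=
    under_eq A B Ah m' (Hzn.S (Localization.AtPrime m')) Φ hΦB _ rfl
  have hM : M = Ideal.comap Φ (maximalIdeal (Hzn.S (Localization.AtPrime m'))) :=
    eq_of_comap_eq A B Ah M _ (by rw [← hm', ← hM₁B])
  have hinj := injective_cMap_hens A B Ah m' (Hzn.S (Localization.AtPrime m')) v hv Φ hΦB hΦA
    M hM
  haveI : IsDomain (Hzn.S (Localization.AtPrime m')) :=
    ((HFlat.isNormal_iff_of_isHenselization (Localization.AtPrime m')
      (Hzn.S (Localization.AtPrime m'))).mp ⟨hdom, hic⟩).1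
  exact hinj.isDomain _

end Hens

end Gen

end Groth.Agent.Helper1.DM
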