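import Groth.Agent.Lib.Helper1.DM2

/-!
# `(B ⊗[A] Aˢʰ)_M` is a domain when `B` is integral over `A` with normal local rings
-/

set_option autoImplicit false

namespace Groth.Agent.Helper1.DM

open IsLocalRing TensorProduct Groth.Agent.Helper1

universe u

section Strict

variable (A B Ah : Type u) [CommRing A] [IsLocalRing A] [CommRing B] [Algebra A B]
  [Algebra.IsIntegral A B] [CommRing Ah] [IsLocalRing Ah] [Algebra A Ah]
  [IsLocalHom (algebraMap A Ah)]

theorem isLocalHom_aMap (M : Ideal (B ⊗[A] Ah)) [M.IsMaximal] :
    IsLocalHom (aMap A B Ah M) := by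
  refine ⟨fun s hs => ?_⟩
  have h1 : IsUnit (algebraMap (B ⊗[A] Ah) (Localization.AtPrime M) (IH.incR A B Ah s)) := hs
  rw [IsLocalization.AtPrime.isUnit_to_map_iff (Localization.AtPrime M) M] at h1
  by_contra hnu
  have h2 : s ∈ maximalIdeal Ah := (mem_maximalIdeal s).mpr hnu
  rw [← comap_incR_eq A B Ah M] at h2
  exact h1 h2

theorem isDomain_localization_shens [Hensel.IsStrictHenselization A Ah]
    (M : Ideal (B ⊗[A] Ah)) [hMmax : M.IsMaximal]
    (hnorm : ∀ (m' : Ideal B) [m'.IsMaximal],
      IsDomain (Localization.AtPrime m') ∧ IsIntegrallyClosed (Localization.AtPrime m')) :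
    IsDomain (Localization.AtPrime M) := by
  obtain ⟨m', hm'⟩ : ∃ m' : Ideal B, m' = M.comap (algebraMap B (B ⊗[A] Ah)) := ⟨_, rfl⟩
  haveI hm'max : m'.IsMaximal := by rw [hm']; exact isMaximal_comap A B Ah M
  haveI hu : IsLocalHom (algebraMap A (Localization.AtPrime m')) :=
    isLocalHom_algebraMap_loc A B m' (by rw [hm']; exact comap_comap_eq A B Ah M)
  obtain ⟨hdom, hic⟩ := hnorm m'
  obtain ⟨S₁, _, _, _, _, hS₁⟩ : ∃ (S₁ : Type u) (_ : CommRing S₁) (_ : IsLocalRing S₁)
      (_ : Algebra (Localization.AtPrime m') S₁)
      (_ : IsLocalHom (algebraMap (Localization.AtPrime m') S₁)),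
      Hensel.IsStrictHenselization (Localization.AtPrime m') S₁ :=
    ⟨SHzn.S (Localization.AtPrime m'), inferInstance, inferInstance, inferInstance, inferInstance,
      SHzn.isStrictHenselization _⟩
  haveI := hS₁
  haveI hS₁h : HenselianLocalRing S₁ :=
    Hensel.IsStrictHenselization.henselian (R := Localization.AtPrime m')
  haveI : IsSepClosed (ResidueField S₁) :=
    (Hensel.IsStrictHenselization.isSepClosure (R := Localization.AtPrime m') (S := S₁)).sep_closed
  haveI : Algebra.IsSeparable (ResidueField A) (ResidueField Ah) :=
    (Hensel.IsStrictHenselization.isSepClosure (R := A) (S := Ah)).separable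
  obtain ⟨b₀, hb₀loc, hb₀⟩ : ∃ b₀ : Localization.AtPrime m' →+* Localization.AtPrime M,
      IsLocalHom b₀ ∧ ∀ b : B, b₀ (algebraMap B (Localization.AtPrime m') b) =
        algebraMap (B ⊗[A] Ah) (Localization.AtPrime M) (algebraMap B (B ⊗[A] Ah) b) :=
    ⟨Localization.localRingHom m' M (algebraMap B (B ⊗[A] Ah)) hm',
      Localization.isLocalHom_localRingHom _ _ _ hm',
      fun b => Localization.localRingHom_to_map _ _ _ hm' b⟩
  haveI := hb₀loc
  haveI ha₀loc : IsLocalHom (aMap A B Ah M) := isLocalHom_aMap A B Ah M
  have hab₀ : ∀ a : A, aMap A B Ah M (algebraMap A Ah a) =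
      b₀ (algebraMap A (Localization.AtPrime m') a) := by
    intro a
    show algebraMap (B ⊗[A] Ah) (Localization.AtPrime M) (IH.incR A B Ah (algebraMap A Ah a)) = _
    rw [IsScalarTower.algebraMap_apply A B (Localization.AtPrime m'), hb₀,
      IH.incR_algebraMap A B Ah a]
  haveI hbu : IsLocalHom (b₀.comp (algebraMap A (Localization.AtPrime m'))) :=
    RingHom.isLocalHom_comp _ _
  letI algk'F : Algebra (ResidueField (Localization.AtPrime m'))
      (ResidueField (Localization.AtPrime M)) := (ResidueField.map b₀).toAlgebra
  letI algKsF : Algebra (ResidueField Ah) (ResidueField (Localization.AtPrime M)) :=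
    (ResidueField.map (aMap A B Ah M)).toAlgebra
  letI algkF : Algebra (ResidueField A) (ResidueField (Localization.AtPrime M)) :=
    (ResidueField.map (b₀.comp (algebraMap A (Localization.AtPrime m')))).toAlgebra
  haveI tower1 : IsScalarTower (ResidueField A) (ResidueField (Localization.AtPrime m'))
      (ResidueField (Localization.AtPrime M)) :=
    IsScalarTower.of_algebraMap_eq (fun x => by
      obtain ⟨a, rfl⟩ := residue_surjective x
      show ResidueField.map (b₀.comp (algebraMap A (Localization.AtPrime m'))) (residue A a) =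
        ResidueField.map b₀ (ResidueField.map (algebraMap A (Localization.AtPrime m'))
          (residue A a))
      rw [ResidueField.map_residue, ResidueField.map_residue, ResidueField.map_residue]
      rfl)
  haveI tower2 : IsScalarTower (ResidueField A) (ResidueField Ah)
      (ResidueField (Localization.AtPrime M)) :=
    IsScalarTower.of_algebraMap_eq (fun x => by
      obtain ⟨a, rfl⟩ := residue_surjective x
      show ResidueField.map (b₀.comp (algebraMap A (Localization.AtPrime m'))) (residue A a) =
        ResidueField.map (aMap A B Ah M) (ResidueField.map (algebraMap A Ah) (residue A a))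
      rw [ResidueField.map_residue, ResidueField.map_residue, ResidueField.map_residue, hab₀]
      rfl)
  haveI hsep : Algebra.IsSeparable (ResidueField (Localization.AtPrime m'))
      (ResidueField (Localization.AtPrime M)) := by
    have key : ∀ c : B ⊗[A] Ah, residue (Localization.AtPrime M)
        (algebraMap (B ⊗[A] Ah) (Localization.AtPrime M) c) ∈
        separableClosure (ResidueField (Localization.AtPrime m'))
          (ResidueField (Localization.AtPrime M)) := by
      intro c
      induction c using TensorProduct.induction_on with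
      | zero => rw [map_zero, map_zero]; exact zero_mem _
      | tmul b s =>
        rw [IH.tmul_eq_mul, map_mul, map_mul]
        apply mul_mem
        · rw [← hb₀ b, ← ResidueField.map_residue b₀]
          exact IntermediateField.algebraMap_mem _
            (residue _ (algebraMap B (Localization.AtPrime m') b))
        · rw [mem_separableClosure_iff]
          have h1 : IsSeparable (ResidueField A) (residue Ah s) :=
            Algebra.IsSeparable.isSeparable (ResidueField A) _
          have h2 := h1.map (IsScalarTower.toAlgHom (ResidueField A) (ResidueField Ah)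
            (ResidueField (Localization.AtPrime M))) (RingHom.injective _)
          have h3 := h2.tower_top (ResidueField (Localization.AtPrime m'))
          exact h3
      | add x y hx hy => rw [map_add, map_add]; exact add_mem hx hy
    refine ⟨fun x => ?_⟩
    obtain ⟨c, rfl⟩ := Ideal.algebraMap_residueField_surjective M x
    exact mem_separableClosure_iff.mp (key c)
  obtain ⟨σ, -⟩ : ∃ σ : ResidueField (Localization.AtPrime M) →ₐ[ResidueField
      (Localization.AtPrime m')] ResidueField S₁, True := ⟨IsSepClosed.lift, trivial⟩
  obtain ⟨τ, hτdef⟩ : ∃ τ : ResidueField Ah →+* ResidueField S₁,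
      ∀ x, τ x = σ (ResidueField.map (aMap A B Ah M) x) :=
    ⟨(σ : ResidueField (Localization.AtPrime M) →+* ResidueField S₁).comp
      (ResidueField.map (aMap A B Ah M)), fun x => rfl⟩
  haveI hfloc : IsLocalHom ((algebraMap (Localization.AtPrime m') S₁).comp
      (algebraMap A (Localization.AtPrime m'))) := RingHom.isLocalHom_comp _ _
  have hσk : ∀ y : Localization.AtPrime m', σ (residue _ (b₀ y)) =
      residue S₁ (algebraMap (Localization.AtPrime m') S₁ y) := by
    intro y
    have h := σ.commutes (residue _ y)
    rw [← ResidueField.map_residue b₀]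
    exact h
  have hτ : τ.comp (ResidueField.map (algebraMap A Ah)) =
      ResidueField.map ((algebraMap (Localization.AtPrime m') S₁).comp
        (algebraMap A (Localization.AtPrime m'))) := by
    refine RingHom.ext (fun x => ?_)
    obtain ⟨a, rfl⟩ := residue_surjective x
    rw [RingHom.comp_apply, ResidueField.map_residue, ResidueField.map_residue, hτdef,
      ResidueField.map_residue, hab₀, hσk]
    rfl
  obtain ⟨v, ⟨hv0, hvres0⟩, -⟩ := Hensel.IsStrictHenselization.universal (R := A) (S := Ah) S₁
    ((algebraMap (Localization.AtPrime m') S₁).comp (algebraMap A (Localization.AtPrime m')))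
    τ hτ
  have hv : v.comp (algebraMap A Ah) = (algebraMap (Localization.AtPrime m') S₁).comp
      (algebraMap A (Localization.AtPrime m')) := hv0
  have hvres : ∀ x : Ah, residue S₁ (v x) = τ (residue Ah x) := hvres0
  haveI hvloc : IsLocalHom v := TP.isLocalHom_of_comp_eq A Ah (Localization.AtPrime m') S₁
    (algebraMap A (Localization.AtPrime m')) v hv
  obtain ⟨Φ, hΦB, hΦA⟩ := exists_Phi A B Ah m' S₁ v hv
  haveI hM₁p : (Ideal.comap Φ (maximalIdeal S₁)).IsPrime := Ideal.comap_isPrime _ _
  have hres : (residue S₁).comp Φ =
      (σ : ResidueField (Localization.AtPrime M) →+* ResidueField S₁).comp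
        ((residue (Localization.AtPrime M)).comp
          (algebraMap (B ⊗[A] Ah) (Localization.AtPrime M))) := by
    apply IH.ringHom_ext_tensor
    · intro b
      show residue S₁ (Φ (algebraMap B (B ⊗[A] Ah) b)) =
        σ (residue _ (algebraMap (B ⊗[A] Ah) (Localization.AtPrime M)
          (algebraMap B (B ⊗[A] Ah) b)))
      rw [hΦB, ← hb₀, hσk]
    · intro s
      show residue S₁ (Φ (IH.incR A B Ah s)) =
        σ (residue _ (algebraMap (B ⊗[A] Ah) (Localization.AtPrime M) (IH.incR A B Ah s)))
      rw [hΦA, hvres, hτdef, ResidueField.map_residue]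
      rfl
  have hle : M ≤ Ideal.comap Φ (maximalIdeal S₁) := by
    intro c hc
    rw [Ideal.mem_comap, ← residue_eq_zero_iff]
    have h1 : residue S₁ (Φ c) = σ (residue (Localization.AtPrime M)
        (algebraMap (B ⊗[A] Ah) (Localization.AtPrime M) c)) := RingHom.congr_fun hres c
    have h2 : residue (Localization.AtPrime M)
        (algebraMap (B ⊗[A] Ah) (Localization.AtPrime M) c) = 0 := by
      rw [residue_eq_zero_iff]
      exact (IsLocalization.AtPrime.to_map_mem_maximal_iff (Localization.AtPrime M) M c).mpr hc
    rw [h1, h2, map_zero]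
  have hM : M = Ideal.comap Φ (maximalIdeal S₁) := hMmax.eq_of_le hM₁p.ne_top hle
  have hinj := injective_cMap_shens A B Ah m' S₁ v hv Φ hΦB hΦA M hM
  haveI : IsDomain S₁ :=
    ((HFlat.isNormal_iff_of_isStrictHenselization (Localization.AtPrime m') S₁).mp
      ⟨hdom, hic⟩).1
  exact hinj.isDomain _

end Strict

end Groth.Agent.Helper1.DM
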