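import Groth.Agent.Lib.Helper1.HenselFinite

/-!
# Minimal primes and maximal ideals: two general lemmas
-/

set_option autoImplicit false
universe u

namespace Groth.Agent.Helper1.GL

/-- if `C_M` is a domain, `M` contains exactly one minimal prime -/
theorem existsUnique_minimalPrimes_le_of_isDomain {C : Type*} [CommRing C] (M : Ideal C)
    [M.IsPrime] [IsDomain (Localization.AtPrime M)] :
    ∃! q : Ideal C, q ∈ minimalPrimes C ∧ q ≤ M := by
  obtain ⟨q, hq, hqM⟩ := Ideal.exists_minimalPrimes_le (I := ⊥) (J := M) bot_le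
  have key : ∀ q' ∈ minimalPrimes C, q' ≤ M →
      q' = RingHom.ker (algebraMap C (Localization.AtPrime M)) := by
    intro q' hq' hq'M
    haveI hq'p : q'.IsPrime := hq'.1.1
    have hker : (RingHom.ker (algebraMap C (Localization.AtPrime M))).IsPrime :=
      RingHom.ker_isPrime _
    have hle : RingHom.ker (algebraMap C (Localization.AtPrime M)) ≤ q' := by
      intro c hc
      rw [RingHom.mem_ker, IsLocalization.map_eq_zero_iff M.primeCompl] at hc
      obtain ⟨s, hs⟩ := hc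
      have : (s : C) * c ∈ q' := by rw [hs]; exact q'.zero_mem
      exact (hq'p.mem_or_mem this).resolve_left (fun h => s.2 (hq'M h))
    exact le_antisymm (hq'.2 ⟨hker, bot_le⟩ hle) hle
  refine ⟨q, ⟨hq, hqM⟩, ?_⟩
  rintro q' ⟨hq', hq'M⟩
  rw [key q' hq' hq'M, key q hq hqM]

/-- over a henselian local ring, a prime of an integral algebra lies in exactly one maximal
ideal -/
theorem eq_of_isMaximal_of_le {R : Type u} [CommRing R] [HenselianLocalRing R] {C : Type*}
    [CommRing C] (g : R →+* C) (hg : g.IsIntegral) (q : Ideal C) [hq : q.IsPrime]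
    (m₁ m₂ : Ideal C) [hm₁ : m₁.IsMaximal] [hm₂ : m₂.IsMaximal]
    (h₁ : q ≤ m₁) (h₂ : q ≤ m₂) : m₁ = m₂ := by
  letI := g.toAlgebra
  haveI : Algebra.IsIntegral R C := ⟨hg⟩
  by_contra hne
  have hnle : ¬ m₁ ≤ m₂ := fun hle => hne (hm₁.eq_of_le hm₂.ne_top hle)
  obtain ⟨x, hx₁, hx₂⟩ := Set.not_subset.mp hnle
  obtain ⟨C₀, hC₀⟩ : ∃ C₀ : Subalgebra R C, C₀ = Algebra.adjoin R {x} := ⟨_, rfl⟩
  haveI : Module.Finite R C₀ := by
    rw [hC₀]
    exact Algebra.finite_adjoin_simple_of_isIntegral (Algebra.IsIntegral.isIntegral x)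
  haveI : Algebra.IsIntegral C₀ C := Algebra.IsIntegral.tower_top (R := R)
  haveI hn₁ : (m₁.comap (algebraMap C₀ C)).IsMaximal :=
    Ideal.isMaximal_comap_of_isIntegral_of_isMaximal m₁
  haveI hn₂ : (m₂.comap (algebraMap C₀ C)).IsMaximal :=
    Ideal.isMaximal_comap_of_isIntegral_of_isMaximal m₂
  have hxC₀ : x ∈ C₀ := by
    rw [hC₀]
    exact Algebra.subset_adjoin (Set.mem_singleton _)
  have hne' : m₁.comap (algebraMap C₀ C) ≠ m₂.comap (algebraMap C₀ C) := by
    intro h
    have h1 : (⟨x, hxC₀⟩ : C₀) ∈ m₁.comap (algebraMap C₀ C) := hx₁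
    rw [h] at h1
    exact hx₂ h1
  obtain ⟨e, he, he₁, he₂⟩ := Groth.Agent.Helper1.exists_isIdempotentElem_mem_notMem (R := R)
    (m₁.comap (algebraMap C₀ C)) (m₂.comap (algebraMap C₀ C)) hne'
  have hee : (e : C) * (1 - (e : C)) = 0 := by
    have h2 : ((e * e : C₀) : C) = (e : C) := congrArg Subtype.val he.eq
    have h3 : (e : C) * (e : C) = (e : C) := h2
    rw [mul_sub, mul_one, h3, sub_self]
  have hmem : (e : C) * (1 - (e : C)) ∈ q := by rw [hee]; exact q.zero_mem
  rcases hq.mem_or_mem hmem with h | h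
  · exact he₂ (h₂ h)
  · have h1 : (1 - (e : C)) ∈ m₁ := h₁ h
    have h2 : (e : C) ∈ m₁ := he₁
    exact hm₁.ne_top ((Ideal.eq_top_iff_one m₁).mpr (by
      have := m₁.add_mem h1 h2
      rwa [sub_add_cancel] at this))

end Groth.Agent.Helper1.GL
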