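import Groth.Agent.Lib.Helper1.NR1
import Groth.Prelude

/-!
# The integral closure of a reduced ring with finitely many minimal primes in its total ring
of fractions has normal local rings
-/

set_option autoImplicit false
universe u

namespace Groth.Agent.Helper1.NR

section Reduced

variable {R : Type*} [CommRing R] [IsReduced R]

theorem eq_zero_of_forall_mem_minimalPrimes {z : R} (h : ∀ p ∈ minimalPrimes R, z ∈ p) :
    z = 0 := by
  have h1 : z ∈ sInf (⊥ : Ideal R).minimalPrimes := Ideal.mem_sInf.mpr (fun {p} hp => h p hp)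
  rw [Ideal.sInf_minimalPrimes] at h1
  have h2 : z ∈ nilradical R := h1
  rw [nilradical_eq_zero] at h2
  exact h2

theorem mem_nonZeroDivisors_of_forall_notMem {z : R} (h : ∀ p ∈ minimalPrimes R, z ∉ p) :
    z ∈ nonZeroDivisors R := by
  rw [mem_nonZeroDivisors_iff_right]
  intro x hx
  apply eq_zero_of_forall_mem_minimalPrimes
  intro p hp
  have : x * z ∈ p := by rw [hx]; exact p.zero_mem
  exact (hp.1.1.mem_or_mem this).resolve_right (h p hp)

variable (hfin : (minimalPrimes R).Finite)

include hfin in
theorem exists_compl (a : R) : ∃ b : R, a * b = 0 ∧ a + b ∈ nonZeroDivisors R := by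
  classical
  obtain ⟨T, hT⟩ : ∃ T : Finset (Ideal R), ∀ p, p ∈ T ↔ p ∈ minimalPrimes R :=
    ⟨hfin.toFinset, fun p => hfin.mem_toFinset⟩
  obtain ⟨I, hI⟩ : ∃ I : Finset (Ideal R), ∀ p, p ∈ I ↔ p ∈ minimalPrimes R ∧ a ∉ p :=
    ⟨T.filter (fun p => a ∉ p), fun p => by rw [Finset.mem_filter, hT]⟩
  obtain ⟨J, hJ⟩ : ∃ J : Finset (Ideal R), ∀ p, p ∈ J ↔ p ∈ minimalPrimes R ∧ a ∈ p :=
    ⟨T.filter (fun p => a ∈ p), fun p => by rw [Finset.mem_filter, hT]⟩
  have hex : ∃ b ∈ I.inf id, ∀ q ∈ J, b ∉ q := by
    by_contra hcon
    push_neg at hcon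
    have hsub : ((I.inf id : Ideal R) : Set R) ⊆
        ⋃ q ∈ (J : Set (Ideal R)), ((id q : Ideal R) : Set R) := by
      intro b hb
      obtain ⟨q, hq, hbq⟩ := hcon b hb
      exact Set.mem_biUnion (Finset.mem_coe.mpr hq) hbq
    obtain ⟨q, hq, hle⟩ := (Ideal.subset_union_prime (f := id) (⊥ : Ideal R) ⊥
      (fun q hq _ _ => ((hJ q).mp hq).1.1.1)).mp hsub
    have hqmin := ((hJ q).mp hq).1
    obtain ⟨p, hp, hpq⟩ := (Ideal.IsPrime.inf_le' (f := id) hqmin.1.1).mp hle
    have hpmin := ((hI p).mp hp).1
    have hqp : q ≤ p := hqmin.2 ⟨hpmin.1.1, bot_le⟩ hpq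
    exact ((hI p).mp hp).2 (hqp ((hJ q).mp hq).2)
  obtain ⟨b, hbI, hbJ⟩ := hex
  refine ⟨b, ?_, ?_⟩
  · apply eq_zero_of_forall_mem_minimalPrimes
    intro p hp
    by_cases hap : a ∈ p
    · exact p.mul_mem_right _ hap
    · have : I.inf id ≤ p := Finset.inf_le ((hI p).mpr ⟨hp, hap⟩)
      exact p.mul_mem_left _ (this hbI)
  · apply mem_nonZeroDivisors_of_forall_notMem
    intro p hp hmem
    by_cases hap : a ∈ p
    · have hb : b ∈ p := by
        have := p.sub_mem hmem hap
        rwa [add_sub_cancel_left] at this
      exact hbJ p ((hJ p).mpr ⟨hp, hap⟩) hb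
    · have : I.inf id ≤ p := Finset.inf_le ((hI p).mpr ⟨hp, hap⟩)
      have hb : b ∈ p := this hbI
      have := p.sub_mem hmem hb
      rw [add_sub_cancel_right] at this
      exact hap this

include hfin in
theorem hvn_fractionRing (K : Type*) [CommRing K] [Algebra R K] [IsFractionRing R K] :
    ∀ k : K, ∃ e k' : K, e * e = e ∧ e * k = k ∧ k * k' = e := by
  intro k
  obtain ⟨⟨a, s⟩, hk⟩ := IsLocalization.surj (nonZeroDivisors R) k
  obtain ⟨b, hab, hnz⟩ := exists_compl hfin a
  obtain ⟨w, hw⟩ :=
    (IsLocalization.map_units K (⟨a + b, hnz⟩ : nonZeroDivisors R)).exists_right_inv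
  obtain ⟨t, ht⟩ := (IsLocalization.map_units K s).exists_right_inv
  have h1 : algebraMap R K a * algebraMap R K b = 0 := by rw [← map_mul, hab, map_zero]
  have h2 : (algebraMap R K a + algebraMap R K b) * w = 1 := by rw [← map_add]; exact hw
  have h3 : k * algebraMap R K s = algebraMap R K a := hk
  have hk' : k = algebraMap R K a * t := by
    calc k = k * (algebraMap R K s * t) := by rw [ht, mul_one]
      _ = algebraMap R K a * t := by rw [← mul_assoc, h3]
  refine ⟨algebraMap R K a * w, algebraMap R K s * w * (algebraMap R K a * w), ?_, ?_, ?_⟩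
  · linear_combination (-w^2) * h1 + (algebraMap R K a * w) * h2
  · rw [hk']; linear_combination (algebraMap R K a * t) * h2 - (t * w) * h1
  · calc k * (algebraMap R K s * w * (algebraMap R K a * w))
        = (k * algebraMap R K s) * w * (algebraMap R K a * w) := by ring
      _ = algebraMap R K a * w * (algebraMap R K a * w) := by rw [h3]
      _ = algebraMap R K a * w := by
        linear_combination (-w^2) * h1 + (algebraMap R K a * w) * h2

omit [IsReduced R] in
theorem hfrac_integralClosure (K : Type*) [CommRing K] [Algebra R K] [IsFractionRing R K] :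
    ∀ k : K, ∃ s x : integralClosure R K, IsUnit (algebraMap (integralClosure R K) K s) ∧
      k * algebraMap (integralClosure R K) K s = algebraMap (integralClosure R K) K x := by
  intro k
  obtain ⟨⟨a, s⟩, hk⟩ := IsLocalization.surj (nonZeroDivisors R) k
  refine ⟨algebraMap R _ s, algebraMap R _ a, ?_, ?_⟩
  · rw [← IsScalarTower.algebraMap_apply R (integralClosure R K) K]
    exact IsLocalization.map_units K s
  · rw [← IsScalarTower.algebraMap_apply R (integralClosure R K) K,
      ← IsScalarTower.algebraMap_apply R (integralClosure R K) K]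
    exact hk

include hfin in
theorem normal_localization_integralClosure (K : Type*) [CommRing K] [Algebra R K]
    [IsFractionRing R K] (P : Ideal (integralClosure R K)) [P.IsPrime] :
    IsDomain (Localization.AtPrime P) ∧ IsIntegrallyClosed (Localization.AtPrime P) :=
  ⟨isDomain_localization (hvn_fractionRing hfin K) P,
    isIntegrallyClosed_localization (hvn_fractionRing hfin K) P (hfrac_integralClosure K)⟩

include hfin in
/-- if the normalization is local, the ring is a domain -/
theorem isDomain_of_isLocalRing_integralClosure (K : Type*) [CommRing K] [Algebra R K]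
    [IsFractionRing R K] [Nontrivial R] [IsLocalRing (integralClosure R K)] : IsDomain R := by
  have hinj : Function.Injective (algebraMap R K) := IsFractionRing.injective R K
  have hsub : ∀ p₁ ∈ minimalPrimes R, ∀ p₂ ∈ minimalPrimes R, p₁ ≤ p₂ := by
    intro p₁ hp₁ p₂ hp₂
    by_contra hnle
    obtain ⟨a, ha₁, ha₂⟩ := Set.not_subset.mp hnle
    obtain ⟨b, hab, hnz⟩ := exists_compl hfin a
    obtain ⟨w, hw⟩ :=
      (IsLocalization.map_units K (⟨a + b, hnz⟩ : nonZeroDivisors R)).exists_right_inv
    have h1 : algebraMap R K a * algebraMap R K b = 0 := by rw [← map_mul, hab, map_zero]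
    have h2 : (algebraMap R K a + algebraMap R K b) * w = 1 := by rw [← map_add]; exact hw
    have hee : (algebraMap R K a * w) * (algebraMap R K a * w) = algebraMap R K a * w := by
      linear_combination (-w^2) * h1 + (algebraMap R K a * w) * h2
    obtain ⟨ε, hε⟩ := exists_of_idem (B := integralClosure R K) _ hee
    have hεε : ε * ε = ε := by
      apply algebraMap_inj (B := integralClosure R K) (K := K)
      rw [map_mul, hε, hee]
    have h01 : ε = 0 ∨ ε = 1 := by
      rcases IsLocalRing.isUnit_or_isUnit_one_sub_self ε with hu | hu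
      · right
        obtain ⟨v, hv⟩ := hu.exists_right_inv
        calc ε = ε * (ε * v) := by rw [hv, mul_one]
          _ = (ε * ε) * v := by ring
          _ = 1 := by rw [hεε, hv]
      · left
        obtain ⟨v, hv⟩ := hu.exists_right_inv
        calc ε = ε * ((1 - ε) * v) := by rw [hv, mul_one]
          _ = (ε - ε * ε) * v := by ring
          _ = 0 := by rw [hεε, sub_self, zero_mul]
    rcases h01 with h0 | h1'
    · have hz : algebraMap R K a * w = 0 := by rw [← hε, h0, map_zero]
      have : algebraMap R K a = 0 := by linear_combination (algebraMap R K a + algebraMap R K b) * hz - (algebraMap R K a) * h2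
      have ha0 : a = 0 := hinj (by rw [this, map_zero])
      exact ha₂ (ha0 ▸ p₂.zero_mem)
    · have hz : algebraMap R K a * w = 1 := by rw [← hε, h1', map_one]
      have : algebraMap R K b = 0 := by linear_combination w * h1 - (algebraMap R K b) * hz
      have hb0 : b = 0 := hinj (by rw [this, map_zero])
      rw [hb0, add_zero] at hnz
      exact Set.disjoint_left.mp (Ideal.disjoint_nonZeroDivisors_of_mem_minimalPrimes hp₁) ha₁ hnz
  obtain ⟨m, hm⟩ := Ideal.exists_maximal R
  obtain ⟨p, hp, -⟩ := Ideal.exists_minimalPrimes_le (I := ⊥) (J := m) bot_le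
  have hp0 : ∀ z ∈ p, z = 0 := by
    intro z hz
    apply eq_zero_of_forall_mem_minimalPrimes
    intro q hq
    exact hsub p hp q hq hz
  haveI hpp : p.IsPrime := hp.1.1
  haveI : NoZeroDivisors R := by
    refine ⟨fun {x y} hxy => ?_⟩
    have : x * y ∈ p := by rw [hxy]; exact p.zero_mem
    rcases hpp.mem_or_mem this with h | h
    · left; exact hp0 x h
    · right; exact hp0 y h
  exact NoZeroDivisors.to_isDomain _

end Reduced

section NormRed

theorem finite_minimalPrimes_red (A : Type u) [CommRing A] (hfin : (minimalPrimes A).Finite) :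
    (minimalPrimes (CAlg2.red A)).Finite := by
  have h1 : (nilradical A).minimalPrimes = (⊥ : Ideal A).minimalPrimes :=
    Ideal.radical_minimalPrimes
  have h2 : (nilradical A).minimalPrimes =
      Ideal.comap (Ideal.Quotient.mk (nilradical A)) '' minimalPrimes (A ⧸ nilradical A) :=
    Ideal.minimalPrimes_eq_comap
  have h3 : (Ideal.comap (Ideal.Quotient.mk (nilradical A)) ''
      minimalPrimes (A ⧸ nilradical A)).Finite := by
    rw [← h2, h1]; exact hfin
  exact Set.Finite.of_finite_image h3
    (Ideal.comap_injective_of_surjective _ Ideal.Quotient.mk_surjective).injOn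

instance isReduced_red (A : Type u) [CommRing A] : IsReduced (CAlg2.red A) :=
  (Ideal.isRadical_iff_quotient_reduced (nilradical A)).mp (Ideal.radical_isRadical _)

theorem normal_localization_normRed (A : Type u) [CommRing A] (hfin : (minimalPrimes A).Finite)
    (P : Ideal (CAlg2.normRed A)) [P.IsPrime] :
    IsDomain (Localization.AtPrime P) ∧ IsIntegrallyClosed (Localization.AtPrime P) :=
  normal_localization_integralClosure (finite_minimalPrimes_red A hfin)
    (FractionRing (CAlg2.red A)) P

end NormRed

end Groth.Agent.Helper1.NR
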