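import Groth.Agent.Lib.Helper1.DM3
import Groth.Agent.Lib.Helper1.NR2
import Groth.Agent.Lib.Helper1.GL1
import Groth.Agent.Lib.Helper1.BR2

/-!
# Minimal primes and maximal ideals of `A' ⊗[A] Aʰ` and the number of branches
-/

set_option autoImplicit false

namespace Groth.Agent.Helper1.DM

open IsLocalRing TensorProduct Groth.Agent.Helper1

universe u

instance isIntegral_normRed (A : Type u) [CommRing A] :
    Algebra.IsIntegral A (CAlg2.normRed A) := by
  haveI : Algebra.IsIntegral A (CAlg2.red A) :=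
    Algebra.isIntegral_of_surjective Ideal.Quotient.mk_surjective
  exact Algebra.IsIntegral.trans (CAlg2.red A)

theorem card_eq_of_unique {α β : Type*} (r : α → β → Prop) (h1 : ∀ a, ∃! b, r a b)
    (h2 : ∀ b, ∃! a, r a b) : ENat.card α = ENat.card β := by
  have hinj : Function.Injective (fun a => (h1 a).choose) := by
    intro a₁ a₂ h
    have e1 : r a₁ (h1 a₁).choose := (h1 a₁).choose_spec.1
    have e2 : r a₂ (h1 a₂).choose := (h1 a₂).choose_spec.1
    have h' : (h1 a₁).choose = (h1 a₂).choose := h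
    rw [← h'] at e2
    exact (h2 _).unique e1 e2
  have hsurj : Function.Surjective (fun a => (h1 a).choose) := by
    intro b
    obtain ⟨a, ha, -⟩ := h2 b
    exact ⟨a, (h1 a).unique (h1 a).choose_spec.1 ha⟩
  exact ENat.card_congr (Equiv.ofBijective _ ⟨hinj, hsurj⟩)

section

variable (A B Ah : Type u) [CommRing A] [IsLocalRing A] [CommRing B] [Algebra A B]
  [Algebra.IsIntegral A B] [CommRing Ah] [HenselianLocalRing Ah] [Algebra A Ah]

omit [IsLocalRing A] in
theorem minimal_maximal_unique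
    (hdom : ∀ (M : Ideal (B ⊗[A] Ah)) [M.IsMaximal], IsDomain (Localization.AtPrime M)) :
    (∀ q ∈ minimalPrimes (B ⊗[A] Ah),
        ∃! m : Ideal (B ⊗[A] Ah), m.IsMaximal ∧ q ≤ m) ∧
      (∀ m : Ideal (B ⊗[A] Ah), m.IsMaximal →
        ∃! q : Ideal (B ⊗[A] Ah), q ∈ minimalPrimes (B ⊗[A] Ah) ∧ q ≤ m) := by
  constructor
  · intro q hq
    haveI hqp : q.IsPrime := hq.1.1
    obtain ⟨m, hm, hqm⟩ := Ideal.exists_le_maximal q hqp.ne_top
    refine ⟨m, ⟨hm, hqm⟩, ?_⟩
    rintro m₂ ⟨hm₂, hqm₂⟩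
    haveI := hm
    haveI := hm₂
    exact GL.eq_of_isMaximal_of_le (IH.incR A B Ah) (IH.incR_isIntegral A B Ah) q m₂ m hqm₂ hqm
  · intro m hm
    haveI := hm
    haveI := hdom m
    exact GL.existsUnique_minimalPrimes_le_of_isDomain m

omit [IsLocalRing A] in
theorem card_minimalPrimes_eq_card_maximalSpectrum
    (hdom : ∀ (M : Ideal (B ⊗[A] Ah)) [M.IsMaximal], IsDomain (Localization.AtPrime M)) :
    ENat.card (minimalPrimes (B ⊗[A] Ah)) = ENat.card (MaximalSpectrum (B ⊗[A] Ah)) := by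
  obtain ⟨h1, h2⟩ := minimal_maximal_unique A B Ah hdom
  apply card_eq_of_unique
    (fun (q : minimalPrimes (B ⊗[A] Ah)) (m : MaximalSpectrum (B ⊗[A] Ah)) => q.1 ≤ m.asIdeal)
  · intro q
    obtain ⟨m, ⟨hm, hqm⟩, huniq⟩ := h1 q.1 q.2
    refine ⟨⟨m, hm⟩, hqm, ?_⟩
    intro m₂ hm₂
    exact MaximalSpectrum.ext (huniq m₂.asIdeal ⟨m₂.isMaximal, hm₂⟩)
  · intro m
    obtain ⟨q, ⟨hq, hqm⟩, huniq⟩ := h2 m.asIdeal m.isMaximal
    refine ⟨⟨q, hq⟩, hqm, ?_⟩
    intro q₂ hq₂
    exact Subtype.ext (huniq q₂.1 ⟨q₂.2, hq₂⟩)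

end

section Hens

variable (A B Ah : Type u) [CommRing A] [IsLocalRing A] [CommRing B] [Algebra A B]
  [Algebra.IsIntegral A B] [CommRing Ah] [IsLocalRing Ah] [Algebra A Ah]
  [IsLocalHom (algebraMap A Ah)] [Hensel.IsHenselization A Ah]

theorem exists_isMaximal_comap_eq (m' : Ideal B) [hm' : m'.IsMaximal] :
    ∃ M : Ideal (B ⊗[A] Ah), M.IsMaximal ∧ M.comap (algebraMap B (B ⊗[A] Ah)) = m' := by
  haveI : Module.FaithfullyFlat A Ah := HFlat.faithfullyFlat_of_isHenselization A Ah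
  obtain ⟨P, hP, hPo⟩ := Ideal.exists_isPrime_liesOver_of_faithfullyFlat (B := B ⊗[A] Ah) m'
  obtain ⟨M, hM, hPM⟩ := Ideal.exists_le_maximal P hP.ne_top
  refine ⟨M, hM, ?_⟩
  haveI := hM
  have hle : m' ≤ M.comap (algebraMap B (B ⊗[A] Ah)) := by
    rw [hPo.over]
    exact Ideal.comap_mono hPM
  exact (hm'.eq_of_le (isMaximal_comap A B Ah M).ne_top hle).symm

theorem card_maximalSpectrum_tensor_eq :
    ENat.card (MaximalSpectrum (B ⊗[A] Ah)) = ENat.card (MaximalSpectrum B) := by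
  apply card_eq_of_unique
    (fun (M : MaximalSpectrum (B ⊗[A] Ah)) (m' : MaximalSpectrum B) =>
      M.asIdeal.comap (algebraMap B (B ⊗[A] Ah)) = m'.asIdeal)
  · intro M
    haveI := M.isMaximal
    refine ⟨⟨_, isMaximal_comap A B Ah M.asIdeal⟩, rfl, ?_⟩
    intro m₂ hm₂
    exact MaximalSpectrum.ext hm₂.symm
  · intro m'
    haveI := m'.isMaximal
    obtain ⟨M, hM, hMm'⟩ := exists_isMaximal_comap_eq A B Ah m'.asIdeal
    refine ⟨⟨M, hM⟩, hMm', ?_⟩
    intro M₂ hM₂
    haveI := M₂.isMaximal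
    haveI := hM
    exact MaximalSpectrum.ext (eq_of_comap_eq A B Ah M₂.asIdeal M (hM₂.trans hMm'.symm))

end Hens

section NormRed

variable (A Ah : Type u) [CommRing A] [IsLocalRing A] [CommRing Ah] [IsLocalRing Ah]
  [Algebra A Ah] [IsLocalHom (algebraMap A Ah)]

theorem card_minimalPrimes_hens [Hensel.IsHenselization A Ah] (hfin : (minimalPrimes A).Finite) :
    ENat.card (minimalPrimes Ah) = ENat.card (MaximalSpectrum (CAlg2.normRed A)) := by
  haveI : HenselianLocalRing Ah := Hensel.IsHenselization.henselian (R := A)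
  haveI : Module.Flat A Ah := (HFlat.faithfullyFlat_of_isHenselization A Ah).toFlat
  have e1 : ENat.card (minimalPrimes (CAlg2.normRed A ⊗[A] Ah)) = ENat.card (minimalPrimes Ah) :=
    ENat.card_congr (Set.BijOn.equiv _ (BR.bijOn_normRed (A := A) (Ah := Ah)))
  have hdom : ∀ (M : Ideal (CAlg2.normRed A ⊗[A] Ah)) [M.IsMaximal],
      IsDomain (Localization.AtPrime M) := fun M _ =>
    isDomain_localization_hens A (CAlg2.normRed A) Ah M
      (fun m' _ => NR.normal_localization_normRed A hfin m')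
  rw [← e1, card_minimalPrimes_eq_card_maximalSpectrum A (CAlg2.normRed A) Ah hdom,
    card_maximalSpectrum_tensor_eq A (CAlg2.normRed A) Ah]

end NormRed

end Groth.Agent.Helper1.DM

namespace Groth.Agent.Helper1.DM

theorem surjOn_comap_minimalPrimes (A S : Type*) [CommRing A] [CommRing S] [Algebra A S]
    [Module.FaithfullyFlat A S] :
    Set.SurjOn (fun P : Ideal S => P.comap (algebraMap A S)) (minimalPrimes S)
      (minimalPrimes A) := by
  intro p hp
  haveI : p.IsPrime := hp.1.1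
  obtain ⟨P, hP, hPo⟩ := Ideal.exists_isPrime_liesOver_of_faithfullyFlat (B := S) p
  obtain ⟨Q, hQ, hQP⟩ := Ideal.exists_minimalPrimes_le (I := ⊥) (J := P) bot_le
  refine ⟨Q, hQ, ?_⟩
  haveI : Q.IsPrime := hQ.1.1
  have hle : Q.comap (algebraMap A S) ≤ p := by
    have h1 : p = P.comap (algebraMap A S) := hPo.over
    rw [h1]
    exact Ideal.comap_mono hQP
  exact le_antisymm hle (hp.2 ⟨Ideal.comap_isPrime _ _, bot_le⟩ hle)

theorem card_minimalPrimes_eq_top_of_infinite (A S : Type*) [CommRing A] [CommRing S]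
    [Algebra A S] [Module.FaithfullyFlat A S] (hinf : ¬ (minimalPrimes A).Finite) :
    ENat.card (minimalPrimes S) = ⊤ := by
  have hinf' : (minimalPrimes S).Infinite := fun hf =>
    hinf (Set.Finite.of_surjOn _ (surjOn_comap_minimalPrimes A S) hf)
  haveI : Infinite (minimalPrimes S) := Set.infinite_coe_iff.mpr hinf'
  exact ENat.card_eq_top_of_infinite

end Groth.Agent.Helper1.DM
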