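import Mathlib
import Groth.Prelude.Def_EtCore
import Groth.Prelude.Def_EtZar
import Groth.Agent.Lib.Helper1.DS1
import Groth.Agent.Lib.Helper1.SZ3
import Groth.Agent.Lib.Helper10.ExtAdj

/-!
# Schemes with strictly henselian local rings: the Zariski site is a dense subsite of the small
étale site; étale cohomology is Zariski cohomology (S0670)
-/

universe u
set_option linter.unusedSectionVars false
set_option linter.style.haveILetI false
open CategoryTheory CategoryTheory.Limits AlgebraicGeometry TopologicalSpace Opposite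

namespace Groth.Agent.Helper1.DS

open Groth.Agent.Helper1.SZ

variable (S : Scheme.{u})

lemma hom_ext_oE {T : S.Etale} {W : S.Opens} (a b : T ⟶ oE W) : a = b := by
  apply MorphismProperty.Over.Hom.ext
  have h1 : a.left ≫ W.ι = b.left ≫ W.ι :=
    (MorphismProperty.Over.w a).trans (MorphismProperty.Over.w b).symm
  exact (cancel_mono W.ι).1 h1

instance faithful_zarToEt : (EtZar.zarToEt S).Faithful :=
  ⟨fun {_ _} _ _ _ => Subsingleton.elim _ _⟩

instance full_zarToEt : (EtZar.zarToEt S).Full := by
  refine ⟨fun {U V} f => ?_⟩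
  have hUV : U ≤ V := by
    intro x hx
    have := mem_of_hom f (⟨x, hx⟩ : U.toScheme)
    exact this
  exact ⟨homOfLE hUV, hom_ext_oE S _ _⟩

variable {S} in
lemma isCoverDense (hS : ∀ s : S, EtCoh.IsStrictlyHenselianLocalRing (S.presheaf.stalk s)) :
    (EtZar.zarToEt S).IsCoverDense S.smallEtaleTopology := by
  refine ⟨fun T => ?_⟩
  apply SHC.mem_of_pointwise
  intro z
  let jT : T.left ⟶ S := T.hom
  haveI : Etale jT := T.prop
  obtain ⟨hH, hC⟩ := hS (jT.base z)
  haveI := hH
  haveI : IsSepClosed (IsLocalRing.ResidueField (S.presheaf.stalk (jT.base z))) := hC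
  obtain ⟨V, σ, v, hσ, hv⟩ := exists_section_through_general jT z
  let m : oE V ⟶ T := MorphismProperty.Over.homMk σ hσ trivial
  exact ⟨oE V, m, v, Presieve.in_coverByImage (EtZar.zarToEt S) m, hv⟩

lemma pushforward_mem_iff {U : S.Opens} (R : Sieve U) :
    R.functorPushforward (EtZar.zarToEt S) ∈ S.smallEtaleTopology ((EtZar.zarToEt S).obj U) ↔
      R ∈ Opens.grothendieckTopology S U := by
  constructor
  · intro h x hx
    obtain ⟨T, f, t, hf, ht⟩ := pointwise_of_mem _ _ h (⟨x, hx⟩ : U.toScheme)
    obtain ⟨W, g, k, hg, hfk⟩ := hf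
    refine ⟨W, g, hg, ?_⟩
    have h1 : T.hom.base t ∈ (W : Set S) := mem_of_hom k t
    have h2 : T.hom.base t = x := by
      have h3 : f.left ≫ U.ι = T.hom := MorphismProperty.Over.w f
      rw [← h3, Scheme.Hom.comp_base, TopCat.comp_app, ht]
      rfl
    rw [h2] at h1
    exact h1
  · intro h
    apply SHC.mem_of_pointwise
    intro z
    have hz : U.ι.base z ∈ (U : Set S) := by
      rw [← Scheme.Opens.range_ι]
      exact ⟨z, rfl⟩
    obtain ⟨W, g, hg, hxW⟩ := h (U.ι.base z) hz
    have hg' : R (homOfLE (leOfHom g)) := (Subsingleton.elim g (homOfLE (leOfHom g))) ▸ hg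
    obtain ⟨v, hv⟩ := exists_preimage_of_mem (leOfHom g) z hxW
    exact ⟨oE W, oM (leOfHom g), v, Sieve.image_mem_functorPushforward _ _ hg', hv⟩

variable {S} in
lemma isDenseSubsite (hS : ∀ s : S, EtCoh.IsStrictlyHenselianLocalRing (S.presheaf.stalk s)) :
    (EtZar.zarToEt S).IsDenseSubsite (Opens.grothendieckTopology S) S.smallEtaleTopology where
  isCoverDense' := isCoverDense hS
  isLocallyFull' := inferInstance
  isLocallyFaithful' := inferInstance
  functorPushforward_mem_iff := pushforward_mem_iff S _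

variable {S} in
/-- restriction to the Zariski site is an equivalence when all local rings are strictly
henselian -/
lemma isEquivalence_resZar
    (hS : ∀ s : S, EtCoh.IsStrictlyHenselianLocalRing (S.presheaf.stalk s)) [EtZar.ZarCont S] :
    (EtZar.resZar S).IsEquivalence := by
  haveI := isDenseSubsite hS
  exact inferInstanceAs (((EtZar.zarToEt S).sheafPushforwardContinuous AddCommGrpCat.{u + 1}
    (Opens.grothendieckTopology S) S.smallEtaleTopology).IsEquivalence)

/-- `oE ⊤` is terminal -/
noncomputable def isTerminalOETop : IsTerminal (oE (⊤ : S.Opens)) :=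
  IsTerminal.ofUniqueHom
    (fun T => (EtCore.topIsTerminal S).from T ≫
      (MorphismProperty.Over.homMk S.topIso.inv
        (show S.topIso.inv ≫ (⊤ : S.Opens).ι = 𝟙 S by
          rw [← Scheme.topIso_hom]; exact Iso.inv_hom_id _) trivial : EtCoh.top S ⟶ oE ⊤))
    (fun T m => hom_ext_oE S _ _)

variable {S} in
theorem main0670 (hS : ∀ s : S, EtCoh.IsStrictlyHenselianLocalRing (S.presheaf.stalk s))
    [EtZar.ZarCont S] (F : EtCoh.Ab S) (i : ℕ) :
    Nonempty (EtCoh.H S F i ≃+ EtZar.H ((EtZar.resZar S).obj F) i) := by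
  haveI := isEquivalence_resZar hS
  let R : EtCoh.Ab S ⥤ EtZar.Ab S := EtZar.resZar S
  haveI : R.IsEquivalence := isEquivalence_resZar hS
  let L : EtZar.Ab S ⥤ EtCoh.Ab S := R.inv
  let adj : L ⊣ R := R.asEquivalence.symm.toAdjunction
  haveI : R.Additive := Functor.additive_of_preserves_binary_products R
  haveI : L.Additive := Functor.additive_of_preserves_binary_products L
  let adjZ := constantSheafAdj (Opens.grothendieckTopology S) AddCommGrpCat.{u + 1}
    (isTerminalTop : IsTerminal (⊤ : S.Opens))
  let adjE := constantSheafAdj S.smallEtaleTopology AddCommGrpCat.{u + 1} (isTerminalOETop S)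
  let adj1 := adjZ.comp adj
  let iso : R ⋙ (sheafSections (Opens.grothendieckTopology S) AddCommGrpCat.{u + 1}).obj
      (op (⊤ : S.Opens)) ≅
      (sheafSections S.smallEtaleTopology AddCommGrpCat.{u + 1}).obj (op (oE (⊤ : S.Opens))) :=
    NatIso.ofComponents (fun G => Iso.refl _) (by
      intro G G' f
      exact (Category.comp_id _).trans (Category.id_comp _).symm)
  let φ : L.obj ((constantSheaf (Opens.grothendieckTopology S) AddCommGrpCat.{u + 1}).obj
      (AddCommGrpCat.of (ULift ℤ))) ≅
      (constantSheaf S.smallEtaleTopology AddCommGrpCat.{u + 1}).obj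
        (AddCommGrpCat.of (ULift ℤ)) :=
    ((adj1.ofNatIsoRight iso).leftAdjointUniq adjE).app (AddCommGrpCat.of (ULift ℤ))
  exact ⟨(Groth.Agent.Helper10.ExtAdj.extCongrLeft φ F i).trans
    (Groth.Agent.Helper10.ExtAdj.extAdjEquiv adj _ F i)⟩

end Groth.Agent.Helper1.DS
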