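import Mathlib
import Groth.Prelude.Def_Red

/-!
# `D_S(M)` is flat and locally of finite presentation over `S` for a finitely generated `M`

(helper lemma (DSF) requested by helper19 for S6064)
-/

universe u

open CategoryTheory CategoryTheory.Limits AlgebraicGeometry Opposite MonoidalCategory
  CartesianMonoidalCategory

namespace Groth.Agent.Helper1.DSFlat

theorem flat_diag (R : Type u) [CommRing R] (M : Type) [AddCommGroup M] :
    Flat (Red.diag R M).hom := by
  show Flat (Spec.map (CommRingCat.ofHom (algebraMap R (MonoidAlgebra R (Multiplicative M)))))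
  rw [HasRingHomProperty.Spec_iff (P := @Flat)]
  show (algebraMap R (MonoidAlgebra R (Multiplicative M))).Flat
  rw [RingHom.flat_algebraMap_iff]
  infer_instance

theorem lfp_diag (R : Type u) [CommRing R] [IsNoetherianRing R] (M : Type) [AddCommGroup M]
    (hM : AddGroup.FG M) : LocallyOfFinitePresentation (Red.diag R M).hom := by
  show LocallyOfFinitePresentation
    (Spec.map (CommRingCat.ofHom (algebraMap R (MonoidAlgebra R (Multiplicative M)))))
  rw [HasRingHomProperty.Spec_iff (P := @LocallyOfFinitePresentation)]
  show (algebraMap R (MonoidAlgebra R (Multiplicative M))).FinitePresentation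
  rw [RingHom.finitePresentation_algebraMap]
  haveI : AddMonoid.FG M := AddGroup.fg_iff_addMonoid_fg.mp hM
  haveI : Monoid.FG (Multiplicative M) := AddMonoid.fg_iff_mul_fg.mp inferInstance
  haveI : Algebra.FiniteType R (MonoidAlgebra R (Multiplicative M)) := inferInstance
  exact Algebra.FinitePresentation.of_finiteType.mp inferInstance

theorem flat_lfp_DS (S : Scheme.{u}) (M : Type) [AddCommGroup M] (hM : AddGroup.FG M) :
    Flat (Red.DS S M).hom ∧ LocallyOfFinitePresentation (Red.DS S M).hom := by
  haveI : IsNoetherianRing (ULift.{u} ℤ) := isNoetherianRing_of_ringEquiv ℤ ULift.ringEquiv.symm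
  haveI h1 : Flat (Red.diag (ULift.{u} ℤ) M).hom := flat_diag _ M
  haveI h2 : LocallyOfFinitePresentation (Red.diag (ULift.{u} ℤ) M).hom := lfp_diag _ M hM
  constructor
  · show Flat (pullback.snd (Red.diag (ULift.{u} ℤ) M).hom
      (Limits.IsTerminal.from specULiftZIsTerminal S))
    infer_instance
  · show LocallyOfFinitePresentation (pullback.snd (Red.diag (ULift.{u} ℤ) M).hom
      (Limits.IsTerminal.from specULiftZIsTerminal S))
    infer_instance

end Groth.Agent.Helper1.DSFlat
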