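import Mathlib

/-!
# EL1: field lemmas around separably closed fields
-/

set_option autoImplicit false
set_option linter.style.haveILetI false

namespace Groth.Agent.Helper1.EL

open Polynomial

/-- An algebraic extension of a separably closed field is purely inseparable. -/
theorem isPurelyInseparable_of_isSepClosed (K L : Type*) [Field K] [Field L] [Algebra K L]
    [IsSepClosed K] [Algebra.IsAlgebraic K L] : IsPurelyInseparable K L := by
  rw [isPurelyInseparable_iff]
  intro x
  have hint : IsIntegral K x := (Algebra.IsAlgebraic.isAlgebraic x).isIntegral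
  refine ⟨hint, fun hsep => ?_⟩
  have hdeg := IsSepClosed.degree_eq_one_of_irreducible K (minpoly.irreducible hint) hsep
  exact minpoly.mem_range_of_degree_eq_one K x hdeg

/-- An algebraic extension of a separably closed field is separably closed. -/
theorem isSepClosed_of_isAlgebraic (K L : Type*) [Field K] [Field L] [Algebra K L]
    [IsSepClosed K] [Algebra.IsAlgebraic K L] : IsSepClosed L := by
  refine IsSepClosed.of_exists_root L fun p _ hirr hsep => ?_
  obtain ⟨θ, hθ⟩ := IsAlgClosed.exists_aeval_eq_zero (AlgebraicClosure L) p
    (degree_pos_of_irreducible hirr).ne'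
  haveI : Algebra.IsAlgebraic K (AlgebraicClosure L) := Algebra.IsAlgebraic.trans K L _
  haveI := isPurelyInseparable_of_isSepClosed K (AlgebraicClosure L)
  haveI : IsPurelyInseparable L (AlgebraicClosure L) := IsPurelyInseparable.tower_top K L _
  have hsepθ : IsSeparable L θ := hsep.of_dvd (minpoly.dvd L θ hθ)
  obtain ⟨l, hl⟩ := IsPurelyInseparable.inseparable L θ hsepθ
  refine ⟨l, ?_⟩
  apply (algebraMap L (AlgebraicClosure L)).injective
  rw [map_zero, ← hθ, ← hl, aeval_algebraMap_apply, coe_aeval_eq_eval]

/-- Every element separable over `k` lies in the image of a separably closed intermediate `K`. -/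
theorem mem_range_of_isSeparable {k K L : Type*} [Field k] [Field K] [Field L] [Algebra k K]
    [Algebra k L] [Algebra K L] [IsScalarTower k K L] [IsSepClosed K] (y : L)
    (hy : IsSeparable k y) : y ∈ (algebraMap K L).range := by
  have hyK : IsSeparable K y := hy.tower_top K
  haveI : Algebra.IsSeparable K (IntermediateField.adjoin K {y}) :=
    (IntermediateField.isSeparable_adjoin_simple_iff_isSeparable K L).mpr hyK
  have hbot := IntermediateField.eq_bot_of_isSepClosed_of_isSeparable
    (IntermediateField.adjoin K {y})
  have hmem : y ∈ IntermediateField.adjoin K {y} := IntermediateField.mem_adjoin_simple_self K y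
  rw [hbot, IntermediateField.mem_bot] at hmem
  obtain ⟨a, ha⟩ := hmem
  exact ⟨a, ha⟩

/-- A map from a separable algebraic extension `F/k` into `L` factors through any separably closed
subfield `K → L` containing the image of `k`. -/
theorem exists_ringHom_lift {k F K L : Type*} [Field k] [Field F] [Field K] [Field L]
    [IsSepClosed K] [Algebra k F] [Algebra.IsSeparable k F]
    (j : k →+* K) (ι : K →+* L) (σ : F →+* L) (h : σ.comp (algebraMap k F) = ι.comp j) :
    ∃ τ : F →+* K, ι.comp τ = σ ∧ τ.comp (algebraMap k F) = j := by
  letI : Algebra k K := j.toAlgebra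
  letI : Algebra K L := ι.toAlgebra
  letI : Algebra k L := (ι.comp j).toAlgebra
  haveI : IsScalarTower k K L := IsScalarTower.of_algebraMap_eq fun _ => rfl
  have hcomm : ∀ r : k, σ (algebraMap k F r) = ι (j r) := fun r =>
    congrArg (fun g : k →+* L => g r) h
  let σa : F →ₐ[k] L := { σ with commutes' := hcomm }
  have hrange : ∀ x : F, σ x ∈ ι.range := by
    intro x
    have hx : IsSeparable k x := Algebra.IsSeparable.isSeparable k x
    have hσx : IsSeparable k (σa x) := by
      unfold IsSeparable at hx ⊢
      rwa [minpoly.algHom_eq σa σa.toRingHom.injective]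
    exact mem_range_of_isSeparable (k := k) (K := K) (σ x) hσx
  let e : K ≃+* ι.range := RingEquiv.ofBijective ι.rangeRestrict
    ⟨(RingHom.injective_iff_ker_eq_bot _).mpr (by
      rw [RingHom.ker_rangeRestrict]; exact (RingHom.injective_iff_ker_eq_bot _).mp ι.injective),
     ι.rangeRestrict_surjective⟩
  let σ' : F →+* ι.range := σ.codRestrict ι.range hrange
  refine ⟨e.symm.toRingHom.comp σ', ?_, ?_⟩
  · refine RingHom.ext fun x => ?_
    have h1 : ι (e.symm (σ' x)) = (e (e.symm (σ' x)) : L) := rfl
    show ι (e.symm (σ' x)) = σ x
    rw [h1, e.apply_symm_apply]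
    rfl
  · refine RingHom.ext fun r => ?_
    apply ι.injective
    have h1 : ι (e.symm (σ' (algebraMap k F r))) = (e (e.symm (σ' (algebraMap k F r))) : L) := rfl
    show ι (e.symm (σ' (algebraMap k F r))) = ι (j r)
    rw [h1, e.apply_symm_apply]
    exact congrArg (fun g : k →+* L => g r) h

end Groth.Agent.Helper1.EL
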