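import Groth.Agent.Lib.Helper1.EL1
import Groth.Agent.Lib.Helper1.HPFinEt
import Groth.Agent.Lib.Helper1.HenselFinite
import Groth.Agent.Lib.Helper1.Hensel
import Groth.Prelude.Def_Hensel

/-!
# EL2: local rings integral over a henselian local ring
-/

set_option autoImplicit false
set_option linter.style.haveILetI false

namespace Groth.Agent.Helper1.EL

open Polynomial IsLocalRing

universe u

section Nil

variable {R B : Type*} [CommRing R] [IsLocalRing R] [CommRing B] [IsLocalRing B] [Algebra R B]

lemma aeval_eq_divX (x : B) (P : R[X]) :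
    aeval x P = x * aeval x (divX P) + algebraMap R B (P.coeff 0) := by
  conv_lhs => rw [← X_mul_divX_add P]
  rw [map_add, map_mul, aeval_X, aeval_C]

/-- Key induction: if some coefficient of `P` is a unit and `x^i P(x) ∈ 𝔪_R B` for a non-unit `x`,
then a power of `x` lies in `𝔪_R B`. -/
theorem exists_pow_mem_of_isUnit_coeff (x : B) (hx : x ∈ maximalIdeal B) :
    ∀ (m : ℕ) (P : R[X]), IsUnit (P.coeff m) → ∀ i : ℕ,
      x ^ i * aeval x P ∈ (maximalIdeal R).map (algebraMap R B) →
      ∃ j, x ^ j ∈ (maximalIdeal R).map (algebraMap R B) := by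
  have h0 : ∀ (P : R[X]), IsUnit (P.coeff 0) → ∀ i : ℕ,
      x ^ i * aeval x P ∈ (maximalIdeal R).map (algebraMap R B) →
      ∃ j, x ^ j ∈ (maximalIdeal R).map (algebraMap R B) := by
    intro P hP i hi
    have hunit : IsUnit (aeval x P) := by
      rw [aeval_eq_divX]
      have h1 : IsUnit (algebraMap R B (P.coeff 0)) := hP.map _
      have h2 : x * aeval x (divX P) ∈ maximalIdeal B := Ideal.mul_mem_right _ _ hx
      by_contra hnu
      have h3 : x * aeval x (divX P) + algebraMap R B (P.coeff 0) ∈ maximalIdeal B := hnu
      have h4 := (Ideal.add_mem_iff_right _ h2).mp h3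
      exact h4 h1
    obtain ⟨v, hv⟩ := hunit.exists_right_inv
    refine ⟨i, ?_⟩
    have := Ideal.mul_mem_right v _ hi
    rwa [mul_assoc, hv, mul_one] at this
  intro m
  induction m with
  | zero => exact h0
  | succ m ih =>
    intro P hP i hi
    by_cases hc : IsUnit (P.coeff 0)
    · exact h0 P hc i hi
    · have hc' : P.coeff 0 ∈ maximalIdeal R := hc
      apply ih (divX P) (by rw [coeff_divX]; exact hP) (i + 1)
      have h1 : x ^ i * algebraMap R B (P.coeff 0) ∈ (maximalIdeal R).map (algebraMap R B) :=
        Ideal.mul_mem_left _ _ (Ideal.mem_map_of_mem _ hc')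
      have h2 : x ^ (i + 1) * aeval x (divX P) =
          x ^ i * aeval x P - x ^ i * algebraMap R B (P.coeff 0) := by
        rw [aeval_eq_divX x P]; ring
      rw [h2]
      exact Ideal.sub_mem _ hi h1

/-- A non-unit integral element of a local `R`-algebra is nilpotent modulo `𝔪_R B`. -/
theorem exists_pow_mem_of_isIntegral (x : B) (hx : x ∈ maximalIdeal B) (hint : IsIntegral R x) :
    ∃ j, x ^ j ∈ (maximalIdeal R).map (algebraMap R B) := by
  obtain ⟨P, hP, hPx⟩ := hint
  refine exists_pow_mem_of_isUnit_coeff x hx P.natDegree P ?_ 0 ?_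
  · rw [hP.coeff_natDegree]; exact isUnit_one
  · rw [pow_zero, one_mul, aeval_def, hPx]; exact zero_mem _

end Nil

/-- A local ring integral over a henselian local ring is henselian. -/
theorem henselianLocalRing_of_isIntegral (R B : Type u) [CommRing R] [HenselianLocalRing R]
    [CommRing B] [IsLocalRing B] [Algebra R B] [Algebra.IsIntegral R B] :
    HenselianLocalRing B := by
  have hG : GabberProp R (maximalIdeal R) := gabberProp_of_henselianRing
  haveI h1 : HenselianRing B ((maximalIdeal R).map (algebraMap R B)) :=
    henselianRing_map_of_isIntegral hG B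
  haveI h2 : HenselianRing B ((maximalIdeal R).map (algebraMap R B)).radical :=
    henselianRing_radical _
  have hle : maximalIdeal B ≤ ((maximalIdeal R).map (algebraMap R B)).radical := fun x hx =>
    exists_pow_mem_of_isIntegral x hx (Algebra.IsIntegral.isIntegral x)
  haveI h3 : HenselianRing B (maximalIdeal B) := henselianRing_of_le hle
  exact ⟨fun f hf a₀ h₁ h₂ => h3.is_henselian f hf a₀ h₁ (h₂.map _)⟩

lemma eq_zero_or_one_of_isIdempotentElem {B : Type*} [CommRing B] [IsLocalRing B] {e : B}
    (he : IsIdempotentElem e) : e = 0 ∨ e = 1 := by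
  rcases IsLocalRing.isUnit_or_isUnit_one_sub_self e with h | h
  · right
    obtain ⟨v, hv⟩ := h.exists_right_inv
    calc e = e * (e * v) := by rw [hv, mul_one]
      _ = (e * e) * v := by ring
      _ = 1 := by rw [he.eq, hv]
  · left
    obtain ⟨v, hv⟩ := h.exists_right_inv
    calc e = e * ((1 - e) * v) := by rw [hv, mul_one]
      _ = (e - e * e) * v := by ring
      _ = 0 := by rw [he.eq, sub_self, zero_mul]

section Sub

variable {R : Type u} [CommRing R] [HenselianLocalRing R] {B' : Type u} [CommRing B']
  [IsLocalRing B'] [Algebra R B'] [IsLocalHom (algebraMap R B')]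

/-- An integral element over `R` which is a unit in the local ring `B'` has an integral inverse. -/
theorem exists_integral_inverse (x : B') (hx : IsIntegral R x) (hu : IsUnit x) :
    ∃ y : B', IsIntegral R y ∧ x * y = 1 := by
  let S₀ : Subalgebra R B' := Algebra.adjoin R {x}
  haveI hfin : Module.Finite R S₀ :=
    Module.Finite.iff_fg.mpr hx.fg_adjoin_singleton
  haveI : Algebra.IsIntegral R S₀ := Algebra.IsIntegral.of_finite R S₀
  have hlocal : IsLocalRing S₀ := by
    obtain ⟨M, hM⟩ := Ideal.exists_maximal S₀
    refine IsLocalRing.of_unique_max_ideal ⟨M, hM, fun N hN => ?_⟩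
    by_contra hne
    obtain ⟨e, he, he1, he2⟩ := exists_isIdempotentElem_mem_notMem (R := R) N M hne
    have he' : IsIdempotentElem (e : B') := by
      have := congrArg (Subtype.val) he.eq
      exact this
    rcases eq_zero_or_one_of_isIdempotentElem he' with h | h
    · have : e = 0 := Subtype.ext h
      exact he2 (this ▸ M.zero_mem)
    · have : e = 1 := Subtype.ext h
      exact hN.ne_top ((Ideal.eq_top_iff_one _).mpr (this ▸ he1))
  let P : Ideal S₀ := (maximalIdeal B').comap S₀.val.toRingHom
  haveI hPprime : P.IsPrime := Ideal.comap_isPrime _ _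
  have hPcomap : P.comap (algebraMap R S₀) = maximalIdeal R := by
    ext r
    simp only [P, Ideal.mem_comap]
    show (algebraMap R B' r) ∈ maximalIdeal B' ↔ r ∈ maximalIdeal R
    rw [mem_maximalIdeal, mem_maximalIdeal, mem_nonunits_iff, mem_nonunits_iff,
      isUnit_map_iff]
  have hPmax : P.IsMaximal :=
    Ideal.isMaximal_of_isIntegral_of_isMaximal_comap (R := R) P
      (hPcomap ▸ maximalIdeal.isMaximal R)
  have hPeq : P = @maximalIdeal S₀ _ hlocal := @IsLocalRing.eq_maximalIdeal S₀ _ hlocal P hPmax
  let x' : S₀ := ⟨x, Algebra.subset_adjoin rfl⟩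
  have hx'P : x' ∉ P := by
    intro h
    have : x ∈ maximalIdeal B' := h
    exact this hu
  have hx'u : IsUnit x' := by
    rw [hPeq] at hx'P
    by_contra hnu
    exact hx'P hnu
  obtain ⟨y, hy⟩ := hx'u.exists_right_inv
  refine ⟨(y : B'), ?_, congrArg Subtype.val hy⟩
  exact (Algebra.IsIntegral.isIntegral (R := R) y).map S₀.val

/-- In the integral closure of `R` in `B'`, units are detected in `B'`. -/
theorem isUnit_of_isUnit_val (x : integralClosure R B') (hu : IsUnit (x : B')) : IsUnit x := by
  obtain ⟨y, hy, hxy⟩ := exists_integral_inverse (R := R) (x : B') x.2 hu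
  exact IsUnit.of_mul_eq_one ⟨y, hy⟩ (Subtype.ext hxy)

instance isLocalRing_integralClosure : IsLocalRing (integralClosure R B') := by
  refine IsLocalRing.of_isUnit_or_isUnit_one_sub_self fun a => ?_
  rcases IsLocalRing.isUnit_or_isUnit_one_sub_self (a : B') with h | h
  · exact Or.inl (isUnit_of_isUnit_val a h)
  · exact Or.inr (isUnit_of_isUnit_val (1 - a) h)

instance isLocalHom_val_integralClosure :
    IsLocalHom ((integralClosure R B').val.toRingHom) :=
  ⟨fun a ha => isUnit_of_isUnit_val a ha⟩

instance henselian_integralClosure : HenselianLocalRing (integralClosure R B') :=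
  henselianLocalRing_of_isIntegral R _

end Sub

section Residue

/-- Residue fields of integral local algebras are algebraic. -/
theorem isAlgebraic_residueField (R B : Type*) [CommRing R] [IsLocalRing R] [CommRing B]
    [IsLocalRing B] [Algebra R B] [IsLocalHom (algebraMap R B)] [Algebra.IsIntegral R B] :
    Algebra.IsAlgebraic (ResidueField R) (ResidueField B) := by
  refine ⟨fun y => ?_⟩
  obtain ⟨x, rfl⟩ := residue_surjective y
  obtain ⟨P, hP, hPx⟩ := Algebra.IsIntegral.isIntegral (R := R) x
  apply IsIntegral.isAlgebraic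
  refine ⟨P.map (residue R), hP.map _, ?_⟩
  rw [eval₂_map]
  have h1 : (algebraMap (ResidueField R) (ResidueField B)).comp (residue R) =
      (residue B).comp (algebraMap R B) := rfl
  rw [h1, ← hom_eval₂, hPx, map_zero]

/-- If `κ(T₁)` is separably closed and `κ(T₂)` is separable over `κ(A')`, with `A' → T₁ → T₂`,
then `κ(T₁) → κ(T₂)` is bijective. -/
theorem residueField_map_bijective {A' T₁ T₂ : Type*} [CommRing A'] [IsLocalRing A']
    [CommRing T₁] [IsLocalRing T₁] [CommRing T₂] [IsLocalRing T₂] [Algebra A' T₂]
    [IsLocalHom (algebraMap A' T₂)] [Algebra.IsSeparable (ResidueField A') (ResidueField T₂)]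
    (hT₁ : IsSepClosed (ResidueField T₁)) (j : T₁ →+* T₂) [IsLocalHom j] (ι₁ : A' →+* T₁)
    [IsLocalHom ι₁] (hj : j.comp ι₁ = algebraMap A' T₂) :
    Function.Bijective (ResidueField.map j) := by
  letI : Algebra (ResidueField T₁) (ResidueField T₂) := (ResidueField.map j).toAlgebra
  letI : Algebra (ResidueField A') (ResidueField T₁) := (ResidueField.map ι₁).toAlgebra
  haveI : IsScalarTower (ResidueField A') (ResidueField T₁) (ResidueField T₂) := by
    refine IsScalarTower.of_algebraMap_eq fun y => ?_
    obtain ⟨a, rfl⟩ := residue_surjective y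
    show ResidueField.map (algebraMap A' T₂) (residue A' a) =
      ResidueField.map j (ResidueField.map ι₁ (residue A' a))
    rw [ResidueField.map_residue, ResidueField.map_residue, ResidueField.map_residue, ← hj]
    rfl
  haveI : Algebra.IsSeparable (ResidueField T₁) (ResidueField T₂) :=
    Algebra.isSeparable_tower_top_of_isSeparable (ResidueField A') _ _
  exact IsSepClosed.algebraMap_bijective (ResidueField T₁) (ResidueField T₂)

end Residue

section Retract

variable {A' RS' : Type u} [CommRing A'] [IsLocalRing A'] [CommRing RS'] [IsLocalRing RS']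
  [Algebra A' RS'] [IsLocalHom (algebraMap A' RS')] [Hensel.IsStrictHenselization A' RS']

/-- A henselian local ring `T` with separably closed residue field between `A'` and its strict
henselization `RS'` retracts `RS'`. -/
theorem exists_retraction (T : Type u) [CommRing T] [HenselianLocalRing T]
    (hT : IsSepClosed (ResidueField T)) (j : T →+* RS') [IsLocalHom j] (ι₁ : A' →+* T)
    (hj : j.comp ι₁ = algebraMap A' RS') :
    ∃ g : RS' →+* T, j.comp g = RingHom.id RS' ∧ g.comp (algebraMap A' RS') = ι₁ ∧
      ∀ x, ResidueField.map j (residue T (g x)) = residue RS' x := by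
  haveI hι₁ : IsLocalHom ι₁ := by
    constructor
    intro a ha
    have h1 : IsUnit (j (ι₁ a)) := ha.map j
    have h2 : j (ι₁ a) = algebraMap A' RS' a := congrArg (fun f : A' →+* RS' => f a) hj
    rw [h2] at h1
    exact (isUnit_map_iff (algebraMap A' RS') a).mp h1
  haveI : Algebra.IsSeparable (ResidueField A') (ResidueField RS') :=
    (Hensel.IsStrictHenselization.isSepClosure (R := A') (S := RS')).separable
  have hbij := residueField_map_bijective hT j ι₁ hj
  let eκ : ResidueField T ≃+* ResidueField RS' := RingEquiv.ofBijective _ hbij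
  let τ : ResidueField RS' →+* ResidueField T := eκ.symm.toRingHom
  have hτ : τ.comp (ResidueField.map (algebraMap A' RS')) = ResidueField.map ι₁ := by
    refine RingHom.ext fun y => ?_
    obtain ⟨a, rfl⟩ := residue_surjective y
    show eκ.symm (ResidueField.map (algebraMap A' RS') (residue A' a)) =
      ResidueField.map ι₁ (residue A' a)
    rw [RingEquiv.symm_apply_eq]
    show _ = ResidueField.map j (ResidueField.map ι₁ (residue A' a))
    rw [ResidueField.map_residue, ResidueField.map_residue, ResidueField.map_residue, ← hj]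
    rfl
  obtain ⟨g, ⟨hg1, hg2⟩, -⟩ :=
    Hensel.IsStrictHenselization.universal (R := A') (S := RS') T ι₁ τ hτ
  have hres : ∀ x, ResidueField.map j (residue T (g x)) = residue RS' x := by
    intro x
    rw [hg2 x]
    exact eκ.apply_symm_apply _
  refine ⟨g, ?_, hg1, hres⟩
  -- uniqueness for `T = RS'`
  have hid : (RingHom.id (ResidueField RS')).comp (ResidueField.map (algebraMap A' RS')) =
      ResidueField.map (algebraMap A' RS') := RingHom.id_comp _
  haveI : HenselianLocalRing RS' := Hensel.IsStrictHenselization.henselian (R := A')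
  obtain ⟨g₀, -, huniq⟩ := Hensel.IsStrictHenselization.universal (R := A') (S := RS') RS'
    (algebraMap A' RS') (RingHom.id _) hid
  have e1 : j.comp g = g₀ := by
    apply huniq
    refine ⟨?_, fun x => ?_⟩
    · rw [RingHom.comp_assoc, hg1, hj]
    · show residue RS' (j (g x)) = residue RS' x
      rw [← hres x, ResidueField.map_residue]
  have e2 : RingHom.id RS' = g₀ := by
    apply huniq
    exact ⟨RingHom.id_comp _, fun x => rfl⟩
  rw [e1, ← e2]

end Retract

end Groth.Agent.Helper1.EL
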