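import Groth.Agent.Lib.Helper1.EL2

/-!
# EL3: integrality between strict henselizations; `RX ⊗[RS] RS'` is henselian local
-/

set_option autoImplicit false
set_option linter.style.haveILetI false

namespace Groth.Agent.Helper1.EL

open Polynomial IsLocalRing TensorProduct

universe u

lemma map_mem_maximalIdeal {R S : Type*} [CommRing R] [IsLocalRing R] [CommRing S] [IsLocalRing S]
    (f : R →+* S) [IsLocalHom f] {r : R} (hr : r ∈ maximalIdeal R) : f r ∈ maximalIdeal S :=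
  (mem_maximalIdeal _).mpr fun h => hr ((isUnit_map_iff f r).mp h)

section Ess

/-- If every element of `A'` is a quotient `b / u` of elements whose images in the strict
henselization `RS'` are integral over the strictly henselian `RS`, then `RS → RS'` is integral. -/
theorem isIntegral_of_ess {RS A' RS' : Type u} [CommRing RS] [HenselianLocalRing RS]
    (hRS : IsSepClosed (ResidueField RS)) [CommRing A'] [IsLocalRing A'] [CommRing RS']
    [IsLocalRing RS'] [Algebra A' RS'] [IsLocalHom (algebraMap A' RS')]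
    [Hensel.IsStrictHenselization A' RS'] (α : RS →+* RS') [hα : IsLocalHom α]
    (hyp : ∀ a' : A', ∃ b u : A', IsUnit u ∧ a' * u = b ∧
      α.IsIntegralElem (algebraMap A' RS' b) ∧ α.IsIntegralElem (algebraMap A' RS' u)) :
    α.IsIntegral := by
  letI : Algebra RS RS' := α.toAlgebra
  haveI : IsLocalHom (algebraMap RS RS') := hα
  have hmem : ∀ a' : A', algebraMap A' RS' a' ∈ integralClosure RS RS' := by
    intro a'
    obtain ⟨b, u, hu, hab, hb, hu'⟩ := hyp a'
    obtain ⟨y, hy, hxy⟩ := exists_integral_inverse (R := RS) (algebraMap A' RS' u) hu' (hu.map _)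
    have : algebraMap A' RS' a' = algebraMap A' RS' b * y := by
      rw [← hab, map_mul, mul_assoc, hxy, mul_one]
    rw [this]
    exact (integralClosure RS RS').mul_mem hb hy
  let ι₁ : A' →+* integralClosure RS RS' :=
    (algebraMap A' RS').codRestrict (integralClosure RS RS') hmem
  haveI : IsLocalHom (algebraMap RS (integralClosure RS RS')) := by
    constructor
    intro r hr
    have h1 : IsUnit ((integralClosure RS RS').val (algebraMap RS _ r)) := hr.map _
    exact (isUnit_map_iff α r).mp h1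
  haveI := isAlgebraic_residueField RS (integralClosure RS RS')
  haveI := hRS
  have hsep : IsSepClosed (ResidueField (integralClosure RS RS')) :=
    isSepClosed_of_isAlgebraic (ResidueField RS) _
  obtain ⟨g, hg, -, -⟩ := exists_retraction (A' := A') (RS' := RS') (integralClosure RS RS') hsep
    (integralClosure RS RS').val.toRingHom ι₁ (RingHom.ext fun _ => rfl)
  intro y
  have hy : y = ((g y : integralClosure RS RS') : RS') :=
    (congrArg (fun f : RS' →+* RS' => f y) hg).symm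
  rw [hy]
  exact (g y).2

end Ess

section Tensor

variable {RS RX RS' : Type u} [CommRing RS] [IsLocalRing RS] [CommRing RX] [IsLocalRing RX]
  [CommRing RS'] [IsLocalRing RS'] [Algebra RS RX] [IsLocalHom (algebraMap RS RX)]
  [Algebra RS RS'] [IsLocalHom (algebraMap RS RS')] [Algebra.IsIntegral RS RS']
  [IsSepClosed (ResidueField RS)]

variable (RS RX RS') in
/-- The ideal `𝔪_RX E` of `E = RX ⊗[RS] RS'`. -/
abbrev JJ : Ideal (RX ⊗[RS] RS') := (maximalIdeal RX).map (algebraMap RX (RX ⊗[RS] RS'))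

lemma includeRight_mem_JJ {y : RS'} (hy : y ∈ (maximalIdeal RS).map (algebraMap RS RS')) :
    (1 : RX) ⊗ₜ[RS] y ∈ JJ RS RX RS' := by
  have hle : (maximalIdeal RS).map (algebraMap RS RS') ≤
      (JJ RS RX RS').comap (Algebra.TensorProduct.includeRight : RS' →ₐ[RS] RX ⊗[RS] RS') := by
    rw [Ideal.map_le_iff_le_comap]
    intro r hr
    rw [Ideal.mem_comap, Ideal.mem_comap]
    show (1 : RX) ⊗ₜ[RS] (algebraMap RS RS' r) ∈ JJ RS RX RS'
    have h1 : (1 : RX) ⊗ₜ[RS] (algebraMap RS RS' r) = (algebraMap RS RX r) ⊗ₜ[RS] (1 : RS') := by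
      rw [Algebra.algebraMap_eq_smul_one, Algebra.algebraMap_eq_smul_one, TensorProduct.smul_tmul]
    rw [h1]
    apply Ideal.mem_map_of_mem (algebraMap RX (RX ⊗[RS] RS'))
    exact map_mem_maximalIdeal (algebraMap RS RX) hr
  exact hle hy

lemma JJ_le_jacobson : JJ RS RX RS' ≤ Ideal.jacobson ⊥ := by
  apply map_le_jacobson_of_isIntegral
  intro x hx
  rw [Ideal.jacobson, Ideal.mem_sInf]
  rintro M ⟨-, hM⟩
  rw [IsLocalRing.eq_maximalIdeal hM]
  exact hx

/-- residues of elements of `RS'` are `q`-power-radical over `RS` -/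
lemma exists_pow_sub_mem (q : ℕ) [ExpChar (ResidueField RS) q] (d : RS') :
    ∃ (n : ℕ) (r : RS), d ^ q ^ n - algebraMap RS RS' r ∈ maximalIdeal RS' := by
  haveI := isAlgebraic_residueField RS RS'
  haveI := isPurelyInseparable_of_isSepClosed (ResidueField RS) (ResidueField RS')
  obtain ⟨n, y, hy⟩ := IsPurelyInseparable.pow_mem (ResidueField RS) q (residue RS' d)
  obtain ⟨r, rfl⟩ := residue_surjective y
  refine ⟨n, r, ?_⟩
  rw [← residue_eq_zero_iff, map_sub, map_pow, ← hy]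
  exact sub_self _

variable (hJ : JJ RS RX RS' ≠ ⊤)

include hJ in
lemma expChar_quotient (q : ℕ) [ExpChar (ResidueField RS) q] :
    ExpChar ((RX ⊗[RS] RS') ⧸ JJ RS RX RS') q := by
  haveI : Nontrivial ((RX ⊗[RS] RS') ⧸ JJ RS RX RS') := Ideal.Quotient.nontrivial_iff.mpr hJ
  let φ : RS →+* (RX ⊗[RS] RS') ⧸ JJ RS RX RS' :=
    (Ideal.Quotient.mk _).comp (algebraMap RS (RX ⊗[RS] RS'))
  have hφ : ∀ a ∈ maximalIdeal RS, φ a = 0 := by
    intro a ha
    show Ideal.Quotient.mk _ (algebraMap RS (RX ⊗[RS] RS') a) = 0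
    rw [Ideal.Quotient.eq_zero_iff_mem, IsScalarTower.algebraMap_apply RS RX (RX ⊗[RS] RS')]
    apply Ideal.mem_map_of_mem
    exact map_mem_maximalIdeal (algebraMap RS RX) ha
  let ψ : ResidueField RS →+* (RX ⊗[RS] RS') ⧸ JJ RS RX RS' :=
    Ideal.Quotient.lift (maximalIdeal RS) φ hφ
  exact expChar_of_injective_ringHom ψ.injective q

/-- The "good" elements of `E/J`: a `q`-power is a constant from `RX` up to a nilpotent. -/
def Good (q : ℕ) (z : (RX ⊗[RS] RS') ⧸ JJ RS RX RS') : Prop :=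
  ∃ (n : ℕ) (c : RX), z ^ q ^ n - Ideal.Quotient.mk _ (c ⊗ₜ[RS] (1 : RS')) ∈ nilradical _

include hJ in
lemma Good.raise {q : ℕ} [ExpChar (ResidueField RS) q] {z : (RX ⊗[RS] RS') ⧸ JJ RS RX RS'}
    {n : ℕ} {c : RX}
    (h : z ^ q ^ n - Ideal.Quotient.mk _ (c ⊗ₜ[RS] (1 : RS')) ∈ nilradical _) (k : ℕ) :
    z ^ q ^ (n + k) - Ideal.Quotient.mk (JJ RS RX RS') ((c ^ q ^ k) ⊗ₜ[RS] (1 : RS')) ∈
      nilradical _ := by
  haveI := expChar_quotient hJ q
  have hq : q ^ k ≠ 0 := pow_ne_zero _ (expChar_pos (ResidueField RS) q).ne'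
  have h1 := (mem_nilradical.mp h).pow_of_pos hq
  rw [sub_pow_expChar_pow] at h1
  rw [mem_nilradical]
  convert h1 using 2
  · rw [← pow_mul, ← pow_add]
  · rw [← map_pow, Algebra.TensorProduct.tmul_pow, one_pow]

include hJ in
lemma Good.add {q : ℕ} [ExpChar (ResidueField RS) q] {z w : (RX ⊗[RS] RS') ⧸ JJ RS RX RS'}
    (hz : Good q z) (hw : Good q w) : Good q (z + w) := by
  haveI := expChar_quotient hJ q
  obtain ⟨n₁, c₁, h₁⟩ := hz
  obtain ⟨n₂, c₂, h₂⟩ := hw
  have h₁' := Good.raise hJ h₁ n₂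
  have h₂' := Good.raise hJ h₂ n₁
  refine ⟨n₁ + n₂, c₁ ^ q ^ n₂ + c₂ ^ q ^ n₁, ?_⟩
  rw [add_pow_expChar_pow, TensorProduct.add_tmul, map_add]
  rw [add_comm n₂ n₁] at h₂'
  have := Ideal.add_mem _ h₁' h₂'
  convert this using 1
  ring

include hJ in
lemma Good.mul {q : ℕ} [ExpChar (ResidueField RS) q] {z w : (RX ⊗[RS] RS') ⧸ JJ RS RX RS'}
    (hz : Good q z) (hw : Good q w) : Good q (z * w) := by
  obtain ⟨n₁, c₁, h₁⟩ := hz
  obtain ⟨n₂, c₂, h₂⟩ := hw
  have h₁' := Good.raise hJ h₁ n₂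
  have h₂' := Good.raise hJ h₂ n₁
  refine ⟨n₁ + n₂, c₁ ^ q ^ n₂ * c₂ ^ q ^ n₁, ?_⟩
  rw [add_comm n₂ n₁] at h₂'
  have e : ((c₁ ^ q ^ n₂ * c₂ ^ q ^ n₁) ⊗ₜ[RS] (1 : RS') : RX ⊗[RS] RS') =
      ((c₁ ^ q ^ n₂) ⊗ₜ[RS] (1 : RS')) * ((c₂ ^ q ^ n₁) ⊗ₜ[RS] (1 : RS')) := by
    rw [Algebra.TensorProduct.tmul_mul_tmul, mul_one]
  rw [e, map_mul, mul_pow]
  have := Ideal.add_mem _ (Ideal.mul_mem_right (w ^ q ^ (n₁ + n₂)) _ h₁')
    (Ideal.mul_mem_left _ (Ideal.Quotient.mk (JJ RS RX RS') ((c₁ ^ q ^ n₂) ⊗ₜ[RS] (1 : RS'))) h₂')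
  convert this using 1
  ring

include hJ in
lemma good_all (q : ℕ) [ExpChar (ResidueField RS) q] (z : RX ⊗[RS] RS') :
    Good q (Ideal.Quotient.mk (JJ RS RX RS') z) := by
  haveI := expChar_quotient hJ q
  induction z using TensorProduct.induction_on with
  | zero =>
    refine ⟨0, 0, ?_⟩
    simp
  | add z w hz hw =>
    rw [map_add]
    exact Good.add hJ hz hw
  | tmul x d =>
    have e : (x ⊗ₜ[RS] d : RX ⊗[RS] RS') = (x ⊗ₜ[RS] (1 : RS')) * ((1 : RX) ⊗ₜ[RS] d) := by
      rw [Algebra.TensorProduct.tmul_mul_tmul, mul_one, one_mul]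
    rw [e, map_mul]
    refine Good.mul hJ ⟨0, x, by simp⟩ ?_
    obtain ⟨n, r, hr⟩ := exists_pow_sub_mem (RS := RS) q d
    refine ⟨n, algebraMap RS RX r, ?_⟩
    obtain ⟨j, hj⟩ := exists_pow_mem_of_isIntegral (R := RS) _ hr
      (Algebra.IsIntegral.isIntegral _)
    rw [mem_nilradical]
    refine ⟨j, ?_⟩
    have h1 : ((algebraMap RS RX r) ⊗ₜ[RS] (1 : RS') : RX ⊗[RS] RS') =
        (1 : RX) ⊗ₜ[RS] (algebraMap RS RS' r) := by
      rw [Algebra.algebraMap_eq_smul_one, Algebra.algebraMap_eq_smul_one, TensorProduct.smul_tmul]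
    rw [h1, ← map_pow, ← map_sub, ← map_pow, Ideal.Quotient.eq_zero_iff_mem,
      Algebra.TensorProduct.tmul_pow, one_pow, ← TensorProduct.tmul_sub,
      Algebra.TensorProduct.tmul_pow, one_pow]
    exact includeRight_mem_JJ hj

include hJ in
/-- Every element of `E` is a unit or nilpotent modulo `𝔪_RX E`. -/
theorem isUnit_or_pow_mem (z : RX ⊗[RS] RS') :
    IsUnit z ∨ ∃ j, z ^ j ∈ JJ RS RX RS' := by
  obtain ⟨q, hq⟩ := ExpChar.exists (ResidueField RS)
  obtain ⟨n, c, h⟩ := good_all hJ q z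
  have hqn : q ^ n ≠ 0 := pow_ne_zero _ (expChar_pos (ResidueField RS) q).ne'
  by_cases hc : IsUnit c
  · left
    apply isUnit_of_isUnit_mk_of_le_jacobson (JJ_le_jacobson (RS := RS) (RX := RX) (RS' := RS'))
    rw [← isUnit_pow_iff hqn]
    have hu : IsUnit (Ideal.Quotient.mk (JJ RS RX RS') (c ⊗ₜ[RS] (1 : RS'))) :=
      (hc.map (algebraMap RX (RX ⊗[RS] RS'))).map _
    have := isUnit_add_of_mem_jacobson hu
      (mem_jacobson_bot_of_isNilpotent (mem_nilradical.mp h))
    convert this using 1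
    ring
  · right
    have hc' : c ∈ maximalIdeal RX := hc
    have h0 : Ideal.Quotient.mk (JJ RS RX RS') (c ⊗ₜ[RS] (1 : RS')) = 0 := by
      rw [Ideal.Quotient.eq_zero_iff_mem]
      exact Ideal.mem_map_of_mem (algebraMap RX (RX ⊗[RS] RS')) hc'
    rw [h0, sub_zero, mem_nilradical] at h
    obtain ⟨j, hj⟩ := h
    refine ⟨q ^ n * j, ?_⟩
    rw [← Ideal.Quotient.eq_zero_iff_mem, map_pow, pow_mul]
    exact hj

include hJ in
theorem isLocalRing_tensor : IsLocalRing (RX ⊗[RS] RS') := by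
  haveI : Nontrivial (RX ⊗[RS] RS') := by
    by_contra hnt
    rw [not_nontrivial_iff_subsingleton] at hnt
    exact hJ (Subsingleton.elim _ _)
  refine IsLocalRing.of_isUnit_or_isUnit_one_sub_self fun z => ?_
  rcases isUnit_or_pow_mem hJ z with h | ⟨j, hj⟩
  · exact Or.inl h
  · right
    have hjac : z ^ j ∈ Ideal.jacobson (⊥ : Ideal (RX ⊗[RS] RS')) :=
      JJ_le_jacobson (RS := RS) (RX := RX) (RS' := RS') hj
    have hz : z ∈ Ideal.jacobson (⊥ : Ideal (RX ⊗[RS] RS')) := by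
      rw [Ideal.jacobson, Ideal.mem_sInf] at hjac ⊢
      intro M hM
      exact (hM.2.isPrime).mem_of_pow_mem j (hjac hM)
    have := Ideal.isUnit_of_sub_one_mem_jacobson_bot (1 - z) (by
      have : 1 - z - 1 = -z := by ring
      rw [this]
      exact neg_mem hz)
    exact this

end Tensor

end Groth.Agent.Helper1.EL
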