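import Groth.Agent.Lib.Helper1.EL4

/-!
# EL5: `RX ⊗[RS] RS' ≃ RX'` when `RS → RS'` is integral (pure algebra)
-/

set_option autoImplicit false
set_option linter.style.haveILetI false

namespace Groth.Agent.Helper1.EL

open IsLocalRing TensorProduct

universe u

section Eps

variable {RS RS' RX RX' : Type u} [CommRing RS] [CommRing RS'] [CommRing RX] [CommRing RX']
  [Algebra RS RX] [Algebra RS RS']
  (β : RX →+* RX') (φ' : RS' →+* RX')
  (hβγ : β.comp (algebraMap RS RX) = φ'.comp (algebraMap RS RS'))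

/-- The canonical map `RX ⊗[RS] RS' → RX'`. -/
noncomputable def epsHom : RX ⊗[RS] RS' →+* RX' :=
  letI : Algebra RS RX' := (β.comp (algebraMap RS RX)).toAlgebra
  (Algebra.TensorProduct.productMap (R := RS)
    ({ β with commutes' := fun _ => rfl } : RX →ₐ[RS] RX')
    ({ φ' with commutes' := fun r =>
        (congrArg (fun f : RS →+* RX' => f r) hβγ).symm } : RS' →ₐ[RS] RX')).toRingHom

lemma epsHom_tmul (x : RX) (d : RS') : epsHom β φ' hβγ (x ⊗ₜ[RS] d) = β x * φ' d := rfl

lemma epsHom_left (x : RX) : epsHom β φ' hβγ (algebraMap RX (RX ⊗[RS] RS') x) = β x := by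
  show epsHom β φ' hβγ (x ⊗ₜ[RS] 1) = β x
  rw [epsHom_tmul, map_one, mul_one]

lemma epsHom_right (d : RS') : epsHom β φ' hβγ ((1 : RX) ⊗ₜ[RS] d) = φ' d := by
  rw [epsHom_tmul, map_one, one_mul]

lemma tmul_algebraMap_comm (r : RS) :
    ((algebraMap RS RX r) ⊗ₜ[RS] (1 : RS') : RX ⊗[RS] RS') =
      (1 : RX) ⊗ₜ[RS] (algebraMap RS RS' r) := by
  rw [Algebra.algebraMap_eq_smul_one, Algebra.algebraMap_eq_smul_one, TensorProduct.smul_tmul]

end Eps

section Iso

variable {A A' C C' RS RS' RX RX' : Type u}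
  [CommRing A] [CommRing A'] [IsLocalRing A'] [CommRing C] [IsLocalRing C] [CommRing C']
  [IsLocalRing C']
  [CommRing RS] [IsLocalRing RS] [CommRing RS'] [IsLocalRing RS'] [CommRing RX] [IsLocalRing RX]
  [CommRing RX'] [IsLocalRing RX']
  [Algebra A RS]
  [Algebra A' RS'] [IsLocalHom (algebraMap A' RS')] [Hensel.IsStrictHenselization A' RS']
  [Algebra C RX] [IsLocalHom (algebraMap C RX)] [Hensel.IsStrictHenselization C RX]
  [Algebra C' RX'] [IsLocalHom (algebraMap C' RX')] [Hensel.IsStrictHenselization C' RX']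
  [Algebra RS RX] [IsLocalHom (algebraMap RS RX)] [Algebra RS RS']
  [IsLocalHom (algebraMap RS RS')] [Algebra.IsIntegral RS RS'] [IsSepClosed (ResidueField RS)]
  (a₁ : A →+* A') (a₂ : A →+* C) (c₁ : C →+* C') (c₂ : A' →+* C')
  (β : RX →+* RX') [IsLocalHom β] (φ' : RS' →+* RX') [IsLocalHom φ']
  (hα : (algebraMap RS RS').comp (algebraMap A RS) = (algebraMap A' RS').comp a₁)
  (hγ : (algebraMap RS RX).comp (algebraMap A RS) = (algebraMap C RX).comp a₂)
  (hβ : β.comp (algebraMap C RX) = (algebraMap C' RX').comp c₁)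
  (hφ' : φ'.comp (algebraMap A' RS') = (algebraMap C' RX').comp c₂)
  (hβγ : β.comp (algebraMap RS RX) = φ'.comp (algebraMap RS RS'))

include hα hγ hβ hφ' in
/-- The comparison map is bijective, provided `C'` has the "local ring of the fibre product"
property `hfib`. -/
theorem epsHom_bijective
    (hfib : ∀ (E' : Type u) [CommRing E'] [IsLocalRing E'] (a : C →+* E') (b : A' →+* E')
      (ε : E' →+* RX') [IsLocalHom ε], a.comp a₂ = b.comp a₁ →
      ε.comp a = (algebraMap C' RX').comp c₁ → ε.comp b = (algebraMap C' RX').comp c₂ →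
      ∃ c : C' →+* E', c.comp c₁ = a ∧ c.comp c₂ = b ∧ ε.comp c = algebraMap C' RX') :
    Function.Bijective (epsHom β φ' hβγ) := by
  set ε := epsHom β φ' hβγ with hε
  have hle : JJ RS RX RS' ≤ (maximalIdeal RX').comap ε := by
    rw [Ideal.map_le_iff_le_comap]
    intro x hx
    rw [Ideal.mem_comap, Ideal.mem_comap, hε, epsHom_left]
    exact map_mem_maximalIdeal β hx
  have hJ : JJ RS RX RS' ≠ ⊤ := by
    intro h
    rw [h] at hle
    have h1 : (1 : RX ⊗[RS] RS') ∈ (maximalIdeal RX').comap ε := hle Submodule.mem_top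
    rw [Ideal.mem_comap, map_one] at h1
    exact (Ideal.ne_top_iff_one _).mp (maximalIdeal.isMaximal RX').ne_top h1
  haveI hloc : IsLocalRing (RX ⊗[RS] RS') := isLocalRing_tensor hJ
  haveI hεloc : IsLocalHom ε := by
    constructor
    intro x hx
    by_contra hnu
    rcases isUnit_or_pow_mem hJ x with h | ⟨j, hj⟩
    · exact hnu h
    · have h1 : ε (x ^ j) ∈ maximalIdeal RX' := hle hj
      rw [map_pow] at h1
      exact (Ideal.IsPrime.mem_of_pow_mem inferInstance j h1) hx
  haveI : HenselianLocalRing RX := Hensel.IsStrictHenselization.henselian (R := C)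
  haveI hhens : HenselianLocalRing (RX ⊗[RS] RS') := henselianLocalRing_of_isIntegral RX _
  let incl : RX →+* RX ⊗[RS] RS' := algebraMap RX (RX ⊗[RS] RS')
  let inclR : RS' →+* RX ⊗[RS] RS' :=
    (Algebra.TensorProduct.includeRight : RS' →ₐ[RS] RX ⊗[RS] RS').toRingHom
  have hεincl : ε.comp incl = β := RingHom.ext fun x => epsHom_left β φ' hβγ x
  have hεinclR : ε.comp inclR = φ' := RingHom.ext fun d => epsHom_right β φ' hβγ d
  haveI hinclloc : IsLocalHom (algebraMap RX (RX ⊗[RS] RS')) :=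
    isLocalHom_of_comp' incl ε (hεincl ▸ inferInstance)
  haveI hinclRloc : IsLocalHom inclR :=
    isLocalHom_of_comp' inclR ε (hεinclR ▸ inferInstance)
  have hsepE : IsSepClosed (ResidueField (RX ⊗[RS] RS')) := by
    haveI := isAlgebraic_residueField RX (RX ⊗[RS] RS')
    haveI : IsSepClosed (ResidueField RX) :=
      (Hensel.IsStrictHenselization.isSepClosure (R := C) (S := RX)).sep_closed
    exact isSepClosed_of_isAlgebraic (ResidueField RX) _
  -- the fibre product property
  have hab : (incl.comp (algebraMap C RX)).comp a₂ = (inclR.comp (algebraMap A' RS')).comp a₁ := by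
    refine RingHom.ext fun a => ?_
    have e1 : algebraMap C RX (a₂ a) = algebraMap RS RX (algebraMap A RS a) :=
      (congrArg (fun f : A →+* RX => f a) hγ).symm
    have e2 : algebraMap A' RS' (a₁ a) = algebraMap RS RS' (algebraMap A RS a) :=
      (congrArg (fun f : A →+* RS' => f a) hα).symm
    show (algebraMap C RX (a₂ a)) ⊗ₜ[RS] (1 : RS') = (1 : RX) ⊗ₜ[RS] (algebraMap A' RS' (a₁ a))
    rw [e1, e2, tmul_algebraMap_comm]
  have h1 : ε.comp (incl.comp (algebraMap C RX)) = (algebraMap C' RX').comp c₁ := by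
    rw [← RingHom.comp_assoc, hεincl, hβ]
  have h2 : ε.comp (inclR.comp (algebraMap A' RS')) = (algebraMap C' RX').comp c₂ := by
    rw [← RingHom.comp_assoc, hεinclR, hφ']
  obtain ⟨c, hc1, hc2, hc3⟩ := hfib (RX ⊗[RS] RS') (incl.comp (algebraMap C RX))
    (inclR.comp (algebraMap A' RS')) ε hab h1 h2
  obtain ⟨δ, hδ1, hδ2, hδ3⟩ := exists_retraction (A' := C') (RS' := RX') (RX ⊗[RS] RS') hsepE ε c hc3
  have hδ1' : ∀ y, ε (δ y) = y := fun y => congrArg (fun f : RX' →+* RX' => f y) hδ1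
  have hδ2' : ∀ y, δ (algebraMap C' RX' y) = c y := fun y =>
    congrArg (fun f : C' →+* RX ⊗[RS] RS' => f y) hδ2
  have hres : ∀ z : RX ⊗[RS] RS', residue _ (δ (ε z)) = residue _ z := by
    intro z
    apply (ResidueField.map ε).injective
    rw [hδ3, ResidueField.map_residue]
  -- `δ ∘ ε` is the identity on the `RX`-part
  have hX : (δ.comp ε).comp incl = incl := by
    apply map_ext_of_isStrictHenselization (A := C) (RS := RX) (RX ⊗[RS] RS')
      (ResidueField.map (algebraMap RX (RX ⊗[RS] RS')))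
    · refine RingHom.ext fun x => ?_
      have e1 : ε (incl (algebraMap C RX x)) = algebraMap C' RX' (c₁ x) :=
        congrArg (fun f : C →+* RX' => f x) h1
      have e2 : c (c₁ x) = incl (algebraMap C RX x) :=
        congrArg (fun f : C →+* RX ⊗[RS] RS' => f x) hc1
      show δ (ε (incl (algebraMap C RX x))) = incl (algebraMap C RX x)
      rw [e1, hδ2', e2]
    · intro x
      show residue _ (δ (ε (incl x))) = _
      rw [hres]
      rfl
    · intro x
      rfl
  have hS : (δ.comp ε).comp inclR = inclR := by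
    apply map_ext_of_isStrictHenselization (A := A') (RS := RS') (RX ⊗[RS] RS')
      (ResidueField.map inclR)
    · refine RingHom.ext fun x => ?_
      have e1 : ε (inclR (algebraMap A' RS' x)) = algebraMap C' RX' (c₂ x) :=
        congrArg (fun f : A' →+* RX' => f x) h2
      have e2 : c (c₂ x) = inclR (algebraMap A' RS' x) :=
        congrArg (fun f : A' →+* RX ⊗[RS] RS' => f x) hc2
      show δ (ε (inclR (algebraMap A' RS' x))) = inclR (algebraMap A' RS' x)
      rw [e1, hδ2', e2]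
    · intro x
      show residue _ (δ (ε (inclR x))) = _
      rw [hres]
      rfl
    · intro x
      rfl
  have hδε : ∀ z, δ (ε z) = z := by
    intro z
    induction z using TensorProduct.induction_on with
    | zero => rw [map_zero, map_zero]
    | add z w hz hw => rw [map_add, map_add, hz, hw]
    | tmul x d =>
      have e : (x ⊗ₜ[RS] d : RX ⊗[RS] RS') = incl x * inclR d := by
        show _ = (x ⊗ₜ[RS] (1 : RS')) * ((1 : RX) ⊗ₜ[RS] d)
        rw [Algebra.TensorProduct.tmul_mul_tmul, mul_one, one_mul]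
      have eX : δ (ε (incl x)) = incl x := congrArg (fun f : RX →+* RX ⊗[RS] RS' => f x) hX
      have eS : δ (ε (inclR d)) = inclR d := congrArg (fun f : RS' →+* RX ⊗[RS] RS' => f d) hS
      rw [e, map_mul, map_mul, eX, eS]
  exact ⟨Function.LeftInverse.injective hδε, Function.RightInverse.surjective hδ1'⟩

end Iso

section Omega

variable {RS RS' RX RX' : Type u} [CommRing RS] [CommRing RS'] [CommRing RX] [CommRing RX']
  [Algebra RS RX] [Algebra RS RS'] [Algebra RS' RX']
  (β : RX →+* RX')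
  (hβγ : β.comp (algebraMap RS RX) = (algebraMap RS' RX').comp (algebraMap RS RS'))

/-- From `RX ⊗[RS] RS' ≃ RX'` to `RX ⊗[RS] Ω ≃ RX' ⊗[RS'] Ω`. -/
theorem nonempty_ringEquiv_tensor (hbij : Function.Bijective (epsHom β (algebraMap RS' RX') hβγ))
    (Ω : Type u) [CommRing Ω] [Algebra RS' Ω] [Algebra RS Ω] [IsScalarTower RS RS' Ω] :
    Nonempty (RX ⊗[RS] Ω ≃+* RX' ⊗[RS'] Ω) := by
  let e₀ : RX ⊗[RS] RS' ≃+* RX' := RingEquiv.ofBijective _ hbij
  let f : RS' ⊗[RS] RX ≃+* RX' := (Algebra.TensorProduct.comm RS RS' RX).toRingEquiv.trans e₀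
  let e₁ : RS' ⊗[RS] RX ≃ₐ[RS'] RX' := AlgEquiv.ofRingEquiv (f := f) (fun d => by
    show epsHom β (algebraMap RS' RX') hβγ ((1 : RX) ⊗ₜ[RS] d) = algebraMap RS' RX' d
    rw [epsHom_right])
  let e₂ : Ω ⊗[RS'] (RS' ⊗[RS] RX) ≃ₐ[RS'] Ω ⊗[RS'] RX' :=
    Algebra.TensorProduct.congr AlgEquiv.refl e₁
  let e₃ : Ω ⊗[RS'] (RS' ⊗[RS] RX) ≃ₐ[RS'] Ω ⊗[RS] RX :=
    Algebra.TensorProduct.cancelBaseChange RS RS' RS' Ω RX
  exact ⟨(Algebra.TensorProduct.comm RS RX Ω).toRingEquiv.trans
    (e₃.symm.toRingEquiv.trans (e₂.toRingEquiv.trans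
      (Algebra.TensorProduct.comm RS' Ω RX').toRingEquiv))⟩

end Omega

end Groth.Agent.Helper1.EL
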