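import Mathlib

/-!
# EL6: the local ring of a fibre product at a point (scheme glue)
-/

set_option autoImplicit false
set_option linter.style.haveILetI false

namespace Groth.Agent.Helper1.EL

open CategoryTheory CategoryTheory.Limits AlgebraicGeometry IsLocalRing

universe u

/-- A morphism from the spectrum of a local ring with known image of the closed point factors
through the local ring at that point. -/
lemma exists_stalk_hom_of_closedPoint {X : Scheme.{u}} {R : CommRingCat.{u}} [IsLocalRing R]
    (h : Spec R ⟶ X) (x : X) (hx : h (closedPoint R) = x) :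
    ∃ c : X.presheaf.stalk x ⟶ R, IsLocalHom c.hom ∧ Spec.map c ≫ X.fromSpecStalk x = h := by
  subst hx
  exact ⟨Scheme.stalkClosedPointTo h, inferInstance, Scheme.Spec_stalkClosedPointTo_fromSpecStalk h⟩

section Fib

variable {X S S' : Scheme.{u}} (f : X ⟶ S) (g : S' ⟶ S) (x' : ↥(pullback f g))

/-- the image point in `X` -/
noncomputable abbrev px : X := (pullback.fst f g).base x'

/-- the image point in `S'` -/
noncomputable abbrev ps : S' := (pullback.snd f g).base x'

lemma hpt : f.base (px f g x') = g.base (ps f g x') := by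
  have h := congrArg (fun k : pullback f g ⟶ S => k.base x') (pullback.condition (f := f) (g := g))
  simpa using h

/-- The map of local rings `O_{S,f(x)} → O_{S',s'}`. -/
noncomputable def a₁ : S.presheaf.stalk (f.base (px f g x')) ⟶ S'.presheaf.stalk (ps f g x') :=
  (S.presheaf.stalkCongr (.of_eq (hpt f g x'))).hom ≫ g.stalkMap (ps f g x')

instance : IsLocalHom (a₁ f g x').hom := by
  unfold a₁
  rw [CommRingCat.hom_comp]
  haveI : IsLocalHom (S.presheaf.stalkCongr (.of_eq (hpt f g x'))).hom.hom :=
    isLocalHom_of_isIso _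
  infer_instance

lemma square : f.stalkMap (px f g x') ≫ (pullback.fst f g).stalkMap x' =
    a₁ f g x' ≫ (pullback.snd f g).stalkMap x' := by
  have h1 := Scheme.Hom.stalkMap_comp (pullback.fst f g) f x'
  have h2 := Scheme.Hom.stalkMap_comp (pullback.snd f g) g x'
  have h3 := Scheme.Hom.stalkMap_congr_hom (pullback.fst f g ≫ f) (pullback.snd f g ≫ g)
    pullback.condition x'
  rw [h1, h2] at h3
  rw [a₁, Category.assoc]
  exact h3

lemma SpecMap_a₁_fromSpecStalk :
    Spec.map (a₁ f g x') ≫ S.fromSpecStalk (f.base (px f g x')) =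
      S'.fromSpecStalk (ps f g x') ≫ g := by
  rw [a₁, Spec.map_comp, Category.assoc, TopCat.Presheaf.stalkCongr_hom,
    Scheme.SpecMap_stalkSpecializes_fromSpecStalk, Scheme.SpecMap_stalkMap_fromSpecStalk]

/-- The local ring of the fibre product at `x'` has the expected mapping-in property with
respect to local rings. -/
theorem fib (E' : Type u) [CommRing E'] [IsLocalRing E'] (T : Type u) [CommRing T] [IsLocalRing T]
    (ι : (pullback f g).presheaf.stalk x' →+* T) [IsLocalHom ι]
    (a : X.presheaf.stalk (px f g x') →+* E') (b : S'.presheaf.stalk (ps f g x') →+* E')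
    (ε : E' →+* T) [IsLocalHom ε]
    (hab : a.comp (f.stalkMap (px f g x')).hom = b.comp (a₁ f g x').hom)
    (h1 : ε.comp a = ι.comp ((pullback.fst f g).stalkMap x').hom)
    (h2 : ε.comp b = ι.comp ((pullback.snd f g).stalkMap x').hom) :
    ∃ c : (pullback f g).presheaf.stalk x' →+* E',
      c.comp ((pullback.fst f g).stalkMap x').hom = a ∧
      c.comp ((pullback.snd f g).stalkMap x').hom = b ∧ ε.comp c = ι := by
  let R : CommRingCat.{u} := CommRingCat.of E'
  let RT : CommRingCat.{u} := CommRingCat.of T
  let aa : X.presheaf.stalk (px f g x') ⟶ R := CommRingCat.ofHom a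
  let bb : S'.presheaf.stalk (ps f g x') ⟶ R := CommRingCat.ofHom b
  let εε : R ⟶ RT := CommRingCat.ofHom ε
  let ιι : (pullback f g).presheaf.stalk x' ⟶ RT := CommRingCat.ofHom ι
  have hab' : f.stalkMap (px f g x') ≫ aa = a₁ f g x' ≫ bb := by
    ext y
    exact congrArg (fun k : _ →+* E' => k y) hab
  have h1' : aa ≫ εε = (pullback.fst f g).stalkMap x' ≫ ιι := by
    ext y
    exact congrArg (fun k : _ →+* T => k y) h1
  have h2' : bb ≫ εε = (pullback.snd f g).stalkMap x' ≫ ιι := by
    ext y
    exact congrArg (fun k : _ →+* T => k y) h2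
  let hX : Spec R ⟶ X := Spec.map aa ≫ X.fromSpecStalk (px f g x')
  let hS' : Spec R ⟶ S' := Spec.map bb ≫ S'.fromSpecStalk (ps f g x')
  have hcond : hX ≫ f = hS' ≫ g := by
    show (Spec.map aa ≫ X.fromSpecStalk (px f g x')) ≫ f =
      (Spec.map bb ≫ S'.fromSpecStalk (ps f g x')) ≫ g
    rw [Category.assoc, Category.assoc, ← Scheme.SpecMap_stalkMap_fromSpecStalk,
      ← SpecMap_a₁_fromSpecStalk, ← Category.assoc, ← Category.assoc, ← Spec.map_comp,
      ← Spec.map_comp, hab']
  let h : Spec R ⟶ pullback f g := pullback.lift hX hS' hcond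
  have hfst : h ≫ pullback.fst f g = hX := pullback.lift_fst _ _ _
  have hsnd : h ≫ pullback.snd f g = hS' := pullback.lift_snd _ _ _
  have key : Spec.map εε ≫ h = Spec.map ιι ≫ (pullback f g).fromSpecStalk x' := by
    apply pullback.hom_ext
    · rw [Category.assoc, hfst, Category.assoc, ← Scheme.SpecMap_stalkMap_fromSpecStalk]
      show Spec.map εε ≫ Spec.map aa ≫ X.fromSpecStalk (px f g x') = _
      rw [← Category.assoc, ← Category.assoc, ← Spec.map_comp, ← Spec.map_comp, h1']
    · rw [Category.assoc, hsnd, Category.assoc, ← Scheme.SpecMap_stalkMap_fromSpecStalk]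
      show Spec.map εε ≫ Spec.map bb ≫ S'.fromSpecStalk (ps f g x') = _
      rw [← Category.assoc, ← Category.assoc, ← Spec.map_comp, ← Spec.map_comp, h2']
  haveI : IsLocalHom εε.hom := ‹IsLocalHom ε›
  haveI : IsLocalHom ιι.hom := ‹IsLocalHom ι›
  have hx' : h (closedPoint R) = x' := by
    have e1 : Spec.map εε (closedPoint RT) = closedPoint R := Spec_closedPoint
    have e2 : Spec.map ιι (closedPoint RT) = closedPoint ((pullback f g).presheaf.stalk x') :=
      Spec_closedPoint
    rw [← e1, ← Scheme.Hom.comp_apply, key, Scheme.Hom.comp_apply, e2,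
      Scheme.fromSpecStalk_closedPoint]
  obtain ⟨c, -, hc⟩ := exists_stalk_hom_of_closedPoint h x' hx'
  refine ⟨c.hom, ?_, ?_, ?_⟩
  · have e : (pullback.fst f g).stalkMap x' ≫ c = aa := by
      apply Spec.map_injective
      rw [← cancel_mono (X.fromSpecStalk (px f g x')), Spec.map_comp, Category.assoc,
        Scheme.SpecMap_stalkMap_fromSpecStalk, ← Category.assoc, hc, hfst]
    exact congrArg CommRingCat.Hom.hom e
  · have e : (pullback.snd f g).stalkMap x' ≫ c = bb := by
      apply Spec.map_injective
      rw [← cancel_mono (S'.fromSpecStalk (ps f g x')), Spec.map_comp, Category.assoc,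
        Scheme.SpecMap_stalkMap_fromSpecStalk, ← Category.assoc, hc, hsnd]
    exact congrArg CommRingCat.Hom.hom e
  · have e : c ≫ εε = ιι := by
      apply Spec.map_injective
      rw [← cancel_mono ((pullback f g).fromSpecStalk x'), Spec.map_comp, Category.assoc, hc, key]
    exact congrArg CommRingCat.Hom.hom e

end Fib

end Groth.Agent.Helper1.EL
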