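import Groth.Agent.Lib.Helper1.EL5
import Groth.Agent.Lib.Helper1.EL6

/-!
# EL7: `RS → RS'` is integral for an integral base change
-/

set_option autoImplicit false
set_option linter.style.haveILetI false

namespace Groth.Agent.Helper1.EL

open CategoryTheory CategoryTheory.Limits AlgebraicGeometry IsLocalRing Opposite

universe u

/-- Ring-level form of the "essentially integral" hypothesis. -/
theorem ess_of_integral {ΓU ΓV A' RS RS' : Type u} [CommRing ΓU] [CommRing ΓV] [CommRing A']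
    [CommRing RS] [CommRing RS'] (ψ : ΓU →+* ΓV) (hψ : ψ.IsIntegral) (κ : ΓV →+* A')
    (hκ : ∀ a' : A', ∃ b u : ΓV, IsUnit (κ u) ∧ a' * κ u = κ b) (ι : A' →+* RS')
    (α : RS →+* RS') (ρ : ΓU →+* RS) (hρ : α.comp ρ = (ι.comp κ).comp ψ) :
    ∀ a' : A', ∃ b u : A', IsUnit u ∧ a' * u = b ∧ α.IsIntegralElem (ι b) ∧
      α.IsIntegralElem (ι u) := by
  have hint : ∀ v : ΓV, α.IsIntegralElem (ι (κ v)) := by
    intro v
    obtain ⟨P, hP, hPv⟩ := hψ v
    refine ⟨P.map ρ, hP.map ρ, ?_⟩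
    rw [Polynomial.eval₂_map, hρ]
    have := Polynomial.hom_eval₂ P ψ (ι.comp κ) v
    rw [hPv, map_zero] at this
    exact this.symm
  intro a'
  obtain ⟨b, u, hu, hab⟩ := hκ a'
  exact ⟨κ b, κ u, hu, hab, hint b, hint u⟩

section

variable {X S S' : Scheme.{u}} (f : X ⟶ S) (g : S' ⟶ S) (x' : ↥(pullback f g))

lemma germ_a₁ (U : S.Opens) (hU : g.base (ps f g x') ∈ U) :
    S.presheaf.germ U (f.base (px f g x')) ((hpt f g x').symm ▸ hU) ≫ a₁ f g x' =
      g.app U ≫ S'.presheaf.germ (g ⁻¹ᵁ U) (ps f g x') hU := by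
  rw [a₁, TopCat.Presheaf.stalkCongr_hom, TopCat.Presheaf.germ_stalkSpecializes_assoc,
    Scheme.Hom.germ_stalkMap]

/-- For an integral base change, the map between strict henselizations of the bases is
integral. -/
theorem isIntegral_of_isIntegralHom [IsIntegralHom g] (RS RS' : Type u) [CommRing RS]
    [HenselianLocalRing RS] (hRS : IsSepClosed (ResidueField RS)) [CommRing RS'] [IsLocalRing RS']
    [Algebra (S.presheaf.stalk (f.base (px f g x'))) RS]
    [Algebra (S'.presheaf.stalk (ps f g x')) RS']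
    [IsLocalHom (algebraMap (S'.presheaf.stalk (ps f g x')) RS')]
    [Hensel.IsStrictHenselization (S'.presheaf.stalk (ps f g x')) RS']
    (α : RS →+* RS') [IsLocalHom α]
    (hα : α.comp (algebraMap (S.presheaf.stalk (f.base (px f g x'))) RS) =
      (algebraMap (S'.presheaf.stalk (ps f g x')) RS').comp (a₁ f g x').hom) :
    α.IsIntegral := by
  obtain ⟨_, ⟨U, hU, rfl⟩, hxU, -⟩ := S.isBasis_affineOpens.exists_subset_of_mem_open
    (Set.mem_univ (g.base (ps f g x'))) isOpen_univ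
  have hV : IsAffineOpen (g ⁻¹ᵁ U) := hU.preimage g
  have hsV : ps f g x' ∈ g ⁻¹ᵁ U := hxU
  have hfxU : f.base (px f g x') ∈ U := (hpt f g x').symm ▸ hxU
  apply isIntegral_of_ess (A' := S'.presheaf.stalk (ps f g x')) hRS α
  refine ess_of_integral (g.app U).hom (g.isIntegral_app U hU)
    (S'.presheaf.germ (g ⁻¹ᵁ U) (ps f g x') hsV).hom ?_
    (algebraMap (S'.presheaf.stalk (ps f g x')) RS') α
    ((algebraMap (S.presheaf.stalk (f.base (px f g x'))) RS).comp
      (S.presheaf.germ U (f.base (px f g x')) hfxU).hom) ?_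
  · intro a'
    letI := S'.presheaf.algebra_section_stalk ⟨ps f g x', hsV⟩
    haveI := hV.isLocalization_stalk ⟨ps f g x', hsV⟩
    obtain ⟨⟨b, u⟩, h⟩ := IsLocalization.surj
      (hV.primeIdealOf ⟨ps f g x', hsV⟩).asIdeal.primeCompl a'
    exact ⟨b, u, IsLocalization.map_units _ u, h⟩
  · rw [← RingHom.comp_assoc, hα, RingHom.comp_assoc, RingHom.comp_assoc]
    congr 1
    have := germ_a₁ f g x' U hxU
    exact congrArg CommRingCat.Hom.hom this

end

end Groth.Agent.Helper1.EL
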