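import Mathlib
import Groth.Agent.Lib.Helper1.FP8

/-!
# Étale neighbourhoods along an integral universally injective morphism
-/

set_option autoImplicit false
set_option linter.unusedSectionVars false
set_option linter.style.haveILetI false
open CategoryTheory CategoryTheory.Limits AlgebraicGeometry Opposite
universe u

namespace Groth.Agent.Helper1.FP

/-- **Étale neighbourhoods descend along an integral universally injective morphism.** Every étale
neighbourhood `(U, ū)` of a geometric point of `X` is dominated by the base change of an étale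
neighbourhood `(V, v)` of its image in `Y`. -/
theorem exists_factor_integral_inj {Ω : Type u} [Field Ω] [IsAlgClosed Ω] {X Y : Scheme.{u}}
    (f : X ⟶ Y) [IsIntegralHom f] [UniversallyInjective f]
    (U : X.Etale) (ū : Spec (CommRingCat.of Ω) ⟶ U.left) :
    ∃ (V : Y.Etale) (v : Spec (CommRingCat.of Ω) ⟶ V.left)
      (_ : v ≫ V.hom = (ū ≫ homX U) ≫ f),
      ∀ (Z : Scheme.{u}) (p : Z ⟶ V.left) (q : Z ⟶ X), p ≫ V.hom = q ≫ f →
        ∃ h : Z ⟶ U.left, h ≫ U.hom = q ∧
          ∀ z : Spec (CommRingCat.of Ω) ⟶ Z, z ≫ p = v → z ≫ q = ū ≫ U.hom → z ≫ h = ū := by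
  obtain ⟨V₀, v₀, hv₀, H⟩ := exists_clopen_integral f ((ū ≫ homX U) ≫ f) U ū rfl
  let P := pullback f (homX V₀)
  let fV : P ⟶ V₀.left := pullback.snd f (homX V₀)
  let q₀ : P ⟶ X := pullback.fst f (homX V₀)
  haveI : IsIntegralHom fV := inferInstanceAs (IsIntegralHom (pullback.snd f (homX V₀)))
  haveI : UniversallyInjective fV :=
    MorphismProperty.pullback_snd (P := @UniversallyInjective) f (homX V₀) inferInstance
  obtain ⟨W₀, hcl, h₀, hh₀, hpts⟩ := H P fV q₀ pullback.condition.symm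
  let z₀ : Spec (CommRingCat.of Ω) ⟶ P := pullback.lift (ū ≫ homX U) v₀ hv₀.symm
  have hz₀p : z₀ ≫ fV = v₀ := pullback.lift_snd _ _ _
  have hz₀q : z₀ ≫ q₀ = ū ≫ U.hom := pullback.lift_fst _ _ _
  obtain ⟨w₀, hw₀1, hw₀2⟩ := hpts z₀ hz₀p hz₀q
  let C : Set V₀.left := fV.base '' ((W₀ : Set P)ᶜ)
  have hC : IsClosed C := fV.isClosedMap _ W₀.isOpen.isClosed_compl
  have hv₀C : v₀.base default ∉ C := by
    rintro ⟨t, ht, htv⟩
    have h1 : fV.base (z₀.base default) = v₀.base default := by rw [← hz₀p]; rfl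
    have h2 : t = z₀.base default := fV.injective (htv.trans h1.symm)
    apply ht
    rw [h2, ← hw₀1]
    exact (w₀.base default).2
  let V₂ : V₀.left.Opens := ⟨Cᶜ, hC.isOpen_compl⟩
  haveI : Etale (homX V₀) := V₀.prop
  have hrange : Set.range v₀.base ⊆ Set.range V₂.ι.base := by
    rw [Scheme.Opens.range_ι]
    rintro _ ⟨a, rfl⟩
    rw [Subsingleton.elim a default]
    exact hv₀C
  let v : Spec (CommRingCat.of Ω) ⟶ V₂.toScheme := IsOpenImmersion.lift V₂.ι v₀ hrange
  have hv : v ≫ V₂.ι = v₀ := IsOpenImmersion.lift_fac _ _ _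
  refine ⟨Scheme.Etale.mk (V₂.ι ≫ homX V₀), v, ?_, ?_⟩
  · show v ≫ V₂.ι ≫ homX V₀ = _
    rw [← Category.assoc, hv]
    exact hv₀
  intro Z p q hpq
  let p' : Z ⟶ V₂.toScheme := p
  have hpq' : q ≫ f = (p' ≫ V₂.ι) ≫ homX V₀ := by
    rw [Category.assoc]
    exact hpq.symm
  let r : Z ⟶ P := pullback.lift q (p' ≫ V₂.ι) hpq'
  have hr1 : r ≫ q₀ = q := pullback.lift_fst _ _ _
  have hr2 : r ≫ fV = p' ≫ V₂.ι := pullback.lift_snd _ _ _
  have hrW : Set.range r.base ⊆ Set.range W₀.ι.base := by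
    rw [Scheme.Opens.range_ι]
    rintro _ ⟨a, rfl⟩
    by_contra hna
    have h1 : fV.base (r.base a) ∈ C := ⟨r.base a, hna, rfl⟩
    have h2 : fV.base (r.base a) = V₂.ι.base (p'.base a) :=
      congrArg (fun m => m.base a) hr2
    rw [h2] at h1
    exact (p'.base a).2 h1
  let r' : Z ⟶ W₀.toScheme := IsOpenImmersion.lift W₀.ι r hrW
  have hr' : r' ≫ W₀.ι = r := IsOpenImmersion.lift_fac _ _ _
  refine ⟨r' ≫ h₀, ?_, ?_⟩
  · rw [Category.assoc, hh₀, ← Category.assoc, hr', hr1]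
  · intro z hzp hzq
    have hzr1 : (z ≫ r) ≫ fV = v₀ := by
      have hzp' : z ≫ p' = v := hzp
      rw [Category.assoc, hr2, ← Category.assoc, hzp', hv]
    have hzr2 : (z ≫ r) ≫ q₀ = ū ≫ U.hom := by
      rw [Category.assoc, hr1]
      exact hzq
    obtain ⟨w, hw1, hw2⟩ := hpts (z ≫ r) hzr1 hzr2
    have hw : z ≫ r' = w := by
      rw [← cancel_mono W₀.ι, Category.assoc, hr', hw1]
    rw [← Category.assoc, hw, hw2]

end Groth.Agent.Helper1.FP
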