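import Mathlib
import Groth.Prelude.Def_EtCore
import Groth.Prelude.Def_PBC
import Groth.Agent.Lib.Helper1.FP12
import Groth.Agent.Lib.Helper1.FP14
import Groth.Agent.Lib.Helper1.SHC13

/-!
# Direct images along integral universally injective morphisms
-/

set_option autoImplicit false
set_option linter.unusedSectionVars false
set_option linter.style.haveILetI false
open CategoryTheory CategoryTheory.Limits AlgebraicGeometry Opposite
universe u

namespace Groth.Agent.Helper1.FP

open Groth.Agent.Helper1.ELR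

section StalkI

variable {X Y : Scheme.{u}} (f : X ⟶ Y) {Ω : Type u} [Field Ω] [IsSepClosed Ω]
  (ξ : Spec (CommRingCat.of Ω) ⟶ X) (F : EtCoh.Ab X)

/-- the comparison map from the stalk of the direct image at the induced point to the stalk -/
noncomputable def stalkMapI :
    (SHC.comapPoint f ξ).presheafFiber.obj ((EtCoh.push f).obj F).obj ⟶
      (Φ ξ).presheafFiber.obj F.obj :=
  (SHC.comapPoint f ξ).presheafFiberDesc (P := ((EtCoh.push f).obj F).obj)
    (fun V y => (Φ ξ).toPresheafFiber ((EtCoh.bc f).obj V) y F.obj)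
    (by
      intro V' V g y'
      exact (Φ ξ).toPresheafFiber_w ((EtCoh.bc f).map g) y' F.obj)

theorem stalkMapI_germ (V : Y.Etale) (y : (Φ ξ).fiber.obj ((EtCoh.bc f).obj V))
    (σ : F.obj.obj (op ((EtCoh.bc f).obj V))) :
    stalkMapI f ξ F ((SHC.comapPoint f ξ).toPresheafFiber V y ((EtCoh.push f).obj F).obj σ) =
      (Φ ξ).toPresheafFiber ((EtCoh.bc f).obj V) y F.obj σ := by
  unfold stalkMapI
  have h := (SHC.comapPoint f ξ).toPresheafFiber_presheafFiberDesc
    (P := ((EtCoh.push f).obj F).obj)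
    (fun V y => (Φ ξ).toPresheafFiber ((EtCoh.bc f).obj V) y F.obj)
    (by
      intro V' V g y'
      exact (Φ ξ).toPresheafFiber_w ((EtCoh.bc f).map g) y' F.obj) V y
  exact congrArg (fun k => k σ) h

set_option backward.isDefEq.respectTransparency.types false in
theorem counit_unit_app (V : Y.Etale) (σ : F.obj.obj (op ((EtCoh.bc f).obj V))) :
    ((EtCoh.pullPushAdj f).counit.app F).hom.app (op ((EtCoh.bc f).obj V))
      (((EtCoh.pullPushAdj f).unit.app ((EtCoh.push f).obj F)).hom.app (op V) σ) = σ := by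
  have tri := (EtCoh.pullPushAdj f).right_triangle_components F
  exact congrArg (fun k => k.hom.app (op V) σ) tri

theorem counit_stalk
    (t : ToType ((SHC.comapPoint f ξ).presheafFiber.obj ((EtCoh.push f).obj F).obj)) :
    (Φ ξ).presheafFiber.map ((EtCoh.pullPushAdj f).counit.app F).hom
      ((cmp f ξ ((EtCoh.push f).obj F)).hom t) = stalkMapI f ξ F t := by
  haveI := SHC.preservesFilteredColimits_forget.{u}
  obtain ⟨V, y, σ, rfl⟩ := (SHC.comapPoint f ξ).toPresheafFiber_jointly_surjective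
    (P := ((EtCoh.push f).obj F).obj) t
  rw [cmp_germ f ξ ((EtCoh.push f).obj F) V y σ, stalkMapI_germ f ξ F V y σ]
  have e2 := (Φ ξ).toPresheafFiber_naturality_apply ((EtCoh.pullPushAdj f).counit.app F).hom
    ((EtCoh.bc f).obj V) y
    (((EtCoh.pullPushAdj f).unit.app ((EtCoh.push f).obj F)).hom.app (op V) σ)
  exact e2.trans (congrArg (fun t => (Φ ξ).toPresheafFiber ((EtCoh.bc f).obj V) y F.obj t)
    (counit_unit_app f F V σ))

theorem unit_stalk (G : EtCoh.Ab Y)
    (t : ToType ((SHC.comapPoint f ξ).presheafFiber.obj G.obj)) :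
    stalkMapI f ξ ((EtCoh.pull f).obj G)
      ((SHC.comapPoint f ξ).presheafFiber.map ((EtCoh.pullPushAdj f).unit.app G).hom t) =
      (cmp f ξ G).hom t := by
  haveI := SHC.preservesFilteredColimits_forget.{u}
  obtain ⟨V, y, σ, rfl⟩ := (SHC.comapPoint f ξ).toPresheafFiber_jointly_surjective
    (P := G.obj) t
  have e2 := (SHC.comapPoint f ξ).toPresheafFiber_naturality_apply
    ((EtCoh.pullPushAdj f).unit.app G).hom V y σ
  exact (congrArg (fun t => stalkMapI f ξ ((EtCoh.pull f).obj G) t) e2).trans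
    ((stalkMapI_germ f ξ ((EtCoh.pull f).obj G) V y _).trans (cmp_germ f ξ G V y σ).symm)

/-- transport of bijectivity of stalk maps along the isomorphism of points -/
theorem bijective_transport {G G' : EtCoh.Ab Y} (φ : G ⟶ G')
    (h : Function.Bijective ((SHC.comapPoint f ξ).presheafFiber.map φ.hom)) :
    Function.Bijective ((Φ (ξ ≫ f)).presheafFiber.map φ.hom) := by
  let I := SHC.sheafFiberIsoOfIso AddCommGrpCat.{u + 1} (SHC.pointIso f ξ)
  have hnat : ∀ t, (I.hom.app G') ((Φ (ξ ≫ f)).presheafFiber.map φ.hom t) =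
      (SHC.comapPoint f ξ).presheafFiber.map φ.hom ((I.hom.app G) t) := by
    intro t
    have h1 := I.hom.naturality φ
    have h2 := ConcreteCategory.congr_hom h1 t
    exact (ConcreteCategory.comp_apply _ _ _).symm.trans
      (h2.trans (ConcreteCategory.comp_apply _ _ _))
  have b1 : Function.Bijective (I.hom.app G) := ConcreteCategory.bijective_of_isIso _
  have b2 : Function.Bijective (I.hom.app G') := ConcreteCategory.bijective_of_isIso _
  have h3 : (fun t => (I.hom.app G') ((Φ (ξ ≫ f)).presheafFiber.map φ.hom t)) =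
      fun t => (SHC.comapPoint f ξ).presheafFiber.map φ.hom ((I.hom.app G) t) := funext hnat
  have h4 : Function.Bijective
      (fun t => (I.hom.app G') ((Φ (ξ ≫ f)).presheafFiber.map φ.hom t)) := by
    rw [h3]
    exact h.comp b1
  exact (Function.Bijective.of_comp_iff' b2 _).1 h4

end StalkI

section Bij

variable {X Y : Scheme.{u}} (f : X ⟶ Y) [IsIntegralHom f] [UniversallyInjective f]
  {Ω : Type u} [Field Ω] [IsAlgClosed Ω]
  (ξ : Spec (CommRingCat.of Ω) ⟶ X) (F : EtCoh.Ab X)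

theorem stalkMapI_surjective : Function.Surjective (stalkMapI f ξ F) := by
  haveI := SHC.preservesFilteredColimits_forget.{u}
  intro r
  obtain ⟨U, l, a, rfl⟩ := (Φ ξ).toPresheafFiber_jointly_surjective (P := F.obj) r
  obtain ⟨V, v, hv, H⟩ := exists_factor_integral_inj f U (pt ξ U l)
  have hξ : pt ξ U l ≫ homX U = ξ := pt_comp ξ U l
  have hv' : v ≫ V.hom = ξ ≫ f := hv.trans (congrArg (fun k => k ≫ f) hξ)
  let p : ((EtCoh.bc f).obj V).left ⟶ V.left := pullback.fst V.hom f
  let q : ((EtCoh.bc f).obj V).left ⟶ X := ((EtCoh.bc f).obj V).hom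
  have hpq : p ≫ V.hom = q ≫ f := pullback.condition
  obtain ⟨h, hh, hpt⟩ := H _ p q hpq
  let m : (EtCoh.bc f).obj V ⟶ U := MorphismProperty.Over.homMk h hh trivial
  let z : Spec (CommRingCat.of Ω) ⟶ ((EtCoh.bc f).obj V).left := pullback.lift v ξ hv'
  have hz1 : z ≫ p = v := pullback.lift_fst _ _ _
  have hz2 : z ≫ q = ξ := pullback.lift_snd _ _ _
  let y : (Φ ξ).fiber.obj ((EtCoh.bc f).obj V) := mkPt ξ _ z hz2
  have hy : (Φ ξ).fiber.map m y = l := by
    apply pt_ext
    rw [pt_map]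
    show z ≫ h = pt ξ U l
    exact hpt z hz1 (hz2.trans hξ.symm)
  refine ⟨(SHC.comapPoint f ξ).toPresheafFiber V y ((EtCoh.push f).obj F).obj
    (F.obj.map m.op a), ?_⟩
  rw [stalkMapI_germ f ξ F V y]
  have e := (Φ ξ).toPresheafFiber_w_apply m y F.obj a
  rw [hy] at e
  exact e

theorem stalkMapI_injective : Function.Injective (stalkMapI f ξ F) := by
  haveI := SHC.preservesFilteredColimits_forget.{u}
  intro a b hab
  obtain ⟨V, y, σ, σ', rfl, rfl⟩ := (SHC.comapPoint f ξ).toPresheafFiber_jointly_surjective₂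
    (P := ((EtCoh.push f).obj F).obj) a b
  rw [stalkMapI_germ f ξ F V y σ, stalkMapI_germ f ξ F V y σ'] at hab
  obtain ⟨U, u, l, hl, hu⟩ := ((Φ ξ).toPresheafFiber_eq_iff' (P := F.obj)
    ((EtCoh.bc f).obj V) y σ σ').1 hab
  let fV : ((EtCoh.bc f).obj V).left ⟶ V.left := pullback.fst V.hom f
  haveI : IsIntegralHom fV := inferInstanceAs (IsIntegralHom (pullback.fst V.hom f))
  haveI : UniversallyInjective fV :=
    MorphismProperty.pullback_fst (P := @UniversallyInjective) V.hom f inferInstance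
  let Uv : ((EtCoh.bc f).obj V).left.Etale := Scheme.Etale.mk u.left
  obtain ⟨V₁, v₁, hv₁, H⟩ := exists_factor_integral_inj fV Uv (pt ξ U l)
  haveI : Etale (homX V₁) := V₁.prop
  haveI : Etale (homX V) := V.prop
  let V' : Y.Etale := Scheme.Etale.mk (homX V₁ ≫ homX V)
  let e : V' ⟶ V := MorphismProperty.Over.homMk (homX V₁) rfl trivial
  let p : ((EtCoh.bc f).obj V').left ⟶ V₁.left := (pullback.fst V'.hom f : _)
  let q : ((EtCoh.bc f).obj V').left ⟶ ((EtCoh.bc f).obj V).left := ((EtCoh.bc f).map e).left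
  have hpq : p ≫ homX V₁ = q ≫ fV := (EtCoh.isPullback_bc_map f e).w.symm
  obtain ⟨h, hh, -⟩ := H _ p q hpq
  have e2 : q ≫ ((EtCoh.bc f).obj V).hom = ((EtCoh.bc f).obj V').hom :=
    MorphismProperty.Over.w ((EtCoh.bc f).map e)
  have hm : h ≫ U.hom = ((EtCoh.bc f).obj V').hom := by
    have e1 : u.left ≫ ((EtCoh.bc f).obj V).hom = U.hom := MorphismProperty.Over.w u
    have e3 : h ≫ u.left = q := hh
    calc h ≫ U.hom = h ≫ (u.left ≫ ((EtCoh.bc f).obj V).hom) :=
          congrArg (fun k => h ≫ k) e1.symm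
      _ = (h ≫ u.left) ≫ ((EtCoh.bc f).obj V).hom := (Category.assoc _ _ _).symm
      _ = q ≫ ((EtCoh.bc f).obj V).hom := congrArg (fun k => k ≫ ((EtCoh.bc f).obj V).hom) e3
      _ = ((EtCoh.bc f).obj V').hom := e2
  let m : (EtCoh.bc f).obj V' ⟶ U := MorphismProperty.Over.homMk h hm trivial
  have hfac : m ≫ u = (EtCoh.bc f).map e := MorphismProperty.Over.Hom.ext hh
  have hptu : pt ξ U l ≫ u.left = pt ξ ((EtCoh.bc f).obj V) y := by
    rw [← hl]
    rfl
  have hv₁' : v₁ ≫ homX V₁ = pt ξ ((EtCoh.bc f).obj V) y ≫ fV := by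
    rw [← hptu]
    exact hv₁
  have hcond : v₁ ≫ V'.hom = ξ ≫ f := by
    have c1 : fV ≫ homX V = ((EtCoh.bc f).obj V).hom ≫ f := pullback.condition
    calc v₁ ≫ V'.hom = (v₁ ≫ homX V₁) ≫ homX V := (Category.assoc _ _ _).symm
      _ = (pt ξ ((EtCoh.bc f).obj V) y ≫ fV) ≫ homX V := congrArg (fun k => k ≫ homX V) hv₁'
      _ = pt ξ ((EtCoh.bc f).obj V) y ≫ (fV ≫ homX V) := Category.assoc _ _ _
      _ = pt ξ ((EtCoh.bc f).obj V) y ≫ (((EtCoh.bc f).obj V).hom ≫ f) :=
          congrArg (fun k => pt ξ ((EtCoh.bc f).obj V) y ≫ k) c1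
      _ = (pt ξ ((EtCoh.bc f).obj V) y ≫ ((EtCoh.bc f).obj V).hom) ≫ f :=
          (Category.assoc _ _ _).symm
      _ = ξ ≫ f := congrArg (fun k => k ≫ f) (pt_comp ξ ((EtCoh.bc f).obj V) y)
  let z' : Spec (CommRingCat.of Ω) ⟶ ((EtCoh.bc f).obj V').left := pullback.lift v₁ ξ hcond
  have hz'1 : z' ≫ p = v₁ := pullback.lift_fst _ _ _
  have hz'2 : z' ≫ ((EtCoh.bc f).obj V').hom = ξ := pullback.lift_snd _ _ _
  let y' : (Φ ξ).fiber.obj ((EtCoh.bc f).obj V') := mkPt ξ _ z' hz'2
  have hy' : (Φ ξ).fiber.map ((EtCoh.bc f).map e) y' = y := by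
    apply pt_ext
    rw [pt_map]
    show z' ≫ q = pt ξ ((EtCoh.bc f).obj V) y
    apply pt_bc_ext f V
    · calc (z' ≫ q) ≫ fV = z' ≫ (q ≫ fV) := Category.assoc _ _ _
        _ = z' ≫ (p ≫ homX V₁) := congrArg (fun k => z' ≫ k) hpq.symm
        _ = (z' ≫ p) ≫ homX V₁ := (Category.assoc _ _ _).symm
        _ = v₁ ≫ homX V₁ := congrArg (fun k => k ≫ homX V₁) hz'1
        _ = pt ξ ((EtCoh.bc f).obj V) y ≫ fV := hv₁'
    · calc (z' ≫ q) ≫ ((EtCoh.bc f).obj V).hom
          = z' ≫ (q ≫ ((EtCoh.bc f).obj V).hom) := Category.assoc _ _ _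
        _ = z' ≫ ((EtCoh.bc f).obj V').hom := congrArg (fun k => z' ≫ k) e2
        _ = ξ := hz'2
        _ = pt ξ ((EtCoh.bc f).obj V) y ≫ ((EtCoh.bc f).obj V).hom :=
            (pt_comp ξ ((EtCoh.bc f).obj V) y).symm
  have k1 : F.obj.map m.op (F.obj.map u.op σ) = F.obj.map ((EtCoh.bc f).map e).op σ := by
    rw [map_map' F m u σ, hfac]
  have k2 : F.obj.map m.op (F.obj.map u.op σ') = F.obj.map ((EtCoh.bc f).map e).op σ' := by
    rw [map_map' F m u σ', hfac]
  have hfin : ((EtCoh.push f).obj F).obj.map e.op σ = ((EtCoh.push f).obj F).obj.map e.op σ' :=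
    k1.symm.trans ((congrArg (fun t => F.obj.map m.op t) hu).trans k2)
  have e1 := (SHC.comapPoint f ξ).toPresheafFiber_w_apply e y' ((EtCoh.push f).obj F).obj σ
  have e1' := (SHC.comapPoint f ξ).toPresheafFiber_w_apply e y' ((EtCoh.push f).obj F).obj σ'
  have hy'' : (SHC.comapPoint f ξ).fiber.map e y' = y := hy'
  rw [hy''] at e1 e1'
  rw [← e1, ← e1']
  exact congrArg ((SHC.comapPoint f ξ).toPresheafFiber V' y' ((EtCoh.push f).obj F).obj) hfin

theorem counit_stalk_bijective :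
    Function.Bijective ((Φ ξ).presheafFiber.map ((EtCoh.pullPushAdj f).counit.app F).hom) := by
  constructor
  · intro a b hab
    obtain ⟨a₀, rfl⟩ := cmp_hom_surjective f ξ ((EtCoh.push f).obj F) a
    obtain ⟨b₀, rfl⟩ := cmp_hom_surjective f ξ ((EtCoh.push f).obj F) b
    rw [counit_stalk f ξ F a₀, counit_stalk f ξ F b₀] at hab
    rw [stalkMapI_injective f ξ F hab]
  · intro r
    obtain ⟨t, ht⟩ := stalkMapI_surjective f ξ F r
    exact ⟨(cmp f ξ ((EtCoh.push f).obj F)).hom t, (counit_stalk f ξ F t).trans ht⟩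

theorem unit_stalk_bijective (G : EtCoh.Ab Y) :
    Function.Bijective ((Φ (ξ ≫ f)).presheafFiber.map ((EtCoh.pullPushAdj f).unit.app G).hom) := by
  apply bijective_transport f ξ
  have h3 : (fun t => stalkMapI f ξ ((EtCoh.pull f).obj G)
      ((SHC.comapPoint f ξ).presheafFiber.map ((EtCoh.pullPushAdj f).unit.app G).hom t)) =
      fun t => (cmp f ξ G).hom t := funext (unit_stalk f ξ G)
  have b1 : Function.Bijective (stalkMapI f ξ ((EtCoh.pull f).obj G)) :=
    ⟨stalkMapI_injective f ξ _, stalkMapI_surjective f ξ _⟩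
  have h4 : Function.Bijective (fun t => stalkMapI f ξ ((EtCoh.pull f).obj G)
      ((SHC.comapPoint f ξ).presheafFiber.map ((EtCoh.pullPushAdj f).unit.app G).hom t)) := by
    rw [h3]
    exact ⟨cmp_hom_injective f ξ G, cmp_hom_surjective f ξ G⟩
  exact (Function.Bijective.of_comp_iff' b1 _).1 h4

end Bij

end Groth.Agent.Helper1.FP
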