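import Mathlib
import Groth.Prelude.Def_EtCore
import Groth.Prelude.Def_PBC
import Groth.Agent.Lib.Helper1.FP15

/-!
# Direct images along integral universally injective morphisms: full faithfulness, essential
image, and topological invariance of cohomology
-/

set_option autoImplicit false
set_option linter.unusedSectionVars false
set_option linter.style.haveILetI false
open CategoryTheory CategoryTheory.Limits AlgebraicGeometry Opposite
universe u w

namespace Groth.Agent.Helper1.FP

open Groth.Agent.Helper1.ELR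

/-- a morphism of abelian étale sheaves which is bijective on all stalks at algebraically closed
geometric points is an isomorphism -/
theorem isIso_of_stalkwise {X : Scheme.{u}} {F G : EtCoh.Ab X} (φ : F ⟶ G)
    (h : ∀ (Ω : Type u) [Field Ω] [IsAlgClosed Ω] (ξ : Spec (CommRingCat.of Ω) ⟶ X),
      Function.Bijective ((Φ ξ).presheafFiber.map φ.hom)) : IsIso φ := by
  haveI := SHC.preservesFilteredColimits_forget.{u}
  have key : ∀ (U : X.Etale) (x : U.left), ∃ (Ω : Type u) (_ : Field Ω) (_ : IsSepClosed Ω)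
      (ξ : Spec (CommRingCat.of Ω) ⟶ X) (y : (Scheme.pointSmallEtale ξ).fiber.obj U),
      (y.left : Spec (CommRingCat.of Ω) ⟶ U.left).base (default : Spec (CommRingCat.of Ω)) = x ∧
      Function.Bijective ((Scheme.pointSmallEtale ξ).presheafFiber.map φ.hom) := by
    intro U x
    obtain ⟨Ω, hΩ1, hΩ2, η₀, hη₀⟩ := exists_geomPoint x
    letI := hΩ1
    haveI := hΩ2
    exact ⟨Ω, hΩ1, inferInstance, η₀ ≫ U.hom, mkPt (η₀ ≫ U.hom) U η₀ rfl, hη₀,
      @h Ω hΩ1 hΩ2 (η₀ ≫ U.hom)⟩
  haveI : Sheaf.IsLocallyInjective φ := by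
    apply SHC.isLocallyInjective_of_enough
    intro U x
    obtain ⟨Ω, i1, i2, ξ, y, hy, hb⟩ := key U x
    exact ⟨Ω, i1, i2, ξ, y, hy, hb.1⟩
  haveI : Sheaf.IsLocallySurjective φ := by
    apply SHC.isLocallySurjective_of_enough
    intro U x
    obtain ⟨Ω, i1, i2, ξ, y, hy, hb⟩ := key U x
    exact ⟨Ω, i1, i2, ξ, y, hy, hb.2⟩
  haveI : Mono φ := Sheaf.mono_of_isLocallyInjective _
  haveI : Epi φ := (Sheaf.isLocallySurjective_iff_epi' _ _).1 inferInstance
  exact isIso_of_mono_of_epi _

/-- the counit `f⁻¹ f_* F ⟶ F` is an isomorphism for `f` integral and universally injective -/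
theorem isIso_counit_integral_inj {X Y : Scheme.{u}} (f : X ⟶ Y) [IsIntegralHom f]
    [UniversallyInjective f] (F : EtCoh.Ab X) :
    IsIso ((EtCoh.pullPushAdj f).counit.app F) := by
  apply isIso_of_stalkwise
  intro Ω _ _ ξ
  exact counit_stalk_bijective f ξ F

set_option backward.isDefEq.respectTransparency.types false in
/-- the stalk of a direct image vanishes outside the (closed) image -/
theorem isZero_stalk_push_of_closed_range {Z X : Scheme.{u}} (i : Z ⟶ X)
    (hcl : IsClosed (Set.range i.base))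
    (G : EtCoh.Ab Z) {Ω : Type u} [Field Ω] [IsSepClosed Ω] (ξ : Spec (CommRingCat.of Ω) ⟶ X)
    (hξ : Disjoint (Set.range ξ.base) (Set.range i.base)) :
    IsZero ((EtCoh.stalk ξ).obj ((EtCoh.push i).obj G)) := by
  haveI := SHC.preservesFilteredColimits_forget.{u}
  suffices h : ∀ p : ToType ((Scheme.pointSmallEtale ξ).presheafFiber.obj
      ((EtCoh.push i).obj G).obj), p = 0 by
    haveI : Subsingleton (ToType ((Scheme.pointSmallEtale ξ).presheafFiber.obj
      ((EtCoh.push i).obj G).obj)) := ⟨fun a b => (h a).trans (h b).symm⟩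
    exact AddCommGrpCat.isZero_of_subsingleton
      ((Scheme.pointSmallEtale ξ).presheafFiber.obj ((EtCoh.push i).obj G).obj)
  intro p
  obtain ⟨U, y, z, rfl⟩ := (Scheme.pointSmallEtale ξ).toPresheafFiber_jointly_surjective p
  let O : X.Opens := ⟨(Set.range i.base)ᶜ, hcl.isOpen_compl⟩
  let W : U.left.Opens := U.hom ⁻¹ᵁ O
  let U' : X.Etale := Scheme.Etale.mk (W.ι ≫ U.hom)
  let f : U' ⟶ U := MorphismProperty.Over.homMk W.ι rfl trivial
  let yl : Spec (CommRingCat.of Ω) ⟶ U.left := y.left
  have hy : yl ≫ U.hom = ξ := Over.w y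
  have hrange : Set.range yl.base ⊆ Set.range W.ι.base := by
    rintro _ ⟨a, rfl⟩
    rw [Scheme.Opens.range_ι]
    change U.hom.base (yl.base a) ∈ (Set.range i.base)ᶜ
    have h1 : U.hom.base (yl.base a) = ξ.base a := by
      rw [← hy]; rfl
    rw [h1]
    exact Set.disjoint_left.1 hξ ⟨a, rfl⟩
  let l : Spec (CommRingCat.of Ω) ⟶ W.toScheme := IsOpenImmersion.lift W.ι yl hrange
  have hl : l ≫ W.ι = yl := IsOpenImmersion.lift_fac _ _ _
  have hl' : l ≫ U'.hom = ξ := by
    change l ≫ (W.ι ≫ U.hom) = ξ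
    rw [← Category.assoc, hl, hy]
  let y' : (Scheme.pointSmallEtale ξ).fiber.obj U' := Over.homMk l hl'
  have hy' : (Scheme.pointSmallEtale ξ).fiber.map f y' = y := by
    apply Over.OverMorphism.ext
    exact hl
  haveI : IsEmpty ((EtCoh.bc i).obj U').left := by
    constructor
    intro t
    let a : U'.left := (pullback.fst U'.hom i : ((EtCoh.bc i).obj U').left ⟶ U'.left).base t
    let b : Z := (pullback.snd U'.hom i : ((EtCoh.bc i).obj U').left ⟶ Z).base t
    have hab : U'.hom.base a = i.base b := by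
      have h2 := congrArg (fun φ => φ.base t) (pullback.condition (f := U'.hom) (g := i))
      exact h2
    have ha : U.hom.base (W.ι.base a) ∈ (Set.range i.base)ᶜ := a.2
    exact ha ⟨b, hab.symm⟩
  haveI := SHC.subsingleton_sections_of_isEmpty G ((EtCoh.bc i).obj U')
  rw [← hy', ← (Scheme.pointSmallEtale ξ).toPresheafFiber_w_apply f y' _ z]
  have hz : ((EtCoh.push i).obj G).obj.map f.op z = 0 :=
    Subsingleton.elim (α := G.obj.obj (op ((EtCoh.bc i).obj U'))) _ _
  rw [hz, map_zero]

section Unit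

variable {X Y : Scheme.{u}} (f : X ⟶ Y) [IsIntegralHom f] [UniversallyInjective f]

theorem isClosed_range_of_integral : IsClosed (Set.range f.base) :=
  f.isClosedMap.isClosed_range

/-- the unit `G ⟶ f_* f⁻¹ G` is an isomorphism if `G` is supported on the image of `f` -/
theorem isIso_unit_of_supp (G : EtCoh.Ab Y) (hG : EtPBC.supp G ⊆ Set.range f.base) :
    IsIso ((EtCoh.pullPushAdj f).unit.app G) := by
  haveI := SHC.preservesFilteredColimits_forget.{u}
  have key : ∀ (U : Y.Etale) (x : U.left), ∃ (Ω : Type u) (_ : Field Ω) (_ : IsSepClosed Ω)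
      (η : Spec (CommRingCat.of Ω) ⟶ Y) (y : (Scheme.pointSmallEtale η).fiber.obj U),
      (y.left : Spec (CommRingCat.of Ω) ⟶ U.left).base (default : Spec (CommRingCat.of Ω)) = x ∧
      Function.Bijective ((Scheme.pointSmallEtale η).presheafFiber.map
        ((EtCoh.pullPushAdj f).unit.app G).hom) := by
    intro U x
    by_cases hx : U.hom.base x ∈ Set.range f.base
    · obtain ⟨x', hx'⟩ := hx
      obtain ⟨z, hz1, hz2⟩ := Scheme.Pullback.exists_preimage_pullback (f := U.hom) (g := f)
        x x' hx'.symm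
      obtain ⟨Ω, hΩ1, hΩ2, ζ, hζ⟩ := exists_geomPoint z
      letI := hΩ1
      haveI := hΩ2
      let ξ : Spec (CommRingCat.of Ω) ⟶ X := ζ ≫ pullback.snd U.hom f
      have hc : (ζ ≫ pullback.fst U.hom f) ≫ U.hom = ξ ≫ f := by
        rw [Category.assoc, pullback.condition, ← Category.assoc]
      refine ⟨Ω, hΩ1, inferInstance, ξ ≫ f, mkPt (ξ ≫ f) U (ζ ≫ pullback.fst U.hom f) hc, ?_,
        unit_stalk_bijective f ξ G⟩
      show (ζ ≫ pullback.fst U.hom f).base default = x
      have h1 : (ζ ≫ pullback.fst U.hom f).base default =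
          (pullback.fst U.hom f).base (ζ.base default) := rfl
      rw [h1]
      have h2 : ζ.base default = z := hζ
      rw [h2]
      exact hz1
    · obtain ⟨Ω, hΩ1, hΩ2, η₀, hη₀⟩ := exists_geomPoint x
      letI := hΩ1
      haveI := hΩ2
      refine ⟨Ω, hΩ1, inferInstance, η₀ ≫ U.hom, mkPt (η₀ ≫ U.hom) U η₀ rfl, hη₀, ?_⟩
      have hpt : (η₀ ≫ U.hom).base default = U.hom.base x := by
        have h1 : (η₀ ≫ U.hom).base default = U.hom.base (η₀.base default) := rfl
        rw [h1]
        have h2 : η₀.base default = x := hη₀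
        rw [h2]
      have hrange : Set.range (η₀ ≫ U.hom).base = {U.hom.base x} := by
        rw [Set.range_unique, hpt]
      have hZ1 : IsZero ((EtCoh.stalk (η₀ ≫ U.hom)).obj G) := by
        by_contra hnz
        exact hx (hG ⟨Ω, hΩ1, inferInstance, η₀ ≫ U.hom, hrange, hnz⟩)
      have hZ2 : IsZero ((EtCoh.stalk (η₀ ≫ U.hom)).obj
          ((EtCoh.push f).obj ((EtCoh.pull f).obj G))) := by
        apply isZero_stalk_push_of_closed_range f (isClosed_range_of_integral f)
        rw [hrange]
        exact Set.disjoint_singleton_left.2 hx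
      haveI s1 := AddCommGrpCat.subsingleton_of_isZero hZ1
      haveI s2 := AddCommGrpCat.subsingleton_of_isZero hZ2
      exact ⟨fun a b _ => s1.elim a b, fun b => ⟨0, s2.elim _ _⟩⟩
  haveI : Sheaf.IsLocallyInjective ((EtCoh.pullPushAdj f).unit.app G) := by
    apply SHC.isLocallyInjective_of_enough
    intro U x
    obtain ⟨Ω, i1, i2, ξ, y, hy, hb⟩ := key U x
    exact ⟨Ω, i1, i2, ξ, y, hy, hb.1⟩
  haveI : Sheaf.IsLocallySurjective ((EtCoh.pullPushAdj f).unit.app G) := by
    apply SHC.isLocallySurjective_of_enough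
    intro U x
    obtain ⟨Ω, i1, i2, ξ, y, hy, hb⟩ := key U x
    exact ⟨Ω, i1, i2, ξ, y, hy, hb.2⟩
  haveI : Mono ((EtCoh.pullPushAdj f).unit.app G) := Sheaf.mono_of_isLocallyInjective _
  haveI : Epi ((EtCoh.pullPushAdj f).unit.app G) :=
    (Sheaf.isLocallySurjective_iff_epi' _ _).1 inferInstance
  exact isIso_of_mono_of_epi _

/-- **Direct image along an integral universally injective morphism.** -/
theorem push_props_integral_inj :
    (EtCoh.push f).Full ∧ (EtCoh.push f).Faithful ∧
    (∀ G : EtCoh.Ab Y, (EtCoh.push f).essImage G ↔ EtPBC.supp G ⊆ Set.range f.base) ∧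
    ∀ F : EtCoh.Ab X, IsIso ((EtCoh.pullPushAdj f).counit.app F) := by
  have hc : ∀ F : EtCoh.Ab X, IsIso ((EtCoh.pullPushAdj f).counit.app F) :=
    isIso_counit_integral_inj f
  haveI : IsIso (EtCoh.pullPushAdj f).counit := NatIso.isIso_of_isIso_app _
  let ff := (EtCoh.pullPushAdj f).fullyFaithfulROfIsIsoCounit
  refine ⟨ff.full, ff.faithful, ?_, hc⟩
  intro G
  constructor
  · rintro ⟨F, ⟨e⟩⟩
    rintro x ⟨Ω, hΩ1, hΩ2, η, hη, hnz⟩
    by_contra hx
    apply hnz
    have hZ : IsZero ((EtCoh.stalk η).obj ((EtCoh.push f).obj F)) := by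
      apply isZero_stalk_push_of_closed_range f (isClosed_range_of_integral f)
      have hη' : Set.range η.base = {x} := hη
      rw [hη']
      exact Set.disjoint_singleton_left.2 hx
    exact hZ.of_iso ((EtCoh.stalk η).mapIso e.symm)
  · intro hG
    haveI := isIso_unit_of_supp f G hG
    exact ⟨(EtCoh.pull f).obj G, ⟨(asIso ((EtCoh.pullPushAdj f).unit.app G)).symm⟩⟩

end Unit

/-- precomposition with an isomorphism is bijective on `Ext` groups -/
theorem ext_precomp_iso_bijective {C : Type*} [Category C] [Abelian C] [HasExt.{w} C]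
    {A B M : C} (φ : A ≅ B) (n : ℕ) :
    Function.Bijective
      (fun e : Abelian.Ext B M n => (Abelian.Ext.mk₀ φ.hom).comp e (zero_add n)) := by
  refine Function.bijective_iff_has_inverse.2
    ⟨fun e' => (Abelian.Ext.mk₀ φ.inv).comp e' (zero_add n), ?_, ?_⟩
  · intro e
    show (Abelian.Ext.mk₀ φ.inv).comp ((Abelian.Ext.mk₀ φ.hom).comp e (zero_add n))
      (zero_add n) = e
    rw [Abelian.Ext.mk₀_comp_mk₀_assoc, φ.inv_hom_id, Abelian.Ext.mk₀_id_comp]
  · intro e'
    show (Abelian.Ext.mk₀ φ.hom).comp ((Abelian.Ext.mk₀ φ.inv).comp e' (zero_add n))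
      (zero_add n) = e'
    rw [Abelian.Ext.mk₀_comp_mk₀_assoc, φ.hom_inv_id, Abelian.Ext.mk₀_id_comp]

/-- **Topological invariance of étale cohomology.** -/
theorem Hpull_bijective_of_univHomeo {X₀ X : Scheme.{u}} (i : X₀ ⟶ X) [IsIntegralHom i]
    [UniversallyInjective i] [Surjective i] [PreservesFiniteLimits (EtCoh.pull i)]
    (F : EtCoh.Ab X) (q : ℕ) :
    Function.Bijective (EtCore.Hpull i F q) := by
  haveI hu : ∀ G : EtCoh.Ab X, IsIso ((EtCoh.pullPushAdj i).unit.app G) := fun G =>
    isIso_unit_of_supp i G (fun x _ => i.surjective x)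
  haveI hc : ∀ F : EtCoh.Ab X₀, IsIso ((EtCoh.pullPushAdj i).counit.app F) :=
    isIso_counit_integral_inj i
  let e : EtCoh.Ab X ≌ EtCoh.Ab X₀ := (EtCoh.pullPushAdj i).toEquivalence
  haveI : (EtCoh.pull i).IsEquivalence := e.isEquivalence_functor
  haveI : (EtCoh.push i).IsRightAdjoint := (EtCoh.pullPushAdj i).isRightAdjoint
  haveI : (EtCoh.push i).PreservesMonomorphisms :=
    Functor.preservesMonomorphisms_of_isRightAdjoint _
  haveI : (EtCoh.pull i).PreservesInjectiveObjects :=
    Functor.preservesInjectiveObjects_of_adjunction_of_preservesMonomorphisms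
      (e.symm.toAdjunction : EtCoh.push i ⊣ EtCoh.pull i)
  have h1 := Functor.mapExt_bijective_of_preservesInjectiveObjects (EtCoh.pull i)
    (EtCoh.const X ℤ) F q
  have h2 := ext_precomp_iso_bijective (M := (EtCoh.pull i).obj F) (EtCore.pullConst i ℤ).symm q
  exact h2.comp h1

end Groth.Agent.Helper1.FP
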