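import Groth.Agent.Lib.Helper1.EL7
import Groth.Agent.Lib.Helper1.SHznUniv
import Groth.Agent.Lib.Helper1.FP16
import Groth.Agent.S0101
import Groth.Prelude.Def_EtRestW

/-!
# EL8: local acyclicity is stable under base changes for which the map between strict
henselizations of the bases is integral
-/

set_option autoImplicit false
set_option linter.style.haveILetI false

namespace Groth.Agent.Helper1.EL

open CategoryTheory CategoryTheory.Limits AlgebraicGeometry IsLocalRing Opposite TensorProduct

universe u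

/-- Etale cohomology with constant coefficients is invariant under isomorphisms of schemes. -/
theorem nonempty_H_const_addEquiv_of_iso {Y Z : Scheme.{u}} (ψ : Y ≅ Z) (M : Type)
    [AddCommGroup M] (q : ℕ) :
    Nonempty (EtCoh.H Z (EtCoh.const Z M) q ≃+ EtCoh.H Y (EtCoh.const Y M) q) := by
  haveI := Groth.Agent.S0101.result ψ.hom
  have hb := Groth.Agent.Helper1.FP.Hpull_bijective_of_univHomeo ψ.hom (EtCoh.const Z M) q
  let e1 := AddEquiv.ofBijective _ hb
  let e2 : EtCoh.H Y ((EtCoh.pull ψ.hom).obj (EtCoh.const Z M)) q ≃+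
      EtCoh.H Y (EtCoh.const Y M) q :=
    ((EtCoh.HF Y q).mapIso (EtCore.pullConst ψ.hom M)).addCommGroupIsoToAddEquiv
  exact ⟨e1.trans e2⟩

/-- The same for spectra of isomorphic rings. -/
theorem nonempty_H_const_addEquiv_of_ringEquiv {R₁ R₂ : Type u} [CommRing R₁] [CommRing R₂]
    (e : R₁ ≃+* R₂) (M : Type) [AddCommGroup M] (q : ℕ) :
    Nonempty (EtCoh.H (Spec (CommRingCat.of R₁)) (EtCoh.const _ M) q ≃+
      EtCoh.H (Spec (CommRingCat.of R₂)) (EtCoh.const _ M) q) :=
  nonempty_H_const_addEquiv_of_iso (Scheme.Spec.mapIso e.toCommRingCatIso.op) M q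

section Main

variable {X S S' : Scheme.{u}} (f : X ⟶ S) (g : S' ⟶ S)

/-- Local acyclicity passes to a base change `g` as soon as the maps between strict henselizations
of the local rings of the bases are integral. -/
theorem isLocallyAcyclic_snd (hf : EtRest.IsLocallyAcyclic f)
    (hint : ∀ (x' : ↥(pullback f g)) (RS RS' : Type u) [CommRing RS] [IsLocalRing RS]
      [CommRing RS'] [IsLocalRing RS']
      [Algebra (S.presheaf.stalk (f.base (px f g x'))) RS]
      [IsLocalHom (algebraMap (S.presheaf.stalk (f.base (px f g x'))) RS)]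
      [Hensel.IsStrictHenselization (S.presheaf.stalk (f.base (px f g x'))) RS]
      [Algebra (S'.presheaf.stalk (ps f g x')) RS']
      [IsLocalHom (algebraMap (S'.presheaf.stalk (ps f g x')) RS')]
      [Hensel.IsStrictHenselization (S'.presheaf.stalk (ps f g x')) RS']
      (α : RS →+* RS') [IsLocalHom α],
      α.comp (algebraMap (S.presheaf.stalk (f.base (px f g x'))) RS) =
        (algebraMap (S'.presheaf.stalk (ps f g x')) RS').comp (a₁ f g x').hom → α.IsIntegral) :
    EtRest.IsLocallyAcyclic (pullback.snd f g) := by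
  intro x' RS' RX' _ _ _ _ _ _ _ _ _ _ _ _ hc' Ω _ _ _ n hn
  let RS : Type u := SHzn.S (S.presheaf.stalk (f.base (px f g x')))
  let RX : Type u := SHzn.S (X.presheaf.stalk (px f g x'))
  haveI : Hensel.IsStrictHenselization (S.presheaf.stalk (f.base (px f g x'))) RS :=
    SHzn.isStrictHenselization _
  haveI : Hensel.IsStrictHenselization (X.presheaf.stalk (px f g x')) RX :=
    SHzn.isStrictHenselization _
  have hsq : ((pullback.fst f g).stalkMap x').hom.comp (f.stalkMap (px f g x')).hom =
      ((pullback.snd f g).stalkMap x').hom.comp (a₁ f g x').hom := by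
    have := congrArg CommRingCat.Hom.hom (square f g x')
    simpa only [CommRingCat.hom_comp] using this
  obtain ⟨α, β, γ, hαl, hβl, hγl, hα, hβ, hγ, hβγ⟩ :=
    exists_maps (RS := RS) (RS' := RS') (RX := RX) (RX' := RX')
      (a₁ f g x').hom (f.stalkMap (px f g x')).hom ((pullback.fst f g).stalkMap x').hom
      ((pullback.snd f g).stalkMap x').hom hsq (algebraMap RS' RX') hc'
  letI : Algebra RS RX := γ.toAlgebra
  letI : Algebra RS RS' := α.toAlgebra
  haveI : IsLocalHom (algebraMap RS RX) := hγl
  haveI : IsLocalHom (algebraMap RS RS') := hαl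
  haveI : Algebra.IsIntegral RS RS' := ⟨hint x' RS RS' α hα⟩
  haveI : IsSepClosed (ResidueField RS) :=
    (Hensel.IsStrictHenselization.isSepClosure
      (R := S.presheaf.stalk (f.base (px f g x'))) (S := RS)).sep_closed
  have hbij := epsHom_bijective (a₁ f g x').hom (f.stalkMap (px f g x')).hom
    ((pullback.fst f g).stalkMap x').hom ((pullback.snd f g).stalkMap x').hom β
    (algebraMap RS' RX') hα hγ hβ hc' hβγ
    (fun E' _ _ a b ε _ hab h1 h2 => fib f g x' E' RX' (algebraMap _ RX') a b ε hab h1 h2)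
  letI : Algebra RS Ω := ((algebraMap RS' Ω).comp α).toAlgebra
  haveI : IsScalarTower RS RS' Ω := IsScalarTower.of_algebraMap_eq fun _ => rfl
  obtain ⟨e⟩ := nonempty_ringEquiv_tensor β hβγ hbij Ω
  have hn' : (n : X.residueField (px f g x')) ≠ 0 := by
    intro h0
    apply hn
    have := congrArg ((pullback.fst f g).residueFieldMap x').hom h0
    rwa [map_natCast, map_zero] at this
  have H := hf (px f g x') RS RX hγ Ω n hn'
  have E : ∀ q, Nonempty (EtCoh.H (Spec (CommRingCat.of (EtRest.vcRing RS RX Ω)))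
      (EtCoh.const _ (ZMod n)) q ≃+
      EtCoh.H (Spec (CommRingCat.of (EtRest.vcRing RS' RX' Ω))) (EtCoh.const _ (ZMod n)) q) :=
    fun q => nonempty_H_const_addEquiv_of_ringEquiv e (ZMod n) q
  refine ⟨fun q hq => ?_, ?_⟩
  · obtain ⟨Eq⟩ := E q
    haveI := H.1 q hq
    exact Eq.symm.injective.subsingleton
  · obtain ⟨E0⟩ := E 0
    obtain ⟨e0⟩ := H.2
    exact ⟨E0.symm.trans e0⟩

end Main

end Groth.Agent.Helper1.EL
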