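import Groth.Agent.Lib.Helper1.EL8
import Groth.Agent.Lib.Helper1.HenselQF

/-!
# EL9: `RS → RS'` is integral for a locally quasi-finite base change
-/

set_option autoImplicit false
set_option linter.style.haveILetI false

namespace Groth.Agent.Helper1.EL

open CategoryTheory CategoryTheory.Limits AlgebraicGeometry IsLocalRing Opposite TensorProduct

universe u

/-- Ring-level key: a quasi-finite finite type algebra over `A₀` maps to a local ring over a
henselian local `RS` with integral image. -/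
theorem isIntegralElem_of_quasiFinite {RS A₀ B₀ RS' : Type u} [CommRing RS] [HenselianLocalRing RS]
    [CommRing A₀] [CommRing B₀] [Algebra A₀ B₀] [Algebra.FiniteType A₀ B₀]
    [Algebra.QuasiFinite A₀ B₀] [Algebra A₀ RS] [CommRing RS'] [IsLocalRing RS']
    (α : RS →+* RS') [IsLocalHom α] (κ' : B₀ →+* RS')
    (hκ' : κ'.comp (algebraMap A₀ B₀) = α.comp (algebraMap A₀ RS)) (b : B₀) :
    α.IsIntegralElem (κ' b) := by
  letI : Algebra A₀ RS' := (α.comp (algebraMap A₀ RS)).toAlgebra
  letI : Algebra RS RS' := α.toAlgebra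
  let αa : RS →ₐ[A₀] RS' := { α with commutes' := fun _ => rfl }
  have hcomm : ∀ r : A₀, κ' (algebraMap A₀ B₀ r) = α (algebraMap A₀ RS r) := fun r =>
    congrArg (fun k : A₀ →+* RS' => k r) hκ'
  let κa : B₀ →ₐ[A₀] RS' := { κ' with commutes' := hcomm }
  let θ : RS ⊗[A₀] B₀ →ₐ[A₀] RS' := Algebra.TensorProduct.productMap αa κa
  have hθl : ∀ r : RS, θ (algebraMap RS (RS ⊗[A₀] B₀) r) = α r := fun r => by
    show θ (r ⊗ₜ[A₀] (1 : B₀)) = α r
    exact Algebra.TensorProduct.productMap_left_apply αa κa r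
  have hθr : ∀ b : B₀, θ ((1 : RS) ⊗ₜ[A₀] b) = κ' b := fun b =>
    Algebra.TensorProduct.productMap_right_apply αa κa b
  obtain ⟨e, he, hfin, hq⟩ := exists_isIdempotentElem_finite_of_finiteType RS (RS ⊗[A₀] B₀)
  rcases eq_zero_or_one_of_isIdempotentElem (he.map θ) with h0 | h1
  · exfalso
    let θ' : (RS ⊗[A₀] B₀) ⧸ Ideal.span ({e} : Set (RS ⊗[A₀] B₀)) →+* RS' :=
      Ideal.Quotient.lift _ θ.toRingHom (fun a ha => by
        obtain ⟨c, rfl⟩ := Ideal.mem_span_singleton'.mp ha
        show θ (c * e) = 0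
        rw [map_mul, h0, mul_zero])
    let P' : Ideal ((RS ⊗[A₀] B₀) ⧸ Ideal.span ({e} : Set (RS ⊗[A₀] B₀))) :=
      (maximalIdeal RS').comap θ'
    haveI : P'.IsPrime := Ideal.comap_isPrime _ _
    have hover : P'.LiesOver (maximalIdeal RS) := by
      constructor
      ext r
      simp only [Ideal.under, Ideal.mem_comap, P']
      have : θ' (algebraMap RS _ r) = α r := hθl r
      rw [this]
      constructor
      · intro hr
        exact map_mem_maximalIdeal α hr
      · intro hr
        by_contra hnr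
        have hu : IsUnit r := by
          by_contra hnu
          exact hnr hnu
        exact hr (hu.map α)
    exact hq P' hover inferInstance
  · have hker : ∀ a ∈ Ideal.span ({1 - e} : Set (RS ⊗[A₀] B₀)), θ.toRingHom a = 0 := by
      intro a ha
      obtain ⟨c, rfl⟩ := Ideal.mem_span_singleton'.mp ha
      show θ (c * (1 - e)) = 0
      rw [map_mul, map_sub, map_one, h1, sub_self, mul_zero]
    let θ' : (RS ⊗[A₀] B₀) ⧸ Ideal.span ({1 - e} : Set (RS ⊗[A₀] B₀)) →+* RS' :=
      Ideal.Quotient.lift _ θ.toRingHom hker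
    let θa : (RS ⊗[A₀] B₀) ⧸ Ideal.span ({1 - e} : Set (RS ⊗[A₀] B₀)) →ₐ[RS] RS' :=
      { θ' with commutes' := fun r => hθl r }
    haveI := hfin
    have hint : IsIntegral RS (Ideal.Quotient.mk (Ideal.span ({1 - e} : Set (RS ⊗[A₀] B₀)))
        ((1 : RS) ⊗ₜ[A₀] b)) := Algebra.IsIntegral.isIntegral _
    have := hint.map θa
    have e2 : θa (Ideal.Quotient.mk _ ((1 : RS) ⊗ₜ[A₀] b)) = κ' b := hθr b
    rw [e2] at this
    exact this

section

variable {X S S' : Scheme.{u}} (f : X ⟶ S) (g : S' ⟶ S) (x' : ↥(pullback f g))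

/-- For a locally quasi-finite base change, the map between strict henselizations of the bases is
integral. -/
theorem isIntegral_of_locallyQuasiFinite [LocallyOfFiniteType g] [LocallyQuasiFinite g]
    (RS RS' : Type u) [CommRing RS]
    [HenselianLocalRing RS] (hRS : IsSepClosed (ResidueField RS)) [CommRing RS'] [IsLocalRing RS']
    [Algebra (S.presheaf.stalk (f.base (px f g x'))) RS]
    [Algebra (S'.presheaf.stalk (ps f g x')) RS']
    [IsLocalHom (algebraMap (S'.presheaf.stalk (ps f g x')) RS')]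
    [Hensel.IsStrictHenselization (S'.presheaf.stalk (ps f g x')) RS']
    (α : RS →+* RS') [IsLocalHom α]
    (hα : α.comp (algebraMap (S.presheaf.stalk (f.base (px f g x'))) RS) =
      (algebraMap (S'.presheaf.stalk (ps f g x')) RS').comp (a₁ f g x').hom) :
    α.IsIntegral := by
  obtain ⟨_, ⟨U, hU, rfl⟩, hxU, -⟩ := S.isBasis_affineOpens.exists_subset_of_mem_open
    (Set.mem_univ (g.base (ps f g x'))) isOpen_univ
  obtain ⟨_, ⟨V, hV, rfl⟩, hsV, hVU⟩ := S'.isBasis_affineOpens.exists_subset_of_mem_open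
    (show ps f g x' ∈ (g ⁻¹ᵁ U : Set S') from hxU) (g ⁻¹ᵁ U).isOpen
  have hVU' : V ≤ g ⁻¹ᵁ U := hVU
  have hfxU : f.base (px f g x') ∈ U := (hpt f g x').symm ▸ hxU
  let ψ : Γ(S, U) →+* Γ(S', V) := (g.appLE U V hVU').hom
  letI : Algebra Γ(S, U) Γ(S', V) := ψ.toAlgebra
  haveI : Algebra.FiniteType Γ(S, U) Γ(S', V) := g.finiteType_appLE hU hV hVU'
  haveI : Algebra.QuasiFinite Γ(S, U) Γ(S', V) :=
    LocallyQuasiFinite.quasiFinite_appLE hU hV hVU'
  letI : Algebra Γ(S, U) RS := ((algebraMap (S.presheaf.stalk (f.base (px f g x'))) RS).comp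
      (S.presheaf.germ U (f.base (px f g x')) hfxU).hom).toAlgebra
  let κ' : Γ(S', V) →+* RS' := (algebraMap (S'.presheaf.stalk (ps f g x')) RS').comp
    (S'.presheaf.germ V (ps f g x') hsV).hom
  have hκ' : κ'.comp (algebraMap Γ(S, U) Γ(S', V)) = α.comp (algebraMap Γ(S, U) RS) := by
    show ((algebraMap (S'.presheaf.stalk (ps f g x')) RS').comp
      (S'.presheaf.germ V (ps f g x') hsV).hom).comp ψ =
      α.comp ((algebraMap (S.presheaf.stalk (f.base (px f g x'))) RS).comp
        (S.presheaf.germ U (f.base (px f g x')) hfxU).hom)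
    rw [← RingHom.comp_assoc, hα, RingHom.comp_assoc, RingHom.comp_assoc]
    congr 1
    have h1 := germ_a₁ f g x' U hxU
    have h2 : g.appLE U V hVU' ≫ S'.presheaf.germ V (ps f g x') hsV =
        g.app U ≫ S'.presheaf.germ (g ⁻¹ᵁ U) (ps f g x') hxU := by
      rw [Scheme.Hom.appLE, Category.assoc, TopCat.Presheaf.germ_res]
    rw [← h2] at h1
    exact (congrArg CommRingCat.Hom.hom h1).symm
  apply isIntegral_of_ess (A' := S'.presheaf.stalk (ps f g x')) hRS α
  intro a'
  letI := S'.presheaf.algebra_section_stalk ⟨ps f g x', hsV⟩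
  haveI := hV.isLocalization_stalk ⟨ps f g x', hsV⟩
  obtain ⟨⟨b, u⟩, h⟩ := IsLocalization.surj
    (hV.primeIdealOf ⟨ps f g x', hsV⟩).asIdeal.primeCompl a'
  exact ⟨_, _, IsLocalization.map_units _ u, h,
    isIntegralElem_of_quasiFinite α κ' hκ' b, isIntegralElem_of_quasiFinite α κ' hκ' u⟩

end

end Groth.Agent.Helper1.EL
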