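import Mathlib
import Groth.Prelude.Def_EtBaseX
import Groth.Agent.Lib.Helper1.ELR1
import Groth.Agent.Lib.Helper1.EP1

/-!
# Points of the small étale site (S0656), part 2: the local ring of a point is strictly henselian
-/

set_option autoImplicit false
open CategoryTheory CategoryTheory.Limits AlgebraicGeometry Opposite
universe u

namespace Groth.Agent.Helper1.EP

open Groth.Agent.Helper1.ELR

variable {S : Scheme.{u}}

/-- evaluation of global sections at a point, in the residue field -/
noncomputable def evK {Y : Scheme.{u}} (v : Y) : Γ(Y, ⊤) ⟶ Y.residueField v :=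
  (Y.fromSpecResidueField v).appTop ≫ (Scheme.ΓSpecIso (Y.residueField v)).hom

theorem evK_eq_zero_of_notMem {Y : Scheme.{u}} (v : Y) (s : Γ(Y, ⊤))
    (hv : v ∉ Y.basicOpen s) : (evK v).hom s = 0 := by
  by_contra hne
  apply hv
  have hpre : (Y.fromSpecResidueField v) ⁻¹ᵁ (Y.basicOpen s) = ⊤ := by
    rw [Scheme.preimage_basicOpen_top]
    apply Scheme.basicOpen_of_isUnit
    have h1 : IsUnit ((evK v).hom s) := IsUnit.mk0 _ hne
    have h2 := h1.map (Scheme.ΓSpecIso (Y.residueField v)).inv.hom
    have h3 : (Scheme.ΓSpecIso (Y.residueField v)).inv.hom ((evK v).hom s) =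
        (Y.fromSpecResidueField v).appTop.hom s :=
      iso_inv_hom_apply (Scheme.ΓSpecIso (Y.residueField v)) _
    rw [h3] at h2
    exact h2
  have hz : (default : Spec (Y.residueField v)) ∈
      (Y.fromSpecResidueField v) ⁻¹ᵁ (Y.basicOpen s) := by
    rw [hpre]; trivial
  have h4 : (Y.fromSpecResidueField v) default = v := Y.fromSpecResidueField_apply v default
  rw [← h4]
  exact hz

theorem spec_evK {Y : Scheme.{u}} [IsAffine Y] (v : Y) :
    Spec.map (evK v) ≫ Y.isoSpec.inv = Y.fromSpecResidueField v :=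
  spec_ev_eq (Y.fromSpecResidueField v)

theorem mem_lifts_of_coeffs {R R' : Type*} [CommRing R] [CommRing R'] (φ : R →+* R')
    (f : Polynomial R') (h : (↑f.coeffs : Set R') ⊆ Set.range φ) :
    f ∈ Polynomial.lifts φ := by
  rw [Polynomial.lifts_iff_coeff_lifts]
  intro n
  by_cases hn : f.coeff n = 0
  · exact ⟨0, by rw [map_zero, hn]⟩
  · exact h (Finset.mem_coe.2 (Polynomial.coeff_mem_coeffs hn))

theorem divided_difference {A : Type*} [CommRing A] (F : Polynomial A) (α : A) :
    ∃ H : Polynomial A, F = Polynomial.C (F.eval α) + (Polynomial.X - Polynomial.C α) * H ∧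
      H.eval α = (Polynomial.derivative F).eval α := by
  have hroot : (F - Polynomial.C (F.eval α)).IsRoot α := by
    simp [Polynomial.IsRoot.def]
  have h0 := Polynomial.mul_divByMonic_eq_iff_isRoot.2 hroot
  refine ⟨(F - Polynomial.C (F.eval α)) /ₘ (Polynomial.X - Polynomial.C α), ?_, ?_⟩
  · rw [h0]; ring
  · have h1 := congrArg Polynomial.derivative h0
    simp only [Polynomial.derivative_mul, Polynomial.derivative_sub, Polynomial.derivative_X,
      Polynomial.derivative_C, sub_zero, one_mul] at h1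
    have h2 := congrArg (Polynomial.eval α) h1
    simpa using h2

variable (p : GrothendieckTopology.Point.{u} S.smallEtaleTopology)

/-- Root finding: a standard étale algebra over an affine level which, together with non-unit
basic opens, covers the level, acquires a section in the local ring. -/
theorem exists_root_of_cover (U : S.Etale) [IsAffine U.left] (x : p.fiber.obj U)
    (P : StandardEtalePair Γ(U.left, ⊤)) {ι : Type*} (g : ι → Γ(U.left, ⊤))
    (hg : ∀ i, ¬ IsUnit ((ρ p U x).hom (g i)))
    (hcov : ∀ v : U.left, (∀ i, (evK v).hom (g i) = 0) →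
      ∃ (L : Type u) (_ : Field L) (j : U.left.residueField v →+* L) (ω : L),
        Polynomial.eval₂ (j.comp (evK v).hom) ω P.f = 0 ∧
        Polynomial.eval₂ (j.comp (evK v).hom) ω P.g ≠ 0) :
    ∃ a : OP p, Polynomial.eval₂ (ρ p U x).hom a P.f = 0 ∧
      IsUnit (Polynomial.eval₂ (ρ p U x).hom a P.g) := by
  let A : CommRingCat.{u} := Γ(U.left, ⊤)
  let B : CommRingCat.{u} := CommRingCat.of P.Ring
  let φ : A ⟶ B := CommRingCat.ofHom (algebraMap A P.Ring)
  have hφ1 : (algebraMap A P.Ring).Etale := RingHom.etale_algebraMap.mpr inferInstance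
  haveI hφet : Etale (Spec.map φ) := (HasRingHomProperty.Spec_iff (P := @Etale)).2 hφ1
  let q : Spec B ⟶ U.left := Spec.map φ ≫ U.left.isoSpec.inv
  have hcov' : ∀ v : U.left, v ∈ Set.range q ∨ ∃ i, v ∈ U.left.basicOpen (g i) := by
    intro v
    by_cases hv : ∃ i, v ∈ U.left.basicOpen (g i)
    · exact Or.inr hv
    · left
      push_neg at hv
      obtain ⟨L, _, j, ω, h0, h1⟩ := hcov v (fun i => evK_eq_zero_of_notMem v (g i) (hv i))
      letI : Algebra A L := (j.comp (evK v).hom).toAlgebra
      have hmap : P.HasMap ω := by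
        refine ⟨?_, ?_⟩
        · show Polynomial.aeval ω P.f = 0
          rw [Polynomial.aeval_def]
          exact h0
        · show IsUnit (Polynomial.aeval ω P.g)
          rw [Polynomial.aeval_def]
          exact IsUnit.mk0 _ h1
      let ψ : P.Ring →ₐ[A] L := P.lift ω hmap
      let ψ' : B ⟶ CommRingCat.of L := CommRingCat.ofHom ψ.toRingHom
      have hφψ : φ ≫ ψ' = evK v ≫ CommRingCat.ofHom j := by
        apply CommRingCat.hom_ext
        apply RingHom.ext
        intro t
        exact ψ.commutes t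
      have hl : Spec.map ψ' ≫ q =
          Spec.map (CommRingCat.ofHom j) ≫ U.left.fromSpecResidueField v := by
        show Spec.map ψ' ≫ Spec.map φ ≫ U.left.isoSpec.inv = _
        rw [← Category.assoc, ← Spec.map_comp, hφψ, Spec.map_comp, Category.assoc, spec_evK]
        rfl
      refine ⟨(Spec.map ψ') default, ?_⟩
      have h2 : q ((Spec.map ψ') default) = (Spec.map ψ' ≫ q) default := rfl
      rw [h2, hl]
      exact U.left.fromSpecResidueField_apply v _
  obtain ⟨w, hw⟩ := exists_lift_of_cover_nonunits p U x q g hg hcov'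
  -- the root
  let b : Γ(Spec B, ⊤) := (Scheme.ΓSpecIso B).inv.hom P.X
  have hb : (Scheme.ΓSpecIso B).hom.hom b = P.X := iso_hom_inv_apply _ _
  have hγ : (Scheme.ΓSpecIso B).hom.hom.comp q.appTop.hom = algebraMap A P.Ring := by
    have := appTop_spec_eq (Y := U.left) φ
    exact congrArg (fun h => h.hom) this
  have hinj : Function.Injective (Scheme.ΓSpecIso B).hom.hom := by
    intro t₁ t₂ ht
    rw [← iso_inv_hom_apply (Scheme.ΓSpecIso B) t₁, ht, iso_inv_hom_apply]
  have hroot : Polynomial.eval₂ q.appTop.hom b P.f = 0 := by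
    apply hinj
    rw [Polynomial.hom_eval₂, hγ, hb, map_zero]
    exact (P.hasMap_X).1
  have hunit : IsUnit (Polynomial.eval₂ q.appTop.hom b P.g) := by
    have h1 : IsUnit ((Scheme.ΓSpecIso B).hom.hom (Polynomial.eval₂ q.appTop.hom b P.g)) := by
      rw [Polynomial.hom_eval₂, hγ, hb]
      exact (P.hasMap_X).2
    have h2 := h1.map (Scheme.ΓSpecIso B).inv.hom
    rwa [iso_inv_hom_apply] at h2
  have hρ : (ρ p U x).hom = (ρ p (mkOver U q) w).hom.comp q.appTop.hom :=
    ρ_comp_eq p (mkOverHom U q) w x hw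
  refine ⟨(ρ p (mkOver U q) w).hom b, ?_, ?_⟩
  · rw [hρ, ← Polynomial.hom_eval₂]
    exact (congrArg (ρ p (mkOver U q) w).hom hroot).trans (map_zero _)
  · rw [hρ, ← Polynomial.hom_eval₂]
    exact hunit.map _

theorem henselian : HenselianLocalRing (OP p) := by
  haveI := isLocalRing p
  refine HenselianLocalRing.mk ?_
  intro f hf a₀ h0 h1
  classical
  obtain ⟨U₁, x₁, -, -⟩ := exists_rep p (0 : OP p)
  obtain ⟨U₂, x₂, -, hU₂, -, hT⟩ := exists_common_over p U₁ x₁ (insert a₀ f.coeffs)
  haveI := hU₂
  have hfl : f ∈ Polynomial.lifts (ρ p U₂ x₂).hom := mem_lifts_of_coeffs _ f (fun r hr => hT (by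
    rw [Finset.coe_insert]
    exact Set.mem_insert_of_mem _ hr))
  obtain ⟨F₂, hF₂f, -, hF₂m⟩ := Polynomial.lifts_and_degree_eq_and_monic hfl hf
  obtain ⟨α₂, hα₂⟩ := hT (by
    rw [Finset.coe_insert]
    exact Set.mem_insert _ _)
  have hd : IsUnit ((ρ p U₂ x₂).hom ((Polynomial.derivative F₂).eval α₂)) := by
    have h2 : (ρ p U₂ x₂).hom ((Polynomial.derivative F₂).eval α₂) =
        (Polynomial.derivative f).eval a₀ := by
      rw [← hF₂f, Polynomial.derivative_map, Polynomial.eval_map, ← hα₂,
        Polynomial.eval₂_at_apply]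
    rw [h2]
    exact h1
  obtain ⟨U, x, k, hU, hkx, hδ⟩ := exists_refinement_isUnit p U₂ x₂ _ hd
  haveI := hU
  let κ : Γ(U₂.left, ⊤) →+* Γ(U.left, ⊤) := k.left.appTop.hom
  obtain ⟨F, hFdef⟩ : ∃ F : Polynomial Γ(U.left, ⊤), F = F₂.map κ := ⟨_, rfl⟩
  obtain ⟨α, hαdef⟩ : ∃ α : Γ(U.left, ⊤), α = κ α₂ := ⟨_, rfl⟩
  have hρ : (ρ p U₂ x₂).hom = (ρ p U x).hom.comp κ := ρ_comp_eq p k x x₂ hkx
  have hFm : F.Monic := by
    rw [hFdef]
    exact hF₂m.map κ
  have hFf : F.map (ρ p U x).hom = f := by
    rw [hFdef, Polynomial.map_map, ← hρ]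
    exact hF₂f
  have hα : (ρ p U x).hom α = a₀ := by
    rw [hαdef]
    show ((ρ p U x).hom.comp κ) α₂ = a₀
    rw [← hρ]
    exact hα₂
  have hδ' : IsUnit ((Polynomial.derivative F).eval α) := by
    have h2 : (Polynomial.derivative F).eval α = κ ((Polynomial.derivative F₂).eval α₂) := by
      rw [hFdef, hαdef, Polynomial.derivative_map, Polynomial.eval_map,
        Polynomial.eval₂_at_apply]
    rw [h2]
    exact hδ
  obtain ⟨H, hH1, hH2⟩ := divided_difference F α
  let P : StandardEtalePair Γ(U.left, ⊤) :=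
    ⟨F, hFm, Polynomial.derivative F * H, ⟨H, 0, 1, by simp⟩⟩
  have hε' : (ρ p U x).hom (F.eval α) = f.eval a₀ := by
    rw [← hFf, Polynomial.eval_map, ← hα, Polynomial.eval₂_at_apply]
  have hε : ¬ IsUnit ((ρ p U x).hom (F.eval α)) := by
    rw [hε']
    exact (IsLocalRing.mem_maximalIdeal _).1 h0
  obtain ⟨a, ha0, ha1⟩ := exists_root_of_cover p U x P (ι := Unit) (fun _ => F.eval α)
    (fun _ => hε) (by
      intro v hv
      refine ⟨U.left.residueField v, inferInstance, RingHom.id _, (evK v).hom α, ?_, ?_⟩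
      · rw [RingHom.id_comp, Polynomial.eval₂_at_apply]
        exact hv ()
      · rw [RingHom.id_comp, Polynomial.eval₂_at_apply]
        show (evK v).hom ((Polynomial.derivative F * H).eval α) ≠ 0
        rw [Polynomial.eval_mul, hH2, map_mul]
        have hu := hδ'.map (evK v).hom
        exact (hu.mul hu).ne_zero)
  have ha0' : Polynomial.eval₂ (ρ p U x).hom a F = 0 := ha0
  have ha1' : IsUnit (Polynomial.eval₂ (ρ p U x).hom a (Polynomial.derivative F) *
      Polynomial.eval₂ (ρ p U x).hom a H) := by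
    rw [← Polynomial.eval₂_mul]
    exact ha1
  have hHu : IsUnit (Polynomial.eval₂ (ρ p U x).hom a H) := isUnit_of_mul_isUnit_right ha1'
  have h5 := congrArg (Polynomial.eval₂ (ρ p U x).hom a) hH1
  rw [Polynomial.eval₂_add, Polynomial.eval₂_mul, Polynomial.eval₂_sub, Polynomial.eval₂_X,
    Polynomial.eval₂_C, Polynomial.eval₂_C, ha0', hα, hε'] at h5
  refine ⟨a, ?_, ?_⟩
  · rw [Polynomial.IsRoot.def, ← hFf, Polynomial.eval_map]
    exact ha0
  · rw [IsLocalRing.mem_maximalIdeal, mem_nonunits_iff]
    intro hunit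
    have h6 : f.eval a₀ = -((a - a₀) * Polynomial.eval₂ (ρ p U x).hom a H) := by
      linear_combination -h5
    have h7 : IsUnit (f.eval a₀) := by
      rw [h6]
      exact (hunit.mul hHu).neg
    exact (IsLocalRing.mem_maximalIdeal _).1 h0 h7

theorem isSepClosed_residueField :
    letI := isLocalRing p
    IsSepClosed (IsLocalRing.ResidueField (OP p)) := by
  letI := isLocalRing p
  apply IsSepClosed.of_exists_root
  intro pb hp hirr hsep
  classical
  have hsurj : Function.Surjective (IsLocalRing.residue (OP p)) :=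
    IsLocalRing.residue_surjective
  have hlift : pb ∈ Polynomial.lifts (IsLocalRing.residue (OP p)) := by
    rw [Polynomial.lifts_iff_coeff_lifts]
    intro n
    exact hsurj _
  obtain ⟨f, hf1, -, hf2⟩ := Polynomial.lifts_and_degree_eq_and_monic hlift hp
  obtain ⟨ab, bb, hbez⟩ := hsep
  obtain ⟨a, ha⟩ := Polynomial.map_surjective (IsLocalRing.residue (OP p)) hsurj ab
  obtain ⟨b, hb⟩ := Polynomial.map_surjective (IsLocalRing.residue (OP p)) hsurj bb
  have hm : (a * f + b * Polynomial.derivative f - 1).map (IsLocalRing.residue (OP p)) = 0 := by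
    rw [Polynomial.map_sub, Polynomial.map_add, Polynomial.map_mul, Polynomial.map_mul,
      Polynomial.map_one, ← Polynomial.derivative_map, ha, hb, hf1, hbez, sub_self]
  -- descend to a level
  obtain ⟨U₁, x₁, -, -⟩ := exists_rep p (0 : OP p)
  obtain ⟨U, x, -, hU, -, hT⟩ := exists_common_over p U₁ x₁ (f.coeffs ∪ a.coeffs ∪ b.coeffs)
  haveI := hU
  have hfl : f ∈ Polynomial.lifts (ρ p U x).hom := mem_lifts_of_coeffs _ f (fun r hr => hT (by
    rw [Finset.coe_union, Finset.coe_union]
    exact Or.inl (Or.inl hr)))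
  have hal : a ∈ Polynomial.lifts (ρ p U x).hom := mem_lifts_of_coeffs _ a (fun r hr => hT (by
    rw [Finset.coe_union, Finset.coe_union]
    exact Or.inl (Or.inr hr)))
  have hbl : b ∈ Polynomial.lifts (ρ p U x).hom := mem_lifts_of_coeffs _ b (fun r hr => hT (by
    rw [Finset.coe_union, Finset.coe_union]
    exact Or.inr hr))
  obtain ⟨F, hFf, -, hFm⟩ := Polynomial.lifts_and_degree_eq_and_monic hfl hf2
  obtain ⟨A', hA'⟩ := (Polynomial.mem_lifts _).1 hal
  obtain ⟨B', hB'⟩ := (Polynomial.mem_lifts _).1 hbl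
  let M : Polynomial Γ(U.left, ⊤) := A' * F + B' * Polynomial.derivative F - 1
  have hM : M.map (ρ p U x).hom = a * f + b * Polynomial.derivative f - 1 := by
    show (A' * F + B' * Polynomial.derivative F - 1).map (ρ p U x).hom = _
    rw [Polynomial.map_sub, Polynomial.map_add, Polynomial.map_mul, Polynomial.map_mul,
      Polynomial.map_one, ← Polynomial.derivative_map, hA', hB', hFf]
  let P : StandardEtalePair Γ(U.left, ⊤) :=
    ⟨F, hFm, Polynomial.derivative F, ⟨1, 0, 1, by simp⟩⟩
  have hg : ∀ i : ℕ, ¬ IsUnit ((ρ p U x).hom (M.coeff i)) := by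
    intro i
    have h1 : (ρ p U x).hom (M.coeff i) = (a * f + b * Polynomial.derivative f - 1).coeff i := by
      rw [← hM, Polynomial.coeff_map]
    have h2 : IsLocalRing.residue (OP p) ((a * f + b * Polynomial.derivative f - 1).coeff i)
        = 0 := by
      rw [← Polynomial.coeff_map, hm, Polynomial.coeff_zero]
    rw [h1]
    exact (IsLocalRing.mem_maximalIdeal _).1 ((IsLocalRing.residue_eq_zero_iff _).1 h2)
  have hdeg : F.degree ≠ 0 := by
    have h1 : pb.degree = f.degree := by
      rw [← hf1]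
      exact hf2.degree_map _
    have h2 : f.degree = F.degree := by
      rw [← hFf]
      exact hFm.degree_map _
    rw [← h2, ← h1]
    exact (Polynomial.degree_pos_of_irreducible hirr).ne'
  obtain ⟨r, hr0, -⟩ := exists_root_of_cover p U x P (fun i : ℕ => M.coeff i) hg (by
    intro v hv
    let L := AlgebraicClosure (U.left.residueField v)
    let j : U.left.residueField v →+* L := algebraMap _ _
    let ψ : Γ(U.left, ⊤) →+* L := j.comp (evK v).hom
    have hMe : M.map (evK v).hom = 0 := by
      apply Polynomial.ext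
      intro i
      rw [Polynomial.coeff_map, Polynomial.coeff_zero]
      exact hv i
    have hMψ : M.map ψ = 0 := by
      rw [← Polynomial.map_map, hMe, Polynomial.map_zero]
    have hbezL : A'.map ψ * F.map ψ + B'.map ψ * Polynomial.derivative (F.map ψ) = 1 := by
      have h3 : (A' * F + B' * Polynomial.derivative F - 1).map ψ = 0 := hMψ
      rw [Polynomial.map_sub, Polynomial.map_add, Polynomial.map_mul, Polynomial.map_mul,
        Polynomial.map_one, ← Polynomial.derivative_map, sub_eq_zero] at h3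
      exact h3
    have hdegL : (F.map ψ).degree ≠ 0 := by
      rw [hFm.degree_map ψ]
      exact hdeg
    obtain ⟨ω, hω⟩ := IsAlgClosed.exists_root (F.map ψ) hdegL
    refine ⟨L, inferInstance, j, ω, ?_, ?_⟩
    · show Polynomial.eval₂ ψ ω F = 0
      rw [← Polynomial.eval_map]
      exact hω
    · show Polynomial.eval₂ ψ ω (Polynomial.derivative F) ≠ 0
      rw [← Polynomial.eval_map, ← Polynomial.derivative_map]
      have h4 := congrArg (Polynomial.eval ω) hbezL
      rw [Polynomial.eval_add, Polynomial.eval_mul, Polynomial.eval_mul,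
        Polynomial.IsRoot.def.1 hω, mul_zero, zero_add, Polynomial.eval_one] at h4
      exact right_ne_zero_of_mul_eq_one h4)
  have hroot : f.eval r = 0 := by
    rw [← hFf, Polynomial.eval_map]
    exact hr0
  refine ⟨IsLocalRing.residue _ r, ?_⟩
  rw [← hf1, Polynomial.eval_map, Polynomial.eval₂_at_apply, hroot, map_zero]

end Groth.Agent.Helper1.EP
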