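import Mathlib
import Groth.Prelude.Def_EtBaseX
import Groth.Agent.Lib.Helper1.ELR1
import Groth.Agent.Lib.Helper1.EP1
import Groth.Agent.Lib.Helper1.EP2

/-!
# Points of the small étale site (S0656), part 3: the geometric point and the comparison
-/

set_option autoImplicit false
open CategoryTheory CategoryTheory.Limits AlgebraicGeometry Opposite
universe u

namespace Groth.Agent.Helper1.EP

open Groth.Agent.Helper1.ELR

/-! ### pure algebra -/

theorem hensel_lift {A 𝒪 : Type*} [CommRing A] [CommRing 𝒪] [HenselianLocalRing 𝒪]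
    (ρ₀ : A →+* 𝒪) (F G : Polynomial A) (hF : F.Monic)
    (cond : ∃ p₁ p₂ n, Polynomial.derivative F * p₁ + F * p₂ = G ^ n)
    (ω₀ : IsLocalRing.ResidueField 𝒪)
    (h0 : Polynomial.eval₂ ((IsLocalRing.residue 𝒪).comp ρ₀) ω₀ F = 0)
    (h1 : Polynomial.eval₂ ((IsLocalRing.residue 𝒪).comp ρ₀) ω₀ G ≠ 0) :
    ∃ a : 𝒪, Polynomial.eval₂ ρ₀ a F = 0 ∧ IsUnit (Polynomial.eval₂ ρ₀ a G) ∧
      IsLocalRing.residue 𝒪 a = ω₀ := by
  obtain ⟨a₀, ha₀⟩ := IsLocalRing.residue_surjective ω₀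
  have key : ∀ (c : 𝒪) (Q : Polynomial A), IsLocalRing.residue 𝒪 c = ω₀ →
      IsLocalRing.residue 𝒪 (Polynomial.eval₂ ρ₀ c Q) =
        Polynomial.eval₂ ((IsLocalRing.residue 𝒪).comp ρ₀) ω₀ Q := by
    intro c Q hc
    rw [Polynomial.hom_eval₂, hc]
  have hd : Polynomial.eval₂ ((IsLocalRing.residue 𝒪).comp ρ₀) ω₀ (Polynomial.derivative F)
      ≠ 0 := by
    obtain ⟨p₁, p₂, n, e⟩ := cond
    have h2 := congrArg (Polynomial.eval₂ ((IsLocalRing.residue 𝒪).comp ρ₀) ω₀) e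
    rw [Polynomial.eval₂_add, Polynomial.eval₂_mul, Polynomial.eval₂_mul, h0, zero_mul,
      add_zero, Polynomial.eval₂_pow] at h2
    intro h3
    rw [h3, zero_mul] at h2
    exact pow_ne_zero n h1 h2.symm
  have hunit_of : ∀ c : 𝒪, IsLocalRing.residue 𝒪 c ≠ 0 → IsUnit c := by
    intro c hc
    by_contra hnu
    exact hc ((IsLocalRing.residue_eq_zero_iff c).2 ((IsLocalRing.mem_maximalIdeal c).2 hnu))
  have hf : (F.map ρ₀).Monic := hF.map ρ₀
  have h0' : (F.map ρ₀).eval a₀ ∈ IsLocalRing.maximalIdeal 𝒪 := by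
    rw [← IsLocalRing.residue_eq_zero_iff, Polynomial.eval_map, key a₀ F ha₀]
    exact h0
  have h1' : IsUnit ((Polynomial.derivative (F.map ρ₀)).eval a₀) := by
    apply hunit_of
    rw [Polynomial.derivative_map, Polynomial.eval_map, key a₀ _ ha₀]
    exact hd
  obtain ⟨a, ha, haa⟩ := HenselianLocalRing.is_henselian (F.map ρ₀) hf a₀ h0' h1'
  have hra : IsLocalRing.residue 𝒪 a = ω₀ := by
    have h2 := (IsLocalRing.residue_eq_zero_iff _).2 haa
    rw [map_sub, sub_eq_zero] at h2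
    rw [h2, ha₀]
  refine ⟨a, ?_, ?_, hra⟩
  · rw [← Polynomial.eval_map]
    exact ha
  · apply hunit_of
    rw [key a G hra]
    exact h1

theorem exists_standard_factor {A R' Ω : Type u} [CommRing A] [CommRing R'] [Field Ω]
    [Algebra A R'] [Algebra A Ω] [Algebra.Etale A R'] (lam : R' →ₐ[A] Ω) :
    ∃ (P : StandardEtalePair A) (π : R' →ₐ[A] P.Ring) (θ : P.Ring →ₐ[A] Ω),
      θ.comp π = lam := by
  haveI : (RingHom.ker lam.toRingHom).IsPrime := RingHom.ker_isPrime _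
  obtain ⟨fR, hfQ, hstd⟩ :=
    Algebra.IsEtaleAt.exists_isStandardEtale (R := A) (RingHom.ker lam.toRingHom)
  let Pr : StandardEtalePresentation A (Localization.Away fR) :=
    hstd.nonempty_standardEtalePresentation.some
  have hne : lam fR ≠ 0 := fun h => hfQ ((RingHom.mem_ker).2 h)
  have hunit : ∀ y : Submonoid.powers fR, IsUnit (lam y) := by
    intro y
    obtain ⟨n, hn⟩ := (Submonoid.mem_powers_iff _ _).1 y.2
    rw [← hn, map_pow]
    exact (IsUnit.mk0 _ hne).pow n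
  let lamf : Localization.Away fR →ₐ[A] Ω :=
    IsLocalization.liftAlgHom (M := Submonoid.powers fR) (f := lam) hunit
  refine ⟨Pr.P, Pr.equivRing.toAlgHom.comp (IsScalarTower.toAlgHom A R' (Localization.Away fR)),
    lamf.comp Pr.equivRing.symm.toAlgHom, ?_⟩
  ext t
  show lamf (Pr.equivRing.symm (Pr.equivRing (algebraMap R' (Localization.Away fR) t))) = lam t
  rw [AlgEquiv.symm_apply_apply]
  exact IsLocalization.lift_eq _ t

variable {S : Scheme.{u}} (p : GrothendieckTopology.Point.{u} S.smallEtaleTopology)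

instance instIsLocalRingOP : IsLocalRing (OP p) := isLocalRing p

instance instHenselianOP : HenselianLocalRing (OP p) := henselian p

/-- the residue field of the local ring of the point -/
noncomputable abbrev Om : Type u := IsLocalRing.ResidueField (OP p)

instance instIsSepClosedOm : IsSepClosed (Om p) := isSepClosed_residueField p

noncomputable def res : OP p ⟶ CommRingCat.of (Om p) :=
  CommRingCat.ofHom (IsLocalRing.residue (OP p))

noncomputable def ρk (U : S.Etale) (x : p.fiber.obj U) :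
    Γ(U.left, ⊤) ⟶ CommRingCat.of (Om p) :=
  ρ p U x ≫ res p

theorem ρk_map {U V : S.Etale} (g : U ⟶ V) (x : p.fiber.obj U) :
    g.left.appTop ≫ ρk p U x = ρk p V (p.fiber.map g x) := by
  unfold ρk
  rw [← Category.assoc, ρ_map]

theorem ρk_apply (U : S.Etale) (x : p.fiber.obj U) (s : Γ(U.left, ⊤)) :
    (ρk p U x).hom s = IsLocalRing.residue (OP p) ((ρ p U x).hom s) := rfl

theorem exists_level_root (U₀ : S.Etale) (x₀ : p.fiber.obj U₀)
    (F G : Polynomial Γ(U₀.left, ⊤)) (a : OP p)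
    (h0 : Polynomial.eval₂ (ρ p U₀ x₀).hom a F = 0)
    (h1 : IsUnit (Polynomial.eval₂ (ρ p U₀ x₀).hom a G)) :
    ∃ (U : S.Etale) (x : p.fiber.obj U) (h : U ⟶ U₀) (b : Γ(U.left, ⊤)), IsAffine U.left ∧
      p.fiber.map h x = x₀ ∧ (ρ p U x).hom b = a ∧
      Polynomial.eval₂ h.left.appTop.hom b F = 0 ∧
      IsUnit (Polynomial.eval₂ h.left.appTop.hom b G) := by
  classical
  obtain ⟨U₁, x₁, h₁, -, hx₁, hT⟩ := exists_common_over p U₀ x₀ {a}
  obtain ⟨b₁, hb₁⟩ := hT (by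
    rw [Finset.coe_singleton]
    exact Set.mem_singleton a)
  have hρ₁ : (ρ p U₀ x₀).hom = (ρ p U₁ x₁).hom.comp h₁.left.appTop.hom :=
    ρ_comp_eq p h₁ x₁ x₀ hx₁
  have e₁ : (ρ p U₁ x₁).hom (Polynomial.eval₂ h₁.left.appTop.hom b₁ F) =
      (ρ p U₁ x₁).hom 0 := by
    rw [Polynomial.hom_eval₂, ← hρ₁, hb₁, map_zero]
    exact h0
  obtain ⟨U₂, x₂, h₂, -, hx₂, e₂⟩ := exists_refinement_eq p U₁ x₁ _ _ e₁
  have hρ₂ : (ρ p U₁ x₁).hom = (ρ p U₂ x₂).hom.comp h₂.left.appTop.hom :=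
    ρ_comp_eq p h₂ x₂ x₁ hx₂
  have hc : (h₂ ≫ h₁).left.appTop.hom = h₂.left.appTop.hom.comp h₁.left.appTop.hom :=
    RingHom.ext (comp_left_appTop_apply h₂ h₁)
  have hρ₁₂ : (ρ p U₀ x₀).hom = (ρ p U₂ x₂).hom.comp (h₂ ≫ h₁).left.appTop.hom := by
    rw [hc, ← RingHom.comp_assoc, ← hρ₂, ← hρ₁]
  have hb₂ : (ρ p U₂ x₂).hom (h₂.left.appTop.hom b₁) = a := by
    have h3 := ρ_map_apply p h₂ x₂ b₁
    rw [h3, hx₂]
    exact hb₁
  have e₂' : Polynomial.eval₂ (h₂ ≫ h₁).left.appTop.hom (h₂.left.appTop.hom b₁) F = 0 := by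
    rw [hc, ← Polynomial.hom_eval₂, e₂, map_zero]
  have u₂ : IsUnit ((ρ p U₂ x₂).hom
      (Polynomial.eval₂ (h₂ ≫ h₁).left.appTop.hom (h₂.left.appTop.hom b₁) G)) := by
    rw [Polynomial.hom_eval₂, ← hρ₁₂, hb₂]
    exact h1
  obtain ⟨U₃, x₃, h₃, hU₃, hx₃, u₃⟩ := exists_refinement_isUnit p U₂ x₂ _ u₂
  have hc' : (h₃ ≫ h₂ ≫ h₁).left.appTop.hom =
      h₃.left.appTop.hom.comp (h₂ ≫ h₁).left.appTop.hom :=
    RingHom.ext (comp_left_appTop_apply h₃ (h₂ ≫ h₁))
  refine ⟨U₃, x₃, h₃ ≫ h₂ ≫ h₁, h₃.left.appTop.hom (h₂.left.appTop.hom b₁), hU₃, ?_, ?_, ?_, ?_⟩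
  · rw [FunctorToTypes.map_comp_apply, FunctorToTypes.map_comp_apply, hx₃, hx₂, hx₁]
  · have h3 := ρ_map_apply p h₃ x₃ (h₂.left.appTop.hom b₁)
    rw [h3, hx₃]
    exact hb₂
  · rw [hc', ← Polynomial.hom_eval₂, e₂', map_zero]
  · rw [hc', ← Polynomial.hom_eval₂]
    exact u₃

/-- the lift of the residue-field point to an affine level -/
noncomputable def ξU (U : S.Etale) [IsAffine U.left] (x : p.fiber.obj U) :
    Spec (CommRingCat.of (Om p)) ⟶ U.left :=
  Spec.map (ρk p U x) ≫ U.left.isoSpec.inv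

theorem ξU_map {U V : S.Etale} [IsAffine U.left] [IsAffine V.left] (g : U ⟶ V)
    (x : p.fiber.obj U) :
    ξU p U x ≫ g.left = ξU p V (p.fiber.map g x) := by
  unfold ξU
  rw [Category.assoc, ← Scheme.isoSpec_inv_naturality, ← Category.assoc, ← Spec.map_comp, ρk_map]

theorem isUnit_ρ_of_mem_basicOpen (U : S.Etale) [IsAffine U.left] (x : p.fiber.obj U)
    (s : Γ(U.left, ⊤)) (h : (ξU p U x) default ∈ U.left.basicOpen s) :
    IsUnit ((ρ p U x).hom s) := by
  by_contra hnu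
  have h0 : (ρk p U x).hom s = 0 :=
    (IsLocalRing.residue_eq_zero_iff _).2 ((IsLocalRing.mem_maximalIdeal _).2 hnu)
  have h1 : (ξU p U x).appTop ≫ (Scheme.ΓSpecIso _).hom = ρk p U x := appTop_spec_eq (ρk p U x)
  have h2 : (ξU p U x).appTop.hom s = 0 := by
    have h3 : (Scheme.ΓSpecIso (CommRingCat.of (Om p))).hom.hom ((ξU p U x).appTop.hom s) = 0 :=
      (congrArg (fun m => m.hom s) h1).trans h0
    rw [← iso_inv_hom_apply (Scheme.ΓSpecIso (CommRingCat.of (Om p))) ((ξU p U x).appTop.hom s),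
      h3, map_zero]
  have h4 : (ξU p U x) ⁻¹ᵁ (U.left.basicOpen s) = ⊥ := by
    rw [Scheme.preimage_basicOpen_top]
    have h5 : (Spec (CommRingCat.of (Om p))).basicOpen ((ξU p U x).appTop.hom s) = ⊥ := by
      rw [h2]
      exact Scheme.basicOpen_zero ..
    exact h5
  have hmem : (default : Spec (CommRingCat.of (Om p))) ∈ (ξU p U x) ⁻¹ᵁ (U.left.basicOpen s) := h
  rw [h4] at hmem
  simpa using hmem

theorem exists_affine_cospan {V W₁ W₂ : S.Etale} (w₁ : p.fiber.obj W₁) (w₂ : p.fiber.obj W₂)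
    (g₁ : W₁ ⟶ V) (g₂ : W₂ ⟶ V) (h : p.fiber.map g₁ w₁ = p.fiber.map g₂ w₂) :
    ∃ (W : S.Etale) (w : p.fiber.obj W) (h₁ : W ⟶ W₁) (h₂ : W ⟶ W₂), IsAffine W.left ∧
      p.fiber.map h₁ w = w₁ ∧ p.fiber.map h₂ w = w₂ ∧ h₁ ≫ g₁ = h₂ ≫ g₂ := by
  let a₁ : p.fiber.Elements := ⟨W₁, w₁⟩
  let a₂ : p.fiber.Elements := ⟨W₂, w₂⟩
  let b : p.fiber.Elements := ⟨V, p.fiber.map g₁ w₁⟩
  let F₁ : a₁ ⟶ b := CategoryOfElements.homMk a₁ b g₁ rfl
  let F₂ : a₂ ⟶ b := CategoryOfElements.homMk a₂ b g₂ h.symm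
  obtain ⟨c, G₁, G₂, hG⟩ := IsCofiltered.cospan F₁ F₂
  obtain ⟨W, w, r, hW, hr⟩ := exists_affine_refinement p c.1 c.2
  refine ⟨W, w, r ≫ G₁.1, r ≫ G₂.1, hW, ?_, ?_, ?_⟩
  · rw [FunctorToTypes.map_comp_apply, hr]
    exact G₁.2
  · rw [FunctorToTypes.map_comp_apply, hr]
    exact G₂.2
  · rw [Category.assoc, Category.assoc]
    exact congrArg (fun m => r ≫ m) (congrArg (fun m => m.1) hG)

theorem ξU_comp_eq {V W₁ W₂ : S.Etale} [IsAffine W₁.left] [IsAffine W₂.left]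
    (w₁ : p.fiber.obj W₁) (w₂ : p.fiber.obj W₂) (g₁ : W₁ ⟶ V) (g₂ : W₂ ⟶ V)
    (h : p.fiber.map g₁ w₁ = p.fiber.map g₂ w₂) :
    ξU p W₁ w₁ ≫ g₁.left = ξU p W₂ w₂ ≫ g₂.left := by
  obtain ⟨W, w, h₁, h₂, hW, e₁, e₂, e⟩ := exists_affine_cospan p w₁ w₂ g₁ g₂ h
  haveI := hW
  have a1 : ξU p W₁ w₁ = ξU p W w ≫ h₁.left := by rw [ξU_map, e₁]
  have a2 : ξU p W₂ w₂ = ξU p W w ≫ h₂.left := by rw [ξU_map, e₂]
  rw [a1, a2, Category.assoc, Category.assoc]
  congr 1
  exact congrArg (fun m => m.left) e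

theorem exists_base : ∃ (U₀ : S.Etale) (_ : p.fiber.obj U₀), IsAffine U₀.left := by
  obtain ⟨U, x, -, -⟩ := exists_rep p (0 : OP p)
  obtain ⟨W, w, -, hW, -⟩ := exists_affine_refinement p U x
  exact ⟨W, w, hW⟩

noncomputable def U₀ : S.Etale := (exists_base p).choose

noncomputable def x₀ : p.fiber.obj (U₀ p) := (exists_base p).choose_spec.choose

instance instIsAffineU₀ : IsAffine (U₀ p).left := (exists_base p).choose_spec.choose_spec

/-- the geometric point attached to the point `p` -/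
noncomputable def ξ : Spec (CommRingCat.of (Om p)) ⟶ S :=
  ξU p (U₀ p) (x₀ p) ≫ (U₀ p).hom

theorem ξU_hom (W : S.Etale) [IsAffine W.left] (w : p.fiber.obj W) :
    ξU p W w ≫ W.hom = ξ p := by
  obtain ⟨W₁, w₁, f, g, hf, hg⟩ := exists_common_refinement p W w (U₀ p) (x₀ p)
  obtain ⟨W₂, w₂, k, hW₂, hk⟩ := exists_affine_refinement p W₁ w₁
  haveI := hW₂
  have e1 : p.fiber.map (k ≫ f) w₂ = w := by rw [FunctorToTypes.map_comp_apply, hk, hf]
  have e2 : p.fiber.map (k ≫ g) w₂ = x₀ p := by rw [FunctorToTypes.map_comp_apply, hk, hg]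
  have h1 : ξU p W w = ξU p W₂ w₂ ≫ (k ≫ f).left := by rw [ξU_map, e1]
  have h2 : ξU p (U₀ p) (x₀ p) = ξU p W₂ w₂ ≫ (k ≫ g).left := by rw [ξU_map, e2]
  have h3 : (k ≫ f).left ≫ W.hom = W₂.hom := Over.w (k ≫ f).hom
  have h4 : (k ≫ g).left ≫ (U₀ p).hom = W₂.hom := Over.w (k ≫ g).hom
  unfold ξ
  rw [h1, h2, Category.assoc, Category.assoc, h3, h4]

section
variable (V : S.Etale) (y : p.fiber.obj V)

noncomputable def rfW : S.Etale := (exists_affine_refinement p V y).choose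

noncomputable def rfw : p.fiber.obj (rfW p V y) :=
  (exists_affine_refinement p V y).choose_spec.choose

noncomputable def rfg : rfW p V y ⟶ V :=
  (exists_affine_refinement p V y).choose_spec.choose_spec.choose

instance instIsAffineRfW : IsAffine (rfW p V y).left :=
  (exists_affine_refinement p V y).choose_spec.choose_spec.choose_spec.1

theorem rfg_map : p.fiber.map (rfg p V y) (rfw p V y) = y :=
  (exists_affine_refinement p V y).choose_spec.choose_spec.choose_spec.2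

end

/-- the comparison map from the fibre of `p` to the fibre of the geometric point -/
noncomputable def τfun (V : S.Etale) (y : p.fiber.obj V) :
    (Scheme.pointSmallEtale (ξ p)).fiber.obj V :=
  mkPt (ξ p) V (ξU p (rfW p V y) (rfw p V y) ≫ (rfg p V y).left) (by
    rw [Category.assoc,
      (Over.w (rfg p V y).hom : (rfg p V y).left ≫ V.hom = (rfW p V y).hom), ξU_hom])

theorem pt_τfun (V : S.Etale) (y : p.fiber.obj V) (W : S.Etale) [IsAffine W.left]
    (w : p.fiber.obj W) (g : W ⟶ V) (hg : p.fiber.map g w = y) :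
    pt (ξ p) V (τfun p V y) = ξU p W w ≫ g.left := by
  show ξU p (rfW p V y) (rfw p V y) ≫ (rfg p V y).left = _
  exact ξU_comp_eq p _ _ _ _ ((rfg_map p V y).trans hg.symm)

theorem τfun_natural {V V' : S.Etale} (k : V ⟶ V') (y : p.fiber.obj V) :
    τfun p V' (p.fiber.map k y) = (Scheme.pointSmallEtale (ξ p)).fiber.map k (τfun p V y) := by
  apply pt_ext
  rw [pt_map, pt_τfun p V' _ (rfW p V y) (rfw p V y) (rfg p V y ≫ k)
    (by rw [FunctorToTypes.map_comp_apply, rfg_map]),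
    pt_τfun p V y (rfW p V y) (rfw p V y) (rfg p V y) (rfg_map p V y), Category.assoc]
  rfl

theorem τfun_injective (V : S.Etale) : Function.Injective (τfun p V) := by
  intro y₁ y₂ hy
  obtain ⟨W₀, w₀, g₁, g₂, hg₁, hg₂⟩ := exists_common_refinement p V y₁ V y₂
  obtain ⟨W, w, r, hW, hr⟩ := exists_affine_refinement p W₀ w₀
  haveI := hW
  have e₁ : p.fiber.map (r ≫ g₁) w = y₁ := by rw [FunctorToTypes.map_comp_apply, hr, hg₁]
  have e₂ : p.fiber.map (r ≫ g₂) w = y₂ := by rw [FunctorToTypes.map_comp_apply, hr, hg₂]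
  have hη : ξU p W w ≫ (r ≫ g₁).left = ξU p W w ≫ (r ≫ g₂).left := by
    rw [← pt_τfun p V y₁ W w (r ≫ g₁) e₁, ← pt_τfun p V y₂ W w (r ≫ g₂) e₂, hy]
  have c : (r ≫ g₁).left ≫ V.hom = (r ≫ g₂).left ≫ V.hom :=
    (Over.w (r ≫ g₁).hom).trans (Over.w (r ≫ g₂).hom).symm
  let G : W.left ⟶ pullback V.hom V.hom := pullback.lift (r ≫ g₁).left (r ≫ g₂).left c
  have hG1 : G ≫ pullback.fst V.hom V.hom = (r ≫ g₁).left := pullback.lift_fst _ _ _
  have hG2 : G ≫ pullback.snd V.hom V.hom = (r ≫ g₂).left := pullback.lift_snd _ _ _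
  have hΔ1 : pullback.diagonal V.hom ≫ pullback.fst V.hom V.hom = 𝟙 _ := pullback.diagonal_fst _
  have hΔ2 : pullback.diagonal V.hom ≫ pullback.snd V.hom V.hom = 𝟙 _ := pullback.diagonal_snd _
  haveI : IsOpenImmersion (pullback.diagonal V.hom) := inferInstance
  let O : W.left.Opens := G ⁻¹ᵁ (pullback.diagonal V.hom).opensRange
  have hO : (ξU p W w) default ∈ O := by
    have h1 : ξU p W w ≫ G = (ξU p W w ≫ (r ≫ g₁).left) ≫ pullback.diagonal V.hom := by
      apply pullback.hom_ext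
      · rw [Category.assoc, hG1, Category.assoc, hΔ1]
        exact (Category.comp_id _).symm
      · rw [Category.assoc, hG2, Category.assoc, hΔ2]
        exact hη.symm.trans (Category.comp_id _).symm
    show G ((ξU p W w) default) ∈ Set.range (pullback.diagonal V.hom)
    refine ⟨(ξU p W w ≫ (r ≫ g₁).left) default, ?_⟩
    exact congrArg (fun m : Spec (CommRingCat.of (Om p)) ⟶ pullback V.hom V.hom => m default)
      h1.symm
  obtain ⟨s, hsO, hs⟩ := (isAffineOpen_top W.left).exists_basicOpen_le (V := O)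
    ⟨(ξU p W w) default, hO⟩ trivial
  have hu : IsUnit ((ρ p W w).hom s) := isUnit_ρ_of_mem_basicOpen p W w s hs
  obtain ⟨w', hw'⟩ := exists_lift_basicOpen_of_isUnit_ρ p W w s hu
  have hj : mkOverHom W (W.left.basicOpen s).ι ≫ (r ≫ g₁) =
      mkOverHom W (W.left.basicOpen s).ι ≫ (r ≫ g₂) := by
    apply MorphismProperty.Over.Hom.ext
    show (W.left.basicOpen s).ι ≫ (r ≫ g₁).left = (W.left.basicOpen s).ι ≫ (r ≫ g₂).left
    have hrange : Set.range ((W.left.basicOpen s).ι ≫ G) ⊆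
        Set.range (pullback.diagonal V.hom) := by
      rintro _ ⟨z, rfl⟩
      have hz : (W.left.basicOpen s).ι z ∈ Set.range (W.left.basicOpen s).ι := ⟨z, rfl⟩
      rw [Scheme.Opens.range_ι] at hz
      exact hsO hz
    obtain ⟨L, hL⟩ : ∃ L : (W.left.basicOpen s).toScheme ⟶ V.left,
        L ≫ pullback.diagonal V.hom = (W.left.basicOpen s).ι ≫ G :=
      ⟨_, IsOpenImmersion.lift_fac _ _ hrange⟩
    have h1 : L = (W.left.basicOpen s).ι ≫ (r ≫ g₁).left :=
      calc L = L ≫ (pullback.diagonal V.hom ≫ pullback.fst V.hom V.hom) := by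
              rw [hΔ1]
              exact (Category.comp_id _).symm
        _ = (L ≫ pullback.diagonal V.hom) ≫ pullback.fst V.hom V.hom :=
              (Category.assoc _ _ _).symm
        _ = ((W.left.basicOpen s).ι ≫ G) ≫ pullback.fst V.hom V.hom := by rw [hL]
        _ = (W.left.basicOpen s).ι ≫ (G ≫ pullback.fst V.hom V.hom) := Category.assoc _ _ _
        _ = (W.left.basicOpen s).ι ≫ (r ≫ g₁).left := by rw [hG1]
    have h2 : L = (W.left.basicOpen s).ι ≫ (r ≫ g₂).left :=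
      calc L = L ≫ (pullback.diagonal V.hom ≫ pullback.snd V.hom V.hom) := by
              rw [hΔ2]
              exact (Category.comp_id _).symm
        _ = (L ≫ pullback.diagonal V.hom) ≫ pullback.snd V.hom V.hom :=
              (Category.assoc _ _ _).symm
        _ = ((W.left.basicOpen s).ι ≫ G) ≫ pullback.snd V.hom V.hom := by rw [hL]
        _ = (W.left.basicOpen s).ι ≫ (G ≫ pullback.snd V.hom V.hom) := Category.assoc _ _ _
        _ = (W.left.basicOpen s).ι ≫ (r ≫ g₂).left := by rw [hG2]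
    rw [← h1, ← h2]
  calc y₁ = p.fiber.map (r ≫ g₁) w := e₁.symm
    _ = p.fiber.map (r ≫ g₁) (p.fiber.map (mkOverHom W (W.left.basicOpen s).ι) w') := by rw [hw']
    _ = p.fiber.map (mkOverHom W (W.left.basicOpen s).ι ≫ (r ≫ g₁)) w' :=
        (FunctorToTypes.map_comp_apply _ _ _ _).symm
    _ = p.fiber.map (mkOverHom W (W.left.basicOpen s).ι ≫ (r ≫ g₂)) w' := by rw [hj]
    _ = p.fiber.map (r ≫ g₂) (p.fiber.map (mkOverHom W (W.left.basicOpen s).ι) w') :=
        FunctorToTypes.map_comp_apply _ _ _ _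
    _ = p.fiber.map (r ≫ g₂) w := by rw [hw']
    _ = y₂ := e₂

theorem τfun_surjective (V : S.Etale) : Function.Surjective (τfun p V) := by
  intro η
  have hη' : pt (ξ p) V η ≫ V.hom = ξU p (U₀ p) (x₀ p) ≫ (U₀ p).hom := pt_comp (ξ p) V η
  let ζ : Spec (CommRingCat.of (Om p)) ⟶ pullback V.hom (U₀ p).hom :=
    pullback.lift (pt (ξ p) V η) (ξU p (U₀ p) (x₀ p)) hη'
  obtain ⟨R', j, hj, hmem, -⟩ := Scheme.exists_affine_mem_range_and_range_subset
    (x := ζ default) (U := ⊤) (by trivial)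
  have hrange : Set.range ζ ⊆ Set.range j := by
    rintro _ ⟨a, rfl⟩
    rwa [Subsingleton.elim a default]
  let l : Spec (CommRingCat.of (Om p)) ⟶ Spec R' := IsOpenImmersion.lift j ζ hrange
  have hl : l ≫ j = ζ := IsOpenImmersion.lift_fac _ _ _
  let pr : Spec R' ⟶ (U₀ p).left := j ≫ pullback.snd V.hom (U₀ p).hom
  let φ : Γ((U₀ p).left, ⊤) ⟶ R' := pr.appTop ≫ (Scheme.ΓSpecIso R').hom
  have hφ : Spec.map φ ≫ (U₀ p).left.isoSpec.inv = pr := spec_ev_eq pr
  have hφet : φ.hom.Etale := by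
    have h1 : Etale (Spec.map φ) := by
      have h2 : Spec.map φ = pr ≫ (U₀ p).left.isoSpec.hom := by
        rw [← hφ, Category.assoc, Iso.inv_hom_id, Category.comp_id]
      rw [h2]
      infer_instance
    exact (HasRingHomProperty.Spec_iff (P := @Etale)).1 h1
  let lam : R' ⟶ CommRingCat.of (Om p) := Spec.preimage l
  have hlam : Spec.map lam = l := Spec.map_preimage l
  have hφlam : φ ≫ lam = ρk p (U₀ p) (x₀ p) := by
    apply Spec.map_injective
    rw [Spec.map_comp, hlam]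
    have h1 : l ≫ pr = Spec.map (ρk p (U₀ p) (x₀ p)) ≫ (U₀ p).left.isoSpec.inv := by
      show l ≫ j ≫ pullback.snd _ _ = ξU p (U₀ p) (x₀ p)
      rw [← Category.assoc, hl]
      exact pullback.lift_snd _ _ _
    rw [← hφ, ← Category.assoc] at h1
    exact (cancel_mono _).1 h1
  letI algR : Algebra Γ((U₀ p).left, ⊤) R' := φ.hom.toAlgebra
  letI algΩ : Algebra Γ((U₀ p).left, ⊤) (Om p) := (ρk p (U₀ p) (x₀ p)).hom.toAlgebra
  haveI : Algebra.Etale Γ((U₀ p).left, ⊤) R' := hφet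
  let lamA : R' →ₐ[Γ((U₀ p).left, ⊤)] Om p :=
    { lam.hom with commutes' := fun a => congrArg (fun m => m.hom a) hφlam }
  obtain ⟨P, π, θ, hθ⟩ := exists_standard_factor lamA
  obtain ⟨a, ha0, ha1, hra⟩ := hensel_lift (ρ p (U₀ p) (x₀ p)).hom P.f P.g P.monic_f P.cond
    (θ P.X) (by
      have h1 := (P.hasMap_X.map θ).1
      rw [Polynomial.aeval_def] at h1
      exact h1) (by
      have h1 := (P.hasMap_X.map θ).2
      rw [Polynomial.aeval_def] at h1
      exact h1.ne_zero)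
  obtain ⟨U₁, x₁, h, b, hU₁, hx₁, hb, hb0, hb1⟩ :=
    exists_level_root p (U₀ p) (x₀ p) P.f P.g a ha0 ha1
  haveI := hU₁
  letI algA₁ : Algebra Γ((U₀ p).left, ⊤) Γ(U₁.left, ⊤) := h.left.appTop.hom.toAlgebra
  have hmap : P.HasMap b := by
    refine ⟨?_, ?_⟩
    · show Polynomial.aeval b P.f = 0
      rw [Polynomial.aeval_def]
      exact hb0
    · show IsUnit (Polynomial.aeval b P.g)
      rw [Polynomial.aeval_def]
      exact hb1
  let μ : P.Ring →ₐ[Γ((U₀ p).left, ⊤)] Γ(U₁.left, ⊤) := P.lift b hmap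
  have hμX : μ P.X = b := P.lift_X b hmap
  let ν : R' →ₐ[Γ((U₀ p).left, ⊤)] Γ(U₁.left, ⊤) := μ.comp π
  let ν' : R' ⟶ Γ(U₁.left, ⊤) := CommRingCat.ofHom ν.toRingHom
  have hφν : φ ≫ ν' = h.left.appTop := by
    apply CommRingCat.hom_ext
    apply RingHom.ext
    intro t
    exact ν.commutes t
  have hρk : h.left.appTop ≫ ρk p U₁ x₁ = ρk p (U₀ p) (x₀ p) := by
    have e := ρk_map p h x₁
    rw [hx₁] at e
    exact e
  let ρA : Γ(U₁.left, ⊤) →ₐ[Γ((U₀ p).left, ⊤)] Om p :=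
    { (ρk p U₁ x₁).hom with commutes' := fun t => congrArg (fun m => m.hom t) hρk }
  have hθ₁ : ρA.comp μ = θ := by
    apply StandardEtalePair.hom_ext
    show (ρk p U₁ x₁).hom (μ P.X) = θ P.X
    rw [hμX, ρk_apply, hb, hra]
  have hνlam : ν' ≫ ρk p U₁ x₁ = lam := by
    apply CommRingCat.hom_ext
    apply RingHom.ext
    intro t
    show (ρA.comp μ) (π t) = lam.hom t
    rw [hθ₁]
    exact congrArg (fun m => m t) hθ
  let m : U₁.left ⟶ pullback V.hom (U₀ p).hom := U₁.left.isoSpec.hom ≫ Spec.map ν' ≫ j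
  have h1 : Spec.map ν' ≫ j ≫ pullback.snd V.hom (U₀ p).hom = U₁.left.isoSpec.inv ≫ h.left := by
    show Spec.map ν' ≫ pr = _
    rw [← hφ, ← Category.assoc, ← Spec.map_comp, hφν, Scheme.isoSpec_inv_naturality]
  have hm : m ≫ pullback.snd V.hom (U₀ p).hom = h.left := by
    show (U₁.left.isoSpec.hom ≫ Spec.map ν' ≫ j) ≫ pullback.snd V.hom (U₀ p).hom = h.left
    rw [Category.assoc, Category.assoc, h1, Iso.hom_inv_id_assoc]
  let kk : U₁ ⟶ V := MorphismProperty.Over.homMk (m ≫ pullback.fst V.hom (U₀ p).hom) (by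
    rw [Category.assoc, pullback.condition, ← Category.assoc, hm]
    exact Over.w h.hom) trivial
  refine ⟨p.fiber.map kk x₁, ?_⟩
  apply pt_ext
  rw [pt_τfun p V _ U₁ x₁ kk rfl]
  show ξU p U₁ x₁ ≫ m ≫ pullback.fst V.hom (U₀ p).hom = pt (ξ p) V η
  have h2 : ξU p U₁ x₁ ≫ m = ζ := by
    show (Spec.map (ρk p U₁ x₁) ≫ U₁.left.isoSpec.inv) ≫
      U₁.left.isoSpec.hom ≫ Spec.map ν' ≫ j = ζ
    rw [Category.assoc, Iso.inv_hom_id_assoc, ← Category.assoc, ← Spec.map_comp, hνlam, hlam, hl]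
  rw [← Category.assoc, h2]
  exact pullback.lift_fst _ _ _

theorem main0656 (S : Scheme.{u}) (p : GrothendieckTopology.Point.{u} S.smallEtaleTopology) :
    ∃ (Ω : Type u) (_ : Field Ω) (_ : IsSepClosed Ω) (ξ : Spec (CommRingCat.of Ω) ⟶ S),
      Nonempty (p.fiber ≅ (Scheme.pointSmallEtale ξ).fiber) := by
  refine ⟨Om p, inferInstance, inferInstance, ξ p, ⟨?_⟩⟩
  exact NatIso.ofComponents
    (fun V => (Equiv.ofBijective (τfun p V) ⟨τfun_injective p V, τfun_surjective p V⟩).toIso)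
    (fun {V V'} k => by
      ext y
      exact τfun_natural p k y)

end Groth.Agent.Helper1.EP
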