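import Mathlib

/-!
# Isomorphic type-valued functors have isomorphic "colimit over elements" functors
-/

set_option autoImplicit false
open CategoryTheory CategoryTheory.Limits Opposite
universe w v u v' u'

namespace Groth.Agent.Helper1.EQ

section
variable {C : Type u} [Category.{v} C] {F₁ F₂ : C ⥤ Type w} (e : F₁ ≅ F₂)

theorem hom_inv_apply (Y : C) (x : F₁.obj Y) : e.inv.app Y (e.hom.app Y x) = x := by
  have h := congrArg (fun (m : F₁ ⟶ F₁) => m.app Y x) e.hom_inv_id
  exact h

theorem inv_hom_apply (Y : C) (x : F₂.obj Y) : e.hom.app Y (e.inv.app Y x) = x := by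
  have h := congrArg (fun (m : F₂ ⟶ F₂) => m.app Y x) e.inv_hom_id
  exact h

instance map_faithful : (CategoryOfElements.map e.hom).Faithful where
  map_injective {t₁ t₂} k k' h := by
    have h1 := congrArg (fun m => m.1) h
    exact CategoryOfElements.ext _ _ _ h1

instance map_full : (CategoryOfElements.map e.hom).Full where
  map_surjective {t₁ t₂} k' := by
    have h1 : e.hom.app t₂.1 (F₁.map k'.1 t₁.2) = e.hom.app t₂.1 t₂.2 := by
      have hn := congrArg (fun m => m t₁.2) (e.hom.naturality k'.1)
      exact hn.trans k'.2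
    have h2 := congrArg (e.inv.app t₂.1) h1
    rw [hom_inv_apply, hom_inv_apply] at h2
    exact ⟨⟨k'.1, h2⟩, CategoryOfElements.ext _ _ _ rfl⟩

instance map_essSurj : (CategoryOfElements.map e.hom).EssSurj where
  mem_essImage t' := ⟨⟨t'.1, e.inv.app _ t'.2⟩,
    ⟨CategoryOfElements.isoMk _ _ (Iso.refl _) (by
      show F₂.map (𝟙 _) (e.hom.app _ (e.inv.app _ t'.2)) = t'.2
      rw [FunctorToTypes.map_id_apply]
      exact inv_hom_apply e _ _)⟩⟩

instance map_isEquivalence : (CategoryOfElements.map e.hom).IsEquivalence := {}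

include e in
theorem nonempty_colim_iso {A : Type u'} [Category.{v'} A]
    [HasColimitsOfShape F₁.Elementsᵒᵖ A] [HasColimitsOfShape F₂.Elementsᵒᵖ A] :
    Nonempty ((Functor.whiskeringLeft _ _ A).obj (CategoryOfElements.π F₁).op ⋙ colim ≅
      (Functor.whiskeringLeft _ _ A).obj (CategoryOfElements.π F₂).op ⋙ colim) := by
  have i1 : (Functor.whiskeringLeft _ _ A).obj (CategoryOfElements.π F₁).op ⋙ colim ≅
      (Functor.whiskeringLeft _ _ A).obj (CategoryOfElements.π F₂).op ⋙
        ((Functor.whiskeringLeft _ _ A).obj (CategoryOfElements.map e.hom).op ⋙ colim) :=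
    Iso.refl _
  exact ⟨i1 ≪≫ Functor.isoWhiskerLeft _ (Functor.Final.colimIso (CategoryOfElements.map e.hom).op)⟩

end

end Groth.Agent.Helper1.EQ
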