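import Mathlib
import Groth.Prelude.Def_AlgSpOX3
import Groth.Agent.Lib.Helper1.ELR1

/-!
# Points of the small étale site of an algebraic space (S10229), part 1: the local ring of a point
(port of `EP1` from `S.Etale` to `AlgSp.EtOver X`)
-/

set_option autoImplicit false
set_option backward.isDefEq.respectTransparency false
open CategoryTheory CategoryTheory.Limits AlgebraicGeometry Opposite
universe u

namespace Groth.Agent.Helper1.EQ

open Groth.Agent.Helper1.ELR
open AlgSp

variable {S : Scheme.{u}} {X : AlgSp.Sp S}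

/-- the underlying scheme of an object of the small étale site -/
abbrev sch (U : EtOver X) : Scheme.{u} := U.obj.left.left

/-- the underlying morphism of schemes -/
abbrev schMap {U V : EtOver X} (f : U ⟶ V) : sch U ⟶ sch V := f.hom.left.left

theorem schMap_comp {U V W : EtOver X} (f : U ⟶ V) (g : V ⟶ W) :
    schMap (f ≫ g) = schMap f ≫ schMap g := rfl

theorem sch_w {U V : EtOver X} (f : U ⟶ V) : schMap f ≫ V.obj.left.hom = U.obj.left.hom :=
  Over.w f.hom.left

/-- an étale scheme over an object of the site, as an object of the site -/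
noncomputable abbrev mkOver (U : EtOver X) {Y : Scheme.{u}} (q : Y ⟶ sch U) [Etale q] : EtOver X :=
  (EtOver.ofChart U.obj.hom U.property).obj (Scheme.Etale.mk q)

noncomputable abbrev mkOverHom (U : EtOver X) {Y : Scheme.{u}} (q : Y ⟶ sch U) [Etale q] :
    mkOver U q ⟶ U :=
  EtOver.homMk (EtOver.homOfEtale (Scheme.Etale.mk q)) rfl

theorem sch_mkOver (U : EtOver X) {Y : Scheme.{u}} (q : Y ⟶ sch U) [Etale q] :
    sch (mkOver U q) = Y := rfl

theorem schMap_mkOverHom (U : EtOver X) {Y : Scheme.{u}} (q : Y ⟶ sch U) [Etale q] :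
    schMap (mkOverHom U q) = q := rfl

/-- lifting a morphism of the site through an étale map -/
noncomputable def liftHom {U V : EtOver X} {Y : Scheme.{u}} (q : Y ⟶ sch U) [Etale q] (f : V ⟶ U)
    (l : sch V ⟶ Y) (hl : l ≫ q = schMap f) : V ⟶ mkOver U q :=
  EtOver.homMk (Over.homMk l (by
      show l ≫ q ≫ U.obj.left.hom = V.obj.left.hom
      rw [← Category.assoc, hl]
      exact sch_w f)) (by
    show (yon S).map _ ≫ (yon S).map _ ≫ U.obj.hom = V.obj.hom
    rw [← Category.assoc, ← Functor.map_comp]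
    have h1 : (Over.homMk l (by
        show l ≫ q ≫ U.obj.left.hom = V.obj.left.hom
        rw [← Category.assoc, hl]
        exact sch_w f) : V.obj.left ⟶ EtOver.overOfEtale (Scheme.Etale.mk q)) ≫
        EtOver.homOfEtale (Scheme.Etale.mk q) = f.hom.left := Over.OverMorphism.ext hl
    rw [h1]
    exact EtOver.w f)

theorem liftHom_comp {U V : EtOver X} {Y : Scheme.{u}} (q : Y ⟶ sch U) [Etale q] (f : V ⟶ U)
    (l : sch V ⟶ Y) (hl : l ≫ q = schMap f) : liftHom q f l hl ≫ mkOverHom U q = f :=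
  EtOver.hom_ext _ _ (Over.OverMorphism.ext hl)

theorem comp_left_appTop_apply {U V W : EtOver X} (f : U ⟶ V) (g : V ⟶ W) (s : Γ(sch W, ⊤)) :
    (schMap (f ≫ g)).appTop.hom s = (schMap f).appTop.hom ((schMap g).appTop.hom s) := by
  rw [schMap_comp, Scheme.Hom.comp_appTop]
  rfl

variable (X) in
/-- the structure presheaf of rings on the small étale site -/
noncomputable abbrev OOX : (EtOver X)ᵒᵖ ⥤ CommRingCat.{u} := (EtOver.toScheme X).op ⋙ Scheme.Γ

variable (p : GrothendieckTopology.Point.{u} (AlgSp.etTop X))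

/-- the local ring of the point -/
noncomputable abbrev OP : CommRingCat.{u} := p.presheafFiber.obj (OOX X)

noncomputable def ρ (U : EtOver X) (x : p.fiber.obj U) : Γ((sch U), ⊤) ⟶ OP p :=
  p.toPresheafFiber U x (OOX X)

theorem ρ_map {U V : EtOver X} (g : U ⟶ V) (x : p.fiber.obj U) :
    (schMap g).appTop ≫ ρ p U x = ρ p V (p.fiber.map g x) :=
  p.toPresheafFiber_w g x (OOX X)

theorem ρ_map_apply {U V : EtOver X} (g : U ⟶ V) (x : p.fiber.obj U) (s : Γ((sch V), ⊤)) :
    (ρ p U x).hom ((schMap g).appTop.hom s) = (ρ p V (p.fiber.map g x)).hom s :=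
  congrArg (fun h => h.hom s) (ρ_map p g x)

theorem ρ_comp_eq {U V : EtOver X} (g : U ⟶ V) (x : p.fiber.obj U) (y : p.fiber.obj V)
    (h : p.fiber.map g x = y) :
    (ρ p V y).hom = (ρ p U x).hom.comp (schMap g).appTop.hom := by
  rw [← h, ← ρ_map]
  rfl

theorem exists_rep (r : OP p) :
    ∃ (U : EtOver X) (x : p.fiber.obj U) (s : Γ((sch U), ⊤)), (ρ p U x).hom s = r :=
  p.toPresheafFiber_jointly_surjective r

theorem ρ_eq_iff (U : EtOver X) (x : p.fiber.obj U) (s t : Γ((sch U), ⊤)) :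
    (ρ p U x).hom s = (ρ p U x).hom t ↔
      ∃ (V : EtOver X) (f : V ⟶ U) (y : p.fiber.obj V), p.fiber.map f y = x ∧
        (schMap f).appTop.hom s = (schMap f).appTop.hom t :=
  p.toPresheafFiber_eq_iff' (P := OOX X) U x s t

theorem range_ρ_mono {U V : EtOver X} (g : U ⟶ V) (x : p.fiber.obj U)
    (y : p.fiber.obj V) (h : p.fiber.map g x = y) :
    Set.range (ρ p V y).hom ⊆ Set.range (ρ p U x).hom := by
  rintro _ ⟨s, rfl⟩
  refine ⟨(schMap g).appTop.hom s, ?_⟩
  rw [← h, ← ρ_map]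
  rfl

theorem exists_lift_of_cover (U : EtOver X) (x : p.fiber.obj U) {ι : Type*} (Z : ι → EtOver X)
    (f : ∀ i, Z i ⟶ U) (hcov : ⋃ i, Set.range (schMap (f i)) = Set.univ) :
    ∃ (i : ι) (y : p.fiber.obj (Z i)), p.fiber.map (f i) y = x := by
  have hmem : Sieve.ofArrows Z f ∈ (AlgSp.etTop X) U :=
    AlgSp.ofArrows_mem_etTop Z f (fun v =>
      Set.mem_iUnion.1 (Set.eq_univ_iff_forall.1 hcov v))
  obtain ⟨Y, g, hg, y, hy⟩ := p.jointly_surjective _ hmem x
  obtain ⟨i, a, rfl⟩ := (Sieve.mem_ofArrows_iff ..).1 hg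
  exact ⟨i, p.fiber.map a y, by rw [← FunctorToTypes.map_comp_apply]; exact hy⟩

theorem exists_common_refinement (U : EtOver X) (x : p.fiber.obj U) (V : EtOver X)
    (y : p.fiber.obj V) :
    ∃ (W : EtOver X) (w : p.fiber.obj W) (f : W ⟶ U) (g : W ⟶ V),
      p.fiber.map f w = x ∧ p.fiber.map g w = y := by
  let a : p.fiber.Elements := ⟨U, x⟩
  let b : p.fiber.Elements := ⟨V, y⟩
  exact ⟨(IsCofiltered.min a b).1, (IsCofiltered.min a b).2, (IsCofiltered.minToLeft a b).1,
    (IsCofiltered.minToRight a b).1, (IsCofiltered.minToLeft a b).2,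
    (IsCofiltered.minToRight a b).2⟩

theorem exists_affine_refinement (U : EtOver X) (x : p.fiber.obj U) :
    ∃ (W : EtOver X) (w : p.fiber.obj W) (g : W ⟶ U),
      IsAffine (sch W) ∧ p.fiber.map g w = x := by
  let 𝒰 := (sch U).affineCover
  obtain ⟨i, y, hy⟩ := exists_lift_of_cover p U x (fun i => mkOver U (𝒰.f i))
    (fun i => mkOverHom U (𝒰.f i)) 𝒰.iUnion_range
  exact ⟨_, y, _, (inferInstance : IsAffine (𝒰.X i)), hy⟩

theorem nontrivial : Nontrivial (OP p) := by
  refine ⟨⟨0, 1, ?_⟩⟩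
  intro h01
  obtain ⟨U, x, s, -⟩ := exists_rep p (0 : OP p)
  have h1 : (ρ p U x).hom 0 = (ρ p U x).hom 1 := by
    rw [map_zero, map_one]
    exact h01
  obtain ⟨V, f, y, -, hV⟩ := (ρ_eq_iff p U x 0 1).1 h1
  rw [map_zero, map_one] at hV
  have hemp : IsEmpty (sch V) := by
    constructor
    intro v
    have h2 := congrArg ((sch V).presheaf.germ ⊤ v trivial).hom hV
    rw [map_zero, map_one] at h2
    exact zero_ne_one h2
  obtain ⟨i, -, -⟩ := exists_lift_of_cover p V y (ι := Empty) (fun i => i.elim)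
    (fun i => i.elim) (by
      ext v
      exact (hemp.false v).elim)
  exact i.elim

theorem isUnit_ρ_of_lift (U : EtOver X) (x : p.fiber.obj U) (s : Γ((sch U), ⊤))
    (w : p.fiber.obj (mkOver U ((sch U).basicOpen s).ι))
    (hw : p.fiber.map (mkOverHom U ((sch U).basicOpen s).ι) w = x) :
    IsUnit ((ρ p U x).hom s) := by
  have h3 : (ρ p U x).hom s =
      (ρ p _ w).hom (((sch U).basicOpen s).ι.appTop.hom s) := by
    rw [← hw]
    exact (ρ_map_apply p (mkOverHom U ((sch U).basicOpen s).ι) w s).symm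
  rw [h3]
  apply IsUnit.map
  apply isUnit_of_basicOpen_eq_top
  exact (Scheme.preimage_basicOpen_top ((sch U).basicOpen s).ι s).symm.trans
    ((sch U).basicOpen s).ι_preimage_self

theorem exists_lift_basicOpen_of_isUnit (U : EtOver X) (s : Γ((sch U), ⊤)) {V : EtOver X}
    (f : V ⟶ U) (y : p.fiber.obj V) (hu : IsUnit ((schMap f).appTop.hom s)) :
    ∃ w : p.fiber.obj (mkOver U ((sch U).basicOpen s).ι),
      p.fiber.map (mkOverHom U ((sch U).basicOpen s).ι) w = p.fiber.map f y := by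
  let D := (sch U).basicOpen s
  have hpre : (schMap f) ⁻¹ᵁ D = ⊤ := by
    rw [Scheme.preimage_basicOpen_top]
    exact Scheme.basicOpen_of_isUnit _ hu
  have hrange : Set.range (schMap f) ⊆ Set.range D.ι := by
    rw [Scheme.Opens.range_ι]
    rintro _ ⟨z, rfl⟩
    have hz : z ∈ ((schMap f) ⁻¹ᵁ D) := by rw [hpre]; trivial
    exact hz
  let l : (sch V) ⟶ D.toScheme := IsOpenImmersion.lift D.ι (schMap f) hrange
  have hl : l ≫ D.ι = (schMap f) := IsOpenImmersion.lift_fac _ _ _
  let k : V ⟶ mkOver U D.ι := liftHom D.ι f l hl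
  have hk : k ≫ mkOverHom U D.ι = f := liftHom_comp D.ι f l hl
  exact ⟨p.fiber.map k y, by rw [← FunctorToTypes.map_comp_apply, hk]⟩

theorem exists_lift_basicOpen_of_isUnit_ρ (U : EtOver X) (x : p.fiber.obj U) (s : Γ((sch U), ⊤))
    (hu : IsUnit ((ρ p U x).hom s)) :
    ∃ w : p.fiber.obj (mkOver U ((sch U).basicOpen s).ι),
      p.fiber.map (mkOverHom U ((sch U).basicOpen s).ι) w = x := by
  obtain ⟨r, hr⟩ := hu.exists_right_inv
  obtain ⟨V, y, t, rfl⟩ := exists_rep p r
  obtain ⟨W, w, f, g, hf, hg⟩ := exists_common_refinement p U x V y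
  have h1 : (ρ p W w).hom ((schMap f).appTop.hom s * (schMap g).appTop.hom t) = (ρ p W w).hom 1 := by
    rw [map_mul, map_one, ρ_map_apply, ρ_map_apply, hf, hg]
    exact hr
  obtain ⟨W', f', w', hw', hW'⟩ := (ρ_eq_iff p W w _ _).1 h1
  have hu' : IsUnit ((schMap (f' ≫ f)).appTop.hom s) := by
    rw [comp_left_appTop_apply]
    rw [map_mul, map_one] at hW'
    exact IsUnit.of_mul_eq_one _ hW'
  obtain ⟨w'', hw''⟩ := exists_lift_basicOpen_of_isUnit p U s (f' ≫ f) w' hu'
  exact ⟨w'', hw''.trans (by rw [FunctorToTypes.map_comp_apply, hw', hf])⟩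

theorem exists_isUnit_of_basicOpen_cover (U : EtOver X) (x : p.fiber.obj U)
    (T : Set Γ((sch U), ⊤)) (hT : ∀ v : (sch U), ∃ t ∈ T, v ∈ (sch U).basicOpen t) :
    ∃ t ∈ T, IsUnit ((ρ p U x).hom t) := by
  obtain ⟨t, y, hy⟩ := exists_lift_of_cover p U x (ι := T)
    (fun t => mkOver U ((sch U).basicOpen t.1).ι)
    (fun t => mkOverHom U ((sch U).basicOpen t.1).ι) (by
      apply Set.eq_univ_of_forall
      intro v
      obtain ⟨t, ht, hv⟩ := hT v
      refine Set.mem_iUnion.2 ⟨⟨t, ht⟩, ?_⟩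
      show v ∈ Set.range ((sch U).basicOpen t).ι
      rw [Scheme.Opens.range_ι]
      exact hv)
  exact ⟨t.1, t.2, isUnit_ρ_of_lift p U x t.1 y hy⟩

theorem isUnit_or_isUnit_one_sub (r : OP p) : IsUnit r ∨ IsUnit (1 - r) := by
  obtain ⟨U, x, s, rfl⟩ := exists_rep p r
  obtain ⟨t, ht, hu⟩ := exists_isUnit_of_basicOpen_cover p U x {s, 1 - s} (by
    intro v
    rcases IsLocalRing.isUnit_or_isUnit_one_sub_self
      (((sch U).presheaf.germ ⊤ v trivial).hom s) with h | h
    · exact ⟨s, Set.mem_insert _ _, (Scheme.mem_basicOpen_top _ s v).2 h⟩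
    · refine ⟨1 - s, Set.mem_insert_of_mem _ rfl, (Scheme.mem_basicOpen_top _ (1 - s) v).2 ?_⟩
      show IsUnit (((sch U).presheaf.germ ⊤ v trivial).hom (1 - s))
      rw [map_sub, map_one]
      exact h)
  rcases ht with rfl | rfl
  · exact Or.inl hu
  · right
    rw [map_sub, map_one] at hu
    exact hu

theorem isLocalRing : IsLocalRing (OP p) := by
  haveI := nontrivial p
  exact IsLocalRing.of_isUnit_or_isUnit_one_sub_self (isUnit_or_isUnit_one_sub p)

/-- a finite set of elements of the local ring comes from an affine level refining a given one -/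
theorem exists_common_over (U₀ : EtOver X) (x₀ : p.fiber.obj U₀) (T : Finset (OP p)) :
    ∃ (U : EtOver X) (x : p.fiber.obj U) (h : U ⟶ U₀), IsAffine (sch U) ∧
      p.fiber.map h x = x₀ ∧ (↑T : Set (OP p)) ⊆ Set.range (ρ p U x).hom := by
  classical
  induction T using Finset.induction_on with
  | empty =>
    obtain ⟨W, w, g, hW, hw⟩ := exists_affine_refinement p U₀ x₀
    exact ⟨W, w, g, hW, hw, by simp⟩
  | insert r T hr ih =>
    obtain ⟨U, x, h, -, hx, hU⟩ := ih
    obtain ⟨V, y, s, hs⟩ := exists_rep p r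
    obtain ⟨W, w, f, g, hf, hg⟩ := exists_common_refinement p U x V y
    obtain ⟨W', w', k, hW', hw'⟩ := exists_affine_refinement p W w
    refine ⟨W', w', k ≫ f ≫ h, hW', ?_, ?_⟩
    · rw [FunctorToTypes.map_comp_apply, FunctorToTypes.map_comp_apply, hw', hf, hx]
    · have h1 : Set.range (ρ p U x).hom ⊆ Set.range (ρ p W' w').hom :=
        range_ρ_mono p (k ≫ f) w' x (by rw [FunctorToTypes.map_comp_apply, hw', hf])
      have h2 : Set.range (ρ p V y).hom ⊆ Set.range (ρ p W' w').hom :=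
        range_ρ_mono p (k ≫ g) w' y (by rw [FunctorToTypes.map_comp_apply, hw', hg])
      rw [Finset.coe_insert]
      exact Set.insert_subset (h2 ⟨s, hs⟩) (hU.trans h1)

/-- equalities in the local ring descend to an affine level -/
theorem exists_refinement_eq (U : EtOver X) (x : p.fiber.obj U) (s t : Γ((sch U), ⊤))
    (h : (ρ p U x).hom s = (ρ p U x).hom t) :
    ∃ (V : EtOver X) (y : p.fiber.obj V) (f : V ⟶ U), IsAffine (sch V) ∧ p.fiber.map f y = x ∧
      (schMap f).appTop.hom s = (schMap f).appTop.hom t := by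
  obtain ⟨V, f, y, hy, hst⟩ := (ρ_eq_iff p U x s t).1 h
  obtain ⟨W, w, k, hW, hw⟩ := exists_affine_refinement p V y
  refine ⟨W, w, k ≫ f, hW, by rw [FunctorToTypes.map_comp_apply, hw, hy], ?_⟩
  rw [comp_left_appTop_apply, comp_left_appTop_apply, hst]

/-- units in the local ring descend to an affine level -/
theorem exists_refinement_isUnit (U : EtOver X) (x : p.fiber.obj U) (s : Γ((sch U), ⊤))
    (h : IsUnit ((ρ p U x).hom s)) :
    ∃ (V : EtOver X) (y : p.fiber.obj V) (f : V ⟶ U), IsAffine (sch V) ∧ p.fiber.map f y = x ∧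
      IsUnit ((schMap f).appTop.hom s) := by
  obtain ⟨w, hw⟩ := exists_lift_basicOpen_of_isUnit_ρ p U x s h
  obtain ⟨W, w', k, hW, hw'⟩ := exists_affine_refinement p _ w
  refine ⟨W, w', k ≫ mkOverHom U ((sch U).basicOpen s).ι, hW,
    by rw [FunctorToTypes.map_comp_apply, hw', hw], ?_⟩
  rw [comp_left_appTop_apply]
  apply IsUnit.map
  apply isUnit_of_basicOpen_eq_top
  exact (Scheme.preimage_basicOpen_top ((sch U).basicOpen s).ι s).symm.trans
    ((sch U).basicOpen s).ι_preimage_self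

/-- Key covering lemma: an étale map which together with non-unit basic opens covers, lifts the
point. -/
theorem exists_lift_of_cover_nonunits (U : EtOver X) (x : p.fiber.obj U) {Y : Scheme.{u}}
    (q : Y ⟶ (sch U)) [Etale q] {ι : Type*} (g : ι → Γ((sch U), ⊤))
    (hg : ∀ i, ¬ IsUnit ((ρ p U x).hom (g i)))
    (hcov : ∀ v : (sch U), v ∈ Set.range q ∨ ∃ i, v ∈ (sch U).basicOpen (g i)) :
    ∃ w : p.fiber.obj (mkOver U q), p.fiber.map (mkOverHom U q) w = x := by
  let Z : Option ι → EtOver X := fun o => match o with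
    | none => mkOver U q
    | some i => mkOver U ((sch U).basicOpen (g i)).ι
  let f : ∀ o, Z o ⟶ U := fun o => match o with
    | none => mkOverHom U q
    | some i => mkOverHom U ((sch U).basicOpen (g i)).ι
  obtain ⟨o, y, hy⟩ := exists_lift_of_cover p U x Z f (by
    apply Set.eq_univ_of_forall
    intro v
    rcases hcov v with hv | ⟨i, hv⟩
    · exact Set.mem_iUnion.2 ⟨none, hv⟩
    · refine Set.mem_iUnion.2 ⟨some i, ?_⟩
      show v ∈ Set.range ((sch U).basicOpen (g i)).ι
      rw [Scheme.Opens.range_ι]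
      exact hv)
  cases o with
  | none => exact ⟨y, hy⟩
  | some i => exact absurd (isUnit_ρ_of_lift p U x (g i) y hy) (hg i)

end Groth.Agent.Helper1.EQ
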