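import Mathlib
import Groth.Prelude.Def_AlgSpOX3
import Groth.Agent.Lib.Helper1.ELR1
import Groth.Agent.Lib.Helper1.EP2
import Groth.Agent.Lib.Helper1.EQ1

/-!
# Points of the small étale site of an algebraic space (S10229), part 2: the local ring of a point
is strictly henselian (port of `EP2`)
-/

set_option autoImplicit false
set_option backward.isDefEq.respectTransparency false
open CategoryTheory CategoryTheory.Limits AlgebraicGeometry Opposite
universe u

namespace Groth.Agent.Helper1.EQ

open Groth.Agent.Helper1.ELR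
open Groth.Agent.Helper1.EP (evK evK_eq_zero_of_notMem spec_evK mem_lifts_of_coeffs
  divided_difference)
open AlgSp

variable {S : Scheme.{u}} {X : AlgSp.Sp S}

variable (p : GrothendieckTopology.Point.{u} (AlgSp.etTop X))

/-- Root finding: a standard étale algebra over an affine level which, together with non-unit
basic opens, covers the level, acquires a section in the local ring. -/
theorem exists_root_of_cover (U : EtOver X) [IsAffine (sch U)] (x : p.fiber.obj U)
    (P : StandardEtalePair Γ((sch U), ⊤)) {ι : Type*} (g : ι → Γ((sch U), ⊤))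
    (hg : ∀ i, ¬ IsUnit ((ρ p U x).hom (g i)))
    (hcov : ∀ v : (sch U), (∀ i, (evK v).hom (g i) = 0) →
      ∃ (L : Type u) (_ : Field L) (j : (sch U).residueField v →+* L) (ω : L),
        Polynomial.eval₂ (j.comp (evK v).hom) ω P.f = 0 ∧
        Polynomial.eval₂ (j.comp (evK v).hom) ω P.g ≠ 0) :
    ∃ a : OP p, Polynomial.eval₂ (ρ p U x).hom a P.f = 0 ∧
      IsUnit (Polynomial.eval₂ (ρ p U x).hom a P.g) := by
  let A : CommRingCat.{u} := Γ((sch U), ⊤)
  let B : CommRingCat.{u} := CommRingCat.of P.Ring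
  let φ : A ⟶ B := CommRingCat.ofHom (algebraMap A P.Ring)
  have hφ1 : (algebraMap A P.Ring).Etale := RingHom.etale_algebraMap.mpr inferInstance
  haveI hφet : Etale (Spec.map φ) := (HasRingHomProperty.Spec_iff (P := @Etale)).2 hφ1
  let q : Spec B ⟶ (sch U) := Spec.map φ ≫ (sch U).isoSpec.inv
  have hcov' : ∀ v : (sch U), v ∈ Set.range q ∨ ∃ i, v ∈ (sch U).basicOpen (g i) := by
    intro v
    by_cases hv : ∃ i, v ∈ (sch U).basicOpen (g i)
    · exact Or.inr hv
    · left
      push_neg at hv
      obtain ⟨L, _, j, ω, h0, h1⟩ := hcov v (fun i => evK_eq_zero_of_notMem v (g i) (hv i))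
      letI : Algebra A L := (j.comp (evK v).hom).toAlgebra
      have hmap : P.HasMap ω := by
        refine ⟨?_, ?_⟩
        · show Polynomial.aeval ω P.f = 0
          rw [Polynomial.aeval_def]
          exact h0
        · show IsUnit (Polynomial.aeval ω P.g)
          rw [Polynomial.aeval_def]
          exact IsUnit.mk0 _ h1
      let ψ : P.Ring →ₐ[A] L := P.lift ω hmap
      let ψ' : B ⟶ CommRingCat.of L := CommRingCat.ofHom ψ.toRingHom
      have hφψ : φ ≫ ψ' = evK v ≫ CommRingCat.ofHom j := by
        apply CommRingCat.hom_ext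
        apply RingHom.ext
        intro t
        exact ψ.commutes t
      have hl : Spec.map ψ' ≫ q =
          Spec.map (CommRingCat.ofHom j) ≫ (sch U).fromSpecResidueField v := by
        show Spec.map ψ' ≫ Spec.map φ ≫ (sch U).isoSpec.inv = _
        rw [← Category.assoc, ← Spec.map_comp, hφψ, Spec.map_comp, Category.assoc, spec_evK]
      refine ⟨(Spec.map ψ') default, ?_⟩
      have h2 : q ((Spec.map ψ') default) = (Spec.map ψ' ≫ q) default := rfl
      rw [h2, hl]
      exact (sch U).fromSpecResidueField_apply v _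
  obtain ⟨w, hw⟩ := exists_lift_of_cover_nonunits p U x q g hg hcov'
  -- the root
  let b : Γ(Spec B, ⊤) := (Scheme.ΓSpecIso B).inv.hom P.X
  have hb : (Scheme.ΓSpecIso B).hom.hom b = P.X := iso_hom_inv_apply _ _
  have hγ : (Scheme.ΓSpecIso B).hom.hom.comp q.appTop.hom = algebraMap A P.Ring := by
    have := appTop_spec_eq (Y := (sch U)) φ
    exact congrArg (fun h => h.hom) this
  have hinj : Function.Injective (Scheme.ΓSpecIso B).hom.hom := by
    intro t₁ t₂ ht
    rw [← iso_inv_hom_apply (Scheme.ΓSpecIso B) t₁, ht, iso_inv_hom_apply]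
  have hroot : Polynomial.eval₂ q.appTop.hom b P.f = 0 := by
    apply hinj
    rw [Polynomial.hom_eval₂, hγ, hb, map_zero]
    exact (P.hasMap_X).1
  have hunit : IsUnit (Polynomial.eval₂ q.appTop.hom b P.g) := by
    have h1 : IsUnit ((Scheme.ΓSpecIso B).hom.hom (Polynomial.eval₂ q.appTop.hom b P.g)) := by
      rw [Polynomial.hom_eval₂, hγ, hb]
      exact (P.hasMap_X).2
    have h2 := h1.map (Scheme.ΓSpecIso B).inv.hom
    rwa [iso_inv_hom_apply] at h2
  have hρ : (ρ p U x).hom = (ρ p (mkOver U q) w).hom.comp q.appTop.hom :=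
    ρ_comp_eq p (mkOverHom U q) w x hw
  refine ⟨(ρ p (mkOver U q) w).hom b, ?_, ?_⟩
  · rw [hρ, ← Polynomial.hom_eval₂]
    exact (congrArg (ρ p (mkOver U q) w).hom hroot).trans (map_zero _)
  · rw [hρ, ← Polynomial.hom_eval₂]
    exact hunit.map _

theorem henselian : HenselianLocalRing (OP p) := by
  haveI := isLocalRing p
  refine HenselianLocalRing.mk ?_
  intro f hf a₀ h0 h1
  classical
  obtain ⟨U₁, x₁, -, -⟩ := exists_rep p (0 : OP p)
  obtain ⟨U₂, x₂, -, hU₂, -, hT⟩ := exists_common_over p U₁ x₁ (insert a₀ f.coeffs)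
  haveI := hU₂
  have hfl : f ∈ Polynomial.lifts (ρ p U₂ x₂).hom := mem_lifts_of_coeffs _ f (fun r hr => hT (by
    rw [Finset.coe_insert]
    exact Set.mem_insert_of_mem _ hr))
  obtain ⟨F₂, hF₂f, -, hF₂m⟩ := Polynomial.lifts_and_degree_eq_and_monic hfl hf
  obtain ⟨α₂, hα₂⟩ := hT (by
    rw [Finset.coe_insert]
    exact Set.mem_insert _ _)
  have hd : IsUnit ((ρ p U₂ x₂).hom ((Polynomial.derivative F₂).eval α₂)) := by
    have h2 : (ρ p U₂ x₂).hom ((Polynomial.derivative F₂).eval α₂) =
        (Polynomial.derivative f).eval a₀ := by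
      rw [← hF₂f, Polynomial.derivative_map, Polynomial.eval_map, ← hα₂,
        Polynomial.eval₂_at_apply]
    rw [h2]
    exact h1
  obtain ⟨U, x, k, hU, hkx, hδ⟩ := exists_refinement_isUnit p U₂ x₂ _ hd
  haveI := hU
  let κ : Γ((sch U₂), ⊤) →+* Γ((sch U), ⊤) := (schMap k).appTop.hom
  obtain ⟨F, hFdef⟩ : ∃ F : Polynomial Γ((sch U), ⊤), F = F₂.map κ := ⟨_, rfl⟩
  obtain ⟨α, hαdef⟩ : ∃ α : Γ((sch U), ⊤), α = κ α₂ := ⟨_, rfl⟩
  have hρ : (ρ p U₂ x₂).hom = (ρ p U x).hom.comp κ := ρ_comp_eq p k x x₂ hkx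
  have hFm : F.Monic := by
    rw [hFdef]
    exact hF₂m.map κ
  have hFf : F.map (ρ p U x).hom = f := by
    rw [hFdef, Polynomial.map_map, ← hρ]
    exact hF₂f
  have hα : (ρ p U x).hom α = a₀ := by
    rw [hαdef]
    show ((ρ p U x).hom.comp κ) α₂ = a₀
    rw [← hρ]
    exact hα₂
  have hδ' : IsUnit ((Polynomial.derivative F).eval α) := by
    have h2 : (Polynomial.derivative F).eval α = κ ((Polynomial.derivative F₂).eval α₂) := by
      rw [hFdef, hαdef, Polynomial.derivative_map, Polynomial.eval_map,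
        Polynomial.eval₂_at_apply]
    rw [h2]
    exact hδ
  obtain ⟨H, hH1, hH2⟩ := divided_difference F α
  let P : StandardEtalePair Γ((sch U), ⊤) :=
    ⟨F, hFm, Polynomial.derivative F * H, ⟨H, 0, 1, by simp⟩⟩
  have hε' : (ρ p U x).hom (F.eval α) = f.eval a₀ := by
    rw [← hFf, Polynomial.eval_map, ← hα, Polynomial.eval₂_at_apply]
  have hε : ¬ IsUnit ((ρ p U x).hom (F.eval α)) := by
    rw [hε']
    exact (IsLocalRing.mem_maximalIdeal _).1 h0
  obtain ⟨a, ha0, ha1⟩ := exists_root_of_cover p U x P (ι := Unit) (fun _ => F.eval α)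
    (fun _ => hε) (by
      intro v hv
      refine ⟨(sch U).residueField v, inferInstance, RingHom.id _, (evK v).hom α, ?_, ?_⟩
      · rw [RingHom.id_comp, Polynomial.eval₂_at_apply]
        exact hv ()
      · rw [RingHom.id_comp, Polynomial.eval₂_at_apply]
        show (evK v).hom ((Polynomial.derivative F * H).eval α) ≠ 0
        rw [Polynomial.eval_mul, hH2, map_mul]
        have hu := hδ'.map (evK v).hom
        exact (hu.mul hu).ne_zero)
  have ha0' : Polynomial.eval₂ (ρ p U x).hom a F = 0 := ha0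
  have ha1' : IsUnit (Polynomial.eval₂ (ρ p U x).hom a (Polynomial.derivative F) *
      Polynomial.eval₂ (ρ p U x).hom a H) := by
    rw [← Polynomial.eval₂_mul]
    exact ha1
  have hHu : IsUnit (Polynomial.eval₂ (ρ p U x).hom a H) := isUnit_of_mul_isUnit_right ha1'
  have h5 := congrArg (Polynomial.eval₂ (ρ p U x).hom a) hH1
  rw [Polynomial.eval₂_add, Polynomial.eval₂_mul, Polynomial.eval₂_sub, Polynomial.eval₂_X,
    Polynomial.eval₂_C, Polynomial.eval₂_C, ha0', hα, hε'] at h5
  refine ⟨a, ?_, ?_⟩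
  · rw [Polynomial.IsRoot.def, ← hFf, Polynomial.eval_map]
    exact ha0
  · rw [IsLocalRing.mem_maximalIdeal, mem_nonunits_iff]
    intro hunit
    have h6 : f.eval a₀ = -((a - a₀) * Polynomial.eval₂ (ρ p U x).hom a H) := by
      linear_combination -h5
    have h7 : IsUnit (f.eval a₀) := by
      rw [h6]
      exact (hunit.mul hHu).neg
    exact (IsLocalRing.mem_maximalIdeal _).1 h0 h7

theorem isSepClosed_residueField :
    letI := isLocalRing p
    IsSepClosed (IsLocalRing.ResidueField (OP p)) := by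
  letI := isLocalRing p
  apply IsSepClosed.of_exists_root
  intro pb hp hirr hsep
  classical
  have hsurj : Function.Surjective (IsLocalRing.residue (OP p)) :=
    IsLocalRing.residue_surjective
  have hlift : pb ∈ Polynomial.lifts (IsLocalRing.residue (OP p)) := by
    rw [Polynomial.lifts_iff_coeff_lifts]
    intro n
    exact hsurj _
  obtain ⟨f, hf1, -, hf2⟩ := Polynomial.lifts_and_degree_eq_and_monic hlift hp
  obtain ⟨ab, bb, hbez⟩ := hsep
  obtain ⟨a, ha⟩ := Polynomial.map_surjective (IsLocalRing.residue (OP p)) hsurj ab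
  obtain ⟨b, hb⟩ := Polynomial.map_surjective (IsLocalRing.residue (OP p)) hsurj bb
  have hm : (a * f + b * Polynomial.derivative f - 1).map (IsLocalRing.residue (OP p)) = 0 := by
    rw [Polynomial.map_sub, Polynomial.map_add, Polynomial.map_mul, Polynomial.map_mul,
      Polynomial.map_one, ← Polynomial.derivative_map, ha, hb, hf1, hbez, sub_self]
  -- descend to a level
  obtain ⟨U₁, x₁, -, -⟩ := exists_rep p (0 : OP p)
  obtain ⟨U, x, -, hU, -, hT⟩ := exists_common_over p U₁ x₁ (f.coeffs ∪ a.coeffs ∪ b.coeffs)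
  haveI := hU
  have hfl : f ∈ Polynomial.lifts (ρ p U x).hom := mem_lifts_of_coeffs _ f (fun r hr => hT (by
    rw [Finset.coe_union, Finset.coe_union]
    exact Or.inl (Or.inl hr)))
  have hal : a ∈ Polynomial.lifts (ρ p U x).hom := mem_lifts_of_coeffs _ a (fun r hr => hT (by
    rw [Finset.coe_union, Finset.coe_union]
    exact Or.inl (Or.inr hr)))
  have hbl : b ∈ Polynomial.lifts (ρ p U x).hom := mem_lifts_of_coeffs _ b (fun r hr => hT (by
    rw [Finset.coe_union, Finset.coe_union]
    exact Or.inr hr))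
  obtain ⟨F, hFf, -, hFm⟩ := Polynomial.lifts_and_degree_eq_and_monic hfl hf2
  obtain ⟨A', hA'⟩ := (Polynomial.mem_lifts _).1 hal
  obtain ⟨B', hB'⟩ := (Polynomial.mem_lifts _).1 hbl
  let M : Polynomial Γ((sch U), ⊤) := A' * F + B' * Polynomial.derivative F - 1
  have hM : M.map (ρ p U x).hom = a * f + b * Polynomial.derivative f - 1 := by
    show (A' * F + B' * Polynomial.derivative F - 1).map (ρ p U x).hom = _
    rw [Polynomial.map_sub, Polynomial.map_add, Polynomial.map_mul, Polynomial.map_mul,
      Polynomial.map_one, ← Polynomial.derivative_map, hA', hB', hFf]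
  let P : StandardEtalePair Γ((sch U), ⊤) :=
    ⟨F, hFm, Polynomial.derivative F, ⟨1, 0, 1, by simp⟩⟩
  have hg : ∀ i : ℕ, ¬ IsUnit ((ρ p U x).hom (M.coeff i)) := by
    intro i
    have h1 : (ρ p U x).hom (M.coeff i) = (a * f + b * Polynomial.derivative f - 1).coeff i := by
      rw [← hM, Polynomial.coeff_map]
    have h2 : IsLocalRing.residue (OP p) ((a * f + b * Polynomial.derivative f - 1).coeff i)
        = 0 := by
      rw [← Polynomial.coeff_map, hm, Polynomial.coeff_zero]
    rw [h1]
    exact (IsLocalRing.mem_maximalIdeal _).1 ((IsLocalRing.residue_eq_zero_iff _).1 h2)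
  have hdeg : F.degree ≠ 0 := by
    have h1 : pb.degree = f.degree := by
      rw [← hf1]
      exact hf2.degree_map _
    have h2 : f.degree = F.degree := by
      rw [← hFf]
      exact hFm.degree_map _
    rw [← h2, ← h1]
    exact (Polynomial.degree_pos_of_irreducible hirr).ne'
  obtain ⟨r, hr0, -⟩ := exists_root_of_cover p U x P (fun i : ℕ => M.coeff i) hg (by
    intro v hv
    let L := AlgebraicClosure ((sch U).residueField v)
    let j : (sch U).residueField v →+* L := algebraMap _ _
    let ψ : Γ((sch U), ⊤) →+* L := j.comp (evK v).hom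
    have hMe : M.map (evK v).hom = 0 := by
      apply Polynomial.ext
      intro i
      rw [Polynomial.coeff_map, Polynomial.coeff_zero]
      exact hv i
    have hMψ : M.map ψ = 0 := by
      rw [← Polynomial.map_map, hMe, Polynomial.map_zero]
    have hbezL : A'.map ψ * F.map ψ + B'.map ψ * Polynomial.derivative (F.map ψ) = 1 := by
      have h3 : (A' * F + B' * Polynomial.derivative F - 1).map ψ = 0 := hMψ
      rw [Polynomial.map_sub, Polynomial.map_add, Polynomial.map_mul, Polynomial.map_mul,
        Polynomial.map_one, ← Polynomial.derivative_map, sub_eq_zero] at h3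
      exact h3
    have hdegL : (F.map ψ).degree ≠ 0 := by
      rw [hFm.degree_map ψ]
      exact hdeg
    obtain ⟨ω, hω⟩ := IsAlgClosed.exists_root (F.map ψ) hdegL
    refine ⟨L, inferInstance, j, ω, ?_, ?_⟩
    · show Polynomial.eval₂ ψ ω F = 0
      rw [← Polynomial.eval_map]
      exact hω
    · show Polynomial.eval₂ ψ ω (Polynomial.derivative F) ≠ 0
      rw [← Polynomial.eval_map, ← Polynomial.derivative_map]
      have h4 := congrArg (Polynomial.eval ω) hbezL
      rw [Polynomial.eval_add, Polynomial.eval_mul, Polynomial.eval_mul,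
        Polynomial.IsRoot.def.1 hω, mul_zero, zero_add, Polynomial.eval_one] at h4
      exact right_ne_zero_of_mul_eq_one h4)
  have hroot : f.eval r = 0 := by
    rw [← hFf, Polynomial.eval_map]
    exact hr0
  refine ⟨IsLocalRing.residue _ r, ?_⟩
  rw [← hf1, Polynomial.eval_map, Polynomial.eval₂_at_apply, hroot, map_zero]

end Groth.Agent.Helper1.EQ
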