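import Mathlib
import Groth.Prelude.Def_AlgSpOX3
import Groth.Agent.Lib.Helper1.ELR1
import Groth.Agent.Lib.Helper1.EP3
import Groth.Agent.Lib.Helper1.EQ0
import Groth.Agent.Lib.Helper1.EQ1
import Groth.Agent.Lib.Helper1.EQ2

/-!
# Points of the small étale site of an algebraic space (S10229), part 3: the geometric point
-/

set_option autoImplicit false
set_option backward.isDefEq.respectTransparency false
open CategoryTheory CategoryTheory.Limits AlgebraicGeometry Opposite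
universe u

namespace Groth.Agent.Helper1.EQ

open Groth.Agent.Helper1.ELR
open Groth.Agent.Helper1.EP (hensel_lift exists_standard_factor)
open AlgSp

/-! ### pure algebra / geometry -/

theorem mem_range_of_simple_root {Ω K : Type*} [Field Ω] [Field K] [Algebra Ω K] [IsSepClosed Ω]
    (f : Polynomial Ω) (hf : f.Monic) (ω : K) (h0 : Polynomial.aeval ω f = 0)
    (h1 : Polynomial.aeval ω (Polynomial.derivative f) ≠ 0) : ω ∈ (algebraMap Ω K).range := by
  have hint : IsIntegral Ω ω := ⟨f, hf, h0⟩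
  have hirr : Irreducible (minpoly Ω ω) := minpoly.irreducible hint
  obtain ⟨g, hg⟩ := minpoly.dvd Ω ω h0
  have hsep : (minpoly Ω ω).Separable := by
    rw [Polynomial.separable_iff_derivative_ne_zero hirr]
    intro hd
    apply h1
    rw [hg, Polynomial.derivative_mul, hd, zero_mul, zero_add, map_mul, minpoly.aeval, zero_mul]
  have hdeg : (minpoly Ω ω).degree = 1 := IsSepClosed.degree_eq_one_of_irreducible Ω hirr hsep
  exact minpoly.mem_range_of_degree_eq_one Ω ω hdeg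

theorem isOpenImmersion_of_section {Z V : Scheme.{u}} (s : V ⟶ Z) (f : Z ⟶ V) [Etale f]
    (h : s ≫ f = 𝟙 V) : IsOpenImmersion s := by
  have hP : MorphismProperty.HasOfPostcompProperty @IsOpenImmersion @Etale :=
    (MorphismProperty.hasOfPostcompProperty_iff_le_diagonal).2 (fun X Y g hg => by
      haveI : Etale g := hg
      show IsOpenImmersion (pullback.diagonal g)
      infer_instance)
  exact hP.of_postcomp s f ‹Etale f› (by rw [h]; infer_instance)

variable {S : Scheme.{u}} {X : AlgSp.Sp S} (p : GrothendieckTopology.Point.{u} (AlgSp.etTop X))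

instance instIsLocalRingOP : IsLocalRing (OP p) := isLocalRing p

instance instHenselianOP : HenselianLocalRing (OP p) := henselian p

/-- the residue field of the local ring of the point -/
noncomputable abbrev Om : Type u := IsLocalRing.ResidueField (OP p)

instance instIsSepClosedOm : IsSepClosed (Om p) := isSepClosed_residueField p

/-- the algebraically closed field of the geometric point -/
noncomputable abbrev KK : Type u := AlgebraicClosure (Om p)

noncomputable def resK : OP p ⟶ CommRingCat.of (KK p) :=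
  CommRingCat.ofHom ((algebraMap (Om p) (KK p)).comp (IsLocalRing.residue (OP p)))

noncomputable def ρk (U : EtOver X) (x : p.fiber.obj U) :
    Γ(sch U, ⊤) ⟶ CommRingCat.of (KK p) :=
  ρ p U x ≫ resK p

theorem ρk_map {U V : EtOver X} (g : U ⟶ V) (x : p.fiber.obj U) :
    (schMap g).appTop ≫ ρk p U x = ρk p V (p.fiber.map g x) := by
  unfold ρk
  rw [← Category.assoc, ρ_map]

theorem ρk_apply (U : EtOver X) (x : p.fiber.obj U) (s : Γ(sch U, ⊤)) :
    (ρk p U x).hom s =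
      algebraMap (Om p) (KK p) (IsLocalRing.residue (OP p) ((ρ p U x).hom s)) := rfl

theorem exists_level_root (U₀ : EtOver X) (x₀ : p.fiber.obj U₀)
    (F G : Polynomial Γ(sch U₀, ⊤)) (a : OP p)
    (h0 : Polynomial.eval₂ (ρ p U₀ x₀).hom a F = 0)
    (h1 : IsUnit (Polynomial.eval₂ (ρ p U₀ x₀).hom a G)) :
    ∃ (U : EtOver X) (x : p.fiber.obj U) (h : U ⟶ U₀) (b : Γ(sch U, ⊤)), IsAffine (sch U) ∧
      p.fiber.map h x = x₀ ∧ (ρ p U x).hom b = a ∧
      Polynomial.eval₂ (schMap h).appTop.hom b F = 0 ∧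
      IsUnit (Polynomial.eval₂ (schMap h).appTop.hom b G) := by
  classical
  obtain ⟨U₁, x₁, h₁, -, hx₁, hT⟩ := exists_common_over p U₀ x₀ {a}
  obtain ⟨b₁, hb₁⟩ := hT (by
    rw [Finset.coe_singleton]
    exact Set.mem_singleton a)
  have hρ₁ : (ρ p U₀ x₀).hom = (ρ p U₁ x₁).hom.comp (schMap h₁).appTop.hom :=
    ρ_comp_eq p h₁ x₁ x₀ hx₁
  have e₁ : (ρ p U₁ x₁).hom (Polynomial.eval₂ (schMap h₁).appTop.hom b₁ F) =
      (ρ p U₁ x₁).hom 0 := by
    rw [Polynomial.hom_eval₂, ← hρ₁, hb₁, map_zero]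
    exact h0
  obtain ⟨U₂, x₂, h₂, -, hx₂, e₂⟩ := exists_refinement_eq p U₁ x₁ _ _ e₁
  have hρ₂ : (ρ p U₁ x₁).hom = (ρ p U₂ x₂).hom.comp (schMap h₂).appTop.hom :=
    ρ_comp_eq p h₂ x₂ x₁ hx₂
  have hc : (schMap (h₂ ≫ h₁)).appTop.hom =
      (schMap h₂).appTop.hom.comp (schMap h₁).appTop.hom :=
    RingHom.ext (comp_left_appTop_apply h₂ h₁)
  have hρ₁₂ : (ρ p U₀ x₀).hom = (ρ p U₂ x₂).hom.comp (schMap (h₂ ≫ h₁)).appTop.hom := by
    rw [hc, ← RingHom.comp_assoc, ← hρ₂, ← hρ₁]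
  have hb₂ : (ρ p U₂ x₂).hom ((schMap h₂).appTop.hom b₁) = a := by
    have h3 := ρ_map_apply p h₂ x₂ b₁
    rw [h3, hx₂]
    exact hb₁
  have e₂' : Polynomial.eval₂ (schMap (h₂ ≫ h₁)).appTop.hom ((schMap h₂).appTop.hom b₁) F
      = 0 := by
    rw [hc, ← Polynomial.hom_eval₂, e₂, map_zero]
  have u₂ : IsUnit ((ρ p U₂ x₂).hom
      (Polynomial.eval₂ (schMap (h₂ ≫ h₁)).appTop.hom ((schMap h₂).appTop.hom b₁) G)) := by
    rw [Polynomial.hom_eval₂, ← hρ₁₂, hb₂]
    exact h1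
  obtain ⟨U₃, x₃, h₃, hU₃, hx₃, u₃⟩ := exists_refinement_isUnit p U₂ x₂ _ u₂
  have hc' : (schMap (h₃ ≫ h₂ ≫ h₁)).appTop.hom =
      (schMap h₃).appTop.hom.comp (schMap (h₂ ≫ h₁)).appTop.hom :=
    RingHom.ext (comp_left_appTop_apply h₃ (h₂ ≫ h₁))
  refine ⟨U₃, x₃, h₃ ≫ h₂ ≫ h₁, (schMap h₃).appTop.hom ((schMap h₂).appTop.hom b₁), hU₃,
    ?_, ?_, ?_, ?_⟩
  · rw [FunctorToTypes.map_comp_apply, FunctorToTypes.map_comp_apply, hx₃, hx₂, hx₁]
  · have h3 := ρ_map_apply p h₃ x₃ ((schMap h₂).appTop.hom b₁)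
    rw [h3, hx₃]
    exact hb₂
  · rw [hc', ← Polynomial.hom_eval₂, e₂', map_zero]
  · rw [hc', ← Polynomial.hom_eval₂]
    exact u₃

/-- the lift of the geometric point to an affine level -/
noncomputable def ξU (U : EtOver X) [IsAffine (sch U)] (x : p.fiber.obj U) :
    Spec (CommRingCat.of (KK p)) ⟶ sch U :=
  Spec.map (ρk p U x) ≫ (sch U).isoSpec.inv

theorem ξU_map {U V : EtOver X} [IsAffine (sch U)] [IsAffine (sch V)] (g : U ⟶ V)
    (x : p.fiber.obj U) :
    ξU p U x ≫ schMap g = ξU p V (p.fiber.map g x) := by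
  unfold ξU
  rw [Category.assoc, ← Scheme.isoSpec_inv_naturality, ← Category.assoc, ← Spec.map_comp, ρk_map]

theorem isUnit_ρ_of_mem_basicOpen (U : EtOver X) [IsAffine (sch U)] (x : p.fiber.obj U)
    (s : Γ(sch U, ⊤)) (h : (ξU p U x) default ∈ (sch U).basicOpen s) :
    IsUnit ((ρ p U x).hom s) := by
  by_contra hnu
  have h0 : (ρk p U x).hom s = 0 := by
    rw [ρk_apply, (IsLocalRing.residue_eq_zero_iff _).2 ((IsLocalRing.mem_maximalIdeal _).2 hnu),
      map_zero]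
  have h1 : (ξU p U x).appTop ≫ (Scheme.ΓSpecIso _).hom = ρk p U x := appTop_spec_eq (ρk p U x)
  have h2 : (ξU p U x).appTop.hom s = 0 := by
    have h3 : (Scheme.ΓSpecIso (CommRingCat.of (KK p))).hom.hom ((ξU p U x).appTop.hom s) = 0 :=
      (congrArg (fun m => m.hom s) h1).trans h0
    rw [← iso_inv_hom_apply (Scheme.ΓSpecIso (CommRingCat.of (KK p))) ((ξU p U x).appTop.hom s),
      h3, map_zero]
  have h4 : (ξU p U x) ⁻¹ᵁ ((sch U).basicOpen s) = ⊥ := by
    rw [Scheme.preimage_basicOpen_top]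
    have h5 : (Spec (CommRingCat.of (KK p))).basicOpen ((ξU p U x).appTop.hom s) = ⊥ := by
      rw [h2]
      exact Scheme.basicOpen_zero ..
    exact h5
  have hmem : (default : Spec (CommRingCat.of (KK p))) ∈ (ξU p U x) ⁻¹ᵁ ((sch U).basicOpen s) := h
  rw [h4] at hmem
  simpa using hmem

theorem exists_affine_cospan {V W₁ W₂ : EtOver X} (w₁ : p.fiber.obj W₁) (w₂ : p.fiber.obj W₂)
    (g₁ : W₁ ⟶ V) (g₂ : W₂ ⟶ V) (h : p.fiber.map g₁ w₁ = p.fiber.map g₂ w₂) :
    ∃ (W : EtOver X) (w : p.fiber.obj W) (h₁ : W ⟶ W₁) (h₂ : W ⟶ W₂), IsAffine (sch W) ∧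
      p.fiber.map h₁ w = w₁ ∧ p.fiber.map h₂ w = w₂ ∧ h₁ ≫ g₁ = h₂ ≫ g₂ := by
  let a₁ : p.fiber.Elements := ⟨W₁, w₁⟩
  let a₂ : p.fiber.Elements := ⟨W₂, w₂⟩
  let b : p.fiber.Elements := ⟨V, p.fiber.map g₁ w₁⟩
  let F₁ : a₁ ⟶ b := CategoryOfElements.homMk a₁ b g₁ rfl
  let F₂ : a₂ ⟶ b := CategoryOfElements.homMk a₂ b g₂ h.symm
  obtain ⟨c, G₁, G₂, hG⟩ := IsCofiltered.cospan F₁ F₂
  obtain ⟨W, w, r, hW, hr⟩ := exists_affine_refinement p c.1 c.2
  refine ⟨W, w, r ≫ G₁.1, r ≫ G₂.1, hW, ?_, ?_, ?_⟩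
  · rw [FunctorToTypes.map_comp_apply, hr]
    exact G₁.2
  · rw [FunctorToTypes.map_comp_apply, hr]
    exact G₂.2
  · rw [Category.assoc, Category.assoc]
    exact congrArg (fun m => r ≫ m) (congrArg (fun m => m.1) hG)

theorem ξU_comp_eq {V W₁ W₂ : EtOver X} [IsAffine (sch W₁)] [IsAffine (sch W₂)]
    (w₁ : p.fiber.obj W₁) (w₂ : p.fiber.obj W₂) (g₁ : W₁ ⟶ V) (g₂ : W₂ ⟶ V)
    (h : p.fiber.map g₁ w₁ = p.fiber.map g₂ w₂) :
    ξU p W₁ w₁ ≫ schMap g₁ = ξU p W₂ w₂ ≫ schMap g₂ := by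
  obtain ⟨W, w, h₁, h₂, hW, e₁, e₂, e⟩ := exists_affine_cospan p w₁ w₂ g₁ g₂ h
  haveI := hW
  have a1 : ξU p W₁ w₁ = ξU p W w ≫ schMap h₁ := by rw [ξU_map, e₁]
  have a2 : ξU p W₂ w₂ = ξU p W w ≫ schMap h₂ := by rw [ξU_map, e₂]
  rw [a1, a2, Category.assoc, Category.assoc]
  congr 1
  exact congrArg (fun m => schMap m) e

theorem exists_base : ∃ (U₀ : EtOver X) (_ : p.fiber.obj U₀), IsAffine (sch U₀) := by
  obtain ⟨U, x, -, -⟩ := exists_rep p (0 : OP p)
  obtain ⟨W, w, -, hW, -⟩ := exists_affine_refinement p U x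
  exact ⟨W, w, hW⟩

noncomputable def U₀ : EtOver X := (exists_base p).choose

noncomputable def x₀ : p.fiber.obj (U₀ p) := (exists_base p).choose_spec.choose

instance instIsAffineU₀ : IsAffine (sch (U₀ p)) := (exists_base p).choose_spec.choose_spec

/-- the structure morphism of the geometric point -/
noncomputable def strK : Spec (CommRingCat.of (KK p)) ⟶ S :=
  ξU p (U₀ p) (x₀ p) ≫ (U₀ p).obj.left.hom

theorem ξU_str (W : EtOver X) [IsAffine (sch W)] (w : p.fiber.obj W) :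
    ξU p W w ≫ W.obj.left.hom = strK p := by
  obtain ⟨W₁, w₁, f, g, hf, hg⟩ := exists_common_refinement p W w (U₀ p) (x₀ p)
  obtain ⟨W₂, w₂, k, hW₂, hk⟩ := exists_affine_refinement p W₁ w₁
  haveI := hW₂
  have e1 : p.fiber.map (k ≫ f) w₂ = w := by rw [FunctorToTypes.map_comp_apply, hk, hf]
  have e2 : p.fiber.map (k ≫ g) w₂ = x₀ p := by rw [FunctorToTypes.map_comp_apply, hk, hg]
  have h1 : ξU p W w = ξU p W₂ w₂ ≫ schMap (k ≫ f) := by rw [ξU_map, e1]
  have h2 : ξU p (U₀ p) (x₀ p) = ξU p W₂ w₂ ≫ schMap (k ≫ g) := by rw [ξU_map, e2]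
  have h3 : schMap (k ≫ f) ≫ W.obj.left.hom = W₂.obj.left.hom := sch_w (k ≫ f)
  have h4 : schMap (k ≫ g) ≫ (U₀ p).obj.left.hom = W₂.obj.left.hom := sch_w (k ≫ g)
  unfold strK
  rw [h1, h2, Category.assoc, Category.assoc, h3, h4]

/-- the lift to an affine level as a morphism over the base -/
noncomputable def uU (W : EtOver X) [IsAffine (sch W)] (w : p.fiber.obj W) :
    Over.mk (strK p) ⟶ W.obj.left :=
  Over.homMk (ξU p W w) (ξU_str p W w)

theorem uU_map {U V : EtOver X} [IsAffine (sch U)] [IsAffine (sch V)] (g : U ⟶ V)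
    (x : p.fiber.obj U) : uU p U x ≫ g.hom.left = uU p V (p.fiber.map g x) :=
  Over.OverMorphism.ext (ξU_map p g x)

theorem uU_comp_eq {V W₁ W₂ : EtOver X} [IsAffine (sch W₁)] [IsAffine (sch W₂)]
    (w₁ : p.fiber.obj W₁) (w₂ : p.fiber.obj W₂) (g₁ : W₁ ⟶ V) (g₂ : W₂ ⟶ V)
    (h : p.fiber.map g₁ w₁ = p.fiber.map g₂ w₂) :
    uU p W₁ w₁ ≫ g₁.hom.left = uU p W₂ w₂ ≫ g₂.hom.left :=
  Over.OverMorphism.ext (ξU_comp_eq p w₁ w₂ g₁ g₂ h)

/-- the geometric point attached to the point `p` of the site -/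
noncomputable def gp : FieldPt X where
  K := KK p
  str := strK p
  val := (J S).uliftYonedaEquiv ((yon S).map (uU p (U₀ p) (x₀ p)) ≫ (U₀ p).obj.hom)

theorem gp_toHom :
    (gp p).toHom = (yon S).map (uU p (U₀ p) (x₀ p)) ≫ (U₀ p).obj.hom :=
  Equiv.symm_apply_apply _ _

theorem uU_hom (W : EtOver X) [IsAffine (sch W)] (w : p.fiber.obj W) :
    (yon S).map (uU p W w) ≫ W.obj.hom = (gp p).toHom := by
  obtain ⟨W₁, w₁, f, g, hf, hg⟩ := exists_common_refinement p W w (U₀ p) (x₀ p)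
  obtain ⟨W₂, w₂, k, hW₂, hk⟩ := exists_affine_refinement p W₁ w₁
  haveI := hW₂
  have e1 : p.fiber.map (k ≫ f) w₂ = w := by rw [FunctorToTypes.map_comp_apply, hk, hf]
  have e2 : p.fiber.map (k ≫ g) w₂ = x₀ p := by rw [FunctorToTypes.map_comp_apply, hk, hg]
  have h1 : uU p W w = uU p W₂ w₂ ≫ (k ≫ f).hom.left := by rw [uU_map, e1]
  have h2 : uU p (U₀ p) (x₀ p) = uU p W₂ w₂ ≫ (k ≫ g).hom.left := by rw [uU_map, e2]
  rw [gp_toHom, h1, h2, Functor.map_comp, Functor.map_comp, Category.assoc, Category.assoc,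
    EtOver.w, EtOver.w]

/-- the lift of the geometric point defined by an affine level -/
noncomputable def lU (W : EtOver X) [IsAffine (sch W)] (w : p.fiber.obj W) :
    (FieldPt.liftsTo (gp p)).obj W :=
  ⟨uU p W w, uU_hom p W w⟩

section
variable (V : EtOver X) (y : p.fiber.obj V)

noncomputable def rfW : EtOver X := (exists_affine_refinement p V y).choose

noncomputable def rfw : p.fiber.obj (rfW p V y) :=
  (exists_affine_refinement p V y).choose_spec.choose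

noncomputable def rfg : rfW p V y ⟶ V :=
  (exists_affine_refinement p V y).choose_spec.choose_spec.choose

instance instIsAffineRfW : IsAffine (sch (rfW p V y)) :=
  (exists_affine_refinement p V y).choose_spec.choose_spec.choose_spec.1

theorem rfg_map : p.fiber.map (rfg p V y) (rfw p V y) = y :=
  (exists_affine_refinement p V y).choose_spec.choose_spec.choose_spec.2

end

/-- the comparison map from the fibre of `p` to the lifts of the geometric point -/
noncomputable def τfun (V : EtOver X) (y : p.fiber.obj V) : (FieldPt.liftsTo (gp p)).obj V :=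
  (FieldPt.liftsTo (gp p)).map (rfg p V y) (lU p (rfW p V y) (rfw p V y))

theorem val_τfun (V : EtOver X) (y : p.fiber.obj V) (W : EtOver X) [IsAffine (sch W)]
    (w : p.fiber.obj W) (g : W ⟶ V) (hg : p.fiber.map g w = y) :
    (τfun p V y).1 = uU p W w ≫ g.hom.left := by
  show uU p (rfW p V y) (rfw p V y) ≫ (rfg p V y).hom.left = _
  exact uU_comp_eq p _ _ _ _ ((rfg_map p V y).trans hg.symm)

theorem τfun_natural {V V' : EtOver X} (k : V ⟶ V') (y : p.fiber.obj V) :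
    τfun p V' (p.fiber.map k y) = (FieldPt.liftsTo (gp p)).map k (τfun p V y) := by
  apply Subtype.ext
  rw [val_τfun p V' _ (rfW p V y) (rfw p V y) (rfg p V y ≫ k)
    (by rw [FunctorToTypes.map_comp_apply, rfg_map]), FieldPt.liftsTo_map_coe,
    val_τfun p V y (rfW p V y) (rfw p V y) (rfg p V y) (rfg_map p V y), Category.assoc]
  rfl

theorem τfun_injective (V : EtOver X) : Function.Injective (τfun p V) := by
  intro y₁ y₂ hy
  obtain ⟨W₀, w₀, g₁, g₂, hg₁, hg₂⟩ := exists_common_refinement p V y₁ V y₂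
  obtain ⟨W, w, r, hW, hr⟩ := exists_affine_refinement p W₀ w₀
  haveI := hW
  have e₁ : p.fiber.map (r ≫ g₁) w = y₁ := by rw [FunctorToTypes.map_comp_apply, hr, hg₁]
  have e₂ : p.fiber.map (r ≫ g₂) w = y₂ := by rw [FunctorToTypes.map_comp_apply, hr, hg₂]
  have hη : uU p W w ≫ (r ≫ g₁).hom.left = uU p W w ≫ (r ≫ g₂).hom.left := by
    rw [← val_τfun p V y₁ W w (r ≫ g₁) e₁, ← val_τfun p V y₂ W w (r ≫ g₂) e₂, hy]
  -- the product and the diagonal
  let pr₁ := EtOver.prodFst V V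
  let pr₂ := EtOver.prodSnd V V
  let δ : V ⟶ EtOver.prodObj V V := (EtOver.prodIsLimit V V).lift (BinaryFan.mk (𝟙 V) (𝟙 V))
  have hδ1 : δ ≫ pr₁ = 𝟙 V := (EtOver.prodIsLimit V V).fac (BinaryFan.mk (𝟙 V) (𝟙 V))
    ⟨WalkingPair.left⟩
  have hδ2 : δ ≫ pr₂ = 𝟙 V := (EtOver.prodIsLimit V V).fac (BinaryFan.mk (𝟙 V) (𝟙 V))
    ⟨WalkingPair.right⟩
  let G : W ⟶ EtOver.prodObj V V :=
    (EtOver.prodIsLimit V V).lift (BinaryFan.mk (r ≫ g₁) (r ≫ g₂))
  have hG1 : G ≫ pr₁ = r ≫ g₁ := (EtOver.prodIsLimit V V).fac (BinaryFan.mk (r ≫ g₁) (r ≫ g₂))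
    ⟨WalkingPair.left⟩
  have hG2 : G ≫ pr₂ = r ≫ g₂ := (EtOver.prodIsLimit V V).fac (BinaryFan.mk (r ≫ g₁) (r ≫ g₂))
    ⟨WalkingPair.right⟩
  have sδ1 : schMap δ ≫ schMap pr₁ = 𝟙 (sch V) := congrArg (fun m => schMap m) hδ1
  have sδ2 : schMap δ ≫ schMap pr₂ = 𝟙 (sch V) := congrArg (fun m => schMap m) hδ2
  have sG1 : schMap G ≫ schMap pr₁ = schMap (r ≫ g₁) := congrArg (fun m => schMap m) hG1
  have sG2 : schMap G ≫ schMap pr₂ = schMap (r ≫ g₂) := congrArg (fun m => schMap m) hG2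
  haveI : Etale (schMap pr₁) := EtOver.etale_left pr₁
  haveI : IsOpenImmersion (schMap δ) := isOpenImmersion_of_section (schMap δ) (schMap pr₁) sδ1
  let O : (sch W).Opens := (schMap G) ⁻¹ᵁ (schMap δ).opensRange
  have hO : (ξU p W w) default ∈ O := by
    have h1 : uU p W w ≫ G.hom.left = (uU p W w ≫ (r ≫ g₁).hom.left) ≫ δ.hom.left := by
      apply Functor.relativelyRepresentable.hom_ext' V.property.1
      · show (uU p W w ≫ G.hom.left) ≫ pr₂.hom.left =
          ((uU p W w ≫ (r ≫ g₁).hom.left) ≫ δ.hom.left) ≫ pr₂.hom.left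
        have a1 : G.hom.left ≫ pr₂.hom.left = (r ≫ g₂).hom.left :=
          congrArg (fun m => m.hom.left) hG2
        have a2 : δ.hom.left ≫ pr₂.hom.left = 𝟙 _ := congrArg (fun m => m.hom.left) hδ2
        rw [Category.assoc, a1, Category.assoc, a2]
        exact hη.symm.trans (Category.comp_id _).symm
      · show (uU p W w ≫ G.hom.left) ≫ pr₁.hom.left =
          ((uU p W w ≫ (r ≫ g₁).hom.left) ≫ δ.hom.left) ≫ pr₁.hom.left
        have a1 : G.hom.left ≫ pr₁.hom.left = (r ≫ g₁).hom.left :=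
          congrArg (fun m => m.hom.left) hG1
        have a2 : δ.hom.left ≫ pr₁.hom.left = 𝟙 _ := congrArg (fun m => m.hom.left) hδ1
        rw [Category.assoc, a1, Category.assoc, a2]
        exact (Category.comp_id _).symm
    have h2 : ξU p W w ≫ schMap G = (ξU p W w ≫ schMap (r ≫ g₁)) ≫ schMap δ :=
      congrArg (fun m => m.left) h1
    show (schMap G) ((ξU p W w) default) ∈ Set.range (schMap δ)
    refine ⟨(ξU p W w ≫ schMap (r ≫ g₁)) default, ?_⟩
    exact congrArg (fun m : Spec (CommRingCat.of (KK p)) ⟶ sch (EtOver.prodObj V V) => m default)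
      h2.symm
  obtain ⟨s, hsO, hs⟩ := (isAffineOpen_top (sch W)).exists_basicOpen_le (V := O)
    ⟨(ξU p W w) default, hO⟩ trivial
  have hu : IsUnit ((ρ p W w).hom s) := isUnit_ρ_of_mem_basicOpen p W w s hs
  obtain ⟨w', hw'⟩ := exists_lift_basicOpen_of_isUnit_ρ p W w s hu
  have hj : mkOverHom W ((sch W).basicOpen s).ι ≫ (r ≫ g₁) =
      mkOverHom W ((sch W).basicOpen s).ι ≫ (r ≫ g₂) := by
    apply EtOver.hom_ext
    apply Over.OverMorphism.ext
    show ((sch W).basicOpen s).ι ≫ schMap (r ≫ g₁) = ((sch W).basicOpen s).ι ≫ schMap (r ≫ g₂)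
    have hrange : Set.range (((sch W).basicOpen s).ι ≫ schMap G) ⊆ Set.range (schMap δ) := by
      rintro _ ⟨z, rfl⟩
      have hz : ((sch W).basicOpen s).ι z ∈ Set.range ((sch W).basicOpen s).ι := ⟨z, rfl⟩
      rw [Scheme.Opens.range_ι] at hz
      exact hsO hz
    obtain ⟨L, hL⟩ : ∃ L : ((sch W).basicOpen s).toScheme ⟶ sch V,
        L ≫ schMap δ = ((sch W).basicOpen s).ι ≫ schMap G :=
      ⟨_, IsOpenImmersion.lift_fac _ _ hrange⟩
    have h1 : L = ((sch W).basicOpen s).ι ≫ schMap (r ≫ g₁) :=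
      calc L = L ≫ (schMap δ ≫ schMap pr₁) := by
              rw [sδ1]
              exact (Category.comp_id _).symm
        _ = (L ≫ schMap δ) ≫ schMap pr₁ := (Category.assoc _ _ _).symm
        _ = (((sch W).basicOpen s).ι ≫ schMap G) ≫ schMap pr₁ := by rw [hL]
        _ = ((sch W).basicOpen s).ι ≫ (schMap G ≫ schMap pr₁) := Category.assoc _ _ _
        _ = ((sch W).basicOpen s).ι ≫ schMap (r ≫ g₁) := by rw [sG1]
    have h2 : L = ((sch W).basicOpen s).ι ≫ schMap (r ≫ g₂) :=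
      calc L = L ≫ (schMap δ ≫ schMap pr₂) := by
              rw [sδ2]
              exact (Category.comp_id _).symm
        _ = (L ≫ schMap δ) ≫ schMap pr₂ := (Category.assoc _ _ _).symm
        _ = (((sch W).basicOpen s).ι ≫ schMap G) ≫ schMap pr₂ := by rw [hL]
        _ = ((sch W).basicOpen s).ι ≫ (schMap G ≫ schMap pr₂) := Category.assoc _ _ _
        _ = ((sch W).basicOpen s).ι ≫ schMap (r ≫ g₂) := by rw [sG2]
    rw [← h1, ← h2]
  calc y₁ = p.fiber.map (r ≫ g₁) w := e₁.symm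
    _ = p.fiber.map (r ≫ g₁) (p.fiber.map (mkOverHom W ((sch W).basicOpen s).ι) w') := by
        rw [hw']
    _ = p.fiber.map (mkOverHom W ((sch W).basicOpen s).ι ≫ (r ≫ g₁)) w' :=
        (FunctorToTypes.map_comp_apply _ _ _ _).symm
    _ = p.fiber.map (mkOverHom W ((sch W).basicOpen s).ι ≫ (r ≫ g₂)) w' := by rw [hj]
    _ = p.fiber.map (r ≫ g₂) (p.fiber.map (mkOverHom W ((sch W).basicOpen s).ι) w') :=
        FunctorToTypes.map_comp_apply _ _ _ _
    _ = p.fiber.map (r ≫ g₂) w := by rw [hw']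
    _ = y₂ := e₂

theorem τfun_surjective (V : EtOver X) : Function.Surjective (τfun p V) := by
  intro η
  -- the product with the base level and the point of it
  let prV := EtOver.prodFst V (U₀ p)
  let prU := EtOver.prodSnd V (U₀ p)
  let ζ' : Over.mk (strK p) ⟶ (EtOver.prodObj V (U₀ p)).obj.left :=
    (U₀ p).property.1.lift' (uU p (U₀ p) (x₀ p)) η.1 (by rw [η.2, gp_toHom])
  have hζ1 : ζ' ≫ prU.hom.left = uU p (U₀ p) (x₀ p) :=
    Functor.relativelyRepresentable.lift'_fst _ _ _ _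
  have hζ2 : ζ' ≫ prV.hom.left = η.1 := Functor.relativelyRepresentable.lift'_snd _ _ _ _
  let ζ : Spec (CommRingCat.of (KK p)) ⟶ sch (EtOver.prodObj V (U₀ p)) := ζ'.left
  have sζ1 : ζ ≫ schMap prU = ξU p (U₀ p) (x₀ p) := congrArg (fun m => m.left) hζ1
  obtain ⟨R', j, hj, hmem, -⟩ := Scheme.exists_affine_mem_range_and_range_subset
    (x := ζ default) (U := ⊤) (by trivial)
  have hrange : Set.range ζ ⊆ Set.range j := by
    rintro _ ⟨a, rfl⟩
    rwa [Subsingleton.elim a default]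
  let l : Spec (CommRingCat.of (KK p)) ⟶ Spec R' := IsOpenImmersion.lift j ζ hrange
  have hl : l ≫ j = ζ := IsOpenImmersion.lift_fac _ _ _
  haveI : Etale (schMap prU) := EtOver.etale_left prU
  let pr : Spec R' ⟶ sch (U₀ p) := j ≫ schMap prU
  let φ : Γ(sch (U₀ p), ⊤) ⟶ R' := pr.appTop ≫ (Scheme.ΓSpecIso R').hom
  have hφ : Spec.map φ ≫ (sch (U₀ p)).isoSpec.inv = pr := spec_ev_eq pr
  have hφet : φ.hom.Etale := by
    have h1 : Etale (Spec.map φ) := by
      have h2 : Spec.map φ = pr ≫ (sch (U₀ p)).isoSpec.hom := by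
        rw [← hφ, Category.assoc, Iso.inv_hom_id, Category.comp_id]
      rw [h2]
      infer_instance
    exact (HasRingHomProperty.Spec_iff (P := @Etale)).1 h1
  let lam : R' ⟶ CommRingCat.of (KK p) := Spec.preimage l
  have hlam : Spec.map lam = l := Spec.map_preimage l
  have hφlam : φ ≫ lam = ρk p (U₀ p) (x₀ p) := by
    apply Spec.map_injective
    rw [Spec.map_comp, hlam]
    have h1 : l ≫ pr = Spec.map (ρk p (U₀ p) (x₀ p)) ≫ (sch (U₀ p)).isoSpec.inv := by
      show l ≫ j ≫ schMap prU = ξU p (U₀ p) (x₀ p)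
      rw [← Category.assoc, hl]
      exact sζ1
    rw [← hφ, ← Category.assoc] at h1
    exact (cancel_mono _).1 h1
  letI algR : Algebra Γ(sch (U₀ p), ⊤) R' := φ.hom.toAlgebra
  letI algΩ : Algebra Γ(sch (U₀ p), ⊤) (KK p) := (ρk p (U₀ p) (x₀ p)).hom.toAlgebra
  haveI : Algebra.Etale Γ(sch (U₀ p), ⊤) R' := hφet
  let lamA : R' →ₐ[Γ(sch (U₀ p), ⊤)] KK p :=
    { lam.hom with commutes' := fun a => congrArg (fun m => m.hom a) hφlam }
  obtain ⟨P, π, θ, hθ⟩ := exists_standard_factor lamA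
  -- the image of `X` in `K` comes from the separably closed residue field
  have e0 : Polynomial.eval₂ (ρk p (U₀ p) (x₀ p)).hom (θ P.X) P.f = 0 := by
    have h1 := (P.hasMap_X.map θ).1
    rw [Polynomial.aeval_def] at h1
    exact h1
  have e1 : Polynomial.eval₂ (ρk p (U₀ p) (x₀ p)).hom (θ P.X) (Polynomial.derivative P.f)
      ≠ 0 := by
    have h1 := (P.hasMap_X.map θ).isUnit_derivative_f
    rw [Polynomial.aeval_def] at h1
    exact h1.ne_zero
  have e2 : Polynomial.eval₂ (ρk p (U₀ p) (x₀ p)).hom (θ P.X) P.g ≠ 0 := by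
    have h1 := (P.hasMap_X.map θ).2
    rw [Polynomial.aeval_def] at h1
    exact h1.ne_zero
  let ψΩ : Γ(sch (U₀ p), ⊤) →+* Om p :=
    (IsLocalRing.residue (OP p)).comp (ρ p (U₀ p) (x₀ p)).hom
  have hψ : (algebraMap (Om p) (KK p)).comp ψΩ = (ρk p (U₀ p) (x₀ p)).hom := rfl
  obtain ⟨ω₀', hω₀'⟩ : ∃ ω₀' : Om p, algebraMap (Om p) (KK p) ω₀' = θ P.X := by
    have h1 := mem_range_of_simple_root (Ω := Om p) (K := KK p) (P.f.map ψΩ)
      (P.monic_f.map ψΩ) (θ P.X) (by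
        rw [Polynomial.aeval_def, Polynomial.eval₂_map, hψ]
        exact e0) (by
        rw [Polynomial.derivative_map, Polynomial.aeval_def, Polynomial.eval₂_map, hψ]
        exact e1)
    exact RingHom.mem_range.1 h1
  have hinjK : Function.Injective (algebraMap (Om p) (KK p)) := (algebraMap (Om p) (KK p)).injective
  obtain ⟨a, ha0, ha1, hra⟩ := hensel_lift (ρ p (U₀ p) (x₀ p)).hom P.f P.g P.monic_f P.cond
    ω₀' (by
      apply hinjK
      rw [Polynomial.hom_eval₂, hω₀', map_zero, hψ]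
      exact e0) (by
      intro h1
      apply e2
      have h2 := congrArg (algebraMap (Om p) (KK p)) h1
      rw [Polynomial.hom_eval₂, hω₀', map_zero, hψ] at h2
      exact h2)
  obtain ⟨U₁, x₁, h, b, hU₁, hx₁, hb, hb0, hb1⟩ :=
    exists_level_root p (U₀ p) (x₀ p) P.f P.g a ha0 ha1
  haveI := hU₁
  letI algA₁ : Algebra Γ(sch (U₀ p), ⊤) Γ(sch U₁, ⊤) := (schMap h).appTop.hom.toAlgebra
  have hmap : P.HasMap b := by
    refine ⟨?_, ?_⟩
    · show Polynomial.aeval b P.f = 0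
      rw [Polynomial.aeval_def]
      exact hb0
    · show IsUnit (Polynomial.aeval b P.g)
      rw [Polynomial.aeval_def]
      exact hb1
  let μ : P.Ring →ₐ[Γ(sch (U₀ p), ⊤)] Γ(sch U₁, ⊤) := P.lift b hmap
  have hμX : μ P.X = b := P.lift_X b hmap
  let ν : R' →ₐ[Γ(sch (U₀ p), ⊤)] Γ(sch U₁, ⊤) := μ.comp π
  let ν' : R' ⟶ Γ(sch U₁, ⊤) := CommRingCat.ofHom ν.toRingHom
  have hφν : φ ≫ ν' = (schMap h).appTop := by
    apply CommRingCat.hom_ext
    apply RingHom.ext
    intro t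
    exact ν.commutes t
  have hρk : (schMap h).appTop ≫ ρk p U₁ x₁ = ρk p (U₀ p) (x₀ p) := by
    have e := ρk_map p h x₁
    rw [hx₁] at e
    exact e
  let ρA : Γ(sch U₁, ⊤) →ₐ[Γ(sch (U₀ p), ⊤)] KK p :=
    { (ρk p U₁ x₁).hom with commutes' := fun t => congrArg (fun m => m.hom t) hρk }
  have hθ₁ : ρA.comp μ = θ := by
    apply StandardEtalePair.hom_ext
    show (ρk p U₁ x₁).hom (μ P.X) = θ P.X
    rw [hμX, ρk_apply, hb, hra, hω₀']
  have hνlam : ν' ≫ ρk p U₁ x₁ = lam := by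
    apply CommRingCat.hom_ext
    apply RingHom.ext
    intro t
    show (ρA.comp μ) (π t) = lam.hom t
    rw [hθ₁]
    exact congrArg (fun m => m t) hθ
  let m : sch U₁ ⟶ sch (EtOver.prodObj V (U₀ p)) := (sch U₁).isoSpec.hom ≫ Spec.map ν' ≫ j
  have h1 : Spec.map ν' ≫ j ≫ schMap prU = (sch U₁).isoSpec.inv ≫ schMap h := by
    show Spec.map ν' ≫ pr = _
    rw [← hφ, ← Category.assoc, ← Spec.map_comp, hφν, Scheme.isoSpec_inv_naturality]
  have hm : m ≫ schMap prU = schMap h := by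
    show ((sch U₁).isoSpec.hom ≫ Spec.map ν' ≫ j) ≫ schMap prU = schMap h
    rw [Category.assoc, Category.assoc, h1, Iso.hom_inv_id_assoc]
  -- `m` as a morphism over the base and in the site
  have hmS : m ≫ (EtOver.prodObj V (U₀ p)).obj.left.hom = U₁.obj.left.hom := by
    rw [← sch_w prU, ← Category.assoc, hm]
    exact sch_w h
  let mO : U₁.obj.left ⟶ (EtOver.prodObj V (U₀ p)).obj.left := Over.homMk m hmS
  have hmO : mO ≫ prU.hom.left = h.hom.left := Over.OverMorphism.ext hm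
  let mZ : U₁ ⟶ EtOver.prodObj V (U₀ p) := EtOver.homMk mO (by
    rw [← EtOver.w prU, ← Category.assoc, ← Functor.map_comp, hmO]
    exact EtOver.w h)
  let kk : U₁ ⟶ V := mZ ≫ prV
  refine ⟨p.fiber.map kk x₁, ?_⟩
  apply Subtype.ext
  rw [val_τfun p V _ U₁ x₁ kk rfl]
  show uU p U₁ x₁ ≫ mO ≫ prV.hom.left = η.1
  have h2 : uU p U₁ x₁ ≫ mO = ζ' := by
    apply Over.OverMorphism.ext
    show (Spec.map (ρk p U₁ x₁) ≫ (sch U₁).isoSpec.inv) ≫
      (sch U₁).isoSpec.hom ≫ Spec.map ν' ≫ j = ζ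
    rw [Category.assoc, Iso.inv_hom_id_assoc, ← Category.assoc, ← Spec.map_comp, hνlam, hlam, hl]
  rw [← Category.assoc, h2]
  exact hζ2

theorem nonempty_fiber_iso : Nonempty (p.fiber ≅ FieldPt.liftsTo (gp p)) :=
  ⟨NatIso.ofComponents
    (fun V => (Equiv.ofBijective (τfun p V) ⟨τfun_injective p V, τfun_surjective p V⟩).toIso)
    (fun {V V'} k => by
      ext y
      exact τfun_natural p k y)⟩

theorem main10229 {S : Scheme.{u}} (X : AlgSp.Space S)
    (P : GrothendieckTopology.Point.{u} (AlgSp.etTop X.obj)) :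
    ∃ p : AlgSp.FieldPt X.obj, p.IsGeometric ∧
      Nonempty (P.sheafFiber (A := Type (u + 1)) ≅ AlgSp.stalkEtFunctor (Type (u + 1)) p) := by
  refine ⟨gp P, ?_, ?_⟩
  · show IsAlgClosed (KK P)
    infer_instance
  · obtain ⟨e⟩ := nonempty_fiber_iso P
    obtain ⟨i⟩ := nonempty_colim_iso (A := Type (u + 1)) e
    exact ⟨Functor.isoWhiskerLeft (sheafToPresheaf _ _) i⟩

end Groth.Agent.Helper1.EQ
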