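import Mathlib
import Groth.Prelude.Def_EtShriek2
import Groth.Prelude.Def_EtCore
import Groth.Agent.Lib.Helper1.ES9

/-!
# Sections with compact support via a compactification (helper1, ES10): S0687
-/

set_option autoImplicit false
set_option linter.unusedSectionVars false
set_option linter.style.haveILetI false

open CategoryTheory CategoryTheory.Limits AlgebraicGeometry Opposite

namespace Groth.Agent.Helper1.ES

universe u

open Groth.Agent.Helper1.SHC Groth.Agent.Helper1.OI

theorem mem_H0c_iff {k : Type u} [Field k] {X : Scheme.{u}} (p : X ⟶ Spec (CommRingCat.of k))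
    [LocallyOfFiniteType p] (F : EtCoh.Ab X) (s : EtCoh.sect F (EtCoh.top X)) :
    s ∈ EtShriek.H0c p F ↔ ClSub.IsProperOver p (EtShriek.sectSupp F (EtCoh.top X) s) := by
  constructor
  · intro h
    refine AddSubgroup.closure_induction
      (p := fun s _ => ClSub.IsProperOver p (EtShriek.sectSupp F (EtCoh.top X) s)) ?_ ?_ ?_ ?_ h
    · rintro x ⟨Z, hZ, hp⟩
      exact isProperOver_mono _ (isClosed_sectSupp F _ x) hZ hp
    · rw [sectSupp_zero]
      exact isProperOver_empty _
    · intro x y _ _ hx hy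
      exact isProperOver_mono _ (isClosed_sectSupp F _ _) (sectSupp_add_subset F _ x y)
        (isProperOver_union _ hx hy)
    · intro x _ hx
      rw [sectSupp_neg]
      exact hx
  · intro h
    exact AddSubgroup.subset_closure ⟨_, le_rfl, h⟩

theorem isProperOver_comp_proper_iff {P B C : Scheme.{u}} (p : P ⟶ B) (q : B ⟶ C) [IsProper q]
    (A : Set P) : ClSub.IsProperOver (p ≫ q) A ↔ ClSub.IsProperOver p A := by
  constructor
  · exact isProperOver_of_comp p q
  · rintro ⟨hc, hp⟩
    refine ⟨hc, ?_⟩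
    rw [← Category.assoc]
    haveI := hp
    infer_instance

theorem main0687 {k : Type u} [Field k] {X Xb : Scheme.{u}} (j : X ⟶ Xb)
    [IsOpenImmersion j] (pb : Xb ⟶ Spec (CommRingCat.of k)) [IsProper pb]
    (p : X ⟶ Spec (CommRingCat.of k)) (hp : p = j ≫ pb) [IsSeparated p] [LocallyOfFiniteType p]
    [EtShriek.JCont j] (F : EtCoh.Ab X) :
    Nonempty ((EtShriek.H0c p F) ≃+ EtCoh.sect ((EtShriek.extZero j).obj F) (EtCoh.top Xb)) := by
  subst hp
  let hT : IsTerminal ((EtCoh.bc j).obj (EtCoh.top Xb)) :=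
    IsTerminal.isTerminalObj (EtCoh.bc j) _ (EtCore.topIsTerminal Xb)
  let e₀ : EtCoh.top X ≅ (EtCoh.bc j).obj (EtCoh.top Xb) :=
    (EtCore.topIsTerminal X).uniqueUpToIso hT
  let c : X ≅ ((EtCoh.bc j).obj (EtCoh.top Xb)).left :=
    { hom := e₀.hom.left
      inv := e₀.inv.left
      hom_inv_id := congrArg (fun m => m.left) e₀.hom_inv_id
      inv_hom_id := congrArg (fun m => m.left) e₀.inv_hom_id }
  have hc : c.hom ≫ EtShriek.prV j (EtCoh.top Xb) = j := by
    have h1 : e₀.hom.left ≫ pullback.snd (𝟙 Xb) j = 𝟙 X := Over.w e₀.hom.hom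
    have h2 : pullback.fst (𝟙 Xb) j = pullback.snd (𝟙 Xb) j ≫ j := by
      have := pullback.condition (f := 𝟙 Xb) (g := j)
      rwa [Category.comp_id] at this
    change e₀.hom.left ≫ pullback.fst (𝟙 Xb) j = j
    rw [h2]
    exact (Category.assoc _ _ _).symm.trans
      ((congrArg (fun m => m ≫ j) h1).trans (Category.id_comp j))
  have key : ∀ t : EtCoh.sect F ((EtCoh.bc j).obj (EtCoh.top Xb)),
      t ∈ EtShriek.shriekSubgroup j F (EtCoh.top Xb) ↔
        F.obj.map e₀.hom.op t ∈ EtShriek.H0c (j ≫ pb) F := by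
    intro t
    rw [mem_shriekSubgroup_iff', mem_H0c_iff, isProperOver_comp_proper_iff, sectSupp_map]
    exact (isProperOver_iso_iff c (EtShriek.prV j (EtCoh.top Xb)) j hc _).symm
  have e1 : ∀ s : EtCoh.sect F (EtCoh.top X), F.obj.map e₀.hom.op (F.obj.map e₀.inv.op s) = s := by
    intro s
    rw [← ConcreteCategory.comp_apply, ← F.obj.map_comp, ← op_comp, Iso.hom_inv_id, op_id,
      F.obj.map_id]
    rfl
  have e2 : ∀ t : EtCoh.sect F ((EtCoh.bc j).obj (EtCoh.top Xb)),
      F.obj.map e₀.inv.op (F.obj.map e₀.hom.op t) = t := by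
    intro t
    rw [← ConcreteCategory.comp_apply, ← F.obj.map_comp, ← op_comp, Iso.inv_hom_id, op_id,
      F.obj.map_id]
    rfl
  let E1 : (EtShriek.H0c (j ≫ pb) F) ≃+ ↥(EtShriek.shriekSubgroup j F (EtCoh.top Xb)) :=
    { toFun := fun s => ⟨F.obj.map e₀.inv.op s.1, (key _).2 (by rw [e1]; exact s.2)⟩
      invFun := fun t => ⟨F.obj.map e₀.hom.op t.1, (key _).1 t.2⟩
      left_inv := fun s => Subtype.ext (e1 s.1)
      right_inv := fun t => Subtype.ext (e2 t.1)
      map_add' := fun a b => Subtype.ext (map_add _ _ _) }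
  let E2 : EtCoh.sect ((shriekSheaf j).obj F) (EtCoh.top Xb) ≃+
      EtCoh.sect ((EtShriek.extZero j).obj F) (EtCoh.top Xb) :=
    (((sheafToPresheaf Xb.smallEtaleTopology AddCommGrpCat.{u + 1}).mapIso
      ((extZeroIso j).symm.app F)).app (op (EtCoh.top Xb))).addCommGroupIsoToAddEquiv
  exact ⟨E1.trans E2⟩

end Groth.Agent.Helper1.ES
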