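import Mathlib
import Groth.Prelude.Def_EGA4b

/-!
# (Strict) equidimensionality: invariance under isomorphism and passage to `T'/PT'`
for a prime `P` minimal over `I`, along a flat map `T → T'`
-/

set_option autoImplicit false

namespace Groth.Agent.Helper1.FC

open EGA4 TensorProduct

universe u

theorem ringKrullDim_quotient_comap {X Y : Type*} [CommRing X] [CommRing Y] (f : X →+* Y)
    (hf : Function.Surjective f) (J : Ideal Y) :
    ringKrullDim (X ⧸ J.comap f) = ringKrullDim (Y ⧸ J) := by
  have hf' : Function.Surjective ((Ideal.Quotient.mk J).comp f) :=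
    Ideal.Quotient.mk_surjective.comp hf
  have hk : RingHom.ker ((Ideal.Quotient.mk J).comp f) = J.comap f := by
    rw [RingHom.ker_eq_comap_bot, ← Ideal.comap_comap, ← RingHom.ker_eq_comap_bot, Ideal.mk_ker]
  exact ringKrullDim_eq_of_ringEquiv
    ((Ideal.quotEquivOfEq hk.symm).trans (RingHom.quotientKerEquivOfSurjective hf'))

theorem isEquidim_of_ringEquiv {X Y : Type u} [CommRing X] [CommRing Y] (e : X ≃+* Y)
    (h : IsEquidim X) : IsEquidim Y := by
  intro q hq
  have h1 : q.comap (e : X →+* Y) ∈ minimalPrimes X := by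
    have := Ideal.minimalPrimes_comap_of_surjective (f := (e : X →+* Y)) e.surjective
      (I := ⊥) hq
    rwa [Ideal.comap_bot_of_injective (e : X →+* Y) e.injective] at this
  have h2 := h _ h1
  rw [ringKrullDim_quotient_comap (e : X →+* Y) e.surjective q,
    ringKrullDim_eq_of_ringEquiv e] at h2
  exact h2

theorem isStrictlyEquidim_of_ringEquiv {X Y : Type u} [CommRing X] [CommRing Y] (e : X ≃+* Y)
    (h : IsStrictlyEquidim X) : IsStrictlyEquidim Y := by
  intro q hq
  have h1 : q.comap (e : X →+* Y) ∈ associatedPrimes X X := by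
    obtain ⟨hqp, y, hy⟩ := hq
    haveI := hqp
    refine ⟨Ideal.comap_isPrime _ _, e.symm y, ?_⟩
    ext a
    rw [Ideal.mem_comap, hy, Ideal.mem_radical_iff, Ideal.mem_radical_iff]
    refine exists_congr fun n => ?_
    rw [Submodule.mem_colon_singleton, Submodule.mem_colon_singleton, Submodule.mem_bot,
      Submodule.mem_bot, smul_eq_mul, smul_eq_mul]
    constructor
    · intro h
      have := congrArg e.symm h
      simpa using this
    · intro h
      have := congrArg e h
      simpa using this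
  have h2 := h _ h1
  rw [ringKrullDim_quotient_comap (e : X →+* Y) e.surjective q,
    ringKrullDim_eq_of_ringEquiv e] at h2
  exact h2

section Core

variable {T T' : Type u} [CommRing T] [CommRing T'] [Algebra T T'] [Module.Flat T T']

/-- Lemma A -/
theorem isEquidim_quotient_map_of_mem_minimalPrimes (I P : Ideal T) (hP : P ∈ I.minimalPrimes)
    (h : IsEquidim (T' ⧸ I.map (algebraMap T T'))) :
    IsEquidim (T' ⧸ P.map (algebraMap T T')) := by
  haveI hPp : P.IsPrime := hP.1.1
  have hIP : I ≤ P := hP.1.2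
  have hle : I.map (algebraMap T T') ≤ P.map (algebraMap T T') := Ideal.map_mono hIP
  intro Qb hQb
  obtain ⟨Q, hQ⟩ : ∃ Q, Q = Qb.comap (Ideal.Quotient.mk (P.map (algebraMap T T'))) := ⟨_, rfl⟩
  have hQmin : Q ∈ (P.map (algebraMap T T')).minimalPrimes := by
    have := Ideal.minimalPrimes_comap_of_surjective
      (f := Ideal.Quotient.mk (P.map (algebraMap T T'))) Ideal.Quotient.mk_surjective
      (I := ⊥) hQb
    rwa [← RingHom.ker_eq_comap_bot, Ideal.mk_ker, ← hQ] at this
  haveI hQp : Q.IsPrime := hQmin.1.1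
  have hPQ : P.map (algebraMap T T') ≤ Q := hQmin.1.2
  have hQT : Q.comap (algebraMap T T') = P := by
    have hle' : P ≤ Q.under T := Ideal.map_le_iff_le_comap.mp hPQ
    obtain ⟨Q', hQ'le, hQ'p, hQ'o⟩ :=
      Ideal.exists_ideal_le_liesOver_of_le (p := P) (q := Q.under T) Q hle'
    have hQ'comap : Q'.comap (algebraMap T T') = P := hQ'o.over.symm
    have h1 : P.map (algebraMap T T') ≤ Q' := by rw [Ideal.map_le_iff_le_comap, hQ'comap]
    have h2 : Q ≤ Q' := hQmin.2 ⟨hQ'p, h1⟩ hQ'le
    have h3 : Q' = Q := le_antisymm hQ'le h2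
    rw [← h3]
    exact hQ'comap
  have hQminI : Q ∈ (I.map (algebraMap T T')).minimalPrimes := by
    refine ⟨⟨hQp, hle.trans hPQ⟩, ?_⟩
    rintro Q₁ ⟨hQ₁p, hQ₁I⟩ hQ₁Q
    haveI := hQ₁p
    have h1 : I ≤ Q₁.comap (algebraMap T T') := Ideal.map_le_iff_le_comap.mp hQ₁I
    have h2 : Q₁.comap (algebraMap T T') ≤ P := by
      rw [← hQT]
      exact Ideal.comap_mono hQ₁Q
    have h3 : P ≤ Q₁.comap (algebraMap T T') := hP.2 ⟨Ideal.comap_isPrime _ _, h1⟩ h2
    have h4 : P.map (algebraMap T T') ≤ Q₁ := Ideal.map_le_iff_le_comap.mpr h3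
    exact hQmin.2 ⟨hQ₁p, h4⟩ hQ₁Q
  have hQminI' : Q ∈ (Ideal.comap (Ideal.Quotient.mk (I.map (algebraMap T T')))
      ⊥).minimalPrimes := by
    rwa [← RingHom.ker_eq_comap_bot, Ideal.mk_ker]
  rw [Ideal.comap_minimalPrimes_eq_of_surjective Ideal.Quotient.mk_surjective] at hQminI'
  obtain ⟨Qt, hQt, hQtQ⟩ := hQminI'
  have h1 := h Qt hQt
  have h2 := ringKrullDim_quotient_comap (Ideal.Quotient.mk (I.map (algebraMap T T')))
    Ideal.Quotient.mk_surjective Qt
  have h3 := ringKrullDim_quotient_comap (Ideal.Quotient.mk (P.map (algebraMap T T')))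
    Ideal.Quotient.mk_surjective Qb
  rw [hQtQ] at h2
  rw [← hQ] at h3
  have h4 : ringKrullDim ((T' ⧸ P.map (algebraMap T T')) ⧸ Qb) =
      ringKrullDim (T' ⧸ I.map (algebraMap T T')) := by rw [← h3, h2, h1]
  refine le_antisymm (ringKrullDim_quotient_le Qb) ?_
  rw [h4]
  exact ringKrullDim_le_of_surjective (Ideal.Quotient.factor hle)
    (Ideal.Quotient.factor_surjective hle)

/-- colon ideals by one element commute with flat base change -/
theorem mem_map_of_mul_mem_map (I P : Ideal T) (x : T) (hx : ∀ t, t ∈ P ↔ t * x ∈ I) (t' : T')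
    (h : algebraMap T T' x * t' ∈ I.map (algebraMap T T')) : t' ∈ P.map (algebraMap T T') := by
  classical
  let f : T →ₗ[T] T ⧸ I := (Submodule.mkQ I).comp (LinearMap.toSpanSingleton T T x)
  have hf : ∀ t, f t = Ideal.Quotient.mk I (t * x) := fun t => rfl
  have hker : ∀ t, t ∈ LinearMap.ker f ↔ t ∈ P := by
    intro t
    rw [LinearMap.mem_ker, hf, Ideal.Quotient.eq_zero_iff_mem, hx]
  have hk := Module.Flat.ker_lTensor_eq T' T' f
  have hz : (t' ⊗ₜ[T] (1 : T)) ∈
      LinearMap.ker (TensorProduct.AlgebraTensorModule.lTensor T' T' f) := by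
    rw [LinearMap.mem_ker, TensorProduct.AlgebraTensorModule.lTensor_tmul, hf, one_mul]
    apply (TensorProduct.tensorQuotEquivQuotSMul T' I).injective
    rw [map_zero, TensorProduct.tensorQuotEquivQuotSMul_tmul_mk, Submodule.Quotient.mk_eq_zero,
      Ideal.smul_top_eq_map, Submodule.restrictScalars_mem, Algebra.smul_def]
    exact h
  rw [hk] at hz
  obtain ⟨w, hw⟩ := hz
  have key : ∀ w : T' ⊗[T] (LinearMap.ker f), TensorProduct.rid T T'
      (TensorProduct.AlgebraTensorModule.lTensor T' T' (LinearMap.ker f).subtype w) ∈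
        P.map (algebraMap T T') := by
    intro w
    induction w using TensorProduct.induction_on with
    | zero => simp
    | tmul m k =>
      rw [TensorProduct.AlgebraTensorModule.lTensor_tmul, TensorProduct.rid_tmul,
        Submodule.subtype_apply, Algebra.smul_def]
      exact Ideal.mul_mem_right _ _ (Ideal.mem_map_of_mem _ ((hker k.1).mp k.2))
    | add a b ha hb =>
      rw [map_add, map_add]
      exact Ideal.add_mem _ ha hb
  have := key w
  rw [hw, TensorProduct.rid_tmul, one_smul] at this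
  exact this

/-- Lemma B -/
theorem isStrictlyEquidim_quotient_map [IsNoetherianRing T'] (I P : Ideal T) (x : T)
    (hx : ∀ t, t ∈ P ↔ t * x ∈ I)
    (h : IsStrictlyEquidim (T' ⧸ I.map (algebraMap T T'))) :
    IsStrictlyEquidim (T' ⧸ P.map (algebraMap T T')) := by
  have hIP : I ≤ P := fun t ht => (hx t).mpr (I.mul_mem_right x ht)
  have hle : I.map (algebraMap T T') ≤ P.map (algebraMap T T') := Ideal.map_mono hIP
  have hPcolon : P.map (algebraMap T T') ≤
      (I.map (algebraMap T T') : Submodule T' T').colon {algebraMap T T' x} := by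
    rw [Ideal.map_le_iff_le_comap]
    intro t ht
    rw [Ideal.mem_comap, Submodule.mem_colon_singleton, smul_eq_mul, ← map_mul]
    exact Ideal.mem_map_of_mem _ ((hx t).mp ht)
  intro Qb hQb
  obtain ⟨hQbp, yb, hyb⟩ := isAssociatedPrime_iff.mp hQb
  haveI := hQbp
  obtain ⟨y, rfl⟩ := Ideal.Quotient.mk_surjective yb
  obtain ⟨Q, hQ⟩ : ∃ Q, Q = Qb.comap (Ideal.Quotient.mk (P.map (algebraMap T T'))) := ⟨_, rfl⟩
  haveI hQp : Q.IsPrime := hQ ▸ Ideal.comap_isPrime _ _
  have hQmem : ∀ a : T', a ∈ Q ↔ algebraMap T T' x * (a * y) ∈ I.map (algebraMap T T') := by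
    intro a
    rw [hQ, Ideal.mem_comap, hyb, Submodule.mem_colon_singleton, Submodule.mem_bot, smul_eq_mul,
      ← map_mul, Ideal.Quotient.eq_zero_iff_mem]
    constructor
    · intro hay
      have := hPcolon hay
      rw [Submodule.mem_colon_singleton, smul_eq_mul, mul_comm] at this
      exact this
    · intro hay
      exact mem_map_of_mul_mem_map I P x hx _ hay
  have hIQ : I.map (algebraMap T T') ≤ Q := by
    intro a ha
    rw [hQmem]
    have : algebraMap T T' x * (a * y) = a * (algebraMap T T' x * y) := by ring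
    rw [this]
    exact Ideal.mul_mem_right _ _ ha
  have hQt : Q.map (Ideal.Quotient.mk (I.map (algebraMap T T'))) ∈
      associatedPrimes (T' ⧸ I.map (algebraMap T T')) (T' ⧸ I.map (algebraMap T T')) := by
    refine isAssociatedPrime_iff.mpr ⟨Ideal.map_isPrime_of_surjective Ideal.Quotient.mk_surjective
      (by rw [Ideal.mk_ker]; exact hIQ),
      Ideal.Quotient.mk _ (algebraMap T T' x * y), ?_⟩
    ext bb
    obtain ⟨b, rfl⟩ := Ideal.Quotient.mk_surjective bb
    rw [Ideal.mem_quotient_iff_mem hIQ, hQmem, Submodule.mem_colon_singleton, Submodule.mem_bot,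
      smul_eq_mul, ← map_mul, Ideal.Quotient.eq_zero_iff_mem]
    have : algebraMap T T' x * (b * y) = b * (algebraMap T T' x * y) := by ring
    rw [this]
  have h1 := h _ hQt
  have h2 := ringKrullDim_quotient_comap (Ideal.Quotient.mk (I.map (algebraMap T T')))
    Ideal.Quotient.mk_surjective (Q.map (Ideal.Quotient.mk (I.map (algebraMap T T'))))
  have h3 := ringKrullDim_quotient_comap (Ideal.Quotient.mk (P.map (algebraMap T T')))
    Ideal.Quotient.mk_surjective Qb
  rw [Ideal.comap_map_of_surjective _ Ideal.Quotient.mk_surjective, ← RingHom.ker_eq_comap_bot,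
    Ideal.mk_ker, sup_eq_left.mpr hIQ] at h2
  rw [← hQ] at h3
  have h4 : ringKrullDim ((T' ⧸ P.map (algebraMap T T')) ⧸ Qb) =
      ringKrullDim (T' ⧸ I.map (algebraMap T T')) := by rw [← h3, h2, h1]
  refine le_antisymm (ringKrullDim_quotient_le Qb) ?_
  rw [h4]
  exact ringKrullDim_le_of_surjective (Ideal.Quotient.factor hle)
    (Ideal.Quotient.factor_surjective hle)

end Core

/-- a prime minimal over `I` in a Noetherian ring is `(I : x)` for some `x` -/
theorem exists_colon_of_mem_minimalPrimes {T : Type*} [CommRing T] [IsNoetherianRing T]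
    (I P : Ideal T) (hP : P ∈ I.minimalPrimes) : ∃ x : T, ∀ t, t ∈ P ↔ t * x ∈ I := by
  have h1 : P ∈ associatedPrimes T (T ⧸ I) := by
    apply Module.associatedPrimes.minimalPrimes_annihilator_subset_associatedPrimes T (T ⧸ I)
    rwa [Ideal.annihilator_quotient]
  obtain ⟨-, z, hz⟩ := isAssociatedPrime_iff.mp h1
  obtain ⟨x, rfl⟩ := Ideal.Quotient.mk_surjective z
  refine ⟨x, fun t => ?_⟩
  rw [hz, Submodule.mem_colon_singleton, Submodule.mem_bot, Algebra.smul_def,
    Ideal.Quotient.algebraMap_eq, ← map_mul, Ideal.Quotient.eq_zero_iff_mem]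

end Groth.Agent.Helper1.FC
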