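import Groth.Agent.Lib.Helper1.PC3
import Groth.Agent.Lib.Helper1.BRN1
import Groth.Agent.Lib.Helper1.SHznSection
import Groth.Agent.Lib.Helper1.CF2

/-!
# Pairs `S → S'` with `S/𝔪ᵏ ≅ S'/𝔪ᵏS'`: quotients, and components of dimension one
-/

set_option autoImplicit false

namespace Groth.Agent.Helper1.PC

open IsLocalRing PrimeSpectrum Groth.Agent.Helper1

universe u

/-- `S → S'` is flat, `𝔪_S S' = 𝔪_S'` and `S` is dense in `S'` -/
structure GoodPair (S S' : Type u) [CommRing S] [CommRing S'] [IsLocalRing S] [IsLocalRing S']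
    [Algebra S S'] : Prop where
  flat : Module.Flat S S'
  map_max : (maximalIdeal S).map (algebraMap S S') = maximalIdeal S'
  dense : ∀ (k : ℕ) (y : S'), ∃ s : S, y - algebraMap S S' s ∈ maximalIdeal S' ^ k

theorem maximalIdeal_quotient (R : Type*) [CommRing R] [IsLocalRing R] (I : Ideal R)
    [IsLocalRing (R ⧸ I)] (hI : I ≤ maximalIdeal R) :
    maximalIdeal (R ⧸ I) = (maximalIdeal R).map (Ideal.Quotient.mk I) :=
  (IsLocalRing.eq_maximalIdeal (Ideal.IsMaximal.map_of_surjective_of_ker_le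
    Ideal.Quotient.mk_surjective (by rw [Ideal.mk_ker]; exact hI))).symm

section Pair

variable {S S' : Type u} [CommRing S] [CommRing S'] [IsLocalRing S] [IsLocalRing S']
  [Algebra S S']

theorem GoodPair.isLocalHom (h : GoodPair S S') : IsLocalHom (algebraMap S S') :=
  ((IsLocalRing.local_hom_TFAE (algebraMap S S')).out 0 2).mpr (le_of_eq h.map_max)

theorem GoodPair.faithfullyFlat (h : GoodPair S S') : Module.FaithfullyFlat S S' := by
  haveI := h.flat
  haveI := h.isLocalHom
  exact Module.FaithfullyFlat.of_flat_of_isLocalHom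

theorem GoodPair.quotient (h : GoodPair S S') (I : Ideal S) (hI : I ≤ maximalIdeal S) :
    ∃ (_ : IsLocalRing (S ⧸ I)) (_ : IsLocalRing (S' ⧸ I.map (algebraMap S S'))),
      GoodPair (S ⧸ I) (S' ⧸ I.map (algebraMap S S')) := by
  have hI' : I.map (algebraMap S S') ≤ maximalIdeal S' := by
    rw [← h.map_max]
    exact Ideal.map_mono hI
  haveI : Nontrivial (S ⧸ I) := Ideal.Quotient.nontrivial_iff.mpr
    (fun htop => (maximalIdeal.isMaximal S).ne_top (top_le_iff.mp (htop ▸ hI)))
  haveI : Nontrivial (S' ⧸ I.map (algebraMap S S')) := Ideal.Quotient.nontrivial_iff.mpr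
    (fun htop => (maximalIdeal.isMaximal S').ne_top (top_le_iff.mp (htop ▸ hI')))
  haveI hl : IsLocalRing (S ⧸ I) :=
    IsLocalRing.of_surjective' (Ideal.Quotient.mk _) Ideal.Quotient.mk_surjective
  haveI hl' : IsLocalRing (S' ⧸ I.map (algebraMap S S')) :=
    IsLocalRing.of_surjective' (Ideal.Quotient.mk _) Ideal.Quotient.mk_surjective
  refine ⟨hl, hl', ?_, ?_, ?_⟩
  · haveI := h.flat
    exact Module.Flat.of_linearEquiv
      (Algebra.TensorProduct.quotIdealMapEquivQuotTensor S' I).toLinearEquiv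
  · rw [maximalIdeal_quotient S I hI, maximalIdeal_quotient S' _ hI', Ideal.map_map,
      ← h.map_max, Ideal.map_map]
    rfl
  · intro k y
    obtain ⟨y, rfl⟩ := Ideal.Quotient.mk_surjective y
    obtain ⟨s, hs⟩ := h.dense k y
    refine ⟨Ideal.Quotient.mk I s, ?_⟩
    have e : algebraMap (S ⧸ I) (S' ⧸ I.map (algebraMap S S')) (Ideal.Quotient.mk I s) =
        Ideal.Quotient.mk _ (algebraMap S S' s) := rfl
    rw [e, ← map_sub, maximalIdeal_quotient S' _ hI', ← Ideal.map_pow]
    exact Ideal.mem_map_of_mem _ hs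

end Pair

theorem eq_of_le_of_dim_one {R : Type*} [CommRing R] [IsLocalRing R] (q : Ideal R) [q.IsPrime]
    (hdim : ringKrullDim (R ⧸ q) = 1) (p : Ideal R) [p.IsPrime] (hqp : q ≤ p)
    (hpm : p ≠ maximalIdeal R) : p = q := by
  by_contra hne
  have hK : Ring.KrullDimLE 1 (R ⧸ q) := Ring.krullDimLE_iff.mpr (by rw [hdim]; rfl)
  have hker : RingHom.ker (Ideal.Quotient.mk q) ≤ p := by rw [Ideal.mk_ker]; exact hqp
  have hprime : (p.map (Ideal.Quotient.mk q)).IsPrime :=
    Ideal.map_isPrime_of_surjective Ideal.Quotient.mk_surjective hker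
  have hcm : (p.map (Ideal.Quotient.mk q)).comap (Ideal.Quotient.mk q) = p := by
    rw [Ideal.comap_map_of_surjective _ Ideal.Quotient.mk_surjective,
      ← RingHom.ker_eq_comap_bot, Ideal.mk_ker, sup_eq_left.mpr hqp]
  have hne_bot : p.map (Ideal.Quotient.mk q) ≠ ⊥ := by
    intro hbot
    rw [hbot, ← RingHom.ker_eq_comap_bot, Ideal.mk_ker] at hcm
    exact hne hcm.symm
  haveI hmax : (p.map (Ideal.Quotient.mk q)).IsMaximal :=
    (Ring.krullDimLE_one_iff_of_noZeroDivisors.mp hK) _ hne_bot hprime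
  have h2 : ((p.map (Ideal.Quotient.mk q)).comap (Ideal.Quotient.mk q)).IsMaximal :=
    Ideal.comap_isMaximal_of_surjective _ Ideal.Quotient.mk_surjective
  rw [hcm] at h2
  exact hpm (IsLocalRing.eq_maximalIdeal h2)

theorem ne_maximalIdeal_of_dim_one {R : Type*} [CommRing R] [IsLocalRing R] (q : Ideal R)
    (hdim : ringKrullDim (R ⧸ q) = 1) : q ≠ maximalIdeal R := by
  intro h
  haveI : q.IsMaximal := h ▸ maximalIdeal.isMaximal R
  letI := Ideal.Quotient.field q
  rw [ringKrullDim_eq_zero_of_field] at hdim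
  exact zero_ne_one hdim

/-- a component of dimension one of `V(J)` is all of `V(J)` when the punctured spectrum of `R/J`
is preconnected -/
theorem minimalPrimes_eq_singleton {R : Type*} [CommRing R] [IsLocalRing R] [IsNoetherianRing R]
    (J : Ideal R) (hJ : J ≤ maximalIdeal R) [IsLocalRing (R ⧸ J)]
    (hpre : IsPreconnected ({closedPoint (R ⧸ J)}ᶜ : Set (PrimeSpectrum (R ⧸ J))))
    (q : Ideal R) (hq : q ∈ J.minimalPrimes) (hdim : ringKrullDim (R ⧸ q) = 1) :
    J.minimalPrimes = {q} := by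
  classical
  haveI hqp : q.IsPrime := hq.1.1
  have hJq : J ≤ q := hq.1.2
  have hπ : Function.Surjective (Ideal.Quotient.mk J) := Ideal.Quotient.mk_surjective
  have hmD : maximalIdeal (R ⧸ J) = (maximalIdeal R).map (Ideal.Quotient.mk J) :=
    maximalIdeal_quotient R J hJ
  have hqm : q ≠ maximalIdeal R := ne_maximalIdeal_of_dim_one q hdim
  have hcm : ∀ Q : Ideal R, J ≤ Q →
      (Q.map (Ideal.Quotient.mk J)).comap (Ideal.Quotient.mk J) = Q := by
    intro Q hQ
    rw [Ideal.comap_map_of_surjective _ hπ, ← RingHom.ker_eq_comap_bot, Ideal.mk_ker,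
      sup_eq_left.mpr hQ]
  have hprime : ∀ Q : Ideal R, Q.IsPrime → J ≤ Q → (Q.map (Ideal.Quotient.mk J)).IsPrime := by
    intro Q hQ hJQ
    exact Ideal.map_isPrime_of_surjective hπ (by rw [Ideal.mk_ker]; exact hJQ)
  have hne_max : ∀ Q : Ideal R, J ≤ Q → Q ≠ maximalIdeal R →
      Q.map (Ideal.Quotient.mk J) ≠ maximalIdeal (R ⧸ J) := by
    intro Q hJQ hQm heq
    apply hQm
    rw [← hcm Q hJQ, heq, hmD, hcm _ hJ]
  ext Q
  rw [Set.mem_singleton_iff]
  constructor
  swap
  · rintro rfl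
    exact hq
  intro hQ
  by_contra hQq
  haveI hQp : Q.IsPrime := hQ.1.1
  have hJQ : J ≤ Q := hQ.1.2
  rw [isPreconnected_closed_iff] at hpre
  have hfin : (J.minimalPrimes \ {q}).Finite :=
    (Ideal.finite_minimalPrimes_of_isNoetherianRing R J).subset Set.diff_subset
  have hcl2 : IsClosed (⋃ Q' ∈ J.minimalPrimes \ {q},
      zeroLocus ((Q'.map (Ideal.Quotient.mk J) : Ideal (R ⧸ J)) : Set (R ⧸ J))) :=
    hfin.isClosed_biUnion (fun Q' _ => isClosed_zeroLocus _)
  have hsub : ({closedPoint (R ⧸ J)}ᶜ : Set (PrimeSpectrum (R ⧸ J))) ⊆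
      zeroLocus ((q.map (Ideal.Quotient.mk J) : Ideal (R ⧸ J)) : Set (R ⧸ J)) ∪
      ⋃ Q' ∈ J.minimalPrimes \ {q},
        zeroLocus ((Q'.map (Ideal.Quotient.mk J) : Ideal (R ⧸ J)) : Set (R ⧸ J)) := by
    intro P _
    have hJP : J ≤ P.asIdeal.comap (Ideal.Quotient.mk J) := by
      conv_lhs => rw [← Ideal.mk_ker (I := J), RingHom.ker_eq_comap_bot]
      exact Ideal.comap_mono bot_le
    obtain ⟨Q', hQ', hQ'P⟩ := Ideal.exists_minimalPrimes_le hJP
    by_cases hQ'q : Q' = q
    · left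
      rw [mem_zeroLocus, SetLike.coe_subset_coe, Ideal.map_le_iff_le_comap, ← hQ'q]
      exact hQ'P
    · right
      rw [Set.mem_iUnion₂]
      refine ⟨Q', ⟨hQ', hQ'q⟩, ?_⟩
      rw [mem_zeroLocus, SetLike.coe_subset_coe, Ideal.map_le_iff_le_comap]
      exact hQ'P
  have hQm : Q ≠ maximalIdeal R := by
    intro hQm'
    apply hQq
    have h1 : q ≤ Q := hQm' ▸ le_maximalIdeal hqp.ne_top
    exact (le_antisymm (hQ.2 ⟨hqp, hJq⟩ h1) h1)
  obtain ⟨P, hPU, hP1, hP2⟩ := hpre _ _ (isClosed_zeroLocus _) hcl2 hsub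
    ⟨⟨q.map (Ideal.Quotient.mk J), hprime q hqp hJq⟩,
      (mem_punctured _).mpr (hne_max q hJq hqm),
      by rw [mem_zeroLocus, SetLike.coe_subset_coe]⟩
    ⟨⟨Q.map (Ideal.Quotient.mk J), hprime Q hQp hJQ⟩,
      (mem_punctured _).mpr (hne_max Q hJQ hQm),
      by
        rw [Set.mem_iUnion₂]
        exact ⟨Q, ⟨hQ, hQq⟩, by rw [mem_zeroLocus, SetLike.coe_subset_coe]⟩⟩
  rw [mem_zeroLocus, SetLike.coe_subset_coe, Ideal.map_le_iff_le_comap] at hP1
  rw [Set.mem_iUnion₂] at hP2
  obtain ⟨Q', ⟨hQ', hQ'q⟩, hP2⟩ := hP2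
  rw [mem_zeroLocus, SetLike.coe_subset_coe, Ideal.map_le_iff_le_comap] at hP2
  rw [mem_punctured] at hPU
  have hpm : P.asIdeal.comap (Ideal.Quotient.mk J) ≠ maximalIdeal R := by
    intro heq
    apply hPU
    rw [← Ideal.map_comap_of_surjective _ hπ P.asIdeal, heq, hmD]
  have hpq : P.asIdeal.comap (Ideal.Quotient.mk J) = q :=
    eq_of_le_of_dim_one q hdim _ hP1 hpm
  rw [hpq] at hP2
  haveI : Q'.IsPrime := hQ'.1.1
  exact hQ'q (le_antisymm hP2 (hq.2 ⟨hQ'.1.1, hQ'.1.2⟩ hP2))

section Main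

variable {S S' : Type u} [CommRing S] [HenselianLocalRing S] [IsNoetherianRing S] [CommRing S']
  [IsLocalRing S'] [IsNoetherianRing S'] [Algebra S S']

/-- **Key lemma**: a minimal prime `q` of `S'` with `dim S'/q = 1` is the only prime minimal over
the extension of its contraction to the henselian ring `S`. -/
theorem GoodPair.minimalPrimes_map_comap (h : GoodPair S S') (q : Ideal S')
    (hq : q ∈ minimalPrimes S') (hdim : ringKrullDim (S' ⧸ q) = 1) :
    ((q.comap (algebraMap S S')).map (algebraMap S S')).minimalPrimes = {q} := by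
  haveI := h.flat
  haveI hqp : q.IsPrime := hq.1.1
  have hq' : q.comap (algebraMap S S') ∈ minimalPrimes S := BRN.comap_mem_minimalPrimes hq
  haveI hq'p : (q.comap (algebraMap S S')).IsPrime := hq'.1.1
  have hq'le : q.comap (algebraMap S S') ≤ maximalIdeal S := le_maximalIdeal hq'p.ne_top
  have hJq : (q.comap (algebraMap S S')).map (algebraMap S S') ≤ q := Ideal.map_comap_le
  have hJle : (q.comap (algebraMap S S')).map (algebraMap S S') ≤ maximalIdeal S' :=
    hJq.trans (le_maximalIdeal hqp.ne_top)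
  obtain ⟨hlD, hlD', hG⟩ := h.quotient _ hq'le
  haveI := hlD
  haveI := hlD'
  haveI hH : HenselianLocalRing (S ⧸ q.comap (algebraMap S S')) :=
    (SHzn.henselianLocalRing_quotient _ hq'le).1
  haveI := hG.faithfullyFlat
  have hqm : q ≠ maximalIdeal S' := ne_maximalIdeal_of_dim_one q hdim
  have hq'm : q.comap (algebraMap S S') ≠ maximalIdeal S := by
    intro heq
    have : maximalIdeal S' ≤ q := by
      rw [← h.map_max, ← heq]
      exact hJq
    exact hqm ((maximalIdeal.isMaximal S').eq_of_le hqp.ne_top this).symm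
  obtain ⟨x, hxm, hxq⟩ := SetLike.exists_of_lt (lt_of_le_of_ne hq'le hq'm)
  have hxm' : Ideal.Quotient.mk (q.comap (algebraMap S S')) x ∈
      maximalIdeal (S ⧸ q.comap (algebraMap S S')) := by
    rw [maximalIdeal_quotient S _ hq'le]
    exact Ideal.mem_map_of_mem _ hxm
  have hxnz : Ideal.Quotient.mk (q.comap (algebraMap S S')) x ∈
      nonZeroDivisors (S ⧸ q.comap (algebraMap S S')) :=
    mem_nonZeroDivisors_of_ne_zero (by rwa [Ne, Ideal.Quotient.eq_zero_iff_mem])
  have hpreD : IsPreconnected ({closedPoint (S ⧸ q.comap (algebraMap S S'))}ᶜ :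
      Set (PrimeSpectrum (S ⧸ q.comap (algebraMap S S')))) := by
    have hopen : IsOpen ({closedPoint (S ⧸ q.comap (algebraMap S S'))}ᶜ :
        Set (PrimeSpectrum (S ⧸ q.comap (algebraMap S S')))) :=
      isOpen_compl_iff.mpr ((isClosed_singleton_iff_isMaximal _).mpr
        (maximalIdeal.isMaximal _))
    exact ((PreirreducibleSpace.isPreirreducible_univ).open_subset hopen
      (Set.subset_univ _)).isPreconnected
  have hpreD' := isPreconnected_punctured hG.map_max hG.dense _ hxm' hxnz hpreD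
  refine minimalPrimes_eq_singleton _ hJle hpreD' q ⟨⟨hqp, hJq⟩, ?_⟩ hdim
  rintro P ⟨hP, -⟩ hPq
  exact hq.2 ⟨hP, bot_le⟩ hPq

/-- in dimension one, `S` and `S'` have the same number of minimal primes -/
theorem GoodPair.card_minimalPrimes_eq (h : GoodPair S S') (hdim : ringKrullDim S' = 1) :
    ENat.card (minimalPrimes S) = ENat.card (minimalPrimes S') := by
  haveI := h.flat
  haveI := h.faithfullyFlat
  have hsurj := DM.surjOn_comap_minimalPrimes S S'
  refine (CF.card_minimalPrimes_eq_iff (minimalPrimes.finite_of_isNoetherianRing S')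
    hsurj).mpr ?_
  intro q' hq'
  obtain ⟨q, hq, rfl⟩ := hsurj hq'
  haveI hqp : q.IsPrime := hq.1.1
  have hqm : q ≠ maximalIdeal S' := by
    intro heq
    have h1 : (1 : WithBot ℕ∞) ≤ ringKrullDim S' := by rw [hdim]
    obtain ⟨x, y, hxy⟩ := Order.one_le_krullDim_iff.mp h1
    have h2 : x.asIdeal < q := by
      rw [heq]
      exact lt_of_lt_of_le hxy (le_maximalIdeal y.isPrime.ne_top)
    exact absurd (hq.2 ⟨x.isPrime, bot_le⟩ h2.le) (not_le_of_gt h2)
  have hdimq : ringKrullDim (S' ⧸ q) = 1 := by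
    apply le_antisymm
    · rw [← hdim]
      exact ringKrullDim_quotient_le q
    · have hle : q ≤ maximalIdeal S' := le_maximalIdeal hqp.ne_top
      have hker : RingHom.ker (Ideal.Quotient.mk q) ≤ maximalIdeal S' := by
        rw [Ideal.mk_ker]; exact hle
      have hprime : ((maximalIdeal S').map (Ideal.Quotient.mk q)).IsPrime :=
        Ideal.map_isPrime_of_surjective Ideal.Quotient.mk_surjective hker
      refine Order.one_le_krullDim_iff.mpr ⟨⟨⊥, Ideal.isPrime_bot⟩,
        ⟨(maximalIdeal S').map (Ideal.Quotient.mk q), hprime⟩, ?_⟩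
      show (⊥ : Ideal (S' ⧸ q)) < (maximalIdeal S').map (Ideal.Quotient.mk q)
      rw [bot_lt_iff_ne_bot]
      intro hbot
      apply hqm
      have hcm : ((maximalIdeal S').map (Ideal.Quotient.mk q)).comap (Ideal.Quotient.mk q) =
          maximalIdeal S' := by
        rw [Ideal.comap_map_of_surjective _ Ideal.Quotient.mk_surjective,
          ← RingHom.ker_eq_comap_bot, Ideal.mk_ker, sup_eq_left.mpr hle]
      rw [hbot, ← RingHom.ker_eq_comap_bot, Ideal.mk_ker] at hcm
      exact hcm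
  rw [← Ideal.sInf_minimalPrimes, h.minimalPrimes_map_comap q hq hdimq, sInf_singleton]
  exact hqp

end Main

end Groth.Agent.Helper1.PC
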