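import Groth.Agent.Lib.Helper1.FC1
import Groth.Agent.Lib.Helper1.FC3
import Groth.Agent.Lib.Helper1.PC4
import Groth.Agent.Lib.Lead.CQ1
import Groth.Prelude.Def_EGA4b

/-!
# Completions of quotients of a henselization
-/

set_option autoImplicit false

namespace Groth.Agent.Helper1.FC

open IsLocalRing FSch Groth.Agent.Lib.Helper6.ComplMapLib Groth.Agent.Helper1

universe u

section ComplMap

variable {A B : Type u} [CommRing A] [CommRing B] (I : Ideal A) (K : Ideal B) (g : A →+* B)

theorem complMap_injective (h : I.map g ≤ K) (hinj : ∀ n a, g a ∈ K ^ n → a ∈ I ^ n) :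
    Function.Injective (complMap I K g h) := by
  rw [injective_iff_map_eq_zero]
  intro x hx
  apply AdicCompletion.ext_evalₐ
  intro n
  have h1 : AdicCompletion.evalₐ K n (complMap I K g h x) = 0 := by rw [hx, map_zero]
  rw [evalₐ_complMap] at h1
  obtain ⟨a, ha⟩ := Ideal.Quotient.mk_surjective (AdicCompletion.evalₐ I n x)
  rw [← ha, Ideal.quotientMap_mk, Ideal.Quotient.eq_zero_iff_mem] at h1
  rw [map_zero, ← ha, Ideal.Quotient.eq_zero_iff_mem]
  exact hinj n a h1

theorem complMap_surjective' (h : I.map g ≤ K) (hinj : ∀ n a, g a ∈ K ^ n → a ∈ I ^ n)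
    (hsurj : ∀ n (b : B), ∃ a : A, b - g a ∈ K ^ n) :
    Function.Surjective (complMap I K g h) := by
  intro y
  obtain ⟨c, rfl⟩ := AdicCompletion.mk_surjective K B y
  choose a ha using fun n => hsurj n (c n)
  have hc : ∀ n, c (n + 1) - c n ∈ K ^ n := by
    intro n
    have h0 := c.2 (Nat.le_succ n)
    rw [SModEq.sub_mem] at h0
    simp only [smul_eq_mul, Ideal.mul_top] at h0
    rw [← neg_sub]
    exact (K ^ n).neg_mem h0
  have hcauchy : ∀ n, a n - a (n + 1) ∈ I ^ n := by
    intro n
    apply hinj
    have e : g (a n - a (n + 1)) =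
        (c (n + 1) - g (a (n + 1))) - (c n - g (a n)) - (c (n + 1) - c n) := by
      rw [map_sub]; ring
    rw [e]
    refine Ideal.sub_mem _ (Ideal.sub_mem _ ?_ (ha n)) (hc n)
    exact Ideal.pow_le_pow_right (Nat.le_succ n) (ha (n + 1))
  let a' : AdicCompletion.AdicCauchySequence I A := AdicCompletion.AdicCauchySequence.mk I A a (by
    intro n
    rw [SModEq.sub_mem]
    simp only [smul_eq_mul, Ideal.mul_top]
    exact hcauchy n)
  refine ⟨AdicCompletion.mk I A a', ?_⟩
  apply AdicCompletion.ext_evalₐ
  intro n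
  rw [evalₐ_complMap, AdicCompletion.evalₐ_mk, AdicCompletion.evalₐ_mk, Ideal.quotientMap_mk,
    Ideal.Quotient.eq]
  have h2 : g (a n) - c n ∈ K ^ n := by
    have := (K ^ n).neg_mem (ha n)
    rwa [neg_sub] at this
  exact h2

end ComplMap

section Hens

variable (R S : Type u) [CommRing R] [IsLocalRing R] [CommRing S] [IsLocalRing S] [Algebra R S]
  [IsLocalHom (algebraMap R S)] [Hensel.IsHenselization R S]

theorem map_max_le : (maximalIdeal R).map (algebraMap R S) ≤ maximalIdeal S :=
  (Hzn.map_maximalIdeal_eq_of_isHenselization R S).le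

/-- the map from the completion of `R` to the completion of its henselization -/
noncomputable def cplMap :
    AdicCompletion (maximalIdeal R) R →+* AdicCompletion (maximalIdeal S) S :=
  complMap (maximalIdeal R) (maximalIdeal S) (algebraMap R S) (map_max_le R S)

theorem cplMap_bijective : Function.Bijective (cplMap R S) := by
  haveI hS : HenselianLocalRing S := Hensel.IsHenselization.henselian (R := R)
  have hψ : HFlat.IsHensHom (algebraMap R S) := HFlat.IsHensHom.of_isHenselization R S
  have hinj : ∀ n a, algebraMap R S a ∈ maximalIdeal S ^ n → a ∈ maximalIdeal R ^ n := by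
    intro n a ha
    rw [← hψ.map_maximalIdeal, ← Ideal.map_pow] at ha
    have := Ideal.mem_comap.mpr ha
    rwa [hψ.comap_map] at this
  exact ⟨complMap_injective _ _ _ _ hinj,
    complMap_surjective' _ _ _ _ hinj (fun n b => hψ.exists_sub_mem_pow n b)⟩

theorem algebraMap_eq_of (A : Type u) [CommRing A] (I : Ideal A) (a : A) :
    algebraMap A (AdicCompletion I A) a = AdicCompletion.of I A a := by
  rw [AdicCompletion.algebraMap_apply, Algebra.algebraMap_self, RingHom.id_apply]

theorem cplMap_comp :
    (cplMap R S).comp (algebraMap R (AdicCompletion (maximalIdeal R) R)) =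
      (algebraMap S (AdicCompletion (maximalIdeal S) S)).comp (algebraMap R S) := by
  ext r
  simp only [RingHom.comp_apply]
  rw [algebraMap_eq_of, algebraMap_eq_of, cplMap, complMap_of]

end Hens

section Quot

/-- the completion of `A/I` is `Â/IÂ` -/
theorem nonempty_cpl_quotient_equiv (A : Type u) [CommRing A] [IsLocalRing A] [IsNoetherianRing A]
    (I : Ideal A) [Nontrivial (A ⧸ I)] :
    Nonempty ((AdicCompletion (maximalIdeal A) A ⧸
      I.map (algebraMap A (AdicCompletion (maximalIdeal A) A))) ≃+*
        AdicCompletion (maximalIdeal (A ⧸ I)) (A ⧸ I)) := by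
  have hI : I ≤ maximalIdeal A := by
    apply le_maximalIdeal
    intro htop
    exact (Ideal.Quotient.nontrivial_iff.mp (inferInstance : Nontrivial (A ⧸ I))) htop
  have hK : (maximalIdeal A).map (Ideal.Quotient.mk I) = maximalIdeal (A ⧸ I) :=
    (PC.maximalIdeal_quotient A I hI).symm
  have e := Groth.Agent.Lead.CQ.complQuotEquiv (maximalIdeal A) (maximalIdeal (A ⧸ I))
    (Ideal.Quotient.mk I) Ideal.Quotient.mk_surjective hK
  rw [Ideal.mk_ker] at e
  exact ⟨e⟩

end Quot

section Transfer

variable (R S : Type u) [CommRing R] [IsLocalRing R] [IsNoetherianRing R] [CommRing S]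
  [IsLocalRing S] [Algebra R S] [IsLocalHom (algebraMap R S)] [Hensel.IsHenselization R S]

/-- transfer of an isomorphism-invariant property from the completion of `R/p` to the quotient
of the completion of the henselization `S` by the extension of `p` -/
theorem transfer_down (Pr : ∀ (X : Type u) [CommRing X], Prop)
    (hiso : ∀ (X Y : Type u) [CommRing X] [CommRing Y], (X ≃+* Y) → Pr X → Pr Y)
    (p : Ideal R) [Nontrivial (R ⧸ p)]
    (h : Pr (AdicCompletion (maximalIdeal (R ⧸ p)) (R ⧸ p))) :
    Pr (AdicCompletion (maximalIdeal S) S ⧸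
      (p.map (algebraMap R S)).map (algebraMap S (AdicCompletion (maximalIdeal S) S))) := by
  obtain ⟨e1⟩ := nonempty_cpl_quotient_equiv R p
  have h1 := hiso _ _ e1.symm h
  let e : AdicCompletion (maximalIdeal R) R ≃+* AdicCompletion (maximalIdeal S) S :=
    RingEquiv.ofBijective (cplMap R S) (cplMap_bijective R S)
  have he : (e : AdicCompletion (maximalIdeal R) R →+* AdicCompletion (maximalIdeal S) S) =
      cplMap R S := rfl
  have hJ : (p.map (algebraMap R S)).map (algebraMap S (AdicCompletion (maximalIdeal S) S)) =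
      Ideal.map (e : AdicCompletion (maximalIdeal R) R →+* AdicCompletion (maximalIdeal S) S)
        (p.map (algebraMap R (AdicCompletion (maximalIdeal R) R))) := by
    rw [he, Ideal.map_map, Ideal.map_map, cplMap_comp]
  exact hiso _ _ (Ideal.quotientEquiv _ _ e hJ) h1

end Transfer

theorem transfer_up (S : Type u) [CommRing S] [IsLocalRing S] [IsNoetherianRing S]
    (Pr : ∀ (X : Type u) [CommRing X], Prop)
    (hiso : ∀ (X Y : Type u) [CommRing X] [CommRing Y], (X ≃+* Y) → Pr X → Pr Y)
    (P : Ideal S) [Nontrivial (S ⧸ P)]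
    (h : Pr (AdicCompletion (maximalIdeal S) S ⧸
      P.map (algebraMap S (AdicCompletion (maximalIdeal S) S)))) :
    Pr (AdicCompletion (maximalIdeal (S ⧸ P)) (S ⧸ P)) := by
  obtain ⟨e1⟩ := nonempty_cpl_quotient_equiv S P
  exact hiso _ _ e1 h



end Groth.Agent.Helper1.FC
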