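import Groth.Agent.Lib.Helper1.GF6
import Groth.Agent.Lib.Helper1.FC2
import Groth.Agent.Lib.Helper7.AdicFib3
import Groth.Agent.Lib.Helper1.SHznSection

/-!
# Excellent henselian local rings: prime elements stay prime in the completion
-/

set_option autoImplicit false

namespace Groth.Agent.Helper1.EX

open IsLocalRing EGA4 Groth.Agent.Helper1

universe u

theorem hasGeomNormalFormalFibres_of_isGRing (A : Type u) [CommRing A] [IsLocalRing A]
    (hG : CAlg.IsGRing A) : HasGeomNormalFormalFibres A := by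
  haveI := hG.1
  have h := Groth.Agent.Helper7.AdicFib.isRegularHom_adicCompletion A hG (maximalIdeal A)
  intro p _ k' _ _ hk'
  haveI := (h.2 p).2 k' hk'
  exact Groth.Agent.Helper7.NormAsc.isNormalRing_of_isRegularRing _

theorem prime_iff_prime_cpl (R : Type u) [CommRing R] [HenselianLocalRing R] [IsNoetherianRing R]
    (hR : HasGeomNormalFormalFibres R) (Δ : R) :
    Prime Δ ↔ Prime (algebraMap R (Cpl R) Δ) := by
  have hG := GF.goodPair_completion R
  haveI := hG.faithfullyFlat
  have hinj : Function.Injective (algebraMap R (Cpl R)) :=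
    FaithfulSMul.algebraMap_injective R (Cpl R)
  have hmap : (Ideal.span {Δ}).map (algebraMap R (Cpl R)) =
      Ideal.span {algebraMap R (Cpl R) Δ} := by
    rw [Ideal.map_span, Set.image_singleton]
  constructor
  · intro hΔ
    have hΔ0 : Δ ≠ 0 := hΔ.ne_zero
    have hne : algebraMap R (Cpl R) Δ ≠ 0 := fun h => hΔ0 (hinj (by rw [h, map_zero]))
    rw [← Ideal.span_singleton_prime hne, ← hmap]
    haveI hp : (Ideal.span {Δ}).IsPrime := (Ideal.span_singleton_prime hΔ0).mpr hΔ
    have hle : Ideal.span {Δ} ≤ maximalIdeal R := le_maximalIdeal hp.ne_top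
    haveI : Nontrivial (R ⧸ Ideal.span {Δ}) := Ideal.Quotient.nontrivial_iff.mpr hp.ne_top
    haveI : HenselianLocalRing (R ⧸ Ideal.span {Δ}) :=
      (SHzn.henselianLocalRing_quotient _ hle).1
    have hq : HasGeomNormalFormalFibres (R ⧸ Ideal.span {Δ}) := Groth.Agent.S4754.result R hR _
    haveI : IsDomain (Cpl (R ⧸ Ideal.span {Δ})) := GF.isDomain_cpl_of_henselian _ GF.hN1 hq
    obtain ⟨e⟩ := FC.nonempty_cpl_quotient_equiv R (Ideal.span {Δ})
    haveI : IsDomain (Cpl R ⧸ (Ideal.span {Δ}).map (algebraMap R (Cpl R))) :=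
      e.injective.isDomain e.toRingHom
    exact (Ideal.Quotient.isDomain_iff_prime _).mp inferInstance
  · intro hΔ
    have hne : algebraMap R (Cpl R) Δ ≠ 0 := hΔ.ne_zero
    have hΔ0 : Δ ≠ 0 := fun h => hne (by rw [h, map_zero])
    rw [← Ideal.span_singleton_prime hΔ0]
    haveI hp : (Ideal.span {algebraMap R (Cpl R) Δ}).IsPrime :=
      (Ideal.span_singleton_prime hne).mpr hΔ
    have h1 := Ideal.comap_map_eq_self_of_faithfullyFlat (B := Cpl R) (Ideal.span {Δ})
    rw [hmap] at h1
    rw [← h1]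
    exact Ideal.comap_isPrime _ _

end Groth.Agent.Helper1.EX
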