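import Mathlib
import Groth.Prelude.Def_StabCat

/-!
# Polynomial lemmas for `ℓ`-(semi)stability with `ℓ = d` (S15217, S15218).  Mathlib only.
-/

set_option autoImplicit false

open Polynomial

namespace Groth.Agent.Helper1.EllPoly

open StabCat

/-- the `d`-truncation of a polynomial of degree `≤ d` is the polynomial itself. -/
theorem topPart_self (d : ℕ) (P : ℚ[X]) (h : P.natDegree ≤ d) : topPart d d P = P := by
  unfold topPart
  rw [Nat.sub_self]
  have e : Finset.Icc 0 d = Finset.range (d + 1) := by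
    ext i
    simp [Nat.lt_succ_iff]
  rw [e]
  exact (P.as_sum_range' (d + 1) (Nat.lt_succ_of_le h)).symm

/-- a nonzero polynomial which is eventually nonnegative on `ℕ` is eventually positive on `ℕ`. -/
theorem eventually_pos (Q : ℚ[X]) (hQ : Q ≠ 0)
    (h : ∃ N : ℕ, ∀ m : ℕ, N ≤ m → 0 ≤ Q.eval (m : ℚ)) :
    ∃ N : ℕ, ∀ m : ℕ, N ≤ m → 0 < Q.eval (m : ℚ) := by
  obtain ⟨N₀, hN₀⟩ := h
  have hfin : {m : ℕ | Q.eval (m : ℚ) = 0}.Finite := by
    have hsub : {m : ℕ | Q.eval (m : ℚ) = 0} ⊆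
        (Nat.cast : ℕ → ℚ) ⁻¹' (↑Q.roots.toFinset : Set ℚ) := by
      intro m hm
      simp only [Set.mem_preimage, Finset.mem_coe, Multiset.mem_toFinset]
      exact (Polynomial.mem_roots hQ).mpr hm
    exact ((Q.roots.toFinset.finite_toSet).preimage (Nat.cast_injective.injOn)).subset hsub
  obtain ⟨B, hB⟩ := hfin.bddAbove
  refine ⟨max N₀ (B + 1), fun m hm => ?_⟩
  have h1 : 0 ≤ Q.eval (m : ℚ) := hN₀ m (le_trans (le_max_left _ _) hm)
  have h2 : Q.eval (m : ℚ) ≠ 0 := by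
    intro h0
    have h3 : m ≤ B := hB h0
    have h4 : B + 1 ≤ m := le_trans (le_max_right _ _) hm
    omega
  exact lt_of_le_of_ne h1 (Ne.symm h2)

/-- equal multiplicities: the reduced comparison is the comparison of the polynomials. -/
theorem redLE_of_alpha_eq (d : ℕ) (pF pE : ℚ[X]) (ha : alpha d pF = alpha d pE)
    (hpos : 0 < alpha d pF)
    (h : ∃ N : ℕ, ∀ m : ℕ, N ≤ m → 0 ≤ (pE - pF).eval (m : ℚ)) : RedLE d pF pE := by
  obtain ⟨N, hN⟩ := h
  refine ⟨N, fun m hm => ?_⟩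
  have h1 := hN m hm
  rw [eval_sub] at h1
  rw [← ha]
  simp only [eval_smul, smul_eq_mul]
  exact mul_le_mul_of_nonneg_left (by linarith) hpos.le

/-- equal multiplicities, strict version. -/
theorem redLT_of_alpha_eq (d : ℕ) (pF pE : ℚ[X]) (ha : alpha d pF = alpha d pE)
    (hpos : 0 < alpha d pF)
    (h : ∃ N : ℕ, ∀ m : ℕ, N ≤ m → 0 < (pE - pF).eval (m : ℚ)) : RedLT d pF pE := by
  obtain ⟨N, hN⟩ := h
  refine ⟨N, fun m hm => ?_⟩
  have h1 := hN m hm
  rw [eval_sub] at h1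
  rw [← ha]
  simp only [eval_smul, smul_eq_mul]
  exact mul_lt_mul_of_pos_left (by linarith) hpos

end Groth.Agent.Helper1.EllPoly
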