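import Mathlib
import Groth.Prelude.Def_ShStab
import Groth.Agent.Lib.Helper1.EllPoly

/-!
# Gieseker (semi)stability is `ℓ`-(semi)stability for `ℓ = d` (S15217, S15218): abstract assembly

All inputs about Hilbert polynomials (existence/degree bound, additivity, eventual nonnegativity,
vanishing, strict positivity of the leading coefficient) are collected in the structure `Hyps`;
they are supplied in `EllStabPlug`.
-/

set_option autoImplicit false
universe u

open CategoryTheory CategoryTheory.Limits AlgebraicGeometry Polynomial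

namespace Groth.Agent.Helper1.EllStab

open Groth.Agent.Helper1.EllPoly

variable (k : Type u) [Field k] (X : Scheme.{u}) [X.Over (Spec (CommRingCat.of k))]

/-- the inputs on Hilbert polynomials. -/
structure Hyps (L : X.Modules) (d : ℕ) (E : X.Modules) : Prop where
  deg : ShStab.IsPure X E d → Coh.IsCoh E → ∀ (F : X.Modules) (ι : F ⟶ E), Mono ι → Coh.IsCoh F →
    ∀ p : ℚ[X], ShStab.IsHilbPoly k X L F p → p.natDegree ≤ d
  cok : Coh.IsCoh E → ∀ (F : X.Modules) (ι : F ⟶ E), Mono ι → Coh.IsCoh F →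
    ∀ pF pE : ℚ[X], ShStab.IsHilbPoly k X L F pF → ShStab.IsHilbPoly k X L E pE →
      Coh.IsCoh (cokernel ι) ∧ ShStab.IsHilbPoly k X L (cokernel ι) (pE - pF)
  enn : ∀ G : X.Modules, Coh.IsCoh G → ∀ p : ℚ[X], ShStab.IsHilbPoly k X L G p →
    ∃ N : ℕ, ∀ m : ℕ, N ≤ m → 0 ≤ p.eval (m : ℚ)
  zhyp : ∀ G : X.Modules, Coh.IsCoh G → ShStab.IsHilbPoly k X L G 0 → IsZero G
  zero : ∀ G : X.Modules, IsZero G → ∀ p : ℚ[X], ShStab.IsHilbPoly k X L G p → p = 0
  iso : ∀ (F G : X.Modules) (_ : F ≅ G) (p : ℚ[X]), ShStab.IsHilbPoly k X L F p →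
    ShStab.IsHilbPoly k X L G p
  uniq : ∀ (G : X.Modules) (p q : ℚ[X]), ShStab.IsHilbPoly k X L G p →
    ShStab.IsHilbPoly k X L G q → p = q
  sp : ∀ G : X.Modules, Coh.IsCoh G →
    topologicalKrullDim (CohB1.support G) = (d : WithBot ℕ∞) →
    ∀ P : ℚ[X], ShStab.IsHilbPoly k X L G P → 0 < StabCat.alpha d P
  coeff : ∀ (Q : ℚ[X]) (e : ℕ), Q.natDegree ≤ e →
    (∃ N : ℕ, ∀ m : ℕ, N ≤ m → 0 ≤ Q.eval (m : ℚ)) → 0 ≤ Q.coeff e

variable {k X}

theorem alpha_sub' (d : ℕ) (p q : ℚ[X]) :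
    StabCat.alpha d (p - q) = StabCat.alpha d p - StabCat.alpha d q := by
  unfold StabCat.alpha
  rw [coeff_sub]
  ring

theorem alpha_zero' (d : ℕ) : StabCat.alpha d (0 : ℚ[X]) = 0 := by
  simp [StabCat.alpha]

theorem sub_data {L : X.Modules} {d : ℕ} {E : X.Modules} (H : Hyps k X L d E)
    (hc : Coh.IsCoh E) (hp : ShStab.IsPure X E d)
    (F : X.Modules) (ι : F ⟶ E) (hm : Mono ι) (hF : Coh.IsCoh F) (pF pE : ℚ[X])
    (hpF : ShStab.IsHilbPoly k X L F pF) (hpE : ShStab.IsHilbPoly k X L E pE) :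
    pF.natDegree ≤ d ∧ pE.natDegree ≤ d ∧
      (∃ N : ℕ, ∀ m : ℕ, N ≤ m → 0 ≤ (pE - pF).eval (m : ℚ)) ∧
      StabCat.alpha d pF ≤ StabCat.alpha d pE ∧ (¬ IsIso ι → pE - pF ≠ 0) := by
  have dF := H.deg hp hc F ι hm hF pF hpF
  have dE := H.deg hp hc E (𝟙 E) inferInstance hc pE hpE
  obtain ⟨hQ, hpQ⟩ := H.cok hc F ι hm hF pF pE hpF hpE
  have enn := H.enn _ hQ _ hpQ
  have hdeg : (pE - pF).natDegree ≤ d := (natDegree_sub_le _ _).trans (max_le dE dF)
  have hco := H.coeff _ d hdeg enn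
  refine ⟨dF, dE, enn, ?_, ?_⟩
  · have h0 : 0 ≤ StabCat.alpha d (pE - pF) := by
      unfold StabCat.alpha
      exact mul_nonneg (Nat.cast_nonneg _) hco
    rw [alpha_sub'] at h0
    linarith
  · intro hni h0
    apply hni
    rw [h0] at hpQ
    have hz := H.zhyp _ hQ hpQ
    haveI := hm
    haveI : Epi ι := Preadditive.epi_of_isZero_cokernel ι hz
    exact isIso_of_mono_of_epi ι

theorem ss_iff_ell {L : X.Modules} {d : ℕ} {E : X.Modules} (H : Hyps k X L d E) :
    ShStab.IsSemistable k X L E d ↔ ShStab.IsEllSemistable k X L E d d := by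
  constructor
  · rintro ⟨hc, hnz, hp, hss⟩
    refine ⟨hc, hnz, hp, ?_⟩
    intro F ι hm hF pF pE hpF hpE h1 h2
    obtain ⟨dF, dE, -, -, -⟩ := sub_data H hc hp F ι hm hF pF pE hpF hpE
    have hz : ¬ IsZero F := fun hz => by
      have e := H.zero F hz pF hpF
      rw [e, alpha_zero'] at h1
      exact lt_irrefl _ h1
    have hni : ¬ IsIso ι := fun hi => by
      haveI := hi
      have h3 := H.iso F E (asIso ι) pF hpF
      have e := H.uniq E pF pE h3 hpE
      rw [e] at h2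
      exact lt_irrefl _ h2
    have h4 := hss F ι hm hF hz hni pF pE hpF hpE
    rw [topPart_self d pF dF, topPart_self d pE dE]
    exact h4
  · rintro ⟨hc, hnz, hp, hell⟩
    refine ⟨hc, hnz, hp, ?_⟩
    intro F ι hm hF hz hni pF pE hpF hpE
    obtain ⟨dF, dE, enn, hle, -⟩ := sub_data H hc hp F ι hm hF pF pE hpF hpE
    have hpos : 0 < StabCat.alpha d pF := H.sp F hF (hp F ι hm hF hz) pF hpF
    rcases lt_or_eq_of_le hle with hlt | heq
    · have h4 := hell F ι hm hF pF pE hpF hpE hpos hlt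
      rwa [topPart_self d pF dF, topPart_self d pE dE] at h4
    · exact redLE_of_alpha_eq d pF pE heq hpos enn

theorem st_iff_ell {L : X.Modules} {d : ℕ} {E : X.Modules} (H : Hyps k X L d E) :
    ShStab.IsStable k X L E d ↔ ShStab.IsEllStable k X L E d d := by
  constructor
  · rintro ⟨hc, hnz, hp, hss⟩
    refine ⟨hc, hnz, hp, ?_⟩
    intro F ι hm hF pF pE hpF hpE h1 h2
    obtain ⟨dF, dE, -, -, -⟩ := sub_data H hc hp F ι hm hF pF pE hpF hpE
    have hz : ¬ IsZero F := fun hz => by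
      have e := H.zero F hz pF hpF
      rw [e, alpha_zero'] at h1
      exact lt_irrefl _ h1
    have hni : ¬ IsIso ι := fun hi => by
      haveI := hi
      have h3 := H.iso F E (asIso ι) pF hpF
      have e := H.uniq E pF pE h3 hpE
      rw [e] at h2
      exact lt_irrefl _ h2
    have h4 := hss F ι hm hF hz hni pF pE hpF hpE
    rw [topPart_self d pF dF, topPart_self d pE dE]
    exact h4
  · rintro ⟨hc, hnz, hp, hell⟩
    refine ⟨hc, hnz, hp, ?_⟩
    intro F ι hm hF hz hni pF pE hpF hpE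
    obtain ⟨dF, dE, enn, hle, hne⟩ := sub_data H hc hp F ι hm hF pF pE hpF hpE
    have hpos : 0 < StabCat.alpha d pF := H.sp F hF (hp F ι hm hF hz) pF hpF
    rcases lt_or_eq_of_le hle with hlt | heq
    · have h4 := hell F ι hm hF pF pE hpF hpE hpos hlt
      rwa [topPart_self d pF dF, topPart_self d pE dE] at h4
    · exact redLT_of_alpha_eq d pF pE heq hpos (eventually_pos _ (hne hni) enn)

end Groth.Agent.Helper1.EllStab
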