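import Mathlib
import Groth.Agent.Lib.Lead.Flat3
import Groth.Agent.Lib.Lead.Depth17
import Groth.Agent.Lib.Lead.Hom16
import Groth.Agent.Lib.Helper4.RkLocus
import Groth.Agent.S14359
import Groth.Agent.S0602

/-!
# Serre's criterion for normality: `R₁ + S₂`
-/

set_option autoImplicit false
universe u
open Polynomial IsLocalRing LocCoh

namespace Groth.Agent.Helper1.SerreNormal

section Transfer

theorem depth_dim_eq_of_ringEquiv {A B : Type u} [CommRing A] [CommRing B] [IsLocalRing A]
    [IsLocalRing B] [IsNoetherianRing A] [IsNoetherianRing B] (e : A ≃+* B) :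
    LocCoh.depth B B = LocCoh.depth A A ∧ ringKrullDim B = ringKrullDim A := by
  refine Groth.Agent.Lead.Depth.depth_and_dim_eq_of_flat_ringHom A B (e : A →+* B)
    (RingHom.Flat.of_bijective e.bijective) ?_
  have hmap : Ideal.map (e : A →+* B) (maximalIdeal A) = maximalIdeal B :=
    IsLocalRing.map_ringEquiv_maximalIdeal e
  rw [hmap, Ideal.minimalPrimes_eq_subsingleton_self]
  exact Set.mem_singleton _

theorem min_le_depth_of_hasSk {A : Type u} [CommRing A] [IsLocalRing A] [IsNoetherianRing A]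
    (k : ℕ) (h : LocCoh.HasSk k A A) :
    min (k : WithBot ℕ∞) (ringKrullDim A) ≤ ((LocCoh.depth A A : ℕ∞) : WithBot ℕ∞) := by
  have h1 := (Groth.Agent.Lead.Depth.hasSk_self_iff k).mp h (maximalIdeal A)
  let e : A ≃+* Localization.AtPrime (maximalIdeal A) :=
    (IsLocalization.atUnits A (maximalIdeal A).primeCompl
      (fun x hx => IsLocalRing.notMem_maximalIdeal.mp hx)).toRingEquiv
  obtain ⟨hd, hdim⟩ := depth_dim_eq_of_ringEquiv e
  rw [hd, hdim] at h1
  exact h1

theorem hasSk_localization {R : Type u} [CommRing R] [IsNoetherianRing R] (k : ℕ)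
    (h : LocCoh.HasSk k R R) (p : Ideal R) [p.IsPrime] :
    LocCoh.HasSk k (Localization.AtPrime p) (Localization.AtPrime p) := by
  rw [Groth.Agent.Lead.Depth.hasSk_self_iff] at h ⊢
  intro P hP
  have e := IsLocalization.localizationLocalizationAtPrimeIsoLocalization p.primeCompl P
  obtain ⟨hd, hdim⟩ := depth_dim_eq_of_ringEquiv e.toRingEquiv
  rw [hd, hdim]
  exact h _

theorem hasRk_localization {R : Type u} [CommRing R] (k : ℕ) (h : LocCoh.HasRk k R)
    (p : Ideal R) [p.IsPrime] : LocCoh.HasRk k (Localization.AtPrime p) :=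
  (Groth.Agent.Helper4.RkLocus.hasRkAt_iff k p).mpr (fun q _ _ hht => h q hht)

end Transfer

section Key

/-- The key lemma: under `R₁ + S₂`, a fraction `a / b` with `b` a nonzerodivisor which is integral
(expressed through `scaleRoots`) lies in the ring. -/
theorem mem_span_of_scaleRoots_eval_eq_zero {A : Type u} [CommRing A] [IsNoetherianRing A]
    (hR1 : LocCoh.HasRk 1 A) (hS2 : LocCoh.HasSk 2 A A) (a b : A) (hb : b ∈ nonZeroDivisors A)
    (P : A[X]) (hP : P.Monic) (h : (P.scaleRoots b).eval a = 0) :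
    a ∈ Ideal.span ({b} : Set A) := by
  by_contra hne
  have ha0 : (Ideal.Quotient.mk (Ideal.span ({b} : Set A)) a) ≠ 0 := by
    rwa [Ne, Ideal.Quotient.eq_zero_iff_mem]
  obtain ⟨q, hqass, hann⟩ := exists_le_isAssociatedPrime_of_isNoetherianRing A _ ha0
  have hqprime : q.IsPrime := hqass.isPrime
  have hqmem : q ∈ associatedPrimes A (A ⧸ Ideal.span ({b} : Set A)) := hqass
  have hbq : b ∈ q :=
    Groth.Agent.Lead.Depth.mem_of_mem_associatedPrimes_quotient_span_singleton b q hqmem
  have hreg : IsSMulRegular A b := by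
    intro x y hxy
    have hxy' : b * x = b * y := hxy
    have h0 : b * (x - y) = 0 := by rw [mul_sub, hxy', sub_self]
    exact sub_eq_zero.mp ((mem_nonZeroDivisors_iff.mp hb).1 _ h0)
  have hqtop : q ≠ ⊤ := hqprime.ne_top
  have hqM := Groth.Agent.Lead.Depth.smul_top_quotient_span_singleton_ne_top q hqtop b hbq
  have h0 := Groth.Agent.Lead.Depth.idealDepth_eq_zero_of_mem_associatedPrimes _ q hqmem hqM
  have h1 : LocCoh.idealDepth q A = 1 := by
    rw [← Groth.Agent.Lead.Depth.idealDepth_quotient_span_singleton_self_add_one q hqtop b hbq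
      hreg, h0, zero_add]
  obtain ⟨q', hqq', hq'⟩ := Groth.Agent.Lead.Depth.exists_prime_depth_localizedModule_le q A (by
    rw [smul_eq_mul, Ideal.mul_top]; exact hqtop)
  have hSq := hS2 q'.asIdeal
  rw [Groth.Agent.Lead.Depth.supportDim_localizedModule_self, hq', h1] at hSq
  have hq1 : q'.asIdeal.height ≤ 1 := by
    have h2 : min ((2 : ℕ∞) : WithBot ℕ∞) ((q'.asIdeal.height : ℕ∞) : WithBot ℕ∞) ≤
        ((1 : ℕ∞) : WithBot ℕ∞) := hSq
    rw [← WithBot.coe_min, WithBot.coe_le_coe, min_le_iff] at h2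
    rcases h2 with h2 | h2
    · exact absurd h2 (by norm_num)
    · exact h2
  have hqht : q.height ≤ 1 := (Ideal.height_mono hqq').trans hq1
  -- the localization at `q` is regular, hence a normal domain
  have hregB : IsRegularLocalRing (Localization.AtPrime q) := hR1 q (by exact_mod_cast hqht)
  have hdomB : IsDomain (Localization.AtPrime q) := Groth.Agent.Lead.RLR.isDomain _
  have hicB : IsIntegrallyClosed (Localization.AtPrime q) :=
    Groth.Agent.Lead.Hom.isIntegrallyClosed_of_isRegularLocalRing _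
  obtain ⟨φ, hφ⟩ : ∃ φ : A →+* FractionRing (Localization.AtPrime q),
      φ = (algebraMap (Localization.AtPrime q) (FractionRing (Localization.AtPrime q))).comp
        (algebraMap A (Localization.AtPrime q)) := ⟨_, rfl⟩
  have hψinj : Function.Injective
      (algebraMap (Localization.AtPrime q) (FractionRing (Localization.AtPrime q))) :=
    IsFractionRing.injective _ _
  have hb1 : algebraMap A (Localization.AtPrime q) b ≠ 0 := by
    intro hb0
    rw [← map_zero (algebraMap A (Localization.AtPrime q)),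
      IsLocalization.eq_iff_exists q.primeCompl] at hb0
    obtain ⟨c, hc⟩ := hb0
    rw [mul_zero] at hc
    have hc0 : (c : A) = 0 := (mem_nonZeroDivisors_iff.mp hb).2 _ hc
    exact c.2 (by rw [hc0]; exact q.zero_mem)
  have hφb : φ b ≠ 0 := by
    rw [hφ, RingHom.comp_apply]
    intro h0
    exact hb1 (hψinj (by rw [h0, map_zero]))
  obtain ⟨x, hx⟩ : ∃ x, x = φ a / φ b := ⟨_, rfl⟩
  have hbx : φ b * x = φ a := by rw [hx, mul_div_cancel₀ _ hφb]
  have heval : Polynomial.eval₂ φ x P = 0 := by
    have h2 := Polynomial.scaleRoots_eval₂_mul (p := P) φ x b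
    rw [hbx, Polynomial.eval₂_at_apply, h, map_zero] at h2
    exact (mul_eq_zero.mp h2.symm).resolve_left (pow_ne_zero _ hφb)
  have hint : IsIntegral (Localization.AtPrime q) x := by
    refine ⟨P.map (algebraMap A (Localization.AtPrime q)), hP.map _, ?_⟩
    rw [Polynomial.eval₂_map, ← hφ]
    exact heval
  obtain ⟨y, hy⟩ := IsIntegrallyClosed.isIntegral_iff.mp hint
  obtain ⟨⟨r, s⟩, hrs⟩ := IsLocalization.surj q.primeCompl y
  have hrs' : y * algebraMap A (Localization.AtPrime q) (s : A) =
      algebraMap A (Localization.AtPrime q) r := hrs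
  have h3 : algebraMap A (Localization.AtPrime q) a =
      algebraMap A (Localization.AtPrime q) b * y := by
    apply hψinj
    rw [map_mul, hy]
    have h4 := hbx
    rw [hφ, RingHom.comp_apply, RingHom.comp_apply] at h4
    exact h4.symm
  have h4 : algebraMap A (Localization.AtPrime q) (a * s) =
      algebraMap A (Localization.AtPrime q) (b * r) := by
    rw [map_mul, map_mul, h3, mul_assoc, hrs']
  obtain ⟨t, ht⟩ := (IsLocalization.eq_iff_exists q.primeCompl _).mp h4
  have h5 : ((t : A) * s) ∈ (⊥ : Submodule A (A ⧸ Ideal.span ({b} : Set A))).colon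
      {Ideal.Quotient.mk (Ideal.span ({b} : Set A)) a} := by
    rw [Submodule.mem_colon_singleton, Submodule.mem_bot]
    have h6 : ((t : A) * s) • (Ideal.Quotient.mk (Ideal.span ({b} : Set A)) a) =
        Ideal.Quotient.mk (Ideal.span ({b} : Set A)) ((t : A) * s * a) := by
      rw [map_mul]; rfl
    rw [h6, Ideal.Quotient.eq_zero_iff_mem, Ideal.mem_span_singleton]
    exact ⟨t * r, by linear_combination ht⟩
  have h6 : (t : A) * s ∈ q := hann h5
  rcases hqprime.mem_or_mem h6 with h7 | h7
  · exact t.2 h7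
  · exact s.2 h7

theorem eval_scaleRoots_idem {A : Type u} [CommRing A] [Nontrivial A] (a b : A) :
    ((X ^ 2 - X : A[X]).scaleRoots b).eval a = a * a - a * b := by
  have hdeg : (X ^ 2 - X : A[X]).natDegree = 2 := by
    rw [natDegree_sub_eq_left_of_natDegree_lt] <;> simp
  rw [eval_eq_sum_range, natDegree_scaleRoots, hdeg]
  simp [Finset.sum_range_succ, coeff_scaleRoots, hdeg, coeff_X_pow, coeff_X]
  ring

end Key

section Domain

theorem isIntegrallyClosed_of_domain {A : Type u} [CommRing A] [IsDomain A]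
    (hK : ∀ (a b : A), b ∈ nonZeroDivisors A → ∀ P : A[X], P.Monic →
      (P.scaleRoots b).eval a = 0 → a ∈ Ideal.span ({b} : Set A)) :
    IsIntegrallyClosed A := by
  rw [isIntegrallyClosed_iff (FractionRing A)]
  intro x hx
  obtain ⟨P, hP, hPx⟩ := hx
  obtain ⟨⟨a, b⟩, hab⟩ := IsLocalization.surj (nonZeroDivisors A) x
  have hab1 : x * algebraMap A (FractionRing A) (b : A) = algebraMap A (FractionRing A) a := hab
  have hab' : algebraMap A (FractionRing A) (b : A) * x = algebraMap A (FractionRing A) a := by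
    rw [mul_comm]; exact hab1
  have hinj : Function.Injective (algebraMap A (FractionRing A)) := IsFractionRing.injective _ _
  have h1 : (P.scaleRoots (b : A)).eval a = 0 := by
    apply hinj
    rw [map_zero, ← Polynomial.eval₂_at_apply, ← hab', Polynomial.scaleRoots_eval₂_mul, hPx,
      mul_zero]
  have h2 := hK a b b.2 P hP h1
  obtain ⟨y, hy⟩ := Ideal.mem_span_singleton'.mp h2
  refine ⟨y, ?_⟩
  have hb0 : algebraMap A (FractionRing A) (b : A) ≠ 0 := by
    intro h0
    exact nonZeroDivisors.coe_ne_zero b (hinj (by rw [h0, map_zero]))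
  apply mul_right_cancel₀ hb0
  rw [hab1, ← hy, map_mul]

theorem isDomain_of_local {A : Type u} [CommRing A] [IsLocalRing A] [IsNoetherianRing A]
    [IsReduced A]
    (hK : ∀ (a b : A), b ∈ nonZeroDivisors A → a * a = a * b → a ∈ Ideal.span ({b} : Set A)) :
    IsDomain A := by
  classical
  have hfin := minimalPrimes.finite_of_isNoetherianRing A
  obtain ⟨s, hs⟩ : ∃ s : Finset (Ideal A), s = hfin.toFinset := ⟨_, rfl⟩
  have hmem : ∀ p, p ∈ s ↔ p ∈ minimalPrimes A := fun p => by rw [hs, Set.Finite.mem_toFinset]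
  have hprime : ∀ p ∈ s, p.IsPrime := fun p hp => ((hmem p).mp hp).1.1
  have hminimal : ∀ p ∈ s, ∀ p' ∈ s, p ≤ p' → p = p' := by
    intro p hp p' hp' hle
    have h1 := (hmem p').mp hp'
    exact le_antisymm hle (h1.2 ⟨hprime p hp, bot_le⟩ hle)
  have hinf : s.inf id = ⊥ := by
    rw [Finset.inf_id_eq_sInf, hs, Set.Finite.coe_toFinset]
    show sInf (⊥ : Ideal A).minimalPrimes = ⊥
    rw [Ideal.sInf_minimalPrimes]
    exact nilradical_eq_zero A
  have hsub : ∀ p₁ ∈ s, ∀ p₂ ∈ s, p₁ = p₂ := by
    intro p₁ h₁ p₂ h₂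
    by_contra hne
    obtain ⟨J, hJ⟩ : ∃ J : Ideal A, J = (s.erase p₁).inf id := ⟨_, rfl⟩
    have hJp₂ : J ≤ p₂ := by
      rw [hJ]
      exact Finset.inf_le (f := id) (Finset.mem_erase.mpr ⟨fun h => hne h.symm, h₂⟩)
    have hinter : p₁ ⊓ J = ⊥ := by
      rw [hJ, ← hinf]
      conv_rhs => rw [← Finset.insert_erase h₁, Finset.inf_insert]
      rfl
    have hnot : ¬ ∃ i ∈ s, p₁ ⊔ J ≤ id i := by
      rintro ⟨i, hi, hle⟩
      have hle' : p₁ ⊔ J ≤ i := hle
      have h1 : p₁ = i := hminimal p₁ h₁ i hi (le_sup_left.trans hle')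
      have h2 : J ≤ p₁ := by rw [h1]; exact le_sup_right.trans hle'
      rw [hJ, Ideal.IsPrime.inf_le' (hprime p₁ h₁)] at h2
      obtain ⟨j, hj, hjle⟩ := h2
      have hj' := Finset.mem_erase.mp hj
      exact hj'.1 (hminimal j hj'.2 p₁ h₁ hjle)
    rw [← Ideal.subset_union_prime (f := id) p₁ p₁ (fun i hi _ _ => hprime i hi),
      Set.not_subset] at hnot
    obtain ⟨b, hbmem, hbnot⟩ := hnot
    have hbnot' : ∀ i ∈ s, b ∉ i := by
      intro i hi hbi
      apply hbnot
      simp only [Set.mem_iUnion]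
      exact ⟨i, hi, hbi⟩
    obtain ⟨c, hc, a, ha, hcab⟩ := Submodule.mem_sup.mp hbmem
    have hbnzd : b ∈ nonZeroDivisors A := by
      have key : ∀ x, b * x = 0 → x = 0 := by
        intro x hx
        have hx' : x ∈ s.inf id := by
          rw [Submodule.mem_finsetInf]
          intro i hi
          have h1 : b * x ∈ i := by rw [hx]; exact i.zero_mem
          exact ((hprime i hi).mem_or_mem h1).resolve_left (hbnot' i hi)
        rw [hinf] at hx'
        exact (Submodule.mem_bot A).mp hx'
      rw [mem_nonZeroDivisors_iff]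
      exact ⟨key, fun x hx => key x (by rw [mul_comm]; exact hx)⟩
    have hac : a * c = 0 := by
      have h1 : a * c ∈ p₁ ⊓ J :=
        ⟨p₁.mul_mem_left a hc, J.mul_mem_right c ha⟩
      rw [hinter] at h1
      exact (Submodule.mem_bot A).mp h1
    have haa : a * a = a * b := by
      rw [← hcab, mul_add, hac, zero_add]
    obtain ⟨t, ht⟩ := Ideal.mem_span_singleton'.mp (hK a b hbnzd haa)
    have key := (mem_nonZeroDivisors_iff.mp hbnzd).2
    have htt : t * t - t = 0 := by
      apply key
      apply key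
      have : (t * t - t) * b * b = (t * b) * (t * b) - (t * b) * b := by ring
      rw [this, ht, haa, sub_self]
    rcases IsLocalRing.isUnit_or_isUnit_one_sub_self t with hu | hu
    · -- t = 1
      have h1 : t = 1 := by
        have h2 : t * (t - 1) = 0 := by rw [mul_sub, mul_one]; exact htt
        have h3 := (hu.mul_right_eq_zero).mp h2
        exact sub_eq_zero.mp h3
      rw [h1, one_mul] at ht
      have hbp₂ : b ∈ p₂ := by rw [ht]; exact hJp₂ ha
      exact hbnot' p₂ h₂ hbp₂
    · -- t = 0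
      have h1 : t = 0 := by
        have h2 : (1 - t) * t = 0 := by
          have : (1 - t) * t = -(t * t - t) := by ring
          rw [this, htt, neg_zero]
        exact (hu.mul_right_eq_zero).mp h2
      rw [h1, zero_mul] at ht
      have hbp₁ : b ∈ p₁ := by rw [← hcab, ← ht, add_zero]; exact hc
      exact hbnot' p₁ h₁ hbp₁
  obtain ⟨p₀, hp₀, -⟩ := Ideal.exists_minimalPrimes_le
    (bot_le : (⊥ : Ideal A) ≤ maximalIdeal A)
  have hp₀s : p₀ ∈ s := (hmem p₀).mpr hp₀
  have hseq : s = {p₀} := by
    ext p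
    rw [Finset.mem_singleton]
    exact ⟨fun hp => hsub p hp p₀ hp₀s, fun hp => hp ▸ hp₀s⟩
  have hbot : p₀ = ⊥ := by
    rw [← hinf, hseq, Finset.inf_singleton]
    rfl
  have hbp : (⊥ : Ideal A).IsPrime := hbot ▸ hprime p₀ hp₀s
  exact IsDomain.of_bot_isPrime A

end Domain

section Main

theorem normal_of_local {A : Type u} [CommRing A] [IsLocalRing A] [IsNoetherianRing A]
    (hR1 : LocCoh.HasRk 1 A) (hS2 : LocCoh.HasSk 2 A A) :
    IsDomain A ∧ IsIntegrallyClosed A := by
  have hR0 : LocCoh.HasRk 0 A := fun p _ h =>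
    hR1 p (h.trans (by exact_mod_cast zero_le_one))
  have hS1 : LocCoh.HasSk 1 A A := fun p _ =>
    (min_le_min_right _ (by exact_mod_cast one_le_two)).trans (hS2 p)
  have hred : IsReduced A := (Groth.Agent.S0602.result A).mpr ⟨hR0, hS1⟩
  have hdom : IsDomain A := isDomain_of_local (fun a b hb hab =>
    mem_span_of_scaleRoots_eval_eq_zero hR1 hS2 a b hb (X ^ 2 - X)
      (monic_X_pow_sub (lt_of_le_of_lt degree_X_le (by norm_num)))
      (by rw [eval_scaleRoots_idem, hab, sub_self]))
  exact ⟨hdom, isIntegrallyClosed_of_domain (fun a b hb P hP h =>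
    mem_span_of_scaleRoots_eval_eq_zero hR1 hS2 a b hb P hP h)⟩

theorem isRegularLocalRing_of_normal_of_dim_le_one {A : Type u} [CommRing A] [IsLocalRing A]
    [IsNoetherianRing A] [IsDomain A] [IsIntegrallyClosed A] (hdim : ringKrullDim A ≤ 1) :
    IsRegularLocalRing A := by
  by_cases hf : IsField A
  · let _ := hf.toField
    infer_instance
  · have h1 : Ring.KrullDimLE 1 A := Ring.krullDimLE_iff.mpr hdim
    have hmax := Ring.krullDimLE_one_iff_of_noZeroDivisors.mp h1
    have hDVR : IsDiscreteValuationRing A := by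
      have h03 := (IsDiscreteValuationRing.TFAE A hf).out 0 3
      refine h03.mpr ⟨inferInstance, maximalIdeal A, ⟨?_, inferInstance⟩, ?_⟩
      · intro h
        exact hf (IsLocalRing.isField_iff_maximalIdeal_eq.mpr h)
      · rintro P ⟨hP0, hPprime⟩
        exact IsLocalRing.eq_maximalIdeal (hmax P hP0 hPprime)
    infer_instance

theorem hasSk_two_of_normal_domain {A : Type u} [CommRing A] [IsDomain A] [IsNoetherianRing A]
    [IsIntegrallyClosed A] : LocCoh.HasSk 2 A A :=
  Groth.Agent.Lead.Depth.hasSk_two_iff_of_isDomain.mpr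
    (fun a ha P hP => Groth.Agent.S14359.result A a ha P hP)

theorem serre_criterion (R : Type u) [CommRing R] [IsNoetherianRing R] :
    (∀ (p : Ideal R) [p.IsPrime], IsDomain (Localization.AtPrime p) ∧
      IsIntegrallyClosed (Localization.AtPrime p)) ↔
      (LocCoh.HasRk 1 R ∧ LocCoh.HasSk 2 R R) := by
  constructor
  · intro h
    refine ⟨?_, ?_⟩
    · intro p hp hht
      obtain ⟨hd, hic⟩ := h p
      apply isRegularLocalRing_of_normal_of_dim_le_one
      rw [IsLocalization.AtPrime.ringKrullDim_eq_height p]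
      exact_mod_cast hht
    · rw [Groth.Agent.Lead.Depth.hasSk_self_iff]
      intro p hp
      obtain ⟨hd, hic⟩ := h p
      exact min_le_depth_of_hasSk 2 hasSk_two_of_normal_domain
  · rintro ⟨hR1, hS2⟩ p hp
    exact normal_of_local (hasRk_localization 1 hR1 p) (hasSk_localization 2 hS2 p)

end Main

end Groth.Agent.Helper1.SerreNormal
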