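import Mathlib
import Groth.Prelude.Def_ShStab
import Groth.Agent.Lib.Helper1.EllStab
import Groth.Agent.Lib.Lead.ShStabHom
import Groth.Agent.Lib.Lead.SPosPlug
import Groth.Agent.Lib.Helper13.HilbZero

/-!
# Gieseker (semi)stability is `ℓ`-(semi)stability for `ℓ = d`: plugging the inputs (S15217, S15218)
-/

set_option autoImplicit false
universe u

open CategoryTheory CategoryTheory.Limits AlgebraicGeometry Polynomial

namespace Groth.Agent.Helper1.EllStab

theorem hyps (k : Type u) [Field k] (X : Scheme.{u}) [X.Over (Spec (CommRingCat.of k))]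
    [IsProper (X ↘ Spec (CommRingCat.of k))] (L : X.Modules) (hL : CohB1.IsAmple L) (d : ℕ)
    (E : X.Modules) : Hyps k X L d E where
  deg := fun hp _ F ι hm hF p hpF => by
    haveI := hm
    obtain ⟨p1, d1⟩ := Groth.Agent.Lead.ShStabHom.pdata_of_sub k X L hL E d hp F ι hF
    rw [Groth.Agent.Helper25.ShStabFormal.hilbPoly_unique k X L F p p1 hpF d1.hp]
    exact d1.deg
  cok := fun hc F ι hm hF pF pE hpF hpE => by
    haveI := hm
    exact Groth.Agent.Helper6.HilbDeg.isHilbPoly_cokernel k X L hL.1 hF hc ι pF pE hpF hpE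
  enn := fun G hG p hp => Groth.Agent.Lead.ShStabHom.enn_of_isHilbPoly k X L hL G hG p hp
  zhyp := fun G hG h => Groth.Agent.Helper13.HilbZero.isZero_of_isHilbPoly_zero k X L hL G hG h
  zero := fun G hz p hp =>
    Groth.Agent.Helper25.ShStabFormal.hilbPoly_eq_zero_of_isZero k X L G hz p hp
  iso := fun _ _ e p hp => Groth.Agent.Helper25.ShStabFormal.isHilbPoly_of_iso k X L e p hp
  uniq := fun G p q hp hq => Groth.Agent.Helper25.ShStabFormal.hilbPoly_unique k X L G p q hp hq
  sp := fun G hG hd P hP => Groth.Agent.Lead.SPosPlug.sp k X L hL G d hG hd P hP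
  coeff := fun Q e h1 h2 =>
    Groth.Agent.Helper25.ShStabFormal.coeff_nonneg_of_eventually_nonneg Q e h1 h2

theorem main15217 (k : Type u) [Field k] (X : Scheme.{u}) [X.Over (Spec (CommRingCat.of k))]
    [IsProper (X ↘ Spec (CommRingCat.of k))] (L : X.Modules) (hL : CohB1.IsAmple L) (d : ℕ)
    (E : X.Modules) : ShStab.IsSemistable k X L E d ↔ ShStab.IsEllSemistable k X L E d d :=
  ss_iff_ell (hyps k X L hL d E)

theorem main15218 (k : Type u) [Field k] (X : Scheme.{u}) [X.Over (Spec (CommRingCat.of k))]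
    [IsProper (X ↘ Spec (CommRingCat.of k))] (L : X.Modules) (hL : CohB1.IsAmple L) (d : ℕ)
    (E : X.Modules) : ShStab.IsStable k X L E d ↔ ShStab.IsEllStable k X L E d d :=
  st_iff_ell (hyps k X L hL d E)

end Groth.Agent.Helper1.EllStab
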