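import Groth.Agent.Lib.Helper1.HFlat10

/-!
# Incomparability for the henselization

Two primes of a henselization `S` of `R`, one strictly contained in the other, have different
contractions to `R`.
-/

set_option autoImplicit false

namespace Groth.Agent.Helper1.FC

open IsLocalRing Groth.Agent.Helper1.HFlat

universe u

/-- incomparability for a ring homomorphism -/
def INC {A B : Type*} [Semiring A] [Semiring B] (f : A →+* B) : Prop :=
  ∀ (P₀ P : Ideal B), P₀.IsPrime → P.IsPrime → P₀ < P → P₀.comap f < P.comap f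

theorem INC.id (A : Type*) [Semiring A] : INC (RingHom.id A) := by
  intro P₀ P _ _ h
  simpa [Ideal.comap_id] using h

theorem INC.comp {A B C : Type*} [Semiring A] [Semiring B] [Semiring C] {f : A →+* B}
    {g : B →+* C} (hf : INC f) (hg : INC g) : INC (g.comp f) := by
  intro P₀ P h₀ h hlt
  have h1 := hg P₀ P h₀ h hlt
  have h2 := hf (P₀.comap g) (P.comap g) (Ideal.comap_isPrime g P₀) (Ideal.comap_isPrime g P) h1
  rwa [Ideal.comap_comap, Ideal.comap_comap] at h2

theorem INC.of_isIntegral {A B : Type*} [CommRing A] [CommRing B] [Algebra A B]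
    [Algebra.IsIntegral A B] : INC (algebraMap A B) := by
  intro P₀ P h₀ _ hlt
  obtain ⟨x, hxP, hxP₀⟩ := SetLike.exists_of_lt hlt
  exact Ideal.comap_lt_comap_of_integral_mem_sdiff hlt.le ⟨hxP, hxP₀⟩
    (Algebra.IsIntegral.isIntegral x)

theorem INC.of_isLocalization {A : Type*} [CommRing A] (M : Submonoid A) (B : Type*) [CommRing B]
    [Algebra A B] [IsLocalization M B] : INC (algebraMap A B) := by
  intro P₀ P _ _ hlt
  refine lt_of_le_of_ne (Ideal.comap_mono hlt.le) ?_
  intro heq
  have h1 : (P₀.comap (algebraMap A B)).map (algebraMap A B) = P₀ := IsLocalization.map_comap M B P₀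
  have h2 : (P.comap (algebraMap A B)).map (algebraMap A B) = P := IsLocalization.map_comap M B P
  rw [heq, h2] at h1
  exact hlt.ne h1.symm

theorem INC_Ext1 {B : Type u} [CommRing B] [IsLocalRing B] (δ : HData B) :
    INC (algebraMap B (Ext1 δ)) := by
  haveI : Algebra.IsIntegral B (Q (dpoly (fun _ : PUnit.{u + 1} => δ))) :=
    isIntegral_Q _ (dpoly_monic _)
  have h1 : INC (algebraMap B (Q (dpoly (fun _ : PUnit.{u + 1} => δ)))) := INC.of_isIntegral
  have h2 : INC (algebraMap (Q (dpoly (fun _ : PUnit.{u + 1} => δ))) (Ext1 δ)) := by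
    intro P₀ P h₀ h hlt
    exact INC.of_isLocalization (RingHom.ker (dφ (fun _ : PUnit.{u + 1} => δ))).primeCompl
      (Ext1 δ) P₀ P h₀ h hlt
  have h3 := h1.comp h2
  have e : (algebraMap (Q (dpoly (fun _ : PUnit.{u + 1} => δ))) (Ext1 δ)).comp
      (algebraMap B (Q (dpoly (fun _ : PUnit.{u + 1} => δ)))) = algebraMap B (Ext1 δ) :=
    (IsScalarTower.algebraMap_eq B (Q (dpoly (fun _ : PUnit.{u + 1} => δ))) (Ext1 δ)).symm
  intro P₀ P h₀ h hlt
  have h4 := h3 P₀ P h₀ h hlt
  rw [e] at h4
  exact h4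

section Good

variable {R S : Type u} [CommRing R] [IsLocalRing R] [CommRing S] [HenselianLocalRing S]
  {ψ : R →+* S}

theorem GoodMap.exists_INC [IsLocalHom ψ] {E : LocRing.{u}} {φ : E.A →+* S}
    (hg : GoodMap ψ E φ) : ∃ ι : R →+* E.A, φ.comp ι = ψ ∧ INC ι := by
  induction hg with
  | base => exact ⟨RingHom.id R, RingHom.comp_id _, INC.id R⟩
  | step E φ δ h ih =>
    obtain ⟨ι, hι, hinc⟩ := ih
    refine ⟨(algebraMap E.A (Ext1 δ)).comp ι, ?_, hinc.comp (INC_Ext1 δ)⟩
    rw [← hι]
    ext r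
    exact liftDNext_algebraMap _ φ (ι r)

/-- incomparability for the henselization -/
theorem INC_of_isHensHom (hψ : IsHensHom ψ) : INC ψ := by
  haveI := hψ.isLocalHom
  intro P₀ P h₀ h hlt
  obtain ⟨x, hxP, hxP₀⟩ := SetLike.exists_of_lt hlt
  obtain ⟨E, φ, hg, ⟨e, rfl⟩⟩ := exists_good hψ x
  obtain ⟨ι, hι, hinc⟩ := GoodMap.exists_INC hg
  have h1 : P₀.comap φ < P.comap φ := by
    refine lt_of_le_of_ne (Ideal.comap_mono hlt.le) ?_
    intro heq
    apply hxP₀
    have : e ∈ P.comap φ := hxP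
    rw [← heq] at this
    exact this
  have h2 := hinc _ _ (Ideal.comap_isPrime φ P₀) (Ideal.comap_isPrime φ P) h1
  rwa [Ideal.comap_comap, Ideal.comap_comap, hι] at h2

end Good

/-- a prime of the henselization is minimal over the extension of its contraction -/
theorem mem_minimalPrimes_map_comap (R S : Type u) [CommRing R] [IsLocalRing R] [CommRing S]
    [IsLocalRing S] [Algebra R S] [IsLocalHom (algebraMap R S)] [Hensel.IsHenselization R S]
    (P : Ideal S) [P.IsPrime] :
    P ∈ ((P.comap (algebraMap R S)).map (algebraMap R S)).minimalPrimes := by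
  haveI hS : HenselianLocalRing S := Hensel.IsHenselization.henselian (R := R)
  have hψ : IsHensHom (algebraMap R S) := IsHensHom.of_isHenselization R S
  refine ⟨⟨inferInstance, Ideal.map_comap_le⟩, ?_⟩
  rintro P₀ ⟨hP₀, hle⟩ hP₀P
  by_contra hnot
  have hlt : P₀ < P := lt_of_le_of_ne hP₀P (fun h => hnot (h ▸ le_rfl))
  have h1 := INC_of_isHensHom hψ P₀ P hP₀ inferInstance hlt
  have h2 : P.comap (algebraMap R S) ≤ P₀.comap (algebraMap R S) :=
    Ideal.map_le_iff_le_comap.mp hle
  exact absurd h1 (not_lt_of_ge h2)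

end Groth.Agent.Helper1.FC
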