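import Mathlib
import Groth.Prelude.Def_PBC
import Groth.Agent.Lib.Helper1.FP12

/-!
# Cohomology commutes with base change for finite morphisms
-/

set_option autoImplicit false
set_option linter.unusedSectionVars false
set_option linter.style.haveILetI false
open CategoryTheory CategoryTheory.Limits AlgebraicGeometry Opposite
universe u

namespace Groth.Agent.Helper1.FP

theorem cohCommutesWithBC_finite {X Y : Scheme.{u}} (f : X ⟶ Y) [IsFinite f] [EtCoh.BCCont f] :
    EtPBC.CohCommutesWithBC f := by
  intro X' Y' f' g' g _ _ _ h F _ q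
  haveI : IsFinite f' := MorphismProperty.of_isPullback (P := @IsFinite) h inferInstance
  rcases Nat.eq_zero_or_pos q with rfl | hq
  · haveI := preservesFiniteLimits_push' f
    haveI := preservesFiniteLimits_push' f'
    haveI := isIso_baseChange0_finite f g f' g' h F
    exact ⟨(EtCoh.pull g).mapIso ((EtCoh.push f).rightDerivedZeroIsoSelf.app F) ≪≫
      asIso (EtCoh.baseChange0 f g f' g' h.w F) ≪≫
      ((EtCoh.push f').rightDerivedZeroIsoSelf.app _).symm⟩
  · have h1 := isZero_Rpush_finite f F q hq
    have h2 := isZero_Rpush_finite f' ((EtCoh.pull g').obj F) q hq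
    exact ⟨(Functor.map_isZero (EtCoh.pull g) h1).iso h2⟩

end Groth.Agent.Helper1.FP
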