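import Mathlib
import Groth.Agent.Lib.Helper1.FP8
import Groth.Agent.Lib.Helper1.FP5
import Groth.Agent.Lib.Helper1.LC6
import Groth.Prelude.Def_BigSite

/-!
# Condition (C) for integral morphisms that are topologically closed embeddings
-/

set_option autoImplicit false
set_option linter.unusedSectionVars false
set_option linter.style.haveILetI false
open CategoryTheory CategoryTheory.Limits AlgebraicGeometry Opposite TopologicalSpace
universe u

namespace Groth.Agent.Helper1.FP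

/-- gluing morphisms along a cover by pairwise disjoint opens -/
lemma exists_glue_opens {Z T : Scheme.{u}} {κ : Type*} (W : κ → Z.Opens)
    (hdis : ∀ c c', c ≠ c' → Disjoint (W c) (W c')) (hcov : (⨆ c, W c) = ⊤)
    (k : ∀ c, (W c).toScheme ⟶ T) : ∃ h : Z ⟶ T, ∀ c, (W c).ι ≫ h = k c := by
  classical
  let 𝒰 : Z.OpenCover := Z.openCoverOfIsOpenCover W hcov
  have hf : ∀ x y : κ, pullback.fst (𝒰.f x) (𝒰.f y) ≫ k x =
      pullback.snd (𝒰.f x) (𝒰.f y) ≫ k y := by
    intro x y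
    by_cases hxy : x = y
    · subst hxy
      have : pullback.fst (𝒰.f x) (𝒰.f x) = pullback.snd (𝒰.f x) (𝒰.f x) :=
        (cancel_mono (𝒰.f x)).1 pullback.condition
      rw [this]
    · haveI : IsEmpty ↥(pullback (𝒰.f x) (𝒰.f y)) := by
        refine ⟨fun z => ?_⟩
        have e : (W x).ι ((pullback.fst (𝒰.f x) (𝒰.f y)) z) =
            (W y).ι ((pullback.snd (𝒰.f x) (𝒰.f y)) z) := by
          have := congrArg (fun m : pullback (𝒰.f x) (𝒰.f y) ⟶ Z => m z)
            (pullback.condition (f := 𝒰.f x) (g := 𝒰.f y))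
          simp only [Scheme.Hom.comp_apply] at this
          exact this
        have hx : (W x).ι ((pullback.fst (𝒰.f x) (𝒰.f y)) z) ∈ (W x : Set Z) := by
          have := Set.mem_range_self (f := (W x).ι) ((pullback.fst (𝒰.f x) (𝒰.f y)) z)
          rwa [Scheme.Opens.range_ι] at this
        have hy : (W y).ι ((pullback.snd (𝒰.f x) (𝒰.f y)) z) ∈ (W y : Set Z) := by
          have := Set.mem_range_self (f := (W y).ι) ((pullback.snd (𝒰.f x) (𝒰.f y)) z)
          rwa [Scheme.Opens.range_ι] at this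
        rw [← e] at hy
        have hbot := (hdis x y hxy).le_bot
          (show (W x).ι ((pullback.fst (𝒰.f x) (𝒰.f y)) z) ∈ (W x ⊓ W y : Z.Opens) from ⟨hx, hy⟩)
        exact hbot
      exact (isInitialOfIsEmpty).hom_ext _ _
  exact ⟨𝒰.glueMorphisms k hf, fun c => 𝒰.ι_glueMorphisms k hf c⟩

/-- the local step for condition (C) -/
theorem exists_local_propC {X Y U : Scheme.{u}} (f : X ⟶ Y) [IsIntegralHom f]
    (hf : Topology.IsClosedEmbedding f.base) (g : U ⟶ X) [Etale g] (u : U) :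
    ∃ (V : Scheme.{u}) (v : V ⟶ Y) (_ : Etale v) (h : pullback f v ⟶ U),
      h ≫ g = pullback.fst f v ∧ u ∈ Set.range h.base := by
  classical
  haveI : LocallyQuasiFinite g := LC.lqf_of_etale g
  -- Step 1: isolate `u` in its fibre
  have hdisc := g.isDiscrete_preimage_singleton (g u)
  have hu : u ∈ (g ⁻¹' {g u} : Set U) := rfl
  have hnh : ({u} : Set U) ∈ nhdsWithin u (g ⁻¹' {g u}) := by
    rw [hdisc.nhdsWithin u hu]
    exact Filter.mem_pure.2 rfl
  obtain ⟨O, hO, huO, hsub⟩ := mem_nhdsWithin.1 hnh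
  let U₁ : U.Opens := ⟨O, hO⟩
  -- Step 2: the open `V₀` of `Y`
  have hgO : IsOpen (g '' O) := g.isOpenMap O hO
  obtain ⟨V₀s, hV₀, hV₀eq⟩ := hf.isInducing.isOpen_iff.1 hgO
  let V₀ : Y.Opens := ⟨V₀s, hV₀⟩
  have hmemO : ∀ a : U₁.toScheme, U₁.ι a ∈ O := by
    intro a
    have := Set.mem_range_self (f := U₁.ι) a
    rwa [Scheme.Opens.range_ι] at this
  -- Step 3: `g₂ : U₁ ⟶ X ×_Y V₀`
  have hr : Set.range ((U₁.ι ≫ g) ≫ f) ⊆ Set.range V₀.ι := by
    rintro _ ⟨a, rfl⟩
    rw [Scheme.Opens.range_ι]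
    have h1 : g (U₁.ι a) ∈ g '' O := ⟨U₁.ι a, hmemO a, rfl⟩
    rw [← hV₀eq] at h1
    simp only [Scheme.Hom.comp_apply]
    exact h1
  let k₀ : U₁.toScheme ⟶ V₀.toScheme := IsOpenImmersion.lift V₀.ι ((U₁.ι ≫ g) ≫ f) hr
  have hk₀ : k₀ ≫ V₀.ι = (U₁.ι ≫ g) ≫ f := IsOpenImmersion.lift_fac _ _ _
  let g₂ : U₁.toScheme ⟶ pullback f V₀.ι := pullback.lift (U₁.ι ≫ g) k₀ hk₀.symm
  have hg₂ : g₂ ≫ pullback.fst f V₀.ι = U₁.ι ≫ g := pullback.lift_fst _ _ _
  haveI : Etale g₂ := by
    haveI : Etale (g₂ ≫ pullback.fst f V₀.ι) := by rw [hg₂]; infer_instance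
    exact MorphismProperty.of_postcomp (W := @Etale) (W' := @Etale) g₂ (pullback.fst f V₀.ι)
      inferInstance inferInstance
  have hsurj : ∀ p : ↥(pullback f V₀.ι), p ∈ Set.range g₂.base := by
    intro p
    have h1 : f ((pullback.fst f V₀.ι) p) ∈ V₀s := by
      have h2 := congrArg (fun m : pullback f V₀.ι ⟶ Y => m p)
        (pullback.condition (f := f) (g := V₀.ι))
      simp only [Scheme.Hom.comp_apply] at h2
      rw [h2]
      have := Set.mem_range_self (f := V₀.ι) ((pullback.snd f V₀.ι) p)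
      rwa [Scheme.Opens.range_ι] at this
    have h3 : (pullback.fst f V₀.ι) p ∈ g '' O := by
      rw [← hV₀eq]; exact h1
    obtain ⟨a, ha, hga⟩ := h3
    have ha' : a ∈ Set.range U₁.ι := by rw [Scheme.Opens.range_ι]; exact ha
    obtain ⟨a', rfl⟩ := ha'
    refine ⟨a', ?_⟩
    apply (pullback.fst f V₀.ι).isOpenEmbedding.injective
    rw [← hga, ← Scheme.Hom.comp_apply, hg₂, Scheme.Hom.comp_apply]
  -- Step 4: geometric point and decomposition
  have hy : f (g u) ∈ V₀s := by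
    have h1 : g u ∈ g '' O := ⟨u, huO, rfl⟩
    rw [← hV₀eq] at h1
    exact h1
  have hy' : f (g u) ∈ Set.range V₀.ι := by rw [Scheme.Opens.range_ι]; exact hy
  obtain ⟨y₀, hy₀⟩ := hy'
  obtain ⟨Ω, hΩ1, hΩ2, η₀, hη₀⟩ := exists_geomPoint (V := V₀.toScheme) y₀
  letI := hΩ1
  haveI := hΩ2
  obtain ⟨V, v, hv, H⟩ := exists_decomp_integral (pullback.snd f V₀.ι) η₀
    (fun _ : Unit => Scheme.Etale.mk g₂) (fun p => ⟨(), hsurj p⟩)
  -- Step 5: apply to `Z = X ×_Y V`
  haveI : Etale (homX V) := V.prop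
  let w : V.left ⟶ Y := homX V ≫ V₀.ι
  haveI : Etale w := by dsimp only [w]; infer_instance
  let q : pullback f w ⟶ pullback f V₀.ι :=
    pullback.lift (pullback.fst f w) (pullback.snd f w ≫ homX V)
      (by rw [pullback.condition, Category.assoc])
  obtain ⟨κ, -, W, hdis, hcovW, hW⟩ := H (pullback f w) (pullback.snd f w) q
    (pullback.lift_snd _ _ _).symm
  choose i hh hhh using hW
  have hhh' : ∀ c, (hh c : (W c).toScheme ⟶ U₁.toScheme) ≫ g₂ = (W c).ι ≫ q := hhh
  obtain ⟨h', hh'⟩ := exists_glue_opens (T := U₁.toScheme) W hdis hcovW hh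
  have hh'g : h' ≫ g₂ = q := by
    apply ((pullback f w).openCoverOfIsOpenCover W hcovW).hom_ext
    intro c
    show (W c).ι ≫ h' ≫ g₂ = (W c).ι ≫ q
    rw [← Category.assoc, hh' c]
    exact hhh' c
  have hfin : (h' ≫ U₁.ι) ≫ g = pullback.fst f w :=
    (Category.assoc _ _ _).trans ((congrArg (fun m => h' ≫ m) hg₂.symm).trans
      ((Category.assoc _ _ _).symm.trans
        ((congrArg (fun m => m ≫ pullback.fst f V₀.ι) hh'g).trans (pullback.lift_fst _ _ _))))
  refine ⟨V.left, w, inferInstance, h' ≫ U₁.ι, hfin, ?_⟩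
  have hv₀ : f (g u) = w (v default) := by
    rw [← hy₀, ← hη₀, ← hv]
    simp only [Scheme.Hom.comp_apply, w]
  obtain ⟨z, hz1, -⟩ := Scheme.Pullback.exists_preimage_pullback (f := f) (g := w) (g u)
    (v default) hv₀
  refine ⟨z, ?_⟩
  have h1 : g ((h' ≫ U₁.ι) z) = g u := by
    rw [← Scheme.Hom.comp_apply, hfin, hz1]
  have h2 : (h' ≫ U₁.ι) z ∈ O := by
    rw [Scheme.Hom.comp_apply]
    exact hmemO _
  exact hsub ⟨h2, h1⟩

theorem propC_of_integral_closedEmbedding {X Y : Scheme.{u}} (f : X ⟶ Y) [IsIntegralHom f]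
    (hf : Topology.IsClosedEmbedding f.base) : BigSite.PropC f := by
  intro U g _
  choose Vu vu hvu hu hug huu using fun u : U => exists_local_propC f hf g u
  haveI : ∀ u, Etale (vu u) := hvu
  let v : (∐ Vu) ⟶ Y := Sigma.desc vu
  haveI : Etale v := IsZariskiLocalAtSource.sigmaDesc (P := @Etale) hvu
  let Wu : U → (pullback f v).Opens := fun a =>
    (pullback.snd f v) ⁻¹ᵁ (Sigma.ι Vu a).opensRange
  have hdis : ∀ a b, a ≠ b → Disjoint (Wu a) (Wu b) := by
    intro a b hab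
    rw [disjoint_iff]
    ext p
    simp only [Opens.coe_inf, Set.mem_inter_iff, SetLike.mem_coe, Opens.coe_bot,
      Set.mem_empty_iff_false, iff_false]
    rintro ⟨ha, hb⟩
    exact (disjoint_opensRange_sigmaι Vu a b hab).le_bot
      (show (pullback.snd f v) p ∈ ((Sigma.ι Vu a).opensRange ⊓ (Sigma.ι Vu b).opensRange :
        (∐ Vu).Opens) from ⟨ha, hb⟩)
  have hcov : (⨆ a, Wu a) = ⊤ := by
    ext p
    simp only [Opens.coe_iSup, Set.mem_iUnion, SetLike.mem_coe, Opens.coe_top, Set.mem_univ,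
      iff_true]
    obtain ⟨a, y, hy⟩ := (sigmaOpenCover Vu).exists_eq ((pullback.snd f v) p)
    exact ⟨a, y, hy⟩
  have hmem : ∀ a (p : (Wu a).toScheme), (Wu a).ι p ∈ Wu a := by
    intro a p
    have := Set.mem_range_self (f := (Wu a).ι) p
    rwa [Scheme.Opens.range_ι] at this
  have hl : ∀ a, ∃ l : (Wu a).toScheme ⟶ Vu a,
      l ≫ Sigma.ι Vu a = (Wu a).ι ≫ pullback.snd f v := by
    intro a
    have hr : Set.range ((Wu a).ι ≫ pullback.snd f v) ⊆ Set.range (Sigma.ι Vu a) := by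
      rintro _ ⟨p, rfl⟩
      have := hmem a p
      rw [Scheme.Hom.comp_apply]
      exact this
    exact ⟨IsOpenImmersion.lift (Sigma.ι Vu a) _ hr, IsOpenImmersion.lift_fac _ _ _⟩
  choose l hl using hl
  let r : ∀ a, (Wu a).toScheme ⟶ pullback f (vu a) := fun a =>
    pullback.lift ((Wu a).ι ≫ pullback.fst f v) (l a) (by
      have h1 : Sigma.ι Vu a ≫ v = vu a := Sigma.ι_desc _ _
      rw [Category.assoc, pullback.condition, ← Category.assoc, ← hl a, Category.assoc, h1])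
  obtain ⟨h, hh⟩ := exists_glue_opens Wu hdis hcov (fun a => r a ≫ hu a)
  refine ⟨∐ Vu, v, inferInstance, h, ?_, ?_⟩
  · apply ((pullback f v).openCoverOfIsOpenCover Wu hcov).hom_ext
    intro a
    show (Wu a).ι ≫ h ≫ g = (Wu a).ι ≫ pullback.fst f v
    rw [← Category.assoc, hh a, Category.assoc, hug a]
    exact pullback.lift_fst _ _ _
  · constructor
    intro u₀
    obtain ⟨z, hz⟩ := huu u₀
    have h1 : Sigma.ι Vu u₀ ≫ v = vu u₀ := Sigma.ι_desc _ _
    let s : pullback f (vu u₀) ⟶ pullback f v :=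
      pullback.lift (pullback.fst f (vu u₀)) (pullback.snd f (vu u₀) ≫ Sigma.ι Vu u₀)
        (by rw [pullback.condition, Category.assoc, h1])
    have hs1 : s ≫ pullback.fst f v = pullback.fst f (vu u₀) := pullback.lift_fst _ _ _
    have hs2 : s ≫ pullback.snd f v = pullback.snd f (vu u₀) ≫ Sigma.ι Vu u₀ :=
      pullback.lift_snd _ _ _
    have hrs : Set.range s ⊆ Set.range (Wu u₀).ι := by
      rintro _ ⟨z', rfl⟩
      rw [Scheme.Opens.range_ι]
      show (pullback.snd f v) (s z') ∈ (Sigma.ι Vu u₀).opensRange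
      rw [← Scheme.Hom.comp_apply, hs2, Scheme.Hom.comp_apply]
      exact ⟨_, rfl⟩
    let t : pullback f (vu u₀) ⟶ (Wu u₀).toScheme := IsOpenImmersion.lift (Wu u₀).ι s hrs
    have ht : t ≫ (Wu u₀).ι = s := IsOpenImmersion.lift_fac _ _ _
    have htl : t ≫ l u₀ = pullback.snd f (vu u₀) := by
      rw [← cancel_mono (Sigma.ι Vu u₀), Category.assoc, hl u₀, ← Category.assoc, ht, hs2]
    have htr : t ≫ r u₀ = 𝟙 _ := by
      apply pullback.hom_ext
      · rw [Category.assoc, pullback.lift_fst, ← Category.assoc, ht, hs1, Category.id_comp]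
      · rw [Category.assoc, pullback.lift_snd, htl, Category.id_comp]
    refine ⟨s z, ?_⟩
    have h2 : s ≫ h = hu u₀ := by
      rw [← ht, Category.assoc, hh u₀, ← Category.assoc, htr, Category.id_comp]
    rw [← Scheme.Hom.comp_apply, h2]
    exact hz

end Groth.Agent.Helper1.FP
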