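import Mathlib
import Groth.Prelude.Def_Curves

/-!
# Restriction of scalars for systems of forms (Lang–Nagata)

`C_i` for systems of forms passes to algebraic extensions; `C_1` (single form) passes to finite
extensions (via norm forms).
-/

set_option autoImplicit false

namespace Groth.Agent.Helper1.FormsRS

open MvPolynomial

universe u v

section Coord

variable {K : Type*} [Field K] {L : Type*} [CommRing L] [Algebra K L] {σ : Type*}

/-- apply a `K`-linear functional to all coefficients -/
noncomputable def coordMap (lam : L →ₗ[K] K) : MvPolynomial σ L →ₗ[K] MvPolynomial σ K :=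
  (AddMonoidAlgebra.coeffLinearEquiv K).symm.toLinearMap ∘ₗ (Finsupp.mapRange.linearMap lam) ∘ₗ
    (AddMonoidAlgebra.coeffLinearEquiv K).toLinearMap

theorem coeff_coordMap (lam : L →ₗ[K] K) (p : MvPolynomial σ L) (v : σ →₀ ℕ) :
    coeff v (coordMap lam p) = lam (coeff v p) := rfl

theorem coordMap_monomial (lam : L →ₗ[K] K) (v : σ →₀ ℕ) (c : L) :
    coordMap lam (monomial v c) = monomial v (lam c) := by
  classical
  ext u
  rw [coeff_coordMap, coeff_monomial, coeff_monomial]
  split_ifs
  · rfl
  · exact map_zero lam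

theorem coordMap_isHomogeneous (lam : L →ₗ[K] K) {p : MvPolynomial σ L} {d : ℕ}
    (hp : p.IsHomogeneous d) : (coordMap lam p).IsHomogeneous d := by
  intro v hv
  apply hp
  intro h
  apply hv
  rw [coeff_coordMap, h, map_zero]

theorem eval_coordMap (lam : L →ₗ[K] K) (p : MvPolynomial σ L) (y : σ → K) :
    eval y (coordMap lam p) = lam (eval (fun t => algebraMap K L (y t)) p) := by
  induction p using MvPolynomial.induction_on' with
  | monomial v c =>
    rw [coordMap_monomial, eval_monomial, eval_monomial]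
    have h1 : (v.prod fun t k => (algebraMap K L (y t)) ^ k)
        = algebraMap K L (v.prod fun t k => y t ^ k) := by
      rw [Finsupp.prod, Finsupp.prod, map_prod]
      exact Finset.prod_congr rfl fun t _ => (map_pow _ _ _).symm
    rw [h1, mul_comm c, ← Algebra.smul_def, map_smul, smul_eq_mul, mul_comm]
  | add p q hp hq =>
    rw [map_add, map_add, map_add, map_add, hp, hq]

end Coord

section Subst

variable {K : Type*} [Field K] {L : Type*} [CommRing L] [Algebra K L] {e n : ℕ}
  (ω : Module.Basis (Fin e) K L)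

/-- the substitution `X_j ↦ ∑_m ω_m Y_{jm}` -/
noncomputable def Φ : MvPolynomial (Fin n) L →ₐ[L] MvPolynomial (Fin n × Fin e) L :=
  aeval (fun j => ∑ m, C (ω m) * X (j, m))

/-- the point of `L^n` with coordinates `y` -/
noncomputable def pt (y : Fin n × Fin e → K) : Fin n → L := fun j => ∑ m, y (j, m) • ω m

theorem Φ_isHomogeneous {f : MvPolynomial (Fin n) L} {d : ℕ} (hf : f.IsHomogeneous d) :
    (Φ (n := n) ω f).IsHomogeneous d := by
  have h := hf.aeval (S := L) (fun j => ∑ m, C (ω m) * X ((j, m) : Fin n × Fin e)) (n := 1)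
    (fun j => IsHomogeneous.sum _ _ _ fun m _ => isHomogeneous_C_mul_X _ _)
  rw [one_mul] at h
  exact h

theorem eval_Φ (f : MvPolynomial (Fin n) L) (y : Fin n × Fin e → K) :
    eval (fun t => algebraMap K L (y t)) (Φ (n := n) ω f) = eval (pt ω y) f := by
  have h0 : (eval (fun t => algebraMap K L (y t))).comp (Φ (n := n) ω).toRingHom
      = eval (pt ω y) := by
    apply MvPolynomial.ringHom_ext
    · intro c
      simp [Φ]
    · intro j
      simp [Φ, pt, Algebra.smul_def, mul_comm]
  exact RingHom.congr_fun h0 f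

theorem pt_ne_zero {y : Fin n × Fin e → K} (hy : y ≠ 0) : pt ω y ≠ 0 := by
  intro h
  apply hy
  funext ⟨j, m⟩
  have hj : ∑ m, y (j, m) • ω m = 0 := congrFun h j
  exact Fintype.linearIndependent_iff.mp ω.linearIndependent (fun m => y (j, m)) hj m

theorem eval_eq_sum_coord (g : MvPolynomial (Fin n × Fin e) L) (y : Fin n × Fin e → K) :
    eval (fun t => algebraMap K L (y t)) g
      = ∑ m, eval y (coordMap (ω.coord m) g) • ω m := by
  conv_lhs => rw [← ω.sum_repr (eval (fun t => algebraMap K L (y t)) g)]
  refine Finset.sum_congr rfl fun m _ => ?_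
  rw [eval_coordMap]
  rfl

end Subst

section Ci

theorem ci_of_basis {K : Type*} [Field K] {L : Type*} [CommRing L] [Algebra K L] {e : ℕ}
    (ω : Module.Basis (Fin e) K L) (he : 0 < e) (i : ℕ) (hK : Curves.IsCi K i)
    (r n : ℕ) (f : Fin r → MvPolynomial (Fin n) L) (d : Fin r → ℕ)
    (hf : ∀ ρ, (f ρ).IsHomogeneous (d ρ)) (hd : ∀ ρ, 0 < d ρ) (hn : (∑ ρ, d ρ ^ i) < n) :
    ∃ a : Fin n → L, a ≠ 0 ∧ ∀ ρ, eval a (f ρ) = 0 := by
  classical
  let e₁ : Fin r × Fin e ≃ Fin (r * e) := finProdFinEquiv
  let e₂ : Fin n × Fin e ≃ Fin (n * e) := finProdFinEquiv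
  let G : Fin r → Fin e → MvPolynomial (Fin n × Fin e) K :=
    fun ρ m => coordMap (ω.coord m) (Φ ω (f ρ))
  let F' : Fin (r * e) → MvPolynomial (Fin (n * e)) K :=
    fun a => rename e₂ (G (e₁.symm a).1 (e₁.symm a).2)
  let d' : Fin (r * e) → ℕ := fun a => d (e₁.symm a).1
  have hF' : ∀ a, (F' a).IsHomogeneous (d' a) := fun a =>
    (coordMap_isHomogeneous _ (Φ_isHomogeneous ω (hf _))).rename_isHomogeneous
  have hd' : ∀ a, 0 < d' a := fun a => hd _
  have hsum : (∑ a, d' a ^ i) < n * e := by
    have h1 : (∑ a, d' a ^ i) = e * ∑ ρ, d ρ ^ i := by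
      rw [← Equiv.sum_comp e₁ (fun a => d' a ^ i)]
      simp only [d', Equiv.symm_apply_apply]
      rw [Fintype.sum_prod_type]
      simp only [Finset.sum_const, Finset.card_univ, Fintype.card_fin, smul_eq_mul]
      rw [Finset.mul_sum]
    rw [h1, mul_comm n e]
    exact (Nat.mul_lt_mul_left he).mpr hn
  obtain ⟨a, ha, hzero⟩ := hK (r * e) (n * e) F' d' hF' hd' hsum
  let y : Fin n × Fin e → K := a ∘ e₂
  have hy : y ≠ 0 := by
    intro h
    apply ha
    funext t
    have := congrFun h (e₂.symm t)
    simpa [y] using this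
  refine ⟨pt ω y, pt_ne_zero ω hy, fun ρ => ?_⟩
  rw [← eval_Φ, eval_eq_sum_coord ω]
  refine Finset.sum_eq_zero fun m _ => ?_
  have h1 := hzero (e₁ (ρ, m))
  simp only [F', Equiv.symm_apply_apply, eval_rename] at h1
  rw [show eval y (coordMap (ω.coord m) (Φ ω (f ρ))) = 0 from h1, zero_smul]

theorem isCi_of_isAlgebraic (K : Type u) [Field K] (L : Type v) [Field L] [Algebra K L]
    [Algebra.IsAlgebraic K L] (i : ℕ) (hK : Curves.IsCi K i) : Curves.IsCi L i := by
  classical
  intro r n f d hf hd hn
  let S : Set L := ⋃ ρ, ((f ρ).coeffs : Set L)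
  have hSfin : S.Finite := Set.finite_iUnion fun ρ => Finset.finite_toSet _
  have : Finite S := hSfin.to_subtype
  have hfd : FiniteDimensional K (IntermediateField.adjoin K S) :=
    IntermediateField.finiteDimensional_adjoin (fun x _ => Algebra.IsIntegral.isIntegral x)
  have hrange : ∀ ρ, f ρ ∈ Set.range (map (algebraMap (IntermediateField.adjoin K S) L)) := by
    intro ρ
    rw [mem_range_map_iff_coeffs_subset]
    intro c hc
    have hc' : c ∈ IntermediateField.adjoin K S :=
      IntermediateField.subset_adjoin K S (Set.mem_iUnion.mpr ⟨ρ, hc⟩)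
    exact ⟨⟨c, hc'⟩, rfl⟩
  choose f' hf' using hrange
  have hf'hom : ∀ ρ, (f' ρ).IsHomogeneous (d ρ) := fun ρ =>
    IsHomogeneous.of_map (f := algebraMap (IntermediateField.adjoin K S) L)
      (algebraMap (IntermediateField.adjoin K S) L).injective (by rw [hf']; exact hf ρ)
  have he : 0 < Module.finrank K (IntermediateField.adjoin K S) := Module.finrank_pos
  obtain ⟨a', ha', hzero⟩ := ci_of_basis (Module.finBasis K (IntermediateField.adjoin K S)) he i hK
    r n f' d hf'hom hd hn
  refine ⟨fun j => algebraMap (IntermediateField.adjoin K S) L (a' j), ?_, fun ρ => ?_⟩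
  · intro h
    apply ha'
    funext j
    exact (algebraMap (IntermediateField.adjoin K S) L).injective
      (by simpa using congrFun h j)
  · rw [← hf' ρ]
    have h1 := map_eval (algebraMap (IntermediateField.adjoin K S) L) a' (f' ρ)
    rw [hzero ρ, map_zero] at h1
    exact h1.symm

end Ci

section Norm

variable {K : Type*} [Field K] {L : Type*} [CommRing L] [Algebra K L] {e : ℕ}
  (ω : Module.Basis (Fin e) K L)

/-- the matrix of multiplication by `g`, coefficientwise -/
noncomputable def normMat {τ : Type*} (g : MvPolynomial τ L) :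
    Matrix (Fin e) (Fin e) (MvPolynomial τ K) :=
  fun m m' => coordMap (ω.coord m) (g * C (ω m'))

theorem eval_normMat {τ : Type*} (g : MvPolynomial τ L) (y : τ → K) :
    (eval y).mapMatrix (normMat ω g)
      = Algebra.leftMulMatrix ω (eval (fun t => algebraMap K L (y t)) g) := by
  ext m m'
  rw [RingHom.mapMatrix_apply, Matrix.map_apply, normMat, eval_coordMap, map_mul, eval_C,
    Algebra.leftMulMatrix_eq_repr_mul]
  rfl

theorem det_isHomogeneous {τ : Type*} {M : Matrix (Fin e) (Fin e) (MvPolynomial τ K)} {d : ℕ}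
    (hM : ∀ m m', (M m m').IsHomogeneous d) : M.det.IsHomogeneous (e * d) := by
  rw [Matrix.det_apply, ← mem_homogeneousSubmodule]
  refine Submodule.sum_mem _ fun σ _ => ?_
  rw [Units.smul_def]
  refine zsmul_mem ?_ _
  rw [mem_homogeneousSubmodule]
  have := IsHomogeneous.prod Finset.univ (fun i => M (σ i) i) (fun _ => d) (fun i _ => hM _ _)
  simpa using this

theorem normMat_isHomogeneous {τ : Type*} {g : MvPolynomial τ L} {d : ℕ}
    (hg : g.IsHomogeneous d) (m m' : Fin e) : (normMat ω g m m').IsHomogeneous d := by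
  apply coordMap_isHomogeneous
  have := hg.mul (isHomogeneous_C τ (ω m'))
  simpa using this

end Norm

theorem isCr_one_of_finiteDimensional (K : Type u) [Field K] (L : Type v) [Field L]
    [Algebra K L] [FiniteDimensional K L] (hK : Curves.IsCr K 1) : Curves.IsCr L 1 := by
  classical
  intro n d f hf hd hn
  have he : 0 < Module.finrank K L := Module.finrank_pos
  let ω : Module.Basis (Fin (Module.finrank K L)) K L := Module.finBasis K L
  let e₂ : Fin n × Fin (Module.finrank K L) ≃ Fin (n * Module.finrank K L) := finProdFinEquiv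
  let N : MvPolynomial (Fin n × Fin (Module.finrank K L)) K := (normMat ω (Φ ω f)).det
  have hN : N.IsHomogeneous (Module.finrank K L * d) :=
    det_isHomogeneous (fun m m' => normMat_isHomogeneous ω (Φ_isHomogeneous ω hf) m m')
  have hlt : (Module.finrank K L * d) ^ 1 < n * Module.finrank K L := by
    rw [pow_one, mul_comm n]
    rw [pow_one] at hn
    exact (Nat.mul_lt_mul_left he).mpr hn
  obtain ⟨a, ha, hzero⟩ := hK (n * Module.finrank K L) (Module.finrank K L * d) (rename e₂ N)
    hN.rename_isHomogeneous (Nat.mul_pos he hd) hlt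
  let y : Fin n × Fin (Module.finrank K L) → K := a ∘ e₂
  have hy : y ≠ 0 := by
    intro h
    apply ha
    funext t
    have := congrFun h (e₂.symm t)
    simpa [y] using this
  refine ⟨pt ω y, pt_ne_zero ω hy, ?_⟩
  rw [eval_rename] at hzero
  have h1 : eval y N = Algebra.norm K (eval (pt ω y) f) := by
    simp only [N]
    rw [RingHom.map_det, eval_normMat, eval_Φ, ← Algebra.norm_eq_matrix_det]
  have h2 : Algebra.norm K (eval (pt ω y) f) = 0 := by rw [← h1]; exact hzero
  exact Algebra.norm_eq_zero_iff.mp h2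

end Groth.Agent.Helper1.FormsRS
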