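import Mathlib
import Groth.Agent.Lib.Helper1.FormsRS

/-!
# Lang–Nagata: `K` is `C_i` (systems) ⇒ `K(T)` is `C_{i+1}` (systems)
-/

set_option autoImplicit false

namespace Groth.Agent.Helper1.FormsRat

open MvPolynomial Groth.Agent.Helper1.FormsRS

universe u

/-- `C_i` for systems indexed by arbitrary finite types -/
theorem isCi_fintype {K : Type*} [Field K] {i : ℕ} (hK : Curves.IsCi K i) {ι τ : Type*}
    [Fintype ι] [Fintype τ] (f : ι → MvPolynomial τ K) (d : ι → ℕ)
    (hf : ∀ ρ, (f ρ).IsHomogeneous (d ρ)) (hd : ∀ ρ, 0 < d ρ)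
    (hn : (∑ ρ, d ρ ^ i) < Fintype.card τ) :
    ∃ a : τ → K, a ≠ 0 ∧ ∀ ρ, eval a (f ρ) = 0 := by
  classical
  let e₁ := Fintype.equivFin ι
  let e₂ := Fintype.equivFin τ
  obtain ⟨a, ha, hz⟩ := hK (Fintype.card ι) (Fintype.card τ)
    (fun k => rename e₂ (f (e₁.symm k))) (fun k => d (e₁.symm k))
    (fun k => (hf _).rename_isHomogeneous) (fun k => hd _)
    (by rw [Equiv.sum_comp e₁.symm (fun ρ => d ρ ^ i)]; exact hn)
  refine ⟨a ∘ e₂, ?_, fun ρ => ?_⟩
  · intro h
    apply ha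
    funext t
    have := congrFun h (e₂.symm t)
    simpa using this
  · have := hz (e₁ ρ)
    simpa [eval_rename] using this

section Subst

variable {K : Type*} [Field K] {n s : ℕ}

/-- the substitution `X_j ↦ ∑_{m ≤ s} T^m Y_{jm}` -/
noncomputable def Ψ : MvPolynomial (Fin n) (Polynomial K) →ₐ[Polynomial K]
    MvPolynomial (Fin n × Fin (s + 1)) (Polynomial K) :=
  aeval (fun j => ∑ m : Fin (s + 1), C (Polynomial.X ^ (m : ℕ)) * X (j, m))

/-- the point of `K[T]^n` with coordinates `y` -/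
noncomputable def ptT (y : Fin n × Fin (s + 1) → K) : Fin n → Polynomial K :=
  fun j => ∑ m : Fin (s + 1), y (j, m) • (Polynomial.X ^ (m : ℕ) : Polynomial K)

theorem Ψ_isHomogeneous {f : MvPolynomial (Fin n) (Polynomial K)} {d : ℕ}
    (hf : f.IsHomogeneous d) : (Ψ (n := n) (s := s) f).IsHomogeneous d := by
  have h := hf.aeval (S := Polynomial K)
    (fun j => ∑ m : Fin (s + 1), C (Polynomial.X ^ (m : ℕ)) * X ((j, m) : Fin n × Fin (s + 1)))
    (n := 1) (fun j => IsHomogeneous.sum _ _ _ fun m _ => isHomogeneous_C_mul_X _ _)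
  rw [one_mul] at h
  exact h

theorem eval_Ψ (f : MvPolynomial (Fin n) (Polynomial K)) (y : Fin n × Fin (s + 1) → K) :
    eval (fun t => algebraMap K (Polynomial K) (y t)) (Ψ (n := n) (s := s) f)
      = eval (ptT y) f := by
  have h0 : (eval (fun t => algebraMap K (Polynomial K) (y t))).comp
      (Ψ (n := n) (s := s)).toRingHom = eval (ptT y) := by
    apply MvPolynomial.ringHom_ext
    · intro c
      show eval _ (Ψ (n := n) (s := s) (C c)) = eval (ptT y) (C c)
      rw [Ψ, aeval_C, MvPolynomial.algebraMap_eq, eval_C, eval_C]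
    · intro j
      show eval _ (Ψ (n := n) (s := s) (X j)) = eval (ptT y) (X j)
      rw [Ψ, aeval_X, eval_X, map_sum]
      refine Finset.sum_congr rfl fun m _ => ?_
      rw [map_mul, eval_C, eval_X, Algebra.smul_def, mul_comm]
  exact RingHom.congr_fun h0 f

theorem coeff_ptT (y : Fin n × Fin (s + 1) → K) (j : Fin n) (m : Fin (s + 1)) :
    (ptT y j).coeff (m : ℕ) = y (j, m) := by
  classical
  rw [ptT, Polynomial.finset_sum_coeff]
  simp only [Polynomial.coeff_smul, Polynomial.coeff_X_pow, smul_eq_mul, mul_ite, mul_one,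
    mul_zero]
  rw [Finset.sum_eq_single m]
  · simp
  · intro m' _ hm'
    rw [if_neg]
    intro h
    exact hm' (Fin.ext h.symm)
  · intro h; exact absurd (Finset.mem_univ m) h

theorem ptT_ne_zero {y : Fin n × Fin (s + 1) → K} (hy : y ≠ 0) : ptT y ≠ 0 := by
  intro h
  apply hy
  funext ⟨j, m⟩
  rw [← coeff_ptT y j m, h]
  simp

theorem natDegree_ptT_le (y : Fin n × Fin (s + 1) → K) (j : Fin n) :
    (ptT y j).natDegree ≤ s := by
  apply Polynomial.natDegree_sum_le_of_forall_le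
  intro m _
  refine (Polynomial.natDegree_smul_le _ _).trans ((Polynomial.natDegree_X_pow_le _).trans ?_)
  exact Nat.lt_succ_iff.mp m.2

/-- degree bound for the value of a form -/
theorem natDegree_eval_le {F : MvPolynomial (Fin n) (Polynomial K)} {d c s' : ℕ}
    (hF : F.IsHomogeneous d) (hc : ∀ ν, (coeff ν F).natDegree ≤ c) (a : Fin n → Polynomial K)
    (ha : ∀ j, (a j).natDegree ≤ s') : (eval a F).natDegree ≤ c + d * s' := by
  rw [eval_eq']
  apply Polynomial.natDegree_sum_le_of_forall_le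
  intro ν hν
  refine Polynomial.natDegree_mul_le.trans (add_le_add (hc ν) ?_)
  refine (Polynomial.natDegree_prod_le _ _).trans ?_
  have hdeg : d = ∑ i, ν i := by
    rw [hF.degree_eq_sum_deg_support hν]
    exact Finset.sum_subset (Finset.subset_univ _) (fun i _ hi => by simpa using hi)
  rw [hdeg, Finset.sum_mul]
  refine Finset.sum_le_sum fun i _ => ?_
  exact Polynomial.natDegree_pow_le.trans (Nat.mul_le_mul_left _ (ha i))

end Subst

theorem exists_zero_polynomial {K : Type*} [Field K] {i : ℕ} (hK : Curves.IsCi K i) (r n : ℕ)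
    (F : Fin r → MvPolynomial (Fin n) (Polynomial K)) (d : Fin r → ℕ)
    (hF : ∀ ρ, (F ρ).IsHomogeneous (d ρ)) (hd : ∀ ρ, 0 < d ρ)
    (hn : (∑ ρ, d ρ ^ (i + 1)) < n) :
    ∃ a : Fin n → Polynomial K, a ≠ 0 ∧ ∀ ρ, eval a (F ρ) = 0 := by
  classical
  obtain ⟨c, hc⟩ : ∃ c : ℕ, ∀ ρ ν, (coeff ν (F ρ)).natDegree ≤ c := by
    refine ⟨Finset.univ.sup fun ρ => (F ρ).support.sup fun ν => (coeff ν (F ρ)).natDegree,
      fun ρ ν => ?_⟩
    by_cases hν : ν ∈ (F ρ).support
    · exact (Finset.le_sup (f := fun ν => (coeff ν (F ρ)).natDegree) hν).trans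
        (Finset.le_sup (f := fun ρ => (F ρ).support.sup fun ν => (coeff ν (F ρ)).natDegree)
          (Finset.mem_univ ρ))
    · rw [notMem_support_iff.mp hν]; simp
  set D := ∑ ρ, d ρ ^ i with hD
  set E := ∑ ρ, d ρ ^ (i + 1) with hE
  set s := (c + 1) * D with hs
  let f' : (Σ ρ : Fin r, Fin (c + d ρ * s + 1)) → MvPolynomial (Fin n × Fin (s + 1)) K :=
    fun x => coordMap (Polynomial.lcoeff K (x.2 : ℕ)) (Ψ (n := n) (s := s) (F x.1))
  have hf' : ∀ x, (f' x).IsHomogeneous (d x.1) := fun x =>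
    coordMap_isHomogeneous _ (Ψ_isHomogeneous (hF x.1))
  have hsum : (∑ x : (Σ ρ : Fin r, Fin (c + d ρ * s + 1)), d x.1 ^ i)
      < Fintype.card (Fin n × Fin (s + 1)) := by
    rw [Fintype.sum_sigma, Fintype.card_prod, Fintype.card_fin, Fintype.card_fin]
    simp only [Finset.sum_const, Finset.card_univ, Fintype.card_fin, smul_eq_mul]
    have h1 : ∑ ρ, (c + d ρ * s + 1) * d ρ ^ i = s + s * E := by
      have : ∀ ρ, (c + d ρ * s + 1) * d ρ ^ i = (c + 1) * d ρ ^ i + s * d ρ ^ (i + 1) :=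
        fun ρ => by ring
      rw [Finset.sum_congr rfl (fun ρ _ => this ρ), Finset.sum_add_distrib, ← Finset.mul_sum,
        ← Finset.mul_sum]
    rw [h1]
    have h2 : E + 1 ≤ n := hn
    nlinarith [Nat.mul_le_mul_left s h2]
  obtain ⟨y, hy, hz⟩ := isCi_fintype hK f' (fun x => d x.1) hf' (fun x => hd x.1) hsum
  refine ⟨ptT y, ptT_ne_zero hy, fun ρ => ?_⟩
  have hdeg : (eval (ptT y) (F ρ)).natDegree ≤ c + d ρ * s :=
    natDegree_eval_le (hF ρ) (hc ρ) _ (natDegree_ptT_le y)
  ext l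
  rw [Polynomial.coeff_zero]
  by_cases hl : l < c + d ρ * s + 1
  · have h1 := hz ⟨ρ, ⟨l, hl⟩⟩
    simp only [f'] at h1
    rw [eval_coordMap, eval_Ψ] at h1
    exact h1
  · exact Polynomial.coeff_eq_zero_of_natDegree_lt (by omega)

theorem isCi_succ_ratFunc (K : Type u) [Field K] (i : ℕ) (hK : Curves.IsCi K i) :
    Curves.IsCi (RatFunc K) (i + 1) := by
  classical
  intro r n f d hf hd hn
  let S : Finset (RatFunc K) := Finset.univ.biUnion fun ρ => (f ρ).coeffs
  obtain ⟨b, hb⟩ :=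
    IsLocalization.exist_integer_multiples_of_finset (nonZeroDivisors (Polynomial K)) S
  have hinj : Function.Injective (algebraMap (Polynomial K) (RatFunc K)) :=
    IsFractionRing.injective (Polynomial K) (RatFunc K)
  set β : RatFunc K := algebraMap (Polynomial K) (RatFunc K) (b : Polynomial K) with hβ
  have hβ0 : β ≠ 0 := by
    intro h
    rw [hβ, ← map_zero (algebraMap (Polynomial K) (RatFunc K))] at h
    exact nonZeroDivisors.coe_ne_zero b (hinj h)
  have hrange : ∀ ρ, C β * f ρ ∈ Set.range (map (algebraMap (Polynomial K) (RatFunc K))) := by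
    intro ρ
    rw [mem_range_map_iff_coeffs_subset]
    intro c hc
    obtain ⟨ν, hν, rfl⟩ := mem_coeffs_iff.mp hc
    rw [coeff_C_mul]
    have hν' : coeff ν (f ρ) ≠ 0 := by
      intro h
      rw [mem_support_iff, coeff_C_mul, h, mul_zero] at hν
      exact hν rfl
    have hmem : coeff ν (f ρ) ∈ S :=
      Finset.mem_biUnion.mpr
        ⟨ρ, Finset.mem_univ ρ, mem_coeffs_iff.mpr ⟨ν, mem_support_iff.mpr hν', rfl⟩⟩
    obtain ⟨p, hp⟩ := hb _ hmem
    exact ⟨p, by rw [hp, Algebra.smul_def]⟩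
  choose F hF using hrange
  have hFhom : ∀ ρ, (F ρ).IsHomogeneous (d ρ) := fun ρ =>
    IsHomogeneous.of_map (f := algebraMap (Polynomial K) (RatFunc K)) hinj
      (by rw [hF]; exact (hf ρ).C_mul β)
  obtain ⟨a, ha, hz⟩ := exists_zero_polynomial hK r n F d hFhom hd hn
  refine ⟨fun j => algebraMap (Polynomial K) (RatFunc K) (a j), ?_, fun ρ => ?_⟩
  · intro h
    apply ha
    funext j
    exact hinj (by simpa using congrFun h j)
  · have h1 := map_eval (algebraMap (Polynomial K) (RatFunc K)) a (F ρ)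
    rw [hz ρ, map_zero, hF ρ, map_mul, eval_C] at h1
    exact (mul_eq_zero.mp h1.symm).resolve_left hβ0

end Groth.Agent.Helper1.FormsRat
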