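import Groth.Agent.Lib.Helper1.DM4

/-!
# Geometric branches: maximal ideals of `B ⊗[A] Aˢʰ` as points in an algebraically closed field
-/

set_option autoImplicit false

namespace Groth.Agent.Helper1.GB

open IsLocalRing TensorProduct Groth.Agent.Helper1

universe u

section Step1

variable (A B Ash : Type u) [CommRing A] [IsLocalRing A] [CommRing B] [Algebra A B]
  [Algebra.IsIntegral A B] [CommRing Ash] [IsLocalRing Ash] [Algebra A Ash]
  [IsLocalHom (algebraMap A Ash)]

/-- maximal ideals of `B ⊗[A] Ash` correspond to ring maps to an algebraically closed field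
`Ω` extending a fixed embedding of the (separably closed) residue field of `Ash` -/
theorem card_maximalSpectrum_eq_card_homs (Ω : Type u) [Field Ω] [IsAlgClosed Ω]
    [IsSepClosed (ResidueField Ash)] (ι : ResidueField Ash →+* Ω) :
    ENat.card (MaximalSpectrum (B ⊗[A] Ash)) =
      ENat.card {φ : B ⊗[A] Ash →+* Ω // ∀ s, φ (IH.incR A B Ash s) = ι (residue Ash s)} := by
  apply DM.card_eq_of_unique (fun (M : MaximalSpectrum (B ⊗[A] Ash))
    (φ : {φ : B ⊗[A] Ash →+* Ω // ∀ s, φ (IH.incR A B Ash s) = ι (residue Ash s)}) =>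
      RingHom.ker φ.1 = M.asIdeal)
  · intro M
    haveI := M.isMaximal
    letI : Field (B ⊗[A] Ash ⧸ M.asIdeal) := Ideal.Quotient.field M.asIdeal
    obtain ⟨g, hg⟩ : ∃ g : Ash →+* (B ⊗[A] Ash ⧸ M.asIdeal),
        ∀ s, g s = Ideal.Quotient.mk M.asIdeal (IH.incR A B Ash s) :=
      ⟨(Ideal.Quotient.mk M.asIdeal).comp (IH.incR A B Ash), fun s => rfl⟩
    have hgint : g.IsIntegral := by
      have h1 := (IH.incR_isIntegral A B Ash).trans _ _
        (RingHom.isIntegral_of_surjective (Ideal.Quotient.mk M.asIdeal)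
          Ideal.Quotient.mk_surjective)
      have h2 : g = (Ideal.Quotient.mk M.asIdeal).comp (IH.incR A B Ash) :=
        RingHom.ext hg
      rw [h2]
      exact h1
    haveI hgloc : IsLocalHom g := by
      refine ⟨fun s hs => ?_⟩
      by_contra hnu
      have h1 : s ∈ maximalIdeal Ash := (mem_maximalIdeal s).mpr hnu
      rw [← DM.comap_incR_eq A B Ash M.asIdeal] at h1
      have h2 : g s = 0 := by
        rw [hg]
        exact Ideal.Quotient.eq_zero_iff_mem.mpr h1
      rw [h2] at hs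
      exact not_isUnit_zero hs
    letI algκF : Algebra (ResidueField Ash) (B ⊗[A] Ash ⧸ M.asIdeal) :=
      (ResidueField.lift g).toAlgebra
    letI algκΩ : Algebra (ResidueField Ash) Ω := ι.toAlgebra
    have hj : ∀ s : Ash, algebraMap (ResidueField Ash) (B ⊗[A] Ash ⧸ M.asIdeal)
        (residue Ash s) = g s := fun s => ResidueField.lift_residue_apply g s
    haveI halg : Algebra.IsAlgebraic (ResidueField Ash) (B ⊗[A] Ash ⧸ M.asIdeal) := by
      letI algAshF : Algebra Ash (B ⊗[A] Ash ⧸ M.asIdeal) := g.toAlgebra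
      haveI : IsScalarTower Ash (ResidueField Ash) (B ⊗[A] Ash ⧸ M.asIdeal) :=
        IsScalarTower.of_algebraMap_eq (fun s => (hj s).symm)
      haveI : Algebra.IsIntegral Ash (B ⊗[A] Ash ⧸ M.asIdeal) := ⟨hgint⟩
      haveI : Algebra.IsIntegral (ResidueField Ash) (B ⊗[A] Ash ⧸ M.asIdeal) :=
        Algebra.IsIntegral.tower_top (R := Ash)
      exact Algebra.IsIntegral.isAlgebraic
    obtain ⟨ψ, -⟩ : ∃ ψ : (B ⊗[A] Ash ⧸ M.asIdeal) →ₐ[ResidueField Ash] Ω, True :=
      ⟨IsAlgClosed.lift, trivial⟩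
    have hψ : ∀ s : Ash, ψ (g s) = ι (residue Ash s) := by
      intro s
      rw [← hj]
      exact ψ.commutes (residue Ash s)
    refine ⟨⟨(ψ : (B ⊗[A] Ash ⧸ M.asIdeal) →+* Ω).comp (Ideal.Quotient.mk M.asIdeal),
      fun s => ?_⟩, ?_, ?_⟩
    · show ψ (Ideal.Quotient.mk M.asIdeal (IH.incR A B Ash s)) = _
      rw [← hg, hψ]
    · ext c
      rw [RingHom.mem_ker]
      show ψ (Ideal.Quotient.mk M.asIdeal c) = 0 ↔ c ∈ M.asIdeal
      rw [map_eq_zero, Ideal.Quotient.eq_zero_iff_mem]
    · rintro ⟨φ₂, hφ₂⟩ hker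
      have hker' : ∀ a ∈ M.asIdeal, φ₂ a = 0 := by
        intro a ha
        have h1 : a ∈ RingHom.ker φ₂ := by
          have h2 : RingHom.ker φ₂ = M.asIdeal := hker
          rw [h2]; exact ha
        exact RingHom.mem_ker.mp h1
      have hinj := IsPurelyInseparable.injective_comp_algebraMap (ResidueField Ash)
        (B ⊗[A] Ash ⧸ M.asIdeal) Ω
      have heq : Ideal.Quotient.lift M.asIdeal φ₂ hker' =
          (ψ : (B ⊗[A] Ash ⧸ M.asIdeal) →+* Ω) := by
        apply hinj
        refine RingHom.ext (fun x => ?_)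
        obtain ⟨s, rfl⟩ := residue_surjective x
        show Ideal.Quotient.lift M.asIdeal φ₂ hker'
            (algebraMap (ResidueField Ash) (B ⊗[A] Ash ⧸ M.asIdeal) (residue Ash s)) =
          ψ (algebraMap (ResidueField Ash) (B ⊗[A] Ash ⧸ M.asIdeal) (residue Ash s))
        rw [hj, hψ, hg, Ideal.Quotient.lift_mk, hφ₂]
      apply Subtype.ext
      refine RingHom.ext (fun c => ?_)
      show φ₂ c = ψ (Ideal.Quotient.mk M.asIdeal c)
      rw [← Ideal.Quotient.lift_mk M.asIdeal φ₂ hker', heq]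
      rfl
  · rintro ⟨φ, hφ⟩
    haveI hkp : (RingHom.ker φ).IsPrime := RingHom.ker_isPrime φ
    have hcomap : (RingHom.ker φ).comap (IH.incR A B Ash) = maximalIdeal Ash := by
      ext s
      rw [Ideal.mem_comap, RingHom.mem_ker, hφ, map_eq_zero, residue_eq_zero_iff]
    have hmax : (RingHom.ker φ).IsMaximal := DM.isMaximal_of_comap_incR A B Ash _ hcomap
    refine ⟨⟨RingHom.ker φ, hmax⟩, rfl, ?_⟩
    intro M₂ hM₂
    exact MaximalSpectrum.ext hM₂.symm

end Step1

end Groth.Agent.Helper1.GB
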