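import Groth.Agent.Lib.Helper1.PC4
import Groth.Agent.Lib.Helper1.CF4
import Groth.Agent.Lib.Helper1.CompletionDim

/-!
# Branches of a one-dimensional Noetherian local ring and of its completion
-/

set_option autoImplicit false

namespace Groth.Agent.Helper1.PC

open IsLocalRing Groth.Agent.Helper1

universe u

section Completion

variable (A S : Type u) [CommRing A] [IsLocalRing A] [IsNoetherianRing A] [CommRing S]
  [IsLocalRing S] [Algebra A S] [IsLocalHom (algebraMap A S)] [Hensel.IsHenselization A S]
  (ψ : S →+* AdicCompletion (maximalIdeal A) A)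
  (hψ : ψ.comp (algebraMap A S) = algebraMap A (AdicCompletion (maximalIdeal A) A))

include hψ in
theorem goodPair_psi :
    letI := ψ.toAlgebra
    GoodPair S (AdicCompletion (maximalIdeal A) A) := by
  letI := ψ.toAlgebra
  refine ⟨CF.flat_psi A S ψ hψ, ?_, ?_⟩
  · have := CF.map_maximalIdeal_pow A S ψ hψ 1
    rw [pow_one, pow_one] at this
    show (maximalIdeal S).map ψ = _
    rw [this, AdicCompletion.maximalIdeal_eq_map]
  · intro k y
    obtain ⟨a, ha⟩ := Submodule.mkQ_surjective _ (AdicCompletion.eval (maximalIdeal A) A k y)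
    refine ⟨algebraMap A S a, ?_⟩
    have e : algebraMap S (AdicCompletion (maximalIdeal A) A) (algebraMap A S a) =
        algebraMap A (AdicCompletion (maximalIdeal A) A) a := RingHom.congr_fun hψ a
    have e2 : AdicCompletion.eval (maximalIdeal A) A k
        (algebraMap A (AdicCompletion (maximalIdeal A) A) a) =
        Submodule.mkQ (maximalIdeal A ^ k • ⊤ : Submodule A A) a := by
      rw [AdicCompletion.algebraMap_apply]
      rfl
    rw [e, AdicCompletion.maximalIdeal_eq_map, ← Ideal.map_pow, CF.mem_map_pow_iff, map_sub, e2,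
      ha, sub_self]

include hψ in
theorem exists_minimalPrime_radical_eq (q : Ideal (AdicCompletion (maximalIdeal A) A))
    (hq : q ∈ minimalPrimes (AdicCompletion (maximalIdeal A) A))
    (hdim : ringKrullDim (AdicCompletion (maximalIdeal A) A ⧸ q) = 1) :
    ∃ q' ∈ minimalPrimes S, (Ideal.map ψ q').radical = q := by
  letI := ψ.toAlgebra
  haveI hS : HenselianLocalRing S := Hensel.IsHenselization.henselian (R := A)
  haveI : IsNoetherianRing S :=
    (HFlat.isNoetherianRing_iff_of_isHenselization A S).mp inferInstance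
  haveI : IsNoetherianRing (AdicCompletion (maximalIdeal A) A) :=
    Groth.Agent.S0543.result A (maximalIdeal A)
  have hG := goodPair_psi A S ψ hψ
  haveI := hG.flat
  refine ⟨q.comap ψ, BRN.comap_mem_minimalPrimes (A := S)
    (S := AdicCompletion (maximalIdeal A) A) hq, ?_⟩
  have h1 := GoodPair.minimalPrimes_map_comap hG q hq hdim
  rw [← Ideal.sInf_minimalPrimes]
  show sInf (Ideal.map (algebraMap S (AdicCompletion (maximalIdeal A) A))
    (q.comap (algebraMap S (AdicCompletion (maximalIdeal A) A)))).minimalPrimes = q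
  rw [h1, sInf_singleton]

end Completion

section Strict

variable (A B : Type u) [CommRing A] [IsLocalRing A] [IsNoetherianRing A] [CommRing B]
  [IsLocalRing B] [IsNoetherianRing B] [Algebra A B] [IsLocalHom (algebraMap A B)]
  (Ash Bsh : Type u) [CommRing Ash] [IsLocalRing Ash] [Algebra A Ash]
  [IsLocalHom (algebraMap A Ash)] [Hensel.IsStrictHenselization A Ash]
  [CommRing Bsh] [IsLocalRing Bsh] [Algebra B Bsh] [IsLocalHom (algebraMap B Bsh)]
  [Hensel.IsStrictHenselization B Bsh]
  (ρ : Ash →+* Bsh) (hρ : ρ.comp (algebraMap A Ash) = (algebraMap B Bsh).comp (algebraMap A B))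
  (hB : ∀ n : ℕ, 0 < n → ∃ π : B →+* A ⧸ maximalIdeal A ^ n,
    (∀ a, π (algebraMap A B a) = Ideal.Quotient.mk _ a) ∧
      RingHom.ker π = (maximalIdeal A ^ n).map (algebraMap A B))

include hρ hB in
theorem goodPair_rho : letI := ρ.toAlgebra; GoodPair Ash Bsh := by
  letI algρ : Algebra Ash Bsh := ρ.toAlgebra
  letI algABsh : Algebra A Bsh := ((algebraMap B Bsh).comp (algebraMap A B)).toAlgebra
  haveI : IsScalarTower A B Bsh := IsScalarTower.of_algebraMap_eq (fun _ => rfl)
  have hρ' : ρ.comp (algebraMap A Ash) = algebraMap A Bsh := hρ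
  have hmapρ : ∀ n : ℕ, (maximalIdeal Ash ^ n).map ρ =
      (maximalIdeal A ^ n).map (algebraMap A Bsh) := by
    intro n
    rw [← SHzn.map_maximalIdeal_eq_of_isStrictHenselization A Ash, ← Ideal.map_pow,
      Ideal.map_map, hρ']
  have hmB : (maximalIdeal A).map (algebraMap A B) = maximalIdeal B := by
    obtain ⟨π, hπ1, hπ2⟩ := hB 1 Nat.one_pos
    have hsurj : Function.Surjective π := by
      intro y
      obtain ⟨a, rfl⟩ := Ideal.Quotient.mk_surjective y
      exact ⟨algebraMap A B a, hπ1 a⟩
    haveI : (maximalIdeal A ^ 1).IsMaximal := by rw [pow_one]; exact maximalIdeal.isMaximal A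
    letI := Ideal.Quotient.field (maximalIdeal A ^ 1)
    have hmax : (RingHom.ker π).IsMaximal := RingHom.ker_isMaximal_of_surjective π hsurj
    have e : (maximalIdeal A).map (algebraMap A B) = RingHom.ker π := by rw [hπ2, pow_one]
    rw [e]
    exact IsLocalRing.eq_maximalIdeal hmax
  have hmBsh : (maximalIdeal A).map (algebraMap A Bsh) = maximalIdeal Bsh := by
    rw [← SHzn.map_maximalIdeal_eq_of_isStrictHenselization B Bsh, ← hmB, Ideal.map_map]
    rfl
  have hpowBsh : ∀ n : ℕ, (maximalIdeal A ^ n).map (algebraMap A Bsh) = maximalIdeal Bsh ^ n :=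
    fun n => by rw [Ideal.map_pow, hmBsh]
  refine ⟨(CF.faithfullyFlat_rho A B Ash Bsh ρ hρ hB).toFlat, ?_, ?_⟩
  · have := hmapρ 1
    rw [pow_one, pow_one] at this
    show (maximalIdeal Ash).map ρ = _
    rw [this, hmBsh]
  · intro k t
    rcases Nat.eq_zero_or_pos k with rfl | hk
    · exact ⟨0, by rw [pow_zero, Ideal.one_eq_top]; exact Submodule.mem_top⟩
    · have hI : maximalIdeal A ^ k ≠ ⊤ := by
        intro htop
        have h1 : maximalIdeal A ^ k ≤ maximalIdeal A := Ideal.pow_le_self hk.ne'
        rw [htop] at h1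
        exact (maximalIdeal.isMaximal A).ne_top (top_le_iff.mp h1)
      obtain ⟨π, hπ1, hπ2⟩ := hB k hk
      obtain ⟨hC1, -⟩ := CF.quotient_step A B Ash Bsh ρ hρ' (maximalIdeal A ^ k) hI π hπ1 hπ2
      obtain ⟨r, hr⟩ := hC1 t
      exact ⟨r, by rw [← hpowBsh]; exact hr⟩

end Strict

section DimOne

variable (A : Type u) [CommRing A] [IsLocalRing A] [IsNoetherianRing A]

theorem numBranches_completion_eq_of_dim_one (hA : ringKrullDim A = 1) :
    Brnch.numBranches (AdicCompletion (maximalIdeal A) A) = Brnch.numBranches A := by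
  haveI := Hzn.isHenselization A
  obtain ⟨ψ, hψ⟩ := CF.exists_psi A (Hzn.S A)
  letI := ψ.toAlgebra
  haveI hS : HenselianLocalRing (Hzn.S A) := Hensel.IsHenselization.henselian (R := A)
  haveI : IsNoetherianRing (Hzn.S A) :=
    (HFlat.isNoetherianRing_iff_of_isHenselization A (Hzn.S A)).mp inferInstance
  haveI : IsNoetherianRing (AdicCompletion (maximalIdeal A) A) :=
    Groth.Agent.S0543.result A (maximalIdeal A)
  have hG := goodPair_psi A (Hzn.S A) ψ hψ
  rw [BRN.numBranches_eq_card A (Hzn.S A), CF.numBranches_completion_eq_card]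
  exact (GoodPair.card_minimalPrimes_eq hG
    (by rw [ringKrullDim_adicCompletion_eq, hA])).symm

theorem numGeomBranches_completion_eq_of_dim_one (hA : ringKrullDim A = 1) :
    Brnch.numGeomBranches (AdicCompletion (maximalIdeal A) A) = Brnch.numGeomBranches A := by
  haveI := SHzn.isStrictHenselization A
  haveI := SHzn.isStrictHenselization (AdicCompletion (maximalIdeal A) A)
  haveI : IsNoetherianRing (AdicCompletion (maximalIdeal A) A) :=
    Groth.Agent.S0543.result A (maximalIdeal A)
  obtain ⟨ρ, hρ⟩ := CF.exists_rho A (AdicCompletion (maximalIdeal A) A) (SHzn.S A)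
    (SHzn.S (AdicCompletion (maximalIdeal A) A))
  letI := ρ.toAlgebra
  haveI hS : HenselianLocalRing (SHzn.S A) :=
    Hensel.IsStrictHenselization.henselian (R := A)
  haveI : IsNoetherianRing (SHzn.S A) :=
    (HFlat.isNoetherianRing_iff_of_isStrictHenselization A (SHzn.S A)).mp inferInstance
  haveI : IsNoetherianRing (SHzn.S (AdicCompletion (maximalIdeal A) A)) :=
    (HFlat.isNoetherianRing_iff_of_isStrictHenselization (AdicCompletion (maximalIdeal A) A)
      (SHzn.S (AdicCompletion (maximalIdeal A) A))).mp inferInstance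
  have hG := goodPair_rho A (AdicCompletion (maximalIdeal A) A) (SHzn.S A)
    (SHzn.S (AdicCompletion (maximalIdeal A) A)) ρ hρ (fun n _ => CF.exists_pi A n)
  rw [← GB.card_minimalPrimes_eq_numGeomBranches A (SHzn.S A),
    ← GB.card_minimalPrimes_eq_numGeomBranches (AdicCompletion (maximalIdeal A) A)
      (SHzn.S (AdicCompletion (maximalIdeal A) A))]
  exact (GoodPair.card_minimalPrimes_eq hG
    (by rw [HFlat.ringKrullDim_eq_of_isStrictHenselization (AdicCompletion (maximalIdeal A) A)
      (SHzn.S (AdicCompletion (maximalIdeal A) A)), ringKrullDim_adicCompletion_eq, hA])).symm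

end DimOne

end Groth.Agent.Helper1.PC
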