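import Groth.Agent.Lib.Helper1.GB2
import Groth.Agent.Lib.Helper1.PC5

/-!
# Counting branches through a henselian flat local algebra `E` of `A`

Generalizations of the counts of minimal primes of the (strict) henselization, with the
henselization replaced by a henselian local flat `A`-algebra `E` (e.g. the completion, or a strict
henselization of the completion), under the hypothesis that `(A' ⊗[A] E)_M` are domains.
-/

set_option autoImplicit false

namespace Groth.Agent.Helper1.GF

open IsLocalRing TensorProduct Groth.Agent.Helper1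

universe u

section Approx

variable (A B E : Type u) [CommRing A] [IsLocalRing A] [CommRing B] [Algebra A B]
  [Algebra.IsIntegral A B] [CommRing E] [IsLocalRing E] [Algebra A E]
  [IsLocalHom (algebraMap A E)]
  (happ : ∀ s : E, ∃ a : A, s - algebraMap A E a ∈ maximalIdeal E)

include happ in
omit [Algebra.IsIntegral A B] [IsLocalRing A] [IsLocalHom (algebraMap A E)] in
theorem exists_sub_tmul_mem (c : B ⊗[A] E) :
    ∃ b : B, c - b ⊗ₜ[A] (1 : E) ∈ (maximalIdeal E).map (IH.incR A B E) := by
  induction c using TensorProduct.induction_on with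
  | zero => exact ⟨0, by rw [TensorProduct.zero_tmul, sub_zero]; exact Ideal.zero_mem _⟩
  | tmul b s =>
    obtain ⟨a, ha⟩ := happ s
    refine ⟨a • b, ?_⟩
    have h1 : b ⊗ₜ[A] s - (a • b) ⊗ₜ[A] (1 : E) =
        (b ⊗ₜ[A] (1 : E)) * IH.incR A B E (s - algebraMap A E a) := by
      rw [IH.incR_apply, Algebra.TensorProduct.tmul_mul_tmul, mul_one, one_mul,
        TensorProduct.tmul_sub, TensorProduct.smul_tmul, Algebra.algebraMap_eq_smul_one]
    rw [h1]
    exact Ideal.mul_mem_left _ _ (Ideal.mem_map_of_mem _ ha)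
  | add x y hx hy =>
    obtain ⟨b₁, h₁⟩ := hx
    obtain ⟨b₂, h₂⟩ := hy
    refine ⟨b₁ + b₂, ?_⟩
    have e : x + y - (b₁ + b₂) ⊗ₜ[A] (1 : E) =
        (x - b₁ ⊗ₜ[A] (1 : E)) + (y - b₂ ⊗ₜ[A] (1 : E)) := by
      rw [TensorProduct.add_tmul]; ring
    rw [e]
    exact Ideal.add_mem _ h₁ h₂

include happ in
theorem le_of_comap_eq (N₁ N₂ : Ideal (B ⊗[A] E)) [N₁.IsMaximal] [N₂.IsMaximal]
    (hN : N₁.comap (algebraMap B (B ⊗[A] E)) = N₂.comap (algebraMap B (B ⊗[A] E))) :
    N₁ ≤ N₂ := by
  intro c hc
  obtain ⟨b, hb⟩ := exists_sub_tmul_mem A B E happ c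
  have hle₁ : (maximalIdeal E).map (IH.incR A B E) ≤ N₁ := by
    rw [Ideal.map_le_iff_le_comap, DM.comap_incR_eq]
  have hle₂ : (maximalIdeal E).map (IH.incR A B E) ≤ N₂ := by
    rw [Ideal.map_le_iff_le_comap, DM.comap_incR_eq]
  have h1 : b ⊗ₜ[A] (1 : E) ∈ N₁ := by
    have := N₁.sub_mem hc (hle₁ hb)
    rwa [sub_sub_cancel] at this
  have h2 : b ∈ N₁.comap (algebraMap B (B ⊗[A] E)) := h1
  rw [hN] at h2
  have h3 : b ⊗ₜ[A] (1 : E) ∈ N₂ := h2
  have := N₂.add_mem (hle₂ hb) h3
  rwa [sub_add_cancel] at this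

include happ in
theorem eq_of_comap_eq (M₁ M₂ : Ideal (B ⊗[A] E)) [M₁.IsMaximal] [M₂.IsMaximal]
    (h : M₁.comap (algebraMap B (B ⊗[A] E)) = M₂.comap (algebraMap B (B ⊗[A] E))) :
    M₁ = M₂ :=
  le_antisymm (le_of_comap_eq A B E happ M₁ M₂ h) (le_of_comap_eq A B E happ M₂ M₁ h.symm)

theorem exists_isMaximal_comap_eq [Module.FaithfullyFlat A E] (m' : Ideal B)
    [hm' : m'.IsMaximal] :
    ∃ M : Ideal (B ⊗[A] E), M.IsMaximal ∧ M.comap (algebraMap B (B ⊗[A] E)) = m' := by
  obtain ⟨P, hP, hPo⟩ := Ideal.exists_isPrime_liesOver_of_faithfullyFlat (B := B ⊗[A] E) m'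
  obtain ⟨M, hM, hPM⟩ := Ideal.exists_le_maximal P hP.ne_top
  refine ⟨M, hM, ?_⟩
  haveI := hM
  have hle : m' ≤ M.comap (algebraMap B (B ⊗[A] E)) := by
    rw [hPo.over]
    exact Ideal.comap_mono hPM
  exact (hm'.eq_of_le (DM.isMaximal_comap A B E M).ne_top hle).symm

include happ in
theorem card_maximalSpectrum_tensor_eq [Module.FaithfullyFlat A E] :
    ENat.card (MaximalSpectrum (B ⊗[A] E)) = ENat.card (MaximalSpectrum B) := by
  apply DM.card_eq_of_unique
    (fun (M : MaximalSpectrum (B ⊗[A] E)) (m' : MaximalSpectrum B) =>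
      M.asIdeal.comap (algebraMap B (B ⊗[A] E)) = m'.asIdeal)
  · intro M
    haveI := M.isMaximal
    refine ⟨⟨_, DM.isMaximal_comap A B E M.asIdeal⟩, rfl, ?_⟩
    intro m₂ hm₂
    exact MaximalSpectrum.ext hm₂.symm
  · intro m'
    haveI := m'.isMaximal
    obtain ⟨M, hM, hMm'⟩ := exists_isMaximal_comap_eq A B E m'.asIdeal
    refine ⟨⟨M, hM⟩, hMm', ?_⟩
    intro M₂ hM₂
    haveI := M₂.isMaximal
    haveI := hM
    exact MaximalSpectrum.ext (eq_of_comap_eq A B E happ M₂.asIdeal M (hM₂.trans hMm'.symm))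

end Approx

section Count

variable (A E : Type u) [CommRing A] [IsLocalRing A] [CommRing E] [HenselianLocalRing E]
  [Algebra A E] [IsLocalHom (algebraMap A E)]

/-- branches of `A` counted on a henselian faithfully flat local `A`-algebra with trivial residue
field extension -/
theorem card_minimalPrimes_eq_numBranches [Module.FaithfullyFlat A E]
    (happ : ∀ s : E, ∃ a : A, s - algebraMap A E a ∈ maximalIdeal E)
    (hfin : (minimalPrimes A).Finite)
    (hdom : ∀ (M : Ideal (CAlg2.normRed A ⊗[A] E)) [M.IsMaximal],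
      IsDomain (Localization.AtPrime M)) :
    ENat.card (minimalPrimes E) = Brnch.numBranches A := by
  have e1 : ENat.card (minimalPrimes (CAlg2.normRed A ⊗[A] E)) = ENat.card (minimalPrimes E) :=
    ENat.card_congr (Set.BijOn.equiv _ (BR.bijOn_normRed (A := A) (Ah := E)))
  unfold Brnch.numBranches
  rw [if_pos hfin, ← e1, DM.card_minimalPrimes_eq_card_maximalSpectrum A (CAlg2.normRed A) E hdom,
    card_maximalSpectrum_tensor_eq A (CAlg2.normRed A) E happ]

/-- geometric branches of `A` counted on a henselian flat local `A`-algebra with separably closed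
residue field algebraic over that of `A` -/
theorem card_minimalPrimes_eq_numGeomBranches [Module.Flat A E]
    [IsSepClosed (ResidueField E)] [Algebra.IsAlgebraic (ResidueField A) (ResidueField E)]
    (hfin : (minimalPrimes A).Finite)
    (hdom : ∀ (M : Ideal (CAlg2.normRed A ⊗[A] E)) [M.IsMaximal],
      IsDomain (Localization.AtPrime M)) :
    ENat.card (minimalPrimes E) = Brnch.numGeomBranches A := by
  have e1 : ENat.card (minimalPrimes (CAlg2.normRed A ⊗[A] E)) = ENat.card (minimalPrimes E) :=
    ENat.card_congr (Set.BijOn.equiv _ (BR.bijOn_normRed (A := A) (Ah := E)))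
  obtain ⟨ι, -⟩ : ∃ ι : ResidueField E →ₐ[ResidueField A]
      AlgebraicClosure (ResidueField A), True := ⟨IsAlgClosed.lift, trivial⟩
  have hθχ : ((ι : ResidueField E →+* AlgebraicClosure (ResidueField A)).comp
      (residue E)).comp (algebraMap A E) = Brnch.toClosure A := by
    refine RingHom.ext (fun a => ?_)
    show ι (residue E (algebraMap A E a)) = _
    have h1 : residue E (algebraMap A E a) =
        algebraMap (ResidueField A) (ResidueField E) (residue A a) := rfl
    rw [h1, ι.commutes]
    rfl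
  unfold Brnch.numGeomBranches
  rw [if_pos hfin, ← e1,
    DM.card_minimalPrimes_eq_card_maximalSpectrum A (CAlg2.normRed A) E hdom,
    GB.card_maximalSpectrum_eq_card_homs A (CAlg2.normRed A) E
      (AlgebraicClosure (ResidueField A))
      (ι : ResidueField E →+* AlgebraicClosure (ResidueField A)),
    ← GB.card_homs_eq_card_sigma A]
  exact GB.card_homs_eq_card_homs_left A (CAlg2.normRed A) E (AlgebraicClosure (ResidueField A))
    ((ι : ResidueField E →+* AlgebraicClosure (ResidueField A)).comp (residue E))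
    (Brnch.toClosure A) hθχ

end Count

section Completion

variable (A : Type u) [CommRing A] [IsLocalRing A] [IsNoetherianRing A]

theorem goodPair_completion : PC.GoodPair A (AdicCompletion (maximalIdeal A) A) := by
  refine ⟨AdicCompletion.flat_of_isNoetherian _, ?_, ?_⟩
  · rw [AdicCompletion.maximalIdeal_eq_map]
  · intro k y
    obtain ⟨a, ha⟩ := Submodule.mkQ_surjective _ (AdicCompletion.eval (maximalIdeal A) A k y)
    refine ⟨a, ?_⟩
    have e2 : AdicCompletion.eval (maximalIdeal A) A k
        (algebraMap A (AdicCompletion (maximalIdeal A) A) a) =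
        Submodule.mkQ (maximalIdeal A ^ k • ⊤ : Submodule A A) a := by
      rw [AdicCompletion.algebraMap_apply]
      rfl
    rw [AdicCompletion.maximalIdeal_eq_map, ← Ideal.map_pow, CF.mem_map_pow_iff, map_sub, e2,
      ha, sub_self]

theorem approx_completion (s : AdicCompletion (maximalIdeal A) A) :
    ∃ a : A, s - algebraMap A (AdicCompletion (maximalIdeal A) A) a ∈
      maximalIdeal (AdicCompletion (maximalIdeal A) A) := by
  obtain ⟨a, ha⟩ := (goodPair_completion A).dense 1 s
  exact ⟨a, by rwa [pow_one] at ha⟩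

end Completion

end Groth.Agent.Helper1.GF
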