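import Groth.Agent.Lib.Helper1.GF1
import Groth.Agent.S4749
import Groth.Agent.S2644

/-!
# `A' ⊗[A] Â` is a normal ring when the formal fibres of `A` are geometrically normal and the
normalization `A'` is finite
-/

set_option autoImplicit false

namespace Groth.Agent.Helper1.GF

open IsLocalRing TensorProduct EGA4 Groth.Agent.Helper1

universe u

variable (A : Type u) [CommRing A] [IsLocalRing A] [IsNoetherianRing A]

theorem isNormalHom_cpl (hA : HasGeomNormalFormalFibres A) : IsNormalHom A (Cpl A) :=
  ⟨AdicCompletion.flat_of_isNoetherian _, fun p _ => hA p⟩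

theorem isNoetherianRing_tensor_cpl (B : Type u) [CommRing B] [Algebra A B] [Module.Finite A B] :
    IsNoetherianRing (B ⊗[A] Cpl A) := by
  haveI : IsNoetherianRing (Cpl A) := Groth.Agent.S0543.result A (maximalIdeal A)
  haveI : IsNoetherianRing (Cpl A ⊗[A] B) :=
    Algebra.FiniteType.isNoetherianRing (Cpl A) (Cpl A ⊗[A] B)
  exact isNoetherianRing_of_ringEquiv (Cpl A ⊗[A] B)
    (Algebra.TensorProduct.comm A (Cpl A) B).toRingEquiv

theorem isNormalRing_normRed_tensor_cpl (hA : HasGeomNormalFormalFibres A)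
    [Module.Finite A (CAlg2.normRed A)] :
    IsNormalRing (CAlg2.normRed A ⊗[A] Cpl A) := by
  haveI : IsNoetherianRing (Cpl A) := Groth.Agent.S0543.result A (maximalIdeal A)
  haveI : IsNoetherianRing (CAlg2.normRed A) :=
    Algebra.FiniteType.isNoetherianRing A (CAlg2.normRed A)
  haveI := isNoetherianRing_tensor_cpl A (CAlg2.normRed A)
  have hfinp : (minimalPrimes A).Finite := minimalPrimes.finite_of_isNoetherianRing A
  have hN : IsNormalHom (CAlg2.normRed A) (CAlg2.normRed A ⊗[A] Cpl A) :=
    (Groth.Agent.S4749.result A (Cpl A) (CAlg2.normRed A) (Or.inr inferInstance)).1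
      (isNormalHom_cpl A hA)
  haveI := hN.1
  refine Groth.Agent.Helper7.NormAsc.isNormalRing_of_flat_of_fibres (CAlg2.normRed A)
    (CAlg2.normRed A ⊗[A] Cpl A) (fun P _ => NR.normal_localization_normRed A hfinp P) ?_
  intro p _
  have h1 := hN.2 p p.ResidueField inferInstance
  exact Groth.Agent.Helper7.GeomRed.isNormalRing_of_ringEquiv _ _
    (Algebra.TensorProduct.lid p.ResidueField
      (p.Fiber (CAlg2.normRed A ⊗[A] Cpl A))).toRingEquiv h1

end Groth.Agent.Helper1.GF
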