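import Groth.Agent.Lib.Helper1.GF2

/-!
# Branches and geometric branches of the completion, when `A' ⊗[A] Â` is normal
-/

set_option autoImplicit false

namespace Groth.Agent.Helper1.GF

open IsLocalRing TensorProduct EGA4 Groth.Agent.Helper1

universe u

/-- transport of "localizations at maximal ideals are domains" along a ring isomorphism -/
theorem isDomain_localization_of_ringEquiv {X Y : Type*} [CommRing X] [CommRing Y] (e : X ≃+* Y)
    (h : ∀ (M : Ideal X) [M.IsMaximal], IsDomain (Localization.AtPrime M))
    (M : Ideal Y) [hM : M.IsMaximal] : IsDomain (Localization.AtPrime M) := by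
  haveI : (M.comap e).IsMaximal := Ideal.comap_isMaximal_of_equiv e
  haveI := h (M.comap e)
  let f : Localization.AtPrime (M.comap e) ≃+* Localization.AtPrime M :=
    IsLocalization.ringEquivOfRingEquiv
      (Localization.AtPrime (M.comap e)) (Localization.AtPrime M) e (e.map_primeCompl_comap_eq M)
  exact f.symm.injective.isDomain f.symm.toRingHom

section Main

variable (A : Type u) [CommRing A] [IsLocalRing A] [IsNoetherianRing A]

theorem numBranches_cpl_eq (hA : HasGeomNormalFormalFibres A)
    [Module.Finite A (CAlg2.normRed A)] :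
    Brnch.numBranches (Cpl A) = Brnch.numBranches A := by
  have hW := isNormalRing_normRed_tensor_cpl A hA
  have hG := goodPair_completion A
  haveI := hG.faithfullyFlat
  haveI := hG.isLocalHom
  rw [CF.numBranches_completion_eq_card]
  exact card_minimalPrimes_eq_numBranches A (Cpl A) (approx_completion A)
    (minimalPrimes.finite_of_isNoetherianRing A) (fun M _ => (hW M).1)

section Strict

variable (E : Type u) [CommRing E] [IsLocalRing E] [Algebra (Cpl A) E]
  [IsLocalHom (algebraMap (Cpl A) E)] [Hensel.IsStrictHenselization (Cpl A) E]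
  [Algebra A E] [IsScalarTower A (Cpl A) E]

theorem isLocalHom_algebraMap_of_tower : IsLocalHom (algebraMap A E) := by
  haveI := (goodPair_completion A).isLocalHom
  rw [IsScalarTower.algebraMap_eq A (Cpl A) E]
  exact RingHom.isLocalHom_comp _ _

theorem isDomain_localization_normRed_tensor (hA : HasGeomNormalFormalFibres A)
    [Module.Finite A (CAlg2.normRed A)]
    (M : Ideal (CAlg2.normRed A ⊗[A] E)) [M.IsMaximal] :
    IsDomain (Localization.AtPrime M) := by
  have hW := isNormalRing_normRed_tensor_cpl A hA
  have hW' : IsNormalRing (Cpl A ⊗[A] CAlg2.normRed A) :=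
    Groth.Agent.Helper7.GeomRed.isNormalRing_of_ringEquiv _ _
      (Algebra.TensorProduct.comm A (CAlg2.normRed A) (Cpl A)).toRingEquiv hW
  haveI : Algebra.IsIntegral (Cpl A) (Cpl A ⊗[A] CAlg2.normRed A) := Algebra.IsIntegral.of_finite _ _
  let e1 : (Cpl A ⊗[A] CAlg2.normRed A) ⊗[Cpl A] E ≃+* E ⊗[Cpl A] (Cpl A ⊗[A] CAlg2.normRed A) :=
    (Algebra.TensorProduct.comm (Cpl A) (Cpl A ⊗[A] CAlg2.normRed A) E).toRingEquiv
  let e2 : E ⊗[Cpl A] (Cpl A ⊗[A] CAlg2.normRed A) ≃+* E ⊗[A] CAlg2.normRed A :=
    (Algebra.TensorProduct.cancelBaseChange A (Cpl A) (Cpl A) E (CAlg2.normRed A)).toRingEquiv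
  let e3 : E ⊗[A] CAlg2.normRed A ≃+* CAlg2.normRed A ⊗[A] E :=
    (Algebra.TensorProduct.comm A E (CAlg2.normRed A)).toRingEquiv
  exact isDomain_localization_of_ringEquiv
    (X := (Cpl A ⊗[A] CAlg2.normRed A) ⊗[Cpl A] E) (Y := CAlg2.normRed A ⊗[A] E)
    ((e1.trans e2).trans e3)
    (fun M' hM' => DM.isDomain_localization_shens (Cpl A) (Cpl A ⊗[A] CAlg2.normRed A) E M'
      (fun m' _ => hW' m')) M

include E in
theorem numGeomBranches_cpl_eq_aux (hA : HasGeomNormalFormalFibres A)
    [Module.Finite A (CAlg2.normRed A)] :
    Brnch.numGeomBranches (Cpl A) = Brnch.numGeomBranches A := by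
  haveI hE : HenselianLocalRing E := Hensel.IsStrictHenselization.henselian (R := Cpl A)
  haveI hloc : IsLocalHom (algebraMap A E) := isLocalHom_algebraMap_of_tower A E
  haveI hlocA := (goodPair_completion A).isLocalHom
  haveI : Module.Flat A (Cpl A) := AdicCompletion.flat_of_isNoetherian _
  haveI : Module.Flat (Cpl A) E := (HFlat.faithfullyFlat_of_isStrictHenselization (Cpl A) E).toFlat
  haveI : Module.Flat A E := Module.Flat.trans A (Cpl A) E
  haveI hsc : IsSepClosure (ResidueField (Cpl A)) (ResidueField E) :=
    Hensel.IsStrictHenselization.isSepClosure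
  haveI : IsSepClosed (ResidueField E) := hsc.sep_closed
  haveI : Algebra.IsSeparable (ResidueField (Cpl A)) (ResidueField E) := hsc.separable
  haveI : IsScalarTower (ResidueField A) (ResidueField (Cpl A)) (ResidueField E) := by
    apply IsScalarTower.of_algebraMap_eq
    intro x
    obtain ⟨a, rfl⟩ := IsLocalRing.residue_surjective x
    show ResidueField.map (algebraMap A E) (residue A a) =
      ResidueField.map (algebraMap (Cpl A) E)
        (ResidueField.map (algebraMap A (Cpl A)) (residue A a))
    rw [ResidueField.map_residue, ResidueField.map_residue, ResidueField.map_residue,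
      ← IsScalarTower.algebraMap_apply]
  haveI : Algebra.IsAlgebraic (ResidueField A) (ResidueField (Cpl A)) := by
    have hsurj : Function.Surjective (algebraMap (ResidueField A) (ResidueField (Cpl A))) := by
      intro y
      obtain ⟨s, rfl⟩ := IsLocalRing.residue_surjective y
      obtain ⟨a, ha⟩ := approx_completion A s
      refine ⟨residue A a, ?_⟩
      show ResidueField.map (algebraMap A (Cpl A)) (residue A a) = _
      rw [ResidueField.map_residue]
      symm
      rw [← sub_eq_zero, ← map_sub, residue_eq_zero_iff]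
      exact ha
    haveI : Algebra.IsIntegral (ResidueField A) (ResidueField (Cpl A)) :=
      Algebra.isIntegral_of_surjective hsurj
    exact Algebra.IsIntegral.isAlgebraic
  haveI : Algebra.IsAlgebraic (ResidueField A) (ResidueField E) :=
    Algebra.IsAlgebraic.trans (ResidueField A) (ResidueField (Cpl A)) (ResidueField E)
  rw [← GB.card_minimalPrimes_eq_numGeomBranches (Cpl A) E]
  exact card_minimalPrimes_eq_numGeomBranches A E
    (minimalPrimes.finite_of_isNoetherianRing A)
    (fun M _ => isDomain_localization_normRed_tensor A E hA M)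

end Strict

end Main

end Groth.Agent.Helper1.GF
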