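import Groth.Agent.Lib.Helper1.NR2

/-!
# One branch iff unibranch
-/

set_option autoImplicit false
universe u

namespace Groth.Agent.Helper1.NR

theorem nontrivial_red (A : Type u) [CommRing A] [Nontrivial A] : Nontrivial (CAlg2.red A) := by
  apply Ideal.Quotient.nontrivial_iff.mpr
  intro htop
  have h1 : (1 : A) ∈ nilradical A := htop ▸ Submodule.mem_top
  exact not_isNilpotent_one (mem_nilradical.mp h1)

theorem finite_minimalPrimes_of_isDomain_red (A : Type u) [CommRing A]
    [hdom : IsDomain (CAlg2.red A)] : (minimalPrimes A).Finite := by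
  have hprime : (nilradical A).IsPrime := (Ideal.Quotient.isDomain_iff_prime (nilradical A)).mp hdom
  apply (Set.finite_singleton (nilradical A)).subset
  intro p hp
  haveI : p.IsPrime := hp.1.1
  have h1 : nilradical A ≤ p := nilradical_le_prime p
  exact le_antisymm (hp.2 ⟨hprime, bot_le⟩ h1) h1

theorem numBranches_eq_one_iff (A : Type u) [CommRing A] [IsLocalRing A] :
    Brnch.numBranches A = 1 ↔ CAlg2.IsUnibranch A := by
  unfold Brnch.numBranches CAlg2.IsUnibranch
  constructor
  · intro h
    by_cases hfin : (minimalPrimes A).Finite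
    · rw [if_pos hfin] at h
      obtain ⟨hU⟩ := ENat.card_eq_one_iff_unique.mp h
      haveI hloc : IsLocalRing (CAlg2.normRed A) :=
        IsLocalRing.of_unique_max_ideal ⟨hU.default.asIdeal, hU.default.isMaximal,
          fun I hI => congrArg MaximalSpectrum.asIdeal (hU.uniq ⟨I, hI⟩)⟩
      haveI : Nontrivial (CAlg2.red A) := nontrivial_red A
      exact ⟨isDomain_of_isLocalRing_integralClosure (finite_minimalPrimes_red A hfin)
        (FractionRing (CAlg2.red A)), hloc⟩
    · rw [if_neg hfin] at h
      exact absurd h (by simp)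
  · rintro ⟨hdom, hloc⟩
    have hfin : (minimalPrimes A).Finite := finite_minimalPrimes_of_isDomain_red A
    rw [if_pos hfin]
    exact ENat.card_eq_one_iff_unique.mpr ⟨inferInstance⟩

end Groth.Agent.Helper1.NR
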