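import Groth.Agent.Lib.Helper1.GI3

/-!
# The fraction field of the completion of a henselian local domain with geometrically normal
formal fibres: geometrically reduced over `Frac A`, and `Frac A` is algebraically closed in it
-/

set_option autoImplicit false

namespace Groth.Agent.Helper1.GI

open IsLocalRing TensorProduct EGA4

universe u

variable (A : Type u) [CommRing A] [HenselianLocalRing A] [IsNoetherianRing A]

attribute [local instance] Algebra.TensorProduct.rightAlgebra in
theorem isDomain_fractionRing_cpl_tensor (hA : HasGeomNormalFormalFibres A) [IsDomain (Cpl A)]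
    (L : Type u) [Field L] [Algebra (Cpl A) L] [IsFractionRing (Cpl A) L] [Algebra A L]
    [IsScalarTower A (Cpl A) L] (K' : Type u) [Field K'] [Algebra A K']
    (hinj : Function.Injective (algebraMap A K')) : IsDomain (L ⊗[A] K') := by
  haveI hD0 := isDomain_field_tensor_cpl A hA K'
  haveI hD : IsDomain (Cpl A ⊗[A] K') :=
    (Algebra.TensorProduct.comm A (Cpl A) K').toRingEquiv.injective.isDomain
      (Algebra.TensorProduct.comm A (Cpl A) K').toRingEquiv.toRingHom
  haveI hloc : IsLocalization
      (Algebra.algebraMapSubmonoid (Cpl A ⊗[A] K') (nonZeroDivisors (Cpl A)))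
      (L ⊗[Cpl A] (Cpl A ⊗[A] K')) := IsLocalization.tensorRight L (nonZeroDivisors (Cpl A))
  haveI : Module.Flat A (Cpl A) := AdicCompletion.flat_of_isNoetherian _
  have hinj' : Function.Injective (algebraMap (Cpl A) (Cpl A ⊗[A] K')) := by
    have h := Algebra.TensorProduct.includeLeft_injective (R := A) (S := Cpl A) (A := Cpl A)
      (B := K') hinj
    exact h
  have hle : Algebra.algebraMapSubmonoid (Cpl A ⊗[A] K') (nonZeroDivisors (Cpl A)) ≤
      nonZeroDivisors (Cpl A ⊗[A] K') := by
    rintro _ ⟨c, hc, rfl⟩
    apply mem_nonZeroDivisors_of_ne_zero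
    intro h0
    exact nonZeroDivisors.ne_zero hc (hinj' (by rw [h0, map_zero]))
  haveI : IsDomain (L ⊗[Cpl A] (Cpl A ⊗[A] K')) :=
    IsLocalization.isDomain_of_le_nonZeroDivisors (R := Cpl A ⊗[A] K')
      (L ⊗[Cpl A] (Cpl A ⊗[A] K')) hle
  let e := Algebra.TensorProduct.cancelBaseChange A (Cpl A) (Cpl A) L K'
  exact e.symm.toRingEquiv.injective.isDomain e.symm.toRingEquiv.toRingHom

theorem geomReduced_and_algClosed [IsDomain A] (h : HasGeomNormalFormalFibres A)
    [IsDomain (Cpl A)] (K L : Type u) [Field K] [Field L] [Algebra A K] [IsFractionRing A K]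
    [Algebra (Cpl A) L] [IsFractionRing (Cpl A) L] [Algebra K L] [Algebra A L]
    [IsScalarTower A K L] [IsScalarTower A (Cpl A) L] :
    Algebra.IsGeometricallyReduced K L ∧
      ∀ x : L, IsAlgebraic K x → x ∈ Set.range (algebraMap K L) := by
  have key : ∀ (K' : Type u) [Field K'] [Algebra K K'], IsDomain (L ⊗[K] K') := by
    intro K' _ _
    letI : Algebra A K' := ((algebraMap K K').comp (algebraMap A K)).toAlgebra
    haveI : IsScalarTower A K K' := IsScalarTower.of_algebraMap_eq (fun _ => rfl)
    have hinj : Function.Injective (algebraMap A K') := by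
      rw [IsScalarTower.algebraMap_eq A K K']
      exact (algebraMap K K').injective.comp (IsFractionRing.injective A K)
    haveI := isDomain_fractionRing_cpl_tensor A h L K' hinj
    let e := IsLocalization.algebraTensorEquiv (nonZeroDivisors A) K L K'
    exact e.toRingEquiv.injective.isDomain e.toRingEquiv.toRingHom
  constructor
  · rw [Algebra.isGeometricallyReduced_field_iff]
    haveI := key (AlgebraicClosure K)
    haveI : IsDomain (AlgebraicClosure K ⊗[K] L) :=
      (Algebra.TensorProduct.comm K (AlgebraicClosure K) L).toRingEquiv.injective.isDomain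
        (Algebra.TensorProduct.comm K (AlgebraicClosure K) L).toRingEquiv.toRingHom
    infer_instance
  · intro x hx
    haveI hfd : FiniteDimensional K (IntermediateField.adjoin K {x}) :=
      IntermediateField.adjoin.finiteDimensional hx.isIntegral
    haveI hdomLE := key (IntermediateField.adjoin K {x})
    let E : IntermediateField K L := IntermediateField.adjoin K {x}
    let j : E ⊗[K] E →ₐ[K] L ⊗[K] E := Algebra.TensorProduct.map E.val (AlgHom.id K E)
    have hj : Function.Injective j :=
      Module.Flat.rTensor_preserves_injective_linearMap (M := E) E.val.toLinearMap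
        E.val.injective
    haveI : IsDomain (E ⊗[K] E) := hj.isDomain j.toRingHom
    haveI : Algebra.IsIntegral K (E ⊗[K] E) := Algebra.IsIntegral.of_finite K _
    have hfield := isField_of_isIntegral_of_isField' (R := K) (S := E ⊗[K] E) (Field.toIsField K)
    let μ : E ⊗[K] E →ₐ[K] E := Algebra.TensorProduct.lmul' K
    have hμ : Function.Injective μ := by
      rw [injective_iff_map_eq_zero]
      intro t ht
      by_contra hne
      obtain ⟨t', ht'⟩ := hfield.mul_inv_cancel hne
      have ht'' : t * t' = 1 := ht'
      have h3 := congrArg μ ht''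
      have h4 : μ (t * t') = μ t * μ t' := map_mul μ t t'
      have h5 : μ (1 : E ⊗[K] E) = 1 := by
        rw [Algebra.TensorProduct.one_def]
        show Algebra.TensorProduct.lmul' K ((1 : E) ⊗ₜ[K] (1 : E)) = 1
        rw [Algebra.TensorProduct.lmul'_apply_tmul, mul_one]
      rw [h4, ht, zero_mul, h5] at h3
      exact zero_ne_one h3
    have hle : Module.finrank K (E ⊗[K] E) ≤ Module.finrank K E :=
      LinearMap.finrank_le_finrank_of_injective (f := μ.toLinearMap) hμ
    rw [Module.finrank_tensorProduct] at hle
    have hpos : 0 < Module.finrank K E := Module.finrank_pos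
    have h1 : Module.finrank K E = 1 := by
      have h2 : Module.finrank K E * Module.finrank K E ≤ Module.finrank K E * 1 := by
        rw [mul_one]; exact hle
      exact le_antisymm (Nat.le_of_mul_le_mul_left h2 hpos) hpos
    have hxbot : x ∈ (⊥ : IntermediateField K L) :=
      IntermediateField.finrank_adjoin_simple_eq_one_iff.mp h1
    exact IntermediateField.mem_bot.mp hxbot

end Groth.Agent.Helper1.GI
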