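import Mathlib
import Groth.Agent.Lib.Helper1.GU5

/-!
# Unramified + injective over a geometrically unibranch domain is étale (ring form), II
-/

set_option autoImplicit false
set_option linter.style.haveILetI false

open TensorProduct IsLocalRing

universe u

namespace Groth.Agent.Helper1.GU

theorem algebraMap_eq_zero_of_mem_ker {A B C : Type u} [CommRing A] [IsDomain A] [CommRing B]
    [Algebra A B] [CommRing C] [Algebra A C] [Algebra.Etale A C]
    (q : Ideal B) [hqprime : q.IsPrime] (p : Ideal A) [p.IsPrime] [q.LiesOver p]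
    (hinj : Function.Injective (Localization.localRingHom p q (algebraMap A B) (q.over_def p)))
    (Bf : Type u) [CommRing Bf] [Algebra B Bf] [Algebra A Bf] [IsScalarTower A B Bf] (f : B)
    (hf : f ∉ q)
    [IsLocalization.Away f Bf] (hqf : (q.map (algebraMap B Bf)).IsPrime)
    (φ : C →ₐ[A] Bf) (q' : Ideal C) [q'.IsPrime] (hq' : q' = (q.map (algebraMap B Bf)).comap φ)
    (T : Type u) [CommRing T] [IsDomain T] [Algebra C T] [IsLocalization.AtPrime T q'] [Algebra A T]
    [IsScalarTower A C T]
    (x : C) (hx : φ x = 0) : algebraMap C T x = 0 := by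
  by_contra ht
  have hq'mem : ∀ c : C, c ∈ q' ↔ φ c ∈ q.map (algebraMap B Bf) := fun c => by
    rw [hq']
    rfl
  have halg : IsAlgebraic A (algebraMap C T x) := (isAlgebraic_of_etale A C x).algebraMap
  obtain ⟨a, ha0, w, hw⟩ := halg.exists_nonzero_dvd (mem_nonZeroDivisors_of_ne_zero ht)
  obtain ⟨⟨c', s'⟩, hcs⟩ := IsLocalization.surj q'.primeCompl w
  have hcs' : w * algebraMap C T (s' : C) = algebraMap C T c' := hcs
  have h1 : algebraMap C T ((s' : C) * algebraMap A C a - x * c') = 0 := by
    rw [map_sub, map_mul, map_mul, ← IsScalarTower.algebraMap_apply A C T, hw, ← hcs']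
    ring
  obtain ⟨s'', hs''⟩ := (IsLocalization.map_eq_zero_iff q'.primeCompl T _).mp h1
  have h2 : φ (s'' : C) * φ (s' : C) * algebraMap A Bf a = 0 := by
    have h3 := congrArg φ hs''
    rw [map_mul, map_sub, map_mul, map_mul, hx, zero_mul, sub_zero, AlgHom.commutes, map_zero]
      at h3
    rw [mul_assoc]
    exact h3
  have hu : φ (s'' : C) * φ (s' : C) ∉ q.map (algebraMap B Bf) := by
    intro hmem
    rcases hqf.mem_or_mem hmem with h | h
    · exact s''.2 ((hq'mem _).mpr h)
    · exact s'.2 ((hq'mem _).mpr h)
  obtain ⟨⟨b, m₀⟩, hbm⟩ := IsLocalization.surj (Submonoid.powers f) (φ (s'' : C) * φ (s' : C))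
  have hbm' : φ (s'' : C) * φ (s' : C) * algebraMap B Bf (m₀ : B) = algebraMap B Bf b := hbm
  have hb : b ∉ q := by
    intro hbq
    have h4 : algebraMap B Bf b ∈ q.map (algebraMap B Bf) := Ideal.mem_map_of_mem _ hbq
    rw [← hbm'] at h4
    rcases hqf.mem_or_mem h4 with h | h
    · exact hu h
    · exact hqf.ne_top (Ideal.eq_top_of_isUnit_mem _ h (IsLocalization.map_units Bf m₀))
  have h5 : algebraMap B Bf (b * algebraMap A B a) = 0 := by
    rw [map_mul, ← hbm', ← IsScalarTower.algebraMap_apply A B Bf]
    calc φ (s'' : C) * φ (s' : C) * algebraMap B Bf (m₀ : B) * algebraMap A Bf a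
        = (φ (s'' : C) * φ (s' : C) * algebraMap A Bf a) * algebraMap B Bf (m₀ : B) := by ring
      _ = 0 := by rw [h2, zero_mul]
  obtain ⟨m₁, hm₁⟩ := (IsLocalization.map_eq_zero_iff (Submonoid.powers f) Bf _).mp h5
  have hm₁q : (m₁ : B) ∉ q := by
    obtain ⟨k, hk⟩ := m₁.2
    intro hmem
    rw [← hk] at hmem
    exact hf (hqprime.mem_of_pow_mem k hmem)
  have h6 : algebraMap B (Localization.AtPrime q) (algebraMap A B a) = 0 := by
    rw [IsLocalization.map_eq_zero_iff q.primeCompl]
    refine ⟨⟨(m₁ : B) * b, ?_⟩, ?_⟩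
    · intro hmem
      rcases hqprime.mem_or_mem hmem with h | h
      · exact hm₁q h
      · exact hb h
    · show (m₁ : B) * b * algebraMap A B a = 0
      rw [mul_assoc]
      exact hm₁
  have h7 : algebraMap A (Localization.AtPrime p) a = 0 := by
    apply hinj
    rw [Localization.localRingHom_to_map, map_zero]
    exact h6
  have h8 : a = 0 := by
    have hinjA := IsLocalization.injective (Localization.AtPrime p)
      (Ideal.primeCompl_le_nonZeroDivisors p)
    exact hinjA (by rw [h7, map_zero])
  exact ha0 h8

/-- S2136 -/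
theorem etale_away_of_unramified_of_injective {A B : Type u} [CommRing A] [IsDomain A] [CommRing B]
    [Algebra A B] (q : Ideal B) [hqprime : q.IsPrime] (p : Ideal A) [p.IsPrime] [q.LiesOver p]
    (hA : CAlg2.IsGeomUnibranch (Localization.AtPrime p)) [Algebra.FiniteType A B]
    [Algebra.IsUnramifiedAt A q]
    (hinj : Function.Injective (Localization.localRingHom p q (algebraMap A B) (q.over_def p))) :
    ∃ g : B, g ∉ q ∧ Algebra.Etale A (Localization.Away g) := by
  classical
  obtain ⟨f, hfq, P, φ, hφ⟩ :=
    Algebra.IsUnramifiedAt.exists_hasStandardEtaleSurjectionOn (R := A) q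
  have hdisj : Disjoint (Submonoid.powers f : Set B) (q : Set B) := by
    rw [Set.disjoint_left]
    rintro _ ⟨k, rfl⟩ hmem
    exact hfq (hqprime.mem_of_pow_mem k hmem)
  haveI hqf : (q.map (algebraMap B (Localization.Away f))).IsPrime :=
    IsLocalization.isPrime_of_isPrime_disjoint (Submonoid.powers f) _ q inferInstance hdisj
  have hqf_comap : (q.map (algebraMap B (Localization.Away f))).under B = q :=
    IsLocalization.under_map_of_isPrime_disjoint (Submonoid.powers f) _ inferInstance hdisj
  have hmem_iff : ∀ b : B, algebraMap B (Localization.Away f) b ∈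
      q.map (algebraMap B (Localization.Away f)) ↔ b ∈ q := by
    intro b
    constructor
    · intro h
      have h' : b ∈ ((q.map (algebraMap B (Localization.Away f))).under B) := h
      rwa [hqf_comap] at h'
    · intro h
      exact Ideal.mem_map_of_mem _ h
  set q' : Ideal P.Ring := (q.map (algebraMap B (Localization.Away f))).comap φ with hq'def
  haveI hq'prime : q'.IsPrime := Ideal.comap_isPrime φ _
  haveI hq'over : q'.LiesOver p := by
    refine ⟨?_⟩
    ext a
    have h1 : a ∈ q'.under A ↔ algebraMap A B a ∈ q := by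
      show φ (algebraMap A P.Ring a) ∈ q.map (algebraMap B (Localization.Away f)) ↔
        algebraMap A B a ∈ q
      rw [AlgHom.commutes, IsScalarTower.algebraMap_apply A B (Localization.Away f), hmem_iff]
    rw [h1, q.over_def p]
    rfl
  letI : Algebra (Localization.AtPrime p) (Localization.AtPrime q') :=
    (Localization.localRingHom p q' (algebraMap A P.Ring) (q'.over_def p)).toAlgebra
  haveI : IsScalarTower A (Localization.AtPrime p) (Localization.AtPrime q') := by
    refine IsScalarTower.of_algebraMap_eq fun a => ?_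
    show _ = Localization.localRingHom p q' (algebraMap A P.Ring) (q'.over_def p)
      (algebraMap A _ a)
    rw [Localization.localRingHom_to_map, ← IsScalarTower.algebraMap_apply A P.Ring]
  haveI : IsLocalHom (algebraMap (Localization.AtPrime p) (Localization.AtPrime q')) :=
    Localization.isLocalHom_localRingHom p q' _ _
  haveI hdomT : IsDomain (Localization.AtPrime q') :=
    (isGeomUnibranch_atPrime_of_etale p q' (Localization.AtPrime p) (Localization.AtPrime q')
      hA).2 inferInstance
  have hker : ∀ x : P.Ring, φ x = 0 →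
      algebraMap P.Ring (Localization.AtPrime q') x = 0 := fun x hx =>
    algebraMap_eq_zero_of_mem_ker q p hinj (Localization.Away f) f hfq hqf φ q' rfl
      (Localization.AtPrime q') x hx
  have hfin := finite_minimalPrimes_of_etale A P.Ring
  haveI : IsReduced P.Ring := isReduced_of_etale_of_isDomain A P.Ring
  let F : Finset (Ideal P.Ring) := hfin.toFinset.filter (fun P₀ => ¬ (P₀ ≤ q'))
  have hJ : ¬ (F.inf id ≤ q') := by
    intro hle
    obtain ⟨P₀, hP₀F, hP₀le⟩ := (Ideal.IsPrime.inf_le' hq'prime).mp hle
    exact (Finset.mem_filter.mp hP₀F).2 hP₀le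
  obtain ⟨g', hg'J, hg'q'⟩ := SetLike.not_le_iff_exists.mp hJ
  have hg'I : ∀ x : P.Ring, φ x = 0 → g' * x = 0 := by
    intro x hx
    have hxN := hker x hx
    have hmem : g' * x ∈ sInf (minimalPrimes P.Ring) := by
      rw [Ideal.mem_sInf]
      intro P₀ hP₀
      haveI hP₀prime : P₀.IsPrime := Ideal.IsMinimalPrime.isPrime hP₀
      by_cases hle : P₀ ≤ q'
      · obtain ⟨s, hs⟩ := (IsLocalization.map_eq_zero_iff q'.primeCompl
          (Localization.AtPrime q') x).mp hxN
        have h0 : (s : P.Ring) * x ∈ P₀ := by
          rw [hs]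
          exact P₀.zero_mem
        rcases hP₀prime.mem_or_mem h0 with h | h
        · exact absurd (hle h) s.2
        · exact P₀.mul_mem_left _ h
      · have hP₀F : P₀ ∈ F := Finset.mem_filter.mpr ⟨hfin.mem_toFinset.mpr hP₀, hle⟩
        have h1 : F.inf id ≤ P₀ := Finset.inf_le hP₀F
        exact P₀.mul_mem_right _ (h1 hg'J)
    have h0 : sInf (minimalPrimes P.Ring) = ⊥ := by
      show sInf (⊥ : Ideal P.Ring).minimalPrimes = ⊥
      rw [Ideal.sInf_minimalPrimes]
      exact nilradical_eq_zero P.Ring
    rw [h0] at hmem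
    exact hmem
  -- the localized map
  let ψ : Localization.Away g' →ₐ[A] Localization.Away (φ g') :=
    IsLocalization.Away.mapₐ (Localization.Away g') (Localization.Away (φ g')) φ g'
  have hψalg : ∀ c : P.Ring, ψ (algebraMap P.Ring (Localization.Away g') c) =
      algebraMap (Localization.Away f) (Localization.Away (φ g')) (φ c) := by
    intro c
    simp [ψ, IsLocalization.Away.map, IsLocalization.map_eq]
  have hψsurj : Function.Surjective ψ :=
    IsLocalization.Away.mapₐ_surjective_of_surjective (Aₚ := Localization.Away g')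
      (Bₚ := Localization.Away (φ g')) g' hφ
  have hψinj : Function.Injective ψ := by
    rw [injective_iff_map_eq_zero]
    intro y hy
    obtain ⟨⟨c, m⟩, hcm⟩ := IsLocalization.surj (Submonoid.powers g') y
    have hcm' : y * algebraMap P.Ring (Localization.Away g') (m : P.Ring) =
        algebraMap P.Ring (Localization.Away g') c := hcm
    have h1 : algebraMap (Localization.Away f) (Localization.Away (φ g')) (φ c) = 0 := by
      rw [← hψalg, ← hcm', map_mul, hy, zero_mul]
    obtain ⟨m₂, hm₂⟩ := (IsLocalization.map_eq_zero_iff (Submonoid.powers (φ g'))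
      (Localization.Away (φ g')) _).mp h1
    obtain ⟨k, hk⟩ := m₂.2
    have h2 : φ (g' ^ k * c) = 0 := by
      rw [map_mul, map_pow]
      rw [← hk] at hm₂
      exact hm₂
    have h3 : g' * (g' ^ k * c) = 0 := hg'I _ h2
    have h4 : algebraMap P.Ring (Localization.Away g') c = 0 := by
      rw [IsLocalization.map_eq_zero_iff (Submonoid.powers g')]
      refine ⟨⟨g' ^ (k + 1), ⟨k + 1, rfl⟩⟩, ?_⟩
      show g' ^ (k + 1) * c = 0
      rw [pow_succ', mul_assoc]
      exact h3
    rw [h4] at hcm'
    exact (IsLocalization.map_units (Localization.Away g') m).mul_left_eq_zero.mp hcm'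
  haveI : Algebra.Etale A (Localization.Away g') := inferInstance
  let eψ : Localization.Away g' ≃ₐ[A] Localization.Away (φ g') :=
    AlgEquiv.ofBijective ψ ⟨hψinj, hψsurj⟩
  haveI : Algebra.Etale A (Localization.Away (φ g')) := Algebra.Etale.of_equiv eψ
  have hassoc : Associated (algebraMap B (Localization.Away f)
      (IsLocalization.Away.sec f (φ g')).1) (φ g') :=
    IsLocalization.Away.associated_sec_fst f (φ g')
  haveI : IsLocalization.Away (f * (IsLocalization.Away.sec f (φ g')).1)
      (Localization.Away (φ g')) :=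
    IsLocalization.Away.mul_of_associated (S := Localization.Away f) f
      (IsLocalization.Away.sec f (φ g')).1 (φ g') hassoc
  let e2 : Localization.Away (f * (IsLocalization.Away.sec f (φ g')).1) ≃ₐ[B]
      Localization.Away (φ g') :=
    IsLocalization.algEquiv (Submonoid.powers (f * (IsLocalization.Away.sec f (φ g')).1)) _ _
  haveI : Algebra.Etale A (Localization.Away (f * (IsLocalization.Away.sec f (φ g')).1)) :=
    Algebra.Etale.of_equiv (e2.restrictScalars A).symm
  refine ⟨f * (IsLocalization.Away.sec f (φ g')).1, ?_, inferInstance⟩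
  intro hmem
  rcases hqprime.mem_or_mem hmem with h | h
  · exact hfq h
  · have h1 : algebraMap B (Localization.Away f) (IsLocalization.Away.sec f (φ g')).1 ∈
        q.map (algebraMap B (Localization.Away f)) := Ideal.mem_map_of_mem _ h
    obtain ⟨u, hu⟩ := hassoc
    have h2 : φ g' ∈ q.map (algebraMap B (Localization.Away f)) := by
      rw [← hu]
      exact Ideal.mul_mem_right _ _ h1
    exact hg'q' h2

end Groth.Agent.Helper1.GU
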