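import Mathlib
import Groth.Agent.Lib.Helper1.GU4
import Groth.Agent.Lib.Helper1.GU6
import Groth.Agent.Lib.Helper16.Sch.UnramLocus

/-!
# Unramified morphisms over geometrically unibranch integral schemes: étaleness near a point
-/

set_option autoImplicit false
set_option linter.style.haveILetI false

open CategoryTheory CategoryTheory.Limits AlgebraicGeometry Opposite TopologicalSpace

universe u

namespace Groth.Agent.Helper1.GU

set_option backward.defeqAttrib.useBackward true in
set_option backward.isDefEq.respectTransparency false in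
/-- from ring-level étaleness of a basic open to scheme-level -/
theorem etale_basicOpen_ι_comp {X Y : Scheme.{u}} (f : X ⟶ Y) (V : Y.Opens) (hV : IsAffineOpen V)
    (W : X.Opens) (hW : IsAffineOpen W) (e : W ≤ f ⁻¹ᵁ V) (g : Γ(X, W))
    (hr : ((algebraMap Γ(X, W) (Localization.Away g)).comp (f.appLE V W e).hom).Etale) :
    Etale ((X.basicOpen g).ι ≫ f) := by
  have hU' : IsAffineOpen (X.basicOpen g) := hW.basicOpen g
  have e' : X.basicOpen g ≤ f ⁻¹ᵁ V := (X.basicOpen_le g).trans e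
  have h1 : (f.appLE V (X.basicOpen g) e').hom.Etale := by
    have := hW.isLocalization_basicOpen g
    convert RingHom.Etale.propertyIsLocal.respectsIso.1 _
        (IsLocalization.algEquiv (.powers g) _ Γ(X, X.basicOpen g)).toRingEquiv hr
    ext
    dsimp
    simp only [IsLocalization.map_eq]
    simp only [RingHom.algebraMap_toAlgebra, RingHomCompTriple.comp_apply, ← ConcreteCategory.comp_apply,
      Scheme.Hom.appLE_map]
  have h2 : Etale (f.resLE V (X.basicOpen g) e') := by
    have : IsAffine _ := hV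
    have : IsAffine _ := hU'
    rw [HasRingHomProperty.iff_of_isAffine (P := @Etale)]
    exact (RingHom.Etale.propertyIsLocal.respectsIso.arrow_mk_iso_iff
      (arrowResLEAppIso f V _ e')).mpr h1
  rw [← Scheme.Hom.resLE_comp_ι f e']
  infer_instance

set_option backward.defeqAttrib.useBackward true in
set_option backward.isDefEq.respectTransparency false in
/-- S1451 -/
theorem exists_etale_nhd_of_unrAt {X Y : Scheme.{u}} (f : X ⟶ Y) [IsIntegral Y]
    [LocallyOfFiniteType f] (x : X)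
    (hY : CAlg2.IsGeomUnibranch (Y.presheaf.stalk (f x)))
    (hsp : ∃ x' : X, x' ⤳ x ∧ f x' = genericPoint ↑Y)
    (hunr : ∃ U : X.Opens, x ∈ U ∧ FormallyUnramified (U.ι ≫ f)) :
    ∃ U : X.Opens, x ∈ U ∧ Etale (U.ι ≫ f) := by
  obtain ⟨_, ⟨V, hV, rfl⟩, hxV, -⟩ :=
    Y.isBasis_affineOpens.exists_subset_of_mem_open (Set.mem_univ (f x)) isOpen_univ
  obtain ⟨_, ⟨W, hW, rfl⟩, hxW, hWV⟩ :=
    X.isBasis_affineOpens.exists_subset_of_mem_open hxV (V.2.preimage f.continuous)
  have hft := f.finiteType_appLE hV hW hWV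
  algebraize [(f.appLE V W hWV).hom]
  haveI : Nonempty V := ⟨⟨f x, hxV⟩⟩
  haveI : IsDomain Γ(Y, V) := inferInstance
  let p := (hV.primeIdealOf ⟨f x, hxV⟩).asIdeal
  let q := (hW.primeIdealOf ⟨x, hxW⟩).asIdeal
  haveI hlo : q.LiesOver p :=
    ⟨congr($(IsAffineOpen.comap_primeIdealOf_appLE V hV W hW hWV hxW).1).symm⟩
  have hAp : CAlg2.IsGeomUnibranch (Localization.AtPrime p) := by
    letI := TopCat.Presheaf.algebra_section_stalk Y.presheaf (⟨f x, hxV⟩ : V)
    haveI := hV.isLocalization_stalk ⟨f x, hxV⟩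
    let e := IsLocalization.algEquiv p.primeCompl (Y.presheaf.stalk (f x))
      (Localization.AtPrime p)
    exact isGeomUnibranch_of_ringEquiv e.toRingEquiv hY
  haveI hunrq : Algebra.IsUnramifiedAt Γ(Y, V) q :=
    (Groth.Agent.Helper16.UnramLocus.unrAt_iff_mem_unramifiedLocus V hV W hW hWV hxW).mp hunr
  obtain ⟨x', hx'x, hx'η⟩ := hsp
  have hx'W : x' ∈ W := hx'x.mem_open W.2 hxW
  have hq₀q : hW.primeIdealOf ⟨x', hx'W⟩ ≤ hW.primeIdealOf ⟨x, hxW⟩ := by
    rw [PrimeSpectrum.le_iff_specializes]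
    have h1 : (⟨x', hx'W⟩ : W) ⤳ ⟨x, hxW⟩ := (subtype_specializes_iff _ _).mpr hx'x
    exact h1.map hW.isoSpec.hom.continuous
  have hq₀A : ∀ a : Γ(Y, V), algebraMap Γ(Y, V) Γ(X, W) a ∈
      (hW.primeIdealOf ⟨x', hx'W⟩).asIdeal → a = 0 := by
    intro a ha
    have h1 : a ∈ (hV.primeIdealOf ⟨f x', hWV hx'W⟩).asIdeal := by
      rw [← IsAffineOpen.comap_primeIdealOf_appLE V hV W hW hWV hx'W]
      exact ha
    haveI : (⊥ : Ideal Γ(Y, V)).IsPrime := Ideal.isPrime_bot
    let z : V := hV.isoSpec.inv (⟨⊥, Ideal.isPrime_bot⟩ : PrimeSpectrum Γ(Y, V))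
    have hz : hV.primeIdealOf z = ⟨⊥, Ideal.isPrime_bot⟩ := by
      simp [IsAffineOpen.primeIdealOf, z]
    have h2 : (⟨f x', hWV hx'W⟩ : V) ⤳ z := by
      rw [subtype_specializes_iff]
      show f x' ⤳ (z : Y)
      rw [hx'η]
      exact genericPoint_specializes _
    have h3 : hV.primeIdealOf ⟨f x', hWV hx'W⟩ ≤ hV.primeIdealOf z := by
      rw [PrimeSpectrum.le_iff_specializes]
      exact h2.map hV.isoSpec.hom.continuous
    rw [hz] at h3
    have h4 : a ∈ (⊥ : Ideal Γ(Y, V)) := h3 h1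
    exact h4
  have hinj : Function.Injective
      (Localization.localRingHom p q (algebraMap Γ(Y, V) Γ(X, W)) (q.over_def p)) := by
    rw [injective_iff_map_eq_zero]
    intro ξ hξ
    obtain ⟨⟨a, s⟩, has⟩ := IsLocalization.surj p.primeCompl ξ
    have has' : ξ * algebraMap Γ(Y, V) (Localization.AtPrime p) (s : Γ(Y, V)) =
        algebraMap Γ(Y, V) (Localization.AtPrime p) a := has
    have h1 : Localization.localRingHom p q (algebraMap Γ(Y, V) Γ(X, W)) (q.over_def p)
        (algebraMap Γ(Y, V) (Localization.AtPrime p) a) = 0 := by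
      rw [← has', map_mul, hξ, zero_mul]
    rw [Localization.localRingHom_to_map] at h1
    obtain ⟨t, ht⟩ := (IsLocalization.map_eq_zero_iff q.primeCompl _ _).mp h1
    have h2 : algebraMap Γ(Y, V) Γ(X, W) a ∈ (hW.primeIdealOf ⟨x', hx'W⟩).asIdeal := by
      have h3 : (t : Γ(X, W)) * algebraMap Γ(Y, V) Γ(X, W) a ∈
          (hW.primeIdealOf ⟨x', hx'W⟩).asIdeal := by
        rw [ht]
        exact Ideal.zero_mem _
      rcases (hW.primeIdealOf ⟨x', hx'W⟩).isPrime.mem_or_mem h3 with h | h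
      · exact absurd (hq₀q h) t.2
      · exact h
    have ha : a = 0 := hq₀A a h2
    rw [ha, map_zero] at has'
    exact (IsLocalization.map_units _ s).mul_left_eq_zero.mp has'
  obtain ⟨g, hgq, hg⟩ := etale_away_of_unramified_of_injective q p hAp hinj
  refine ⟨X.basicOpen g, ?_, etale_basicOpen_ι_comp f V hV W hW hWV g ?_⟩
  · have hrx : hW.primeIdealOf ⟨x, hxW⟩ ∈ PrimeSpectrum.basicOpen g := hgq
    rwa [IsAffineOpen.primeIdealOf, ← hW.fromSpec_preimage_basicOpen,
      Scheme.Hom.mem_preimage, ← Scheme.Hom.comp_apply,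
      IsAffineOpen.isoSpec_hom, IsAffineOpen.toSpecΓ_fromSpec] at hrx
  · have h1 : (algebraMap Γ(Y, V) (Localization.Away g)).Etale := RingHom.etale_algebraMap.mpr hg
    rw [IsScalarTower.algebraMap_eq Γ(Y, V) Γ(X, W) (Localization.Away g)] at h1
    exact h1

end Groth.Agent.Helper1.GU
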