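import Mathlib

/-!
# A topological lemma: spaces covered by a locally finite family of closures of "generic" points
-/

set_option autoImplicit false

namespace Groth.Agent.Helper1.GU

section Top

variable {X : Type*} [TopologicalSpace X] (F : Set X)

/-- the union of closures of points of a subfamily of `F` is closed, when `F` is locally finite -/
theorem isClosed_iUnion_closure_of_locallyFinite
    (h3 : ∀ x : X, ∃ W : Set X, IsOpen W ∧ x ∈ W ∧ (F ∩ W).Finite) (G : Set X) (hG : G ⊆ F) :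
    IsClosed (⋃ ζ : G, closure ({(ζ : X)} : Set X)) := by
  refine LocallyFinite.isClosed_iUnion ?_ (fun _ => isClosed_closure)
  intro x
  obtain ⟨W, hWo, hxW, hfin⟩ := h3 x
  refine ⟨W, hWo.mem_nhds hxW, ?_⟩
  refine (hfin.preimage (Subtype.val_injective.injOn) : ((Subtype.val : G → X) ⁻¹' (F ∩ W)).Finite).subset ?_
  rintro ζ ⟨y, hy, hyW⟩
  refine ⟨hG ζ.2, ?_⟩
  exact (specializes_iff_mem_closure.mpr hy).mem_open hWo hyW

variable (h1 : ∀ x : X, ∃ ζ ∈ F, ζ ⤳ x)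
  (h2 : ∀ (x ζ₁ ζ₂ : X), ζ₁ ∈ F → ζ₂ ∈ F → ζ₁ ⤳ x → ζ₂ ⤳ x → ζ₁ = ζ₂)
  (h3 : ∀ x : X, ∃ W : Set X, IsOpen W ∧ x ∈ W ∧ (F ∩ W).Finite)

include h1 h2 h3 in
theorem isOpen_closure_singleton {ζ : X} (hζ : ζ ∈ F) : IsOpen (closure ({ζ} : Set X)) := by
  have hcl := isClosed_iUnion_closure_of_locallyFinite F h3 (F \ {ζ}) Set.diff_subset
  have heq : (closure ({ζ} : Set X))ᶜ = ⋃ ζ' : ↥(F \ {ζ}), closure ({(ζ' : X)} : Set X) := by
    ext x
    simp only [Set.mem_compl_iff, Set.mem_iUnion]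
    constructor
    · intro hx
      obtain ⟨ζ', hζ'F, hζ'x⟩ := h1 x
      refine ⟨⟨ζ', hζ'F, ?_⟩, specializes_iff_mem_closure.mp hζ'x⟩
      intro h
      rw [Set.mem_singleton_iff.mp h] at hζ'x
      exact hx (specializes_iff_mem_closure.mp hζ'x)
    · rintro ⟨⟨ζ', hζ'F, hne⟩, hx⟩ hx'
      apply hne
      exact h2 x ζ' ζ hζ'F hζ (specializes_iff_mem_closure.mpr hx)
        (specializes_iff_mem_closure.mpr hx')
  rw [← isClosed_compl_iff, heq]
  exact hcl

include h1 h2 h3 in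
theorem irreducibleSpace_of_preconnected [PreconnectedSpace X] [Nonempty X] :
    IrreducibleSpace X := by
  obtain ⟨x₀⟩ := ‹Nonempty X›
  obtain ⟨ζ₀, hζ₀F, hζ₀x⟩ := h1 x₀
  have hclopen : IsClopen (closure ({ζ₀} : Set X)) :=
    ⟨isClosed_closure, isOpen_closure_singleton F h1 h2 h3 hζ₀F⟩
  have huniv : closure ({ζ₀} : Set X) = Set.univ :=
    hclopen.eq_univ ⟨ζ₀, subset_closure (Set.mem_singleton ζ₀)⟩
  rw [irreducibleSpace_def]
  show IsIrreducible (Set.univ : Set X)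
  rw [← huniv]
  exact isIrreducible_singleton.closure

include h1 h2 h3 in
/-- an irreducible set meeting `closure {ζ}` is contained in it -/
theorem subset_closure_of_isIrreducible {ζ : X} (hζ : ζ ∈ F) {Z' : Set X} (hZ' : IsIrreducible Z')
    (hne : (Z' ∩ closure ({ζ} : Set X)).Nonempty) : Z' ⊆ closure ({ζ} : Set X) := by
  by_contra hnot
  obtain ⟨y, hyZ', hy⟩ := Set.not_subset.mp hnot
  have hopen := isOpen_closure_singleton F h1 h2 h3 hζ
  have hopen' : IsOpen (closure ({ζ} : Set X))ᶜ := isClosed_closure.isOpen_compl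
  obtain ⟨z, hz, hz1, hz2⟩ := hZ'.2 _ _ hopen hopen' hne ⟨y, hyZ', hy⟩
  exact hz2 hz1

include h1 h2 h3 in
theorem closure_mem_irreducibleComponents {ζ : X} (hζ : ζ ∈ F) :
    closure ({ζ} : Set X) ∈ irreducibleComponents X := by
  refine ⟨isIrreducible_singleton.closure, ?_⟩
  intro Z' hZ' hle
  exact subset_closure_of_isIrreducible F h1 h2 h3 hζ hZ'
    ⟨ζ, hle (subset_closure (Set.mem_singleton ζ)), subset_closure (Set.mem_singleton ζ)⟩

include h1 h2 h3 in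
theorem eq_closure_of_mem_irreducibleComponents {Z : Set X} (hZ : Z ∈ irreducibleComponents X)
    {x ζ : X} (hx : x ∈ Z) (hζ : ζ ∈ F) (hζx : ζ ⤳ x) : Z = closure ({ζ} : Set X) := by
  have hsub : Z ⊆ closure ({ζ} : Set X) :=
    subset_closure_of_isIrreducible F h1 h2 h3 hζ hZ.1 ⟨x, hx, specializes_iff_mem_closure.mp hζx⟩
  exact le_antisymm hsub (hZ.2 isIrreducible_singleton.closure hsub)

include h1 h2 h3 in
theorem existsUnique_irreducibleComponent (x : X) :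
    ∃! Z, Z ∈ irreducibleComponents X ∧ x ∈ Z := by
  obtain ⟨ζ, hζF, hζx⟩ := h1 x
  refine ⟨closure ({ζ} : Set X), ⟨closure_mem_irreducibleComponents F h1 h2 h3 hζF,
    specializes_iff_mem_closure.mp hζx⟩, ?_⟩
  rintro Z ⟨hZ, hxZ⟩
  exact eq_closure_of_mem_irreducibleComponents F h1 h2 h3 hZ hxZ hζF hζx

include h1 h2 h3 in
theorem isOpen_and_existsUnique_of_mem_irreducibleComponents {Z : Set X}
    (hZ : Z ∈ irreducibleComponents X) : IsOpen Z ∧ ∃! x, x ∈ Z ∧ x ∈ F := by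
  obtain ⟨x, hx⟩ := hZ.1.1
  obtain ⟨ζ, hζF, hζx⟩ := h1 x
  have hZeq := eq_closure_of_mem_irreducibleComponents F h1 h2 h3 hZ hx hζF hζx
  refine ⟨hZeq ▸ isOpen_closure_singleton F h1 h2 h3 hζF, ζ, ⟨?_, hζF⟩, ?_⟩
  · rw [hZeq]
    exact subset_closure (Set.mem_singleton ζ)
  · rintro ζ' ⟨hζ'Z, hζ'F⟩
    rw [hZeq] at hζ'Z
    exact h2 ζ' ζ' ζ hζ'F hζF specializes_rfl (specializes_iff_mem_closure.mpr hζ'Z)

end Top

end Groth.Agent.Helper1.GU
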