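import Mathlib
import Groth.Agent.Lib.Helper1.GU7
import Groth.Agent.Lib.Helper1.GU8

/-!
# Étale / unramified morphisms over irreducible geometrically unibranch schemes: components
-/

set_option autoImplicit false
set_option linter.style.haveILetI false

open CategoryTheory CategoryTheory.Limits AlgebraicGeometry Opposite TopologicalSpace

universe u

namespace Groth.Agent.Helper1.GU

theorem locallyQuasiFinite_of_unramified {X Y : Scheme.{u}} (f : X ⟶ Y) [FormallyUnramified f]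
    [LocallyOfFiniteType f] : LocallyQuasiFinite f := by
  refine ⟨fun {U} hU {V} hV e => ?_⟩
  have h1 : (f.appLE U V e).hom.FormallyUnramified :=
    HasRingHomProperty.appLE (P := @FormallyUnramified) f inferInstance ⟨U, hU⟩ ⟨V, hV⟩ e
  have h2 : (f.appLE U V e).hom.FiniteType := f.finiteType_appLE hU hV e
  algebraize [(f.appLE U V e).hom]
  show @Algebra.QuasiFinite _ _ _ _ (f.appLE U V e).hom.toAlgebra
  infer_instance

theorem exists_generic_generization (X : Scheme.{u}) (x : X)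
    (h : (nilradical (X.presheaf.stalk x)).IsPrime) :
    ∃ ζ₀ : X, ζ₀ ⤳ x ∧ ∀ ζ : X, ζ ⤳ x → ζ₀ ⤳ ζ := by
  let P₀ : PrimeSpectrum (X.presheaf.stalk x) := ⟨nilradical _, h⟩
  refine ⟨X.fromSpecStalk x P₀, ?_, ?_⟩
  · have h1 : X.fromSpecStalk x P₀ ∈ Set.range (X.fromSpecStalk x) := ⟨P₀, rfl⟩
    rw [Scheme.range_fromSpecStalk] at h1
    exact h1
  · intro ζ hζ
    have h1 : ζ ∈ Set.range (X.fromSpecStalk x) := by
      rw [Scheme.range_fromSpecStalk]
      exact hζ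
    obtain ⟨P, rfl⟩ := h1
    have hle : P₀ ≤ P := fun a ha => nilradical_le_prime P.asIdeal ha
    exact ((PrimeSpectrum.le_iff_specializes P₀ P).mp hle).map (X.fromSpecStalk x).continuous

theorem eq_of_specializes_of_fiber {X Y : Scheme.{u}} (f : X ⟶ Y) [LocallyQuasiFinite f]
    [IrreducibleSpace Y] (x : X)
    (h : (nilradical (X.presheaf.stalk x)).IsPrime) (ζ₁ ζ₂ : X) (h₁ : ζ₁ ⤳ x) (h₂ : ζ₂ ⤳ x)
    (hf₁ : f ζ₁ = genericPoint Y) (hf₂ : f ζ₂ = genericPoint Y) : ζ₁ = ζ₂ := by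
  obtain ⟨ζ₀, hζ₀x, hζ₀⟩ := exists_generic_generization X x h
  have hf₀ : f ζ₀ = genericPoint Y := by
    have h3 : f ζ₀ ⤳ f ζ₁ := (hζ₀ ζ₁ h₁).map f.continuous
    rw [hf₁] at h3
    exact (h3.antisymm (genericPoint_specializes _)).eq
  have key : ∀ ζ, ζ ⤳ x → f ζ = genericPoint Y → ζ₀ = ζ := by
    intro ζ hζ hfζ
    have hdisc := f.isDiscrete_preimage_singleton (genericPoint Y)
    rw [isDiscrete_iff_forall_mem_exists_isOpen] at hdisc
    obtain ⟨u, hu, hueq⟩ := hdisc ζ hfζ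
    have hζu : ζ ∈ u := (hueq.symm ▸ Set.mem_singleton ζ : ζ ∈ u ∩ _).1
    have hζ₀u : ζ₀ ∈ u := (hζ₀ ζ hζ).mem_open hu hζu
    have : ζ₀ ∈ u ∩ f ⁻¹' {genericPoint Y} := ⟨hζ₀u, hf₀⟩
    rw [hueq] at this
    exact this
  rw [← key ζ₁ h₁ hf₁, ← key ζ₂ h₂ hf₂]

theorem exists_open_finite_fiber {X Y : Scheme.{u}} (f : X ⟶ Y) [LocallyQuasiFinite f] (y : Y)
    (x : X) : ∃ W : Set X, IsOpen W ∧ x ∈ W ∧ ((f ⁻¹' {y}) ∩ W).Finite := by
  obtain ⟨_, ⟨V, hV, rfl⟩, hxV, -⟩ :=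
    Y.isBasis_affineOpens.exists_subset_of_mem_open (Set.mem_univ (f x)) isOpen_univ
  obtain ⟨_, ⟨W, hW, rfl⟩, hxW, hWV⟩ :=
    X.isBasis_affineOpens.exists_subset_of_mem_open hxV (V.2.preimage f.continuous)
  refine ⟨W, W.2, hxW, ?_⟩
  by_cases hy : y ∈ V
  · haveI : IsAffine ↑V := hV
    haveI : IsAffine ↑W := hW
    have hfin := (f.resLE V W hWV).finite_preimage_singleton ⟨y, hy⟩
    refine (hfin.image (fun w : W => (w : X))).subset ?_
    rintro ζ ⟨hζy, hζW⟩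
    refine ⟨⟨ζ, hζW⟩, ?_, rfl⟩
    show (f.resLE V W hWV) ⟨ζ, hζW⟩ ∈ ({⟨y, hy⟩} : Set V)
    rw [Set.mem_singleton_iff]
    apply Subtype.ext
    have h1 := congr($(Scheme.Hom.resLE_comp_ι f hWV) ⟨ζ, hζW⟩)
    have h2 : f ζ = y := hζy
    simpa [h2] using h1
  · convert Set.finite_empty
    ext ζ
    simp only [Set.mem_inter_iff, Set.mem_preimage, Set.mem_singleton_iff, Set.mem_empty_iff_false,
      iff_false, not_and]
    intro hζy hζW
    exact hy (hζy ▸ hWV hζW)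

end Groth.Agent.Helper1.GU
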