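import Mathlib
import Groth.Agent.Lib.Helper1.GU9

/-!
# S2787, S1450, S2755
-/

set_option autoImplicit false
set_option linter.style.haveILetI false

open CategoryTheory CategoryTheory.Limits AlgebraicGeometry Opposite TopologicalSpace

universe u

namespace Groth.Agent.Helper1.GU

theorem isPrime_nilradical_stalk_of_etale {X Y : Scheme.{u}} (f : X ⟶ Y) [Etale f] (x : X)
    (hY : CAlg2.IsGeomUnibranch (Y.presheaf.stalk (f x))) :
    (nilradical (X.presheaf.stalk x)).IsPrime := by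
  have hx := (stalk_geomUnibranch_of_etale f x hY).1
  exact (Ideal.Quotient.isDomain_iff_prime _).mp hx.1.1

/-- S2787 -/
theorem components_of_etale {X Y : Scheme.{u}} (f : X ⟶ Y) [Etale f] [IrreducibleSpace Y]
    (hY : ∀ y : Y, CAlg2.IsGeomUnibranch (Y.presheaf.stalk y)) :
    (∀ x : X, ∃! Z, Z ∈ irreducibleComponents ↥X ∧ x ∈ Z) ∧
    (∀ Z ∈ irreducibleComponents ↥X, IsOpen Z ∧
      ∃! x : X, x ∈ Z ∧ f.base x = genericPoint Y) := by
  haveI : LocallyQuasiFinite f := locallyQuasiFinite_of_unramified f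
  have h1 : ∀ x : X, ∃ ζ ∈ (f ⁻¹' {genericPoint Y} : Set X), ζ ⤳ x := by
    intro x
    obtain ⟨ζ, hζx, hζ⟩ := Flat.generalizingMap f (genericPoint_specializes (f x))
    exact ⟨ζ, hζ, hζx⟩
  have h2 : ∀ (x ζ₁ ζ₂ : X), ζ₁ ∈ (f ⁻¹' {genericPoint Y} : Set X) →
      ζ₂ ∈ (f ⁻¹' {genericPoint Y} : Set X) → ζ₁ ⤳ x → ζ₂ ⤳ x → ζ₁ = ζ₂ :=
    fun x ζ₁ ζ₂ hζ₁ hζ₂ h₁ h₂ =>
      eq_of_specializes_of_fiber f x (isPrime_nilradical_stalk_of_etale f x (hY (f x)))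
        ζ₁ ζ₂ h₁ h₂ hζ₁ hζ₂
  have h3 : ∀ x : X, ∃ W : Set X, IsOpen W ∧ x ∈ W ∧
      ((f ⁻¹' {genericPoint Y} : Set X) ∩ W).Finite :=
    fun x => exists_open_finite_fiber f (genericPoint Y) x
  exact ⟨fun x => existsUnique_irreducibleComponent _ h1 h2 h3 x,
    fun Z hZ => isOpen_and_existsUnique_of_mem_irreducibleComponents _ h1 h2 h3 hZ⟩

/-- S1450 -/
theorem etale_and_irreducible {X Y : Scheme.{u}} (f : X ⟶ Y) [IsIntegral Y]
    (hY : ∀ y : Y, CAlg2.IsGeomUnibranch (Y.presheaf.stalk y))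
    [ConnectedSpace ↑X] [FormallyUnramified f] [LocallyOfFiniteType f]
    (hdom : ∃ x : X, f x = genericPoint ↑Y) :
    Etale f ∧ IrreducibleSpace ↑X := by
  haveI : LocallyQuasiFinite f := locallyQuasiFinite_of_unramified f
  have h3 : ∀ x : X, ∃ W : Set X, IsOpen W ∧ x ∈ W ∧
      ((f ⁻¹' {genericPoint Y} : Set X) ∩ W).Finite :=
    fun x => exists_open_finite_fiber f (genericPoint Y) x
  let X₀ : Set X := {x | ∃ ζ ∈ (f ⁻¹' {genericPoint Y} : Set X), ζ ⤳ x}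
  have hX₀eq : X₀ = ⋃ ζ : (f ⁻¹' {genericPoint Y} : Set X), closure ({(ζ : X)} : Set X) := by
    ext x
    simp only [X₀, Set.mem_setOf_eq, Set.mem_iUnion, specializes_iff_mem_closure]
    constructor
    · rintro ⟨ζ, hζ, hx⟩
      exact ⟨⟨ζ, hζ⟩, hx⟩
    · rintro ⟨⟨ζ, hζ⟩, hx⟩
      exact ⟨ζ, hζ, hx⟩
  have hclosed : IsClosed X₀ := by
    rw [hX₀eq]
    exact isClosed_iUnion_closure_of_locallyFinite _ h3 _ le_rfl
  have hunr : FormallyUnramified ((⊤ : X.Opens).ι ≫ f) :=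
    MorphismProperty.comp_mem _ _ _ inferInstance inferInstance
  have hetale_at : ∀ x ∈ X₀, ∃ U : X.Opens, x ∈ U ∧ Etale (U.ι ≫ f) := by
    rintro x ⟨ζ, hζF, hζx⟩
    exact exists_etale_nhd_of_unrAt f x (hY (f x)) ⟨ζ, hζx, hζF⟩ ⟨⊤, trivial, hunr⟩
  have hopen : IsOpen X₀ := by
    rw [isOpen_iff_forall_mem_open]
    intro x hx
    obtain ⟨U, hxU, hU⟩ := hetale_at x hx
    refine ⟨U, ?_, U.2, hxU⟩
    intro u huU
    haveI := hU
    have hgen := Flat.generalizingMap (U.ι ≫ f)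
    obtain ⟨ζ, hζu, hζ⟩ := @hgen ⟨u, huU⟩ (genericPoint Y) (genericPoint_specializes _)
    refine ⟨U.ι ζ, ?_, ?_⟩
    · exact hζ
    · exact hζu.map U.ι.continuous
  have hne : X₀.Nonempty := by
    obtain ⟨x, hx⟩ := hdom
    exact ⟨x, x, hx, specializes_rfl⟩
  have huniv : X₀ = Set.univ := IsClopen.eq_univ ⟨hclosed, hopen⟩ hne
  have hall : ∀ x : X, ∃ U : X.Opens, x ∈ U ∧ Etale (U.ι ≫ f) := fun x =>
    hetale_at x (huniv ▸ Set.mem_univ x)
  have hetale : Etale f := by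
    choose U hxU hU using hall
    have hcov : IsOpenCover U := by
      rw [IsOpenCover, eq_top_iff]
      intro x _
      exact Opens.mem_iSup.mpr ⟨x, hxU x⟩
    exact IsZariskiLocalAtSource.of_openCover (P := @Etale) (X.openCoverOfIsOpenCover U hcov)
      (fun x => hU x)
  refine ⟨hetale, ?_⟩
  haveI := hetale
  have h1 : ∀ x : X, ∃ ζ ∈ (f ⁻¹' {genericPoint Y} : Set X), ζ ⤳ x := fun x =>
    (huniv ▸ Set.mem_univ x : x ∈ X₀)
  have h2 : ∀ (x ζ₁ ζ₂ : X), ζ₁ ∈ (f ⁻¹' {genericPoint Y} : Set X) →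
      ζ₂ ∈ (f ⁻¹' {genericPoint Y} : Set X) → ζ₁ ⤳ x → ζ₂ ⤳ x → ζ₁ = ζ₂ :=
    fun x ζ₁ ζ₂ hζ₁ hζ₂ h₁ h₂ =>
      eq_of_specializes_of_fiber f x (isPrime_nilradical_stalk_of_etale f x (hY (f x)))
        ζ₁ ζ₂ h₁ h₂ hζ₁ hζ₂
  exact irreducibleSpace_of_preconnected _ h1 h2 h3

/-- S2755 -/
theorem etale_and_integral {X Y : Scheme.{u}} (f : X ⟶ Y) [IsIntegral Y]
    (hY : ∀ y : Y, CAlg2.IsGeomUnibranch (Y.presheaf.stalk y))
    [ConnectedSpace ↑X] [FormallyUnramified f] [LocallyOfFiniteType f]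
    (hdom : ∃ x : X, f x = genericPoint ↑Y) :
    Etale f ∧ IsIntegral X ∧ ∀ x : X, CAlg2.IsGeomUnibranch (X.presheaf.stalk x) := by
  obtain ⟨hetale, hirr⟩ := etale_and_irreducible f hY hdom
  haveI := hetale
  have hstalk : ∀ x : X, CAlg2.IsGeomUnibranch (X.presheaf.stalk x) ∧
      IsDomain (X.presheaf.stalk x) := fun x =>
    ⟨(stalk_geomUnibranch_of_etale f x (hY (f x))).1,
      (stalk_geomUnibranch_of_etale f x (hY (f x))).2 inferInstance⟩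
  refine ⟨hetale, ?_, fun x => (hstalk x).1⟩
  rw [isIntegral_iff_irreducibleSpace_and_isReduced]
  refine ⟨hirr, ?_⟩
  haveI : ∀ x : X, _root_.IsReduced (X.presheaf.stalk x) := fun x => by
    haveI := (hstalk x).2
    infer_instance
  exact isReduced_of_isReduced_stalk X

end Groth.Agent.Helper1.GU
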