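import Mathlib

/-!
# Group-like elements of a group algebra: lifting modulo a nilpotent ideal, products, characters

(helper lemmas B1a-d requested by helper7 for S5290; Mathlib-only)
-/

universe u

namespace Groth.Agent.Helper1.GroupLikeLift

theorem isNilpotent_of_mem {B : Type u} [CommRing B] (I : Ideal B) (hI : IsNilpotent I)
    (b : B) (hb : b ∈ I) : IsNilpotent b := by
  obtain ⟨n, hn⟩ := hI
  refine ⟨n, ?_⟩
  have h1 := Ideal.pow_mem_pow hb n
  rw [hn, Ideal.zero_eq_bot, Ideal.mem_bot] at h1
  exact h1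

/-- `liftNCRingHom` as a finite sum. -/
theorem liftNCRingHom_eq_sum {B C : Type u} [CommRing B] [CommRing C] {G : Type} [CommGroup G]
    (θ : B →+* C) (ψ : G →* C) (x : MonoidAlgebra B G) :
    MonoidAlgebra.liftNCRingHom θ ψ (fun _ _ => Commute.all _ _) x =
      ∑ g ∈ x.coeff.support, θ (x.coeff g) * ψ g := by
  calc MonoidAlgebra.liftNCRingHom θ ψ (fun _ _ => Commute.all _ _) x
      = MonoidAlgebra.liftNCRingHom θ ψ (fun _ _ => Commute.all _ _)
          (x.coeff.sum MonoidAlgebra.single) := by rw [MonoidAlgebra.sum_coeff_single]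
    _ = x.coeff.sum (fun g r => MonoidAlgebra.liftNCRingHom θ ψ (fun _ _ => Commute.all _ _)
          (MonoidAlgebra.single g r)) := map_finsuppSum _ _ _
    _ = ∑ g ∈ x.coeff.support, θ (x.coeff g) * ψ g := by
        simp only [MonoidAlgebra.liftNCRingHom_single]
        rfl

/-- the augmentation `B[G] → B`. -/
noncomputable def aug (B : Type u) [CommRing B] (G : Type) [CommGroup G] :
    MonoidAlgebra B G →+* B :=
  MonoidAlgebra.liftNCRingHom (RingHom.id B) (1 : G →* B) (fun _ _ => Commute.all _ _)

theorem aug_eq {B : Type u} [CommRing B] {G : Type} [CommGroup G] (x : MonoidAlgebra B G) :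
    aug B G x = x.coeff.sum fun _ b => b := by
  rw [aug, liftNCRingHom_eq_sum]
  simp only [RingHom.id_apply, MonoidHom.one_apply, mul_one]
  rfl

open Classical in
/-- (B1a) lifting group-like elements (complete orthogonal idempotent coefficient families) of a
group algebra modulo a nilpotent ideal -/
theorem exists_groupLike_lift {B : Type u} [CommRing B] (I : Ideal B) (hI : IsNilpotent I)
    {G : Type} [CommGroup G] (x₀ : MonoidAlgebra (B ⧸ I) G)
    (hx₀ : ∀ g h : G, x₀.coeff g * x₀.coeff h = if g = h then x₀.coeff g else 0)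
    (h1 : (x₀.coeff.sum fun _ b => b) = 1) :
    ∃ x : MonoidAlgebra B G,
      (∀ g h : G, x.coeff g * x.coeff h = if g = h then x.coeff g else 0) ∧
      (x.coeff.sum fun _ b => b) = 1 ∧
      MonoidAlgebra.mapRingHom G (Ideal.Quotient.mk I) x = x₀ := by
  let e : ↥x₀.coeff.support → B ⧸ I := fun i => x₀.coeff i
  have he : CompleteOrthogonalIdempotents e := by
    refine ⟨⟨fun i => ?_, fun i j hij => ?_⟩, ?_⟩
    · show x₀.coeff i * x₀.coeff i = x₀.coeff i
      rw [hx₀, if_pos rfl]
    · show x₀.coeff i * x₀.coeff j = 0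
      rw [hx₀, if_neg (fun h => hij (Subtype.ext h))]
    · show ∑ i : ↥x₀.coeff.support, x₀.coeff i = 1
      rw [Finset.sum_coe_sort x₀.coeff.support (fun g => x₀.coeff g)]
      exact h1
  have hker : ∀ b ∈ RingHom.ker (Ideal.Quotient.mk I), IsNilpotent b := by
    intro b hb
    rw [Ideal.mk_ker] at hb
    exact isNilpotent_of_mem I hI b hb
  obtain ⟨e', he', hee'⟩ := CompleteOrthogonalIdempotents.lift_of_isNilpotent_ker
    (Ideal.Quotient.mk I) hker he
    (fun i => RingHom.mem_range.mpr (Ideal.Quotient.mk_surjective (e i)))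
  let c : G → B := fun g => if h : g ∈ x₀.coeff.support then e' ⟨g, h⟩ else 0
  have hcpos : ∀ (g : G) (h : g ∈ x₀.coeff.support), c g = e' ⟨g, h⟩ := fun g h => dif_pos h
  have hcneg : ∀ (g : G), g ∉ x₀.coeff.support → c g = 0 := fun g h => dif_neg h
  have hc : ∀ g, c g ≠ 0 → g ∈ x₀.coeff.support := by
    intro g hg
    by_contra h
    exact hg (hcneg g h)
  refine ⟨MonoidAlgebra.ofCoeff (Finsupp.onFinset x₀.coeff.support c hc), ?_, ?_, ?_⟩
  · intro g h
    show c g * c h = if g = h then c g else 0
    by_cases hg : g ∈ x₀.coeff.support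
    · by_cases hh : h ∈ x₀.coeff.support
      · rw [hcpos g hg, hcpos h hh, he'.toOrthogonalIdempotents.mul_eq]
        by_cases hgh : g = h
        · subst hgh
          rw [if_pos rfl, if_pos rfl]
        · rw [if_neg hgh, if_neg (fun e => hgh (congrArg Subtype.val e))]
      · have hgh : g ≠ h := fun e => hh (e ▸ hg)
        rw [hcneg h hh, mul_zero, if_neg hgh]
    · rw [hcneg g hg, zero_mul, ite_self]
  · show (Finsupp.onFinset x₀.coeff.support c hc).sum (fun _ b => b) = 1
    rw [Finsupp.onFinset_sum hc (fun _ => rfl),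
      ← Finset.sum_coe_sort x₀.coeff.support c]
    have h2 : ∀ i : ↥x₀.coeff.support, c i = e' i := fun i => hcpos i i.2
    simp only [h2]
    exact he'.complete
  · apply MonoidAlgebra.coeff_injective
    ext g
    rw [MonoidAlgebra.coeff_mapRingHom]
    show Ideal.Quotient.mk I (c g) = x₀.coeff g
    by_cases hg : g ∈ x₀.coeff.support
    · rw [hcpos g hg]
      exact congrFun hee' ⟨g, hg⟩
    · rw [hcneg g hg, map_zero]
      exact (Finsupp.notMem_support_iff.mp hg).symm

open Classical in
/-- (B1b) uniqueness -/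
theorem groupLike_lift_unique {B : Type u} [CommRing B] (I : Ideal B) (hI : IsNilpotent I)
    {G : Type} [CommGroup G] (x y : MonoidAlgebra B G)
    (hx : ∀ g h : G, x.coeff g * x.coeff h = if g = h then x.coeff g else 0)
    (hy : ∀ g h : G, y.coeff g * y.coeff h = if g = h then y.coeff g else 0)
    (hxy : MonoidAlgebra.mapRingHom G (Ideal.Quotient.mk I) x =
      MonoidAlgebra.mapRingHom G (Ideal.Quotient.mk I) y) : x = y := by
  apply MonoidAlgebra.coeff_injective
  ext g
  apply eq_of_isNilpotent_sub_of_isIdempotentElem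
  · show x.coeff g * x.coeff g = x.coeff g
    rw [hx, if_pos rfl]
  · show y.coeff g * y.coeff g = y.coeff g
    rw [hy, if_pos rfl]
  · apply isNilpotent_of_mem I hI
    rw [← Ideal.Quotient.eq]
    have h2 := congrArg (fun z => z.coeff g) hxy
    simpa only [MonoidAlgebra.coeff_mapRingHom] using h2

open Classical in
/-- (B1c) products -/
theorem groupLike_mul {B : Type u} [CommRing B] {G : Type} [CommGroup G] (x y : MonoidAlgebra B G)
    (hx : ∀ g h : G, x.coeff g * x.coeff h = if g = h then x.coeff g else 0)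
    (hx1 : (x.coeff.sum fun _ b => b) = 1)
    (hy : ∀ g h : G, y.coeff g * y.coeff h = if g = h then y.coeff g else 0)
    (hy1 : (y.coeff.sum fun _ b => b) = 1) :
    (∀ g h : G, (x * y).coeff g * (x * y).coeff h = if g = h then (x * y).coeff g else 0) ∧
      ((x * y).coeff.sum fun _ b => b) = 1 := by
  have hz : ∀ m, (x * y).coeff m =
      ∑ g ∈ x.coeff.support, x.coeff g * y.coeff (g⁻¹ * m) := fun m => by
    rw [MonoidAlgebra.coeff_mul_apply_left]
    rfl
  refine ⟨fun m m' => ?_, ?_⟩
  · by_cases hm : m = m'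
    · subst hm
      rw [if_pos rfl, hz, Finset.sum_mul_sum]
      refine Finset.sum_congr rfl fun g hg => ?_
      have key : ∀ g' : G, (x.coeff g * y.coeff (g⁻¹ * m)) * (x.coeff g' * y.coeff (g'⁻¹ * m)) =
          if g = g' then x.coeff g * y.coeff (g⁻¹ * m) else 0 := by
        intro g'
        rw [mul_mul_mul_comm, hx g g']
        by_cases hgg : g = g'
        · subst hgg
          rw [if_pos rfl, if_pos rfl, hy, if_pos rfl]
        · rw [if_neg hgg, if_neg hgg, zero_mul]
      simp only [key]
      rw [Finset.sum_ite_eq, if_pos hg]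
    · rw [if_neg hm, hz, hz, Finset.sum_mul_sum]
      refine Finset.sum_eq_zero fun g _ => Finset.sum_eq_zero fun g' _ => ?_
      rw [mul_mul_mul_comm, hx g g']
      by_cases hgg : g = g'
      · subst hgg
        rw [hy, if_neg (fun e => hm (mul_left_cancel e)), mul_zero]
      · rw [if_neg hgg, zero_mul]
  · rw [← aug_eq, map_mul, aug_eq, aug_eq, hx1, hy1, mul_one]

open Classical in
/-- (B1d) evaluation of a group-like element is multiplicative in the character -/
theorem groupLike_lift_mul {B C : Type u} [CommRing B] [CommRing C] {G : Type} [CommGroup G]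
    (x : MonoidAlgebra B G)
    (hx : ∀ g h : G, x.coeff g * x.coeff h = if g = h then x.coeff g else 0)
    (θ : B →+* C) (φ φ' : G →* C) :
    MonoidAlgebra.liftNCRingHom θ (φ * φ') (fun _ _ => Commute.all _ _) x =
      MonoidAlgebra.liftNCRingHom θ φ (fun _ _ => Commute.all _ _) x *
        MonoidAlgebra.liftNCRingHom θ φ' (fun _ _ => Commute.all _ _) x := by
  rw [liftNCRingHom_eq_sum, liftNCRingHom_eq_sum, liftNCRingHom_eq_sum, Finset.sum_mul_sum]
  refine Finset.sum_congr rfl fun g hg => ?_
  have key : ∀ g' : G, (θ (x.coeff g) * φ g) * (θ (x.coeff g') * φ' g') =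
      if g = g' then θ (x.coeff g) * (φ g * φ' g) else 0 := by
    intro g'
    rw [mul_mul_mul_comm, ← map_mul, hx g g']
    by_cases hgg : g = g'
    · subst hgg
      rw [if_pos rfl, if_pos rfl]
    · rw [if_neg hgg, if_neg hgg, map_zero, zero_mul]
  simp only [key]
  rw [Finset.sum_ite_eq, if_pos hg]
  rfl

end Groth.Agent.Helper1.GroupLikeLift
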