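import Mathlib
import Groth.Agent.Lib.Helper18.H90

/-!
# Zariski-local Hilbert 90 in diagram form (helper1, H9A)

Transports helper18's `H90.main` (stated for `B ⊗[A] B`, `(B ⊗[A] B) ⊗[A] B`) to an abstract
pair of pushout squares of commutative rings.
-/

universe u
set_option autoImplicit false
set_option linter.unusedSectionVars false
open CategoryTheory CategoryTheory.Limits TensorProduct

namespace Groth.Agent.Helper1.H9

open Groth.Agent.Helper18.AmitsurH1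

theorem h90_diagram {A B : Type u} [CommRing A] [CommRing B] [Algebra A B]
    [Module.FaithfullyFlat A B] {R₂ R₃ : CommRingCat.{u}}
    (i₁ i₂ : CommRingCat.of B ⟶ R₂) (k₁₂ k₁₃ k₂₃ : R₂ ⟶ R₃) (j₃ : CommRingCat.of B ⟶ R₃)
    (hpo₂ : IsPushout (CommRingCat.ofHom (algebraMap A B)) (CommRingCat.ofHom (algebraMap A B))
      i₁ i₂)
    (hpo₃ : IsPushout (CommRingCat.ofHom (algebraMap A B) ≫ i₁)
      (CommRingCat.ofHom (algebraMap A B)) k₁₂ j₃)
    (h13_1 : i₁ ≫ k₁₃ = i₁ ≫ k₁₂) (h13_2 : i₂ ≫ k₁₃ = j₃)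
    (h23_1 : i₁ ≫ k₂₃ = i₂ ≫ k₁₂) (h23_2 : i₂ ≫ k₂₃ = j₃)
    (u v : R₂) (huv : u * v = 1) (hu : k₁₂.hom u * k₂₃.hom u = k₁₃.hom u)
    (𝔭 : Ideal A) [𝔭.IsPrime] :
    ∃ (l l' : B) (g : A), g ∉ 𝔭 ∧ u * i₂.hom l = i₁.hom l ∧ l * l' = algebraMap A B g := by
  let φ := (CommRingCat.isPushout_tensorProduct A B B).isoIsPushout _ _ hpo₂
  have h1 : ∀ b : B, φ.hom.hom (b ⊗ₜ[A] (1 : B)) = i₁.hom b := fun b => by
    have := (CommRingCat.isPushout_tensorProduct A B B).inl_isoIsPushout_hom _ _ hpo₂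
    exact congrArg (fun m => m.hom b) this
  have h2 : ∀ b : B, φ.hom.hom ((1 : B) ⊗ₜ[A] b) = i₂.hom b := fun b => by
    have := (CommRingCat.isPushout_tensorProduct A B B).inr_isoIsPushout_hom _ _ hpo₂
    exact congrArg (fun m => m.hom b) this
  have hinv : ∀ x : B ⊗[A] B, φ.inv.hom (φ.hom.hom x) = x := fun x => by
    have := φ.hom_inv_id
    exact congrArg (fun m => m.hom x) this
  have hhom : ∀ y : R₂, φ.hom.hom (φ.inv.hom y) = y := fun y => by
    have := φ.inv_hom_id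
    exact congrArg (fun m => m.hom y) this
  have htm : ∀ b b' : B, φ.hom.hom (b ⊗ₜ[A] b') = i₁.hom b * i₂.hom b' := fun b b' => by
    have e : (b ⊗ₜ[A] b' : B ⊗[A] B) = (b ⊗ₜ 1) * (1 ⊗ₜ b') := by
      rw [Algebra.TensorProduct.tmul_mul_tmul, mul_one, one_mul]
    rw [e, map_mul, h1, h2]
  -- the comparison map out of `R₃`
  let α : R₂ ⟶ CommRingCat.of ((B ⊗[A] B) ⊗[A] B) :=
    φ.inv ≫ CommRingCat.ofHom (q12 A B).toRingHom
  let β : CommRingCat.of B ⟶ CommRingCat.of ((B ⊗[A] B) ⊗[A] B) :=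
    CommRingCat.ofHom
      (Algebra.TensorProduct.includeRight (R := A) (A := B ⊗[A] B) (B := B)).toRingHom
  have hw : (CommRingCat.ofHom (algebraMap A B) ≫ i₁) ≫ α =
      CommRingCat.ofHom (algebraMap A B) ≫ β := by
    refine CommRingCat.hom_ext (RingHom.ext fun a => ?_)
    show q12 A B (φ.inv.hom (i₁.hom (algebraMap A B a))) =
      Algebra.TensorProduct.includeRight (R := A) (A := B ⊗[A] B) (B := B) (algebraMap A B a)
    rw [← h1, hinv]
    have e1 : ((algebraMap A B a) ⊗ₜ[A] (1 : B) : B ⊗[A] B) = algebraMap A (B ⊗[A] B) a := rfl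
    rw [e1, AlgHom.commutes, AlgHom.commutes]
  let Φ : R₃ ⟶ CommRingCat.of ((B ⊗[A] B) ⊗[A] B) := hpo₃.desc α β hw
  have hΦ12 : ∀ y : R₂, Φ.hom (k₁₂.hom y) = q12 A B (φ.inv.hom y) := fun y => by
    have : k₁₂ ≫ Φ = α := hpo₃.inl_desc α β hw
    exact congrArg (fun m => m.hom y) this
  have hΦ3 : ∀ b : B, Φ.hom (j₃.hom b) = (1 : B ⊗[A] B) ⊗ₜ[A] b := fun b => by
    have : j₃ ≫ Φ = β := hpo₃.inr_desc α β hw
    exact congrArg (fun m => m.hom b) this
  have e13_1 : ∀ b : B, k₁₃.hom (i₁.hom b) = k₁₂.hom (i₁.hom b) := fun b =>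
    congrArg (fun m => m.hom b) h13_1
  have e13_2 : ∀ b : B, k₁₃.hom (i₂.hom b) = j₃.hom b := fun b =>
    congrArg (fun m => m.hom b) h13_2
  have e23_1 : ∀ b : B, k₂₃.hom (i₁.hom b) = k₁₂.hom (i₂.hom b) := fun b =>
    congrArg (fun m => m.hom b) h23_1
  have e23_2 : ∀ b : B, k₂₃.hom (i₂.hom b) = j₃.hom b := fun b =>
    congrArg (fun m => m.hom b) h23_2
  have hi1 : ∀ b : B, φ.inv.hom (i₁.hom b) = b ⊗ₜ[A] (1 : B) := fun b => by
    rw [← h1, hinv]
  have hi2 : ∀ b : B, φ.inv.hom (i₂.hom b) = (1 : B) ⊗ₜ[A] b := fun b => by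
    rw [← h2, hinv]
  have key12 : ∀ x : B ⊗[A] B, Φ.hom (k₁₂.hom (φ.hom.hom x)) = q12 A B x := fun x => by
    rw [hΦ12, hinv]
  have key13 : ∀ x : B ⊗[A] B, Φ.hom (k₁₃.hom (φ.hom.hom x)) = q13 A B x := fun x => by
    induction x using TensorProduct.induction_on with
    | zero => simp only [map_zero]
    | tmul b b' =>
      rw [htm, map_mul, map_mul, e13_1, e13_2, hΦ12, hΦ3, hi1, q12_tmul, q13_tmul,
        Algebra.TensorProduct.tmul_mul_tmul, mul_one, one_mul]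
    | add x y hx hy => rw [map_add, map_add, map_add, map_add, hx, hy]
  have key23 : ∀ x : B ⊗[A] B, Φ.hom (k₂₃.hom (φ.hom.hom x)) = q23 A B x := fun x => by
    induction x using TensorProduct.induction_on with
    | zero => simp only [map_zero]
    | tmul b b' =>
      rw [htm, map_mul, map_mul, e23_1, e23_2, hΦ12, hΦ3, hi2, q12_tmul, q23_tmul,
        Algebra.TensorProduct.tmul_mul_tmul, mul_one, one_mul]
    | add x y hx hy => rw [map_add, map_add, map_add, map_add, hx, hy]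
  have huv' : φ.inv.hom u * φ.inv.hom v = 1 := by rw [← map_mul, huv, map_one]
  have hu' : q12 A B (φ.inv.hom u) * q23 A B (φ.inv.hom u) = q13 A B (φ.inv.hom u) := by
    have k12 := key12 (φ.inv.hom u)
    have k13 := key13 (φ.inv.hom u)
    have k23 := key23 (φ.inv.hom u)
    rw [hhom] at k12 k13 k23
    rw [← k12, ← k13, ← k23, ← map_mul, hu]
  obtain ⟨l, l', g, hg, hl, hll⟩ :=
    Groth.Agent.Helper18.H90.main A B (φ.inv.hom u) (φ.inv.hom v) huv' hu' 𝔭
  refine ⟨l, l', g, hg, ?_, hll⟩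
  have := congrArg φ.hom.hom hl
  rw [map_mul, hhom, h2, h1] at this
  exact this

end Groth.Agent.Helper1.H9
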