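import Mathlib
import Groth.Prelude.Def_EtGm
import Groth.Agent.Lib.Helper1.CH8
import Groth.Agent.Lib.Helper1.ES4
import Groth.Agent.Lib.Helper1.ES7
import Groth.Agent.Lib.Helper1.SHC5
import Groth.Agent.Lib.Helper1.ELR1
import Groth.Agent.Lib.Helper1.H9A

/-!
# Hilbert 90 on the small étale site: Zariski-local lifting along `G_m ⟶ I ⟶ Q` (helper1, H9B)
-/

universe u
set_option linter.unusedSectionVars false
set_option autoImplicit false
set_option linter.style.haveILetI false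
open CategoryTheory CategoryTheory.Limits Opposite AlgebraicGeometry

namespace Groth.Agent.Helper1.H9

variable {S : Scheme.{u}}

section Dict

/-- the unit underlying a section of `G_m` -/
noncomputable def un {T : S.Etale} (x : (EtCoh.Gm S).obj.obj (op T)) : (Γ(T.left, ⊤))ˣ :=
  Additive.toMul (ULift.down x)

/-- the section of `G_m` given by a unit -/
noncomputable def se {T : S.Etale} (v : (Γ(T.left, ⊤))ˣ) : (EtCoh.Gm S).obj.obj (op T) :=
  ULift.up (Additive.ofMul v)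

lemma un_se {T : S.Etale} (v : (Γ(T.left, ⊤))ˣ) : un (S := S) (se v) = v := rfl
lemma se_un {T : S.Etale} (x : (EtCoh.Gm S).obj.obj (op T)) : se (un x) = x := rfl
lemma un_add {T : S.Etale} (x y : (EtCoh.Gm S).obj.obj (op T)) : un (x + y) = un x * un y := rfl
lemma un_map {T T' : S.Etale} (m : T' ⟶ T) (x : (EtCoh.Gm S).obj.obj (op T)) :
    un (((EtCoh.Gm S).obj.map m.op).hom x) = Units.map m.left.appTop.hom.toMonoidHom (un x) := rfl
lemma un_injective {T : S.Etale} : Function.Injective (un (S := S) (T := T)) := by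
  intro x y h
  have := congrArg (se (S := S)) h
  exact this

end Dict

section Sheaf

lemma shMapMap (F : EtCoh.Ab S) {A B C : S.Etale} (a : A ⟶ B) (b : B ⟶ C)
    (z : F.obj.obj (op C)) :
    (F.obj.map a.op).hom ((F.obj.map b.op).hom z) = (F.obj.map (a ≫ b).op).hom z := by
  rw [op_comp, Functor.map_comp]
  rfl

lemma shNat {F G : EtCoh.Ab S} (φ : F ⟶ G) {A B : S.Etale} (a : A ⟶ B) (z : F.obj.obj (op B)) :
    (φ.hom.app (op A)).hom ((F.obj.map a.op).hom z) =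
      (G.obj.map a.op).hom ((φ.hom.app (op B)).hom z) :=
  congrArg (fun k => k.hom z) (φ.hom.naturality a.op)

lemma shSep (F : EtCoh.Ab S) {U V : S.Etale} (π : V ⟶ U)
    (hπ : Function.Surjective π.left.base) (a b : F.obj.obj (op U))
    (h : (F.obj.map π.op).hom a = (F.obj.map π.op).hom b) : a = b := by
  have hcov : Sieve.ofArrows (fun _ : PUnit.{1} => V) (fun _ => π) ∈ S.smallEtaleTopology U := by
    apply SHC.mem_of_pointwise
    intro x
    obtain ⟨v, hv⟩ := hπ x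
    exact ⟨V, π, v, Sieve.ofArrows_mk _ _ PUnit.unit, hv⟩
  obtain ⟨t, -, htu⟩ := CE.glue F U (fun _ : PUnit.{1} => V) (fun _ => π) hcov
    (fun _ => (F.obj.map π.op).hom a)
    (fun _ _ Z gi gj hij => by
      show (F.obj.map gi.op).hom ((F.obj.map π.op).hom a) =
        (F.obj.map gj.op).hom ((F.obj.map π.op).hom a)
      have hij' : gi ≫ π = gj ≫ π := hij
      rw [shMapMap, shMapMap, hij'])
  exact (htu a (fun _ => rfl)).trans (htu b (fun _ => h.symm)).symm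

end Sheaf

section Restr

variable {W V : S.Etale} (f : V ⟶ W) (D : W.left.Opens)

/-- restriction of a morphism of the small étale site over an open of the target -/
noncomputable def restrOver : ES.openObj V (f.left ⁻¹ᵁ D) ⟶ ES.openObj W D :=
  MorphismProperty.Over.homMk (f.left ∣_ D) (by
    show (f.left ∣_ D) ≫ D.ι ≫ W.hom = (f.left ⁻¹ᵁ D).ι ≫ V.hom
    rw [morphismRestrict_ι_assoc]
    congr 1
    exact MorphismProperty.Over.w f) trivial

lemma restrOver_left : (restrOver f D).left = f.left ∣_ D := rfl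

lemma restrOver_comm :
    restrOver f D ≫ ES.openObjι W D = ES.openObjι V (f.left ⁻¹ᵁ D) ≫ f := by
  apply MorphismProperty.Over.Hom.ext
  exact morphismRestrict_ι f.left D

lemma restrOver_surjective (hf : ∀ y ∈ D, ∃ v, f.left.base v = y) :
    Function.Surjective (restrOver f D).left.base := by
  intro y
  obtain ⟨v, hv⟩ := hf y.1 y.2
  have hvD : v ∈ f.left ⁻¹ᵁ D := by
    show f.left.base v ∈ D
    rw [hv]
    exact y.2
  refine ⟨⟨v, hvD⟩, ?_⟩
  apply Subtype.ext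
  exact (morphismRestrict_base_coe f.left D ⟨v, hvD⟩).trans hv

end Restr

section Fibre

variable {W V : S.Etale} (f : V ⟶ W)

/-- `V ×_W V` -/
noncomputable abbrev P2 : Over W := CE.VV f ⨯ CE.VV f
/-- `V ×_W V ×_W V` -/
noncomputable abbrev P3 : Over W := P2 f ⨯ CE.VV f
noncomputable abbrev q1 : P2 f ⟶ CE.VV f := prod.fst
noncomputable abbrev q2 : P2 f ⟶ CE.VV f := prod.snd
noncomputable abbrev r12 : P3 f ⟶ P2 f := prod.fst
noncomputable abbrev r3 : P3 f ⟶ CE.VV f := prod.snd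
noncomputable def r13 : P3 f ⟶ P2 f := prod.lift (r12 f ≫ q1 f) (r3 f)
noncomputable def r23 : P3 f ⟶ P2 f := prod.lift (r12 f ≫ q2 f) (r3 f)
lemma r13_q1 : r13 f ≫ q1 f = r12 f ≫ q1 f := prod.lift_fst _ _
lemma r13_q2 : r13 f ≫ q2 f = r3 f := prod.lift_snd _ _
lemma r23_q1 : r23 f ≫ q1 f = r12 f ≫ q2 f := prod.lift_fst _ _
lemma r23_q2 : r23 f ≫ q2 f = r3 f := prod.lift_snd _ _

end Fibre

section Main

variable {I Q : EtCoh.Ab S} (ι : EtCoh.Gm S ⟶ I) (g : I ⟶ Q) {W V : S.Etale} (f : V ⟶ W)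

lemma g_tt (s : Q.obj.obj (op W)) (t : I.obj.obj (op V))
    (ht : (g.hom.app (op V)).hom t = (Q.obj.map f.op).hom s) {T' : Over W} (a : T' ⟶ CE.VV f) :
    (g.hom.app (op T'.left)).hom ((I.obj.map a.left.op).hom t) =
      (Q.obj.map T'.hom.op).hom s := by
  have h1 : (g.hom.app (op T'.left)).hom ((I.obj.map a.left.op).hom t) =
      (Q.obj.map a.left.op).hom ((g.hom.app (op V)).hom t) := shNat g a.left t
  rw [h1, ht, shMapMap]
  have : a.left ≫ f = T'.hom := Over.w a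
  rw [this]

theorem exists_cocycle (w : ι ≫ g = 0) (hT : (ShortComplex.mk ι g w).ShortExact)
    (s : Q.obj.obj (op W)) (t : I.obj.obj (op V))
    (ht : (g.hom.app (op V)).hom t = (Q.obj.map f.op).hom s) :
    ∃ c : (EtCoh.Gm S).obj.obj (op (P2 f).left), ∀ (T' : Over W) (m : T' ⟶ P2 f),
      (ι.hom.app (op T'.left)).hom (((EtCoh.Gm S).obj.map m.left.op).hom c) =
        (I.obj.map (m ≫ q1 f).left.op).hom t - (I.obj.map (m ≫ q2 f).left.op).hom t := by
  have h0 : (g.hom.app (op (P2 f).left)).hom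
      ((I.obj.map (q1 f).left.op).hom t - (I.obj.map (q2 f).left.op).hom t) = 0 := by
    rw [map_sub, g_tt g f s t ht, g_tt g f s t ht, sub_self]
  obtain ⟨c, hc⟩ := CE.sections_exact (ShortComplex.mk ι g w) hT (P2 f).left _ h0
  refine ⟨c, fun T' m => ?_⟩
  have hc' : (ι.hom.app (op (P2 f).left)).hom c =
      (I.obj.map (q1 f).left.op).hom t - (I.obj.map (q2 f).left.op).hom t := hc
  show _ = (I.obj.map (m.left ≫ (q1 f).left).op).hom t -
    (I.obj.map (m.left ≫ (q2 f).left).op).hom t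
  rw [shNat, hc', map_sub, shMapMap, shMapMap]

theorem cocycle_identity [Mono ι] (t : I.obj.obj (op V))
    (c : (EtCoh.Gm S).obj.obj (op (P2 f).left))
    (hc : ∀ (T' : Over W) (m : T' ⟶ P2 f),
      (ι.hom.app (op T'.left)).hom (((EtCoh.Gm S).obj.map m.left.op).hom c) =
        (I.obj.map (m ≫ q1 f).left.op).hom t - (I.obj.map (m ≫ q2 f).left.op).hom t) :
    ((EtCoh.Gm S).obj.map (r12 f).left.op).hom c + ((EtCoh.Gm S).obj.map (r23 f).left.op).hom c =
      ((EtCoh.Gm S).obj.map (r13 f).left.op).hom c := by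
  apply ES.injective_app_of_mono ι (P3 f).left
  rw [map_add, hc _ (r12 f), hc _ (r23 f), hc _ (r13 f), r13_q1, r13_q2, r23_q1, r23_q2]
  abel

theorem exists_trivialization [IsAffine W.left] [IsAffine V.left]
    (hf : Function.Surjective f.left.base)
    (c : (EtCoh.Gm S).obj.obj (op (P2 f).left))
    (hcc : ((EtCoh.Gm S).obj.map (r12 f).left.op).hom c +
      ((EtCoh.Gm S).obj.map (r23 f).left.op).hom c =
      ((EtCoh.Gm S).obj.map (r13 f).left.op).hom c) (x₀ : W.left) :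
    ∃ (l l' : Γ(V.left, ⊤)) (g₀ : Γ(W.left, ⊤)), x₀ ∈ W.left.basicOpen g₀ ∧
      ((un c : (Γ((P2 f).left.left, ⊤))ˣ) : Γ((P2 f).left.left, ⊤)) * (CE.pb (q2 f)).hom l =
        (CE.pb (q1 f)).hom l ∧
      l * l' = f.left.appTop.hom g₀ := by
  letI alg : Algebra Γ(W.left, ⊤) (CE.RR (CE.VV f)) := (CE.str (CE.VV f)).hom.toAlgebra
  haveI : Module.FaithfullyFlat Γ(W.left, ⊤) (CE.RR (CE.VV f)) :=
    (Flat.flat_and_surjective_iff_faithfullyFlat_of_isAffine f.left).1 ⟨inferInstance, ⟨hf⟩⟩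
  haveI : IsAffine (CE.VV f).left.left := inferInstanceAs (IsAffine V.left)
  haveI : IsAffine (P2 f).left.left := CE.isAffine_prod W _ _ inferInstance inferInstance
  have hpo₂ : IsPushout (CommRingCat.ofHom (algebraMap Γ(W.left, ⊤) (CE.RR (CE.VV f))))
      (CommRingCat.ofHom (algebraMap Γ(W.left, ⊤) (CE.RR (CE.VV f))))
      (CE.pb (q1 f)) (CE.pb (q2 f)) :=
    isPushout_appTop_of_isPullback (CE.isPullback_prod W (CE.VV f) (CE.VV f))
  have hpo₃ : IsPushout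
      (CommRingCat.ofHom (algebraMap Γ(W.left, ⊤) (CE.RR (CE.VV f))) ≫ CE.pb (q1 f))
      (CommRingCat.ofHom (algebraMap Γ(W.left, ⊤) (CE.RR (CE.VV f))))
      (CE.pb (r12 f)) (CE.pb (r3 f)) := by
    have h := isPushout_appTop_of_isPullback (CE.isPullback_prod W (P2 f) (CE.VV f))
    have e : CE.str (CE.VV f) ≫ CE.pb (q1 f) = CE.str (P2 f) := CE.str_pb (q1 f)
    show IsPushout (CE.str (CE.VV f) ≫ CE.pb (q1 f)) (CE.str (CE.VV f)) _ _
    rw [e]
    exact h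
  have h13_1 : CE.pb (q1 f) ≫ CE.pb (r13 f) = CE.pb (q1 f) ≫ CE.pb (r12 f) := by
    rw [← CE.pb_comp, ← CE.pb_comp, r13_q1]
  have h13_2 : CE.pb (q2 f) ≫ CE.pb (r13 f) = CE.pb (r3 f) := by
    rw [← CE.pb_comp, r13_q2]
  have h23_1 : CE.pb (q1 f) ≫ CE.pb (r23 f) = CE.pb (q2 f) ≫ CE.pb (r12 f) := by
    rw [← CE.pb_comp, ← CE.pb_comp, r23_q1]
  have h23_2 : CE.pb (q2 f) ≫ CE.pb (r23 f) = CE.pb (r3 f) := by
    rw [← CE.pb_comp, r23_q2]
  have hu : (CE.pb (r12 f)).hom ((un c : (Γ((P2 f).left.left, ⊤))ˣ) : Γ((P2 f).left.left, ⊤)) *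
      (CE.pb (r23 f)).hom ((un c : (Γ((P2 f).left.left, ⊤))ˣ) : Γ((P2 f).left.left, ⊤)) =
      (CE.pb (r13 f)).hom ((un c : (Γ((P2 f).left.left, ⊤))ˣ) : Γ((P2 f).left.left, ⊤)) :=
    congrArg (fun z => ((un z : (Γ((P3 f).left.left, ⊤))ˣ) : Γ((P3 f).left.left, ⊤))) hcc
  haveI : (RingHom.ker (W.left.Γevaluation x₀).hom).IsPrime := RingHom.ker_isPrime _
  obtain ⟨l, l', g₀, hg₀, hl, hll⟩ := h90_diagram (A := Γ(W.left, ⊤)) (B := CE.RR (CE.VV f))
    (CE.pb (q1 f)) (CE.pb (q2 f)) (CE.pb (r12 f)) (CE.pb (r13 f)) (CE.pb (r23 f)) (CE.pb (r3 f))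
    hpo₂ hpo₃ h13_1 h13_2 h23_1 h23_2
    ((un c : (Γ((P2 f).left.left, ⊤))ˣ) : Γ((P2 f).left.left, ⊤))
    (((un c)⁻¹ : (Γ((P2 f).left.left, ⊤))ˣ) : Γ((P2 f).left.left, ⊤))
    (Units.mul_inv _) hu (RingHom.ker (W.left.Γevaluation x₀).hom)
  refine ⟨l, l', g₀, ?_, hl, hll⟩
  have hne : (W.left.Γevaluation x₀).hom g₀ ≠ 0 := fun h0 => hg₀ (RingHom.mem_ker.2 h0)
  exact (Scheme.evaluation_ne_zero_iff_mem_basicOpen W.left (U := ⊤) x₀ trivial g₀).1 hne

theorem descend (w : ι ≫ g = 0) (hf : Function.Surjective f.left.base)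
    (s : Q.obj.obj (op W)) (t : I.obj.obj (op V))
    (ht : (g.hom.app (op V)).hom t = (Q.obj.map f.op).hom s)
    (c : (EtCoh.Gm S).obj.obj (op (P2 f).left))
    (hc : ∀ (T' : Over W) (m : T' ⟶ P2 f),
      (ι.hom.app (op T'.left)).hom (((EtCoh.Gm S).obj.map m.left.op).hom c) =
        (I.obj.map (m ≫ q1 f).left.op).hom t - (I.obj.map (m ≫ q2 f).left.op).hom t)
    (D : W.left.Opens) (l l' : Γ(V.left, ⊤)) (g₀ : Γ(W.left, ⊤))
    (hg₀ : IsUnit (D.ι.appTop.hom g₀))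
    (hl : ((un c : (Γ((P2 f).left.left, ⊤))ˣ) : Γ((P2 f).left.left, ⊤)) * (CE.pb (q2 f)).hom l =
      (CE.pb (q1 f)).hom l)
    (hll : l * l' = f.left.appTop.hom g₀) :
    ∃ t' : I.obj.obj (op (ES.openObj W D)),
      (g.hom.app (op (ES.openObj W D))).hom t' = (Q.obj.map (ES.openObjι W D).op).hom s := by
  have hfh : restrOver f D ≫ ES.openObjι W D = ES.openObjι V (f.left ⁻¹ᵁ D) ≫ f :=
    restrOver_comm f D
  have hsurj : Function.Surjective (restrOver f D).left.base :=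
    restrOver_surjective f D (fun y _ => hf y)
  -- the unit
  have hlu : ∃ lu : (Γ((ES.openObj V (f.left ⁻¹ᵁ D)).left, ⊤))ˣ,
      (lu : Γ((ES.openObj V (f.left ⁻¹ᵁ D)).left, ⊤)) = (f.left ⁻¹ᵁ D).ι.appTop.hom l := by
    have e := congrArg Scheme.Hom.appTop (morphismRestrict_ι f.left D)
    rw [Scheme.Hom.comp_appTop, Scheme.Hom.comp_appTop] at e
    have h2 : (f.left ⁻¹ᵁ D).ι.appTop.hom (f.left.appTop.hom g₀) =
        (f.left ∣_ D).appTop.hom (D.ι.appTop.hom g₀) := (congrArg (fun k => k.hom g₀) e).symm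
    have h4 : IsUnit ((f.left ⁻¹ᵁ D).ι.appTop.hom l * (f.left ⁻¹ᵁ D).ι.appTop.hom l') := by
      rw [← map_mul, hll, h2]
      exact hg₀.map (f.left ∣_ D).appTop.hom
    exact isUnit_of_mul_isUnit_left h4
  obtain ⟨lu, hlu⟩ := hlu
  obtain ⟨tV, htV⟩ : ∃ z : I.obj.obj (op (ES.openObj V (f.left ⁻¹ᵁ D))),
      z = (I.obj.map (ES.openObjι V (f.left ⁻¹ᵁ D)).op).hom t -
        (ι.hom.app (op (ES.openObj V (f.left ⁻¹ᵁ D)))).hom (se lu) := ⟨_, rfl⟩
  have compat : ∀ (Z : S.Etale) (g₁ g₂ : Z ⟶ ES.openObj V (f.left ⁻¹ᵁ D)),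
      g₁ ≫ restrOver f D = g₂ ≫ restrOver f D →
      (I.obj.map g₁.op).hom tV = (I.obj.map g₂.op).hom tV := by
    intro Z g₁ g₂ h12
    have e12 : (g₂ ≫ ES.openObjι V (f.left ⁻¹ᵁ D)) ≫ f =
        (g₁ ≫ ES.openObjι V (f.left ⁻¹ᵁ D)) ≫ f := by
      rw [Category.assoc, Category.assoc, ← hfh, ← Category.assoc, ← Category.assoc, h12]
    obtain ⟨m, hm1, hm2⟩ : ∃ m :
        (Over.mk ((g₁ ≫ ES.openObjι V (f.left ⁻¹ᵁ D)) ≫ f) : Over W) ⟶ P2 f,
        m ≫ q1 f = Over.homMk (g₁ ≫ ES.openObjι V (f.left ⁻¹ᵁ D)) rfl ∧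
        m ≫ q2 f = Over.homMk (g₂ ≫ ES.openObjι V (f.left ⁻¹ᵁ D)) e12 :=
      ⟨prod.lift _ _, prod.lift_fst _ _, prod.lift_snd _ _⟩
    have hcm := hc _ m
    rw [hm1, hm2] at hcm
    obtain ⟨ml, hml⟩ : ∃ ml : Z ⟶ (P2 f).left, ml = m.left := ⟨m.left, rfl⟩
    have hcm' : (ι.hom.app (op Z)).hom (((EtCoh.Gm S).obj.map ml.op).hom c) =
        (I.obj.map (g₁ ≫ ES.openObjι V (f.left ⁻¹ᵁ D)).op).hom t -
        (I.obj.map (g₂ ≫ ES.openObjι V (f.left ⁻¹ᵁ D)).op).hom t := by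
      subst hml
      exact hcm
    have hkey : ((EtCoh.Gm S).obj.map ml.op).hom c +
        ((EtCoh.Gm S).obj.map g₂.op).hom (se lu) =
        ((EtCoh.Gm S).obj.map g₁.op).hom (se lu) := by
      subst hml
      apply un_injective
      apply Units.ext
      have h5 := congrArg (CE.pb m).hom hl
      rw [map_mul, ← CE.pb_comp_apply, ← CE.pb_comp_apply, hm1, hm2] at h5
      have e₁ : (CE.pb (Over.homMk (g₁ ≫ ES.openObjι V (f.left ⁻¹ᵁ D)) rfl :
          (Over.mk ((g₁ ≫ ES.openObjι V (f.left ⁻¹ᵁ D)) ≫ f) : Over W) ⟶ CE.VV f)).hom l =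
          g₁.left.appTop.hom (lu : Γ((ES.openObj V (f.left ⁻¹ᵁ D)).left, ⊤)) := by
        rw [hlu]
        show ((g₁.left ≫ (f.left ⁻¹ᵁ D).ι).appTop).hom l = _
        rw [Scheme.Hom.comp_appTop]
        rfl
      have e₂ : (CE.pb (Over.homMk (g₂ ≫ ES.openObjι V (f.left ⁻¹ᵁ D)) e12 :
          (Over.mk ((g₁ ≫ ES.openObjι V (f.left ⁻¹ᵁ D)) ≫ f) : Over W) ⟶ CE.VV f)).hom l =
          g₂.left.appTop.hom (lu : Γ((ES.openObj V (f.left ⁻¹ᵁ D)).left, ⊤)) := by
        rw [hlu]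
        show ((g₂.left ≫ (f.left ⁻¹ᵁ D).ι).appTop).hom l = _
        rw [Scheme.Hom.comp_appTop]
        rfl
      rw [e₁, e₂] at h5
      exact h5
    have h6 := congrArg (ι.hom.app (op Z)).hom hkey
    rw [map_add, hcm'] at h6
    rw [htV, map_sub, map_sub, shMapMap, shMapMap, ← shNat, ← shNat, ← h6]
    abel
  have hcov : Sieve.ofArrows (fun _ : PUnit.{1} => ES.openObj V (f.left ⁻¹ᵁ D))
      (fun _ => restrOver f D) ∈ S.smallEtaleTopology (ES.openObj W D) := by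
    apply SHC.mem_of_pointwise
    intro x
    obtain ⟨v, hv⟩ := hsurj x
    exact ⟨_, restrOver f D, v, Sieve.ofArrows_mk _ _ PUnit.unit, hv⟩
  obtain ⟨t', ht', -⟩ := CE.glue I (ES.openObj W D)
    (fun _ : PUnit.{1} => ES.openObj V (f.left ⁻¹ᵁ D))
    (fun _ => restrOver f D) hcov (fun _ => tV) (fun _ _ Z g₁ g₂ h12 => compat Z g₁ g₂ h12)
  have ht'' : (I.obj.map (restrOver f D).op).hom t' = tV := ht' PUnit.unit
  refine ⟨t', ?_⟩
  apply shSep Q (restrOver f D) hsurj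
  have hz : (g.hom.app (op (ES.openObj V (f.left ⁻¹ᵁ D)))).hom
      ((ι.hom.app (op (ES.openObj V (f.left ⁻¹ᵁ D)))).hom (se lu)) = 0 :=
    CE.sections_zero (ShortComplex.mk ι g w) _ (se lu)
  rw [← shNat, ht'', htV, map_sub, hz, sub_zero, shNat, ht, shMapMap, shMapMap, hfh]

/-- Hilbert 90: a section of `Q` that lifts to `I` over an affine étale cover lifts to `I`
Zariski-locally. -/
theorem h90_lift (w : ι ≫ g = 0) (hT : (ShortComplex.mk ι g w).ShortExact)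
    [IsAffine W.left] [IsAffine V.left] (hf : Function.Surjective f.left.base)
    (s : Q.obj.obj (op W)) (t : I.obj.obj (op V))
    (ht : (g.hom.app (op V)).hom t = (Q.obj.map f.op).hom s) (x₀ : W.left) :
    ∃ D : W.left.Opens, x₀ ∈ D ∧ ∃ t' : I.obj.obj (op (ES.openObj W D)),
      (g.hom.app (op (ES.openObj W D))).hom t' = (Q.obj.map (ES.openObjι W D).op).hom s := by
  haveI : Mono ι := hT.mono_f
  obtain ⟨c, hc⟩ := exists_cocycle ι g f w hT s t ht
  have hcc := cocycle_identity ι f t c hc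
  obtain ⟨l, l', g₀, hx₀, hl, hll⟩ := exists_trivialization f hf c hcc x₀
  have hg₀ : IsUnit ((W.left.basicOpen g₀).ι.appTop.hom g₀) := by
    apply ELR.isUnit_of_basicOpen_eq_top
    exact (Scheme.preimage_basicOpen_top (W.left.basicOpen g₀).ι g₀).symm.trans
      (Scheme.Opens.ι_preimage_self _)
  exact ⟨W.left.basicOpen g₀, hx₀,
    descend ι g f w hf s t ht c hc (W.left.basicOpen g₀) l l' g₀ hg₀ hl hll⟩

end Main

end Groth.Agent.Helper1.H9
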