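import Mathlib
import Groth.Prelude.Def_EtZar
import Groth.Prelude.Def_EtGm
import Groth.Agent.S17614
import Groth.Agent.Lib.Helper10.ExtLeray
import Groth.Agent.Lib.Helper10.ExtAdj
import Groth.Agent.Lib.Helper1.CH5
import Groth.Agent.Lib.Helper1.DS2
import Groth.Agent.Lib.Helper1.H9B

/-!
# `H¹(X_ét, G_m) ≃ H¹(X_Zar, G_m|_Zar)` (helper1, H9C)
-/

set_option autoImplicit false
set_option linter.style.haveILetI false
set_option linter.unusedSectionVars false

universe u

open CategoryTheory CategoryTheory.Limits AlgebraicGeometry Opposite TopologicalSpace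
open CategoryTheory.Abelian

namespace Groth.Agent.Helper1.H9

section Gen

open Groth.Agent.Helper10.ExtLeray

universe w w' v v' u₁ u₂

variable {C : Type u₁} [Category.{v} C] [Abelian C] {D : Type u₂} [Category.{v'} D] [Abelian D]
variable {F : C ⥤ D} {G : D ⥤ C} (adj : F ⊣ G) [F.Additive] [PreservesFiniteLimits F]
  [PreservesFiniteColimits F] [HasExt.{w} C] [HasExt.{w'} D] [G.Additive] [EnoughInjectives D]

attribute [local instance] Ext.subsingleton_of_injective in
/-- Degenerate Leray in degree one: only exactness of `G` on one injective presentation. -/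
theorem counitMap_one_bijective (X : C) (S : ShortComplex D) (hS : S.ShortExact)
    [Injective S.X₂] (hGS : (S.map G).ShortExact) :
    Function.Bijective (counitMap.{w, w'} adj X S.X₁ (0 + 1)) := by
  haveI hGI : Injective (S.map G).X₂ := Injective.injective_of_adjoint adj S.X₂
  exact AddMonoidHom.bijective_of_surjective_of_bijective_of_right_exact
    ((Ext.mk₀ (S.map G).g).postcomp X (add_zero 0)) (hGS.extClass.postcomp X rfl)
    ((Ext.mk₀ S.g).postcomp (F.obj X) (add_zero 0)) (hS.extClass.postcomp (F.obj X) rfl)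
    (counitMap adj X S.X₂ 0) (counitMap adj X S.X₃ 0) (counitMap adj X S.X₁ (0 + 1))
    (by
      ext x
      exact (counitMap_comp_mk₀ adj X S.g 0 x).symm)
    (by
      ext x
      exact (counitMap_comp_extClass adj X S hS hGS 0 x).symm)
    ((ShortComplex.ab_exact_iff_function_exact _).mp
      (Ext.covariant_sequence_exact₃' X hGS 0 (0 + 1) rfl))
    ((ShortComplex.ab_exact_iff_function_exact _).mp
      (Ext.covariant_sequence_exact₃' (F.obj X) hS 0 (0 + 1) rfl))
    (counitMap_zero_bijective adj X S.X₂).surjective (counitMap_zero_bijective adj X S.X₃)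
    (fun x₁ ↦ Ext.covariant_sequence_exact₁ _ hGS x₁ (by subsingleton) rfl)
    (fun y₁ ↦ Ext.covariant_sequence_exact₁ _ hS y₁ (by subsingleton) rfl)

end Gen

variable {X : Scheme.{u}}

section Local

variable {I Q : EtCoh.Ab X}

theorem exists_affine_lift (g : I ⟶ Q) [Epi g] (W : X.Etale) (s : Q.obj.obj (op W))
    (x' : W.left) :
    ∃ (V₂ : X.Etale) (g₂ : V₂ ⟶ W) (v₂ : V₂.left), IsAffine V₂.left ∧ g₂.left.base v₂ = x' ∧
      ∃ t₂ : I.obj.obj (op V₂), (g.hom.app (op V₂)).hom t₂ = (Q.obj.map g₂.op).hom s := by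
  haveI hls : Sheaf.IsLocallySurjective g :=
    (Sheaf.isLocallySurjective_iff_epi' _ g).mpr inferInstance
  have hmem := Presheaf.imageSieve_mem X.smallEtaleTopology g.hom (U := op W) s
  obtain ⟨V, g₁, v, hg, hv⟩ := ES.pointwise_of_mem W _ hmem x'
  obtain ⟨A, hA, hvA, -⟩ := exists_isAffineOpen_mem_and_subset (x := v) (U := ⊤) trivial
  exact ⟨ES.openObj V A, ES.openObjι V A ≫ g₁, ⟨v, hvA⟩, hA, hv,
    (Presheaf.imageSieve g.hom s).downward_closed hg _⟩

theorem exists_basicOpen_cover {W V₂ : X.Etale} [IsAffine W.left] [IsAffine V₂.left]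
    (g₂ : V₂ ⟶ W) (x' : W.left) (hx' : x' ∈ Set.range g₂.left.base) :
    ∃ h₀ : Γ(W.left, ⊤), x' ∈ W.left.basicOpen h₀ ∧
      IsAffine (ES.openObj W (W.left.basicOpen h₀)).left ∧
      IsAffine (ES.openObj V₂ (g₂.left ⁻¹ᵁ W.left.basicOpen h₀)).left ∧
      Function.Surjective (restrOver g₂ (W.left.basicOpen h₀)).left.base := by
  have hO : IsOpen (Set.range g₂.left.base) := g₂.left.isOpenMap.isOpen_range
  obtain ⟨h₀, hle, hx₀⟩ := (isAffineOpen_top W.left).exists_basicOpen_le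
    (V := ⟨_, hO⟩) ⟨x', hx'⟩ trivial
  refine ⟨h₀, hx₀, ?_, ?_, ?_⟩
  · exact (isAffineOpen_top W.left).basicOpen h₀
  · have : IsAffineOpen (g₂.left ⁻¹ᵁ W.left.basicOpen h₀) := by
      rw [Scheme.preimage_basicOpen_top]
      exact (isAffineOpen_top V₂.left).basicOpen _
    exact this
  · exact restrOver_surjective g₂ _ (fun y hy => hle hy)

theorem local_lift_affine (ι : EtCoh.Gm X ⟶ I) (g : I ⟶ Q) (w : ι ≫ g = 0)
    (hT : (ShortComplex.mk ι g w).ShortExact) (W : X.Etale) [IsAffine W.left]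
    (s : Q.obj.obj (op W)) (x' : W.left) :
    ∃ (T : X.Etale) (j : T ⟶ W), IsOpenImmersion j.left ∧ (∃ y : T.left, j.left.base y = x') ∧
      ∃ t' : I.obj.obj (op T), (g.hom.app (op T)).hom t' = (Q.obj.map j.op).hom s := by
  haveI : Epi g := hT.epi_g
  obtain ⟨V₂, g₂, v₂, hV₂, hv₂, t₂, ht₂⟩ := exists_affine_lift g W s x'
  haveI := hV₂
  obtain ⟨h₀, hx₀, hW', hV₃, hsurj⟩ := exists_basicOpen_cover g₂ x' ⟨v₂, hv₂⟩
  haveI := hW'
  haveI := hV₃
  have ht₃ : (g.hom.app (op (ES.openObj V₂ (g₂.left ⁻¹ᵁ W.left.basicOpen h₀)))).hom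
      ((I.obj.map (ES.openObjι V₂ (g₂.left ⁻¹ᵁ W.left.basicOpen h₀)).op).hom t₂) =
      (Q.obj.map (restrOver g₂ (W.left.basicOpen h₀)).op).hom
        ((Q.obj.map (ES.openObjι W (W.left.basicOpen h₀)).op).hom s) := by
    rw [shNat, ht₂, shMapMap, shMapMap, restrOver_comm]
  obtain ⟨D, hxD, t', ht'⟩ := h90_lift ι g (restrOver g₂ (W.left.basicOpen h₀)) w hT hsurj
    ((Q.obj.map (ES.openObjι W (W.left.basicOpen h₀)).op).hom s) _ ht₃ ⟨x', hx₀⟩
  refine ⟨ES.openObj (ES.openObj W (W.left.basicOpen h₀)) D,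
    ES.openObjι _ D ≫ ES.openObjι W (W.left.basicOpen h₀), ?_, ?_, t', ?_⟩
  · have i1 : IsOpenImmersion D.ι := inferInstance
    have i2 : IsOpenImmersion (W.left.basicOpen h₀).ι := inferInstance
    exact @IsOpenImmersion.comp _ _ _ D.ι (W.left.basicOpen h₀).ι i1 i2
  · exact ⟨⟨⟨x', hx₀⟩, hxD⟩, rfl⟩
  · rw [ht', shMapMap]

theorem exists_zar_of_openImm (g : I ⟶ Q) (U : X.Opens)
    (q : Q.obj.obj (op ((EtZar.zarToEt X).obj U))) (T : X.Etale) [IsOpenImmersion T.hom]
    (j : T ⟶ (EtZar.zarToEt X).obj U) (t' : I.obj.obj (op T))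
    (ht' : (g.hom.app (op T)).hom t' = (Q.obj.map j.op).hom q) (x : X)
    (hx : x ∈ Set.range T.hom) :
    ∃ (V : X.Opens) (hVU : V ≤ U), x ∈ V ∧ ∃ t : I.obj.obj (op ((EtZar.zarToEt X).obj V)),
      (g.hom.app (op ((EtZar.zarToEt X).obj V))).hom t =
        (Q.obj.map ((EtZar.zarToEt X).map (homOfLE hVU)).op).hom q := by
  have hVU : T.hom.opensRange ≤ U := fun y hy => Groth.Agent.S17614.range_subset_of_hom U j hy
  let κl : (T.hom.opensRange : Scheme.{u}) ⟶ T.left :=
    IsOpenImmersion.lift T.hom T.hom.opensRange.ι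
      (by rw [Scheme.Opens.range_ι]; exact fun y hy => hy)
  have hκ : κl ≫ T.hom = T.hom.opensRange.ι := IsOpenImmersion.lift_fac _ _ _
  let κ : (EtZar.zarToEt X).obj T.hom.opensRange ⟶ T := MorphismProperty.Over.homMk κl hκ trivial
  refine ⟨T.hom.opensRange, hVU, hx, (I.obj.map κ.op).hom t', ?_⟩
  rw [shNat, ht', shMapMap]
  have : κ ≫ j = (EtZar.zarToEt X).map (homOfLE hVU) :=
    Groth.Agent.S17614.zarToEt_hom_ext _ _ _
  rw [this]

theorem local_lift (ι : EtCoh.Gm X ⟶ I) (g : I ⟶ Q) (w : ι ≫ g = 0)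
    (hT : (ShortComplex.mk ι g w).ShortExact) (U : X.Opens)
    (q : Q.obj.obj (op ((EtZar.zarToEt X).obj U))) (x : X) (hx : x ∈ U) :
    ∃ (V : X.Opens) (hVU : V ≤ U), x ∈ V ∧ ∃ t : I.obj.obj (op ((EtZar.zarToEt X).obj V)),
      (g.hom.app (op ((EtZar.zarToEt X).obj V))).hom t =
        (Q.obj.map ((EtZar.zarToEt X).map (homOfLE hVU)).op).hom q := by
  obtain ⟨_, ⟨U₁, hU₁, rfl⟩, hxU₀, hU₀U⟩ :=
    X.isBasis_affineOpens.exists_subset_of_mem_open hx U.isOpen
  obtain ⟨U₀, rfl⟩ : ∃ U₀ : X.Opens, U₀ = U₁ := ⟨U₁, rfl⟩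
  have hU₀ : IsAffineOpen U₀ := hU₁
  haveI : IsAffine ((EtZar.zarToEt X).obj U₀).left := hU₀
  obtain ⟨T, j, hj, ⟨y, hy⟩, t', ht'⟩ := local_lift_affine ι g w hT ((EtZar.zarToEt X).obj U₀)
    ((Q.obj.map ((EtZar.zarToEt X).map (homOfLE hU₀U)).op).hom q) ⟨x, hxU₀⟩
  haveI := hj
  have h1 : j.left ≫ U₀.ι = T.hom := MorphismProperty.Over.w j
  haveI : IsOpenImmersion T.hom := by
    have i2 : IsOpenImmersion U₀.ι := inferInstance
    have : IsOpenImmersion (j.left ≫ U₀.ι) := @IsOpenImmersion.comp _ _ _ j.left U₀.ι hj i2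
    rwa [h1] at this
  refine exists_zar_of_openImm g U q T (j ≫ (EtZar.zarToEt X).map (homOfLE hU₀U)) t' ?_ x ?_
  · rw [ht', shMapMap]
  · refine ⟨y, ?_⟩
    rw [← h1, Scheme.Hom.comp_apply]
    exact congrArg Subtype.val hy

end Local

section Zar

open Groth.Agent.S17614

lemma resZar_shortExact_of_local [EtZar.ZarCont X] (Sx : ShortComplex (EtCoh.Ab X))
    (hS : Sx.ShortExact)
    (hloc : ∀ (U : X.Opens) (q : Sx.X₃.obj.obj (op ((EtZar.zarToEt X).obj U))) (x : X), x ∈ U →
      ∃ (V : X.Opens) (hVU : V ≤ U), x ∈ V ∧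
        ∃ t : Sx.X₂.obj.obj (op ((EtZar.zarToEt X).obj V)),
          (Sx.g.hom.app (op ((EtZar.zarToEt X).obj V))).hom t =
            (Sx.X₃.obj.map ((EtZar.zarToEt X).map (homOfLE hVU)).op).hom q) :
    (Sx.map (EtZar.resZar X)).ShortExact := by
  have hlim : PreservesFiniteLimits (EtZar.resZar X) := by
    have : PreservesLimitsOfSize.{0, 0} (EtZar.resZar X) :=
      (piAdj X).rightAdjoint_preservesLimits
    exact PreservesLimitsOfSize.preservesFiniteLimits _
  have h0 := (Functor.preservesFiniteLimits_iff_forall_exact_map_and_mono (EtZar.resZar X)).1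
    hlim Sx hS
  have hepi : Epi ((EtZar.resZar X).map Sx.g) := by
    apply Preadditive.epi_of_cancel_zero
    intro C π hπ
    apply Sheaf.hom_ext
    ext U s
    have h2 : Presieve.IsSheaf (Opens.grothendieckTopology X)
        (C.obj ⋙ forget AddCommGrpCat.{u + 1}) :=
      Presieve.isSheaf_iso _ (Functor.isoWhiskerLeft C.obj AddCommGrpCat.coyonedaObjIsoForget)
        (C.property (AddCommGrpCat.of (ULift ℤ)))
    have hcov : Presheaf.equalizerSieve (F := C.obj) (π.hom.app U s) 0 ∈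
        Opens.grothendieckTopology X U.unop := by
      rw [Opens.mem_grothendieckTopology]
      intro x hx
      obtain ⟨V, hVU, hxV, t, ht⟩ := hloc U.unop s x hx
      refine ⟨V, homOfLE hVU, ?_, hxV⟩
      change C.obj.map (homOfLE hVU).op (π.hom.app U s) = C.obj.map (homOfLE hVU).op 0
      rw [map_zero]
      have hnat := ConcreteCategory.congr_hom (π.hom.naturality (homOfLE hVU).op) s
      rw [ConcreteCategory.comp_apply, ConcreteCategory.comp_apply] at hnat
      rw [← hnat]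
      have e : ((EtZar.resZar X).obj Sx.X₃).obj.map (homOfLE hVU).op s =
          Sx.g.hom.app (op ((EtZar.zarToEt X).obj V)) t := ht.symm
      have h3 := congrArg (fun φ => φ.hom.app (op V)) hπ
      have h4 := ConcreteCategory.congr_hom h3 t
      exact (congrArg (fun z => (π.hom.app (op V)) z) e).trans h4
    exact (h2 _ hcov).isSeparatedFor.ext (fun V f hf => hf)
  exact { exact := h0.1, mono_f := h0.2, epi_g := hepi }

variable (X) [EtZar.ZarCont X]

/-- Hilbert 90: `H¹(X_ét, G_m) ≃ H¹(X_Zar, G_m|_Zar)` -/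
theorem H1_Gm_equiv :
    Nonempty (EtCoh.H X (EtCoh.Gm X) (0 + 1) ≃+
      EtZar.H ((EtZar.resZar X).obj (EtCoh.Gm X)) (0 + 1)) := by
  haveI : PreservesFiniteLimits (piPull X) := piPull_exact X
  haveI : PreservesFiniteColimits (piPull X) := by
    haveI : PreservesColimitsOfSize.{0, 0} (piPull X) := (piAdj X).leftAdjoint_preservesColimits
    exact PreservesColimitsOfSize.preservesFiniteColimits _
  haveI : (piPull X).Additive := (piAdj X).left_adjoint_additive
  have hS := CE.injSES_shortExact (EtCoh.Gm X)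
  haveI : Injective (CE.injSES (EtCoh.Gm X)).X₂ :=
    inferInstanceAs (Injective (Injective.under (EtCoh.Gm X)))
  have hGS : ((CE.injSES (EtCoh.Gm X)).map (EtZar.resZar X)).ShortExact :=
    resZar_shortExact_of_local (CE.injSES (EtCoh.Gm X)) hS
      (fun U q x hx => local_lift (Injective.ι (EtCoh.Gm X))
        (cokernel.π (Injective.ι (EtCoh.Gm X))) (cokernel.condition _) hS U q x hx)
  have hbij := counitMap_one_bijective.{u + 1, u + 1} (piAdj X)
    ((constantSheaf (Opens.grothendieckTopology X) AddCommGrpCat.{u + 1}).obj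
      (AddCommGrpCat.of (ULift ℤ))) (CE.injSES (EtCoh.Gm X)) hS hGS
  let adjZ := constantSheafAdj (Opens.grothendieckTopology X) AddCommGrpCat.{u + 1}
    (isTerminalTop : IsTerminal (⊤ : X.Opens))
  let adjE := constantSheafAdj X.smallEtaleTopology AddCommGrpCat.{u + 1} (DS.isTerminalOETop X)
  let adj1 := adjZ.comp (piAdj X)
  let iso : EtZar.resZar X ⋙ (sheafSections (Opens.grothendieckTopology X)
      AddCommGrpCat.{u + 1}).obj (op (⊤ : X.Opens)) ≅
      (sheafSections X.smallEtaleTopology AddCommGrpCat.{u + 1}).obj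
        (op ((EtZar.zarToEt X).obj (⊤ : X.Opens))) :=
    NatIso.ofComponents (fun G => Iso.refl _) (by
      intro G G' f
      exact (Category.comp_id _).trans (Category.id_comp _).symm)
  let φ : (piPull X).obj ((constantSheaf (Opens.grothendieckTopology X)
      AddCommGrpCat.{u + 1}).obj (AddCommGrpCat.of (ULift ℤ))) ≅
      (constantSheaf X.smallEtaleTopology AddCommGrpCat.{u + 1}).obj
        (AddCommGrpCat.of (ULift ℤ)) :=
    ((adj1.ofNatIsoRight iso).leftAdjointUniq adjE).app (AddCommGrpCat.of (ULift ℤ))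
  exact ⟨(Groth.Agent.Helper10.ExtAdj.extCongrLeft φ (EtCoh.Gm X) (0 + 1)).trans
    (AddEquiv.ofBijective _ hbij).symm⟩

end Zar

end Groth.Agent.Helper1.H9
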