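import Mathlib
import Groth.Prelude.Def_EtZar
import Groth.Prelude.Def_CohTop
import Groth.Agent.Lib.Helper10.ExtAdj
import Groth.Agent.S0453

/-!
# Zariski cohomology with values one universe up: transport to the lifted space (helper1, ZU1)

For a scheme `X : Scheme.{u}`, sheaves on `X` with values in `AddCommGrpCat.{u+1}` are identified
with sheaves on the space `ULift.{u+1} X`, which lives in `TopCat.{u+1}`; the results on flasque
sheaves (S0453) apply there.  Main result: `H_succ_subsingleton_of_surj`.
-/

set_option autoImplicit false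
set_option linter.style.haveILetI false

universe u

open CategoryTheory CategoryTheory.Limits AlgebraicGeometry Opposite TopologicalSpace
open CategoryTheory.Abelian

namespace Groth.Agent.Helper1.ZU

section Homeo

universe v₁ v₂

variable {S : Type v₁} {T : Type v₂} [TopologicalSpace S] [TopologicalSpace T] (h : S ≃ₜ T)

/-- the functor on opens induced by a homeomorphism -/
def oF : Opens S ⥤ Opens T := h.opensCongr.monotone.functor

lemma mem_oF (U : Opens S) (y : T) : y ∈ (oF h).obj U ↔ h.symm y ∈ U := Iff.rfl

instance isCocontinuous_oF :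
    (oF h).IsCocontinuous (Opens.grothendieckTopology S) (Opens.grothendieckTopology T) where
  cover_lift := by
    intro U R hR
    rw [Opens.mem_grothendieckTopology] at hR ⊢
    intro x hx
    obtain ⟨V, f, hf, hxV⟩ := hR (h x) (by rw [mem_oF, h.symm_apply_apply]; exact hx)
    have hle1 : (oF h.symm).obj V ≤ U := by
      intro z hz
      have hz' : h z ∈ V := by
        rw [mem_oF] at hz
        simpa using hz
      have h3 := leOfHom f hz'
      rw [mem_oF, h.symm_apply_apply] at h3
      exact h3
    have hle2 : (oF h).obj ((oF h.symm).obj V) ≤ V := by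
      intro y hy
      rw [mem_oF, mem_oF] at hy
      simpa using hy
    refine ⟨(oF h.symm).obj V, homOfLE hle1, ?_, ?_⟩
    · show R ((oF h).map (homOfLE hle1))
      have h3 := R.downward_closed hf (homOfLE hle2)
      have h4 : (oF h).map (homOfLE hle1) = homOfLE hle2 ≫ f := Subsingleton.elim _ _
      rw [h4]
      exact h3
    · rw [mem_oF]
      simpa using hxV

/-- the equivalence of categories of opens induced by a homeomorphism -/
def opE : Opens S ≌ Opens T := h.opensCongr.equivalence

instance isCocontinuous_opE_functor :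
    (opE h).functor.IsCocontinuous (Opens.grothendieckTopology S)
      (Opens.grothendieckTopology T) :=
  isCocontinuous_oF h

instance isCocontinuous_opE_inverse :
    (opE h).inverse.IsCocontinuous (Opens.grothendieckTopology T)
      (Opens.grothendieckTopology S) :=
  isCocontinuous_oF h.symm

instance isDenseSubsite_opE_inverse :
    (opE h).inverse.IsDenseSubsite (Opens.grothendieckTopology T)
      (Opens.grothendieckTopology S) :=
  Equivalence.isDenseSubsite_inverse_of_isCocontinuous _ _ _

lemma opE_inverse_top : (opE h).inverse.obj (⊤ : Opens T) = ⊤ :=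
  OrderIso.map_top h.opensCongr.symm

/-- the inverse image of the top open is terminal -/
def isTerminalInvTop : IsTerminal ((opE h).inverse.obj (⊤ : Opens T)) :=
  IsTerminal.ofUniqueHom (fun U => homOfLE (by rw [opE_inverse_top]; exact le_top))
    (fun _ _ => Subsingleton.elim _ _)

end Homeo

variable (X : Scheme.{u})

/-- the underlying space of `X`, one universe up -/
abbrev X' : TopCat.{u + 1} := TopCat.of (ULift.{u + 1} X)

/-- the homeomorphism to the lifted space -/
abbrev hX : X ≃ₜ ULift.{u + 1} X := Homeomorph.ulift.symm

/-- the equivalence of sheaf categories -/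
noncomputable abbrev sE : EtZar.Ab X ≌ CohTop.Ab (X' X) :=
  (opE (hX X)).sheafCongr (Opens.grothendieckTopology X)
    (Opens.grothendieckTopology (ULift.{u + 1} X)) AddCommGrpCat.{u + 1}

instance additive_sE_functor : (sE X).functor.Additive :=
  Functor.additive_of_preserves_binary_products _

instance additive_sE_inverse : (sE X).inverse.Additive :=
  Functor.additive_of_preserves_binary_products _

theorem H_equiv (Y : EtZar.Ab X) (n : ℕ) :
    Nonempty (EtZar.H Y n ≃+ CohTop.H ((sE X).functor.obj Y) n) := by
  let J := Opens.grothendieckTopology X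
  let K := Opens.grothendieckTopology (ULift.{u + 1} X)
  let Φ := (sE X).functor
  let Ψ := (sE X).inverse
  let adj : Ψ ⊣ Φ := (sE X).symm.toAdjunction
  let adjZ' := constantSheafAdj K AddCommGrpCat.{u + 1}
    (isTerminalTop : IsTerminal (⊤ : Opens (ULift.{u + 1} X)))
  let adjE := constantSheafAdj J AddCommGrpCat.{u + 1} (isTerminalInvTop (hX X))
  let adj1 := adjZ'.comp adj
  let iso : Φ ⋙ (sheafSections K AddCommGrpCat.{u + 1}).obj
      (op (⊤ : Opens (ULift.{u + 1} X))) ≅
      (sheafSections J AddCommGrpCat.{u + 1}).obj
        (op ((opE (hX X)).inverse.obj (⊤ : Opens (ULift.{u + 1} X)))) :=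
    NatIso.ofComponents (fun G => Iso.refl _) (by
      intro G G' f
      exact (Category.comp_id _).trans (Category.id_comp _).symm)
  let φ : Ψ.obj ((constantSheaf K AddCommGrpCat.{u + 1}).obj (AddCommGrpCat.of (ULift ℤ))) ≅
      (constantSheaf J AddCommGrpCat.{u + 1}).obj (AddCommGrpCat.of (ULift ℤ)) :=
    ((adj1.ofNatIsoRight iso).leftAdjointUniq adjE).app (AddCommGrpCat.of (ULift ℤ))
  exact ⟨(Groth.Agent.Helper10.ExtAdj.extCongrLeft φ Y n).trans
    (Groth.Agent.Helper10.ExtAdj.extAdjEquiv adj _ Y n)⟩

lemma isFlasque_functor (Y : EtZar.Ab X)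
    (hY : ∀ (U V : Opens X) (i : V ⟶ U), Function.Surjective (Y.obj.map i.op)) :
    TopCat.Sheaf.IsFlasque ((sE X).functor.obj Y) where
  epi {U V} i := by
    rw [AddCommGrpCat.epi_iff_surjective]
    exact hY _ _ ((opE (hX X)).inverse.map i.unop)

/-- a sheaf with values in `AddCommGrpCat.{u+1}` all of whose restriction maps are surjective has
no higher cohomology -/
theorem H_succ_subsingleton_of_surj (Y : EtZar.Ab X)
    (hY : ∀ (U V : Opens X) (i : V ⟶ U), Function.Surjective (Y.obj.map i.op)) (n : ℕ) :
    Subsingleton (EtZar.H Y (n + 1)) := by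
  haveI := isFlasque_functor X Y hY
  haveI : Subsingleton (CohTop.H ((sE X).functor.obj Y) (n + 1)) :=
    Groth.Agent.S0453.result _ n
  obtain ⟨e⟩ := H_equiv X Y (n + 1)
  exact e.toEquiv.subsingleton

end Groth.Agent.Helper1.ZU
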