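import Mathlib
import Groth.Prelude.Def_EtZar
import Groth.Prelude.Def_Coh
import Groth.Agent.Lib.Helper1.ZU1
import Groth.Agent.S0454

/-!
# Zariski cohomology and universe lifting of the coefficients (helper1, ZU2)

For a scheme `X : Scheme.{u}`, the functor `Lf X` from sheaves of abelian groups in `Type u`
to sheaves of abelian groups in `Type (u+1)` on `X` induces isomorphisms on cohomology
(`extEquivL`).
-/

set_option autoImplicit false
set_option linter.style.haveILetI false

universe u

open CategoryTheory CategoryTheory.Limits AlgebraicGeometry Opposite TopologicalSpace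
open CategoryTheory.Abelian

namespace Groth.Agent.Helper1.ZU

variable (X : Scheme.{u})

/-- abelian sheaves on `X` with values in `AddCommGrpCat.{u}` -/
abbrev AbS : Type (u + 1) := Sheaf (Opens.grothendieckTopology X) AddCommGrpCat.{u}

/-- universe lifting of sheaves -/
noncomputable abbrev Lf : AbS X ⥤ EtZar.Ab X :=
  sheafCompose (Opens.grothendieckTopology X) AddCommGrpCat.uliftFunctor.{u + 1, u}

instance preservesFiniteLimits_Lf : PreservesFiniteLimits (Lf X) := by
  constructor
  intro K _ _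
  haveI : PreservesLimitsOfShape K
      (Lf X ⋙ sheafToPresheaf (Opens.grothendieckTopology X) AddCommGrpCat.{u + 1}) :=
    (inferInstance : PreservesLimitsOfShape K
      (sheafToPresheaf (Opens.grothendieckTopology X) AddCommGrpCat.{u} ⋙
        (Functor.whiskeringRight _ _ _).obj AddCommGrpCat.uliftFunctor.{u + 1, u}))
  exact preservesLimitsOfShape_of_reflects_of_preserves (Lf X) (sheafToPresheaf _ _)

instance additive_Lf : (Lf X).Additive :=
  Functor.additive_of_preserves_binary_products _

lemma epi_Lf_map {F G : AbS X} (g : F ⟶ G) [Epi g] : Epi ((Lf X).map g) := by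
  haveI hls : Sheaf.IsLocallySurjective g :=
    (Sheaf.isLocallySurjective_iff_epi' _ g).mpr inferInstance
  apply Preadditive.epi_of_cancel_zero
  intro Cc π hπ
  apply Sheaf.hom_ext
  ext U s
  have h2 : Presieve.IsSheaf (Opens.grothendieckTopology X)
      (Cc.obj ⋙ forget AddCommGrpCat.{u + 1}) :=
    Presieve.isSheaf_iso _ (Functor.isoWhiskerLeft Cc.obj AddCommGrpCat.coyonedaObjIsoForget)
      (Cc.property (AddCommGrpCat.of (ULift ℤ)))
  have hcov : Presheaf.equalizerSieve (F := Cc.obj) (π.hom.app U s) 0 ∈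
      Opens.grothendieckTopology X U.unop := by
    refine (Opens.grothendieckTopology X).superset_covering ?_
      (Presheaf.imageSieve_mem (Opens.grothendieckTopology X) g.hom s.down)
    intro V i hi
    obtain ⟨t, ht⟩ := hi
    change Cc.obj.map i.op (π.hom.app U s) = Cc.obj.map i.op 0
    rw [map_zero]
    have hnat := ConcreteCategory.congr_hom (π.hom.naturality i.op) s
    rw [ConcreteCategory.comp_apply, ConcreteCategory.comp_apply] at hnat
    rw [← hnat]
    have h5 : ((Lf X).obj G).obj.map i.op s = ((Lf X).map g).hom.app (op V) (ULift.up t) := by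
      apply ULift.ext
      exact ht.symm
    rw [h5]
    have h3 := congrArg (fun φ => φ.hom.app (op V)) hπ
    exact ConcreteCategory.congr_hom h3 (ULift.up t)
  exact (h2 _ hcov).isSeparatedFor.ext (fun V f hf => hf)

instance preservesFiniteColimits_Lf : PreservesFiniteColimits (Lf X) := by
  rw [Functor.preservesFiniteColimits_iff_forall_exact_map_and_epi]
  intro S hS
  refine ⟨((Functor.preservesFiniteLimits_iff_forall_exact_map_and_mono (Lf X)).1
    inferInstance S hS).1, ?_⟩
  haveI := hS.epi_g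
  exact epi_Lf_map X S.g

/-- the constant sheaf `ℤ` with values in `AddCommGrpCat.{u}` -/
noncomputable abbrev ZA : AbS X :=
  (constantSheaf (Opens.grothendieckTopology X) AddCommGrpCat.{u}).obj
    (AddCommGrpCat.of (ULift.{u} ℤ))

/-- the constant sheaf `ℤ` with values in `AddCommGrpCat.{u+1}` -/
noncomputable abbrev ZC : EtZar.Ab X :=
  (constantSheaf (Opens.grothendieckTopology X) AddCommGrpCat.{u + 1}).obj
    (AddCommGrpCat.of (ULift.{u + 1} ℤ))

/-- the constant sheaf adjunction, values in `Type u` -/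
noncomputable abbrev adjA :=
  constantSheafAdj (Opens.grothendieckTopology X) AddCommGrpCat.{u}
    (isTerminalTop : IsTerminal (⊤ : Opens X))

/-- the constant sheaf adjunction, values in `Type (u+1)` -/
noncomputable abbrev adjC :=
  constantSheafAdj (Opens.grothendieckTopology X) AddCommGrpCat.{u + 1}
    (isTerminalTop : IsTerminal (⊤ : Opens X))

/-- `ULift.{u+1} ℤ ≅ ulift (ULift.{u} ℤ)` -/
noncomputable def kap : AddCommGrpCat.of (ULift.{u + 1} ℤ) ≅
    AddCommGrpCat.uliftFunctor.{u + 1, u}.obj (AddCommGrpCat.of (ULift.{u} ℤ)) :=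
  AddEquiv.toAddCommGrpIso
    ((AddEquiv.ulift : ULift.{u + 1} ℤ ≃+ ℤ).trans
      ((AddEquiv.ulift.symm : ℤ ≃+ ULift.{u} ℤ).trans
        (AddEquiv.ulift.symm : ULift.{u} ℤ ≃+ ULift.{u + 1} (ULift.{u} ℤ))))

/-- the global section of `Lf ℤ` given by `1` -/
noncomputable def phi0 : AddCommGrpCat.of (ULift.{u + 1} ℤ) ⟶
    ((sheafSections (Opens.grothendieckTopology X) AddCommGrpCat.{u + 1}).obj
      (op (⊤ : Opens X))).obj ((Lf X).obj (ZA X)) :=
  kap.{u}.hom ≫ AddCommGrpCat.uliftFunctor.{u + 1, u}.map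
    ((adjA X).unit.app (AddCommGrpCat.of (ULift.{u} ℤ)))

/-- the comparison morphism `ℤ ⟶ Lf ℤ` -/
noncomputable def phi : ZC X ⟶ (Lf X).obj (ZA X) :=
  ((adjC X).homEquiv _ _).symm (phi0 X)

lemma homEquiv_phi_comp (M : AbS X) (f : ZA X ⟶ M) :
    (adjC X).homEquiv _ _ (phi X ≫ (Lf X).map f) =
      kap.{u}.hom ≫ AddCommGrpCat.uliftFunctor.{u + 1, u}.map ((adjA X).homEquiv _ _ f) := by
  have h1 : ((sheafSections (Opens.grothendieckTopology X) AddCommGrpCat.{u + 1}).obj
      (op (⊤ : Opens X))).map ((Lf X).map f) =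
      AddCommGrpCat.uliftFunctor.{u + 1, u}.map
        (((sheafSections (Opens.grothendieckTopology X) AddCommGrpCat.{u}).obj
          (op (⊤ : Opens X))).map f) := rfl
  rw [Adjunction.homEquiv_naturality_right, h1]
  unfold phi
  rw [Equiv.apply_symm_apply]
  unfold phi0
  have h2 : (adjA X).homEquiv _ _ f = (adjA X).unit.app _ ≫
      ((sheafSections (Opens.grothendieckTopology X) AddCommGrpCat.{u}).obj
        (op (⊤ : Opens X))).map f := Adjunction.homEquiv_unit _ _ _ _
  rw [Category.assoc, h2, Functor.map_comp]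
  rfl

lemma phi_comp_bijective (M : AbS X) :
    Function.Bijective (fun f : ZA X ⟶ M => phi X ≫ (Lf X).map f) := by
  constructor
  · intro f g hfg
    have h1 : (adjC X).homEquiv _ _ (phi X ≫ (Lf X).map f) =
        (adjC X).homEquiv _ _ (phi X ≫ (Lf X).map g) := congrArg ((adjC X).homEquiv _ _) hfg
    rw [homEquiv_phi_comp, homEquiv_phi_comp] at h1
    have h2 := (cancel_epi kap.{u}.hom).1 h1
    have h3 := AddCommGrpCat.uliftFunctor.{u + 1, u}.map_injective h2
    exact ((adjA X).homEquiv _ _).injective h3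
  · intro g
    obtain ⟨k, hk⟩ := AddCommGrpCat.uliftFunctor.{u + 1, u}.map_surjective
      (X := AddCommGrpCat.of (ULift.{u} ℤ))
      (Y := ((sheafSections (Opens.grothendieckTopology X) AddCommGrpCat.{u}).obj
        (op (⊤ : Opens X))).obj M) (kap.{u}.inv ≫ (adjC X).homEquiv _ _ g)
    refine ⟨((adjA X).homEquiv _ _).symm k, ?_⟩
    apply ((adjC X).homEquiv _ _).injective
    show (adjC X).homEquiv _ _ (phi X ≫ (Lf X).map (((adjA X).homEquiv _ _).symm k)) = _
    rw [homEquiv_phi_comp, Equiv.apply_symm_apply, hk, Iso.hom_inv_id_assoc]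

/-- the comparison map on `Ext` groups -/
noncomputable def lam (M : AbS X) (n : ℕ) :
    Ext.{u} (ZA X) M n →+ Ext.{u + 1} (ZC X) ((Lf X).obj M) n :=
  ((Ext.mk₀ (phi X)).precomp ((Lf X).obj M) (zero_add n)).comp
    ((Lf X).mapExtAddHom (ZA X) M n)

lemma lam_apply (M : AbS X) (n : ℕ) (x : Ext.{u} (ZA X) M n) :
    lam X M n x = (Ext.mk₀ (phi X)).comp (x.mapExactFunctor (Lf X)) (zero_add n) := rfl

lemma lam_mk₀ (M : AbS X) (f : ZA X ⟶ M) :
    lam X M 0 (Ext.mk₀ f) = Ext.mk₀ (phi X ≫ (Lf X).map f) := by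
  rw [lam_apply, Ext.mapExactFunctor_mk₀, Ext.mk₀_comp_mk₀]

lemma lam_zero_bijective (M : AbS X) : Function.Bijective (lam X M 0) := by
  constructor
  · intro a b hab
    obtain ⟨f, rfl⟩ := (Ext.mk₀_bijective _ _).2 a
    obtain ⟨g, rfl⟩ := (Ext.mk₀_bijective _ _).2 b
    rw [lam_mk₀, lam_mk₀] at hab
    have h1 := (Ext.mk₀_bijective _ _).1 hab
    rw [(phi_comp_bijective X M).1 h1]
  · intro y
    obtain ⟨g, rfl⟩ := (Ext.mk₀_bijective _ _).2 y
    obtain ⟨f, hf⟩ := (phi_comp_bijective X M).2 g
    exact ⟨Ext.mk₀ f, by rw [lam_mk₀]; exact congrArg Ext.mk₀ hf⟩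

lemma lam_comp_mk₀ {M M' : AbS X} (g : M ⟶ M') (n : ℕ) (x : Ext.{u} (ZA X) M n) :
    lam X M' n (x.comp (Ext.mk₀ g) (add_zero n)) =
      (lam X M n x).comp (Ext.mk₀ ((Lf X).map g)) (add_zero n) := by
  rw [lam_apply, lam_apply, Ext.mapExactFunctor_comp, Ext.mapExactFunctor_mk₀,
    Ext.comp_assoc_of_third_deg_zero]

lemma lam_comp_extClass (S : ShortComplex (AbS X)) (hS : S.ShortExact) (n : ℕ)
    (x : Ext.{u} (ZA X) S.X₃ n) :
    lam X S.X₁ (n + 1) (x.comp hS.extClass rfl) =
      (lam X S.X₃ n x).comp (hS.map_of_exact (Lf X)).extClass rfl := by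
  rw [lam_apply, lam_apply, Ext.mapExactFunctor_comp, Ext.mapExactFunctor_extClass]
  exact (Ext.comp_assoc _ _ _ (zero_add n) rfl (by omega)).symm

/-- the lift of an injective sheaf has no higher cohomology -/
theorem H_succ_subsingleton_L (I : AbS X) [Injective I] (n : ℕ) :
    Subsingleton (EtZar.H ((Lf X).obj I) (n + 1)) := by
  have hfl : TopCat.Sheaf.IsFlasque I := Groth.Agent.S0454.result I
  apply H_succ_subsingleton_of_surj
  intro U V i
  have h1 : Function.Surjective (I.obj.map i.op) :=
    (AddCommGrpCat.epi_iff_surjective _).1 (hfl.epi i.op)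
  intro y
  obtain ⟨x, hx⟩ := h1 y.down
  exact ⟨ULift.up x, by apply ULift.ext; exact hx⟩

attribute [local instance] Ext.subsingleton_of_injective in
theorem lam_bijective (n : ℕ) : ∀ (M : AbS X), Function.Bijective (lam X M n) := by
  induction n with
  | zero => exact fun M => lam_zero_bijective X M
  | succ n hn =>
    intro M
    let I : InjectivePresentation M := Classical.arbitrary _
    let S := ShortComplex.mk _ _ (cokernel.condition I.f)
    have hS : S.ShortExact := { exact := ShortComplex.exact_cokernel I.f }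
    haveI : Injective S.X₂ := I.injective
    haveI hsub : Subsingleton (Ext.{u + 1} (ZC X) ((S.map (Lf X)).X₂) (n + 1)) :=
      H_succ_subsingleton_L X S.X₂ n
    exact AddMonoidHom.bijective_of_surjective_of_bijective_of_right_exact
      ((Ext.mk₀ S.g).postcomp (ZA X) (add_zero n)) (hS.extClass.postcomp (ZA X) rfl)
      ((Ext.mk₀ (S.map (Lf X)).g).postcomp (ZC X) (add_zero n))
      ((hS.map_of_exact (Lf X)).extClass.postcomp (ZC X) rfl)
      (lam X S.X₂ n) (lam X S.X₃ n) (lam X S.X₁ (n + 1))
      (by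
        ext x
        exact (lam_comp_mk₀ X S.g n x).symm)
      (by
        ext x
        exact (lam_comp_extClass X S hS n x).symm)
      ((ShortComplex.ab_exact_iff_function_exact _).mp
        (Ext.covariant_sequence_exact₃' (ZA X) hS n (n + 1) rfl))
      ((ShortComplex.ab_exact_iff_function_exact _).mp
        (Ext.covariant_sequence_exact₃' (ZC X) (hS.map_of_exact (Lf X)) n (n + 1) rfl))
      (hn _).surjective (hn _)
      (fun x₁ ↦ Ext.covariant_sequence_exact₁ _ hS x₁ (by subsingleton) rfl)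
      (fun y₁ ↦ Ext.covariant_sequence_exact₁ _ (hS.map_of_exact (Lf X)) y₁ (by subsingleton) rfl)

/-- Zariski cohomology does not change when the coefficients are lifted one universe up -/
theorem extEquivL (M : AbS X) (n : ℕ) :
    Nonempty (Sheaf.H.{u} M n ≃+ EtZar.H ((Lf X).obj M) n) :=
  ⟨AddEquiv.ofBijective (lam X M n) (lam_bijective X n M)⟩

end Groth.Agent.Helper1.ZU
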