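import Mathlib
import Groth.Prelude.Def_EtZar
import Groth.Agent.S17614
import Groth.Agent.Lib.Helper10.ExtLeray
import Groth.Agent.Lib.Helper10.ExtAdj
import Groth.Agent.Lib.Helper1.CH4
import Groth.Agent.Lib.Helper1.DS2

/-!
# Étale cohomology of affine-acyclic sheaves is Zariski cohomology (helper1, ZU3)

* `counitMap_bijective_of_class`: degenerate Leray along an adjunction, for a class of objects
  stable under cokernels of embeddings into injectives.
* `zarCont`: the functor from opens to étale schemes is continuous.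
* `extEquiv_resZar`: for an affine-acyclic sheaf `G` on the small étale site,
  `H^n(X_ét, G) ≃ H^n(X_Zar, G|_Zar)`.
-/

set_option autoImplicit false
set_option linter.style.haveILetI false

universe u

open CategoryTheory CategoryTheory.Limits AlgebraicGeometry Opposite TopologicalSpace
open CategoryTheory.Abelian

namespace Groth.Agent.Helper1.ZU

section Gen

open Groth.Agent.Helper10.ExtLeray

universe w w' v v' u₁ u₂

variable {C : Type u₁} [Category.{v} C] [Abelian C] {D : Type u₂} [Category.{v'} D] [Abelian D]
variable {F : C ⥤ D} {G : D ⥤ C} (adj : F ⊣ G) [F.Additive] [PreservesFiniteLimits F]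
  [PreservesFiniteColimits F] [HasExt.{w} C] [HasExt.{w'} D] [G.Additive] [EnoughInjectives D]

attribute [local instance] Ext.subsingleton_of_injective in
/-- Degenerate Leray for a class `P` of `G`-acyclic objects. -/
theorem counitMap_bijective_of_class (P : D → Prop)
    (hP1 : ∀ (S : ShortComplex D), S.ShortExact → Injective S.X₂ → P S.X₁ →
      (S.map G).ShortExact ∧ P S.X₃)
    (hP2 : ∀ I : D, Injective I → P I) (X : C) (n : ℕ) :
    ∀ (Y : D), P Y → Function.Bijective (counitMap.{w, w'} adj X Y n) := by
  induction n with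
  | zero => intro Y _; exact counitMap_zero_bijective adj X Y
  | succ n hn =>
    intro Y hY
    let I : InjectivePresentation Y := Classical.arbitrary _
    let S := ShortComplex.mk _ _ (cokernel.condition I.f)
    have hS : S.ShortExact := { exact := ShortComplex.exact_cokernel I.f }
    haveI : Injective S.X₂ := I.injective
    obtain ⟨hGS, hQ⟩ := hP1 S hS I.injective hY
    have hI : P S.X₂ := hP2 _ I.injective
    haveI hGI : Injective (S.map G).X₂ := Injective.injective_of_adjoint adj S.X₂
    exact AddMonoidHom.bijective_of_surjective_of_bijective_of_right_exact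
      ((Ext.mk₀ (S.map G).g).postcomp X (add_zero n)) (hGS.extClass.postcomp X rfl)
      ((Ext.mk₀ S.g).postcomp (F.obj X) (add_zero n)) (hS.extClass.postcomp (F.obj X) rfl)
      (counitMap adj X S.X₂ n) (counitMap adj X S.X₃ n) (counitMap adj X S.X₁ (n + 1))
      (by
        ext x
        exact (counitMap_comp_mk₀ adj X S.g n x).symm)
      (by
        ext x
        exact (counitMap_comp_extClass adj X S hS hGS n x).symm)
      ((ShortComplex.ab_exact_iff_function_exact _).mp
        (Ext.covariant_sequence_exact₃' X hGS n (n + 1) rfl))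
      ((ShortComplex.ab_exact_iff_function_exact _).mp
        (Ext.covariant_sequence_exact₃' (F.obj X) hS n (n + 1) rfl))
      (hn _ hI).surjective (hn _ hQ)
      (fun x₁ ↦ Ext.covariant_sequence_exact₁ _ hGS x₁ (by subsingleton) rfl)
      (fun y₁ ↦ Ext.covariant_sequence_exact₁ _ hS y₁ (by subsingleton) rfl)

end Gen

open Groth.Agent.S17614 in
lemma compatiblePreserving_zarToEt (X : Scheme.{u}) :
    CompatiblePreserving.{u + 1} X.smallEtaleTopology (EtZar.zarToEt X) where
  compatible := by
    intro ℱ Z T x hx Y₁ Y₂ T' f₁ f₂ g₁ g₂ hg₁ hg₂ _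
    have h1 := range_subset_of_hom Y₁ f₁
    have h2 := range_subset_of_hom Y₂ f₂
    let k : T' ⟶ (EtZar.zarToEt X).obj (Y₁ ⊓ Y₂) :=
      zarToEtLift (Y₁ ⊓ Y₂) T' (fun y hy => ⟨h1 hy, h2 hy⟩)
    have e1 : f₁ = k ≫ (EtZar.zarToEt X).map (homOfLE inf_le_left) := zarToEt_hom_ext _ _ _
    have e2 : f₂ = k ≫ (EtZar.zarToEt X).map (homOfLE inf_le_right) := zarToEt_hom_ext _ _ _
    have hc := hx (homOfLE inf_le_left : Y₁ ⊓ Y₂ ⟶ Y₁) (homOfLE inf_le_right : Y₁ ⊓ Y₂ ⟶ Y₂)
      hg₁ hg₂ (Subsingleton.elim _ _)
    rw [e1, e2, op_comp, op_comp, FunctorToTypes.map_comp_apply, FunctorToTypes.map_comp_apply]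
    exact congrArg (ℱ.obj.map k.op) hc

/-- the functor from opens to étale schemes is continuous -/
theorem zarCont (X : Scheme.{u}) : EtZar.ZarCont X :=
  Functor.isContinuous_of_coverPreserving (compatiblePreserving_zarToEt X)
    ⟨fun h => (DS.pushforward_mem_iff X _).2 h⟩

variable (X : Scheme.{u}) [EtZar.ZarCont X]

open Groth.Agent.S17614 in
/-- étale cohomology of an affine-acyclic sheaf is the Zariski cohomology of its restriction -/
theorem extEquiv_resZar (G : EtCoh.Ab X) (hG : CE.AffAcyclic G) (n : ℕ) :
    Nonempty (EtCoh.H X G n ≃+ EtZar.H ((EtZar.resZar X).obj G) n) := by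
  haveI : PreservesFiniteLimits (piPull X) := piPull_exact X
  haveI : PreservesFiniteColimits (piPull X) := by
    haveI : PreservesColimitsOfSize.{0, 0} (piPull X) := (piAdj X).leftAdjoint_preservesColimits
    exact PreservesColimitsOfSize.preservesFiniteColimits _
  haveI : (piPull X).Additive := (piAdj X).left_adjoint_additive
  have hbij := counitMap_bijective_of_class.{u + 1, u + 1} (piAdj X)
    (fun G' : EtCoh.Ab X => CE.AffAcyclic G')
    (fun S hS hinj h1 => by
      haveI := hinj
      have h3 : CE.AffAcyclic S.X₃ :=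
        CE.affAcyclic_X₃ S hS h1 (CE.affAcyclic_of_injective S.X₂)
      have hsurj : ∀ (U : X.Opens), IsAffineOpen U →
          Function.Surjective (S.g.hom.app (op ((EtZar.zarToEt X).obj U))) := by
        intro U hU
        haveI : IsAffine ((EtZar.zarToEt X).obj U).left := hU
        exact CE.surjective_of_affAcyclic S hS h1 ((EtZar.zarToEt X).obj U)
      exact ⟨resZar_shortExact S hS hsurj, h3⟩)
    (fun I hI => by
      haveI := hI
      exact CE.affAcyclic_of_injective I)
    ((constantSheaf (Opens.grothendieckTopology X) AddCommGrpCat.{u + 1}).obj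
      (AddCommGrpCat.of (ULift ℤ))) n G hG
  let adjZ := constantSheafAdj (Opens.grothendieckTopology X) AddCommGrpCat.{u + 1}
    (isTerminalTop : IsTerminal (⊤ : X.Opens))
  let adjE := constantSheafAdj X.smallEtaleTopology AddCommGrpCat.{u + 1} (DS.isTerminalOETop X)
  let adj1 := adjZ.comp (piAdj X)
  let iso : EtZar.resZar X ⋙ (sheafSections (Opens.grothendieckTopology X)
      AddCommGrpCat.{u + 1}).obj (op (⊤ : X.Opens)) ≅
      (sheafSections X.smallEtaleTopology AddCommGrpCat.{u + 1}).obj
        (op ((EtZar.zarToEt X).obj (⊤ : X.Opens))) :=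
    NatIso.ofComponents (fun G => Iso.refl _) (by
      intro G G' f
      exact (Category.comp_id _).trans (Category.id_comp _).symm)
  let φ : (piPull X).obj ((constantSheaf (Opens.grothendieckTopology X)
      AddCommGrpCat.{u + 1}).obj (AddCommGrpCat.of (ULift ℤ))) ≅
      (constantSheaf X.smallEtaleTopology AddCommGrpCat.{u + 1}).obj
        (AddCommGrpCat.of (ULift ℤ)) :=
    ((adj1.ofNatIsoRight iso).leftAdjointUniq adjE).app (AddCommGrpCat.of (ULift ℤ))
  exact ⟨(Groth.Agent.Helper10.ExtAdj.extCongrLeft φ G n).trans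
    (AddEquiv.ofBijective _ hbij).symm⟩

end Groth.Agent.Helper1.ZU
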