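import Mathlib
import Groth.Prelude.Def_EtZar
import Groth.Prelude.Def_Coh
import Groth.Prelude.Def_EtGm
import Groth.Agent.Lib.Helper1.ZU2
import Groth.Agent.Lib.Helper1.ZU3
import Groth.Agent.Lib.Helper1.CH8

/-!
# `H^p(X_ét, G_a) ≃ H^p(X, O_X)` (helper1, ZU4): S0110
-/

set_option autoImplicit false
set_option linter.style.haveILetI false
set_option linter.unusedSectionVars false

universe u

open CategoryTheory CategoryTheory.Limits AlgebraicGeometry Opposite TopologicalSpace

namespace Groth.Agent.Helper1.ZU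

variable (X : Scheme.{u})

/-- forgetful functor from commutative rings to abelian groups -/
abbrev K₂ : CommRingCat.{u} ⥤ AddCommGrpCat.{u} :=
  forget₂ CommRingCat RingCat ⋙ forget₂ RingCat AddCommGrpCat

/-- global sections of open subschemes -/
noncomputable abbrev Q₁ : (Opens X)ᵒᵖ ⥤ CommRingCat.{u} :=
  (EtZar.zarToEt X).op ⋙ (Scheme.Etale.forget X ⋙ Over.forget X).op ⋙ Scheme.Γ

/-- the structure sheaf as a presheaf of abelian groups -/
noncomputable def e2 : X.presheaf ⋙ K₂ ≅ (Coh.toAb (Coh.structureModule X)).obj :=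
  NatIso.ofComponents (fun U => Iso.refl _) (by
    intro U V i
    rfl)

lemma presheaf_comp_eq {A B C D : (Opens X)ᵒᵖ} (a : A ⟶ B) (b : B ⟶ D) (c : A ⟶ C)
    (d : C ⟶ D) : X.presheaf.map a ≫ X.presheaf.map b = X.presheaf.map c ≫ X.presheaf.map d := by
  rw [← Functor.map_comp, ← Functor.map_comp]
  congr 1

/-- global sections of open subschemes are sections of the structure sheaf -/
noncomputable def iot : Q₁ X ≅ X.presheaf :=
  NatIso.ofComponents (fun U => Scheme.Opens.topIso (X := X) U.unop) (by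
    intro U V i
    show (X.homOfLE (leOfHom i.unop)).appTop ≫ _ = _
    rw [Scheme.homOfLE_appTop, Scheme.Opens.topIso_hom, Scheme.Opens.topIso_hom]
    exact presheaf_comp_eq X _ _ _ _)

/-- the restriction of `G_a` to the Zariski site is the lifted structure sheaf -/
noncomputable def resZarGaIso [EtZar.ZarCont X] : (EtZar.resZar X).obj (EtCoh.Ga X) ≅
    (Lf X).obj (Coh.toAb (Coh.structureModule X)) :=
  (fullyFaithfulSheafToPresheaf _ _).preimageIso
    (Functor.isoWhiskerRight (iot X) (K₂ ⋙ AddCommGrpCat.uliftFunctor.{u + 1, u}) ≪≫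
      Functor.isoWhiskerRight (e2 X) AddCommGrpCat.uliftFunctor.{u + 1, u})

theorem main0110 (p : ℕ) :
    Nonempty (EtCoh.H X (EtCoh.Ga X) p ≃+ Coh.HH X (Coh.structureModule X) p) := by
  haveI : EtZar.ZarCont X := zarCont X
  obtain ⟨e1⟩ := extEquiv_resZar X (EtCoh.Ga X) CE.affAcyclic_Ga p
  let e2' : EtZar.H ((EtZar.resZar X).obj (EtCoh.Ga X)) p ≃+
      EtZar.H ((Lf X).obj (Coh.toAb (Coh.structureModule X))) p :=
    Groth.Agent.Helper10.ExtAdj.extCongrRight _ (resZarGaIso X) p
  obtain ⟨e3⟩ := extEquivL X (Coh.toAb (Coh.structureModule X)) p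
  exact ⟨(e1.trans e2').trans e3.symm⟩

end Groth.Agent.Helper1.ZU
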