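import Mathlib
import Groth.Prelude.Def_EtZar
import Groth.Prelude.Def_Coh
import Groth.Prelude.Def_EtGm
import Groth.Prelude.Def_UnitsSh
import Groth.Agent.Lib.Helper1.ZU4
import Groth.Agent.Lib.Helper1.H9C
import Groth.Agent.Lib.Helper23.PicH1d

/-!
# `H¹(X_ét, G_m) = 0` iff every invertible module is trivial (helper1, H9D): S0236
-/

set_option autoImplicit false
set_option linter.style.haveILetI false
set_option linter.unusedSectionVars false

universe u

open CategoryTheory CategoryTheory.Limits AlgebraicGeometry Opposite TopologicalSpace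

namespace Groth.Agent.Helper1.H9

variable (X : Scheme.{u})

/-- the restriction of `G_m` to the Zariski site is the lifted sheaf of units -/
noncomputable def resZarGmIso [EtZar.ZarCont X] : (EtZar.resZar X).obj (EtCoh.Gm X) ≅
    (ZU.Lf X).obj (UnitsSh.unitsAb X) :=
  (fullyFaithfulSheafToPresheaf _ _).preimageIso
    (Functor.isoWhiskerRight (ZU.iot X)
      (UnitsSh.unitsFunctor ⋙ AddCommGrpCat.uliftFunctor.{u + 1, u}))

/-- `H¹(X_ét, G_m) ≃ Pic X` -/
theorem H1_Gm_equiv_Pic :
    Nonempty (EtCoh.H X (EtCoh.Gm X) 1 ≃+ Groth.Agent.Helper23.PicCalc.Pic X) := by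
  haveI : EtZar.ZarCont X := ZU.zarCont X
  obtain ⟨e1⟩ := H1_Gm_equiv X
  let e2' : EtZar.H ((EtZar.resZar X).obj (EtCoh.Gm X)) 1 ≃+
      EtZar.H ((ZU.Lf X).obj (UnitsSh.unitsAb X)) 1 :=
    Groth.Agent.Helper10.ExtAdj.extCongrRight _ (resZarGmIso X) 1
  obtain ⟨e3⟩ := ZU.extEquivL X (UnitsSh.unitsAb X) 1
  obtain ⟨e4⟩ := Groth.Agent.Helper23.PicH1.nonempty_pic_equiv_H1 X
  exact ⟨((e1.trans e2').trans e3.symm).trans e4.symm⟩

open Groth.Agent.Helper23.PicCalc in
theorem main0236 :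
    Subsingleton (EtCoh.H X (EtCoh.Gm X) 1) ↔
      ∀ L : X.Modules, PicF.IsInvertible L → Nonempty (L ≅ Coh.structureModule X) := by
  obtain ⟨e⟩ := H1_Gm_equiv_Pic X
  rw [e.toEquiv.subsingleton_congr]
  constructor
  · intro h L hL
    exact (cl_eq_iff hL Groth.Agent.Helper13.Inv.isInvertible_structureModule).1
      (Subsingleton.elim _ _)
  · intro h
    refine subsingleton_of_forall_eq 0 fun c => ?_
    obtain ⟨M, hM, rfl⟩ := exists_rep c
    rw [zero_def]
    exact (cl_eq_iff hM _).2 (h M hM)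

end Groth.Agent.Helper1.H9
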