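import Mathlib
import Groth.Prelude.Def_EtCore
import Groth.Agent.Lib.Helper10.EtLoc
import Groth.Agent.Lib.Helper1.H9C

/-!
# `R¹ε_* G_m = 0`: classes in `H¹(X_ét, G_m)` vanish Zariski-locally (helper1, H9E): S8531
-/

set_option autoImplicit false
set_option linter.style.haveILetI false
set_option linter.unusedSectionVars false

universe u

open CategoryTheory CategoryTheory.Limits AlgebraicGeometry Opposite TopologicalSpace
open CategoryTheory.Abelian

namespace Groth.Agent.Helper1.H9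

open Groth.Agent.Helper10

section Unit

variable {V Y : Scheme.{u}} (j : V ⟶ Y) [Etale j]

/-- the unit of `res ⊣ push` is restriction along the counit of `φ ⊣ bc` -/
lemma resPushAdj_unit_app (Q : EtCoh.Ab Y) (T : Y.Etale) :
    ((EtLoc.resPushAdj j).unit.app Q).hom.app (op T) =
      Q.obj.map ((EtLoc.phiAdj j).counit.app T).op := by
  have h := Adjunction.map_restrictFullyFaithful_unit_app
    (Adjunction.whiskerLeft AddCommGrpCat.{u + 1} (EtLoc.phiAdj j).op)
    (fullyFaithfulSheafToPresheaf Y.smallEtaleTopology AddCommGrpCat.{u + 1})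
    (fullyFaithfulSheafToPresheaf V.smallEtaleTopology AddCommGrpCat.{u + 1})
    ((EtLoc.phi j).sheafPushforwardContinuousCompSheafToPresheafIso AddCommGrpCat.{u + 1}
      V.smallEtaleTopology Y.smallEtaleTopology).symm
    ((EtCoh.bc j).sheafPushforwardContinuousCompSheafToPresheafIso AddCommGrpCat.{u + 1}
      Y.smallEtaleTopology V.smallEtaleTopology).symm Q
  have h2 := congrArg (fun φ => φ.app (op T)) h
  simp only [NatTrans.comp_app] at h2
  refine h2.trans ?_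
  simp only [Functor.sheafPushforwardContinuousCompSheafToPresheafIso]
  refine Eq.trans (b := Q.obj.map ((EtLoc.phiAdj j).counit.app T).op ≫ 𝟙 _ ≫ 𝟙 _) ?_ (by simp)
  rfl

end Unit

section Lift

variable {S : Scheme.{u}}

lemma hom_ext_uliftInt {B : AddCommGrpCat.{u + 1}}
    (a b : AddCommGrpCat.of (ULift.{u + 1} ℤ) ⟶ B)
    (h : a.hom (ULift.up 1) = b.hom (ULift.up 1)) : a = b := by
  apply AddCommGrpCat.hom_ext
  apply AddMonoidHom.ext
  intro n
  have hn : n = n.down • (ULift.up 1 : ULift.{u + 1} ℤ) := by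
    apply ULift.ext
    simp
  rw [hn, map_zsmul, map_zsmul, h]

/-- lifting a morphism from the constant sheaf `ℤ` when its global section lifts -/
lemma exists_lift_const_elt {A B : EtCoh.Ab S} (g : A ⟶ B) (φ : EtCoh.const S ℤ ⟶ B)
    (k : A.obj.obj (op (EtCoh.top S)))
    (hk : (g.hom.app (op (EtCoh.top S))).hom k =
      ((EtCore.constAdj S).homEquiv _ _ φ).hom (ULift.up 1)) :
    ∃ φ' : EtCoh.const S ℤ ⟶ A, φ' ≫ g = φ := by
  let χ : AddCommGrpCat.of (ULift.{u + 1} ℤ) ⟶ (EtCore.gsec S).obj A :=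
    AddCommGrpCat.ofHom ((zmultiplesHom _ k).comp (AddEquiv.ulift (α := ℤ)).toAddMonoidHom)
  have hχ : χ ≫ (EtCore.gsec S).map g = (EtCore.constAdj S).homEquiv _ _ φ := by
    apply hom_ext_uliftInt
    show (g.hom.app (op (EtCoh.top S))).hom ((1 : ℤ) • k) = _
    rw [one_smul, hk]
  refine ⟨((EtCore.constAdj S).homEquiv _ _).symm χ, ?_⟩
  rw [← (EtCore.constAdj S).homEquiv_naturality_right_symm, hχ, Equiv.symm_apply_apply]

end Lift

section HpullZero

lemma Hpull_eq_zero_of_lift {X Y : Scheme.{u}} (f : X ⟶ Y)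
    [PreservesFiniteLimits (EtCoh.pull f)]
    (S : ShortComplex (EtCoh.Ab Y)) (hS : S.ShortExact) (σ : EtCoh.const Y ℤ ⟶ S.X₃)
    (τ' : (EtCoh.pull f).obj (EtCoh.const Y ℤ) ⟶ (EtCoh.pull f).obj S.X₂)
    (hτ : τ' ≫ (EtCoh.pull f).map S.g = (EtCoh.pull f).map σ) :
    EtCore.Hpull f S.X₁ 1 ((Ext.mk₀ σ).comp hS.extClass (zero_add 1)) = 0 := by
  have hS' := hS.map_of_exact (EtCoh.pull f)
  show (Ext.mk₀ (EtCore.pullConst f ℤ).inv).comp
    (((Ext.mk₀ σ).comp hS.extClass (zero_add 1)).mapExactFunctor (EtCoh.pull f)) (zero_add 1) = 0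
  rw [Ext.mapExactFunctor_comp, Ext.mapExactFunctor_mk₀, Ext.mapExactFunctor_extClass,
    Ext.mk₀_comp_mk₀_assoc, ← hτ, ← Category.assoc, ← Ext.mk₀_comp_mk₀_assoc]
  have h0 : (Ext.mk₀ ((EtCoh.pull f).map S.g)).comp hS'.extClass (zero_add 1) = 0 :=
    hS'.comp_extClass
  refine (congrArg (fun z => (Ext.mk₀ ((EtCore.pullConst f ℤ).inv ≫ τ')).comp z
    (zero_add 1)) h0).trans ?_
  rw [Ext.comp_zero]
  rfl

end HpullZero

section PullLift

variable {V Y : Scheme.{u}} (j : V ⟶ Y) [Etale j]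

theorem exists_pull_lift {I Q : EtCoh.Ab Y} (g : I ⟶ Q) (σ : EtCoh.const Y ℤ ⟶ Q)
    (k' : I.obj.obj (op ((EtLoc.phi j).obj ((EtCoh.bc j).obj (EtCoh.top Y)))))
    (hk' : (g.hom.app (op ((EtLoc.phi j).obj ((EtCoh.bc j).obj (EtCoh.top Y))))).hom k' =
      (Q.obj.map ((EtLoc.phiAdj j).counit.app (EtCoh.top Y)).op).hom
        (((EtCore.constAdj Y).homEquiv _ _ σ).hom (ULift.up 1))) :
    ∃ τ' : (EtCoh.pull j).obj (EtCoh.const Y ℤ) ⟶ (EtCoh.pull j).obj I,
      τ' ≫ (EtCoh.pull j).map g = (EtCoh.pull j).map σ := by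
  obtain ⟨κ', hκ'⟩ := exists_lift_const_elt ((EtCoh.push j).map ((EtLoc.res j).map g))
    (σ ≫ (EtLoc.resPushAdj j).unit.app Q) k' (by
      rw [Adjunction.homEquiv_naturality_right]
      show (g.hom.app (op ((EtLoc.phi j).obj ((EtCoh.bc j).obj (EtCoh.top Y))))).hom k' =
        (((EtLoc.resPushAdj j).unit.app Q).hom.app (op (EtCoh.top Y))).hom
          (((EtCore.constAdj Y).homEquiv _ _ σ).hom (ULift.up 1))
      rw [resPushAdj_unit_app]
      exact hk')
  have e1 : (EtLoc.res j).map ((EtCoh.push j).map ((EtLoc.res j).map g)) ≫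
      (EtLoc.resPushAdj j).counit.app ((EtLoc.res j).obj Q) =
      (EtLoc.resPushAdj j).counit.app ((EtLoc.res j).obj I) ≫ (EtLoc.res j).map g :=
    (EtLoc.resPushAdj j).counit_naturality ((EtLoc.res j).map g)
  have e2 : (EtLoc.res j).map ((EtLoc.resPushAdj j).unit.app Q) ≫
      (EtLoc.resPushAdj j).counit.app ((EtLoc.res j).obj Q) = 𝟙 ((EtLoc.res j).obj Q) :=
    (EtLoc.resPushAdj j).left_triangle_components Q
  have hτ'' : ((EtLoc.res j).map κ' ≫ (EtLoc.resPushAdj j).counit.app _) ≫ (EtLoc.res j).map g =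
      (EtLoc.res j).map σ := by
    calc ((EtLoc.res j).map κ' ≫ (EtLoc.resPushAdj j).counit.app _) ≫ (EtLoc.res j).map g
        = (EtLoc.res j).map κ' ≫ ((EtLoc.resPushAdj j).counit.app ((EtLoc.res j).obj I) ≫
            (EtLoc.res j).map g) := Category.assoc _ _ _
      _ = (EtLoc.res j).map κ' ≫ ((EtLoc.res j).map ((EtCoh.push j).map ((EtLoc.res j).map g)) ≫
            (EtLoc.resPushAdj j).counit.app ((EtLoc.res j).obj Q)) := by rw [e1]
      _ = (EtLoc.res j).map (κ' ≫ (EtCoh.push j).map ((EtLoc.res j).map g)) ≫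
            (EtLoc.resPushAdj j).counit.app ((EtLoc.res j).obj Q) := by
          rw [Functor.map_comp, Category.assoc]
      _ = (EtLoc.res j).map (σ ≫ (EtLoc.resPushAdj j).unit.app Q) ≫
            (EtLoc.resPushAdj j).counit.app ((EtLoc.res j).obj Q) := by rw [hκ']
      _ = (EtLoc.res j).map σ ≫ ((EtLoc.res j).map ((EtLoc.resPushAdj j).unit.app Q) ≫
            (EtLoc.resPushAdj j).counit.app ((EtLoc.res j).obj Q)) := by
          rw [Functor.map_comp, Category.assoc]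
      _ = (EtLoc.res j).map σ := by rw [e2, Category.comp_id]
  refine ⟨(EtLoc.pullIsoRes j).hom.app _ ≫
    ((EtLoc.res j).map κ' ≫ (EtLoc.resPushAdj j).counit.app _) ≫
      (EtLoc.pullIsoRes j).inv.app _, ?_⟩
  calc ((EtLoc.pullIsoRes j).hom.app _ ≫
        ((EtLoc.res j).map κ' ≫ (EtLoc.resPushAdj j).counit.app _) ≫
          (EtLoc.pullIsoRes j).inv.app _) ≫ (EtCoh.pull j).map g
      = (EtLoc.pullIsoRes j).hom.app _ ≫
        (((EtLoc.res j).map κ' ≫ (EtLoc.resPushAdj j).counit.app _) ≫ (EtLoc.res j).map g) ≫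
          (EtLoc.pullIsoRes j).inv.app _ := by
        simp only [Category.assoc]
        rw [(EtLoc.pullIsoRes j).inv.naturality g]
    _ = (EtLoc.pullIsoRes j).hom.app _ ≫ (EtLoc.res j).map σ ≫
          (EtLoc.pullIsoRes j).inv.app _ := by rw [hτ'']
    _ = (EtCoh.pull j).map σ := by
        rw [(EtLoc.pullIsoRes j).inv.naturality σ, ← Category.assoc, Iso.hom_inv_id_app,
          Category.id_comp]

end PullLift

section Main

theorem main8531 (X : Scheme.{u}) (c : EtCoh.H X (EtCoh.Gm X) 1) (x : X) :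
    ∃ U : X.Opens, x ∈ U ∧ ∀ [PreservesFiniteLimits (EtCoh.pull U.ι)],
      EtCore.Hpull U.ι (EtCoh.Gm X) 1 c = 0 := by
  have hS := CE.injSES_shortExact (EtCoh.Gm X)
  obtain ⟨x₃, hx₃⟩ := Ext.covariant_sequence_exact₁ _ hS
    (c : Ext _ (CE.injSES (EtCoh.Gm X)).X₁ 1) (Ext.eq_zero_of_injective _) (rfl : 0 + 1 = 1)
  obtain ⟨σ, rfl⟩ := (Ext.mk₀_bijective _ _).2 x₃
  obtain ⟨V, hVU, hxV, t, ht⟩ := local_lift (Injective.ι (EtCoh.Gm X))
    (cokernel.π (Injective.ι (EtCoh.Gm X))) (cokernel.condition _) hS ⊤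
    (((CE.injSES (EtCoh.Gm X)).X₃.obj.map
      ((EtCore.topIsTerminal X).from ((EtZar.zarToEt X).obj ⊤)).op).hom
        (((EtCore.constAdj X).homEquiv _ _ σ).hom (ULift.up 1))) x trivial
  refine ⟨V, hxV, ?_⟩
  intro inst
  have hrange : Set.range ((EtLoc.phi V.ι).obj ((EtCoh.bc V.ι).obj (EtCoh.top X))).hom ⊆
      (V : Set X) := by
    rintro _ ⟨y, rfl⟩
    exact (((EtCoh.bc V.ι).obj (EtCoh.top X)).hom y).2
  obtain ⟨τ', hτ'⟩ := exists_pull_lift V.ι (cokernel.π (Injective.ι (EtCoh.Gm X))) σ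
    (((CE.injSES (EtCoh.Gm X)).X₂.obj.map
      (Groth.Agent.S17614.zarToEtLift V _ hrange).op).hom t) (by
      have hm : (Groth.Agent.S17614.zarToEtLift V
          ((EtLoc.phi V.ι).obj ((EtCoh.bc V.ι).obj (EtCoh.top X))) hrange ≫
          (EtZar.zarToEt X).map (homOfLE hVU)) ≫
          (EtCore.topIsTerminal X).from ((EtZar.zarToEt X).obj ⊤) =
          (EtLoc.phiAdj V.ι).counit.app (EtCoh.top X) := (EtCore.topIsTerminal X).hom_ext _ _
      rw [shNat, ht, shMapMap, shMapMap, hm])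
  rw [← hx₃]
  exact Hpull_eq_zero_of_lift V.ι (CE.injSES (EtCoh.Gm X)) hS σ τ' hτ'

end Main

end Groth.Agent.Helper1.H9
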