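import Mathlib

/-!
# Adjoining roots of a family of monic polynomials: the quotient is projective

For a family `p l` of monic polynomials of positive degree over `B`, the ring
`B[X_l]/(p l (X_l))` is a projective `B`-module.
-/

set_option autoImplicit false

namespace Groth.Agent.Helper1.HFlat

open Polynomial

universe u v

section Quot

variable {B : Type u} [CommRing B] {Λ : Type v} (p : Λ → B[X])

/-- evaluation of a univariate polynomial at the variable `X l` -/
noncomputable def ev (l : Λ) : B[X] →ₐ[B] MvPolynomial Λ B :=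
  Polynomial.aeval (MvPolynomial.X l)

theorem ev_X_pow (l : Λ) (j : ℕ) :
    ev l ((X : B[X]) ^ j) = (MvPolynomial.X l : MvPolynomial Λ B) ^ j := by
  simp [ev]

/-- the relations `p l (X l)` -/
noncomputable def gen (l : Λ) : MvPolynomial Λ B := ev l (p l)

/-- the ideal of relations -/
noncomputable def relIdeal : Ideal (MvPolynomial Λ B) := Ideal.span (Set.range (gen p))

/-- the factors of the reduction map -/
noncomputable def redFactor (l : Λ) (j : ℕ) : MvPolynomial Λ B :=
  ev l ((X ^ j : B[X]) %ₘ p l)

/-- the reduction map -/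
noncomputable def red : MvPolynomial Λ B →ₗ[B] MvPolynomial Λ B :=
  (MvPolynomial.basisMonomials Λ B).constr B (fun e => e.prod (redFactor p))

theorem red_monomial_one (e : Λ →₀ ℕ) :
    red p (MvPolynomial.monomial e 1) = e.prod (redFactor p) := by
  have h := (MvPolynomial.basisMonomials Λ B).constr_basis B (fun e => e.prod (redFactor p)) e
  rw [MvPolynomial.coe_basisMonomials] at h
  exact h

variable {p}

theorem redFactor_zero [Nontrivial B] (hp : ∀ l, (p l).Monic) (hd : ∀ l, (p l).natDegree ≠ 0)
    (l : Λ) : redFactor p l 0 = 1 := by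
  unfold redFactor
  have h : ((X : B[X]) ^ 0) %ₘ p l = X ^ 0 := by
    rw [Polynomial.modByMonic_eq_self_iff (hp l), pow_zero, degree_one]
    exact Polynomial.natDegree_pos_iff_degree_pos.mp (Nat.pos_of_ne_zero (hd l))
  rw [h, pow_zero, map_one]

theorem red_monomial_mul_X_pow [Nontrivial B] (hp : ∀ l, (p l).Monic)
    (hd : ∀ l, (p l).natDegree ≠ 0) (l : Λ) (e : Λ →₀ ℕ) (he : e l = 0) (j : ℕ) :
    red p (MvPolynomial.monomial e 1 * ev l ((X : B[X]) ^ j)) =
      red p (MvPolynomial.monomial e 1) * ev l (((X : B[X]) ^ j) %ₘ p l) := by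
  rw [ev_X_pow, MvPolynomial.X_pow_eq_monomial, MvPolynomial.monomial_mul, mul_one,
    red_monomial_one, red_monomial_one]
  have hdisj : Disjoint e.support (Finsupp.single l j).support := by
    rw [Finset.disjoint_left]
    intro x hx hx'
    have h1 : x = l := by
      have := Finsupp.support_single_subset hx'
      simpa using this
    subst h1
    exact (Finsupp.mem_support_iff.mp hx) he
  rw [Finsupp.prod_add_index_of_disjoint hdisj, Finsupp.prod_single_index (redFactor_zero hp hd l)]
  rfl

theorem red_monomial_mul_ev [Nontrivial B] (hp : ∀ l, (p l).Monic)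
    (hd : ∀ l, (p l).natDegree ≠ 0) (l : Λ) (e : Λ →₀ ℕ) (he : e l = 0) (f : B[X]) :
    red p (MvPolynomial.monomial e 1 * ev l f) =
      red p (MvPolynomial.monomial e 1) * ev l (f %ₘ p l) := by
  induction f using Polynomial.induction_on' with
  | add f g hf hg =>
    rw [map_add, mul_add, map_add, hf, hg, Polynomial.add_modByMonic, map_add, mul_add]
  | monomial j a =>
    have h1 : (Polynomial.monomial j a : B[X]) = a • (X ^ j : B[X]) := by
      rw [Polynomial.smul_eq_C_mul, Polynomial.C_mul_X_pow_eq_monomial]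
    rw [h1, Polynomial.smul_modByMonic]
    calc red p (MvPolynomial.monomial e 1 * ev l (a • (X ^ j : B[X])))
        = red p (a • (MvPolynomial.monomial e 1 * ev l ((X : B[X]) ^ j))) := by
          rw [map_smul, mul_smul_comm]
      _ = a • red p (MvPolynomial.monomial e 1 * ev l ((X : B[X]) ^ j)) := map_smul _ _ _
      _ = a • (red p (MvPolynomial.monomial e 1) * ev l (((X : B[X]) ^ j) %ₘ p l)) := by
          rw [red_monomial_mul_X_pow hp hd l e he j]
      _ = red p (MvPolynomial.monomial e 1) * ev l (a • (((X : B[X]) ^ j) %ₘ p l)) := by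
          rw [map_smul, mul_smul_comm]

theorem red_mul_gen [Nontrivial B] (hp : ∀ l, (p l).Monic) (hd : ∀ l, (p l).natDegree ≠ 0)
    (l : Λ) (q : MvPolynomial Λ B) : red p (q * gen p l) = 0 := by
  induction q using MvPolynomial.induction_on' with
  | monomial e a =>
    have h1 : (MvPolynomial.monomial e a : MvPolynomial Λ B) =
        a • (MvPolynomial.monomial (e.erase l) 1 * ev l ((X : B[X]) ^ (e l))) := by
      rw [ev_X_pow, MvPolynomial.X_pow_eq_monomial, MvPolynomial.monomial_mul, mul_one,
        Finsupp.erase_add_single, MvPolynomial.smul_monomial, smul_eq_mul, mul_one]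
    rw [h1, smul_mul_assoc, map_smul, mul_assoc]
    have h2 : ev l ((X : B[X]) ^ (e l)) * gen p l = ev l ((X : B[X]) ^ (e l) * p l) := by
      rw [gen, map_mul]
    rw [h2, red_monomial_mul_ev hp hd l (e.erase l) (Finsupp.erase_same) _]
    have h3 : ((X : B[X]) ^ (e l) * p l) %ₘ p l = 0 :=
      (Polynomial.modByMonic_eq_zero_iff_dvd (hp l)).mpr (Dvd.intro_left _ rfl)
    rw [h3, map_zero, mul_zero, smul_zero]
  | add q1 q2 h1 h2 => rw [add_mul, map_add, h1, h2, add_zero]

theorem red_eq_zero_of_mem [Nontrivial B] (hp : ∀ l, (p l).Monic)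
    (hd : ∀ l, (p l).natDegree ≠ 0) {x : MvPolynomial Λ B} (hx : x ∈ relIdeal p) :
    red p x = 0 := by
  have key : ∀ x ∈ relIdeal p, ∀ a : MvPolynomial Λ B, red p (a * x) = 0 := by
    intro x hx
    unfold relIdeal at hx
    induction hx using Submodule.span_induction with
    | mem x hx =>
      obtain ⟨l, rfl⟩ := hx
      intro a
      exact red_mul_gen hp hd l a
    | zero => intro a; rw [mul_zero, map_zero]
    | add x y _ _ hx hy => intro a; rw [mul_add, map_add, hx, hy, add_zero]
    | smul c x _ hx =>
      intro a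
      rw [smul_eq_mul, ← mul_assoc]
      exact hx _
  have := key x hx 1
  rwa [one_mul] at this

theorem X_pow_sub_redFactor_mem (l : Λ) (j : ℕ) :
    (MvPolynomial.X l : MvPolynomial Λ B) ^ j - redFactor p l j ∈ relIdeal p := by
  have h := Polynomial.modByMonic_add_div ((X : B[X]) ^ j) (p l)
  have h2 : (X : B[X]) ^ j - (X ^ j) %ₘ p l = p l * ((X ^ j) /ₘ p l) := by
    rw [sub_eq_iff_eq_add']
    exact h.symm
  have h3 : (MvPolynomial.X l : MvPolynomial Λ B) ^ j - redFactor p l j =
      gen p l * ev l (((X : B[X]) ^ j) /ₘ p l) := by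
    rw [← ev_X_pow, redFactor, gen, ← map_mul, ← map_sub, h2]
  rw [h3]
  exact Ideal.mul_mem_right _ _ (Ideal.subset_span (Set.mem_range_self l))

theorem sub_red_mem (x : MvPolynomial Λ B) : x - red p x ∈ relIdeal p := by
  induction x using MvPolynomial.induction_on' with
  | monomial e a =>
    have h1 : (MvPolynomial.monomial e a : MvPolynomial Λ B) =
        a • (MvPolynomial.monomial e 1) := by
      rw [MvPolynomial.smul_monomial, smul_eq_mul, mul_one]
    have h2 : (MvPolynomial.monomial e 1 : MvPolynomial Λ B) - red p (MvPolynomial.monomial e 1) ∈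
        relIdeal p := by
      rw [← Ideal.Quotient.eq, red_monomial_one, MvPolynomial.monomial_eq, map_one, one_mul,
        map_finsuppProd, map_finsuppProd]
      refine Finsupp.prod_congr fun l _ => ?_
      rw [Ideal.Quotient.eq]
      exact X_pow_sub_redFactor_mem l (e l)
    rw [h1, map_smul, ← smul_sub, MvPolynomial.smul_eq_C_mul]
    exact Ideal.mul_mem_left _ _ h2
  | add q1 q2 h1 h2 =>
    rw [map_add, add_sub_add_comm]
    exact add_mem h1 h2

/-- The quotient `B[X_l]/(p l (X_l))` is a projective `B`-module. -/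
theorem projective_quotient [Nontrivial B] (hp : ∀ l, (p l).Monic)
    (hd : ∀ l, (p l).natDegree ≠ 0) :
    Module.Projective B (MvPolynomial Λ B ⧸ relIdeal p) := by
  let e := Submodule.Quotient.restrictScalarsEquiv B (relIdeal p)
  let i0 : (MvPolynomial Λ B ⧸ (relIdeal p).restrictScalars B) →ₗ[B] MvPolynomial Λ B :=
    Submodule.liftQ _ (red p) (fun x hx => by
      rw [LinearMap.mem_ker]
      exact red_eq_zero_of_mem hp hd hx)
  let i : (MvPolynomial Λ B ⧸ relIdeal p) →ₗ[B] MvPolynomial Λ B := i0 ∘ₗ e.symm.toLinearMap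
  let s : MvPolynomial Λ B →ₗ[B] (MvPolynomial Λ B ⧸ relIdeal p) :=
    (Ideal.Quotient.mkₐ B (relIdeal p)).toLinearMap
  refine Module.Projective.of_split i s ?_
  apply LinearMap.ext
  intro y
  obtain ⟨x, rfl⟩ := Ideal.Quotient.mk_surjective y
  have h1 : i (Ideal.Quotient.mk (relIdeal p) x) = red p x := rfl
  show Ideal.Quotient.mk (relIdeal p) (i (Ideal.Quotient.mk (relIdeal p) x)) =
    Ideal.Quotient.mk (relIdeal p) x
  rw [h1, eq_comm, Ideal.Quotient.eq]
  exact sub_red_mem x

end Quot

end Groth.Agent.Helper1.HFlat
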