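import Groth.Agent.Lib.Helper1.HFlat9

/-!
# Reducedness passes to and from the henselization
-/

set_option autoImplicit false

namespace Groth.Agent.Helper1.HFlat

open Polynomial IsLocalRing

universe u

theorem dvd_derivative_mul_of_dvd_pow {K : Type*} [Field K] {q f : K[X]} (hq : q ≠ 0) {N : ℕ}
    (h : q ∣ f ^ N) : q ∣ derivative q * f := by
  classical
  rw [← Polynomial.map_dvd_map' (algebraMap K (AlgebraicClosure K))]
  obtain ⟨q', hq'⟩ : ∃ q' : (AlgebraicClosure K)[X], q' = q.map (algebraMap K (AlgebraicClosure K)) :=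
    ⟨_, rfl⟩
  obtain ⟨f', hf'⟩ : ∃ f' : (AlgebraicClosure K)[X], f' = f.map (algebraMap K (AlgebraicClosure K)) :=
    ⟨_, rfl⟩
  have hq0 : q' ≠ 0 := by
    rw [hq']
    exact (Polynomial.map_ne_zero_iff (algebraMap K (AlgebraicClosure K)).injective).mpr hq
  have h' : q' ∣ f' ^ N := by
    rw [hq', hf', ← Polynomial.map_pow]
    exact Polynomial.map_dvd _ h
  rw [Polynomial.map_mul, ← Polynomial.derivative_map, ← hq', ← hf']
  by_cases h0 : derivative q' * f' = 0
  · rw [h0]; exact dvd_zero _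
  rw [(IsAlgClosed.splits q').dvd_iff_roots_le_roots hq0 h0, Multiset.le_iff_count]
  intro α
  rw [count_roots, count_roots, rootMultiplicity_mul h0]
  by_cases hα : rootMultiplicity α q' = 0
  · omega
  have hroot : q'.IsRoot α := (rootMultiplicity_pos hq0).mp (Nat.pos_of_ne_zero hα)
  have hfroot : f'.IsRoot α := by
    have h1 : (f' ^ N).IsRoot α := hroot.dvd h'
    rw [Polynomial.IsRoot, eval_pow] at h1
    exact pow_eq_zero_iff (M₀ := AlgebraicClosure K) (n := N) (fun hN => by
      rw [hN, pow_zero] at h1; exact one_ne_zero h1) |>.mp h1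
  have h1 := rootMultiplicity_sub_one_le_derivative_rootMultiplicity_of_ne_zero q' α
    (left_ne_zero_of_mul h0)
  have h2 : 1 ≤ rootMultiplicity α f' :=
    (rootMultiplicity_pos (right_ne_zero_of_mul h0)).mpr hfroot
  omega

theorem dvd_derivative_mul_of_dvd_pow_of_isReduced {B : Type u} [CommRing B] [IsReduced B]
    {q f : B[X]} (hq : q.Monic) {N : ℕ} (h : q ∣ f ^ N) : q ∣ derivative q * f := by
  rw [← Polynomial.modByMonic_eq_zero_iff_dvd hq]
  ext j
  rw [coeff_zero]
  have hnil : ((derivative q * f) %ₘ q).coeff j ∈ nilradical B := by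
    rw [nilradical_eq_sInf, Ideal.mem_sInf]
    intro 𝔭 h𝔭
    haveI : 𝔭.IsPrime := h𝔭
    obtain ⟨χ, hχ⟩ : ∃ χ : B →+* FractionRing (B ⧸ 𝔭),
        χ = (algebraMap (B ⧸ 𝔭) (FractionRing (B ⧸ 𝔭))).comp (Ideal.Quotient.mk 𝔭) := ⟨_, rfl⟩
    have hqχ : (q.map χ) ≠ 0 := (hq.map χ).ne_zero
    have h1 : q.map χ ∣ (f.map χ) ^ N := by
      rw [← Polynomial.map_pow]
      exact Polynomial.map_dvd χ h
    have h2 := dvd_derivative_mul_of_dvd_pow hqχ h1
    rw [Polynomial.derivative_map, ← Polynomial.map_mul,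
      ← Polynomial.modByMonic_eq_zero_iff_dvd (hq.map χ), ← Polynomial.map_modByMonic χ hq] at h2
    have h3 : χ (((derivative q * f) %ₘ q).coeff j) = 0 := by
      rw [← Polynomial.coeff_map, h2, coeff_zero]
    rw [hχ, RingHom.comp_apply] at h3
    have h4 : Ideal.Quotient.mk 𝔭 (((derivative q * f) %ₘ q).coeff j) = 0 :=
      (IsFractionRing.injective (B ⧸ 𝔭) (FractionRing (B ⧸ 𝔭))) (by rw [map_zero]; exact h3)
    exact Ideal.Quotient.eq_zero_iff_mem.mp h4
  rw [nilradical_eq_zero] at hnil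
  exact hnil

section Single

variable {B : Type u} [CommRing B] {Λ : Type u} [Unique Λ] (p : Λ → B[X])

theorem ev_default_eq (f : B[X]) :
    ev (default : Λ) f = (MvPolynomial.uniqueAlgEquiv B Λ).symm f := by
  simp only [ev, Polynomial.aeval_def, MvPolynomial.uniqueAlgEquiv_symm_apply]
  rfl

theorem ev_default_surjective :
    Function.Surjective (ev (default : Λ) : B[X] → MvPolynomial Λ B) := by
  intro P
  exact ⟨MvPolynomial.uniqueAlgEquiv B Λ P, by rw [ev_default_eq, AlgEquiv.symm_apply_apply]⟩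

theorem mk_ev_eq_zero_iff (f : B[X]) :
    Ideal.Quotient.mk (relIdeal p) (ev (default : Λ) f) = 0 ↔ p default ∣ f := by
  rw [Ideal.Quotient.eq_zero_iff_mem, relIdeal, Set.range_unique, Ideal.mem_span_singleton, gen,
    ev_default_eq, ev_default_eq]
  exact map_dvd_iff (MvPolynomial.uniqueAlgEquiv B Λ).symm

end Single

theorem dφ_mk_ev {B : Type u} [CommRing B] [IsLocalRing B] {Λ : Type u} (d : Λ → HData B)
    (l : Λ) (f : B[X]) :
    dφ d (Ideal.Quotient.mk _ (ev l f)) = residue B (f.eval (dapx d l)) := by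
  unfold dφ liftQ
  rw [Ideal.Quotient.lift_mk, eval₂Hom_ev, Polynomial.eval₂_at_apply]

theorem isReduced_Ext1 {B : Type u} [CommRing B] [IsLocalRing B] [IsReduced B] (δ : HData B) :
    IsReduced (Ext1 δ) := by
  constructor
  intro y hy
  obtain ⟨N, hN⟩ := hy
  obtain ⟨a, s, rfl⟩ := IsLocalization.exists_mk'_eq
    (RingHom.ker (dφ (fun _ : PUnit.{u + 1} => δ))).primeCompl y
  have hN1 : (IsLocalization.mk' (Ext1 δ) a s) ^ (N + 1) = 0 := by rw [pow_succ, hN, zero_mul]
  rw [← IsLocalization.mk'_pow, IsLocalization.mk'_eq_zero_iff] at hN1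
  obtain ⟨t, ht⟩ := hN1
  obtain ⟨P, rfl⟩ := Ideal.Quotient.mk_surjective a
  obtain ⟨f, rfl⟩ := ev_default_surjective (Λ := PUnit.{u + 1}) P
  obtain ⟨Pt, hPt⟩ := Ideal.Quotient.mk_surjective (t : Q (dpoly fun _ : PUnit.{u + 1} => δ))
  obtain ⟨g, rfl⟩ := ev_default_surjective (Λ := PUnit.{u + 1}) Pt
  -- `(g f)^(N+1)` is divisible by `q`
  have h1 : Ideal.Quotient.mk (relIdeal (dpoly fun _ : PUnit.{u + 1} => δ))
      (ev (default : PUnit.{u + 1}) ((g * f) ^ (N + 1))) = 0 := by
    rw [map_pow, map_mul, map_pow, map_mul, mul_pow, hPt]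
    have hring : ∀ (x y : Q (dpoly fun _ : PUnit.{u + 1} => δ)),
        x ^ (N + 1) * y = x ^ N * (x * y) := fun x y => by ring
    rw [hring, ht, mul_zero]
  rw [mk_ev_eq_zero_iff] at h1
  have h2 := dvd_derivative_mul_of_dvd_pow_of_isReduced
    (dpoly_monic (fun _ : PUnit.{u + 1} => δ) default) h1
  rw [← mk_ev_eq_zero_iff, map_mul, map_mul, map_mul, map_mul, hPt] at h2
  -- pass to the localization
  have h3 := congrArg (algebraMap (Q (dpoly fun _ : PUnit.{u + 1} => δ)) (Ext1 δ)) h2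
  rw [map_mul, map_mul, map_zero] at h3
  have hD : IsUnit (algebraMap (Q (dpoly fun _ : PUnit.{u + 1} => δ)) (Ext1 δ)
      (Ideal.Quotient.mk _ (ev (default : PUnit.{u + 1})
        (derivative (dpoly (fun _ : PUnit.{u + 1} => δ) default))))) := by
    apply IsLocalization.map_units (Ext1 δ)
      (⟨_, ?_⟩ : (RingHom.ker (dφ (fun _ : PUnit.{u + 1} => δ))).primeCompl)
    show _ ∉ RingHom.ker _
    rw [RingHom.mem_ker, dφ_mk_ev]
    exact (residue_ne_zero_iff_isUnit _).mpr δ.2.2.2
  have ht' : IsUnit (algebraMap (Q (dpoly fun _ : PUnit.{u + 1} => δ)) (Ext1 δ)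
      (t : Q (dpoly fun _ : PUnit.{u + 1} => δ))) := IsLocalization.map_units (Ext1 δ) t
  have h4 : algebraMap (Q (dpoly fun _ : PUnit.{u + 1} => δ)) (Ext1 δ)
      (Ideal.Quotient.mk _ (ev (default : PUnit.{u + 1}) f)) = 0 := by
    have h5 := (hD.mul_right_eq_zero).mp h3
    exact (ht'.mul_right_eq_zero).mp h5
  have h6 := IsLocalization.mk'_spec (Ext1 δ)
    (Ideal.Quotient.mk (relIdeal (dpoly fun _ : PUnit.{u + 1} => δ))
      (ev (default : PUnit.{u + 1}) f)) s
  rw [h4] at h6
  exact ((IsLocalization.map_units (Ext1 δ) s).mul_left_eq_zero).mp h6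

theorem GoodMap.isReduced {R S : Type u} [CommRing R] [IsLocalRing R] [CommRing S]
    [HenselianLocalRing S] {ψ : R →+* S} [IsReduced R] {E : LocRing.{u}} {φ : E.A →+* S}
    (hg : GoodMap ψ E φ) : IsReduced E.A := by
  induction hg with
  | base => exact ‹IsReduced R›
  | step E φ δ h ih =>
    haveI := ih
    exact isReduced_Ext1 δ

theorem isReduced_iff_of_isHenselization (R : Type u) [CommRing R] [IsLocalRing R]
    (S : Type u) [CommRing S] [IsLocalRing S] [Algebra R S] [IsLocalHom (algebraMap R S)]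
    [Hensel.IsHenselization R S] : IsReduced R ↔ IsReduced S := by
  haveI hS : HenselianLocalRing S := Hensel.IsHenselization.henselian (R := R)
  have hψ : IsHensHom (algebraMap R S) := IsHensHom.of_isHenselization R S
  constructor
  · intro hR
    constructor
    intro x hx
    obtain ⟨E, φ, g, ⟨e, rfl⟩⟩ := exists_good hψ x
    haveI : IsReduced E.A := g.isReduced
    have hinj : Function.Injective φ := (g.isHensHom hψ).injective
    obtain ⟨N, hN⟩ := hx
    rw [← map_pow, map_eq_zero_iff φ hinj] at hN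
    have he : e = 0 := IsReduced.eq_zero e ⟨N, hN⟩
    rw [he, map_zero]
  · intro hSr
    exact isReduced_of_injective (algebraMap R S) hψ.injective

end Groth.Agent.Helper1.HFlat
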