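import Groth.Agent.Lib.Helper1.HFlat1
import Groth.Agent.Lib.Helper1.HznTerm

/-!
# One step of the henselization tower: adjoin all Hensel roots at once and localize
-/

set_option autoImplicit false

namespace Groth.Agent.Helper1.HFlat

open Polynomial IsLocalRing

universe u

section OneStep

variable {B : Type u} [CommRing B] {Λ : Type u} (p : Λ → B[X])

/-- the ring with roots adjoined -/
abbrev Q : Type u := MvPolynomial Λ B ⧸ relIdeal p

/-- the class of the variable -/
noncomputable def qX (l : Λ) : Q p := Ideal.Quotient.mk _ (MvPolynomial.X l)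

theorem aeval_qX (l : Λ) : Polynomial.aeval (qX p l) (p l) = 0 := by
  have h := Polynomial.aeval_algHom_apply (Ideal.Quotient.mkₐ B (relIdeal p))
    (MvPolynomial.X l) (p l)
  show Polynomial.aeval (Ideal.Quotient.mkₐ B (relIdeal p) (MvPolynomial.X l)) (p l) = 0
  rw [h]
  show Ideal.Quotient.mk (relIdeal p) (gen p l) = 0
  exact Ideal.Quotient.eq_zero_iff_mem.mpr (Ideal.subset_span (Set.mem_range_self l))

section LiftQ

variable {T : Type u} [CommRing T] (g : B →+* T) (β : Λ → T)

theorem eval₂Hom_ev (l : Λ) (q : B[X]) :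
    MvPolynomial.eval₂Hom g β (ev l q) = q.eval₂ g (β l) := by
  unfold ev
  rw [Polynomial.aeval_def, Polynomial.hom_eval₂]
  congr 1
  · ext b
    simp
  · simp

/-- the map out of `Q p` determined by roots `β l` -/
noncomputable def liftQ (hβ : ∀ l, (p l).eval₂ g (β l) = 0) : Q p →+* T :=
  Ideal.Quotient.lift (relIdeal p) (MvPolynomial.eval₂Hom g β) (by
    have h : relIdeal p ≤ RingHom.ker (MvPolynomial.eval₂Hom g β) := by
      unfold relIdeal
      rw [Ideal.span_le]
      rintro _ ⟨l, rfl⟩
      rw [SetLike.mem_coe, RingHom.mem_ker]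
      unfold gen
      rw [eval₂Hom_ev, hβ]
    intro x hx
    exact h hx)

variable {p g β}

theorem liftQ_algebraMap (hβ : ∀ l, (p l).eval₂ g (β l) = 0) (b : B) :
    liftQ p g β hβ (algebraMap B (Q p) b) = g b := by
  show Ideal.Quotient.lift _ _ _ (Ideal.Quotient.mk _ (MvPolynomial.C b)) = g b
  rw [Ideal.Quotient.lift_mk]
  simp

theorem liftQ_qX (hβ : ∀ l, (p l).eval₂ g (β l) = 0) (l : Λ) :
    liftQ p g β hβ (qX p l) = β l := by
  show Ideal.Quotient.lift _ _ _ (Ideal.Quotient.mk _ (MvPolynomial.X l)) = β l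
  rw [Ideal.Quotient.lift_mk]
  simp

theorem Q_ringHom_ext {A : Type*} [CommRing A] {f₁ f₂ : Q p →+* A}
    (h1 : ∀ b, f₁ (algebraMap B (Q p) b) = f₂ (algebraMap B (Q p) b))
    (h2 : ∀ l, f₁ (qX p l) = f₂ (qX p l)) : f₁ = f₂ := by
  apply Ideal.Quotient.ringHom_ext
  apply MvPolynomial.ringHom_ext
  · intro b
    exact h1 b
  · intro l
    exact h2 l

end LiftQ

variable [IsLocalRing B] {K : Type u} [Field K] (φ : Q p →+* K)

instance kerPrime : (RingHom.ker φ).IsPrime := RingHom.ker_isPrime φ

/-- the localization at the kernel of `φ` -/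
abbrev Loc : Type u := Localization.AtPrime (RingHom.ker φ)

theorem flat_Loc (hp : ∀ l, (p l).Monic) (hd : ∀ l, (p l).natDegree ≠ 0) :
    Module.Flat B (Loc p φ) := by
  have h1 : Module.Projective B (Q p) := projective_quotient hp hd
  have h2 : Module.Flat B (Q p) := inferInstance
  have h3 : Module.Flat (Q p) (Loc p φ) := IsLocalization.flat _ (RingHom.ker φ).primeCompl
  exact Module.Flat.trans B (Q p) (Loc p φ)

theorem isLocalHom_algebraMap_Loc
    (hφ : ∀ b ∈ maximalIdeal B, φ (algebraMap B (Q p) b) = 0) :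
    IsLocalHom (algebraMap B (Loc p φ)) := by
  constructor
  intro b hb
  by_contra hbu
  have hbm : b ∈ maximalIdeal B := (IsLocalRing.mem_maximalIdeal b).mpr hbu
  have h1 : algebraMap B (Q p) b ∈ RingHom.ker φ := hφ b hbm
  have h2 : algebraMap (Q p) (Loc p φ) (algebraMap B (Q p) b) ∈ maximalIdeal (Loc p φ) :=
    (IsLocalization.AtPrime.to_map_mem_maximal_iff (Loc p φ) (RingHom.ker φ) _).mpr h1
  rw [← IsScalarTower.algebraMap_apply] at h2
  exact (IsLocalRing.mem_maximalIdeal _).mp h2 hb

/-- the adjoined roots -/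
noncomputable def root (l : Λ) : Loc p φ := algebraMap (Q p) (Loc p φ) (qX p l)

theorem aeval_root (l : Λ) : Polynomial.aeval (root p φ l) (p l) = 0 := by
  rw [root, Polynomial.aeval_algebraMap_apply, aeval_qX, map_zero]

theorem root_sub_mem (l : Λ) (a : B) (h : φ (qX p l) = φ (algebraMap B (Q p) a)) :
    root p φ l - algebraMap B (Loc p φ) a ∈ maximalIdeal (Loc p φ) := by
  have h1 : root p φ l - algebraMap B (Loc p φ) a =
      algebraMap (Q p) (Loc p φ) (qX p l - algebraMap B (Q p) a) := by
    rw [map_sub, ← IsScalarTower.algebraMap_apply]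
    rfl
  rw [h1, IsLocalization.AtPrime.to_map_mem_maximal_iff (Loc p φ) (RingHom.ker φ),
    RingHom.mem_ker, map_sub, h, sub_self]

section LiftLoc

variable {T : Type u} [CommRing T] [IsLocalRing T] {g : B →+* T} {β : Λ → T}
  (hβ : ∀ l, (p l).eval₂ g (β l) = 0)
  (hker : ∀ x, φ x = 0 ↔ liftQ p g β hβ x ∈ maximalIdeal T)

omit [IsLocalRing B] in
include hker in
theorem isUnit_liftQ (y : (RingHom.ker φ).primeCompl) : IsUnit (liftQ p g β hβ y) := by
  have hy : (y : Q p) ∉ RingHom.ker φ := y.2
  have h1 : liftQ p g β hβ y ∉ maximalIdeal T := fun h => hy ((hker _).mpr h)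
  by_contra hu
  exact h1 ((IsLocalRing.mem_maximalIdeal _).mpr hu)

/-- the induced map out of the localization -/
noncomputable def liftLoc : Loc p φ →+* T :=
  IsLocalization.lift (M := (RingHom.ker φ).primeCompl) (g := liftQ p g β hβ)
    (isUnit_liftQ p φ hβ hker)

theorem liftLoc_algebraMap (b : B) :
    liftLoc p φ hβ hker (algebraMap B (Loc p φ) b) = g b := by
  rw [IsScalarTower.algebraMap_apply B (Q p) (Loc p φ), liftLoc, IsLocalization.lift_eq,
    liftQ_algebraMap]

theorem liftLoc_root (l : Λ) : liftLoc p φ hβ hker (root p φ l) = β l := by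
  rw [root, liftLoc, IsLocalization.lift_eq, liftQ_qX]

theorem isLocalHom_liftLoc : IsLocalHom (liftLoc p φ hβ hker) := by
  constructor
  intro x hx
  obtain ⟨a, s, rfl⟩ := IsLocalization.exists_mk'_eq (RingHom.ker φ).primeCompl x
  have h1 := IsLocalization.mk'_spec (Loc p φ) a s
  have h2 := congrArg (liftLoc p φ hβ hker) h1
  rw [map_mul] at h2
  have h3 : liftLoc p φ hβ hker (algebraMap (Q p) (Loc p φ) a) = liftQ p g β hβ a := by
    rw [liftLoc, IsLocalization.lift_eq]
  have h4 : liftLoc p φ hβ hker (algebraMap (Q p) (Loc p φ) (s : Q p)) = liftQ p g β hβ s := by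
    rw [liftLoc, IsLocalization.lift_eq]
  rw [h3, h4] at h2
  have h5 : IsUnit (liftQ p g β hβ a) := by
    rw [← h2]
    exact hx.mul (isUnit_liftQ p φ hβ hker s)
  have h6 : a ∉ RingHom.ker φ := by
    intro ha
    have := (hker a).mp ha
    exact (IsLocalRing.mem_maximalIdeal _).mp this h5
  have h7 : IsUnit (algebraMap (Q p) (Loc p φ) a) :=
    IsLocalization.map_units (Loc p φ) (⟨a, h6⟩ : (RingHom.ker φ).primeCompl)
  rw [← h1] at h7
  exact isUnit_of_mul_isUnit_left h7

end LiftLoc


section Extra

omit [IsLocalRing B] in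
theorem isIntegral_Q (hp : ∀ l, (p l).Monic) : Algebra.IsIntegral B (Q p) := by
  constructor
  intro y
  obtain ⟨x, rfl⟩ := Ideal.Quotient.mk_surjective y
  induction x using MvPolynomial.induction_on with
  | C a => exact isIntegral_algebraMap (x := a)
  | add f g hf hg => rw [map_add]; exact hf.add hg
  | mul_X f l hf =>
    rw [map_mul]
    refine hf.mul ⟨p l, hp l, ?_⟩
    have := aeval_qX p l
    rwa [Polynomial.aeval_def] at this

theorem ringKrullDim_Loc_le_Q : ringKrullDim (Loc p φ) ≤ ringKrullDim (Q p) := by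
  rw [IsLocalization.AtPrime.ringKrullDim_eq_height (RingHom.ker φ) (Loc p φ)]
  exact Ideal.height_le_ringKrullDim_of_isPrime

instance isNoetherianRing_Loc [IsNoetherianRing B] [Finite Λ] : IsNoetherianRing (Loc p φ) :=
  IsLocalization.isNoetherianRing (RingHom.ker φ).primeCompl (Loc p φ) inferInstance

end Extra

end OneStep

section Hens

variable (B : Type u) [CommRing B] [IsLocalRing B]

/-- Hensel data over `B` -/
def HData : Type u :=
  {x : B[X] × B // x.1.Monic ∧ x.1.eval x.2 ∈ maximalIdeal B ∧ IsUnit (x.1.derivative.eval x.2)}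

variable {B} {Λ : Type u} (d : Λ → HData B)

/-- the polynomial of a Hensel datum -/
def dpoly : Λ → B[X] := fun l => (d l).1.1

/-- the approximate root of a Hensel datum -/
def dapx : Λ → B := fun l => (d l).1.2

theorem dpoly_monic (l : Λ) : (dpoly d l).Monic := (d l).2.1

theorem dpoly_natDegree_ne_zero (l : Λ) : (dpoly d l).natDegree ≠ 0 := by
  intro h0
  have h1 : dpoly d l = 1 := Polynomial.eq_one_of_monic_natDegree_zero (dpoly_monic d l) h0
  have h2 : (dpoly d l).eval (dapx d l) ∈ maximalIdeal B := (d l).2.2.1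
  rw [h1, eval_one] at h2
  exact (IsLocalRing.mem_maximalIdeal _).mp h2 isUnit_one

theorem dpoly_eval₂_residue (l : Λ) :
    (dpoly d l).eval₂ (residue B) (residue B (dapx d l)) = 0 := by
  rw [Polynomial.eval₂_at_apply]
  exact (residue_eq_zero_iff _).mpr (d l).2.2.1

/-- the residue map on `Q`, sending `X l` to the residue of the approximate root -/
noncomputable def dφ : Q (dpoly d) →+* ResidueField B :=
  liftQ (dpoly d) (residue B) (fun l => residue B (dapx d l)) (dpoly_eval₂_residue d)

/-- one step: adjoin the Hensel roots of the data `d l` and localize -/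
abbrev DNext : Type u := Loc (dpoly d) (dφ d)

theorem dφ_algebraMap (b : B) : dφ d (algebraMap B (Q (dpoly d)) b) = residue B b :=
  liftQ_algebraMap _ b

theorem dφ_qX (l : Λ) : dφ d (qX (dpoly d) l) = residue B (dapx d l) :=
  liftQ_qX _ l

theorem flat_DNext : Module.Flat B (DNext d) :=
  flat_Loc (dpoly d) (dφ d) (dpoly_monic d) (dpoly_natDegree_ne_zero d)

instance isLocalHom_algebraMap_DNext : IsLocalHom (algebraMap B (DNext d)) :=
  isLocalHom_algebraMap_Loc (dpoly d) (dφ d) (fun b hb => by
    rw [dφ_algebraMap]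
    exact (residue_eq_zero_iff _).mpr hb)

/-- the adjoined Hensel roots -/
noncomputable def droot (l : Λ) : DNext d := root (dpoly d) (dφ d) l

theorem droot_isRoot (l : Λ) : ((dpoly d l).map (algebraMap B (DNext d))).IsRoot (droot d l) := by
  rw [Polynomial.IsRoot, Polynomial.eval_map_algebraMap]
  exact aeval_root (dpoly d) (dφ d) l

theorem droot_sub_mem (l : Λ) :
    droot d l - algebraMap B (DNext d) (dapx d l) ∈ maximalIdeal (DNext d) := by
  apply root_sub_mem
  rw [dφ_qX, dφ_algebraMap]

theorem ringKrullDim_DNext_le : ringKrullDim (DNext d) ≤ ringKrullDim B := by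
  refine (ringKrullDim_Loc_le_Q (dpoly d) (dφ d)).trans ?_
  have h := isIntegral_Q (dpoly d) (dpoly_monic d)
  refine Order.krullDim_le_of_strictMono
    (fun P : PrimeSpectrum (Q (dpoly d)) => PrimeSpectrum.comap (algebraMap B (Q (dpoly d))) P) ?_
  intro P P' hPP'
  have hlt : P.asIdeal < P'.asIdeal := (PrimeSpectrum.asIdeal_lt_asIdeal P P').mpr hPP'
  obtain ⟨x, hxQ, hxP⟩ := SetLike.exists_of_lt hlt
  have h' := Ideal.comap_lt_comap_of_integral_mem_sdiff (R := B) (I := P.asIdeal)
    (J := P'.asIdeal) hlt.le ⟨hxQ, hxP⟩ (h.isIntegral x)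
  rw [← PrimeSpectrum.asIdeal_lt_asIdeal]
  exact h'

section LiftNext

variable {T : Type u} [CommRing T] [HenselianLocalRing T] (g : B →+* T) [IsLocalHom g]

omit [HenselianLocalRing T] in
theorem map_mem_maximalIdeal [IsLocalRing T] {b : B} (hb : b ∈ maximalIdeal B) :
    g b ∈ maximalIdeal T := by
  rw [IsLocalRing.mem_maximalIdeal] at hb ⊢
  exact (map_mem_nonunits_iff g b).mpr hb

theorem hdata_map (l : Λ) :
    ((dpoly d l).map g).Monic ∧ ((dpoly d l).map g).eval (g (dapx d l)) ∈ maximalIdeal T ∧
      IsUnit (((dpoly d l).map g).derivative.eval (g (dapx d l))) := by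
  refine ⟨(dpoly_monic d l).map g, ?_, ?_⟩
  · rw [Polynomial.eval_map, Polynomial.eval₂_at_apply]
    exact map_mem_maximalIdeal g (d l).2.2.1
  · rw [Polynomial.derivative_map, Polynomial.eval_map, Polynomial.eval₂_at_apply]
    exact (d l).2.2.2.map g

/-- the Hensel roots in the target -/
noncomputable def hβ (l : Λ) : T := Hzn.hroot ((dpoly d l).map g) (g (dapx d l))

theorem hβ_spec (l : Λ) :
    ((dpoly d l).map g).IsRoot (hβ d g l) ∧ hβ d g l - g (dapx d l) ∈ maximalIdeal T := by
  obtain ⟨h1, h2, h3⟩ := hdata_map d g l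
  exact Hzn.hroot_spec h1 h2 h3

theorem hβ_eval₂ (l : Λ) : (dpoly d l).eval₂ g (hβ d g l) = 0 := by
  have := (hβ_spec d g l).1
  rwa [Polynomial.IsRoot, Polynomial.eval_map] at this

theorem residue_liftQ (x : Q (dpoly d)) :
    residue T (liftQ (dpoly d) g (hβ d g) (hβ_eval₂ d g) x) = ResidueField.map g (dφ d x) := by
  have h : (residue T).comp (liftQ (dpoly d) g (hβ d g) (hβ_eval₂ d g)) =
      (ResidueField.map g).comp (dφ d) := by
    apply Q_ringHom_ext
    · intro b
      rw [RingHom.comp_apply, RingHom.comp_apply, liftQ_algebraMap, dφ_algebraMap,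
        ResidueField.map_residue]
    · intro l
      rw [RingHom.comp_apply, RingHom.comp_apply, liftQ_qX, dφ_qX, ResidueField.map_residue]
      have h1 := (hβ_spec d g l).2
      rw [← residue_eq_zero_iff, map_sub, sub_eq_zero] at h1
      exact h1
  exact congrArg (fun f => f x) h

theorem hker_DNext (x : Q (dpoly d)) :
    dφ d x = 0 ↔ liftQ (dpoly d) g (hβ d g) (hβ_eval₂ d g) x ∈ maximalIdeal T := by
  rw [← residue_eq_zero_iff, residue_liftQ]
  exact (map_eq_zero (ResidueField.map g)).symm

/-- the lift of a local homomorphism to a henselian local ring along one step -/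
noncomputable def liftDNext : DNext d →+* T :=
  liftLoc (dpoly d) (dφ d) (hβ_eval₂ d g) (hker_DNext d g)

theorem liftDNext_algebraMap (b : B) : liftDNext d g (algebraMap B (DNext d) b) = g b :=
  liftLoc_algebraMap _ _ _ _ b

theorem liftDNext_droot (l : Λ) : liftDNext d g (droot d l) = hβ d g l :=
  liftLoc_root _ _ _ _ l

instance isLocalHom_liftDNext : IsLocalHom (liftDNext d g) :=
  isLocalHom_liftLoc _ _ _ _

end LiftNext

variable (B)

/-- one step of the tower: all Hensel data at once -/
abbrev Next : Type u := DNext (id : HData B → HData B)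

theorem flat_Next : Module.Flat B (Next B) := flat_DNext _

theorem isLocalHom_algebraMap_Next : IsLocalHom (algebraMap B (Next B)) :=
  isLocalHom_algebraMap_DNext _

/-- every Hensel datum over `B` has a root in `Next B` -/
theorem exists_root_Next (q : B[X]) (hq : q.Monic) (a₀ : B) (h1 : q.eval a₀ ∈ maximalIdeal B)
    (h2 : IsUnit (q.derivative.eval a₀)) :
    ∃ a : Next B, (q.map (algebraMap B (Next B))).IsRoot a ∧
      a - algebraMap B (Next B) a₀ ∈ maximalIdeal (Next B) :=
  let l : HData B := ⟨(q, a₀), hq, h1, h2⟩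
  ⟨droot id l, droot_isRoot id l, droot_sub_mem id l⟩

theorem ringKrullDim_Next_le : ringKrullDim (Next B) ≤ ringKrullDim B := ringKrullDim_DNext_le _

variable {B} {T : Type u} [CommRing T] [HenselianLocalRing T] (g : B →+* T) [IsLocalHom g]

/-- the lift of a local homomorphism to a henselian local ring along one step -/
noncomputable def liftNext : Next B →+* T := liftDNext id g

theorem liftNext_algebraMap (b : B) : liftNext g (algebraMap B (Next B) b) = g b :=
  liftDNext_algebraMap id g b

instance isLocalHom_liftNext : IsLocalHom (liftNext g) := isLocalHom_liftDNext id g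

end Hens

end Groth.Agent.Helper1.HFlat
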