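import Groth.Agent.Lib.Helper1.HFlat2

/-!
# Sequential colimits of local rings and the henselization tower
-/

set_option autoImplicit false

namespace Groth.Agent.Helper1.HFlat

open Polynomial IsLocalRing

universe u

section Seq

variable (G : ℕ → Type u) [∀ n, CommRing (G n)] (ι : ∀ n, G n →+* G (n + 1))

/-- transition maps of a sequence -/
noncomputable def natLE (m n : ℕ) (h : m ≤ n) : G m →+* G n :=
  Nat.leRecOn h (fun {k} φ => (ι k).comp φ) (RingHom.id (G m))

theorem natLE_self (m : ℕ) : natLE G ι m m le_rfl = RingHom.id (G m) := Nat.leRecOn_self _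

theorem natLE_succ (m n : ℕ) (h : m ≤ n) :
    natLE G ι m (n + 1) (Nat.le_succ_of_le h) = (ι n).comp (natLE G ι m n h) :=
  Nat.leRecOn_succ h _

theorem natLE_trans (m n k : ℕ) (h1 : m ≤ n) (h2 : n ≤ k) :
    natLE G ι m k (h1.trans h2) = (natLE G ι n k h2).comp (natLE G ι m n h1) := by
  induction k, h2 using Nat.le_induction with
  | base => rw [natLE_self, RingHom.id_comp]
  | succ k h2 ih =>
    rw [natLE_succ G ι n k h2, RingHom.comp_assoc, ← ih]
    exact natLE_succ G ι m k (h1.trans h2)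

instance directedSystem_natLE : DirectedSystem G (fun i j h => natLE G ι i j h) where
  map_self i x := by rw [natLE_self]; rfl
  map_map k j i hij hjk x := by rw [natLE_trans G ι i j k hij hjk]; rfl

/-- the colimit of the sequence -/
abbrev SeqColim : Type u := Ring.DirectLimit G (fun i j h => natLE G ι i j h)

/-- the canonical maps -/
noncomputable def ofSeq (n : ℕ) : G n →+* SeqColim G ι :=
  Ring.DirectLimit.of G (fun i j h => natLE G ι i j h) n

theorem ofSeq_natLE (m n : ℕ) (h : m ≤ n) (x : G m) :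
    ofSeq G ι n (natLE G ι m n h x) = ofSeq G ι m x :=
  Ring.DirectLimit.of_f h x

theorem natLE_step (n : ℕ) : natLE G ι n (n + 1) (Nat.le_succ n) = ι n := by
  have := natLE_succ G ι n n le_rfl
  rw [natLE_self, RingHom.comp_id] at this
  exact this

theorem ofSeq_ι (n : ℕ) (x : G n) : ofSeq G ι (n + 1) (ι n x) = ofSeq G ι n x := by
  have := ofSeq_natLE G ι n (n + 1) (Nat.le_succ n) x
  rwa [natLE_step] at this

theorem exists_ofSeq (z : SeqColim G ι) : ∃ n x, ofSeq G ι n x = z :=
  Ring.DirectLimit.exists_of z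

theorem ofSeq_eq_zero {n : ℕ} {x : G n} (h : ofSeq G ι n x = 0) :
    ∃ m, ∃ hnm : n ≤ m, natLE G ι n m hnm x = 0 :=
  Ring.DirectLimit.of.zero_exact h

theorem exists_ofSeq_fin {l : ℕ} (x : Fin l → SeqColim G ι) :
    ∃ n, ∃ y : Fin l → G n, ∀ i, ofSeq G ι n (y i) = x i := by
  have h := fun i => exists_ofSeq G ι (x i)
  choose n y hy using h
  refine ⟨Finset.univ.sup n, fun i => natLE G ι (n i) _ (Finset.le_sup (Finset.mem_univ i)) (y i),
    fun i => ?_⟩
  rw [ofSeq_natLE, hy]

section LiftSeq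

variable {G ι} {T : Type*} [CommRing T] (g : ∀ n, G n →+* T)
  (hg : ∀ n x, g (n + 1) (ι n x) = g n x)

/-- maps out of the colimit -/
noncomputable def liftSeq : SeqColim G ι →+* T :=
  Ring.DirectLimit.lift G _ T g (by
    intro i j hij x
    induction j, hij using Nat.le_induction with
    | base => rw [natLE_self]; rfl
    | succ j hij ih =>
      rw [natLE_succ G ι i j hij, RingHom.comp_apply, hg, ih])

theorem liftSeq_ofSeq (n : ℕ) (x : G n) : liftSeq g hg (ofSeq G ι n x) = g n x :=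
  Ring.DirectLimit.lift_of _ _ _ _ _

end LiftSeq

section Flat

theorem flat_natLE_zero (hflat : ∀ n, (ι n).Flat) (n : ℕ) :
    (natLE G ι 0 n (Nat.zero_le n)).Flat := by
  induction n with
  | zero => rw [natLE_self]; exact RingHom.Flat.id _
  | succ n ih =>
    rw [natLE_succ G ι 0 n (Nat.zero_le n)]
    exact RingHom.Flat.comp ih (hflat n)

theorem flat_ofSeq_zero (hflat : ∀ n, (ι n).Flat) : (ofSeq G ι 0).Flat := by
  letI : Algebra (G 0) (SeqColim G ι) := (ofSeq G ι 0).toAlgebra
  show Module.Flat (G 0) (SeqColim G ι)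
  rw [Module.Flat.iff_forall_isTrivialRelation]
  intro l r x hrx
  obtain ⟨n, y, hy⟩ := exists_ofSeq_fin G ι x
  have hsmul : ∀ (c : G 0) (z : SeqColim G ι), c • z = ofSeq G ι 0 c * z := fun c z => rfl
  have hz : ofSeq G ι n (∑ i, natLE G ι 0 n (Nat.zero_le n) (r i) * y i) = 0 := by
    rw [map_sum, ← hrx]
    refine Finset.sum_congr rfl fun i _ => ?_
    rw [map_mul, ofSeq_natLE, hy, hsmul]
  obtain ⟨m, hnm, hm⟩ := ofSeq_eq_zero G ι hz
  letI : Algebra (G 0) (G m) := (natLE G ι 0 m (Nat.zero_le m)).toAlgebra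
  have hflm : Module.Flat (G 0) (G m) := flat_natLE_zero G ι hflat m
  have hsmul' : ∀ (c : G 0) (z : G m), c • z = natLE G ι 0 m (Nat.zero_le m) c * z :=
    fun c z => rfl
  have hrel : ∑ i, r i • (natLE G ι n m hnm (y i)) = 0 := by
    rw [← hm, map_sum]
    refine Finset.sum_congr rfl fun i _ => ?_
    rw [map_mul, hsmul']
    congr 1
    have := natLE_trans G ι 0 n m (Nat.zero_le n) hnm
    exact congrArg (fun f => f (r i)) this
  obtain ⟨k, a, w, hxw, haw⟩ := Module.Flat.iff_forall_isTrivialRelation.mp hflm hrel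
  refine ⟨k, a, fun j => ofSeq G ι m (w j), ?_, haw⟩
  intro i
  have hxw' : natLE G ι n m hnm (y i) = ∑ j, a i j • w j := hxw i
  show x i = ∑ j, a i j • ofSeq G ι m (w j)
  rw [← hy i, ← ofSeq_natLE G ι n m hnm (y i), hxw', map_sum]
  refine Finset.sum_congr rfl fun j _ => ?_
  rw [hsmul', map_mul, hsmul, ofSeq_natLE]

end Flat

section Local

variable [∀ n, IsLocalRing (G n)] [∀ n, IsLocalHom (ι n)]

theorem isLocalHom_natLE (m n : ℕ) (h : m ≤ n) : IsLocalHom (natLE G ι m n h) := by
  induction n, h using Nat.le_induction with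
  | base => rw [natLE_self]; exact ⟨fun a ha => ha⟩
  | succ n h ih =>
    rw [natLE_succ G ι m n h]
    exact RingHom.isLocalHom_comp _ _

theorem isUnit_ofSeq_iff {n : ℕ} (x : G n) : IsUnit (ofSeq G ι n x) ↔ IsUnit x := by
  constructor
  · intro hx
    obtain ⟨z, hz⟩ := hx.exists_right_inv
    obtain ⟨m, y, rfl⟩ := exists_ofSeq G ι z
    obtain ⟨k, hnk, hmk⟩ : ∃ k, n ≤ k ∧ m ≤ k := ⟨max n m, le_max_left _ _, le_max_right _ _⟩
    have h1 : ofSeq G ι k (natLE G ι n k hnk x * natLE G ι m k hmk y - 1) = 0 := by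
      rw [map_sub, map_mul, ofSeq_natLE, ofSeq_natLE, hz, map_one, sub_self]
    obtain ⟨k', hkk', h2⟩ := ofSeq_eq_zero G ι h1
    rw [map_sub, map_mul, map_one, sub_eq_zero] at h2
    have h3 : IsUnit (natLE G ι k k' hkk' (natLE G ι n k hnk x)) :=
      IsUnit.of_mul_eq_one _ h2
    have h4 : natLE G ι k k' hkk' (natLE G ι n k hnk x) = natLE G ι n k' (hnk.trans hkk') x := by
      rw [natLE_trans G ι n k k' hnk hkk']; rfl
    rw [h4] at h3
    haveI := isLocalHom_natLE G ι n k' (hnk.trans hkk')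
    exact (isUnit_map_iff (natLE G ι n k' (hnk.trans hkk')) x).mp h3
  · intro hx
    exact hx.map _

instance nontrivial_seqColim : Nontrivial (SeqColim G ι) := by
  refine ⟨⟨0, 1, ?_⟩⟩
  intro h
  have h1 : ofSeq G ι 0 1 = 0 := by rw [map_one]; exact h.symm
  obtain ⟨m, hm, h2⟩ := ofSeq_eq_zero G ι h1
  rw [map_one] at h2
  exact one_ne_zero h2

instance isLocalRing_seqColim : IsLocalRing (SeqColim G ι) := by
  apply IsLocalRing.of_isUnit_or_isUnit_one_sub_self
  intro z
  obtain ⟨n, x, rfl⟩ := exists_ofSeq G ι z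
  rcases IsLocalRing.isUnit_or_isUnit_one_sub_self x with h | h
  · exact Or.inl (h.map _)
  · right
    have := h.map (ofSeq G ι n)
    rwa [map_sub, map_one] at this

instance isLocalHom_ofSeq (n : ℕ) : IsLocalHom (ofSeq G ι n) :=
  ⟨fun x hx => (isUnit_ofSeq_iff G ι x).mp hx⟩

theorem ofSeq_mem_maximalIdeal_iff {n : ℕ} (x : G n) :
    ofSeq G ι n x ∈ maximalIdeal (SeqColim G ι) ↔ x ∈ maximalIdeal (G n) := by
  rw [IsLocalRing.mem_maximalIdeal, IsLocalRing.mem_maximalIdeal, mem_nonunits_iff,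
    mem_nonunits_iff, isUnit_ofSeq_iff]

theorem henselian_seqColim
    (hroot : ∀ n (q : (G n)[X]), q.Monic → ∀ a₀ : G n, q.eval a₀ ∈ maximalIdeal (G n) →
      IsUnit (q.derivative.eval a₀) →
      ∃ a : G (n + 1), (q.map (ι n)).IsRoot a ∧ a - ι n a₀ ∈ maximalIdeal (G (n + 1))) :
    HenselianLocalRing (SeqColim G ι) := by
  refine { is_henselian := ?_ }
  intro f hf a₀ h1 h2
  obtain ⟨d, c, rfl⟩ := Hzn.exists_eq_mpoly hf
  obtain ⟨n, y, hy⟩ := exists_ofSeq_fin G ι (Fin.cons a₀ c : Fin (d + 1) → SeqColim G ι)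
  obtain ⟨b₀, hb₀⟩ : ∃ b₀ : G n, ofSeq G ι n b₀ = a₀ := ⟨y 0, by rw [hy 0]; rfl⟩
  obtain ⟨c', hc'⟩ : ∃ c' : Fin d → G n, ∀ j, ofSeq G ι n (c' j) = c j :=
    ⟨fun j => y j.succ, fun j => by rw [hy j.succ]; rfl⟩
  obtain ⟨q, hqdef⟩ : ∃ q : (G n)[X], q = Hzn.mpoly d c' := ⟨_, rfl⟩
  have hqm : q.Monic := by rw [hqdef]; exact Hzn.mpoly_monic d c'
  have hqmap : q.map (ofSeq G ι n) = Hzn.mpoly d c := by
    rw [hqdef, Hzn.mpoly_map]
    congr 1
    funext j
    exact hc' j
  have e1 : ofSeq G ι n (q.eval b₀) = (Hzn.mpoly d c).eval a₀ := by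
    rw [← hqmap, ← hb₀, Polynomial.eval_map_apply]
  have e2 : ofSeq G ι n (q.derivative.eval b₀) = (Hzn.mpoly d c).derivative.eval a₀ := by
    rw [← hqmap, ← hb₀, Polynomial.derivative_map, Polynomial.eval_map_apply]
  have h1' : q.eval b₀ ∈ maximalIdeal (G n) := by
    rw [← ofSeq_mem_maximalIdeal_iff G ι, e1]; exact h1
  have h2' : IsUnit (q.derivative.eval b₀) := by
    rw [← isUnit_ofSeq_iff G ι, e2]; exact h2
  obtain ⟨a, ha1, ha2⟩ := hroot n q hqm b₀ h1' h2'
  refine ⟨ofSeq G ι (n + 1) a, ?_, ?_⟩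
  · have h3 : Hzn.mpoly d c = (q.map (ι n)).map (ofSeq G ι (n + 1)) := by
      rw [Polynomial.map_map, ← hqmap]
      congr 1
      ext x
      exact (ofSeq_ι G ι n x).symm
    rw [h3, Polynomial.IsRoot, Polynomial.eval_map_apply, ha1.eq_zero, map_zero]
  · rw [← hb₀, ← ofSeq_ι G ι n b₀, ← map_sub, ofSeq_mem_maximalIdeal_iff]
    exact ha2

end Local

end Seq

section Tower

/-- bundled local rings -/
structure LocRing : Type (u + 1) where
  A : Type u
  [cr : CommRing A]
  [lr : IsLocalRing A]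

attribute [instance] LocRing.cr LocRing.lr

/-- the next stage -/
noncomputable def LocRing.next (s : LocRing.{u}) : LocRing.{u} := ⟨Next s.A⟩

/-- the map to the next stage -/
noncomputable def LocRing.ι (s : LocRing.{u}) : s.A →+* s.next.A := algebraMap s.A (Next s.A)

instance (s : LocRing.{u}) : IsLocalHom s.ι := isLocalHom_algebraMap_Next s.A

theorem LocRing.flat_ι (s : LocRing.{u}) : s.ι.Flat := by
  show RingHom.Flat (R := s.A) (S := Next s.A) (algebraMap s.A (Next s.A))
  exact RingHom.flat_algebraMap_iff.mpr (flat_Next s.A)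

variable (R : Type u) [CommRing R] [IsLocalRing R]

/-- the tower -/
noncomputable def tower : ℕ → LocRing.{u}
  | 0 => ⟨R⟩
  | n + 1 => (tower n).next

/-- the rings of the tower -/
abbrev TG (n : ℕ) : Type u := (tower R n).A

/-- the maps of the tower -/
noncomputable def tι (n : ℕ) : TG R n →+* TG R (n + 1) := (tower R n).ι

instance (n : ℕ) : IsLocalHom (tι R n) := inferInstanceAs (IsLocalHom (tower R n).ι)

/-- the colimit of the tower -/
abbrev TC : Type u := SeqColim (TG R) (tι R)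

/-- the structure map -/
noncomputable def toTC : R →+* TC R := ofSeq (TG R) (tι R) 0

instance : IsLocalHom (toTC R) := inferInstanceAs (IsLocalHom (ofSeq (TG R) (tι R) 0))

theorem flat_toTC : (toTC R).Flat :=
  flat_ofSeq_zero (TG R) (tι R) (fun n => (tower R n).flat_ι)

instance henselian_TC : HenselianLocalRing (TC R) := by
  apply henselian_seqColim
  intro n q hq a₀ h1 h2
  exact exists_root_Next (TG R n) q hq a₀ h1 h2

section TowerLift

variable {R} {T : Type u} [CommRing T] [HenselianLocalRing T] (g : R →+* T) (hg : IsLocalHom g)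

/-- the lifts to the stages of the tower -/
noncomputable def towerLift : ∀ n, {h : TG R n →+* T // IsLocalHom h}
  | 0 => ⟨g, hg⟩
  | n + 1 =>
    haveI := (towerLift n).2
    ⟨liftNext (towerLift n).1, isLocalHom_liftNext (towerLift n).1⟩

theorem towerLift_succ (n : ℕ) (x : TG R n) :
    (towerLift g hg (n + 1)).1 (tι R n x) = (towerLift g hg n).1 x := by
  have := (towerLift g hg n).2
  exact liftNext_algebraMap (towerLift g hg n).1 x

/-- the lift to the colimit of the tower -/
noncomputable def liftTC : TC R →+* T :=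
  liftSeq (fun n => (towerLift g hg n).1) (towerLift_succ g hg)

theorem liftTC_comp : (liftTC g hg).comp (toTC R) = g := by
  ext r
  exact liftSeq_ofSeq (fun n => (towerLift g hg n).1) (towerLift_succ g hg) 0 r

end TowerLift

end Tower

/-- Every local ring has a flat local homomorphism to a henselian local ring which maps to every
henselian local ring under it. -/
theorem exists_flat_henselian (R : Type u) [CommRing R] [IsLocalRing R] :
    ∃ (C : Type u) (_ : CommRing C) (_ : HenselianLocalRing C) (f : R →+* C),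
      IsLocalHom f ∧ f.Flat ∧
      ∀ (T : Type u) [CommRing T] [HenselianLocalRing T] (g : R →+* T) [IsLocalHom g],
        ∃ h : C →+* T, h.comp f = g :=
  ⟨TC R, inferInstance, henselian_TC R, toTC R, inferInstance, flat_toTC R,
    fun _ _ _ g hg => ⟨liftTC g hg, liftTC_comp g hg⟩⟩

end Groth.Agent.Helper1.HFlat
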