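import Groth.Agent.Lib.Helper1.HFlat3
import Groth.Prelude

/-!
# The henselization of a local ring is faithfully flat
-/

set_option autoImplicit false

namespace Groth.Agent.Helper1.HFlat

open Polynomial IsLocalRing

universe u

theorem faithfullyFlat_of_isHenselization (R : Type u) [CommRing R] [IsLocalRing R]
    (S : Type u) [CommRing S] [IsLocalRing S] [Algebra R S] [IsLocalHom (algebraMap R S)]
    [Hensel.IsHenselization R S] : Module.FaithfullyFlat R S := by
  obtain ⟨C, _, hC, f, hfloc, hfflat, hlift⟩ := exists_flat_henselian R
  have hS : HenselianLocalRing S := Hensel.IsHenselization.henselian (R := R)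
  obtain ⟨i, hi, -⟩ := Hensel.IsHenselization.universal (R := R) (S := S) C f hfloc
  obtain ⟨r, hr⟩ := hlift S (algebraMap R S)
  have hri : r.comp i = RingHom.id S := by
    obtain ⟨g, hg, huniq⟩ := Hensel.IsHenselization.universal (R := R) (S := S) S
      (algebraMap R S) inferInstance
    have h1 : r.comp i = g := huniq _ (by
      show (r.comp i).comp (algebraMap R S) = algebraMap R S
      rw [RingHom.comp_assoc, hi, hr])
    have h2 : RingHom.id S = g := huniq _ (by
      show (RingHom.id S).comp (algebraMap R S) = algebraMap R S
      rw [RingHom.id_comp])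
    rw [h1, h2]
  letI : Algebra R C := f.toAlgebra
  have hCflat : Module.Flat R C := hfflat
  have hfc : ∀ c : R, algebraMap R C c = f c := fun c => rfl
  let iL : S →ₗ[R] C :=
    { toFun := i
      map_add' := map_add i
      map_smul' := fun c x => by
        rw [Algebra.smul_def, map_mul, RingHom.id_apply, Algebra.smul_def, hfc, ← hi]
        rfl }
  let rL : C →ₗ[R] S :=
    { toFun := r
      map_add' := map_add r
      map_smul' := fun c x => by
        rw [Algebra.smul_def, map_mul, RingHom.id_apply, Algebra.smul_def, hfc, ← hr]
        rfl }
  have hflat : Module.Flat R S := Module.Flat.of_retract iL rL (by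
    ext x
    exact congrArg (fun φ => φ x) hri)
  exact Module.FaithfullyFlat.of_flat_of_isLocalHom

end Groth.Agent.Helper1.HFlat
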