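import Groth.Agent.Lib.Helper1.HFlat4
import Groth.Agent.Lib.Helper15.RingDimLocal

/-!
# The henselization has the same Krull dimension
-/

set_option autoImplicit false

namespace Groth.Agent.Helper1.HFlat

open Polynomial IsLocalRing

universe u

section Seq

variable (G : ℕ → Type u) [∀ n, CommRing (G n)] (ι : ∀ n, G n →+* G (n + 1))

theorem ringKrullDim_seqColim_le (d : WithBot ℕ∞) (h : ∀ n, ringKrullDim (G n) ≤ d) :
    ringKrullDim (SeqColim G ι) ≤ d := by
  show (⨆ p : LTSeries (PrimeSpectrum (SeqColim G ι)), (p.length : WithBot ℕ∞)) ≤ d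
  apply iSup_le
  intro s
  have hw : ∀ k : Fin s.length, ∃ x : SeqColim G ι,
      x ∈ (s k.succ).asIdeal ∧ x ∉ (s k.castSucc).asIdeal := by
    intro k
    have hlt : s k.castSucc < s k.succ := s.strictMono (Fin.castSucc_lt_succ)
    exact SetLike.exists_of_lt ((PrimeSpectrum.asIdeal_lt_asIdeal _ _).mpr hlt)
  choose x hx1 hx2 using hw
  obtain ⟨n, y, hy⟩ := exists_ofSeq_fin G ι x
  have hmono : StrictMono (fun k : Fin (s.length + 1) =>
      PrimeSpectrum.comap (ofSeq G ι n) (s k)) := by
    rw [Fin.strictMono_iff_lt_succ]
    intro k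
    rw [← PrimeSpectrum.asIdeal_lt_asIdeal]
    have hlt : s k.castSucc < s k.succ := s.strictMono (Fin.castSucc_lt_succ)
    have hle : (s k.castSucc).asIdeal ≤ (s k.succ).asIdeal :=
      ((PrimeSpectrum.asIdeal_lt_asIdeal _ _).mpr hlt).le
    refine lt_of_le_of_ne (Ideal.comap_mono hle) ?_
    intro heq
    have h1 : y k ∈ ((s k.succ).asIdeal).comap (ofSeq G ι n) := by
      rw [Ideal.mem_comap, hy]; exact hx1 k
    have h2 : y k ∉ ((s k.castSucc).asIdeal).comap (ofSeq G ι n) := by
      rw [Ideal.mem_comap, hy]; exact hx2 k
    apply h2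
    have heq' : ((s k.castSucc).asIdeal).comap (ofSeq G ι n) =
        ((s k.succ).asIdeal).comap (ofSeq G ι n) := heq
    rw [heq']
    exact h1
  have h3 := Order.LTSeries.length_le_krullDim (LTSeries.mk s.length _ hmono)
  exact h3.trans (h n)

end Seq

section Tower

variable (R : Type u) [CommRing R] [IsLocalRing R]

theorem ringKrullDim_TG_le (n : ℕ) : ringKrullDim (TG R n) ≤ ringKrullDim R := by
  induction n with
  | zero => exact le_rfl
  | succ n ih => exact (ringKrullDim_Next_le (TG R n)).trans ih

theorem ringKrullDim_TC_le : ringKrullDim (TC R) ≤ ringKrullDim R :=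
  ringKrullDim_seqColim_le _ _ _ (ringKrullDim_TG_le R)

end Tower

theorem ringKrullDim_eq_of_isHenselization (R : Type u) [CommRing R] [IsLocalRing R]
    (S : Type u) [CommRing S] [IsLocalRing S] [Algebra R S] [IsLocalHom (algebraMap R S)]
    [Hensel.IsHenselization R S] : ringKrullDim S = ringKrullDim R := by
  have hff : Module.FaithfullyFlat R S := faithfullyFlat_of_isHenselization R S
  apply le_antisymm
  · have hS : HenselianLocalRing S := Hensel.IsHenselization.henselian (R := R)
    obtain ⟨i, hi, -⟩ := Hensel.IsHenselization.universal (R := R) (S := S) (TC R) (toTC R)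
      inferInstance
    have hr := liftTC_comp (algebraMap R S) inferInstance
    have hri : (liftTC (algebraMap R S) inferInstance).comp i = RingHom.id S := by
      obtain ⟨g, hg, huniq⟩ := Hensel.IsHenselization.universal (R := R) (S := S) S
        (algebraMap R S) inferInstance
      have h1 : (liftTC (algebraMap R S) inferInstance).comp i = g := huniq _ (by
        show ((liftTC (algebraMap R S) inferInstance).comp i).comp (algebraMap R S) =
          algebraMap R S
        rw [RingHom.comp_assoc, hi, hr])
      have h2 : RingHom.id S = g := huniq _ (by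
        show (RingHom.id S).comp (algebraMap R S) = algebraMap R S
        rw [RingHom.id_comp])
      rw [h1, h2]
    have hsurj : Function.Surjective (liftTC (algebraMap R S) inferInstance) := by
      intro s
      exact ⟨i s, congrArg (fun φ => φ s) hri⟩
    exact (ringKrullDim_le_of_surjective _ hsurj).trans (ringKrullDim_TC_le R)
  · exact Groth.Agent.Helper15.ringKrullDim_le_of_flat_of_isLocalHom R S

end Groth.Agent.Helper1.HFlat
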