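import Groth.Agent.Lib.Helper1.HFlat5
import Groth.Agent.Lib.Helper1.HznUniv

/-!
# Homomorphisms exhibiting a henselization, and one-step extensions
-/

set_option autoImplicit false

namespace Groth.Agent.Helper1.HFlat

open Polynomial IsLocalRing

universe u

/-- `φ` exhibits the henselian local ring `S` as a henselization of `E` -/
structure IsHensHom {E S : Type u} [CommRing E] [IsLocalRing E] [CommRing S]
    [HenselianLocalRing S] (φ : E →+* S) : Prop where
  isLocalHom : IsLocalHom φ
  universal : ∀ (T : Type u) [CommRing T] [HenselianLocalRing T] (f : E →+* T),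
    IsLocalHom f → ∃! g : S →+* T, g.comp φ = f

theorem IsHensHom.of_isHenselization (R S : Type u) [CommRing R] [IsLocalRing R] [CommRing S]
    [HenselianLocalRing S] [Algebra R S] [IsLocalHom (algebraMap R S)]
    [Hensel.IsHenselization R S] : IsHensHom (algebraMap R S) :=
  ⟨inferInstance, Hensel.IsHenselization.universal⟩

section Basic

variable {E S : Type u} [CommRing E] [IsLocalRing E] [CommRing S] [HenselianLocalRing S]
  {φ : E →+* S} (h : IsHensHom φ)

include h

theorem IsHensHom.faithfullyFlat : letI := φ.toAlgebra; Module.FaithfullyFlat E S := by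
  letI := φ.toAlgebra
  haveI : IsLocalHom (algebraMap E S) := h.isLocalHom
  haveI : Hensel.IsHenselization E S := ⟨inferInstance, h.universal⟩
  exact faithfullyFlat_of_isHenselization E S

theorem IsHensHom.comap_map (I : Ideal E) : (I.map φ).comap φ = I := by
  letI := φ.toAlgebra
  haveI := h.faithfullyFlat
  exact Ideal.comap_map_eq_self_of_faithfullyFlat I

theorem IsHensHom.injective : Function.Injective φ := by
  rw [injective_iff_map_eq_zero]
  intro x hx
  have h1 : x ∈ ((⊥ : Ideal E).map φ).comap φ := by
    rw [Ideal.mem_comap, hx]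
    exact Ideal.zero_mem _
  rw [h.comap_map] at h1
  exact (Ideal.mem_bot).mp h1

theorem IsHensHom.map_maximalIdeal : (maximalIdeal E).map φ = maximalIdeal S := by
  letI := φ.toAlgebra
  haveI : IsLocalHom (algebraMap E S) := h.isLocalHom
  haveI : Hensel.IsHenselization E S := ⟨inferInstance, h.universal⟩
  exact Hzn.map_maximalIdeal_eq_of_isHenselization E S

theorem IsHensHom.isLocalHom_of_comp {T : Type u} [CommRing T] [IsLocalRing T] (g : S →+* T)
    (hg : IsLocalHom (g.comp φ)) : IsLocalHom g := by
  constructor
  intro s hs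
  by_contra hsu
  have h1 : s ∈ maximalIdeal S := (IsLocalRing.mem_maximalIdeal s).mpr hsu
  rw [← h.map_maximalIdeal] at h1
  have h2 : g s ∈ ((maximalIdeal E).map φ).map g := Ideal.mem_map_of_mem g h1
  rw [Ideal.map_map] at h2
  have h3 : (maximalIdeal E).map (g.comp φ) ≤ maximalIdeal T := by
    rw [Ideal.map_le_iff_le_comap]
    intro x hx
    rw [Ideal.mem_comap]
    rw [IsLocalRing.mem_maximalIdeal] at hx ⊢
    exact (map_mem_nonunits_iff (g.comp φ) x).mpr hx
  exact (IsLocalRing.mem_maximalIdeal _).mp (h3 h2) hs

end Basic

theorem IsHensHom.step {E S : Type u} [CommRing E] [IsLocalRing E] [CommRing S]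
    [HenselianLocalRing S] {φ : E →+* S} [IsLocalHom φ] (h : IsHensHom φ) {Λ : Type u}
    (d : Λ → HData E) : IsHensHom (E := DNext d) (liftDNext d φ) := by
  refine ⟨inferInstance, ?_⟩
  intro T _ _ f hf
  have hf0 : IsLocalHom (f.comp (algebraMap E (DNext d))) := RingHom.isLocalHom_comp f _
  obtain ⟨g, hg, huniq⟩ := h.universal T (f.comp (algebraMap E (DNext d))) hf0
  have hg' : g.comp φ = f.comp (algebraMap E (DNext d)) := hg
  have hgloc : IsLocalHom g := h.isLocalHom_of_comp g (by rw [hg']; exact hf0)
  have hcomp : (liftDNext d φ).comp (algebraMap E (DNext d)) = φ := by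
    ext b
    exact liftDNext_algebraMap d φ b
  refine ⟨g, ?_, ?_⟩
  · show g.comp (liftDNext d φ) = f
    apply IsLocalization.ringHom_ext (RingHom.ker (dφ d)).primeCompl
    apply Q_ringHom_ext
    · intro b
      simp only [RingHom.comp_apply]
      rw [← IsScalarTower.algebraMap_apply E (Q (dpoly d)) (DNext d), liftDNext_algebraMap]
      exact RingHom.congr_fun hg' b
    · intro l
      simp only [RingHom.comp_apply]
      show g (liftDNext d φ (droot d l)) = f (droot d l)
      rw [liftDNext_droot]
      obtain ⟨m1, m2, m3⟩ := hdata_map d (f.comp (algebraMap E (DNext d))) l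
      apply Hzn.root_unique m3
      · have h1 := (hβ_spec d φ l).1
        have h2 := h1.map (f := g)
        rwa [Polynomial.map_map, hg'] at h2
      · have h1 := (hβ_spec d φ l).2
        have h2 := map_mem_maximalIdeal g h1
        rw [map_sub] at h2
        have h3 : g (φ (dapx d l)) = (f.comp (algebraMap E (DNext d))) (dapx d l) :=
          RingHom.congr_fun hg' _
        rwa [h3] at h2
      · have h1 := (droot_isRoot d l).map (f := f)
        rwa [Polynomial.map_map] at h1
      · have h1 := map_mem_maximalIdeal f (droot_sub_mem d l)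
        rwa [map_sub] at h1
  · intro g' hg''
    apply huniq
    show g'.comp φ = f.comp (algebraMap E (DNext d))
    have hg3 : g'.comp (liftDNext d φ) = f := hg''
    rw [← hcomp, ← RingHom.comp_assoc, hg3]

end Groth.Agent.Helper1.HFlat
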