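import Groth.Agent.Lib.Helper1.HFlat6

/-!
# The henselization is a directed union of finite towers of single-root extensions
-/

set_option autoImplicit false

namespace Groth.Agent.Helper1.HFlat

open Polynomial IsLocalRing

universe u

/-- single-root extension -/
abbrev Ext1 {B : Type u} [CommRing B] [IsLocalRing B] (δ : HData B) : Type u :=
  DNext (fun _ : PUnit.{u + 1} => δ)

section Good

variable {R S : Type u} [CommRing R] [IsLocalRing R] [CommRing S] [HenselianLocalRing S]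
  (ψ : R →+* S)

/-- finite towers of single-root extensions mapping to `S` -/
inductive GoodMap : (E : LocRing.{u}) → (E.A →+* S) → Prop
  | base : GoodMap ⟨R⟩ ψ
  | step (E : LocRing.{u}) (φ : E.A →+* S) [IsLocalHom φ] (δ : HData E.A) (h : GoodMap E φ) :
      GoodMap ⟨Ext1 δ⟩ (liftDNext (fun _ : PUnit.{u + 1} => δ) φ)

variable {ψ}

theorem GoodMap.isLocalHom [hψ : IsLocalHom ψ] {E : LocRing.{u}} {φ : E.A →+* S}
    (hg : GoodMap ψ E φ) : IsLocalHom φ := by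
  induction hg with
  | base => exact hψ
  | step E φ δ h ih => exact isLocalHom_liftDNext _ φ

theorem GoodMap.isHensHom [IsLocalHom ψ] (hψ : IsHensHom ψ) {E : LocRing.{u}} {φ : E.A →+* S}
    (hg : GoodMap ψ E φ) : IsHensHom φ := by
  induction hg with
  | base => exact hψ
  | step E φ δ h ih => exact ih.step _

theorem GoodMap.noetherian [IsNoetherianRing R] {E : LocRing.{u}} {φ : E.A →+* S}
    (hg : GoodMap ψ E φ) : IsNoetherianRing E.A := by
  induction hg with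
  | base => exact ‹IsNoetherianRing R›
  | step E φ δ h ih =>
    haveI := ih
    exact isNoetherianRing_Loc _ _

theorem range_le_range_liftDNext {E : Type u} [CommRing E] [IsLocalRing E] {Λ : Type u}
    (d : Λ → HData E) (φ : E →+* S) [IsLocalHom φ] :
    φ.range ≤ RingHom.range (R := DNext d) (liftDNext d φ) := by
  rintro _ ⟨e, rfl⟩
  exact ⟨algebraMap E (DNext d) e, liftDNext_algebraMap d φ e⟩

theorem GoodMap.range_le {E : LocRing.{u}} {φ : E.A →+* S} (hg : GoodMap ψ E φ) :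
    ψ.range ≤ φ.range := by
  induction hg with
  | base => exact le_rfl
  | step E φ δ h ih => exact ih.trans (range_le_range_liftDNext _ φ)

theorem mem_maximalIdeal_of_map_mem {E : Type u} [CommRing E] [IsLocalRing E] (φ : E →+* S)
    {x : E} (h : φ x ∈ maximalIdeal S) : x ∈ maximalIdeal E := by
  rw [IsLocalRing.mem_maximalIdeal, mem_nonunits_iff] at h ⊢
  exact fun hx => h (hx.map φ)

theorem exists_hdata_lift {E E' : Type u} [CommRing E] [IsLocalRing E] [CommRing E']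
    [IsLocalRing E'] (φ : E →+* S) [IsLocalHom φ] (φ' : E' →+* S) [IsLocalHom φ']
    (hle : φ.range ≤ φ'.range) (δ : HData E) :
    ∃ δ' : HData E', δ'.1.1.map φ' = δ.1.1.map φ ∧ φ' δ'.1.2 = φ δ.1.2 := by
  obtain ⟨n, c, hcq⟩ := Hzn.exists_eq_mpoly δ.2.1
  have hc : ∀ j, ∃ c' : E', φ' c' = φ (c j) := fun j => hle ⟨c j, rfl⟩
  choose c' hc' using hc
  obtain ⟨a', ha'⟩ : ∃ a' : E', φ' a' = φ δ.1.2 := hle ⟨δ.1.2, rfl⟩
  have hmap : (Hzn.mpoly n c').map φ' = δ.1.1.map φ := by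
    rw [hcq, Hzn.mpoly_map, Hzn.mpoly_map]
    congr 1
    funext j
    exact hc' j
  refine ⟨⟨(Hzn.mpoly n c', a'), Hzn.mpoly_monic n c', ?_, ?_⟩, hmap, ha'⟩
  · apply mem_maximalIdeal_of_map_mem φ'
    rw [Hzn.map_eval', hmap, ha', ← Hzn.map_eval']
    exact map_mem_maximalIdeal φ δ.2.2.1
  · rw [← isUnit_map_iff φ', Hzn.map_derivative_eval', hmap, ha', ← Hzn.map_derivative_eval']
    exact δ.2.2.2.map φ

theorem range_liftDNext_le {E : Type u} [CommRing E] [IsLocalRing E] (φ : E →+* S)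
    [IsLocalHom φ] {Λ : Type u} (d : Λ → HData E) {E' : Type u} [CommRing E'] [IsLocalRing E']
    (φ' : E' →+* S) [IsLocalHom φ'] (h1 : φ.range ≤ φ'.range)
    (h2 : ∀ l, hβ d φ l ∈ φ'.range) :
    RingHom.range (R := DNext d) (liftDNext d φ) ≤ φ'.range := by
  have hQ : ∀ a : Q (dpoly d), liftQ (dpoly d) φ (hβ d φ) (hβ_eval₂ d φ) a ∈ φ'.range := by
    intro a
    obtain ⟨P, rfl⟩ := Ideal.Quotient.mk_surjective a
    induction P using MvPolynomial.induction_on with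
    | C b =>
      have : liftQ (dpoly d) φ (hβ d φ) (hβ_eval₂ d φ)
          (Ideal.Quotient.mk _ (MvPolynomial.C b)) = φ b := liftQ_algebraMap _ b
      rw [this]
      exact h1 ⟨b, rfl⟩
    | add f g hf hg =>
      rw [map_add, map_add]
      exact Subring.add_mem _ hf hg
    | mul_X f l hf =>
      rw [map_mul, map_mul]
      refine Subring.mul_mem _ hf ?_
      have : liftQ (dpoly d) φ (hβ d φ) (hβ_eval₂ d φ)
          (Ideal.Quotient.mk _ (MvPolynomial.X l)) = hβ d φ l := liftQ_qX _ l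
      rw [this]
      exact h2 l
  rintro _ ⟨x, rfl⟩
  obtain ⟨a, s, rfl⟩ := IsLocalization.exists_mk'_eq (RingHom.ker (dφ d)).primeCompl x
  have e1 := IsLocalization.mk'_spec (DNext d) a s
  have e2 := congrArg (liftDNext d φ) e1
  rw [map_mul] at e2
  have e3 : liftDNext d φ (algebraMap (Q (dpoly d)) (DNext d) a) =
      liftQ (dpoly d) φ (hβ d φ) (hβ_eval₂ d φ) a := by
    rw [liftDNext, liftLoc, IsLocalization.lift_eq]
  have e4 : liftDNext d φ (algebraMap (Q (dpoly d)) (DNext d) (s : Q (dpoly d))) =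
      liftQ (dpoly d) φ (hβ d φ) (hβ_eval₂ d φ) s := by
    rw [liftDNext, liftLoc, IsLocalization.lift_eq]
  rw [e3, e4] at e2
  obtain ⟨ea, hea⟩ := hQ a
  obtain ⟨es, hes⟩ := hQ s
  have hsu : IsUnit (liftQ (dpoly d) φ (hβ d φ) (hβ_eval₂ d φ) s) :=
    isUnit_liftQ (dpoly d) (dφ d) (hβ_eval₂ d φ) (hker_DNext d φ) s
  rw [← hes] at hsu
  have hesu : IsUnit es := (isUnit_map_iff φ' es).mp hsu
  obtain ⟨u, hu⟩ := hesu.exists_right_inv
  refine ⟨ea * u, ?_⟩
  rw [map_mul, hea, ← e2, ← hes, mul_assoc, ← map_mul, hu, map_one, mul_one]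

theorem hβ_single {E : Type u} [CommRing E] [IsLocalRing E] (φ : E →+* S) [IsLocalHom φ]
    (δ : HData E) (l : PUnit.{u + 1}) :
    hβ (fun _ : PUnit.{u + 1} => δ) φ l = Hzn.hroot (δ.1.1.map φ) (φ δ.1.2) := rfl

variable [IsLocalHom ψ]

theorem GoodMap.directed {E1 : LocRing.{u}} {φ1 : E1.A →+* S} {E2 : LocRing.{u}}
    {φ2 : E2.A →+* S} (h1 : GoodMap ψ E1 φ1) (h2 : GoodMap ψ E2 φ2) :
    ∃ (E3 : LocRing.{u}) (φ3 : E3.A →+* S), GoodMap ψ E3 φ3 ∧ φ1.range ≤ φ3.range ∧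
      φ2.range ≤ φ3.range := by
  induction h2 with
  | base => exact ⟨E1, φ1, h1, le_rfl, h1.range_le⟩
  | step E φ δ h ih =>
    obtain ⟨E3, φ3, g3, l1, l2⟩ := ih
    haveI : IsLocalHom φ3 := g3.isLocalHom
    obtain ⟨δ', e1, e2⟩ := exists_hdata_lift φ φ3 l2 δ
    refine ⟨⟨Ext1 δ'⟩, liftDNext (fun _ : PUnit.{u + 1} => δ') φ3, GoodMap.step E3 φ3 δ' g3,
      l1.trans (range_le_range_liftDNext _ φ3), ?_⟩
    apply range_liftDNext_le φ _ _ (l2.trans (range_le_range_liftDNext _ φ3))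
    intro l
    refine ⟨droot (fun _ : PUnit.{u + 1} => δ') l, ?_⟩
    rw [liftDNext_droot, hβ_single, hβ_single, e1, e2]

theorem GoodMap.exists_common : ∀ (m : ℕ) (x : Fin m → S),
    (∀ j, ∃ (E : LocRing.{u}) (φ : E.A →+* S), GoodMap ψ E φ ∧ x j ∈ φ.range) →
    ∃ (E : LocRing.{u}) (φ : E.A →+* S), GoodMap ψ E φ ∧ ∀ j, x j ∈ φ.range
  | 0, _, _ => ⟨⟨R⟩, ψ, GoodMap.base, fun j => j.elim0⟩
  | m + 1, x, hx => by
    obtain ⟨E1, φ1, g1, h1⟩ := GoodMap.exists_common m (fun j => x j.succ) (fun j => hx j.succ)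
    obtain ⟨E2, φ2, g2, h2⟩ := hx 0
    obtain ⟨E3, φ3, g3, l1, l2⟩ := g1.directed g2
    refine ⟨E3, φ3, g3, fun j => ?_⟩
    refine Fin.cases ?_ (fun j => ?_) j
    · exact l2 h2
    · exact l1 (h1 j)

theorem exists_good_of_term (t : Hzn.HTerm R) (ht : Hzn.WF ψ t) :
    ∃ (E : LocRing.{u}) (φ : E.A →+* S), GoodMap ψ E φ ∧ Hzn.eval ψ t ∈ φ.range := by
  induction t with
  | of r => exact ⟨⟨R⟩, ψ, GoodMap.base, ⟨r, rfl⟩⟩
  | add s t ihs iht =>
    obtain ⟨E1, φ1, g1, m1⟩ := ihs ((Hzn.WF_add ψ).mp ht).1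
    obtain ⟨E2, φ2, g2, m2⟩ := iht ((Hzn.WF_add ψ).mp ht).2
    obtain ⟨E3, φ3, g3, l1, l2⟩ := g1.directed g2
    exact ⟨E3, φ3, g3, Subring.add_mem _ (l1 m1) (l2 m2)⟩
  | mul s t ihs iht =>
    obtain ⟨E1, φ1, g1, m1⟩ := ihs ((Hzn.WF_mul ψ).mp ht).1
    obtain ⟨E2, φ2, g2, m2⟩ := iht ((Hzn.WF_mul ψ).mp ht).2
    obtain ⟨E3, φ3, g3, l1, l2⟩ := g1.directed g2
    exact ⟨E3, φ3, g3, Subring.mul_mem _ (l1 m1) (l2 m2)⟩
  | neg s ih =>
    obtain ⟨E1, φ1, g1, m1⟩ := ih ((Hzn.WF_neg ψ).mp ht)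
    exact ⟨E1, φ1, g1, Subring.neg_mem _ m1⟩
  | inv s ih =>
    obtain ⟨hs, hu⟩ := (Hzn.WF_inv ψ).mp ht
    obtain ⟨E1, φ1, g1, ⟨e, he⟩⟩ := ih hs
    haveI : IsLocalHom φ1 := g1.isLocalHom
    have heu : IsUnit e := by
      rw [← isUnit_map_iff φ1, he]
      exact hu
    refine ⟨E1, φ1, g1, ⟨Ring.inverse e, ?_⟩⟩
    rw [Hzn.eval_inv, ← he, Hzn.map_inverse φ1 heu]
  | root n c a ihc iha =>
    obtain ⟨hc, ha, hm, hu⟩ := (Hzn.WF_root ψ).mp ht
    obtain ⟨E, φ, g, hall⟩ := GoodMap.exists_common (ψ := ψ) (n + 1)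
      (Fin.cons (Hzn.eval ψ a) (fun j => Hzn.eval ψ (c j)))
      (fun j => by
        refine Fin.cases ?_ (fun j => ?_) j
        · rw [Fin.cons_zero]; exact iha ha
        · rw [Fin.cons_succ]; exact ihc j (hc j))
    haveI : IsLocalHom φ := g.isLocalHom
    obtain ⟨a', ha'⟩ : ∃ a' : E.A, φ a' = Hzn.eval ψ a := by
      have := hall 0
      rwa [Fin.cons_zero] at this
    have hc'ex : ∀ j : Fin n, ∃ c' : E.A, φ c' = Hzn.eval ψ (c j) := by
      intro j
      have := hall j.succ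
      rwa [Fin.cons_succ] at this
    choose c' hc' using hc'ex
    have hmap : (Hzn.mpoly n c').map φ = Hzn.mpoly n (fun i => Hzn.eval ψ (c i)) := by
      rw [Hzn.mpoly_map]
      congr 1
      funext j
      exact hc' j
    have hδ1 : (Hzn.mpoly n c').eval a' ∈ maximalIdeal E.A := by
      apply mem_maximalIdeal_of_map_mem φ
      rw [Hzn.map_eval', hmap, ha']
      exact hm
    have hδ2 : IsUnit ((Hzn.mpoly n c').derivative.eval a') := by
      rw [← isUnit_map_iff φ, Hzn.map_derivative_eval', hmap, ha']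
      exact hu
    let δ : HData E.A := ⟨(Hzn.mpoly n c', a'), Hzn.mpoly_monic n c', hδ1, hδ2⟩
    refine ⟨⟨Ext1 δ⟩, liftDNext (fun _ : PUnit.{u + 1} => δ) φ, GoodMap.step E φ δ g,
      ⟨droot (fun _ : PUnit.{u + 1} => δ) PUnit.unit, ?_⟩⟩
    rw [liftDNext_droot, hβ_single, Hzn.eval_root]
    show Hzn.hroot ((Hzn.mpoly n c').map φ) (φ a') = _
    rw [hmap, ha']

theorem exists_term_of_isHensHom (hψ : IsHensHom ψ) (s : S) :
    ∃ t : Hzn.HTerm R, Hzn.WF ψ t ∧ Hzn.eval ψ t = s := by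
  let i : Hzn.Idx R := ⟨S, ψ⟩
  have hloc : IsLocalHom (Hzn.ofHom R) :=
    (inferInstance : IsLocalHom (algebraMap R (Hzn.S R)))
  obtain ⟨h', hh', -⟩ := hψ.universal (Hzn.S R) (Hzn.ofHom R) hloc
  have hh'' : h'.comp ψ = Hzn.ofHom R := hh'
  have hid : (Hzn.proj R i).comp h' = RingHom.id S := by
    obtain ⟨k, -, hk⟩ := hψ.universal S ψ inferInstance
    have e1 : ((Hzn.proj R i).comp h').comp ψ = ψ := by
      rw [RingHom.comp_assoc, hh'']
      ext r
      exact Hzn.proj_ofHom R i r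
    have e2 : (RingHom.id S).comp ψ = ψ := RingHom.id_comp _
    rw [hk _ e1, hk _ e2]
  obtain ⟨t, ht, hts⟩ := Hzn.exists_mk R (h' s)
  refine ⟨t, ht i, ?_⟩
  have h1 := Hzn.proj_mk R i t ht
  rw [hts] at h1
  have h2 : Hzn.proj R i (h' s) = s := RingHom.congr_fun hid s
  rw [← h2, h1]

/-- every element of the henselization lies in the image of a finite tower -/
theorem exists_good (hψ : IsHensHom ψ) (s : S) :
    ∃ (E : LocRing.{u}) (φ : E.A →+* S), GoodMap ψ E φ ∧ s ∈ φ.range := by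
  obtain ⟨t, ht, rfl⟩ := exists_term_of_isHensHom hψ s
  exact exists_good_of_term t ht

theorem exists_good_fin (hψ : IsHensHom ψ) {m : ℕ} (x : Fin m → S) :
    ∃ (E : LocRing.{u}) (φ : E.A →+* S), GoodMap ψ E φ ∧ ∀ j, x j ∈ φ.range :=
  GoodMap.exists_common m x (fun j => exists_good hψ (x j))

end Good

end Groth.Agent.Helper1.HFlat
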