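import Groth.Agent.Lib.Helper1.HFlat7
import Groth.Agent.Lib.Helper1.AdicNoeth

/-!
# The henselization of a Noetherian local ring is Noetherian
-/

set_option autoImplicit false

namespace Groth.Agent.Helper1.HFlat

open Polynomial IsLocalRing

universe u

/-- in a Noetherian local ring every ideal is closed -/
theorem mem_of_forall_mem_sup_pow {E : Type u} [CommRing E] [IsLocalRing E] [IsNoetherianRing E]
    (J : Ideal E) (x : E) (hx : ∀ n, x ∈ J ⊔ maximalIdeal E ^ n) : x ∈ J := by
  have h := Ideal.iInf_pow_smul_eq_bot_of_isLocalRing (M := E ⧸ J) (maximalIdeal E)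
    (IsLocalRing.maximalIdeal.isMaximal E).ne_top
  have h1 : (Ideal.Quotient.mk J x : E ⧸ J) ∈
      (⨅ i, maximalIdeal E ^ i • (⊤ : Submodule E (E ⧸ J))) := by
    rw [Submodule.mem_iInf]
    intro n
    obtain ⟨j, hj, z, hz, hjz⟩ := Submodule.mem_sup.mp (hx n)
    have h2 : (Ideal.Quotient.mk J x : E ⧸ J) = z • (1 : E ⧸ J) := by
      rw [← hjz, map_add, Ideal.Quotient.eq_zero_iff_mem.mpr hj, zero_add, Algebra.smul_def,
        mul_one]
      rfl
    rw [h2]
    exact Submodule.smul_mem_smul hz Submodule.mem_top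
  rw [h] at h1
  exact Ideal.Quotient.eq_zero_iff_mem.mp ((Submodule.mem_bot _).mp h1)

section Noeth

variable {R S : Type u} [CommRing R] [IsLocalRing R] [CommRing S] [HenselianLocalRing S]
  {ψ : R →+* S} [IsLocalHom ψ]

theorem mem_span_of_forall_mem_sup_pow [IsNoetherianRing R] (hψ : IsHensHom ψ) (F : Finset S)
    (x : S) (hx : ∀ n, x ∈ Ideal.span (F : Set S) ⊔ maximalIdeal S ^ n) :
    x ∈ Ideal.span (F : Set S) := by
  classical
  obtain ⟨E, φ, g, hall⟩ := exists_good_fin hψ
    (Fin.cons x (fun j : Fin F.card => ((F.equivFin.symm j : F) : S)) : Fin (F.card + 1) → S)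
  haveI : IsNoetherianRing E.A := g.noetherian
  have hH : IsHensHom φ := g.isHensHom hψ
  haveI : IsLocalHom φ := g.isLocalHom
  obtain ⟨xE, hxE⟩ : ∃ xE : E.A, φ xE = x := by
    have := hall 0
    rwa [Fin.cons_zero] at this
  have hF : ∀ f ∈ F, ∃ e : E.A, φ e = f := by
    intro f hf
    have := hall (F.equivFin ⟨f, hf⟩).succ
    rw [Fin.cons_succ, Equiv.symm_apply_apply] at this
    exact this
  obtain ⟨JE, hJE⟩ : ∃ JE : Ideal E.A, JE = (Ideal.span (F : Set S)).comap φ := ⟨_, rfl⟩
  have h1 : Ideal.span (F : Set S) ≤ JE.map φ := by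
    rw [Ideal.span_le]
    intro f hf
    obtain ⟨e, he⟩ := hF f hf
    have heJ : e ∈ JE := by
      rw [hJE, Ideal.mem_comap, he]
      exact Ideal.subset_span hf
    rw [← he]
    exact Ideal.mem_map_of_mem φ heJ
  have h2 : ∀ n, xE ∈ JE ⊔ maximalIdeal E.A ^ n := by
    intro n
    have h3 : Ideal.span (F : Set S) ⊔ maximalIdeal S ^ n ≤
        (JE ⊔ maximalIdeal E.A ^ n).map φ := by
      rw [Ideal.map_sup, Ideal.map_pow, hH.map_maximalIdeal]
      exact sup_le_sup_right h1 _
    have h4 : φ xE ∈ (JE ⊔ maximalIdeal E.A ^ n).map φ := by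
      rw [hxE]
      exact h3 (hx n)
    have h5 : xE ∈ ((JE ⊔ maximalIdeal E.A ^ n).map φ).comap φ := h4
    rwa [hH.comap_map] at h5
  have h6 : xE ∈ JE := mem_of_forall_mem_sup_pow JE xE h2
  rw [hJE, Ideal.mem_comap, hxE] at h6
  exact h6

theorem isNoetherianRing_of_isHensHom [IsNoetherianRing R] (hψ : IsHensHom ψ) :
    IsNoetherianRing S := by
  classical
  have hfg : (maximalIdeal S).FG := by
    rw [← hψ.map_maximalIdeal]
    exact Ideal.FG.map (IsNoetherian.noetherian _) ψ
  haveI : IsNoetherianRing (S ⧸ maximalIdeal S) :=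
    inferInstanceAs (IsNoetherianRing (ResidueField S))
  have hN : IsNoetherianRing (AdicCompletion (maximalIdeal S) S) :=
    isNoetherianRing_adicCompletion_of_fg S (maximalIdeal S) hfg
  rw [isNoetherianRing_iff_ideal_fg]
  intro J
  have h1 : (Ideal.span (algebraMap S (AdicCompletion (maximalIdeal S) S) '' (J : Set S))).FG :=
    IsNoetherian.noetherian _
  obtain ⟨t, ht1, ht2⟩ := (Submodule.fg_span_iff_fg_span_finset_subset _).mp h1
  obtain ⟨F, hF1, hF2⟩ := Finset.subset_set_image_iff.mp ht1
  have hJF : J = Ideal.span (F : Set S) := by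
    apply le_antisymm
    · intro x hxJ
      apply mem_span_of_forall_mem_sup_pow hψ F x
      intro n
      have h3 : algebraMap S (AdicCompletion (maximalIdeal S) S) x ∈
          (Ideal.span (F : Set S)).map (algebraMap S (AdicCompletion (maximalIdeal S) S)) := by
        rw [Ideal.map_span, ← Finset.coe_image, hF2]
        have h4 : algebraMap S (AdicCompletion (maximalIdeal S) S) x ∈
            Ideal.span (algebraMap S (AdicCompletion (maximalIdeal S) S) '' (J : Set S)) :=
          Ideal.subset_span ⟨x, hxJ, rfl⟩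
        have ht2' : Ideal.span (algebraMap S (AdicCompletion (maximalIdeal S) S) '' (J : Set S)) =
            Ideal.span (t : Set (AdicCompletion (maximalIdeal S) S)) := ht2
        rw [ht2'] at h4
        exact h4
      have h5 := Ideal.mem_map_of_mem
        (AdicCompletion.evalₐ (maximalIdeal S) n).toRingHom h3
      rw [Ideal.map_map] at h5
      have h6 : (AdicCompletion.evalₐ (maximalIdeal S) n).toRingHom.comp
          (algebraMap S (AdicCompletion (maximalIdeal S) S)) =
          Ideal.Quotient.mk (maximalIdeal S ^ n) := by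
        ext y
        exact (AdicCompletion.evalₐ (maximalIdeal S) n).commutes y
      rw [h6] at h5
      have h7 : (AdicCompletion.evalₐ (maximalIdeal S) n).toRingHom
          (algebraMap S (AdicCompletion (maximalIdeal S) S) x) =
          Ideal.Quotient.mk (maximalIdeal S ^ n) x :=
        (AdicCompletion.evalₐ (maximalIdeal S) n).commutes x
      rw [h7] at h5
      exact Ideal.mem_quotient_iff_mem_sup.mp h5
    · rw [Ideal.span_le]
      exact hF1
  rw [hJF]
  exact ⟨F, rfl⟩

end Noeth

theorem isNoetherianRing_iff_of_isHenselization (R : Type u) [CommRing R] [IsLocalRing R]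
    (S : Type u) [CommRing S] [IsLocalRing S] [Algebra R S] [IsLocalHom (algebraMap R S)]
    [Hensel.IsHenselization R S] : IsNoetherianRing R ↔ IsNoetherianRing S := by
  haveI hS : HenselianLocalRing S := Hensel.IsHenselization.henselian (R := R)
  constructor
  · intro hR
    exact isNoetherianRing_of_isHensHom (IsHensHom.of_isHenselization R S)
  · intro hSN
    have hff := faithfullyFlat_of_isHenselization R S
    rw [isNoetherianRing_iff, isNoetherian_iff'] at hSN ⊢
    let f : Ideal R ↪o Ideal S :=
      OrderEmbedding.ofMapLEIff (fun I => I.map (algebraMap R S)) (by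
        intro I J
        constructor
        · intro h
          have := Ideal.comap_mono (f := algebraMap R S) h
          rwa [Ideal.comap_map_eq_self_of_faithfullyFlat,
            Ideal.comap_map_eq_self_of_faithfullyFlat] at this
        · exact fun h => Ideal.map_mono h)
    exact f.wellFoundedGT

end Groth.Agent.Helper1.HFlat
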