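import Mathlib.RingTheory.Henselian
import Mathlib.LinearAlgebra.Matrix.Charpoly.LinearMap
import Mathlib.RingTheory.Flat.EquationalCriterion
import Mathlib.RingTheory.Unramified.Finite
import Mathlib.RingTheory.Jacobson.Ideal
import Mathlib.RingTheory.AdjoinRoot
import Mathlib.RingTheory.Ideal.GoingUp

set_option autoImplicit false

/-! # Basic lemmas for henselian pairs -/

namespace Groth.Agent.Helper1

open Polynomial TensorProduct

/-- Gabber's criterion: `I` is contained in the Jacobson radical and every polynomial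
`Tⁿ(T-1) + p` with `p` of degree at most `n` and coefficients in `I` has a root congruent to `1`
modulo `I`. -/
def GabberProp (A : Type*) [CommRing A] (I : Ideal A) : Prop :=
  I ≤ Ideal.jacobson ⊥ ∧ ∀ (n : ℕ), 0 < n → ∀ p : A[X], p.natDegree ≤ n → (∀ i, p.coeff i ∈ I) →
    ∃ α : A, α - 1 ∈ I ∧ IsRoot (X ^ n * (X - 1) + p) α

/-- Cayley–Hamilton for a matrix representing an endomorphism with respect to a spanning family. -/
theorem aeval_charpoly_eq_zero_of_represents {ι : Type*} [Fintype ι] [DecidableEq ι] {M : Type*}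
    [AddCommGroup M] {R : Type*} [CommRing R] [Module R M] {b : ι → M}
    (hb : Submodule.span R (Set.range b) = ⊤) {N : Matrix ι ι R} {f : Module.End R M}
    (h : N.Represents b f) : aeval f N.charpoly = 0 := by
  let A : Matrix.isRepresentation R b := ⟨N, f, h⟩
  have hA : Matrix.isRepresentation.toEnd R b hb A = f :=
    Matrix.isRepresentation.eq_toEnd_of_represents R b hb A h
  rw [← hA, Polynomial.aeval_algHom_apply, ← map_zero (Matrix.isRepresentation.toEnd R b hb)]
  congr 1
  ext1
  rw [Polynomial.aeval_subalgebra_coe, Matrix.aeval_self_charpoly, Subalgebra.coe_zero]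

/-- Let `A → C` be surjective with kernel in the Jacobson radical, `M` a flat `A`-module with a
linear map `φ : M → C` and `m₀ : M` with `φ m₀ = 1`. Then `m₀` has no `A`-torsion. -/
theorem eq_zero_of_smul_eq_zero_of_flat {A C M : Type*} [CommRing A] [CommRing C]
    [Algebra A C] [AddCommGroup M] [Module A M] [Module.Flat A M]
    (hsurj : Function.Surjective (algebraMap A C))
    (hker : RingHom.ker (algebraMap A C) ≤ Ideal.jacobson ⊥) (φ : M →ₗ[A] C) (m₀ : M)
    (hm₀ : φ m₀ = 1) {x : A} (hx : x • m₀ = 0) : x = 0 := by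
  have hrel : ∑ i : Fin 1, (fun _ ↦ x) i • (fun _ ↦ m₀) i = 0 := by
    simp [hx]
  obtain ⟨k, a, y, hy, ha⟩ := Module.Flat.isTrivialRelation_of_sum_smul_eq_zero hrel
  choose y' hy' using fun j ↦ hsurj (φ (y j))
  have h1 : algebraMap A C (∑ j, a 0 j * y' j) = 1 := by
    rw [map_sum]
    simp only [map_mul, hy']
    have := congrArg φ (hy 0)
    simp only [map_sum, map_smul, Algebra.smul_def, hm₀] at this
    exact this.symm
  have h2 : (∑ j, a 0 j * y' j) - 1 ∈ Ideal.jacobson (⊥ : Ideal A) :=
    hker (by rw [RingHom.mem_ker, map_sub, h1, map_one, sub_self])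
  have h3 := Ideal.isUnit_of_sub_one_mem_jacobson_bot _ h2
  have h4 : x * ∑ j, a 0 j * y' j = 0 := by
    rw [Finset.mul_sum]
    apply Finset.sum_eq_zero
    intro j _
    have := ha j
    simp only [Finset.univ_unique, Fin.default_eq_zero, Fin.isValue, Finset.sum_singleton] at this
    rw [← mul_assoc, this, zero_mul]
  exact h3.mul_left_eq_zero.mp h4

/-- A surjective flat ring map whose kernel lies in the Jacobson radical is injective. -/
theorem injective_algebraMap_of_flat_of_surjective {A C : Type*} [CommRing A] [CommRing C]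
    [Algebra A C] [Module.Flat A C] (hsurj : Function.Surjective (algebraMap A C))
    (hker : RingHom.ker (algebraMap A C) ≤ Ideal.jacobson ⊥) :
    Function.Injective (algebraMap A C) := by
  rw [injective_iff_map_eq_zero]
  intro x hx
  have hrel : ∑ i : Fin 1, (fun _ ↦ x) i • (fun _ ↦ (1 : C)) i = 0 := by
    simp [Algebra.smul_def, hx]
  obtain ⟨k, a, y, hy, ha⟩ := Module.Flat.isTrivialRelation_of_sum_smul_eq_zero hrel
  choose y' hy' using fun j ↦ hsurj (y j)
  have h1 : algebraMap A C (∑ j, a 0 j * y' j) = 1 := by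
    rw [map_sum]
    simp only [map_mul, hy']
    have := hy 0
    simp only [Algebra.smul_def] at this
    exact this.symm
  have h2 : (∑ j, a 0 j * y' j) - 1 ∈ Ideal.jacobson (⊥ : Ideal A) :=
    hker (by rw [RingHom.mem_ker, map_sub, h1, map_one, sub_self])
  have h3 := Ideal.isUnit_of_sub_one_mem_jacobson_bot _ h2
  have h4 : x * ∑ j, a 0 j * y' j = 0 := by
    rw [Finset.mul_sum]
    apply Finset.sum_eq_zero
    intro j _
    have := ha j
    simp only [Finset.univ_unique, Fin.default_eq_zero, Fin.isValue, Finset.sum_singleton] at this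
    rw [← mul_assoc, this, zero_mul]
  exact h3.mul_left_eq_zero.mp h4

/-- For an unramified algebra with a section, there is an element cutting out the section. -/
theorem exists_mul_eq_algebraMap_mul_of_section {R S : Type*} [CommRing R] [CommRing S]
    [Algebra R S] [Algebra.EssFiniteType R S] [Algebra.FormallyUnramified R S] (σ : S →ₐ[R] R) :
    ∃ ε : S, σ ε = 1 ∧ ∀ s, s * ε = algebraMap R S (σ s) * ε := by
  obtain ⟨t, ht1, ht2⟩ := (Algebra.FormallyUnramified.iff_exists_tensorProduct (R := R)
    (S := S)).mp inferInstance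
  let Φ : S ⊗[R] S →ₐ[R] S := Algebra.TensorProduct.lift ((Algebra.ofId R S).comp σ)
    (AlgHom.id R S) (fun _ _ ↦ .all _ _)
  refine ⟨Φ t, ?_, fun s ↦ ?_⟩
  · have h : σ.comp Φ = σ.comp (Algebra.TensorProduct.lmul' R) := by
      apply Algebra.TensorProduct.ext'
      intro a b
      simp [Φ]
    have := DFunLike.congr_fun h t
    simp only [AlgHom.comp_apply] at this
    rw [this, ht2, map_one]
  · have := congrArg Φ (ht1 s)
    rw [map_mul, map_sub, map_zero] at this
    simp only [Φ, Algebra.TensorProduct.lift_tmul, map_one, one_mul, mul_one, AlgHom.comp_apply,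
      AlgHom.id_apply, Algebra.ofId_apply] at this
    linear_combination this

/-- Idempotents congruent modulo the Jacobson radical are equal. -/
theorem eq_of_isIdempotentElem_of_sub_mem_jacobson {B : Type*} [CommRing B] {e e' : B}
    (he : IsIdempotentElem e) (he' : IsIdempotentElem e')
    (h : e - e' ∈ Ideal.jacobson (⊥ : Ideal B)) : e = e' := by
  have h1 := he.eq
  have h2 := he'.eq
  have h3 : (e - e') * (1 - (e - e') ^ 2) = 0 := by
    linear_combination (-(e + 1 - 3 * e')) * h1 + (-(3 * e - e' - 1)) * h2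
  have hu : IsUnit (1 - (e - e') ^ 2) := Ideal.isUnit_of_sub_one_mem_jacobson_bot _ (by
    have : 1 - (e - e') ^ 2 - 1 = -(e - e') * (e - e') := by ring
    rw [this]
    exact Ideal.mul_mem_left _ _ h)
  exact sub_eq_zero.mp (hu.mul_left_eq_zero.mp h3)

/-- For an integral algebra, the extension of an ideal in the Jacobson radical lies in the
Jacobson radical. -/
theorem map_le_jacobson_of_isIntegral {A B : Type*} [CommRing A] [CommRing B] [Algebra A B]
    [Algebra.IsIntegral A B] {I : Ideal A} (hI : I ≤ Ideal.jacobson ⊥) :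
    I.map (algebraMap A B) ≤ Ideal.jacobson ⊥ := by
  rw [Ideal.map_le_iff_le_comap]
  intro x hx
  rw [Ideal.mem_comap, Ideal.jacobson, Ideal.mem_sInf]
  rintro M ⟨-, hM⟩
  have hmax : (M.comap (algebraMap A B)).IsMaximal :=
    Ideal.isMaximal_comap_of_isIntegral_of_isMaximal M
  have h1 := hI hx
  rw [Ideal.jacobson, Ideal.mem_sInf] at h1
  exact h1 ⟨bot_le, hmax⟩

/-- An element that is a unit modulo an ideal in the Jacobson radical is a unit. -/
theorem isUnit_of_isUnit_mk_of_le_jacobson {B : Type*} [CommRing B] {J : Ideal B}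
    (hJ : J ≤ Ideal.jacobson ⊥) {x : B} (hx : IsUnit (Ideal.Quotient.mk J x)) : IsUnit x := by
  obtain ⟨y, hy⟩ := hx.exists_right_inv
  obtain ⟨y, rfl⟩ := Ideal.Quotient.mk_surjective y
  have : x * y - 1 ∈ J := by
    rw [← Ideal.Quotient.eq_zero_iff_mem, map_sub, map_mul, hy, map_one, sub_self]
  exact isUnit_of_mul_isUnit_left (Ideal.isUnit_of_sub_one_mem_jacobson_bot _ (hJ this))

/-- Nakayama: a submodule of a finite module that is everything modulo `I ≤ jac` is everything. -/
theorem eq_top_of_sup_smul_eq_top {A M : Type*} [CommRing A] [AddCommGroup M] [Module A M]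
    [Module.Finite A M] {I : Ideal A} (hI : I ≤ Ideal.jacobson ⊥) (N : Submodule A M)
    (h : (⊤ : Submodule A M) ≤ N ⊔ I • (⊤ : Submodule A M)) : N = ⊤ := by
  rw [eq_top_iff]
  exact Submodule.le_of_le_smul_of_le_jacobson_bot Module.Finite.fg_top hI h

lemma mk_mem_map_of_map_eq_zero {A : Type*} [CommRing A] (I : Ideal A) (f p : A[X])
    (hp : p.map (Ideal.Quotient.mk I) = 0) :
    AdjoinRoot.mk f p ∈ I.map (algebraMap A (AdjoinRoot f)) := by
  have h1 : p ∈ I.map (C : A →+* A[X]) := by
    rw [Ideal.mem_map_C_iff]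
    intro n
    have := congr(coeff $hp n)
    rw [coeff_map, coeff_zero] at this
    exact Ideal.Quotient.eq_zero_iff_mem.mp this
  have h2 : algebraMap A (AdjoinRoot f) = (AdjoinRoot.mk f).comp C := rfl
  rw [h2, ← Ideal.map_map]
  exact Ideal.mem_map_of_mem _ h1

/-- A monic polynomial `P` and a polynomial `Q` whose reductions modulo `I ≤ jac` are coprime
are coprime. -/
theorem isCoprime_of_isCoprime_map_mk {A : Type*} [CommRing A] {I : Ideal A}
    (hI : I ≤ Ideal.jacobson ⊥) {P Q : A[X]} (hP : P.Monic)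
    (h : IsCoprime (P.map (Ideal.Quotient.mk I)) (Q.map (Ideal.Quotient.mk I))) :
    IsCoprime P Q := by
  have : Module.Finite A (AdjoinRoot P) := hP.finite_adjoinRoot
  obtain ⟨u₀, v₀, huv⟩ := h
  obtain ⟨u, rfl⟩ := Polynomial.map_surjective _ Ideal.Quotient.mk_surjective u₀
  obtain ⟨v, rfl⟩ := Polynomial.map_surjective _ Ideal.Quotient.mk_surjective v₀
  have h0 : (u * P + v * Q - 1).map (Ideal.Quotient.mk I) = 0 := by
    rw [Polynomial.map_sub, Polynomial.map_add, Polynomial.map_mul, Polynomial.map_mul, huv,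
      Polynomial.map_one, sub_self]
  have h3 := mk_mem_map_of_map_eq_zero I P _ h0
  have htop : Ideal.span {AdjoinRoot.mk P Q} = ⊤ := by
    set J : Ideal (AdjoinRoot P) := Ideal.span {AdjoinRoot.mk P Q} with hJ
    have hle : (⊤ : Submodule A (AdjoinRoot P)) ≤
        J.restrictScalars A ⊔ I • (⊤ : Submodule A (AdjoinRoot P)) := by
      intro x _
      have hx : x = x * (AdjoinRoot.mk P v * AdjoinRoot.mk P Q) -
          x * AdjoinRoot.mk P (u * P + v * Q - 1) := by
        simp only [map_sub, map_add, map_mul, map_one, AdjoinRoot.mk_self]; ring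
      rw [hx]
      refine Submodule.sub_mem _ (Submodule.mem_sup_left ?_) (Submodule.mem_sup_right ?_)
      · change _ ∈ J
        exact J.mul_mem_left _ (J.mul_mem_left _ (Ideal.subset_span rfl))
      · rw [Ideal.smul_top_eq_map]
        exact Ideal.mul_mem_left _ _ h3
    have := eq_top_of_sup_smul_eq_top hI _ hle
    rw [eq_top_iff]
    intro x _
    have hx : x ∈ J.restrictScalars A := this ▸ Submodule.mem_top
    exact hx
  obtain ⟨w, hw⟩ := Ideal.mem_span_singleton'.mp
    (htop ▸ Submodule.mem_top : (1 : AdjoinRoot P) ∈ Ideal.span {AdjoinRoot.mk P Q})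
  obtain ⟨w, rfl⟩ := AdjoinRoot.mk_surjective w
  have h4 : AdjoinRoot.mk P (w * Q - 1) = 0 := by
    rw [map_sub, map_mul, hw, map_one, sub_self]
  obtain ⟨t, ht⟩ := AdjoinRoot.mk_eq_zero.mp h4
  exact ⟨-t, w, by linear_combination ht⟩

end Groth.Agent.Helper1
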