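import Groth.Agent.Lib.Helper1.HPSection
import Mathlib.RingTheory.Polynomial.UniversalFactorizationRing

set_option autoImplicit false

/-! # Gabber's criterion implies lifting of coprime factorizations -/

namespace Groth.Agent.Helper1

open Polynomial

universe u

/-- If `(A, I)` satisfies Gabber's criterion, then coprime monic factorizations lift. -/
theorem exists_factor_lift_of_gabberProp {A : Type u} [CommRing A] {I : Ideal A}
    (hG : GabberProp A I) (f : A[X]) (hf : f.Monic) (g₀ h₀ : (A ⧸ I)[X]) (hg₀ : g₀.Monic)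
    (hh₀ : h₀.Monic) (hcop : IsCoprime g₀ h₀)
    (hfac : f.map (Ideal.Quotient.mk I) = g₀ * h₀) :
    ∃ g h : A[X], g.Monic ∧ h.Monic ∧ f = g * h ∧ g.map (Ideal.Quotient.mk I) = g₀ ∧
      h.map (Ideal.Quotient.mk I) = h₀ := by
  cases subsingleton_or_nontrivial (A ⧸ I)
  · exact ⟨f, 1, hf, monic_one, (mul_one f).symm, Subsingleton.elim _ _, Subsingleton.elim _ _⟩
  set m := g₀.natDegree with hm
  set k := h₀.natDegree with hk
  set n := f.natDegree with hn'
  have hn : n = m + k := by
    rw [hn', ← hf.natDegree_map (Ideal.Quotient.mk I), hfac, hg₀.natDegree_mul hh₀]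
  let p : MonicDegreeEq A n := .mk f hf rfl
  let q : { q : MonicDegreeEq (A ⧸ I) m × MonicDegreeEq (A ⧸ I) k //
      q.1.1 * q.2.1 = p.1.map (algebraMap A (A ⧸ I)) ∧ IsCoprime q.1.1 q.2.1 } :=
    ⟨(.mk g₀ hg₀ rfl, .mk h₀ hh₀ rfl), hfac.symm, hcop⟩
  let σ := (UniversalCoprimeFactorizationRing.homEquiv (A ⧸ I) m k hn p).symm q
  obtain ⟨τ, hτ⟩ := exists_algHom_lift_of_etale_away hG (UniversalFactorizationRing m k hn p)
    (UniversalFactorizationRing.presentation m k hn p).jacobian
    (UniversalCoprimeFactorizationRing m k hn p) σ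
  set r := UniversalCoprimeFactorizationRing.homEquiv A m k hn p τ with hr
  have h1 := UniversalCoprimeFactorizationRing.homEquiv_comp_fst A m k hn p τ (Ideal.Quotient.mkₐ A I)
  have h2 := UniversalCoprimeFactorizationRing.homEquiv_comp_snd A m k hn p τ (Ideal.Quotient.mkₐ A I)
  rw [hτ] at h1 h2
  have hσq : UniversalCoprimeFactorizationRing.homEquiv (A ⧸ I) m k hn p σ = q :=
    Equiv.apply_symm_apply _ _
  rw [hσq] at h1 h2
  refine ⟨r.1.1.1, r.1.2.1, r.1.1.monic, r.1.2.monic, ?_, ?_, ?_⟩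
  · have h3 : (r.1.1.1 * r.1.2.1 : A[X]) = Polynomial.map (algebraMap A A) p.1 := r.2.1
    have h4 : Polynomial.map (algebraMap A A) p.1 = f := Polynomial.map_id
    exact (h3.trans h4).symm
  · exact (congrArg Subtype.val h1).symm
  · exact (congrArg Subtype.val h2).symm

end Groth.Agent.Helper1
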