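import Groth.Agent.Lib.Helper1.HPRankOne
import Mathlib.RingTheory.EssentialFiniteness
import Mathlib.RingTheory.Localization.Away.Basic
import Mathlib.RingTheory.Smooth.Flat
import Mathlib.RingTheory.Etale.Basic

set_option autoImplicit false

/-! # Sections of étale localizations of finite algebras -/

namespace Groth.Agent.Helper1

open Polynomial

/-- Let `B` be a finite `k`-algebra, `b : B` and suppose `B[1/b]` is unramified over `k` with a
section `σ`. Then there is an idempotent `w` of `B` with `σ w = 1` and `x w = σ(x) w`. -/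
theorem exists_rankOne_idempotent_of_section {k : Type*} [CommRing k] (B : Type*) [CommRing B]
    [Algebra k B] [Module.Finite k B] (b : B) (S : Type*) [CommRing S] [Algebra B S] [Algebra k S]
    [IsScalarTower k B S] [IsLocalization.Away b S] [Algebra.FormallyUnramified k S]
    (σ : S →ₐ[k] k) :
    ∃ w : B, IsIdempotentElem w ∧ σ (algebraMap B S w) = 1 ∧
      ∀ x : B, x * w = σ (algebraMap B S x) • w := by
  classical
  have : Algebra.EssFiniteType B S := Algebra.EssFiniteType.of_isLocalization S (.powers b)
  have : Algebra.EssFiniteType k S := Algebra.EssFiniteType.comp k B S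
  obtain ⟨ε, hε1, hε⟩ := exists_mul_eq_algebraMap_mul_of_section σ
  let σB : B →ₐ[k] k := σ.comp (IsScalarTower.toAlgHom k B S)
  have hσB : ∀ x, σB x = σ (algebraMap B S x) := fun x ↦ rfl
  -- `u = σ b` is a unit
  have hbunit : IsUnit (algebraMap B S b) := IsLocalization.Away.algebraMap_isUnit b
  have huunit : IsUnit (σB b) := hbunit.map σ
  obtain ⟨u', hu'⟩ := huunit.exists_right_inv
  -- `ε` comes from `B`
  obtain ⟨n, z, hz⟩ := IsLocalization.Away.surj b ε
  have hbε : ∀ l : ℕ, algebraMap B S b ^ l * ε = algebraMap k S (σB b ^ l) * ε := by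
    intro l
    induction l with
    | zero => simp
    | succ l ih =>
      rw [pow_succ, mul_assoc, hε (algebraMap B S b), ← mul_assoc, mul_comm _ (algebraMap k S _),
        mul_assoc, ih, ← mul_assoc, ← map_mul, ← hσB, pow_succ, mul_comm (σB b)]
  set z' : B := u' ^ n • z with hz'
  have hz'ε : algebraMap B S z' = ε := by
    rw [hz', Algebra.smul_def, map_mul, ← IsScalarTower.algebraMap_apply, ← hz, mul_comm ε,
      hbε n, ← mul_assoc, ← map_mul, ← mul_pow, mul_comm u', hu', one_pow, map_one, one_mul]
  have hσz' : σB z' = 1 := by rw [hσB, hz'ε, hε1]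
  -- the relation `x z' = σ(x) z'` holds after multiplying by a power of `b`
  have hrel : ∀ x : B, ∃ l : ℕ, b ^ l * (x * z' - σB x • z') = 0 := by
    intro x
    have h0 : algebraMap B S (x * z' - σB x • z') = 0 := by
      rw [map_sub, map_mul, hz'ε, Algebra.smul_def, map_mul, ← IsScalarTower.algebraMap_apply,
        hz'ε, hε, hσB, sub_self]
    obtain ⟨⟨_, l, rfl⟩, hl⟩ := (IsLocalization.map_eq_zero_iff (.powers b) S _).mp h0
    exact ⟨l, hl⟩
  obtain ⟨s, hs⟩ := (Module.Finite.fg_top : (⊤ : Submodule k B).FG)
  choose l hl using hrel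
  set N := s.sup l with hN
  have hrelN : ∀ x : B, b ^ N * (x * z' - σB x • z') = 0 := by
    intro x
    have hx : x ∈ Submodule.span k (s : Set B) := hs ▸ Submodule.mem_top
    induction hx using Submodule.span_induction with
    | mem x hx =>
      have hle : l x ≤ N := Finset.le_sup hx
      rw [← Nat.sub_add_cancel hle, pow_add, mul_assoc, hl x, mul_zero]
    | zero => simp
    | add x y _ _ hx hy =>
      have : (x + y) * z' - σB (x + y) • z' = (x * z' - σB x • z') + (y * z' - σB y • z') := by
        rw [map_add, add_smul]; ring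
      rw [this, mul_add, hx, hy, add_zero]
    | smul a x _ hx =>
      have : (a • x) * z' - σB (a • x) • z' = a • (x * z' - σB x • z') := by
        rw [map_smul, smul_eq_mul, mul_smul, smul_sub, smul_mul_assoc]
      rw [this, mul_smul_comm, hx, smul_zero]
  set w : B := u' ^ N • (b ^ N * z') with hw
  have hσw : σB w = 1 := by
    rw [hw, map_smul, map_mul, map_pow, hσz', mul_one, smul_eq_mul, ← mul_pow, mul_comm, hu',
      one_pow]
  have hxw : ∀ x : B, x * w = σB x • w := by
    intro x
    have h1 := hrelN x
    rw [mul_sub, sub_eq_zero] at h1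
    rw [hw, mul_smul_comm, smul_comm (σB x), ← mul_assoc, mul_comm x, mul_assoc, h1,
      mul_smul_comm]
  refine ⟨w, ?_, hσw, hxw⟩
  change w * w = w
  rw [hxw w, hσw, one_smul]

end Groth.Agent.Helper1
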