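import Groth.Agent.Lib.Helper1.HPIdem
import Mathlib.LinearAlgebra.Matrix.Charpoly.Coeff
import Mathlib.LinearAlgebra.Matrix.ToLin
import Mathlib.RingTheory.Finiteness.Projective

set_option autoImplicit false

/-! # Henselian pairs: lifting idempotent matrices and finite projective modules -/

namespace Groth.Agent.Helper1

open Polynomial

universe u v

/-- Over a henselian pair, idempotent matrices lift. -/
theorem exists_isIdempotentElem_matrix_lift {A : Type u} [CommRing A] {I : Ideal A}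
    (hG : GabberProp A I) {n : Type v} [Fintype n] [DecidableEq n]
    (w : Matrix n n (A ⧸ I)) (hw : IsIdempotentElem w) :
    ∃ e : Matrix n n A, IsIdempotentElem e ∧ e.map (Ideal.Quotient.mk I) = w := by
  cases subsingleton_or_nontrivial A
  · have : Subsingleton (A ⧸ I) := Function.Surjective.subsingleton Ideal.Quotient.mk_surjective
    exact ⟨0, IsIdempotentElem.zero, Subsingleton.elim _ _⟩
  let φ : Matrix n n A →ₐ[A] Matrix n n (A ⧸ I) := (Ideal.Quotient.mkₐ A I).mapMatrix
  have hφ : ∀ M : Matrix n n A, φ M = M.map (Ideal.Quotient.mk I) := fun M ↦ rfl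
  obtain ⟨E, hE⟩ : ∃ E : Matrix n n A, φ E = w := by
    refine ⟨Matrix.of fun i j ↦ (Ideal.Quotient.mk_surjective (w i j)).choose, ?_⟩
    ext i j
    exact (Ideal.Quotient.mk_surjective (w i j)).choose_spec
  obtain ⟨Z, hZdef⟩ : ∃ Z, Z = E * E - E := ⟨_, rfl⟩
  have hZ : Z.map (Ideal.Quotient.mk I) = 0 := by
    rw [← hφ, hZdef, map_sub, map_mul, hE, hw.eq, sub_self]
  obtain ⟨p, hpdef⟩ : ∃ p : A[X], p = X * Z.charpoly := ⟨_, rfl⟩
  have hp : p.Monic := hpdef ▸ (monic_X).mul (Matrix.charpoly_monic Z)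
  have hpZ : aeval Z p = 0 := by rw [hpdef, map_mul, Matrix.aeval_self_charpoly, mul_zero]
  obtain ⟨d, hd⟩ : ∃ d, d = Fintype.card n + 1 := ⟨_, rfl⟩
  have hpmap : p.map (Ideal.Quotient.mk I) = X ^ d := by
    rw [hpdef, Polynomial.map_mul, map_X, ← Matrix.charpoly_map, hZ, Matrix.charpoly_zero, hd,
      pow_succ']
  have hq : (X ^ 2 - X : A[X]).Monic := by
    apply monic_X_pow_sub
    rw [degree_X]
    norm_num
  have hqdeg : (X ^ 2 - X : A[X]).natDegree ≠ 0 := by
    rw [natDegree_sub_eq_left_of_natDegree_lt] <;> simp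
  obtain ⟨F, hFdef⟩ : ∃ F : A[X], F = p.comp (X ^ 2 - X) := ⟨_, rfl⟩
  have hF : F.Monic := hFdef ▸ hp.comp hq hqdeg
  have hFE : aeval E F = 0 := by
    rw [hFdef, aeval_comp]
    have : aeval E (X ^ 2 - X : A[X]) = Z := by simp [sq, hZdef]
    rw [this, hpZ]
  have hFmap : F.map (Ideal.Quotient.mk I) = X ^ d * (X - C 1) ^ d := by
    rw [hFdef, map_comp, hpmap, X_pow_comp, ← mul_pow]
    congr 1
    simp only [Polynomial.map_sub, Polynomial.map_pow, map_X, map_one]
    ring
  have hcop0 : IsCoprime (X ^ d : (A ⧸ I)[X]) ((X - C 1) ^ d) := by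
    apply IsCoprime.pow
    exact ⟨1, -1, by simp⟩
  obtain ⟨G, H, hG', hH', hFGH, hGmap, hHmap⟩ := exists_factor_lift_of_gabberProp hG F hF
    (X ^ d) ((X - C 1) ^ d) (monic_X_pow d) ((monic_X_sub_C 1).pow d) hcop0 hFmap
  have hcop : IsCoprime G H := isCoprime_of_isCoprime_map_mk hG.1 hG' (by
    rw [hGmap, hHmap]; exact hcop0)
  obtain ⟨r, s, hrs⟩ := hcop
  refine ⟨aeval E (r * G), ?_, ?_⟩
  · change aeval E (r * G) * aeval E (r * G) = aeval E (r * G)
    rw [← sub_eq_zero, ← map_mul, ← map_sub]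
    have : r * G * (r * G) - r * G = (- r * s) * F := by
      rw [hFGH]
      linear_combination (r * G) * hrs
    rw [this, map_mul, hFE, mul_zero]
  · rw [← hφ, ← sub_eq_zero]
    have h1 : φ (aeval E (r * G)) = aeval w ((r * G).map (Ideal.Quotient.mk I)) := by
      rw [← aeval_algHom_apply, hE]
      exact (aeval_map_algebraMap (A ⧸ I) w (r * G)).symm
    obtain ⟨d', rfl⟩ : ∃ d', d = d' + 1 := ⟨_, hd⟩
    have hrs' := congrArg (Polynomial.map (Ideal.Quotient.mk I)) hrs
    simp only [Polynomial.map_add, Polynomial.map_mul, Polynomial.map_one, hGmap, hHmap] at hrs'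
    have h2 : (r * G).map (Ideal.Quotient.mk I) - X =
        (X * X - X) * (- r.map (Ideal.Quotient.mk I) * X ^ d' -
          s.map (Ideal.Quotient.mk I) * (X - C 1) ^ d') := by
      rw [Polynomial.map_mul, hGmap]
      have hC : (C 1 : (A ⧸ I)[X]) = 1 := map_one C
      rw [hC] at hrs' ⊢
      linear_combination X * hrs'
    have h3 : aeval w ((r * G).map (Ideal.Quotient.mk I)) - w = 0 := by
      have := congrArg (aeval w) h2
      rw [map_sub, aeval_X, map_mul, map_sub, map_mul, aeval_X, hw.eq, sub_self, zero_mul] at this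
      exact this
    rw [h1, h3]

open TensorProduct in
/-- Over a henselian pair, finite projective modules lift from `R ⧸ I` to `R`. -/
theorem exists_finite_projective_lift {R : Type u} [CommRing R] {I : Ideal R}
    (hG : GabberProp R I) (Q : Type u) [AddCommGroup Q] [Module (R ⧸ I) Q]
    [Module.Finite (R ⧸ I) Q] [Module.Projective (R ⧸ I) Q] :
    ∃ (P : Type u) (_ : AddCommGroup P) (_ : Module R P), Module.Finite R P ∧
      Module.Projective R P ∧ Nonempty (TensorProduct R (R ⧸ I) P ≃ₗ[R ⧸ I] Q) := by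
  obtain ⟨n, f, g, hf, hg, hfg⟩ := Module.Finite.exists_comp_eq_id_of_projective (R ⧸ I) Q
  have hfg' : ∀ q, f (g q) = q := fun q ↦ LinearMap.congr_fun hfg q
  obtain ⟨w, hwdef⟩ : ∃ w : Matrix (Fin n) (Fin n) (R ⧸ I), w = LinearMap.toMatrix' (g ∘ₗ f) :=
    ⟨_, rfl⟩
  have hw : IsIdempotentElem w := by
    change w * w = w
    rw [hwdef, ← LinearMap.toMatrix'_comp]
    congr 1
    ext x
    simp [hfg']
  obtain ⟨e, he, hew⟩ := exists_isIdempotentElem_matrix_lift hG w hw
  obtain ⟨eL, heLdef⟩ : ∃ eL : (Fin n → R) →ₗ[R] (Fin n → R), eL = Matrix.toLin' e := ⟨_, rfl⟩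
  have heL : ∀ x, eL (eL x) = eL x := by
    intro x
    rw [heLdef, ← LinearMap.comp_apply, ← Matrix.toLin'_mul, he.eq]
  refine ⟨LinearMap.range eL, inferInstance, inferInstance, ?_, ?_, ?_⟩
  · exact Module.Finite.range eL
  · refine Module.Projective.of_split (LinearMap.range eL).subtype eL.rangeRestrict ?_
    ext ⟨x, y, rfl⟩ : 2
    exact heL y
  · let : Module R Q := Module.compHom Q (Ideal.Quotient.mk I)
    have : IsScalarTower R (R ⧸ I) Q := IsScalarTower.of_algebraMap_smul fun r x ↦ rfl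
    let π : (Fin n → R) →ₗ[R] (Fin n → R ⧸ I) :=
      (Ideal.Quotient.mkₐ R I).toLinearMap.compLeft (Fin n)
    have hπ : ∀ x i, π x i = Ideal.Quotient.mk I (x i) := fun x i ↦ rfl
    have hπsurj : Function.Surjective π := by
      intro y
      refine ⟨fun i ↦ (Ideal.Quotient.mk_surjective (y i)).choose, ?_⟩
      ext i
      exact (Ideal.Quotient.mk_surjective (y i)).choose_spec
    have hπe : ∀ x, π (eL x) = g (f (π x)) := by
      intro x
      ext i
      have h1 := RingHom.map_mulVec (Ideal.Quotient.mk I) e x i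
      rw [hew, hwdef] at h1
      rw [hπ, heLdef, Matrix.toLin'_apply, h1, ← Matrix.toLin'_apply, Matrix.toLin'_toMatrix']
      rfl
    let f' : LinearMap.range eL →ₗ[R] Q :=
      (f.restrictScalars R) ∘ₗ π ∘ₗ (LinearMap.range eL).subtype
    let α : (R ⧸ I) ⊗[R] (LinearMap.range eL) →ₗ[R ⧸ I] Q := LinearMap.liftBaseChange (R ⧸ I) f'
    have hα : ∀ x : LinearMap.range eL, α (1 ⊗ₜ x) = f (π x.1) := fun x ↦
      LinearMap.liftBaseChange_one_tmul _ _ _
    refine ⟨LinearEquiv.ofBijective α ⟨?_, ?_⟩⟩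
    · rw [injective_iff_map_eq_zero]
      intro t ht
      obtain ⟨x, rfl⟩ := TensorProduct.mk_surjective R (LinearMap.range eL) (R ⧸ I)
        Ideal.Quotient.mk_surjective t
      change α (1 ⊗ₜ x) = 0 at ht
      change (1 : R ⧸ I) ⊗ₜ[R] x = 0
      rw [hα] at ht
      obtain ⟨x, y, rfl⟩ := x
      have h1 : π (eL y) = 0 := by
        have := congrArg g ht
        rw [map_zero, ← hπe, heL] at this
        exact this
      have h2 : ∀ i, eL y i ∈ I := fun i ↦ by
        rw [← Ideal.Quotient.eq_zero_iff_mem, ← hπ, h1]; rfl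
      -- `eL y = ∑ i, (eL y i) • eL (Pi.single i 1)`
      have h3 : (⟨eL y, y, rfl⟩ : LinearMap.range eL) =
          ∑ i, (eL y i) • (⟨eL (Pi.single i 1), _, rfl⟩ : LinearMap.range eL) := by
        apply Subtype.ext
        rw [AddSubmonoidClass.coe_finsetSum]
        simp only [SetLike.val_smul]
        rw [← heL y]
        conv_lhs => rw [pi_eq_sum_univ' (eL y)]
        rw [map_sum]
        refine Finset.sum_congr rfl fun i _ ↦ ?_
        rw [← map_smul, heL]
      rw [h3, TensorProduct.tmul_sum]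
      refine Finset.sum_eq_zero fun i _ ↦ ?_
      rw [TensorProduct.tmul_smul, TensorProduct.smul_tmul', Algebra.smul_def, mul_one]
      have : algebraMap R (R ⧸ I) (eL y i) = 0 := Ideal.Quotient.eq_zero_iff_mem.mpr (h2 i)
      rw [this, TensorProduct.zero_tmul]
    · intro q
      obtain ⟨x, hx⟩ := hπsurj (g q)
      refine ⟨1 ⊗ₜ ⟨eL x, x, rfl⟩, ?_⟩
      rw [hα]
      change f (π (eL x)) = q
      rw [hπe, hx, hfg', hfg']

end Groth.Agent.Helper1
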