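import Groth.Agent.Lib.Helper1.HPBasic
import Mathlib.LinearAlgebra.Matrix.Charpoly.Coeff
import Mathlib.RingTheory.Ideal.Over

set_option autoImplicit false

/-! # Lifting rank one idempotents (Gabber's trick) -/

namespace Groth.Agent.Helper1

open Polynomial

/-- Gabber's trick: if `(A, I)` satisfies Gabber's criterion, `B` is a finite `A`-algebra and
`w` is an idempotent of `B/IB` such that `w(B/IB)` is generated by `w` over `A`, then `w` lifts
to an idempotent of `B`. -/
theorem exists_isIdempotentElem_lift_of_rankOne {A : Type*} [CommRing A] {I : Ideal A}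
    (hG : GabberProp A I) (B : Type*) [CommRing B] [Algebra A B] [Module.Finite A B]
    (w : B ⧸ I.map (algebraMap A B)) (hw : IsIdempotentElem w)
    (hrank : ∀ x : B, ∃ a : A, Ideal.Quotient.mk _ x * w =
      Ideal.Quotient.mk _ (algebraMap A B a) * w) :
    ∃ e : B, IsIdempotentElem e ∧ Ideal.Quotient.mk (I.map (algebraMap A B)) e = w := by
  classical
  cases subsingleton_or_nontrivial A
  · have : Subsingleton B := Module.subsingleton A B
    exact ⟨0, IsIdempotentElem.zero, Subsingleton.elim _ _⟩
  have hJjac : (I.map (algebraMap A B)) ≤ Ideal.jacobson ⊥ := map_le_jacobson_of_isIntegral hG.1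
  obtain ⟨y, hy⟩ := Ideal.Quotient.mk_surjective w
  have hyy : y * y - y ∈ (I.map (algebraMap A B)) := by
    rw [← Ideal.Quotient.eq_zero_iff_mem, map_sub, map_mul, hy, hw.eq, sub_self]
  have hJtop : (I • (⊤ : Submodule A B)) = (I.map (algebraMap A B)).restrictScalars A := Ideal.smul_top_eq_map I
  -- generators
  obtain ⟨n, g, hg⟩ := Module.Finite.exists_fin (R := A) (M := B)
  let ι := Option (Option (Fin n))
  let b : ι → B := fun i ↦ i.elim y (fun o ↦ (1 - y) * o.elim 0 g)
  have hbspan : Submodule.span A (Set.range b) = ⊤ := by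
    apply eq_top_of_sup_smul_eq_top hG.1
    rw [← hg, Submodule.span_le]
    rintro _ ⟨j, rfl⟩
    obtain ⟨a, ha⟩ := hrank (g j)
    have h1 : g j * y - algebraMap A B a * y ∈ (I.map (algebraMap A B)) := by
      rw [← Ideal.Quotient.eq_zero_iff_mem, map_sub, map_mul, map_mul, hy, ha, sub_self]
    have h2 : g j = (a • b none + b (some (some j))) + (g j * y - algebraMap A B a * y) := by
      simp only [b, Option.elim, Algebra.smul_def]; ring
    rw [h2]
    refine Submodule.add_mem_sup (Submodule.add_mem _ (Submodule.smul_mem _ _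
      (Submodule.subset_span ⟨_, rfl⟩)) (Submodule.subset_span ⟨_, rfl⟩)) ?_
    rw [hg, hJtop]
    exact h1
  -- the matrix of multiplication by `y`
  have hd : ∀ j : ι, y * b j - (if j = none then y else 0) ∈
      I • Submodule.span A (Set.range b) := by
    intro j
    rw [hbspan, hJtop]
    change _ ∈ (I.map (algebraMap A B))
    cases j with
    | none => simpa [b] using hyy
    | some o =>
      have : y * b (some o) - (if (some o : ι) = none then y else 0) =
          -(o.elim 0 g) * (y * y - y) := by
        simp only [b, Option.elim, reduceCtorEq, if_false]; ring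
      rw [this]
      exact Ideal.mul_mem_left _ _ hyy
  choose c hcI hcsum using fun j ↦
    (Submodule.mem_ideal_smul_span_iff_exists_sum I b _).mp (hd j)
  let N : Matrix ι ι A := fun i j ↦ (if i = none ∧ j = none then 1 else 0) + c j i
  have hrep : N.Represents b (Algebra.lmul A B y) := by
    rw [Matrix.represents_iff']
    intro j
    have h1 := hcsum j
    rw [Finsupp.sum_fintype (c j) (fun i a ↦ a • b i) (fun i ↦ zero_smul _ _)] at h1
    simp only [N, add_smul, Finset.sum_add_distrib, h1]
    have h2 : ∑ i : ι, (if i = none ∧ j = none then (1 : A) else 0) • b i =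
        if j = none then y else 0 := by
      by_cases hj : j = none
      · simp only [hj, and_true, if_true]
        rw [Finset.sum_eq_single none]
        · simp [b]
        · intro i _ hi; simp [hi]
        · intro h; exact absurd (Finset.mem_univ _) h
      · simp [hj]
    rw [h2]
    simp
  have hCH : aeval y N.charpoly = 0 := by
    have h1 := aeval_charpoly_eq_zero_of_represents hbspan hrep
    rw [Polynomial.aeval_algHom_apply] at h1
    have h2 := DFunLike.congr_fun h1 1
    simpa using h2
  -- reduction of the characteristic polynomial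
  have hNmap : N.map (Ideal.Quotient.mk I) =
      Matrix.diagonal (fun i : ι ↦ if i = none then (1 : A ⧸ I) else 0) := by
    have hentry : ∀ i j, Ideal.Quotient.mk I (N i j) =
        if i = none ∧ j = none then (1 : A ⧸ I) else 0 := by
      intro i j
      change Ideal.Quotient.mk I ((if i = none ∧ j = none then 1 else 0) + c j i) = _
      rw [map_add, Ideal.Quotient.eq_zero_iff_mem.mpr (hcI j i), add_zero]
      split_ifs <;> simp
    ext i j
    rw [Matrix.map_apply, hentry, Matrix.diagonal_apply]
    by_cases hi : i = none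
    · by_cases hj : j = none
      · simp [hi, hj]
      · have : ¬ (i = j) := fun h ↦ hj (h ▸ hi)
        simp [hj, this]
    · by_cases hij : i = j
      · simp [hij]
      · simp [hi, hij]
  set m := n + 1 with hm
  have hχmap : N.charpoly.map (Ideal.Quotient.mk I) = (X - C 1) * X ^ m := by
    rw [← Matrix.charpoly_map, hNmap, Matrix.charpoly_diagonal, Fintype.prod_option,
      Fintype.prod_option]
    simp [hm, pow_succ, mul_comm]
  set p := N.charpoly - X ^ m * (X - 1) with hp
  have hpI : ∀ i, p.coeff i ∈ I := by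
    intro i
    rw [← Ideal.Quotient.eq_zero_iff_mem, ← coeff_map, hp, Polynomial.map_sub, hχmap]
    simp [mul_comm]
  have hpdeg : p.natDegree ≤ m := by
    have h1 : N.charpoly.natDegree = m + 1 := by
      rw [Matrix.charpoly_natDegree_eq_dim]; simp [ι, hm]
    have h2 : (X ^ m * (X - 1) : A[X]).Monic := (monic_X_pow m).mul (monic_X_sub_C 1)
    have h3 : (X ^ m * (X - 1) : A[X]).natDegree = m + 1 := by
      rw [show (X - 1 : A[X]) = X - C 1 by simp,
        (monic_X_pow m).natDegree_mul (monic_X_sub_C (1 : A)), natDegree_X_pow,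
        natDegree_X_sub_C]
    have h4 : p.degree < N.charpoly.degree := by
      apply Polynomial.degree_sub_lt_left
      · rw [degree_eq_natDegree (Matrix.charpoly_monic N).ne_zero,
          degree_eq_natDegree h2.ne_zero, h1, h3]
      · exact (Matrix.charpoly_monic N).ne_zero
      · rw [(Matrix.charpoly_monic N).leadingCoeff, h2.leadingCoeff]
    rw [degree_eq_natDegree (Matrix.charpoly_monic N).ne_zero, h1] at h4
    have := Polynomial.natDegree_lt_iff_degree_lt (p := p) (n := m + 1)
    by_cases hp0 : p = 0
    · simp [hp0]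
    · exact Nat.lt_succ_iff.mp ((Polynomial.natDegree_lt_iff_degree_lt hp0).mpr h4)
  obtain ⟨α, hα1, hαroot⟩ := hG.2 m (Nat.succ_pos n) p hpdeg hpI
  have hχ : X ^ m * (X - 1) + p = N.charpoly := by rw [hp]; ring
  rw [hχ] at hαroot
  set Ψ := N.charpoly /ₘ (X - C α) with hΨ
  have hfac : (X - C α) * Ψ = N.charpoly := mul_divByMonic_eq_iff_isRoot.mpr hαroot
  have hΨmap : Ψ.map (Ideal.Quotient.mk I) = X ^ m := by
    have h1 := congrArg (Polynomial.map (Ideal.Quotient.mk I)) hfac
    rw [Polynomial.map_mul, hχmap, Polynomial.map_sub, Polynomial.map_X, Polynomial.map_C] at h1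
    have h2 : Ideal.Quotient.mk I α = 1 := by
      rw [← sub_eq_zero, ← map_one (Ideal.Quotient.mk I), ← map_sub]
      exact Ideal.Quotient.eq_zero_iff_mem.mpr hα1
    rw [h2] at h1
    exact (monic_X_sub_C (1 : A ⧸ I)).isRegular.left h1
  -- the two comaximal elements
  set u := y - algebraMap A B α with hu
  set v := aeval y Ψ with hv
  have huv : u * v = 0 := by
    have h1 : aeval y ((X - C α) * Ψ) = u * v := by
      rw [map_mul, map_sub, aeval_X, aeval_C]
    rw [← h1, hfac, hCH]
  have hvmk : Ideal.Quotient.mk (I.map (algebraMap A B)) v = Ideal.Quotient.mk (I.map (algebraMap A B)) y := by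
    have h1 : Ideal.Quotient.mk (I.map (algebraMap A B)) v = aeval (Ideal.Quotient.mk (I.map (algebraMap A B)) y) Ψ := by
      rw [hv]
      exact (Polynomial.aeval_algHom_apply (Ideal.Quotient.mkₐ A (I.map (algebraMap A B))) y Ψ).symm
    rw [h1, ← Polynomial.aeval_map_algebraMap (A ⧸ I)]
    have h2 : Ψ.map (algebraMap A (A ⧸ I)) = X ^ m := hΨmap
    rw [h2, map_pow, aeval_X, hy]
    exact hw.pow_succ_eq n
  have humk : Ideal.Quotient.mk (I.map (algebraMap A B)) u = Ideal.Quotient.mk (I.map (algebraMap A B)) y - 1 := by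
    rw [hu, map_sub]
    congr 1
    rw [← map_one (Ideal.Quotient.mk (I.map (algebraMap A B))), ← sub_eq_zero, ← map_sub,
      Ideal.Quotient.eq_zero_iff_mem, ← map_one (algebraMap A B), ← map_sub]
    exact Ideal.mem_map_of_mem _ hα1
  have ht1 : (v - u) - 1 ∈ (I.map (algebraMap A B)) := by
    rw [← Ideal.Quotient.eq_zero_iff_mem, map_sub, map_sub, hvmk, humk, map_one]; ring
  obtain ⟨t, ht⟩ := Ideal.isUnit_of_sub_one_mem_jacobson_bot _ (hJjac ht1)
  have htmk : Ideal.Quotient.mk (I.map (algebraMap A B)) (↑t⁻¹ : B) = 1 := by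
    have h1 : Ideal.Quotient.mk (I.map (algebraMap A B)) (t : B) = 1 := by
      rw [ht, ← sub_eq_zero, ← map_one (Ideal.Quotient.mk (I.map (algebraMap A B))), ← map_sub]
      exact Ideal.Quotient.eq_zero_iff_mem.mpr ht1
    have h2 : Ideal.Quotient.mk (I.map (algebraMap A B)) (t : B) * Ideal.Quotient.mk (I.map (algebraMap A B)) (↑t⁻¹ : B) = 1 := by
      rw [← map_mul, Units.mul_inv, map_one]
    rw [h1, one_mul] at h2
    exact h2
  refine ⟨↑t⁻¹ * v, ?_, ?_⟩
  · have h1 : v * v = v * (t : B) := by
      rw [ht]; linear_combination huv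
    have h2 : (↑t⁻¹ : B) * (t : B) = 1 := Units.inv_mul t
    change ↑t⁻¹ * v * (↑t⁻¹ * v) = ↑t⁻¹ * v
    linear_combination (↑t⁻¹ * ↑t⁻¹ : B) * h1 + (↑t⁻¹ * v : B) * h2
  · rw [map_mul, htmk, one_mul, hvmk, hy]

end Groth.Agent.Helper1
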