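import Groth.Agent.Lib.Helper1.HPLoc

set_option autoImplicit false

/-! # Lifting sections of étale localizations of finite algebras -/

namespace Groth.Agent.Helper1

open Polynomial

/-- Let `(A, I)` satisfy Gabber's criterion, `B` a finite `A`-algebra, `b : B` such that
`A' = B[1/b]` is étale over `A`. Then every `A`-algebra map `A' → A/I` lifts to `A' → A`. -/
theorem exists_algHom_lift_of_etale_away {A : Type*} [CommRing A] {I : Ideal A}
    (hG : GabberProp A I) (B : Type*) [CommRing B] [Algebra A B] [Module.Finite A B] (b : B)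
    (A' : Type*) [CommRing A'] [Algebra B A'] [Algebra A A'] [IsScalarTower A B A']
    [IsLocalization.Away b A'] [Algebra.FormallyUnramified A A'] [Module.Flat A A']
    (σ : A' →ₐ[A] A ⧸ I) :
    ∃ τ : A' →ₐ[A] A, (Ideal.Quotient.mkₐ A I).comp τ = σ := by
  classical
  let k := A ⧸ I
  let J : Ideal B := I.map (algebraMap A B)
  let Bq := B ⧸ I.map (algebraMap A B)
  have hBqfin : Module.Finite k Bq := Module.Finite.of_restrictScalars_finite A k Bq
  let bq : Bq := Ideal.Quotient.mk _ b
  let S := Localization.Away bq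
  -- the map `A' → S`
  let ψ₀ : A' →+* S := IsLocalization.Away.map A' S (Ideal.Quotient.mk (I.map (algebraMap A B))) b
  have hψ₀ : ∀ x : B, ψ₀ (algebraMap B A' x) = algebraMap Bq S (Ideal.Quotient.mk _ x) := by
    intro x
    exact IsLocalization.map_eq _ x
  let ψ : A' →ₐ[A] S :=
    { ψ₀ with
      commutes' := fun a ↦ by
        change ψ₀ (algebraMap A A' a) = _
        rw [IsScalarTower.algebraMap_apply A B A', hψ₀]
        rfl }
  have hψsurj : Function.Surjective ψ := by
    intro s
    obtain ⟨n, xq, hx⟩ := IsLocalization.Away.surj bq s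
    obtain ⟨x, rfl⟩ := Ideal.Quotient.mk_surjective xq
    have hbn : b ^ n ∈ Submonoid.powers b := ⟨n, rfl⟩
    refine ⟨IsLocalization.mk' A' x (⟨b ^ n, hbn⟩ : Submonoid.powers b), ?_⟩
    have hu : IsUnit (algebraMap Bq S bq ^ n) :=
      (IsLocalization.Away.algebraMap_isUnit bq).pow n
    apply hu.mul_left_injective
    change ψ₀ _ * _ = s * _
    rw [hx, ← hψ₀ x, ← IsLocalization.mk'_spec A' x (⟨b ^ n, hbn⟩ : Submonoid.powers b),
      map_mul, map_pow, map_pow, hψ₀ b]
  have hSunrA : Algebra.FormallyUnramified A S := Algebra.FormallyUnramified.of_surjective ψ hψsurj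
  have hSunr : Algebra.FormallyUnramified k S := Algebra.FormallyUnramified.of_restrictScalars A k S
  -- the section on `S`
  let σB : B →ₐ[A] k := σ.comp (IsScalarTower.toAlgHom A B A')
  have hσBJ : ∀ x ∈ I.map (algebraMap A B), σB x = 0 := by
    have : I.map (algebraMap A B) ≤ RingHom.ker σB := by
      rw [Ideal.map_le_iff_le_comap]
      intro i hi
      rw [Ideal.mem_comap, RingHom.mem_ker, AlgHom.commutes]
      exact Ideal.Quotient.eq_zero_iff_mem.mpr hi
    exact fun x hx ↦ this hx
  let σBq : Bq →ₐ[A] k := Ideal.Quotient.liftₐ (I.map (algebraMap A B)) σB hσBJ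
  let σBqk : Bq →ₐ[k] k :=
    { σBq with
      commutes' := fun c ↦ by
        obtain ⟨a, rfl⟩ := Ideal.Quotient.mk_surjective c
        change σBq (Ideal.Quotient.mk _ (algebraMap A B a)) = _
        change σB (algebraMap A B a) = _
        rw [AlgHom.commutes]
        rfl }
  have hσBqk : ∀ x : B, σBqk (Ideal.Quotient.mk _ x) = σB x := fun x ↦ rfl
  have hunit : IsUnit (σBqk bq) := by
    change IsUnit (σ (algebraMap B A' b))
    exact (IsLocalization.Away.algebraMap_isUnit b).map σ
  let σS : S →ₐ[k] k := IsLocalization.Away.liftAlgHom bq (f := σBqk) hunit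
  have hσS : ∀ x : Bq, σS (algebraMap Bq S x) = σBqk x := fun x ↦
    IsLocalization.Away.lift_eq bq hunit x
  obtain ⟨w, hwid, hσw, hxw⟩ := exists_rankOne_idempotent_of_section (k := k) Bq bq S σS
  -- rank one condition
  have hrank : ∀ x : B, ∃ a : A, Ideal.Quotient.mk (I.map (algebraMap A B)) x * w =
      Ideal.Quotient.mk (I.map (algebraMap A B)) (algebraMap A B a) * w := by
    intro x
    obtain ⟨a, ha⟩ := Ideal.Quotient.mk_surjective
      (σS (algebraMap Bq S (Ideal.Quotient.mk (I.map (algebraMap A B)) x)))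
    refine ⟨a, ?_⟩
    rw [hxw, ← ha, Algebra.smul_def]
    rfl
  obtain ⟨e, heid, hew⟩ := exists_isIdempotentElem_lift_of_rankOne hG B w hwid hrank
  have hσBe : σB e = 1 := by rw [← hσBqk, hew, ← hσS, hσw]
  have hcong : ∀ (x : B) (a : A), Ideal.Quotient.mk I a = σB x →
      x * e - algebraMap A B a * e ∈ I.map (algebraMap A B) := by
    intro x a ha
    rw [← Ideal.Quotient.eq_zero_iff_mem, map_sub, map_mul, map_mul, hew, hxw, hσS, hσBqk, ← ha,
      Algebra.smul_def]
    exact sub_self _
  -- the quotient `C = B/(1-e)`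
  let C := B ⧸ Ideal.span ({1 - e} : Set B)
  let mkC : B →ₐ[A] C := Ideal.Quotient.mkₐ A _
  have hmkCsurj : Function.Surjective mkC := Ideal.Quotient.mkₐ_surjective A _
  have hCfin : Module.Finite A C := Module.Finite.of_surjective mkC.toLinearMap hmkCsurj
  have hmkCe : mkC e = 1 := by
    have h1 : mkC (1 - e) = 0 :=
      Ideal.Quotient.eq_zero_iff_mem.mpr (Ideal.subset_span rfl)
    rw [map_sub, map_one, sub_eq_zero] at h1
    exact h1.symm
  have hmapJ : ∀ x ∈ I.map (algebraMap A B), mkC x ∈ I.map (algebraMap A C) := by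
    intro x hx
    have h1 : mkC x ∈ (I.map (algebraMap A B)).map mkC.toRingHom := Ideal.mem_map_of_mem _ hx
    rw [Ideal.map_map] at h1
    exact h1
  have hCsmul : (I • (⊤ : Submodule A C)) = (I.map (algebraMap A C)).restrictScalars A :=
    Ideal.smul_top_eq_map I
  have hsurjC : Function.Surjective (algebraMap A C) := by
    have h1 : LinearMap.range (Algebra.linearMap A C) = ⊤ := by
      apply eq_top_of_sup_smul_eq_top hG.1
      intro c _
      obtain ⟨x, rfl⟩ := hmkCsurj c
      obtain ⟨a, ha⟩ := Ideal.Quotient.mk_surjective (σB x)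
      have h2 : mkC x = algebraMap A C a + mkC (x * e - algebraMap A B a * e) := by
        rw [map_sub, map_mul, map_mul, hmkCe, mul_one, mul_one, AlgHom.commutes]; ring
      rw [h2]
      refine Submodule.add_mem_sup ⟨a, rfl⟩ ?_
      rw [hCsmul]
      exact hmapJ _ (hcong x a ha)
    intro c
    have : c ∈ LinearMap.range (Algebra.linearMap A C) := h1 ▸ Submodule.mem_top
    obtain ⟨a, ha⟩ := this
    exact ⟨a, ha⟩
  have hICjac : I.map (algebraMap A C) ≤ Ideal.jacobson ⊥ := map_le_jacobson_of_isIntegral hG.1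
  have hbunitC : IsUnit (mkC b) := by
    obtain ⟨au, hau⟩ := Ideal.Quotient.mk_surjective (σB b)
    obtain ⟨v, hv⟩ := hunit.exists_right_inv
    obtain ⟨av, rfl⟩ := Ideal.Quotient.mk_surjective v
    have h1 : mkC b - algebraMap A C au ∈ I.map (algebraMap A C) := by
      have := hmapJ _ (hcong b au hau)
      rw [map_sub, map_mul, map_mul, hmkCe, mul_one, mul_one, AlgHom.commutes] at this
      exact this
    have h2 : au * av - 1 ∈ I := by
      rw [← Ideal.Quotient.eq_zero_iff_mem, map_sub, map_mul, map_one, hau, sub_eq_zero]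
      exact hv
    have h3 : mkC b * algebraMap A C av - 1 ∈ I.map (algebraMap A C) := by
      have : mkC b * algebraMap A C av - 1 = (mkC b - algebraMap A C au) * algebraMap A C av +
          algebraMap A C (au * av - 1) := by
        rw [map_sub, map_mul, map_one]; ring
      rw [this]
      exact Ideal.add_mem _ (Ideal.mul_mem_right _ _ h1) (Ideal.mem_map_of_mem _ h2)
    exact isUnit_of_mul_isUnit_left (Ideal.isUnit_of_sub_one_mem_jacobson_bot _ (hICjac h3))
  let ψ' : A' →ₐ[A] C := IsLocalization.Away.liftAlgHom b (f := mkC) hbunitC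
  have hψ' : ∀ x : B, ψ' (algebraMap B A' x) = mkC x := fun x ↦
    IsLocalization.Away.lift_eq b hbunitC x
  have hσB1e : ∀ x ∈ Ideal.span ({1 - e} : Set B), σB x = 0 := by
    have : Ideal.span ({1 - e} : Set B) ≤ RingHom.ker σB := by
      rw [Ideal.span_le, Set.singleton_subset_iff]
      change σB (1 - e) = 0
      rw [map_sub, map_one, hσBe, sub_self]
    exact fun x hx ↦ this hx
  let σC : C →ₐ[A] k := Ideal.Quotient.liftₐ _ σB hσB1e
  have hσC : ∀ x : B, σC (mkC x) = σB x := fun x ↦ rfl
  have hkerC : RingHom.ker (algebraMap A C) ≤ Ideal.jacobson ⊥ := by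
    intro a ha
    apply hG.1
    rw [RingHom.mem_ker] at ha
    have h1 : σC (algebraMap A C a) = 0 := by rw [ha, map_zero]
    rw [AlgHom.commutes] at h1
    exact Ideal.Quotient.eq_zero_iff_mem.mp h1
  have hinjC : Function.Injective (algebraMap A C) := by
    rw [injective_iff_map_eq_zero]
    intro a ha
    have h1 : algebraMap A B a ∈ Ideal.span ({1 - e} : Set B) := by
      rw [← Ideal.Quotient.eq_zero_iff_mem]
      have : mkC (algebraMap A B a) = 0 := by rw [AlgHom.commutes]; exact ha
      exact this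
    obtain ⟨c, hc⟩ := Ideal.mem_span_singleton'.mp h1
    have h2 : a • e = 0 := by
      rw [Algebra.smul_def, ← hc]
      have := heid.eq
      linear_combination (-c) * this
    have h3 : a • algebraMap B A' e = 0 := by
      have := congrArg (IsScalarTower.toAlgHom A B A') h2
      rw [map_smul, map_zero] at this
      exact this
    exact eq_zero_of_smul_eq_zero_of_flat hsurjC hkerC ψ'.toLinearMap (algebraMap B A' e)
      (by change ψ' (algebraMap B A' e) = 1; rw [hψ', hmkCe]) h3
  let E : A ≃ₐ[A] C := AlgEquiv.ofBijective (Algebra.ofId A C) ⟨hinjC, hsurjC⟩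
  have hE : ∀ c : C, Ideal.Quotient.mk I (E.symm c) = σC c := by
    intro c
    obtain ⟨a, rfl⟩ := E.surjective c
    rw [AlgEquiv.symm_apply_apply]
    change _ = σC (algebraMap A C a)
    rw [AlgHom.commutes]
    rfl
  refine ⟨(E.symm : C →ₐ[A] A).comp ψ', ?_⟩
  apply IsLocalization.algHom_ext (.powers b)
  apply AlgHom.ext
  intro x
  change Ideal.Quotient.mk I (E.symm (ψ' (algebraMap B A' x))) = σ (algebraMap B A' x)
  rw [hψ', hE, hσC]
  rfl

end Groth.Agent.Helper1
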