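import Mathlib
import Groth.Agent.Lib.Helper1.HS2
import Groth.Agent.Lib.Helper1.HPFinEt

/-!
# Finite étale covers over a henselian pair: full faithfulness of restriction (helper1)
-/

set_option autoImplicit false
set_option linter.style.haveILetI false

universe u

open CategoryTheory CategoryTheory.Limits AlgebraicGeometry Opposite TensorProduct

namespace Groth.Agent.Helper1.HS

section general

/-- Bijectivity on hom-sets is invariant under isomorphisms of the objects. -/
theorem bijective_map_of_iso {C D : Type*} [Category C] [Category D] (F : C ⥤ D)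
    {Y Y' X X' : C} (a : Y ≅ Y') (b : X ≅ X')
    (h : Function.Bijective (fun φ : Y' ⟶ X' => F.map φ)) :
    Function.Bijective (fun φ : Y ⟶ X => F.map φ) := by
  constructor
  · intro φ φ' hφ
    have hφ' : F.map φ = F.map φ' := hφ
    have h1 : F.map (a.inv ≫ φ ≫ b.hom) = F.map (a.inv ≫ φ' ≫ b.hom) := by
      simp only [Functor.map_comp, hφ']
    have h2 := h.1 h1
    have h3 : a.hom ≫ (a.inv ≫ φ ≫ b.hom) ≫ b.inv = a.hom ≫ (a.inv ≫ φ' ≫ b.hom) ≫ b.inv := by
      rw [h2]
    simpa using h3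
  · intro ψ
    obtain ⟨φ', hφ'⟩ := h.2 (F.map a.inv ≫ ψ ≫ F.map b.hom)
    refine ⟨a.hom ≫ φ' ≫ b.inv, ?_⟩
    have hφ'' : F.map φ' = F.map a.inv ≫ ψ ≫ F.map b.hom := hφ'
    show F.map (a.hom ≫ φ' ≫ b.inv) = ψ
    rw [Functor.map_comp, Functor.map_comp, hφ'']
    simp only [Category.assoc, ← Functor.map_comp, Iso.hom_inv_id, Category.comp_id]
    simp

theorem bijective_pullback_map_of_existsUnique {S S₀ : Scheme.{u}} (i : S₀ ⟶ S) (X Y : Over S)
    (H : ∀ (ψ' : pullback Y.hom i ⟶ X.left), pullback.fst Y.hom i ≫ Y.hom = ψ' ≫ X.hom →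
      ∃! f : Y.left ⟶ X.left, pullback.fst Y.hom i ≫ f = ψ' ∧ f ≫ X.hom = Y.hom) :
    Function.Bijective (fun φ : Y ⟶ X => (Over.pullback i).map φ) := by
  have hfst : ∀ φ : Y ⟶ X, ((Over.pullback i).map φ).left ≫ pullback.fst X.hom i =
      pullback.fst Y.hom i ≫ φ.left := by
    intro φ
    simp only [Over.pullback, Over.homMk_left]
    exact pullback.lift_fst _ _ _
  constructor
  · intro φ φ' h
    have h' : (Over.pullback i).map φ = (Over.pullback i).map φ' := h
    ext1
    have hw : pullback.fst Y.hom i ≫ Y.hom = (pullback.fst Y.hom i ≫ φ.left) ≫ X.hom := by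
      rw [Category.assoc, Over.w φ]
    obtain ⟨f, -, hf⟩ := H (pullback.fst Y.hom i ≫ φ.left) hw
    have h1 := hf φ.left ⟨rfl, Over.w φ⟩
    have h2 := hf φ'.left ⟨by rw [← hfst, ← hfst, h'], Over.w φ'⟩
    rw [h1, h2]
  · intro ψ
    have hψ : ψ.left ≫ pullback.snd X.hom i = pullback.snd Y.hom i := Over.w ψ
    have hw : pullback.fst Y.hom i ≫ Y.hom = (ψ.left ≫ pullback.fst X.hom i) ≫ X.hom := by
      rw [Category.assoc, pullback.condition (f := X.hom), ← Category.assoc, hψ,
        pullback.condition]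
    obtain ⟨f, ⟨h1, h2⟩, -⟩ := H (ψ.left ≫ pullback.fst X.hom i) hw
    refine ⟨Over.homMk f h2, ?_⟩
    ext1
    apply pullback.hom_ext
    · have := hfst (Over.homMk f h2)
      simp only [Over.homMk_left] at this
      rw [this, h1]
    · have := Over.w ((Over.pullback i).map (Over.homMk f h2))
      exact this.trans hψ.symm

end general

variable {A : Type u} [CommRing A] {I : Ideal A}

section alg

variable (I) (T : Type u) [CommRing T] [Algebra A T]

theorem includeLeft_surjective :
    Function.Surjective (Algebra.TensorProduct.includeLeft : T →ₐ[A] T ⊗[A] (A ⧸ I)) := by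
  intro z
  obtain ⟨w, rfl⟩ := (Algebra.TensorProduct.quotIdealMapEquivTensorQuot T I).surjective z
  obtain ⟨t, rfl⟩ := Ideal.Quotient.mk_surjective w
  exact ⟨t, rfl⟩

theorem ker_includeLeft :
    RingHom.ker (Algebra.TensorProduct.includeLeft : T →ₐ[A] T ⊗[A] (A ⧸ I)).toRingHom =
      I.map (algebraMap A T) := by
  ext t
  rw [RingHom.mem_ker]
  have h1 : (Algebra.TensorProduct.includeLeft : T →ₐ[A] T ⊗[A] (A ⧸ I)).toRingHom t =
      Algebra.TensorProduct.quotIdealMapEquivTensorQuot T I (Ideal.Quotient.mk _ t) := rfl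
  rw [h1, map_eq_zero_iff _ (Algebra.TensorProduct.quotIdealMapEquivTensorQuot T I).injective,
    Ideal.Quotient.eq_zero_iff_mem]

end alg

theorem existsUnique_lift_Spec (hG : GabberProp A I) (T B₁ : Type u) [CommRing T] [CommRing B₁]
    [Algebra A T] [Algebra A B₁] [Module.Finite A T] [Algebra.Etale A B₁]
    (ψ' : pullback (Spec.map (CommRingCat.ofHom (algebraMap A T)))
      (Spec.map (CommRingCat.ofHom (algebraMap A (A ⧸ I)))) ⟶ Spec (CommRingCat.of B₁))
    (hw : pullback.fst (Spec.map (CommRingCat.ofHom (algebraMap A T)))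
        (Spec.map (CommRingCat.ofHom (algebraMap A (A ⧸ I)))) ≫
        Spec.map (CommRingCat.ofHom (algebraMap A T)) =
      ψ' ≫ Spec.map (CommRingCat.ofHom (algebraMap A B₁))) :
    ∃! f : Spec (CommRingCat.of T) ⟶ Spec (CommRingCat.of B₁),
      pullback.fst (Spec.map (CommRingCat.ofHom (algebraMap A T)))
        (Spec.map (CommRingCat.ofHom (algebraMap A (A ⧸ I)))) ≫ f = ψ' ∧
      f ≫ Spec.map (CommRingCat.ofHom (algebraMap A B₁)) =
        Spec.map (CommRingCat.ofHom (algebraMap A T)) := by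
  let e := pullbackSpecIso A T (A ⧸ I)
  let q : T →ₐ[A] T ⊗[A] (A ⧸ I) := Algebra.TensorProduct.includeLeft
  have hefst : e.inv ≫ pullback.fst (Spec.map (CommRingCat.ofHom (algebraMap A T)))
      (Spec.map (CommRingCat.ofHom (algebraMap A (A ⧸ I)))) =
      Spec.map (CommRingCat.ofHom q.toRingHom) := pullbackSpecIso_inv_fst ..
  have hbij := bijective_comp_of_finite_of_etale_pair hG B₁ T (T ⊗[A] (A ⧸ I)) q
    (includeLeft_surjective I T) (ker_includeLeft I T)
  -- a morphism `Spec T ⟶ Spec B₁` over `Spec A` is an algebra map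
  have key : ∀ (R : Type u) [CommRing R] [Algebra A R]
      (k : Spec (CommRingCat.of R) ⟶ Spec (CommRingCat.of B₁)),
      k ≫ Spec.map (CommRingCat.ofHom (algebraMap A B₁)) =
        Spec.map (CommRingCat.ofHom (algebraMap A R)) →
      ∃ k' : B₁ →ₐ[A] R, k = Spec.map (CommRingCat.ofHom k'.toRingHom) := by
    intro R _ _ k hk
    have h1 : Spec.map (CommRingCat.ofHom (algebraMap A B₁) ≫ Spec.preimage k) =
        Spec.map (CommRingCat.ofHom (algebraMap A R)) := by
      rw [Spec.map_comp, Spec.map_preimage, hk]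
    have h2 := Spec.map_injective h1
    have hcomm : ∀ a : A, (Spec.preimage k).hom (algebraMap A B₁ a) = algebraMap A R a := by
      intro a
      exact congrArg (fun m => m.hom a) h2
    refine ⟨{ (Spec.preimage k).hom with commutes' := hcomm }, ?_⟩
    exact (Spec.map_preimage k).symm
  have hw' : (e.inv ≫ ψ') ≫ Spec.map (CommRingCat.ofHom (algebraMap A B₁)) =
      Spec.map (CommRingCat.ofHom (algebraMap A (T ⊗[A] (A ⧸ I)))) := by
    rw [Category.assoc, ← hw, ← Category.assoc, hefst, ← Spec.map_comp]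
    congr 1
  obtain ⟨β', hβ'⟩ := key (T ⊗[A] (A ⧸ I)) (e.inv ≫ ψ') hw'
  obtain ⟨f₀, hf₀⟩ := hbij.2 β'
  have hf₀' : q.comp f₀ = β' := hf₀
  refine ⟨Spec.map (CommRingCat.ofHom f₀.toRingHom), ⟨?_, ?_⟩, ?_⟩
  · have h1 : e.inv ≫ pullback.fst (Spec.map (CommRingCat.ofHom (algebraMap A T)))
        (Spec.map (CommRingCat.ofHom (algebraMap A (A ⧸ I)))) ≫
        Spec.map (CommRingCat.ofHom f₀.toRingHom) = e.inv ≫ ψ' := by
      rw [← Category.assoc, hefst, ← Spec.map_comp, hβ', ← hf₀']
      rfl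
    exact (cancel_epi e.inv).mp h1
  · rw [← Spec.map_comp]
    congr 1
    ext a
    exact f₀.commutes a
  · rintro f' ⟨hf'1, hf'2⟩
    obtain ⟨γ, hγ⟩ := key T f' hf'2
    have h1 : q.comp γ = β' := by
      have h2 : Spec.map (CommRingCat.ofHom (q.comp γ).toRingHom) =
          Spec.map (CommRingCat.ofHom β'.toRingHom) := by
        rw [← hβ', ← hf'1, ← Category.assoc, hefst, hγ, ← Spec.map_comp]
        rfl
      have h3 := Spec.map_injective h2
      ext b
      exact congrArg (fun m => m.hom b) h3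
    have h4 : γ = f₀ := hbij.1 (h1.trans hf₀'.symm)
    rw [hγ, h4]

end Groth.Agent.Helper1.HS
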