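import Mathlib
import Groth.Agent.Lib.Helper1.HS3
import Groth.Agent.Lib.Helper14.EtaleLiftQuot
import Groth.Prelude.Def_FEt

/-!
# Finite étale covers over a henselian pair: restriction to `V(I)` is an equivalence (helper1)
-/

set_option autoImplicit false
set_option linter.style.haveILetI false

universe u

open CategoryTheory CategoryTheory.Limits AlgebraicGeometry Opposite TensorProduct

namespace Groth.Agent.Helper1.HS

variable {A : Type u} [CommRing A] {I : Ideal A}

/-- bijectivity for standard objects -/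
theorem bijective_pullback_map_Spec (hG : GabberProp A I) (T B₁ : Type u) [CommRing T]
    [CommRing B₁] [Algebra A T] [Algebra A B₁] [Module.Finite A T] [Algebra.Etale A B₁] :
    Function.Bijective (fun φ : (Over.mk (Spec.map (CommRingCat.ofHom (algebraMap A T))) :
        Over (Spec (CommRingCat.of A))) ⟶ Over.mk (Spec.map (CommRingCat.ofHom (algebraMap A B₁))) =>
      (Over.pullback (Spec.map (CommRingCat.ofHom (algebraMap A (A ⧸ I))))).map φ) :=
  bijective_pullback_map_of_existsUnique _ _ _
    (fun ψ' hw => existsUnique_lift_Spec hG T B₁ ψ' hw)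

theorem exists_iso_standard (Y : Over (Spec (CommRingCat.of A))) [IsFinite Y.hom] :
    ∃ (T : Type u) (_ : CommRing T) (_ : Algebra A T), Module.Finite A T ∧
      (Etale Y.hom → Algebra.Etale A T) ∧
      Nonempty (Y ≅ Over.mk (Spec.map (CommRingCat.ofHom (algebraMap A T)))) := by
  haveI : IsAffine Y.left := isAffine_of_isAffineHom Y.hom
  let φ : CommRingCat.of A ⟶ Γ(Y.left, ⊤) := Spec.preimage (Y.left.isoSpec.inv ≫ Y.hom)
  have hφ : Spec.map φ = Y.left.isoSpec.inv ≫ Y.hom := Spec.map_preimage _
  letI : Algebra A Γ(Y.left, ⊤) := φ.hom.toAlgebra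
  refine ⟨Γ(Y.left, ⊤), inferInstance, inferInstance, ?_, ?_, ⟨Over.isoMk Y.left.isoSpec ?_⟩⟩
  · have hfin : IsFinite (Spec.map φ) := by
      rw [hφ]
      infer_instance
    exact (IsFinite.SpecMap_iff φ).mp hfin
  · intro hY
    have het : Etale (Spec.map φ) := by
      rw [hφ]
      infer_instance
    exact (HasRingHomProperty.Spec_iff (P := @Etale)).mp het
  · show Y.left.isoSpec.hom ≫ Spec.map (CommRingCat.ofHom (algebraMap A Γ(Y.left, ⊤))) = Y.hom
    have : CommRingCat.ofHom (algebraMap A Γ(Y.left, ⊤)) = φ := rfl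
    rw [this, hφ, Iso.hom_inv_id_assoc]

theorem bijective_pullback_map (hG : GabberProp A I) (X Y : Over (Spec (CommRingCat.of A)))
    [IsFinite X.hom] [Etale X.hom] [IsFinite Y.hom] :
    Function.Bijective (fun φ : Y ⟶ X =>
      (Over.pullback (Spec.map (CommRingCat.ofHom (Ideal.Quotient.mk I)))).map φ) := by
  obtain ⟨T, _, _, hT, -, ⟨a⟩⟩ := exists_iso_standard Y
  obtain ⟨B₁, _, _, hB, hB', ⟨b⟩⟩ := exists_iso_standard X
  haveI := hT
  haveI := hB' inferInstance
  exact bijective_map_of_iso _ a b (bijective_pullback_map_Spec hG T B₁)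

section Equiv

variable (I)

theorem full_faithful_comp (hG : GabberProp A I) :
    (MorphismProperty.Over.forget FEt.prop.{u} ⊤ (Spec (CommRingCat.of A)) ⋙
      Over.pullback (Spec.map (CommRingCat.ofHom (Ideal.Quotient.mk I)))).Full ∧
    (MorphismProperty.Over.forget FEt.prop.{u} ⊤ (Spec (CommRingCat.of A)) ⋙
      Over.pullback (Spec.map (CommRingCat.ofHom (Ideal.Quotient.mk I)))).Faithful := by
  constructor
  · constructor
    intro U V h
    haveI : IsFinite ((MorphismProperty.Over.forget FEt.prop.{u} ⊤ _).obj V).hom := V.prop.1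
    haveI : Etale ((MorphismProperty.Over.forget FEt.prop.{u} ⊤ _).obj V).hom := V.prop.2
    haveI : IsFinite ((MorphismProperty.Over.forget FEt.prop.{u} ⊤ _).obj U).hom := U.prop.1
    obtain ⟨φ, hφ⟩ := (bijective_pullback_map hG
      ((MorphismProperty.Over.forget FEt.prop.{u} ⊤ _).obj V)
      ((MorphismProperty.Over.forget FEt.prop.{u} ⊤ _).obj U)).2 h
    obtain ⟨f, rfl⟩ := (MorphismProperty.Over.forget FEt.prop.{u} ⊤ _).map_surjective φ
    exact ⟨f, hφ⟩
  · constructor
    intro U V f g h
    haveI : IsFinite ((MorphismProperty.Over.forget FEt.prop.{u} ⊤ _).obj V).hom := V.prop.1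
    haveI : Etale ((MorphismProperty.Over.forget FEt.prop.{u} ⊤ _).obj V).hom := V.prop.2
    haveI : IsFinite ((MorphismProperty.Over.forget FEt.prop.{u} ⊤ _).obj U).hom := U.prop.1
    have h' := (bijective_pullback_map hG
      ((MorphismProperty.Over.forget FEt.prop.{u} ⊤ _).obj V)
      ((MorphismProperty.Over.forget FEt.prop.{u} ⊤ _).obj U)).1 h
    exact (MorphismProperty.Over.forget FEt.prop.{u} ⊤ _).map_injective h'

set_option backward.isDefEq.respectTransparency.types false in
theorem full_restrict (hG : GabberProp A I) :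
    (FEt.restrict (Spec.map (CommRingCat.ofHom (Ideal.Quotient.mk I)))).Full := by
  let e : MorphismProperty.Over.pullback FEt.prop.{u} ⊤
        (Spec.map (CommRingCat.ofHom (Ideal.Quotient.mk I))) ⋙
      MorphismProperty.Over.forget FEt.prop.{u} ⊤ _ ≅
      MorphismProperty.Over.forget FEt.prop.{u} ⊤ _ ⋙
        Over.pullback (Spec.map (CommRingCat.ofHom (Ideal.Quotient.mk I))) :=
    MorphismProperty.Over.pullbackCompForgetIso (P := FEt.prop.{u}) (Q := ⊤) _
  haveI := (full_faithful_comp I hG).1
  haveI : (MorphismProperty.Over.pullback FEt.prop.{u} ⊤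
      (Spec.map (CommRingCat.ofHom (Ideal.Quotient.mk I))) ⋙
      MorphismProperty.Over.forget FEt.prop.{u} ⊤ _).Full := Functor.Full.of_iso e.symm
  exact Functor.Full.of_comp_faithful (MorphismProperty.Over.pullback FEt.prop.{u} ⊤
      (Spec.map (CommRingCat.ofHom (Ideal.Quotient.mk I))))
    (MorphismProperty.Over.forget FEt.prop.{u} ⊤ _)

set_option backward.isDefEq.respectTransparency.types false in
theorem faithful_restrict (hG : GabberProp A I) :
    (FEt.restrict (Spec.map (CommRingCat.ofHom (Ideal.Quotient.mk I)))).Faithful := by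
  let e : MorphismProperty.Over.pullback FEt.prop.{u} ⊤
        (Spec.map (CommRingCat.ofHom (Ideal.Quotient.mk I))) ⋙
      MorphismProperty.Over.forget FEt.prop.{u} ⊤ _ ≅
      MorphismProperty.Over.forget FEt.prop.{u} ⊤ _ ⋙
        Over.pullback (Spec.map (CommRingCat.ofHom (Ideal.Quotient.mk I))) :=
    MorphismProperty.Over.pullbackCompForgetIso (P := FEt.prop.{u}) (Q := ⊤) _
  haveI := (full_faithful_comp I hG).2
  haveI : (MorphismProperty.Over.pullback FEt.prop.{u} ⊤
      (Spec.map (CommRingCat.ofHom (Ideal.Quotient.mk I))) ⋙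
      MorphismProperty.Over.forget FEt.prop.{u} ⊤ _).Faithful := Functor.Faithful.of_iso e.symm
  exact Functor.Faithful.of_comp (MorphismProperty.Over.pullback FEt.prop.{u} ⊤
      (Spec.map (CommRingCat.ofHom (Ideal.Quotient.mk I))))
    (MorphismProperty.Over.forget FEt.prop.{u} ⊤ _)

end Equiv

theorem isPullback_of_mono {C : Type*} [Category C] {P W U S S₀ : C} (a : P ⟶ W) (m : W ⟶ U)
    [Mono m] (y : P ⟶ S₀) (g : U ⟶ S) (i : S₀ ⟶ S) (h : IsPullback (a ≫ m) y g i) :
    IsPullback a y (m ≫ g) i := by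
  have h1 : IsPullback a (𝟙 P) (𝟙 W) a := IsPullback.of_vert_isIso ⟨by simp⟩
  have h2 : IsPullback (𝟙 W) (𝟙 W) m m := IsKernelPair.id_of_mono m
  have h3 := h1.paste_horiz h2
  have h4 : IsPullback a (𝟙 P) m (a ≫ m) := by simpa using h3
  have h5 := h4.paste_vert h
  simpa using h5

end Groth.Agent.Helper1.HS
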