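import Mathlib
import Groth.Agent.Lib.Helper1.HS4

/-!
# Finite étale covers over a henselian pair: essential surjectivity, and the equivalence (helper1)
-/

set_option autoImplicit false
set_option linter.style.haveILetI false

universe u

open CategoryTheory CategoryTheory.Limits AlgebraicGeometry Opposite TensorProduct

namespace Groth.Agent.Helper1.HS

variable (A : Type u) [CommRing A] (I : Ideal A)

set_option backward.isDefEq.respectTransparency.types false in
theorem essSurj_restrict [HenselianRing A I] :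
    (FEt.restrict (Spec.map (CommRingCat.ofHom (Ideal.Quotient.mk I)))).EssSurj := by
  constructor
  intro Y₀
  haveI : IsFinite Y₀.hom := Y₀.prop.1
  haveI : Etale Y₀.hom := Y₀.prop.2
  haveI : IsAffine ((Functor.fromPUnit (Spec (CommRingCat.of (A ⧸ I)))).obj Y₀.right) :=
    inferInstanceAs (IsAffine (Spec (CommRingCat.of (A ⧸ I))))
  haveI : IsAffine Y₀.left := isAffine_of_isAffineHom Y₀.hom
  let C₀ : CommRingCat.{u} := Γ(Y₀.left, ⊤)
  let φ₀ : CommRingCat.of (A ⧸ I) ⟶ C₀ := Spec.preimage (Y₀.left.isoSpec.inv ≫ Y₀.hom)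
  have hφ₀ : Spec.map φ₀ = Y₀.left.isoSpec.inv ≫ Y₀.hom := Spec.map_preimage _
  letI : Algebra (A ⧸ I) C₀ := φ₀.hom.toAlgebra
  haveI : Algebra.Etale (A ⧸ I) C₀ := by
    have het : Etale (Spec.map φ₀) := by
      rw [hφ₀]
      infer_instance
    exact (HasRingHomProperty.Spec_iff (P := @Etale)).mp het
  obtain ⟨R, _, _, hRet, ⟨E⟩⟩ := Groth.Agent.Helper14.EtaleLiftQuot.exists_etale_lift A I C₀
  set i := Spec.map (CommRingCat.ofHom (Ideal.Quotient.mk I)) with hi
  let gR : Spec (CommRingCat.of R) ⟶ Spec (CommRingCat.of A) :=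
    Spec.map (CommRingCat.ofHom (algebraMap A R))
  let π' : CommRingCat.of R ⟶ C₀ := CommRingCat.ofHom
    (E.toRingEquiv.toRingHom.comp
      (Algebra.TensorProduct.includeRight : R →ₐ[A] (A ⧸ I) ⊗[A] R).toRingHom)
  have hpo : IsPushout (CommRingCat.ofHom (algebraMap A (A ⧸ I)))
      (CommRingCat.ofHom (algebraMap A R)) φ₀ π' := by
    refine (CommRingCat.isPushout_tensorProduct A (A ⧸ I) R).of_iso (Iso.refl _) (Iso.refl _)
      (Iso.refl _) E.toRingEquiv.toCommRingCatIso ?_ ?_ ?_ ?_
    · simp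
    · simp
    · rw [Iso.refl_hom, Category.id_comp]
      ext a
      exact E.commutes a
    · rw [Iso.refl_hom, Category.id_comp]
      rfl
  have hpb : IsPullback (Spec.map φ₀) (Spec.map π') i gR :=
    isPullback_SpecMap_of_isPushout _ _ _ _ hpo
  have hpb' : IsPullback (Y₀.left.isoSpec.hom ≫ Spec.map π') Y₀.hom gR i := by
    refine hpb.flip.of_iso Y₀.left.isoSpec.symm (Iso.refl _) (Iso.refl _) (Iso.refl _) ?_ ?_ ?_ ?_
    · simp
    · simp [hφ₀]
    · simp
    · simp
  haveI : Etale gR := (HasRingHomProperty.Spec_iff (P := @Etale)).mpr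
    (RingHom.etale_algebraMap.mpr hRet)
  have hfin : IsFinite (pullback.snd gR i) := by
    have : pullback.snd gR i = hpb'.isoPullback.inv ≫ Y₀.hom := (hpb'.isoPullback_inv_snd).symm
    rw [this]
    infer_instance
  obtain ⟨W, -, hWfin, hW⟩ := main0784 A I gR hfin
  set a' := Y₀.left.isoSpec.hom ≫ Spec.map π' with ha'
  have hrange : Set.range a' ⊆ Set.range W.ι := by
    rw [Scheme.Opens.range_ι]
    rintro _ ⟨z, rfl⟩
    by_contra hz
    apply hW _ hz
    have h1 : gR.base (a'.base z) = i.base (Y₀.hom.base z) :=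
      congrArg (fun k => k.base z) hpb'.w
    rw [h1]
    have h2 : i.base (Y₀.hom.base z) ∈ Set.range i := ⟨_, rfl⟩
    rw [hi, range_SpecMap_mk] at h2
    exact h2
  let a := IsOpenImmersion.lift W.ι a' hrange
  have ha : a ≫ W.ι = a' := IsOpenImmersion.lift_fac _ _ _
  have hpb'' : IsPullback a Y₀.hom (W.ι ≫ gR) i :=
    isPullback_of_mono a W.ι Y₀.hom gR i (ha ▸ hpb')
  have het : Etale (W.ι ≫ gR) := inferInstance
  let Y : FEt.Cat (Spec (CommRingCat.of A)) :=
    MorphismProperty.Over.mk ⊤ (W.ι ≫ gR) ⟨hWfin, het⟩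
  refine ⟨Y, ⟨?_⟩⟩
  exact MorphismProperty.Over.isoMk hpb''.isoPullback.symm hpb''.isoPullback_inv_snd

/-- S0239 -/
theorem main0239 [HenselianRing A I] :
    (FEt.restrict (Spec.map (CommRingCat.ofHom (Ideal.Quotient.mk I)))).IsEquivalence := by
  have hG : GabberProp A I := gabberProp_of_henselianRing
  haveI := full_restrict I hG
  haveI := faithful_restrict I hG
  haveI := essSurj_restrict A I
  exact {}

end Groth.Agent.Helper1.HS
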