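import Groth.Agent.Lib.Helper1.HenselLocal
import Mathlib.RingTheory.Polynomial.UniversalFactorizationRing

set_option autoImplicit false

/-! # Lifting coprime monic factorizations over henselian local rings -/

namespace Groth.Agent.Helper1

open Polynomial IsLocalRing

universe u

/-- Over a henselian local ring, a factorization of the reduction of a monic polynomial into
coprime monic factors lifts. -/
theorem exists_monic_factor_lift (R : Type u) [CommRing R] [HenselianLocalRing R]
    (f : R[X]) (hf : f.Monic) (g₀ h₀ : (ResidueField R)[X]) (hg : g₀.Monic) (hh : h₀.Monic)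
    (hc : IsCoprime g₀ h₀) (hfac : f.map (residue R) = g₀ * h₀) :
    ∃ g h : R[X], f = g * h ∧ g.Monic ∧ h.Monic ∧ g.map (residue R) = g₀ ∧
      h.map (residue R) = h₀ := by
  let m := maximalIdeal R
  let ι : ResidueField R →+* m.ResidueField := algebraMap (R ⧸ m) m.ResidueField
  have hι : Function.Bijective ι := Ideal.bijective_algebraMap_quotient_residueField m
  have hιres : algebraMap R m.ResidueField = ι.comp (residue R) :=
    IsScalarTower.algebraMap_eq R (R ⧸ m) m.ResidueField
  obtain ⟨R', _, _, _, Q, _, _, G', H', hbij, hG', hH', hfac', -, hG'map, hH'map⟩ :=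
    Algebra.exists_etale_bijective_residueFieldMap_and_map_eq_mul_and_isCoprime m f
      (g₀.map ι) (h₀.map ι) hf (hg.map _) (hh.map _)
      (by rw [hιres, ← Polynomial.map_map, hfac, Polynomial.map_mul]) (hc.map (mapRingHom ι))
  set ρ := Ideal.ResidueField.mapₐ m Q (Algebra.ofId R R') (Ideal.over_def Q m) with hρ
  let E : ResidueField R ≃+* Q.ResidueField :=
    RingEquiv.ofBijective (ρ.toRingHom.comp ι) (hbij.comp hι)
  have hE : ∀ r : R, E (residue R r) = algebraMap R Q.ResidueField r := by
    intro r
    change ρ (ι (residue R r)) = _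
    have : ι (residue R r) = algebraMap R m.ResidueField r := by rw [hιres]; rfl
    rw [this, AlgHom.commutes]
  let ψ : R' →ₐ[R] ResidueField R :=
    { toRingHom := E.symm.toRingHom.comp (algebraMap R' Q.ResidueField)
      commutes' := fun r ↦ by
        change E.symm (algebraMap R' Q.ResidueField (algebraMap R R' r)) = _
        rw [← IsScalarTower.algebraMap_apply R R' Q.ResidueField, ← hE, RingEquiv.symm_apply_apply]
        rfl }
  obtain ⟨σ, hσ, -⟩ := existsUnique_algHom_of_etale (S := R) ψ
  have hσ' : (residue R).comp σ.toRingHom =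
      E.symm.toRingHom.comp (algebraMap R' Q.ResidueField) := RingHom.ext hσ
  have hEρ : (E.symm.toRingHom.comp ρ.toRingHom).comp ι = RingHom.id _ := by
    ext x
    change E.symm (E x) = x
    simp
  have key : ∀ (p₀ : (ResidueField R)[X]) (p' : R'[X]),
      (p₀.map ι).map ρ.toRingHom = p'.map (algebraMap R' Q.ResidueField) →
      (p'.map σ.toRingHom).map (residue R) = p₀ := by
    intro p₀ p' hp
    rw [Polynomial.map_map, hσ', ← Polynomial.map_map, ← hp, Polynomial.map_map,
      Polynomial.map_map, hEρ, Polynomial.map_id]
  refine ⟨G'.map σ.toRingHom, H'.map σ.toRingHom, ?_, hG'.map _, hH'.map _, key _ _ hG'map,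
    key _ _ hH'map⟩
  rw [← Polynomial.map_mul, ← hfac', Polynomial.map_map]
  have : σ.toRingHom.comp (algebraMap R R') = RingHom.id R := by
    ext r; simp
  rw [this, Polynomial.map_id]

end Groth.Agent.Helper1
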