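import Groth.Agent.Lib.Helper1.HenselLocal
import Groth.Agent.Lib.Helper1.HenselFinite
import Groth.Agent.S0505
import Mathlib.RingTheory.Unramified.LocalRing

set_option autoImplicit false

/-! # Maps from étale algebras to finite unramified algebras over a henselian local ring -/

namespace Groth.Agent.Helper1

open IsLocalRing

universe u v w

/-- For a finite local algebra `T` over a local ring `R`, the structure map is local. -/
theorem isLocalHom_algebraMap_of_finite (R : Type*) [CommRing R] [IsLocalRing R]
    (T : Type*) [CommRing T] [IsLocalRing T] [Algebra R T] [Module.Finite R T] :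
    IsLocalHom (algebraMap R T) := by
  have h1 := Ideal.isMaximal_comap_of_isIntegral_of_isMaximal (R := R) (maximalIdeal T)
  have h2 : (maximalIdeal T).comap (algebraMap R T) = maximalIdeal R := eq_maximalIdeal h1
  exact ((local_hom_TFAE (algebraMap R T)).out 0 4).mpr h2

/-- Over a henselian local ring `R`, maps from an étale algebra `A` to a finite unramified algebra
`T` correspond bijectively to maps from `A` to `T / 𝔪T`. -/
theorem bijective_comp_of_finite_of_etale (R : Type u) [CommRing R] [HenselianLocalRing R]
    (A : Type v) [CommRing A] [Algebra R A] [Algebra.Etale R A]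
    (T : Type u) [CommRing T] [Algebra R T] [Module.Finite R T] [Algebra.FormallyUnramified R T]
    (T' : Type w) [CommRing T'] [Algebra R T'] (q : T →ₐ[R] T') (hq : Function.Surjective q)
    (hker : RingHom.ker q.toRingHom = (maximalIdeal R).map (algebraMap R T)) :
    Function.Bijective (fun f : A →ₐ[R] T ↦ q.comp f) := by
  classical
  obtain ⟨hfin, e, he, -, hloc⟩ := exists_completeOrthogonalIdempotents_forall_isLocalRing R T
  -- the local factors
  let Tn : MaximalSpectrum T → Type u := fun n ↦ T ⧸ Ideal.span ({1 - e n} : Set T)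
  let π : ∀ n, T →ₐ[R] Tn n := fun n ↦ Ideal.Quotient.mkₐ R _
  have hπ : ∀ n, Function.Surjective (π n) := fun n ↦ Ideal.Quotient.mkₐ_surjective R _
  have hTloc : ∀ n, IsLocalRing (Tn n) := hloc
  have hTfin : ∀ n, Module.Finite R (Tn n) := fun n ↦
    Module.Finite.of_surjective (π n).toLinearMap (hπ n)
  have hTunr : ∀ n, Algebra.FormallyUnramified R (Tn n) := fun n ↦
    have : Algebra.FormallyUnramified T (Tn n) := .quotient _
    .comp R T _
  have hThens : ∀ n, HenselianLocalRing (Tn n) := fun n ↦ Groth.Agent.S0505.result R (Tn n)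
  have hTlochom : ∀ n, IsLocalHom (algebraMap R (Tn n)) := fun n ↦
    isLocalHom_algebraMap_of_finite R (Tn n)
  have hTmax : ∀ n, (maximalIdeal R).map (algebraMap R (Tn n)) = maximalIdeal (Tn n) := fun n ↦
    Algebra.FormallyUnramified.map_maximalIdeal
  -- elements of `𝔪T` go to the maximal ideal of the factors
  have hmT : ∀ n, ∀ x ∈ (maximalIdeal R).map (algebraMap R T), π n x ∈ maximalIdeal (Tn n) := by
    intro n x hx
    rw [← hTmax n, IsScalarTower.algebraMap_eq R T (Tn n), ← Ideal.map_map]
    exact Ideal.mem_map_of_mem _ hx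
  -- conversely
  have hmT' : ∀ x : T, (∀ n, π n x ∈ maximalIdeal (Tn n)) →
      x ∈ (maximalIdeal R).map (algebraMap R T) := by
    intro x hx
    have h1 : ∀ n, e n * x ∈ (maximalIdeal R).map (algebraMap R T) := by
      intro n
      have h2 := hx n
      rw [← hTmax n, IsScalarTower.algebraMap_eq R T (Tn n), ← Ideal.map_map] at h2
      have h3 : x ∈ (maximalIdeal R).map (algebraMap R T) ⊔ Ideal.span ({1 - e n} : Set T) :=
        Ideal.mem_quotient_iff_mem_sup.mp h2
      obtain ⟨j, hj, c, hc, rfl⟩ := Submodule.mem_sup.mp h3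
      obtain ⟨c, rfl⟩ := Ideal.mem_span_singleton'.mp hc
      have : e n * (j + c * (1 - e n)) = e n * j := by
        have := (he.idem n).eq
        linear_combination (-c) * this
      rw [this]
      exact Ideal.mul_mem_left _ _ hj
    have h2 : x = ∑ n, e n * x := by rw [← Finset.sum_mul, he.complete, one_mul]
    rw [h2]
    exact Ideal.sum_mem _ fun n _ ↦ h1 n
  have hinj : ∀ x y : T, (∀ n, π n x = π n y) → x = y := by
    intro x y h
    apply he.bijective_pi.1
    funext n
    exact h n
  let res : ∀ n, Tn n →ₐ[R] ResidueField (Tn n) := fun n ↦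
    IsScalarTower.toAlgHom R (Tn n) (ResidueField (Tn n))
  constructor
  · intro f f' h
    have h' : ∀ a, f a - f' a ∈ (maximalIdeal R).map (algebraMap R T) := by
      intro a
      rw [← hker, RingHom.mem_ker, map_sub, sub_eq_zero]
      exact DFunLike.congr_fun h a
    apply AlgHom.ext
    intro a
    apply hinj
    intro n
    obtain ⟨g, -, hg⟩ := existsUnique_algHom_of_etale (S := Tn n) (((res n).comp (π n)).comp f)
    have h1 : (π n).comp f = g := hg _ fun a ↦ rfl
    have h2 : (π n).comp f' = g := hg _ fun a ↦ by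
      have h3 := hmT n _ (h' a)
      rw [← residue_eq_zero_iff, map_sub, map_sub, sub_eq_zero] at h3
      exact h3.symm
    exact DFunLike.congr_fun (h1.trans h2.symm) a
  · intro ψ
    have hH : ∀ n, RingHom.ker q.toRingHom ≤ RingHom.ker ((res n).comp (π n)).toRingHom := by
      intro n x hx
      rw [hker] at hx
      rw [RingHom.mem_ker]
      exact (residue_eq_zero_iff _).mpr (hmT n x hx)
    let ρ : ∀ n, T' →ₐ[R] ResidueField (Tn n) := fun n ↦
      AlgHom.liftOfSurjective q hq ((res n).comp (π n)) (hH n)
    choose f hf using fun n ↦ (existsUnique_algHom_of_etale (S := Tn n) ((ρ n).comp ψ)).exists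
    let E : T ≃ₐ[R] (∀ n, Tn n) := AlgEquiv.ofBijective (AlgHom.pi π) he.bijective_pi
    refine ⟨(E.symm : (∀ n, Tn n) →ₐ[R] T).comp (AlgHom.pi f), ?_⟩
    apply AlgHom.ext
    intro a
    obtain ⟨t, ht⟩ := hq (ψ a)
    change q (E.symm (AlgHom.pi f a)) = ψ a
    rw [← ht, ← sub_eq_zero, ← map_sub]
    change _ ∈ RingHom.ker q.toRingHom
    rw [hker]
    apply hmT'
    intro n
    have h1 : π n (E.symm (AlgHom.pi f a)) = f n a := by
      have : E (E.symm (AlgHom.pi f a)) n = f n a := by rw [AlgEquiv.apply_symm_apply]; rfl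
      exact this
    rw [map_sub, h1, ← residue_eq_zero_iff, map_sub, hf n a, sub_eq_zero]
    change ρ n (ψ a) = _
    rw [← ht]
    exact AlgHom.liftOfSurjective_apply q hq _ (hH n) t

end Groth.Agent.Helper1
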