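import Groth.Agent.Lib.Helper1.HenselFinite
import Mathlib.RingTheory.Etale.StandardEtale
import Mathlib.RingTheory.Etale.Field
import Mathlib.FieldTheory.PrimitiveElement
import Mathlib.RingTheory.TensorProduct.Pi

set_option autoImplicit false

/-! # Lifting finite étale algebras from the residue field -/

namespace Groth.Agent.Helper1

open IsLocalRing Polynomial TensorProduct

universe u v

/-- `R[X]/(G)` is étale over `R` if `G` is monic and separable. -/
theorem etale_adjoinRoot_of_isCoprime {R : Type*} [CommRing R] (G : R[X]) (hG : G.Monic)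
    (h : IsCoprime G (derivative G)) : Algebra.Etale R (AdjoinRoot G) := by
  obtain ⟨a, b, hab⟩ := h
  let P : StandardEtalePair R := ⟨G, hG, 1, ⟨b, a, 0, by rw [pow_zero, ← hab]; ring⟩⟩
  have h1 : IsUnit (AdjoinRoot.mk G (1 : R[X])) := by rw [map_one]; exact isUnit_one
  let e₁ : AdjoinRoot G ≃ₐ[R] Localization.Away (AdjoinRoot.mk G (1 : R[X])) :=
    (IsLocalization.atUnit (AdjoinRoot G) (Localization.Away (AdjoinRoot.mk G (1 : R[X])))
      (AdjoinRoot.mk G (1 : R[X])) h1).restrictScalars R
  exact Algebra.Etale.of_equiv (e₁.trans P.equivAwayAdjoinRoot.symm).symm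

/-- Base change of `R[X]/(G)`. -/
noncomputable def tensorAdjoinRootEquiv {R : Type*} [CommRing R] (K : Type*) [CommRing K]
    [Algebra R K] (G : R[X]) :
    K ⊗[R] AdjoinRoot G ≃ₐ[K] AdjoinRoot (G.map (algebraMap R K)) :=
  (AdjoinRoot.tensorAlgEquiv (T := K) G _ rfl).trans
    (AdjoinRoot.mapAlgEquiv (Algebra.TensorProduct.rid R K K) _ _ (by
      rw [Polynomial.map_map]
      have : (RingHomClass.toRingHom (Algebra.TensorProduct.rid R K K)).comp
          (Algebra.TensorProduct.includeRight (R := R) (A := K) (B := R)).toRingHom =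
          algebraMap R K := by
        ext r
        simp [Algebra.algebraMap_eq_smul_one]
      rw [this]))

/-- A finite separable extension of the residue field of a local ring is the base change of
`R[X]/(G)` for a monic separable `G`. -/
theorem exists_monic_lift_of_isSeparable (R : Type u) [CommRing R] [IsLocalRing R]
    (L : Type v) [Field L] [Algebra (ResidueField R) L] [Module.Finite (ResidueField R) L]
    [Algebra.IsSeparable (ResidueField R) L] :
    ∃ G : R[X], G.Monic ∧ IsCoprime G (derivative G) ∧
      Nonempty (ResidueField R ⊗[R] AdjoinRoot G ≃ₐ[ResidueField R] L) := by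
  let K := ResidueField R
  let pb := Field.powerBasisOfFiniteOfSeparable K L
  obtain ⟨g, hgdef⟩ : ∃ g : K[X], g = minpoly K pb.gen := ⟨_, rfl⟩
  have hg : g.Monic := hgdef ▸ minpoly.monic (Algebra.IsSeparable.isIntegral K pb.gen)
  have hgsep : g.Separable := hgdef ▸ Algebra.IsSeparable.isSeparable K pb.gen
  have hglifts : g ∈ Polynomial.lifts (residue R) := by
    obtain ⟨G, hG⟩ := Polynomial.map_surjective (residue R) residue_surjective g
    exact (Polynomial.mem_lifts g).mpr ⟨G, hG⟩
  obtain ⟨G, hGmap, -, hGmonic⟩ := Polynomial.lifts_and_natDegree_eq_and_monic hglifts hg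
  have hcop : IsCoprime G (derivative G) :=
    isCoprime_of_isCoprime_map_residue hGmonic (by
      rw [← derivative_map, hGmap]; exact hgsep)
  have hGmap' : G.map (algebraMap R K) = g := hGmap
  have h₁ : aeval (AdjoinRoot.root g) (minpoly K pb.gen) = 0 := by
    rw [← hgdef, AdjoinRoot.aeval_eq, AdjoinRoot.mk_self]
  have h₂ : aeval pb.gen g = 0 := by rw [hgdef]; exact minpoly.aeval K pb.gen
  exact ⟨G, hGmonic, hcop, ⟨(tensorAdjoinRootEquiv K G).trans
    ((AdjoinRoot.algEquivOfEq K _ g hGmap').trans (AdjoinRoot.equiv' g pb h₁ h₂))⟩⟩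

/-- Every finite étale algebra over the residue field of a local ring `R` is the base change of a
finite étale `R`-algebra. -/
theorem exists_finite_etale_lift (R : Type u) [CommRing R] [IsLocalRing R]
    (A : Type u) [CommRing A] [Algebra (ResidueField R) A] [Module.Finite (ResidueField R) A]
    [Algebra.Etale (ResidueField R) A] :
    ∃ (S : Type u) (_ : CommRing S) (_ : Algebra R S), Module.Finite R S ∧ Algebra.Etale R S ∧
      Nonempty (ResidueField R ⊗[R] S ≃ₐ[ResidueField R] A) := by
  classical
  obtain ⟨I, hI, Ai, hfield, halg, e, hAi⟩ :=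
    (Algebra.Etale.iff_exists_algEquiv_prod (ResidueField R) A).mp inferInstance
  have := Fintype.ofFinite I
  choose G hGm hGc hGe using fun i ↦
    have := (hAi i).1
    have := (hAi i).2
    exists_monic_lift_of_isSeparable R (Ai i)
  have : ∀ i, Module.Finite R (AdjoinRoot (G i)) := fun i ↦ (hGm i).finite_adjoinRoot
  have : ∀ i, Algebra.Etale R (AdjoinRoot (G i)) := fun i ↦
    etale_adjoinRoot_of_isCoprime _ (hGm i) (hGc i)
  refine ⟨∀ i, AdjoinRoot (G i), inferInstance, inferInstance, inferInstance, inferInstance, ⟨?_⟩⟩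
  exact (Algebra.TensorProduct.piRight R (ResidueField R) (ResidueField R) _).trans
    ((AlgEquiv.piCongrRight fun i ↦ (hGe i).some).trans e.symm)

end Groth.Agent.Helper1
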