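import Groth.Agent.Lib.Helper1.HenselLocal
import Mathlib.RingTheory.Etale.Field
import Mathlib.FieldTheory.IsSepClosed

set_option autoImplicit false

/-! # Étale algebras over strictly henselian local rings -/

namespace Groth.Agent.Helper1

open IsLocalRing TensorProduct

universe u v w

section Factor

variable {R : Type u} [CommRing R] [IsLocalRing R] [IsSepClosed (ResidueField R)]
  {A : Type v} [CommRing A] [Algebra R A] [Algebra.Etale R A]
  {L : Type w} [Field L] [Algebra R L] [Algebra (ResidueField R) L]
  [IsScalarTower R (ResidueField R) L]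

/-- An `R`-algebra map from an étale `R`-algebra to a field extension `L` of the separably closed
residue field of `R` factors through the residue field. -/
theorem exists_algHom_residueField_comp (ψ : A →ₐ[R] L) :
    ∃ ψ₀ : A →ₐ[R] ResidueField R, ∀ a, algebraMap (ResidueField R) L (ψ₀ a) = ψ a := by
  let K := ResidueField R
  let B := K ⊗[R] A
  let ψ' : B →ₐ[K] L := Algebra.TensorProduct.lift (Algebra.ofId K L) ψ fun _ _ ↦ .all _ _
  obtain ⟨p, hpdef⟩ : ∃ p : Ideal B, p = RingHom.ker (ψ' : B →+* L) := ⟨_, rfl⟩
  have hp : p.IsPrime := hpdef ▸ RingHom.ker_isPrime _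
  have : Module.Finite K B := Algebra.FormallyUnramified.finite_of_free K B
  have : IsArtinianRing B := isArtinian_of_tower K inferInstance
  have hpmax : p.IsMaximal := IsArtinianRing.isMaximal_of_isPrime p
  let _ : Field (B ⧸ p) := Ideal.Quotient.field p
  have hsep : Algebra.IsSeparable K (B ⧸ p) := inferInstance
  have hbij : Function.Bijective (algebraMap K (B ⧸ p)) := IsSepClosed.algebraMap_bijective _ _
  let e : K ≃ₐ[K] (B ⧸ p) := AlgEquiv.ofBijective (Algebra.ofId K (B ⧸ p)) hbij
  let ψ₀ : A →ₐ[R] K :=
    ((e.symm.toAlgHom.comp (Ideal.Quotient.mkₐ K p)).restrictScalars R).comp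
      Algebra.TensorProduct.includeRight
  refine ⟨ψ₀, fun a ↦ ?_⟩
  -- the induced map `B ⧸ p → L`
  have hker : ∀ b ∈ p, ψ' b = 0 := fun b hb ↦ by
    rw [hpdef, RingHom.mem_ker] at hb; exact hb
  let χ : B ⧸ p →ₐ[K] L := Ideal.Quotient.liftₐ p ψ' hker
  have h1 : χ (e (ψ₀ a)) = ψ a := by
    have : e (ψ₀ a) = Ideal.Quotient.mk p ((1 : K) ⊗ₜ[R] a) := by
      simp [ψ₀]
      rfl
    rw [this]
    change ψ' ((1 : K) ⊗ₜ[R] a) = ψ a
    simp only [ψ']
    rw [Algebra.TensorProduct.lift_tmul, map_one, one_mul]
  rw [← h1]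
  change _ = χ (algebraMap K (B ⧸ p) (ψ₀ a))
  rw [AlgHom.commutes]

end Factor

section Bij

variable (R : Type u) [CommRing R] [HenselianLocalRing R] [IsSepClosed (ResidueField R)]
  (S : Type v) [CommRing S] [HenselianLocalRing S] [Algebra R S] [IsLocalHom (algebraMap R S)]
  (A : Type w) [CommRing A] [Algebra R A] [Algebra.Etale R A]

/-- For a local homomorphism `R → S` from a strictly henselian local ring to a henselian local ring
and an étale `R`-algebra `A`, composition with `R → S` is a bijection from sections `A → R` to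
`R`-algebra maps `A → S`. -/
theorem bijective_ofId_comp_of_etale :
    Function.Bijective (fun f : A →ₐ[R] R ↦ (Algebra.ofId R S).comp f) := by
  constructor
  · intro f f' h
    have h' : ∀ a, algebraMap R S (f a) = algebraMap R S (f' a) := fun a ↦ DFunLike.congr_fun h a
    let ψ : A →ₐ[R] ResidueField R := (IsScalarTower.toAlgHom R R (ResidueField R)).comp f
    obtain ⟨g, -, hg⟩ := existsUnique_algHom_of_etale (S := R) ψ
    have hf : f = g := hg f fun a ↦ rfl
    have hf' : f' = g := hg f' fun a ↦ by
      apply (algebraMap (ResidueField R) (ResidueField S)).injective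
      change algebraMap _ _ (residue R (f' a)) = algebraMap _ _ (residue R (f a))
      rw [ResidueField.algebraMap_residue, ResidueField.algebraMap_residue, h' a]
    rw [hf, hf']
  · intro g
    let ψ : A →ₐ[R] ResidueField S := (IsScalarTower.toAlgHom R S (ResidueField S)).comp g
    obtain ⟨ψ₀, hψ₀⟩ := exists_algHom_residueField_comp ψ
    obtain ⟨f, hf, -⟩ := existsUnique_algHom_of_etale (S := R) ψ₀
    refine ⟨f, ?_⟩
    obtain ⟨g', -, hg'⟩ := existsUnique_algHom_of_etale (S := S) ψ
    have h1 : (Algebra.ofId R S).comp f = g' := hg' _ fun a ↦ by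
      change residue S (algebraMap R S (f a)) = ψ a
      rw [← ResidueField.algebraMap_residue, hf, hψ₀]
    have h2 : g = g' := hg' g fun a ↦ rfl
    change (Algebra.ofId R S).comp f = g
    rw [h1, h2]

end Bij

end Groth.Agent.Helper1
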