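import Groth.Agent.Lib.Helper1.HenselQF

set_option autoImplicit false

/-! # Splitting off the finite part of a polynomial over a henselian local ring -/

namespace Groth.Agent.Helper1

open Polynomial IsLocalRing TensorProduct

universe u

/-- The fibre of `R[X]/(f)` over a field `K` in which `f` does not vanish is finite. -/
lemma finite_tensor_adjoinRoot {R : Type*} [CommRing R] (f : R[X]) (K : Type*) [Field K]
    [Algebra R K] (hf : f.map (algebraMap R K) ≠ 0) : Module.Finite K (K ⊗[R] AdjoinRoot f) := by
  set t : K ⊗[R] AdjoinRoot f := 1 ⊗ₜ AdjoinRoot.root f with ht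
  have haeval : ∀ p : R[X], aeval t p = 1 ⊗ₜ AdjoinRoot.mk f p := by
    intro p
    have := aeval_algHom_apply (Algebra.TensorProduct.includeRight (R := R) (A := K)
      (B := AdjoinRoot f)) (AdjoinRoot.root f) p
    rw [AdjoinRoot.aeval_eq] at this
    exact this
  have htint : IsIntegral K t := by
    refine IsAlgebraic.isIntegral ⟨f.map (algebraMap R K), hf, ?_⟩
    rw [aeval_map_algebraMap, haeval, AdjoinRoot.mk_self, tmul_zero]
  have htop : Algebra.adjoin K {t} = ⊤ := by
    rw [eq_top_iff]
    rintro x -
    induction x with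
    | zero => exact zero_mem _
    | add x y hx hy => exact add_mem hx hy
    | tmul a b =>
      obtain ⟨p, rfl⟩ := AdjoinRoot.mk_surjective b
      have : a ⊗ₜ[R] AdjoinRoot.mk f p = a • aeval t (p.map (algebraMap R K)) := by
        rw [aeval_map_algebraMap, haeval, smul_tmul', smul_eq_mul, mul_one]
      rw [this]
      exact Subalgebra.smul_mem _ (aeval_mem_adjoin_singleton _ _) _
  refine ⟨?_⟩
  rw [← Algebra.top_toSubmodule, ← htop]
  exact htint.fg_adjoin_singleton

/-- If the fibre through a prime is finite over the residue field, then the algebra is quasi-finite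
at that prime. -/
lemma quasiFiniteAt_of_finite_fiber {R S : Type*} [CommRing R] [CommRing S] [Algebra R S]
    [Algebra.FiniteType R S] (p : Ideal R) [p.IsPrime] (q : Ideal S) [q.IsPrime] [q.LiesOver p]
    [Module.Finite p.ResidueField (p.Fiber S)] : Algebra.QuasiFiniteAt R q := by
  let Q := PrimeSpectrum.primesOverOrderIsoFiber R S p ⟨q, ‹_›, ‹_›⟩
  have hQ : Q.asIdeal.comap Algebra.TensorProduct.includeRight.toRingHom = q := by
    have := (PrimeSpectrum.primesOverOrderIsoFiber R S p).symm_apply_apply ⟨q, ‹_›, ‹_›⟩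
    exact congr_arg Subtype.val this
  exact Algebra.QuasiFiniteAt.of_quasiFiniteAt_residueField p q Q.asIdeal hQ

/-- In an algebra that is finite over a local ring, elements congruent to one modulo the maximal
ideal are units. -/
lemma isUnit_of_sub_one_mem_map_maximalIdeal {R C : Type*} [CommRing R] [IsLocalRing R]
    [CommRing C] [Algebra R C] [Module.Finite R C] (x : C)
    (hx : x - 1 ∈ (maximalIdeal R).map (algebraMap R C)) : IsUnit x := by
  have hle : (⊤ : Submodule R C) ≤
      (Ideal.span {x}).restrictScalars R ⊔ maximalIdeal R • (⊤ : Submodule R C) := by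
    intro y _
    have hy : y = y * x - y * (x - 1) := by ring
    rw [hy]
    refine Submodule.sub_mem _ (Submodule.mem_sup_left ?_) (Submodule.mem_sup_right ?_)
    · change _ ∈ Ideal.span {x}
      exact Ideal.mul_mem_left _ _ (Ideal.mem_span_singleton_self x)
    · rw [Ideal.smul_top_eq_map]
      exact Ideal.mul_mem_left _ _ hx
  have := Submodule.le_of_le_smul_of_le_jacobson_bot Module.Finite.fg_top
    (IsLocalRing.maximalIdeal_le_jacobson _) hle
  have h1 : (1 : C) ∈ Ideal.span {x} := this trivial
  obtain ⟨y, hy⟩ := Ideal.mem_span_singleton'.mp h1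
  exact IsUnit.of_mul_eq_one y (by rw [mul_comm]; exact hy)

lemma adjoinRoot_map_mk {R S : Type*} [CommRing R] [CommRing S] (i : R →+* S) (p : R[X])
    (q : S[X]) (h : q ∣ p.map i) (g : R[X]) :
    AdjoinRoot.map i p q h (AdjoinRoot.mk p g) = AdjoinRoot.mk q (g.map i) := by
  induction g using Polynomial.induction_on with
  | C r => simp
  | add a b ha hb => rw [map_add, map_add, ha, hb, Polynomial.map_add, map_add]
  | monomial n r _ =>
    simp only [map_mul, map_pow, AdjoinRoot.mk_C, AdjoinRoot.mk_X, AdjoinRoot.map_of,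
      AdjoinRoot.map_root, Polynomial.map_mul, Polynomial.map_pow, Polynomial.map_C,
      Polynomial.map_X]

/-- Over a henselian local ring, a polynomial with nonzero reduction is the product of a monic
polynomial and a polynomial whose reduction is a nonzero constant. -/
theorem exists_monic_mul_eq_of_map_ne_zero (R : Type u) [CommRing R] [HenselianLocalRing R]
    (f : R[X]) (hf : f.map (residue R) ≠ 0) :
    ∃ p q : R[X], p.Monic ∧ f = p * q ∧
      ∃ c : ResidueField R, c ≠ 0 ∧ q.map (residue R) = C c := by
  classical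
  set fb := f.map (residue R) with hfb
  set k := fb.natDegree with hk
  set J : Ideal (AdjoinRoot f) := (maximalIdeal R).map (algebraMap R (AdjoinRoot f)) with hJ
  obtain ⟨e, he, hefg, hq⟩ := exists_isIdempotentElem_fg_of_finiteType R (AdjoinRoot f)
  have he0 : e * (1 - e) = 0 := by rw [mul_sub, mul_one, he.eq, sub_self]
  have hfibfin : Module.Finite (maximalIdeal R).ResidueField
      ((maximalIdeal R).Fiber (AdjoinRoot f)) := by
    apply finite_tensor_adjoinRoot
    intro h0
    apply hf
    let ι : ResidueField R →+* (maximalIdeal R).ResidueField :=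
      algebraMap (R ⧸ maximalIdeal R) (maximalIdeal R).ResidueField
    have hι : algebraMap R (maximalIdeal R).ResidueField = ι.comp (residue R) :=
      IsScalarTower.algebraMap_eq R (R ⧸ maximalIdeal R) (maximalIdeal R).ResidueField
    rw [hι, ← Polynomial.map_map] at h0
    exact (Polynomial.map_eq_zero_iff ι.injective).mp h0
  -- (i) the complement of `e` has empty closed fibre
  have hJe : J ⊔ Ideal.span {e} = ⊤ := by
    by_contra hne
    obtain ⟨M, hM, hle⟩ := Ideal.exists_le_maximal _ hne
    have hMprime := hM.isPrime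
    have hJM : J ≤ M := le_sup_left.trans hle
    have heM : Ideal.span {e} ≤ M := le_sup_right.trans hle
    have hMlies : M.LiesOver (maximalIdeal R) :=
      ⟨(maximalIdeal.isMaximal R).eq_of_le (Ideal.comap_ne_top _ hM.ne_top)
        (Ideal.map_le_iff_le_comap.mp hJM)⟩
    have hMqf : Algebra.QuasiFiniteAt R M := quasiFiniteAt_of_finite_fiber (maximalIdeal R) M
    set Mbar : Ideal (AdjoinRoot f ⧸ Ideal.span {e}) := M.map (Ideal.Quotient.mk _) with hMbar
    have hcomap : Mbar.comap (Ideal.Quotient.mk _) = M := by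
      rw [hMbar, Ideal.comap_map_of_surjective _ Ideal.Quotient.mk_surjective,
        ← RingHom.ker_eq_comap_bot, Ideal.mk_ker, sup_eq_left.mpr heM]
    have hMbarprime : Mbar.IsPrime :=
      Ideal.map_isPrime_of_surjective Ideal.Quotient.mk_surjective (by rw [Ideal.mk_ker]; exact heM)
    have hMbarlies : Mbar.LiesOver (maximalIdeal R) := by
      constructor
      have : Mbar.under R = (Mbar.comap (Ideal.Quotient.mk _)).under R := by
        rw [Ideal.under, Ideal.under, Ideal.comap_comap]; rfl
      rw [this, hcomap]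
      exact hMlies.over
    have hMbarqf : Algebra.QuasiFiniteAt R Mbar :=
      Algebra.QuasiFiniteAt.of_surjectiveOnStalks M (Ideal.Quotient.mkₐ R _)
        (RingHom.surjectiveOnStalks_of_surjective Ideal.Quotient.mk_surjective) Mbar hcomap.symm
    exact hq Mbar hMbarlies hMbarqf
  obtain ⟨j, hj, y', hy', hjy⟩ := Submodule.mem_sup.mp
    (hJe ▸ Submodule.mem_top : (1 : AdjoinRoot f) ∈ J ⊔ Ideal.span {e})
  obtain ⟨y, rfl⟩ := Ideal.mem_span_singleton'.mp hy'
  have h1e : 1 - e ∈ J := by
    have : 1 - e = (1 - e) * j := by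
      linear_combination (-(1 - e)) * hjy + y * he0
    rw [this]; exact J.mul_mem_left _ hj
  -- (iii) Nakayama
  let L : R[X] →ₗ[R] AdjoinRoot f :=
    (LinearMap.mulLeft R e).comp (AdjoinRoot.mkₐ f).toLinearMap
  have hL : ∀ g, L g = e * AdjoinRoot.mk f g := fun _ ↦ rfl
  set N : Submodule R (AdjoinRoot f) := Submodule.map L (degreeLT R k) with hN
  set eA : Submodule R (AdjoinRoot f) := (Ideal.span {e}).restrictScalars R with heA
  have hJeA : ∀ j' ∈ J, e * j' ∈ maximalIdeal R • eA := by
    intro j' hj'
    have hj'' : j' ∈ maximalIdeal R • (⊤ : Submodule R (AdjoinRoot f)) := by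
      rw [Ideal.smul_top_eq_map]; exact hj'
    refine Submodule.smul_induction_on (p := fun j' ↦ e * j' ∈ maximalIdeal R • eA) hj'' ?_ ?_
    · intro r hr c _
      rw [mul_smul_comm]
      exact Submodule.smul_mem_smul hr
        (Ideal.mul_mem_right _ _ (Ideal.mem_span_singleton_self e))
    · intro x z hx hz
      rw [mul_add]
      exact add_mem hx hz
  have hle : eA ≤ N ⊔ maximalIdeal R • eA := by
    intro x hx
    obtain ⟨x, rfl⟩ := Ideal.mem_span_singleton'.mp hx
    obtain ⟨g, rfl⟩ := AdjoinRoot.mk_surjective x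
    obtain ⟨s, hs⟩ := Polynomial.map_surjective (residue R) residue_surjective
      (g.map (residue R) / fb)
    obtain ⟨r, hr, hrdeg⟩ := exists_degree_eq_of_mem_lifts
      ((mem_lifts _).mpr (Polynomial.map_surjective (residue R) residue_surjective
        (g.map (residue R) % fb)))
    have hrk : r ∈ degreeLT R k := by
      rw [mem_degreeLT, hrdeg, hk, ← degree_eq_natDegree hf]
      exact degree_mod_lt _ hf
    have h0 : (g - f * s - r).map (residue R) = 0 := by
      rw [Polynomial.map_sub, Polynomial.map_sub, Polynomial.map_mul, hs, hr, ← hfb]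
      have := EuclideanDomain.div_add_mod (g.map (residue R)) fb
      linear_combination -this
    have h3 := mk_mem_map_maximalIdeal_of_map_eq_zero f _ h0
    have h4 : AdjoinRoot.mk f g * e = L r + e * AdjoinRoot.mk f (g - f * s - r) := by
      rw [hL]
      simp only [map_sub, map_mul, AdjoinRoot.mk_self, zero_mul, sub_zero]
      ring
    rw [h4]
    exact Submodule.add_mem_sup (Submodule.mem_map_of_mem hrk) (hJeA _ h3)
  have hNak : eA ≤ N := Submodule.le_of_le_smul_of_le_jacobson_bot hefg
    (IsLocalRing.maximalIdeal_le_jacobson _) hle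
  obtain ⟨r, hrk, hr⟩ := hNak (show e * AdjoinRoot.mk f (X ^ k) ∈ eA from
    Ideal.mul_mem_right _ _ (Ideal.mem_span_singleton_self e))
  rw [SetLike.mem_coe, mem_degreeLT] at hrk
  have hpmonic : (X ^ k - r).Monic := monic_X_pow_sub hrk
  set p := X ^ k - r with hp
  have hep : e * AdjoinRoot.mk f p = 0 := by
    rw [hp, map_sub, mul_sub, ← hL r, hr, sub_self]
  have hpk : p.natDegree = k := by
    rw [hp]
    have : degree (X ^ k - r) = degree (X ^ k : R[X]) :=
      degree_sub_eq_left_of_degree_lt (by rwa [degree_X_pow])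
    rw [natDegree_eq_of_degree_eq this, natDegree_X_pow]
  -- (iv) `mk p ∈ J`
  have hpJ : AdjoinRoot.mk f p ∈ J := by
    have : AdjoinRoot.mk f p = AdjoinRoot.mk f p * j := by
      linear_combination (-AdjoinRoot.mk f p) * hjy + y * hep
    rw [this]; exact J.mul_mem_left _ hj
  -- (v) reduction to the residue field
  let ρ : AdjoinRoot f →+* AdjoinRoot fb := AdjoinRoot.map (residue R) f fb (dvd_refl _)
  have hρJ : ∀ x ∈ J, ρ x = 0 := by
    intro x hx
    have : J ≤ RingHom.ker ρ := by
      rw [hJ, Ideal.map_le_iff_le_comap]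
      intro r hr
      rw [Ideal.mem_comap, RingHom.mem_ker]
      change ρ (AdjoinRoot.of f r) = 0
      rw [AdjoinRoot.map_of, (residue_eq_zero_iff r).mpr hr, map_zero]
    exact this hx
  have hρmk : ∀ g, ρ (AdjoinRoot.mk f g) = AdjoinRoot.mk fb (g.map (residue R)) :=
    adjoinRoot_map_mk _ _ _ _
  have hdvd : fb ∣ p.map (residue R) := by
    rw [← AdjoinRoot.mk_eq_zero, ← hρmk]; exact hρJ _ hpJ
  -- (vi)
  have hpbmonic : (p.map (residue R)).Monic := hpmonic.map _
  have hpbdeg : (p.map (residue R)).natDegree = k := by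
    rw [hpmonic.natDegree_map, hpk]
  obtain ⟨sb, hsb⟩ := hdvd
  have hsb0 : sb ≠ 0 := by
    rintro rfl
    rw [mul_zero] at hsb
    exact hpbmonic.ne_zero hsb
  have hsbdeg : sb.natDegree = 0 := by
    have := congr(natDegree $hsb)
    rw [natDegree_mul hf hsb0, hpbdeg, ← hk] at this
    omega
  obtain ⟨c, hc⟩ := natDegree_eq_zero.mp hsbdeg
  have hc0 : c ≠ 0 := by
    rintro rfl
    rw [map_zero] at hc
    exact hsb0 hc.symm
  rw [← hc] at hsb
  -- (viii)
  obtain ⟨E, hE⟩ := AdjoinRoot.mk_surjective e
  obtain ⟨u, hu⟩ : f ∣ E * p := by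
    rw [← AdjoinRoot.mk_eq_zero, map_mul, hE]; exact hep
  -- (ix)
  have hEb : fb ∣ 1 - E.map (residue R) := by
    rw [← AdjoinRoot.mk_eq_zero]
    have := hρJ _ h1e
    rw [← hE, ← map_one (AdjoinRoot.mk f), ← map_sub, hρmk] at this
    simpa using this
  obtain ⟨tb, htb⟩ := hEb
  have hub : u.map (residue R) = E.map (residue R) * C c := by
    have := congr(Polynomial.map (residue R) $hu)
    rw [Polynomial.map_mul, Polynomial.map_mul, hsb, ← hfb] at this
    have h5 : fb * (E.map (residue R) * C c) = fb * u.map (residue R) := by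
      rw [← this]; ring
    exact (mul_left_cancel₀ hf h5).symm
  have : Module.Finite R (AdjoinRoot p) := hpmonic.finite_adjoinRoot
  obtain ⟨w, hw⟩ := residue_surjective c⁻¹
  obtain ⟨t, ht⟩ := Polynomial.map_surjective (residue R) residue_surjective (C c⁻¹ * tb)
  have huunit : IsUnit (AdjoinRoot.mk p u) := by
    have h6 : IsUnit (AdjoinRoot.mk p (u * C w)) := by
      apply isUnit_of_sub_one_mem_map_maximalIdeal (R := R)
      have h0 : (u * C w - 1 + p * t).map (residue R) = 0 := by
        rw [Polynomial.map_add, Polynomial.map_sub, Polynomial.map_mul, Polynomial.map_mul, hub,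
          Polynomial.map_C, hw, ht, hsb, Polynomial.map_one]
        have hcc : (C c : (ResidueField R)[X]) * C c⁻¹ = 1 := by
          rw [← C_mul, mul_inv_cancel₀ hc0, C_1]
        linear_combination (-1 : (ResidueField R)[X]) * htb +
          (E.map (residue R) + fb * tb) * hcc
      have h7 := mk_mem_map_maximalIdeal_of_map_eq_zero p _ h0
      rw [map_add, map_sub, map_one, map_mul _ p t, AdjoinRoot.mk_self, zero_mul, add_zero] at h7
      exact h7
    rw [map_mul] at h6
    exact isUnit_of_mul_isUnit_left h6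
  have hfp : p ∣ f := by
    rw [← AdjoinRoot.mk_eq_zero]
    have : AdjoinRoot.mk p f * AdjoinRoot.mk p u = 0 := by
      rw [← map_mul, ← hu, map_mul, AdjoinRoot.mk_self, mul_zero]
    exact huunit.mul_left_eq_zero.mp this
  obtain ⟨q, hq'⟩ := hfp
  refine ⟨p, q, hpmonic, hq', c⁻¹, inv_ne_zero hc0, ?_⟩
  have := congr(Polynomial.map (residue R) $hq')
  rw [Polynomial.map_mul, hsb, ← hfb] at this
  have h8 : fb * (C c * q.map (residue R)) = fb * 1 := by
    rw [mul_one]; conv_rhs => rw [this]
    ring
  have h9 := mul_left_cancel₀ hf h8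
  have hcc : (C c⁻¹ : (ResidueField R)[X]) * C c = 1 := by
    rw [← C_mul, inv_mul_cancel₀ hc0, C_1]
  calc q.map (residue R) = C c⁻¹ * C c * q.map (residue R) := by rw [hcc, one_mul]
    _ = C c⁻¹ * (C c * q.map (residue R)) := by ring
    _ = C c⁻¹ := by rw [h9, mul_one]

end Groth.Agent.Helper1
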