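import Mathlib

/-!
# Multiplicative maps out of a monoid object: the classifying object as an equalizer

Abstract cartesian-monoidal part of S16790 (group-homomorphism version of S16770).
-/

universe v u₁

open CategoryTheory MonoidalCategory CartesianMonoidalCategory MonObj

namespace Groth.Agent.Helper1.HomGrp

variable {C : Type u₁} [Category.{v} C] [CartesianMonoidalCategory C]

/-- `(x, y, t) ↦ (x, t)`. -/
def p1 (G T : C) : (G ⊗ G) ⊗ T ⟶ G ⊗ T := lift (fst (G ⊗ G) T ≫ fst G G) (snd (G ⊗ G) T)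

/-- `(x, y, t) ↦ (y, t)`. -/
def p2 (G T : C) : (G ⊗ G) ⊗ T ⟶ G ⊗ T := lift (fst (G ⊗ G) T ≫ snd G G) (snd (G ⊗ G) T)

theorem lift_p1 {G T X : C} (a b : X ⟶ G) (t : X ⟶ T) :
    lift (lift a b) t ≫ p1 G T = lift a t := by
  unfold p1
  apply CartesianMonoidalCategory.hom_ext <;> simp

theorem lift_p2 {G T X : C} (a b : X ⟶ G) (t : X ⟶ T) :
    lift (lift a b) t ≫ p2 G T = lift b t := by
  unfold p2
  apply CartesianMonoidalCategory.hom_ext <;> simp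

theorem whiskerLeft_p1 {G T T' : C} (v : T ⟶ T') :
    ((G ⊗ G) ◁ v) ≫ p1 G T' = p1 G T ≫ (G ◁ v) := by
  unfold p1
  apply CartesianMonoidalCategory.hom_ext <;> simp

theorem whiskerLeft_p2 {G T T' : C} (v : T ⟶ T') :
    ((G ⊗ G) ◁ v) ≫ p2 G T' = p2 G T ≫ (G ◁ v) := by
  unfold p2
  apply CartesianMonoidalCategory.hom_ext <;> simp

theorem lift_mul_snd (G T : C) [MonObj G] :
    lift (lift (fst (G ⊗ G) T ≫ fst G G) (fst (G ⊗ G) T ≫ snd G G) ≫ μ) (snd (G ⊗ G) T) =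
      (μ : G ⊗ G ⟶ G) ▷ T := by
  apply CartesianMonoidalCategory.hom_ext <;> simp

theorem main (G G' : C) [MonObj G] [MonObj G']
    (M0 : C) (ev0 : G ⊗ M0 ⟶ G')
    (h0 : ∀ (T : C) (φ : G ⊗ T ⟶ G'), ∃! v : T ⟶ M0, (G ◁ v) ≫ ev0 = φ)
    (N : C) (evN : (G ⊗ G) ⊗ N ⟶ G')
    (hN : ∀ (T : C) (φ : (G ⊗ G) ⊗ T ⟶ G'), ∃! v : T ⟶ N, ((G ⊗ G) ◁ v) ≫ evN = φ) :
    ∃ (α β : M0 ⟶ N), ∀ (M : C) (j : M ⟶ M0), j ≫ α = j ≫ β →
      (∀ (T : C) (v0 : T ⟶ M0), v0 ≫ α = v0 ≫ β → ∃! v : T ⟶ M, v ≫ j = v0) →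
      (∀ (X : C) (a b : X ⟶ G) (m : X ⟶ M),
        lift (lift a b ≫ μ) m ≫ ((G ◁ j) ≫ ev0) =
          lift (lift a m ≫ ((G ◁ j) ≫ ev0)) (lift b m ≫ ((G ◁ j) ≫ ev0)) ≫ μ) ∧
      ∀ (T : C) (φ : G ⊗ T ⟶ G'),
        (∀ (X : C) (a b : X ⟶ G) (t : X ⟶ T),
          lift (lift a b ≫ μ) t ≫ φ = lift (lift a t ≫ φ) (lift b t ≫ φ) ≫ μ) →
        ∃! v : T ⟶ M, (G ◁ v) ≫ ((G ◁ j) ≫ ev0) = φ := by
  obtain ⟨α, hα, -⟩ := hN M0 (((μ : G ⊗ G ⟶ G) ▷ M0) ≫ ev0)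
  obtain ⟨β, hβ, -⟩ := hN M0 (lift (p1 G M0 ≫ ev0) (p2 G M0 ≫ ev0) ≫ μ)
  refine ⟨α, β, fun M j hj hM => ⟨?_, ?_⟩⟩
  · intro X a b m
    have e1 : lift (lift a b) (m ≫ j) ≫ (((μ : G ⊗ G ⟶ G) ▷ M0) ≫ ev0) =
        lift (lift a b) (m ≫ j) ≫ (lift (p1 G M0 ≫ ev0) (p2 G M0 ≫ ev0) ≫ μ) := by
      rw [← hα, ← hβ, ← Category.assoc, ← Category.assoc, lift_whiskerLeft, lift_whiskerLeft,
        Category.assoc, Category.assoc, hj]
    have e2 : lift (lift a b) (m ≫ j) ≫ (((μ : G ⊗ G ⟶ G) ▷ M0) ≫ ev0) =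
        lift (lift a b ≫ μ) m ≫ ((G ◁ j) ≫ ev0) := by
      rw [← Category.assoc, lift_whiskerRight, ← Category.assoc (lift _ m), lift_whiskerLeft]
    have e3 : lift (lift a b) (m ≫ j) ≫ (lift (p1 G M0 ≫ ev0) (p2 G M0 ≫ ev0) ≫ μ) =
        lift (lift a m ≫ ((G ◁ j) ≫ ev0)) (lift b m ≫ ((G ◁ j) ≫ ev0)) ≫ μ := by
      rw [← Category.assoc, comp_lift, ← Category.assoc, ← Category.assoc, lift_p1, lift_p2,
        ← Category.assoc (lift a m), ← Category.assoc (lift b m), lift_whiskerLeft,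
        lift_whiskerLeft]
    exact e2.symm.trans (e1.trans e3)
  · intro T φ hφ
    obtain ⟨v0, hv0, hv0u⟩ := h0 T φ
    have hv0αβ : v0 ≫ α = v0 ≫ β := by
      obtain ⟨w, -, hwu⟩ := hN T (((G ⊗ G) ◁ v0) ≫ (((μ : G ⊗ G ⟶ G) ▷ M0) ≫ ev0))
      have hA : ((G ⊗ G) ◁ (v0 ≫ α)) ≫ evN =
          ((G ⊗ G) ◁ v0) ≫ (((μ : G ⊗ G ⟶ G) ▷ M0) ≫ ev0) := by
        rw [MonoidalCategory.whiskerLeft_comp, Category.assoc, hα]
      have hB : ((G ⊗ G) ◁ (v0 ≫ β)) ≫ evN =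
          ((G ⊗ G) ◁ v0) ≫ (((μ : G ⊗ G ⟶ G) ▷ M0) ≫ ev0) := by
        rw [MonoidalCategory.whiskerLeft_comp, Category.assoc, hβ]
        rw [← Category.assoc, comp_lift, ← Category.assoc, ← Category.assoc, whiskerLeft_p1,
          whiskerLeft_p2, Category.assoc, Category.assoc, hv0,
          ← Category.assoc ((G ⊗ G) ◁ v0), whisker_exchange, Category.assoc, hv0]
        have h1 := hφ ((G ⊗ G) ⊗ T) (fst (G ⊗ G) T ≫ fst G G) (fst (G ⊗ G) T ≫ snd G G)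
          (snd (G ⊗ G) T)
        rw [lift_mul_snd] at h1
        exact h1.symm
      exact (hwu _ hA).trans (hwu _ hB).symm
    obtain ⟨v, hv, hvu⟩ := hM T v0 hv0αβ
    refine ⟨v, ?_, fun v' hv' => ?_⟩
    · show (G ◁ v) ≫ ((G ◁ j) ≫ ev0) = φ
      rw [← Category.assoc, ← MonoidalCategory.whiskerLeft_comp, hv, hv0]
    · apply hvu
      apply hv0u
      rw [MonoidalCategory.whiskerLeft_comp, Category.assoc]
      exact hv'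

end Groth.Agent.Helper1.HomGrp
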