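import Mathlib
import Groth.Agent.Lib.Helper1.HomGrp1

/-!
# Scheme part of S16790: equalizers in `Over S` are closed immersions of finite presentation
(into an `S`-scheme affine and locally of finite type over `S`), and the assembly of the
classifying object of multiplicative maps from the classifying object of all maps.
-/

universe u

open CategoryTheory CategoryTheory.Limits MonoidalCategory CartesianMonoidalCategory MonObj
  AlgebraicGeometry

namespace Groth.Agent.Helper1.HomGrp

set_option backward.isDefEq.respectTransparency false in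
set_option backward.isDefEq.respectTransparency.types false in
/-- If `f ≫ g` is locally of finite presentation and `g` is locally of finite type, then `f` is
locally of finite presentation. -/
theorem lfp_of_comp {X Y Z : Scheme.{u}} {f : X ⟶ Y} {g : Y ⟶ Z}
    (h : LocallyOfFinitePresentation (f ≫ g)) (hg : LocallyOfFiniteType g) :
    LocallyOfFinitePresentation f := by
  wlog hZ : IsAffine Z generalizing X Y Z
  · rw [IsZariskiLocalAtTarget.iff_of_iSup_eq_top (P := @LocallyOfFinitePresentation.{u}) _
      (g.iSup_preimage_eq_top (iSup_affineOpens_eq_top Z))]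
    intro U
    have H := IsZariskiLocalAtTarget.restrict h U.1
    rw [morphismRestrict_comp] at H
    exact this H (IsZariskiLocalAtTarget.restrict hg U.1) inferInstance
  wlog hY : IsAffine Y generalizing X Y
  · rw [IsZariskiLocalAtTarget.iff_of_iSup_eq_top (P := @LocallyOfFinitePresentation.{u}) _
      (iSup_affineOpens_eq_top Y)]
    intro U
    have H : LocallyOfFinitePresentation ((f ⁻¹ᵁ U.1).ι ≫ f ≫ g) := inferInstance
    rw [← morphismRestrict_ι_assoc] at H
    exact this H inferInstance inferInstance
  wlog hX : IsAffine X generalizing X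
  · rw [IsZariskiLocalAtSource.iff_of_iSup_eq_top (P := @LocallyOfFinitePresentation.{u}) _
      (iSup_affineOpens_eq_top X)]
    intro U
    have H : LocallyOfFinitePresentation (U.1.ι ≫ f ≫ g) := inferInstance
    rw [← Category.assoc] at H
    exact this H inferInstance
  rw [HasRingHomProperty.iff_of_isAffine (P := @LocallyOfFinitePresentation.{u})] at h ⊢
  rw [HasRingHomProperty.iff_of_isAffine (P := @LocallyOfFiniteType.{u})] at hg
  have h' : (f.appTop.hom.comp g.appTop.hom).FinitePresentation := by
    have e : (f ≫ g).appTop.hom = f.appTop.hom.comp g.appTop.hom := by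
      rw [Scheme.Hom.comp_appTop, CommRingCat.hom_comp]
    rw [← e]
    exact h
  exact RingHom.FinitePresentation.of_comp_finiteType g.appTop.hom h' hg

/-- The equalizer of two `S`-morphisms into an `S`-scheme locally of finite type is locally of
finite presentation over the source. -/
theorem lfp_equalizer_ι_left {S : Scheme.{u}} {X Y : Over S} [LocallyOfFiniteType Y.hom]
    (f g : X ⟶ Y) : LocallyOfFinitePresentation (equalizer.ι f g).left := by
  refine MorphismProperty.of_isPullback (P := @LocallyOfFinitePresentation.{u})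
    ((Limits.isPullback_equalizer_prod f g).map (Over.forget _)).flip ?_
  show LocallyOfFinitePresentation (prod.lift (𝟙 Y) (𝟙 Y)).left
  apply lfp_of_comp (g := (prod.fst : Y ⨯ Y ⟶ Y).left)
  · rw [← Over.comp_left, prod.lift_fst]
    exact (inferInstance : LocallyOfFinitePresentation (𝟙 Y.left))
  · rw [← Over.prodLeftIsoPullback_hom_fst Y Y]
    infer_instance

theorem result_aux {S : Scheme.{u}} (G G' : Over S) [MonObj G] [MonObj G']
    (H : ∀ (X Y : Over S), IsFinite X.hom → Flat X.hom → LocallyOfFinitePresentation X.hom →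
      IsAffineHom Y.hom → LocallyOfFinitePresentation Y.hom →
      ∃ (M : Over S) (ev : X ⊗ M ⟶ Y), IsAffineHom M.hom ∧ LocallyOfFinitePresentation M.hom ∧
        ∀ (T : Over S) (φ : X ⊗ T ⟶ Y), ∃! v : T ⟶ M, (X ◁ v) ≫ ev = φ)
    (hGf : IsFinite G.hom) (hGfl : Flat G.hom) (hGfp : LocallyOfFinitePresentation G.hom)
    (hG'a : IsAffineHom G'.hom) (hG'fp : LocallyOfFinitePresentation G'.hom) :
    ∃ (M : Over S) (ev : G ⊗ M ⟶ G'), IsAffineHom M.hom ∧ LocallyOfFinitePresentation M.hom ∧
      (∀ (X : Over S) (a b : X ⟶ G) (m : X ⟶ M),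
        lift (lift a b ≫ μ) m ≫ ev = lift (lift a m ≫ ev) (lift b m ≫ ev) ≫ μ) ∧
      ∀ (T : Over S) (φ : G ⊗ T ⟶ G'),
        (∀ (X : Over S) (a b : X ⟶ G) (t : X ⟶ T),
          lift (lift a b ≫ μ) t ≫ φ = lift (lift a t ≫ φ) (lift b t ≫ φ) ≫ μ) →
        ∃! v : T ⟶ M, (G ◁ v) ≫ ev = φ := by
  obtain ⟨M0, ev0, hM0a, hM0fp, h0⟩ := H G G' hGf hGfl hGfp hG'a hG'fp
  have hGGf : IsFinite (G ⊗ G).hom := by
    show IsFinite (pullback.fst G.hom G.hom ≫ G.hom)
    infer_instance
  have hGGfl : Flat (G ⊗ G).hom := by
    show Flat (pullback.fst G.hom G.hom ≫ G.hom)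
    infer_instance
  have hGGfp : LocallyOfFinitePresentation (G ⊗ G).hom := by
    show LocallyOfFinitePresentation (pullback.fst G.hom G.hom ≫ G.hom)
    infer_instance
  obtain ⟨N, evN, hNa, hNfp, hN⟩ := H (G ⊗ G) G' hGGf hGGfl hGGfp hG'a hG'fp
  obtain ⟨α, β, hαβ⟩ := main G G' M0 ev0 h0 N evN hN
  have : IsSeparated N.hom := IsSeparated.of_isAffineHom _
  have : LocallyOfFiniteType N.hom := inferInstance
  have hcl : IsClosedImmersion (equalizer.ι α β).left := inferInstance
  have hlfp : LocallyOfFinitePresentation (equalizer.ι α β).left := lfp_equalizer_ι_left α β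
  have hw : (equalizer α β).hom = (equalizer.ι α β).left ≫ M0.hom := (Over.w (equalizer.ι α β)).symm
  refine ⟨equalizer α β, (G ◁ equalizer.ι α β) ≫ ev0, ?_, ?_,
    hαβ (equalizer α β) (equalizer.ι α β) (equalizer.condition α β) (fun T v0 hv0 =>
      ⟨equalizer.lift v0 hv0, equalizer.lift_ι _ _, fun v' hv' => ?_⟩)⟩
  · rw [hw]
    infer_instance
  · rw [hw]
    infer_instance
  · apply equalizer.hom_ext
    rw [hv', equalizer.lift_ι]

end Groth.Agent.Helper1.HomGrp
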