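import Mathlib

set_option autoImplicit false
set_option linter.unusedSectionVars false
set_option linter.style.haveILetI false
universe u

namespace Groth.Agent.Helper1.IB

open Polynomial Topology AlgebraicGeometry CategoryTheory Opposite TopologicalSpace

section Generic

variable {B : Type*} [CommRing B] [IsDomain B]

/-- the generic point of the spectrum of a domain -/
def gen : PrimeSpectrum B := ⟨⊥, Ideal.isPrime_bot⟩

theorem gen_mem_of_isOpen {U : Set (PrimeSpectrum B)} (hU : IsOpen U) (hne : U.Nonempty) :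
    (gen : PrimeSpectrum B) ∈ U := by
  obtain ⟨x, hx⟩ := hne
  obtain ⟨V, ⟨g, rfl⟩, hxV, hVU⟩ :=
    PrimeSpectrum.isTopologicalBasis_basic_opens.exists_subset_of_mem_open hx hU
  apply hVU
  have hg : g ≠ 0 := by
    rintro rfl
    exact hxV (Ideal.zero_mem _)
  show g ∉ (⊥ : Ideal B)
  simpa using hg

theorem mem_nhds_of_isConstructible {s : Set (PrimeSpectrum B)} (hs : IsConstructible s) :
    ((gen : PrimeSpectrum B) ∈ s → s ∈ 𝓝 (gen : PrimeSpectrum B)) ∧
      ((gen : PrimeSpectrum B) ∉ s → sᶜ ∈ 𝓝 (gen : PrimeSpectrum B)) := by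
  induction hs using IsConstructible.empty_union_induction with
  | open_retrocompact U hU _ =>
    refine ⟨fun h => hU.mem_nhds h, fun h => ?_⟩
    have : U = ∅ := by
      by_contra hne
      exact h (gen_mem_of_isOpen hU (Set.nonempty_iff_ne_empty.2 hne))
    rw [this, Set.compl_empty]
    exact Filter.univ_mem
  | union s _ t _ ihs iht =>
    refine ⟨fun h => ?_, fun h => ?_⟩
    · rcases h with h | h
      · exact Filter.mem_of_superset (ihs.1 h) Set.subset_union_left
      · exact Filter.mem_of_superset (iht.1 h) Set.subset_union_right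
    · rw [Set.mem_union, not_or] at h
      rw [Set.compl_union]
      exact Filter.inter_mem (ihs.2 h.1) (iht.2 h.2)
  | compl s _ ih =>
    refine ⟨fun h => ih.2 h, fun h => ?_⟩
    rw [compl_compl]
    exact ih.1 (by simpa using h)

theorem exists_basicOpen_subset {s : Set (PrimeSpectrum B)} (hs : IsConstructible s)
    (h : (gen : PrimeSpectrum B) ∈ s) :
    ∃ g : B, g ≠ 0 ∧ (PrimeSpectrum.basicOpen g : Set (PrimeSpectrum B)) ⊆ s := by
  have h1 := (mem_nhds_of_isConstructible hs).1 h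
  obtain ⟨U, hUs, hU, hgU⟩ := mem_nhds_iff.1 h1
  obtain ⟨V, ⟨g, rfl⟩, hxV, hVU⟩ :=
    PrimeSpectrum.isTopologicalBasis_basic_opens.exists_subset_of_mem_open hgU hU
  refine ⟨g, ?_, hVU.trans hUs⟩
  rintro rfl
  exact hxV (Ideal.zero_mem _)

end Generic

section StepA

variable {k : Type*} [Field k]

/-- for a nonzero polynomial `g` over a field there is a prime of `k[X]` containing some
`X^n - 1` (with `n ≠ 0` in `k`) but not `g`. -/
theorem exists_prime_X_pow_sub_one (g : k[X]) (hg : g ≠ 0) :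
    ∃ (n : ℕ) (J : Ideal k[X]), J.IsPrime ∧ (X ^ n - C (1 : k)) ∈ J ∧ g ∉ J ∧ 0 < n := by
  -- choose n
  obtain ⟨n, hn1, hn2⟩ : ∃ n : ℕ, g.natDegree < n ∧ ((n : ℕ) : k) ≠ 0 := by
    by_cases h : ((g.natDegree + 1 : ℕ) : k) = 0
    · refine ⟨g.natDegree + 2, by omega, ?_⟩
      intro h2
      have : ((g.natDegree + 2 : ℕ) : k) = ((g.natDegree + 1 : ℕ) : k) + 1 := by push_cast; ring
      rw [this, h, zero_add] at h2
      exact one_ne_zero h2
    · exact ⟨g.natDegree + 1, by omega, h⟩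
  have hsep : (X ^ n - C (1 : k)).Separable := separable_X_pow_sub_C 1 hn2 one_ne_zero
  have hrad : (Ideal.span ({X ^ n - C (1 : k)} : Set k[X])).IsRadical :=
    isRadical_iff_span_singleton.1 hsep.squarefree.isRadical
  have hnot : g ∉ Ideal.span ({X ^ n - C (1 : k)} : Set k[X]) := by
    intro hmem
    rw [Ideal.mem_span_singleton] at hmem
    have hdeg := Polynomial.natDegree_le_of_dvd hmem hg
    rw [natDegree_X_pow_sub_C] at hdeg
    omega
  rw [← hrad.radical, Ideal.radical_eq_sInf, Ideal.mem_sInf] at hnot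
  push Not at hnot
  obtain ⟨J, ⟨hJ1, hJ2⟩, hJ3⟩ := hnot
  exact ⟨n, J, hJ2, hJ1 (Ideal.subset_span rfl), hJ3, by omega⟩

variable {A E : Type*} [CommRing A] [IsDomain A] [Algebra k A] [Algebra.FiniteType k A] [Field E]

theorem isIntegral_of_field_hom (ψ : E →+* A) (e : E) : IsIntegral k (ψ e) := by
  by_contra hni
  have htr : Transcendental k (ψ e) := fun h => hni (isAlgebraic_iff_isIntegral.mp h)
  have hinj : Function.Injective (aeval (ψ e) : k[X] →ₐ[k] A) := transcendental_iff_injective.1 htr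
  letI alg : Algebra k[X] A := (aeval (ψ e) : k[X] →ₐ[k] A).toRingHom.toAlgebra
  haveI : IsScalarTower k k[X] A := IsScalarTower.of_algebraMap_eq fun r => by
    show algebraMap k A r = (aeval (ψ e) : k[X] →ₐ[k] A) (algebraMap k k[X] r)
    rw [AlgHom.commutes]
  haveI ft : Algebra.FiniteType k[X] A := Algebra.FiniteType.of_restrictScalars_finiteType k k[X] A
  haveI fp : Algebra.FinitePresentation k[X] A := Algebra.FinitePresentation.of_finiteType.1 ft
  have hfp : (algebraMap k[X] A).FinitePresentation :=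
    RingHom.finitePresentation_algebraMap.2 fp
  have hcon := PrimeSpectrum.isConstructible_range_comap hfp
  have hgen : (gen : PrimeSpectrum k[X]) ∈ Set.range (PrimeSpectrum.comap (algebraMap k[X] A)) := by
    refine ⟨(gen : PrimeSpectrum A), ?_⟩
    apply PrimeSpectrum.ext
    show Ideal.comap (algebraMap k[X] A) ⊥ = ⊥
    rw [← RingHom.ker_eq_comap_bot]
    exact (RingHom.injective_iff_ker_eq_bot _).1 hinj
  obtain ⟨g, hg, hgs⟩ := exists_basicOpen_subset hcon hgen
  obtain ⟨n, J, hJp, hJ1, hJ2, hn⟩ := exists_prime_X_pow_sub_one g hg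
  obtain ⟨q, hq⟩ := hgs (show (⟨J, hJp⟩ : PrimeSpectrum k[X]) ∈ PrimeSpectrum.basicOpen g from hJ2)
  have hmem : algebraMap k[X] A (X ^ n - C (1 : k)) ∈ q.asIdeal := by
    have : (X ^ n - C (1 : k)) ∈ (PrimeSpectrum.comap (algebraMap k[X] A) q).asIdeal := by
      rw [hq]; exact hJ1
    exact this
  have heq : algebraMap k[X] A (X ^ n - C (1 : k)) = ψ (e ^ n - 1) := by
    show (aeval (ψ e) : k[X] →ₐ[k] A) (X ^ n - C (1 : k)) = ψ (e ^ n - 1)
    simp
  have hne : e ^ n - 1 ≠ 0 := by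
    intro h0
    have h1 : (aeval (ψ e) : k[X] →ₐ[k] A) (X ^ n - C (1 : k)) = 0 := by
      have := heq
      rw [h0, map_zero] at this
      exact this
    have h2 : (X ^ n - C (1 : k) : k[X]) = 0 := hinj (h1.trans (map_zero _).symm)
    have h3 := congrArg Polynomial.natDegree h2
    rw [natDegree_X_pow_sub_C, natDegree_zero] at h3
    omega
  have hu : IsUnit (ψ (e ^ n - 1)) := (IsUnit.mk0 _ hne).map ψ
  rw [heq] at hmem
  exact q.isPrime.ne_top (Ideal.eq_top_of_isUnit_mem _ hmem hu)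

end StepA

section StepB

theorem isIntegralElem_domain {k₁ k₂ D : Type*} [Field k₁] [Field k₂] [CommRing D] [IsDomain D]
    (ψ₁ : k₁ →+* D) (ψ₂ : k₂ →+* D) (h₂ : ψ₂.FiniteType) (x : D) (hx : ψ₁.IsIntegralElem x) :
    ψ₂.IsIntegralElem x := by
  letI := ψ₂.toAlgebra
  haveI : Algebra.FiniteType k₂ D := h₂
  have hE : ∀ e, ψ₁ e ∈ integralClosure k₂ D := fun e => isIntegral_of_field_hom ψ₁ e
  let ψ' : k₁ →+* integralClosure k₂ D := ψ₁.codRestrict (integralClosure k₂ D) hE
  obtain ⟨p, hpm, hp⟩ := hx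
  have h1 : IsIntegral (integralClosure k₂ D) x := by
    refine ⟨p.map ψ', hpm.map _, ?_⟩
    rw [Polynomial.eval₂_map]
    exact hp
  have h2 : IsIntegral k₂ x := isIntegral_trans (R := k₂) (A := integralClosure k₂ D) x h1
  exact h2

theorem isIntegralElem_of_minimalPrimes {R A : Type*} [CommRing R] [CommRing A] [IsReduced A]
    (φ : R →+* A) (x : A) (hfin : (minimalPrimes A).Finite)
    (h : ∀ p ∈ minimalPrimes A, ((Ideal.Quotient.mk p).comp φ).IsIntegralElem
      (Ideal.Quotient.mk p x)) : φ.IsIntegralElem x := by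
  choose P hPm hP using h
  refine ⟨∏ p ∈ hfin.toFinset.attach, P p.1 (hfin.mem_toFinset.1 p.2),
    Polynomial.monic_prod_of_monic _ _ (fun p _ => hPm _ _), ?_⟩
  have hmem : ∀ q ∈ minimalPrimes A, Polynomial.eval₂ φ x
      (∏ p ∈ hfin.toFinset.attach, P p.1 (hfin.mem_toFinset.1 p.2)) ∈ q := by
    intro q hq
    rw [Polynomial.eval₂_finsetProd]
    have hq' : (⟨q, hfin.mem_toFinset.2 hq⟩ : {x // x ∈ hfin.toFinset}) ∈ hfin.toFinset.attach :=
      Finset.mem_attach _ _
    refine Ideal.prod_mem _ hq' ?_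
    have := hP q hq
    rw [← Polynomial.hom_eval₂] at this
    exact Ideal.Quotient.eq_zero_iff_mem.1 this
  have h0 : Polynomial.eval₂ φ x
      (∏ p ∈ hfin.toFinset.attach, P p.1 (hfin.mem_toFinset.1 p.2)) ∈ nilradical A := by
    rw [nilradical, ← Ideal.sInf_minimalPrimes, Ideal.mem_sInf]
    intro q hq
    exact hmem q hq
  rw [nilradical_eq_zero] at h0
  exact h0

theorem isIntegralElem_of_fields {k₁ k₂ A : Type*} [Field k₁] [Field k₂] [CommRing A]
    [IsReduced A] (φ₁ : k₁ →+* A) (φ₂ : k₂ →+* A) (h₂ : φ₂.FiniteType) (x : A)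
    (hx : φ₁.IsIntegralElem x) : φ₂.IsIntegralElem x := by
  haveI : IsNoetherianRing A := by
    letI := φ₂.toAlgebra
    haveI : Algebra.FiniteType k₂ A := h₂
    exact Algebra.FiniteType.isNoetherianRing k₂ A
  refine isIntegralElem_of_minimalPrimes φ₂ x (minimalPrimes.finite_of_isNoetherianRing A) ?_
  intro p hp
  haveI : p.IsPrime := hp.1.1
  refine isIntegralElem_domain ((Ideal.Quotient.mk p).comp φ₁) ((Ideal.Quotient.mk p).comp φ₂)
    ((RingHom.FiniteType.of_surjective _ Ideal.Quotient.mk_surjective).comp h₂) _ ?_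
  obtain ⟨P, hPm, hP⟩ := hx
  refine ⟨P, hPm, ?_⟩
  rw [← Polynomial.hom_eval₂, hP, map_zero]

end StepB

section StepC

variable {X : Scheme.{u}}

/-- the clopen argument: if locally every point has a nonzero element of the PID `R` whose image
vanishes near the point, then an irreducible element of `R` maps to `0` globally. -/
theorem exists_irreducible_eq_zero [IsReduced X] [ConnectedSpace X] {R : Type*} [CommRing R]
    [IsDomain R] [IsPrincipalIdealRing R] (s : R →+* Γ(X, ⊤))
    (hloc : ∀ q : X, ∃ U : X.Opens, q ∈ U ∧ ∃ Q : R, Q ≠ 0 ∧ U ⊓ X.basicOpen (s Q) = ⊥) :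
    ∃ P : R, Irreducible P ∧ s P = 0 := by
  obtain ⟨p⟩ : Nonempty X := inferInstance
  have key : ∀ Q : R, Q ≠ 0 → p ∉ X.basicOpen (s Q) →
      ∃ P : R, Irreducible P ∧ p ∉ X.basicOpen (s P) := by
    intro Q
    induction Q using WfDvdMonoid.induction_on_irreducible with
    | zero => intro h; exact absurd rfl h
    | unit u hu =>
      intro _ h
      exfalso
      apply h
      rw [Scheme.basicOpen_of_isUnit _ (hu.map s)]
      trivial
    | mul a i ha hi ih =>
      intro _ h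
      rw [map_mul, Scheme.basicOpen_mul] at h
      by_cases hpi : p ∈ X.basicOpen (s i)
      · apply ih ha
        intro hpa
        exact h ⟨hpi, hpa⟩
      · exact ⟨i, hi, hpi⟩
  obtain ⟨U₀, hpU₀, Q₀, hQ₀, hdis₀⟩ := hloc p
  obtain ⟨P, hP, hpP⟩ := key Q₀ hQ₀ (fun h => by
    have : p ∈ U₀ ⊓ X.basicOpen (s Q₀) := ⟨hpU₀, h⟩
    rw [hdis₀] at this
    exact this)
  refine ⟨P, hP, ?_⟩
  have hopen : IsOpen ((X.basicOpen (s P) : Set X)ᶜ) := by
    rw [isOpen_iff_forall_mem_open]
    intro q hq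
    obtain ⟨U, hqU, Q, hQ, hdis⟩ := hloc q
    obtain ⟨n, Q', hnd, rfl⟩ := WfDvdMonoid.max_power_factor' hQ hP.not_isUnit
    obtain ⟨a, b, hab⟩ := hP.coprime_iff_not_dvd.2 hnd
    have hcov : q ∈ X.basicOpen (s Q') := by
      have h1 : (⊤ : X.Opens) ≤ X.basicOpen (s P) ⊔ X.basicOpen (s Q') := by
        have h2 : s a * s P + s b * s Q' = 1 := by
          rw [← map_mul, ← map_mul, ← map_add, hab, map_one]
        calc (⊤ : X.Opens) = X.basicOpen (1 : Γ(X, ⊤)) := (Scheme.basicOpen_one ..).symm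
          _ = X.basicOpen (s a * s P + s b * s Q') := by rw [h2]
          _ ≤ X.basicOpen (s a * s P) ⊔ X.basicOpen (s b * s Q') := X.basicOpen_add_le _ _
          _ ≤ _ := sup_le_sup (by rw [Scheme.basicOpen_mul]; exact inf_le_right)
              (by rw [Scheme.basicOpen_mul]; exact inf_le_right)
      rcases h1 (show q ∈ (⊤ : X.Opens) from trivial) with h | h
      · exact absurd h hq
      · exact h
    refine ⟨((U ⊓ X.basicOpen (s Q') : X.Opens) : Set X), ?_, (U ⊓ X.basicOpen (s Q')).isOpen,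
      ⟨hqU, hcov⟩⟩
    intro z hz hzP
    have h3 : z ∈ U ⊓ X.basicOpen (s (P ^ n * Q')) := by
      refine ⟨hz.1, ?_⟩
      rw [map_mul, Scheme.basicOpen_mul, map_pow]
      refine ⟨?_, hz.2⟩
      rcases Nat.eq_zero_or_pos n with rfl | hn
      · rw [pow_zero, Scheme.basicOpen_one]
        trivial
      · rw [Scheme.basicOpen_pow X _ hn]
        exact hzP
    rw [hdis] at h3
    exact h3
  have hclosed : IsClosed ((X.basicOpen (s P) : Set X)ᶜ) :=
    (X.basicOpen (s P)).isOpen.isClosed_compl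
  have huniv : ((X.basicOpen (s P) : Set X)ᶜ) = Set.univ :=
    IsClopen.eq_univ ⟨hclosed, hopen⟩ ⟨p, hpP⟩
  rw [← AlgebraicGeometry.basicOpen_eq_bot_iff]
  ext z
  constructor
  · intro hz
    have : z ∈ ((X.basicOpen (s P) : Set X)ᶜ) := by rw [huniv]; trivial
    exact absurd hz this
  · intro hz
    exact absurd hz (by simp)

/-- **Integrality over a base field is independent of the base field** (generic form): on a
reduced connected scheme, a global function integral over a field `k₁` (through `φ₁`) is integral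
over any field `k₂` over which the affine opens are of finite type (through `φ₂`). -/
theorem isIntegralElem_of_local [IsReduced X] [ConnectedSpace X] {k₁ k₂ : Type*} [Field k₁]
    [Field k₂] (φ₁ : k₁ →+* Γ(X, ⊤)) (φ₂ : k₂ →+* Γ(X, ⊤))
    (h₂ : ∀ U : X.Opens, IsAffineOpen U →
      ((X.presheaf.map (homOfLE (le_top : U ≤ ⊤)).op).hom.comp φ₂).FiniteType)
    (x : Γ(X, ⊤)) (hx : φ₁.IsIntegralElem x) : φ₂.IsIntegralElem x := by
  let s : k₂[X] →+* Γ(X, ⊤) := Polynomial.eval₂RingHom φ₂ x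
  have hloc : ∀ q : X, ∃ U : X.Opens, q ∈ U ∧ ∃ Q : k₂[X], Q ≠ 0 ∧
      U ⊓ X.basicOpen (s Q) = ⊥ := by
    intro q
    obtain ⟨U, hU, hqU, -⟩ := exists_isAffineOpen_mem_and_subset (x := q) (U := ⊤) trivial
    let r : Γ(X, ⊤) →+* Γ(X, U) := (X.presheaf.map (homOfLE (le_top : U ≤ ⊤)).op).hom
    have h1 : (r.comp φ₁).IsIntegralElem (r x) := by
      obtain ⟨P, hPm, hP⟩ := hx
      exact ⟨P, hPm, by rw [← Polynomial.hom_eval₂, hP, map_zero]⟩
    obtain ⟨Q, hQm, hQ⟩ := isIntegralElem_of_fields (r.comp φ₁) (r.comp φ₂) (h₂ U hU) (r x) h1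
    refine ⟨U, hqU, Q, hQm.ne_zero, ?_⟩
    rw [← Polynomial.hom_eval₂] at hQ
    have h3 := Scheme.basicOpen_res X (s Q) (homOfLE (le_top : U ≤ ⊤)).op
    rw [← h3]
    show X.basicOpen (r (eval₂ φ₂ x Q)) = ⊥
    rw [hQ, Scheme.basicOpen_zero]
  obtain ⟨P, hP, hsP⟩ := exists_irreducible_eq_zero s hloc
  refine ⟨P * C P.leadingCoeff⁻¹, Polynomial.monic_mul_leadingCoeff_inv hP.ne_zero, ?_⟩
  rw [Polynomial.eval₂_mul]
  have h4 : eval₂ φ₂ x P = 0 := hsP
  rw [h4, zero_mul]

end StepC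

end Groth.Agent.Helper1.IB
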