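import Mathlib
import Groth.Agent.Lib.Helper1.FP12

/-!
# Integral morphisms: the geometric fibre and compactness (towards base change in degree zero)
-/

set_option autoImplicit false
set_option linter.unusedSectionVars false
set_option linter.style.haveILetI false
open CategoryTheory CategoryTheory.Limits AlgebraicGeometry Opposite
universe u

namespace Groth.Agent.Helper1.IG

open Groth.Agent.Helper1.ELR Groth.Agent.Helper1.FP

section Fib

variable {X Y : Scheme.{u}} (f : X ⟶ Y) {Ω : Type u} [Field Ω] [IsAlgClosed Ω]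
  (η : Spec (CommRingCat.of Ω) ⟶ Y)

/-- the geometric fibre -/
noncomputable abbrev Fib : Scheme.{u} := pullback f η

/-- the section of the geometric fibre attached to a lift of the geometric point -/
noncomputable def ptF (ξ : Lifts f η) : Spec (CommRingCat.of Ω) ⟶ Fib f η :=
  pullback.lift ξ.1 (𝟙 _) (by rw [ξ.2, Category.id_comp])

theorem ptF_fst (ξ : Lifts f η) : ptF f η ξ ≫ pullback.fst f η = ξ.1 := pullback.lift_fst _ _ _

theorem ptF_snd (ξ : Lifts f η) : ptF f η ξ ≫ pullback.snd f η = 𝟙 _ := pullback.lift_snd _ _ _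

/-- the canonical map from the geometric fibre to `X ×_Y V` -/
noncomputable def cF (V : Y.Etale) (x : (Φ η).fiber.obj V) :
    Fib f η ⟶ ((EtCoh.bc f).obj V).left :=
  pullback.lift (pullback.snd f η ≫ pt η V x) (pullback.fst f η) (by
    rw [Category.assoc, pt_comp]
    exact pullback.condition.symm)

theorem cF_fst (V : Y.Etale) (x : (Φ η).fiber.obj V) :
    cF f η V x ≫ (pullback.fst V.hom f : ((EtCoh.bc f).obj V).left ⟶ V.left) =
      pullback.snd f η ≫ pt η V x := pullback.lift_fst _ _ _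

theorem cF_snd (V : Y.Etale) (x : (Φ η).fiber.obj V) :
    cF f η V x ≫ ((EtCoh.bc f).obj V).hom = pullback.fst f η := pullback.lift_snd _ _ _

theorem ptF_cF (ξ : Lifts f η) (V : Y.Etale) (x : (Φ η).fiber.obj V) :
    ptF f η ξ ≫ cF f η V x = pt ξ.1 _ (liftPt f η ξ V x) := by
  apply pt_bc_ext f V
  · refine Eq.trans ?_ (pt_liftPt_fst f η ξ V x).symm
    calc (ptF f η ξ ≫ cF f η V x) ≫
          (pullback.fst V.hom f : ((EtCoh.bc f).obj V).left ⟶ V.left)
        = ptF f η ξ ≫ (cF f η V x ≫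
          (pullback.fst V.hom f : ((EtCoh.bc f).obj V).left ⟶ V.left)) := Category.assoc _ _ _
      _ = ptF f η ξ ≫ (pullback.snd f η ≫ pt η V x) :=
          congrArg (fun m => ptF f η ξ ≫ m) (cF_fst f η V x)
      _ = (ptF f η ξ ≫ pullback.snd f η) ≫ pt η V x := (Category.assoc _ _ _).symm
      _ = 𝟙 _ ≫ pt η V x := congrArg (fun m => m ≫ pt η V x) (ptF_snd f η ξ)
      _ = pt η V x := Category.id_comp _
  · refine Eq.trans ?_ (pt_liftPt_snd f η ξ V x).symm
    calc (ptF f η ξ ≫ cF f η V x) ≫ ((EtCoh.bc f).obj V).hom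
        = ptF f η ξ ≫ (cF f η V x ≫ ((EtCoh.bc f).obj V).hom) := Category.assoc _ _ _
      _ = ptF f η ξ ≫ pullback.fst f η := congrArg (fun m => ptF f η ξ ≫ m) (cF_snd f η V x)
      _ = ξ.1 := ptF_fst f η ξ

theorem cF_map {V' V : Y.Etale} (g : V' ⟶ V) (x' : (Φ η).fiber.obj V') :
    cF f η V' x' ≫ ((EtCoh.bc f).map g).left = cF f η V ((Φ η).fiber.map g x') := by
  apply pt_bc_ext f V
  · refine Eq.trans ?_ (cF_fst f η V _).symm
    calc (cF f η V' x' ≫ ((EtCoh.bc f).map g).left) ≫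
          (pullback.fst V.hom f : ((EtCoh.bc f).obj V).left ⟶ V.left)
        = cF f η V' x' ≫ (((EtCoh.bc f).map g).left ≫
          (pullback.fst V.hom f : ((EtCoh.bc f).obj V).left ⟶ V.left)) := Category.assoc _ _ _
      _ = cF f η V' x' ≫ ((pullback.fst V'.hom f : ((EtCoh.bc f).obj V').left ⟶ V'.left) ≫
          g.left) := congrArg (fun m => cF f η V' x' ≫ m) (EtCoh.isPullback_bc_map f g).w
      _ = (cF f η V' x' ≫ (pullback.fst V'.hom f : ((EtCoh.bc f).obj V').left ⟶ V'.left)) ≫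
          g.left := (Category.assoc _ _ _).symm
      _ = (pullback.snd f η ≫ pt η V' x') ≫ g.left :=
          congrArg (fun m => m ≫ g.left) (cF_fst f η V' x')
      _ = pullback.snd f η ≫ (pt η V' x' ≫ g.left) := Category.assoc _ _ _
      _ = pullback.snd f η ≫ pt η V ((Φ η).fiber.map g x') := rfl
  · refine Eq.trans ?_ (cF_snd f η V _).symm
    have h : ((EtCoh.bc f).map g).left ≫ ((EtCoh.bc f).obj V).hom = ((EtCoh.bc f).obj V').hom :=
      MorphismProperty.Over.w ((EtCoh.bc f).map g)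
    calc (cF f η V' x' ≫ ((EtCoh.bc f).map g).left) ≫ ((EtCoh.bc f).obj V).hom
        = cF f η V' x' ≫ (((EtCoh.bc f).map g).left ≫ ((EtCoh.bc f).obj V).hom) :=
          Category.assoc _ _ _
      _ = cF f η V' x' ≫ ((EtCoh.bc f).obj V').hom := congrArg (fun m => cF f η V' x' ≫ m) h
      _ = pullback.fst f η := cF_snd f η V' x'


theorem ptF_eq_of_snd (s : Spec (CommRingCat.of Ω) ⟶ Fib f η) (hs : s ≫ pullback.snd f η = 𝟙 _) :
    ∃ ξ : Lifts f η, ptF f η ξ = s := by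
  refine ⟨⟨s ≫ pullback.fst f η, ?_⟩, ?_⟩
  · rw [Category.assoc, pullback.condition, ← Category.assoc, hs, Category.id_comp]
  · apply pullback.hom_ext
    · exact ptF_fst f η _
    · rw [ptF_snd, hs]

instance [IsIntegralHom f] : IsAffine (Fib f η) :=
  isAffine_of_isAffineHom (pullback.snd f η)

theorem exists_ptF [IsIntegralHom f] (w : Fib f η) :
    ∃ ξ : Lifts f η, (ptF f η ξ).base default = w := by
  let R := Γ(Fib f η, ⊤)
  let φ₀ : Ω →+* R :=
    ((Scheme.ΓSpecIso (CommRingCat.of Ω)).inv ≫ (pullback.snd f η).appTop).hom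
  have hint : φ₀.IsIntegral := by
    have h1 : (pullback.snd f η).appTop.hom.IsIntegral :=
      IsIntegralHom.isIntegral_app (pullback.snd f η) ⊤ (isAffineOpen_top _)
    have h2 : φ₀ = (pullback.snd f η).appTop.hom.comp
      (Scheme.ΓSpecIso (CommRingCat.of Ω)).inv.hom := rfl
    rw [h2]
    exact RingHom.IsIntegral.trans _ _
      (RingHom.isIntegral_of_surjective _
        (ConcreteCategory.bijective_of_isIso (Scheme.ΓSpecIso (CommRingCat.of Ω)).inv).2) h1
  let 𝔭 : PrimeSpectrum R := (Fib f η).isoSpec.hom.base w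
  letI : Algebra Ω (R ⧸ 𝔭.asIdeal) := ((Ideal.Quotient.mk 𝔭.asIdeal).comp φ₀).toAlgebra
  haveI : Algebra.IsIntegral Ω (R ⧸ 𝔭.asIdeal) := by
    rw [Algebra.isIntegral_def]
    intro x
    obtain ⟨r, rfl⟩ := Ideal.Quotient.mk_surjective x
    exact (hint r).map (Ideal.Quotient.mk 𝔭.asIdeal)
  have hbij : Function.Bijective (algebraMap Ω (R ⧸ 𝔭.asIdeal)) :=
    IsAlgClosed.algebraMap_bijective_of_isIntegral
  let e : Ω ≃+* R ⧸ 𝔭.asIdeal := RingEquiv.ofBijective (algebraMap Ω (R ⧸ 𝔭.asIdeal)) hbij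
  let φ : R →+* Ω := (e.symm : R ⧸ 𝔭.asIdeal →+* Ω).comp (Ideal.Quotient.mk 𝔭.asIdeal)
  have hφ₀ : ∀ a : Ω, φ (φ₀ a) = a := by
    intro a
    show e.symm (Ideal.Quotient.mk 𝔭.asIdeal (φ₀ a)) = a
    have : Ideal.Quotient.mk 𝔭.asIdeal (φ₀ a) = e a := rfl
    rw [this, RingEquiv.symm_apply_apply]
  have hker : RingHom.ker φ = 𝔭.asIdeal := by
    ext r
    rw [RingHom.mem_ker]
    show e.symm (Ideal.Quotient.mk 𝔭.asIdeal r) = 0 ↔ _
    rw [map_eq_zero_iff e.symm e.symm.injective, Ideal.Quotient.eq_zero_iff_mem]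
  let s : Spec (CommRingCat.of Ω) ⟶ Fib f η := ptOf φ
  have hs : s ≫ pullback.snd f η = 𝟙 _ := by
    apply evPt_ext
    rw [evPt_comp, evPt_ptOf]
    ext a
    show φ ((pullback.snd f η).appTop.hom a) = evPt (𝟙 _) a
    have h1 : (pullback.snd f η).appTop.hom a =
        φ₀ ((Scheme.ΓSpecIso (CommRingCat.of Ω)).hom.hom a) := by
      show _ = (pullback.snd f η).appTop.hom ((Scheme.ΓSpecIso (CommRingCat.of Ω)).inv.hom
        ((Scheme.ΓSpecIso (CommRingCat.of Ω)).hom.hom a))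
      rw [iso_inv_hom_apply]
    rw [h1, hφ₀]
    unfold evPt
    rw [Scheme.Hom.id_appTop, Category.id_comp]
  obtain ⟨ξ, hξ⟩ := ptF_eq_of_snd f η s hs
  refine ⟨ξ, ?_⟩
  rw [hξ]
  apply (Fib f η).isoSpec.hom.homeomorph.injective
  show (Fib f η).isoSpec.hom.base (s.base default) = 𝔭
  have h2 : s ≫ (Fib f η).isoSpec.hom = Spec.map (CommRingCat.ofHom φ) := by
    show (Spec.map (CommRingCat.ofHom φ) ≫ (Fib f η).isoSpec.inv) ≫ (Fib f η).isoSpec.hom = _
    rw [Category.assoc, Iso.inv_hom_id, Category.comp_id]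
  have h3 : (Fib f η).isoSpec.hom.base (s.base default) =
      (Spec.map (CommRingCat.ofHom φ)).base default := by
    rw [← h2]
    rfl
  rw [h3]
  apply PrimeSpectrum.ext
  have h4 : ((Spec.map (CommRingCat.ofHom φ)).base default).asIdeal =
      Ideal.comap φ (default : ↥(Spec (CommRingCat.of Ω))).asIdeal := rfl
  haveI : (default : ↥(Spec (CommRingCat.of Ω))).asIdeal.IsPrime :=
    (default : ↥(Spec (CommRingCat.of Ω))).isPrime
  rw [h4, ← hker, Ideal.eq_bot_of_prime (default : ↥(Spec (CommRingCat.of Ω))).asIdeal]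
  rfl

theorem compactSpace_Fib [IsIntegralHom f] : CompactSpace (Fib f η) := inferInstance

/-- every point of `X ×_Y V` over the base point is the canonical point of a lift -/
theorem exists_lift_of_mem_fibre [IsIntegralHom f] (V : Y.Etale) (x : (Φ η).fiber.obj V)
    (z : ((EtCoh.bc f).obj V).left)
    (hz : (pullback.fst V.hom f : ((EtCoh.bc f).obj V).left ⟶ V.left).base z =
      (pt η V x).base default) :
    ∃ ξ : Lifts f η, (pt ξ.1 _ (liftPt f η ξ V x)).base default = z := by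
  let fV : ((EtCoh.bc f).obj V).left ⟶ V.left := (pullback.fst V.hom f : _)
  haveI : IsIntegralHom fV := inferInstanceAs (IsIntegralHom (pullback.fst V.hom f))
  obtain ⟨w, hw1, -⟩ := Scheme.Pullback.exists_preimage_pullback (f := fV) (g := pt η V x)
    z default hz
  obtain ⟨ξV, hξV⟩ := exists_ptF fV (pt η V x) w
  have hc : fV ≫ V.hom = ((EtCoh.bc f).obj V).hom ≫ f := pullback.condition
  have hξ : (ξV.1 ≫ ((EtCoh.bc f).obj V).hom) ≫ f = η := by
    calc (ξV.1 ≫ ((EtCoh.bc f).obj V).hom) ≫ f = ξV.1 ≫ (((EtCoh.bc f).obj V).hom ≫ f) :=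
          Category.assoc _ _ _
      _ = ξV.1 ≫ (fV ≫ V.hom) := congrArg (fun m => ξV.1 ≫ m) hc.symm
      _ = (ξV.1 ≫ fV) ≫ V.hom := (Category.assoc _ _ _).symm
      _ = pt η V x ≫ V.hom := congrArg (fun m => m ≫ V.hom) ξV.2
      _ = η := pt_comp η V x
  refine ⟨⟨ξV.1 ≫ ((EtCoh.bc f).obj V).hom, hξ⟩, ?_⟩
  have h1 : pt _ _ (liftPt f η ⟨ξV.1 ≫ ((EtCoh.bc f).obj V).hom, hξ⟩ V x) = ξV.1 := by
    apply pt_bc_ext f V
    · rw [pt_liftPt_fst]
      exact ξV.2.symm
    · rw [pt_liftPt_snd]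
  rw [h1, ← hw1, ← hξV]
  have h2 : ptF fV (pt η V x) ξV ≫ pullback.fst fV (pt η V x) = ξV.1 := ptF_fst fV _ ξV
  rw [← h2]
  rfl

/-- **Compactness of the geometric fibre.** -/
theorem exists_finite_cover [IsIntegralHom f] {ι : Type*} (V : ι → Y.Etale)
    (x : ∀ i, (Φ η).fiber.obj (V i)) (O : ∀ i, ((EtCoh.bc f).obj (V i)).left.Opens)
    (h : ∀ ξ : Lifts f η, ∃ i, (pt ξ.1 _ (liftPt f η ξ (V i) (x i))).base default ∈ O i) :
    ∃ s : Finset ι, ∀ ξ : Lifts f η, ∃ i ∈ s,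
      (pt ξ.1 _ (liftPt f η ξ (V i) (x i))).base default ∈ O i := by
  haveI := compactSpace_Fib f η
  have hcov : (Set.univ : Set (Fib f η)) ⊆ ⋃ i, ((cF f η (V i) (x i)) ⁻¹ᵁ (O i) : Set (Fib f η)) := by
    intro w _
    obtain ⟨ξ, rfl⟩ := exists_ptF f η w
    obtain ⟨i, hi⟩ := h ξ
    refine Set.mem_iUnion.2 ⟨i, ?_⟩
    show (cF f η (V i) (x i)).base ((ptF f η ξ).base default) ∈ O i
    rw [← ptF_cF] at hi
    exact hi
  obtain ⟨s, hs⟩ := isCompact_univ.elim_finite_subcover _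
    (fun i => ((cF f η (V i) (x i)) ⁻¹ᵁ (O i)).isOpen) hcov
  refine ⟨s, fun ξ => ?_⟩
  have h1 := hs (Set.mem_univ ((ptF f η ξ).base default))
  obtain ⟨i, hi⟩ := Set.mem_iUnion.1 h1
  obtain ⟨his, hi'⟩ := Set.mem_iUnion.1 hi
  refine ⟨i, his, ?_⟩
  rw [← ptF_cF]
  exact hi'

/-- **Shrinking the base.** An open of `X ×_Y V` containing the canonical points of all lifts contains
the preimage of an open neighbourhood of the base point. -/
theorem fibre_cover [IsIntegralHom f] (V : Y.Etale) (x : (Φ η).fiber.obj V)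
    (O : ((EtCoh.bc f).obj V).left.Opens)
    (hO : ∀ ξ : Lifts f η, (pt ξ.1 _ (liftPt f η ξ V x)).base default ∈ O) :
    ∃ (V₀ : Y.Etale) (e : V₀ ⟶ V) (x₀ : (Φ η).fiber.obj V₀), (Φ η).fiber.map e x₀ = x ∧
      ∀ z : ((EtCoh.bc f).obj V₀).left, ((EtCoh.bc f).map e).left.base z ∈ O := by
  let fV : ((EtCoh.bc f).obj V).left ⟶ V.left := (pullback.fst V.hom f : _)
  haveI : IsIntegralHom fV := inferInstanceAs (IsIntegralHom (pullback.fst V.hom f))
  let C : Set V.left := fV.base '' ((O : Set ((EtCoh.bc f).obj V).left)ᶜ)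
  have hC : IsClosed C := fV.isClosedMap _ O.isOpen.isClosed_compl
  have hvC : (pt η V x).base default ∉ C := by
    rintro ⟨z, hz, hzv⟩
    obtain ⟨ξ, hξ⟩ := exists_lift_of_mem_fibre f η V x z hzv
    apply hz
    rw [← hξ]
    exact hO ξ
  let V₂ : V.left.Opens := ⟨Cᶜ, hC.isOpen_compl⟩
  haveI : Etale (homX V) := V.prop
  have hrange : Set.range (pt η V x).base ⊆ Set.range V₂.ι.base := by
    rw [Scheme.Opens.range_ι]
    rintro _ ⟨a, rfl⟩
    rw [Subsingleton.elim a default]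
    exact hvC
  let v : Spec (CommRingCat.of Ω) ⟶ V₂.toScheme := IsOpenImmersion.lift V₂.ι (pt η V x) hrange
  have hv : v ≫ V₂.ι = pt η V x := IsOpenImmersion.lift_fac _ _ _
  let V₀ : Y.Etale := Scheme.Etale.mk (V₂.ι ≫ homX V)
  let e : V₀ ⟶ V := MorphismProperty.Over.homMk V₂.ι rfl trivial
  have hv' : v ≫ V₀.hom = η := by
    show v ≫ V₂.ι ≫ homX V = η
    rw [← Category.assoc, hv]
    exact pt_comp η V x
  refine ⟨V₀, e, mkPt η V₀ v hv', ?_, ?_⟩
  · apply pt_ext
    exact (pt_map η e _).trans hv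
  · intro z
    by_contra hz
    let fV₀ : ((EtCoh.bc f).obj V₀).left ⟶ V₀.left := (pullback.fst V₀.hom f : _)
    have hw : ((EtCoh.bc f).map e).left ≫ fV = fV₀ ≫ e.left := (EtCoh.isPullback_bc_map f e).w
    have h1 : fV.base (((EtCoh.bc f).map e).left.base z) ∈ C := ⟨_, hz, rfl⟩
    have h2 : fV.base (((EtCoh.bc f).map e).left.base z) = V₂.ι.base (fV₀.base z) :=
      congrArg (fun m => m.base z) hw
    rw [h2] at h1
    exact (fV₀.base z).2 h1


end Fib

end Groth.Agent.Helper1.IG
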