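import Mathlib
import Groth.Agent.Lib.Helper1.IG1
import Groth.Agent.Lib.Helper1.FP8

/-!
# Integral morphisms: separation of lifts of a geometric point by clopen subsets
-/

set_option autoImplicit false
set_option linter.unusedSectionVars false
set_option linter.style.haveILetI false
open CategoryTheory CategoryTheory.Limits AlgebraicGeometry Opposite
universe u

namespace Groth.Agent.Helper1.IG

open Groth.Agent.Helper1.ELR Groth.Agent.Helper1.FP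

section Sep

variable {Ω : Type u} [Field Ω]

theorem mem_basicOpen_of_evPt_ne_zero {Z : Scheme.{u}} (z : Spec (CommRingCat.of Ω) ⟶ Z)
    (e : Γ(Z, ⊤)) (h : evPt z e ≠ 0) (a : Spec (CommRingCat.of Ω)) : z.base a ∈ Z.basicOpen e := by
  have hpre : z ⁻¹ᵁ Z.basicOpen e = ⊤ := by
    rw [Scheme.preimage_basicOpen_top]
    apply Scheme.basicOpen_of_isUnit
    have h2 : IsUnit (evPt z e) := IsUnit.mk0 _ h
    have h3 := h2.map (Scheme.ΓSpecIso (CommRingCat.of Ω)).inv.hom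
    have h4 : (Scheme.ΓSpecIso (CommRingCat.of Ω)).inv.hom (evPt z e) = z.appTop.hom e :=
      iso_inv_hom_apply (Scheme.ΓSpecIso (CommRingCat.of Ω)) _
    rw [h4] at h3
    exact h3
  have hz : a ∈ (z ⁻¹ᵁ Z.basicOpen e) := by rw [hpre]; trivial
  exact hz

theorem evPt_ne_zero_of_mem_basicOpen {Z : Scheme.{u}} (z : Spec (CommRingCat.of Ω) ⟶ Z)
    (e : Γ(Z, ⊤)) (a : Spec (CommRingCat.of Ω)) (h : z.base a ∈ Z.basicOpen e) :
    evPt z e ≠ 0 := by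
  intro h0
  have h1 : z.appTop.hom e = 0 := by
    have h4 : (Scheme.ΓSpecIso (CommRingCat.of Ω)).inv.hom (evPt z e) = z.appTop.hom e :=
      iso_inv_hom_apply (Scheme.ΓSpecIso (CommRingCat.of Ω)) _
    rw [← h4, h0, map_zero]
  have h2 : a ∈ (z ⁻¹ᵁ Z.basicOpen e) := h
  rw [Scheme.preimage_basicOpen_top, h1, Scheme.basicOpen_zero] at h2
  exact h2

end Sep

section Sep2

variable {Ω : Type u} [Field Ω] [IsAlgClosed Ω]

attribute [local instance] Groth.Agent.Helper1.FP.algΓ Groth.Agent.Helper1.FP.algO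

/-- **Separation of lifts, affine base.** -/
theorem exists_sep_affine {X Y : Scheme.{u}} [IsAffine Y] (f : X ⟶ Y) [IsIntegralHom f]
    (η : Spec (CommRingCat.of Ω) ⟶ Y) (ξ ζ : Lifts f η) (hne : ξ ≠ ζ) :
    ∃ (V : Y.Etale) (v : Spec (CommRingCat.of Ω) ⟶ V.left) (_ : v ≫ V.hom = η),
      ∀ (Z : Scheme.{u}) (p : Z ⟶ V.left) (q : Z ⟶ X), p ≫ V.hom = q ≫ f →
        ∃ W : Z.Opens, IsClosed (W : Set Z) ∧
          (∀ z : Spec (CommRingCat.of Ω) ⟶ Z, z ≫ p = v → z ≫ q = ξ.1 → z.base default ∈ W) ∧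
          (∀ z : Spec (CommRingCat.of Ω) ⟶ Z, z ≫ p = v → z ≫ q = ζ.1 → z.base default ∉ W) := by
  classical
  haveI : IsAffine X := isAffine_of_isAffineHom f
  have hev : evPt ξ.1 ≠ evPt ζ.1 := fun h => hne (Subtype.ext (evPt_ext _ _ h))
  obtain ⟨b, hb⟩ : ∃ b, evPt ξ.1 b ≠ evPt ζ.1 b := by
    by_contra hcon
    push Not at hcon
    exact hev (RingHom.ext hcon)
  letI : Algebra Γ(Y, ⊤) Γ(X, ⊤) := f.appTop.hom.toAlgebra
  haveI : Algebra.IsIntegral Γ(Y, ⊤) Γ(X, ⊤) :=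
    ⟨IsIntegralHom.isIntegral_app f ⊤ (isAffineOpen_top Y)⟩
  let B₀ : Subalgebra Γ(Y, ⊤) Γ(X, ⊤) := Algebra.adjoin Γ(Y, ⊤) {b}
  haveI hfin : Module.Finite Γ(Y, ⊤) B₀ :=
    Algebra.finite_adjoin_of_finite_of_isIntegral (Set.finite_singleton b)
      (fun x _ => Algebra.IsIntegral.isIntegral x)
  have hι : (algebraMap B₀ Γ(X, ⊤)).comp (algebraMap Γ(Y, ⊤) B₀) = f.appTop.hom :=
    RingHom.ext fun r => rfl
  let cξ : PtS η B₀ := ⟨(evPt ξ.1).comp (algebraMap B₀ Γ(X, ⊤)), by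
    rw [RingHom.comp_assoc, hι, ← evPt_comp, ξ.2]⟩
  let cζ : PtS η B₀ := ⟨(evPt ζ.1).comp (algebraMap B₀ Γ(X, ⊤)), by
    rw [RingHom.comp_assoc, hι, ← evPt_comp, ζ.2]⟩
  have hc : cξ ≠ cζ := by
    intro h
    have h2 := congrArg (fun c : PtS η B₀ => c.1 ⟨b, Algebra.subset_adjoin (Set.mem_singleton b)⟩) h
    exact hb h2
  obtain ⟨hF, V, v, hv, H⟩ := exists_decomp_ring η B₀ (fun _ => trivPair B₀) (fun _ => 0)
    (fun c => by
      show (Polynomial.X : Polynomial B₀).eval₂ c.1 0 = 0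
      rw [Polynomial.eval₂_X])
    (fun c => by
      show IsUnit ((1 : Polynomial B₀).eval₂ c.1 0)
      rw [Polynomial.eval₂_one]
      exact isUnit_one)
  refine ⟨V, v, hv, ?_⟩
  intro Z p q hpq
  have hq : (q.appTop.hom.comp (algebraMap B₀ Γ(X, ⊤))).comp (algebraMap Γ(Y, ⊤) B₀) =
      (p ≫ V.hom).appTop.hom := by
    rw [RingHom.comp_assoc, hι, hpq, Scheme.Hom.comp_appTop]
    rfl
  obtain ⟨e, x, y, hidem, horth, hsum, -, -, hpt⟩ :=
    H Z p (q.appTop.hom.comp (algebraMap B₀ Γ(X, ⊤))) hq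
  letI := hF
  have hdis : ∀ c c', c ≠ c' → Disjoint (Z.basicOpen (e c)) (Z.basicOpen (e c')) :=
    fun c c' hcc => basicOpen_disjoint_of_mul_eq_zero _ _ (horth c c' hcc)
  have hcov : (⨆ c, Z.basicOpen (e c)) = ⊤ := iSup_basicOpen_eq_top e hsum
  refine ⟨Z.basicOpen (e cξ), isClosed_of_disjoint_cover _ hdis hcov cξ, ?_, ?_⟩
  · intro z hzp hzq
    have hzc : (evPt z).comp (q.appTop.hom.comp (algebraMap B₀ Γ(X, ⊤))) = cξ.1 := by
      rw [← RingHom.comp_assoc, ← evPt_comp, hzq]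
    obtain ⟨h1, -⟩ := hpt cξ z hzp hzc
    exact mem_basicOpen_of_evPt_ne_zero z _ (by rw [h1]; exact one_ne_zero) default
  · intro z hzp hzq hmem
    have hzc : (evPt z).comp (q.appTop.hom.comp (algebraMap B₀ Γ(X, ⊤))) = cζ.1 := by
      rw [← RingHom.comp_assoc, ← evPt_comp, hzq]
    obtain ⟨h1, -⟩ := hpt cζ z hzp hzc
    have h2 := evPt_ne_zero_of_mem_basicOpen z _ default hmem
    have h3 : evPt z (e cξ) * evPt z (e cζ) = 0 := by
      rw [← map_mul, horth cξ cζ hc, map_zero]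
    rw [h1, mul_one] at h3
    exact h2 h3

/-- **Separation of lifts.** Two distinct lifts of a geometric point along an integral morphism are
separated by a clopen subset of `X ×_Y V` for a suitable étale neighbourhood `V`. -/
theorem exists_sep {X Y : Scheme.{u}} (f : X ⟶ Y) [IsIntegralHom f]
    (η : Spec (CommRingCat.of Ω) ⟶ Y) (ξ ζ : Lifts f η) (hne : ξ ≠ ζ) :
    ∃ (V : Y.Etale) (v : Spec (CommRingCat.of Ω) ⟶ V.left) (_ : v ≫ V.hom = η),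
      ∀ (Z : Scheme.{u}) (p : Z ⟶ V.left) (q : Z ⟶ X), p ≫ V.hom = q ≫ f →
        ∃ W : Z.Opens, IsClosed (W : Set Z) ∧
          (∀ z : Spec (CommRingCat.of Ω) ⟶ Z, z ≫ p = v → z ≫ q = ξ.1 → z.base default ∈ W) ∧
          (∀ z : Spec (CommRingCat.of Ω) ⟶ Z, z ≫ p = v → z ≫ q = ζ.1 → z.base default ∉ W) := by
  obtain ⟨R', j, hj, hmem, -⟩ := Scheme.exists_affine_mem_range_and_range_subset
    (x := η default) (U := ⊤) (by trivial)
  have hrange : Set.range η ⊆ Set.range j := by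
    rintro _ ⟨a, rfl⟩
    rwa [Subsingleton.elim a default]
  let η₀ : Spec (CommRingCat.of Ω) ⟶ Spec R' := IsOpenImmersion.lift j η hrange
  have hη₀ : η₀ ≫ j = η := IsOpenImmersion.lift_fac _ _ _
  let f₀ : pullback f j ⟶ Spec R' := pullback.snd f j
  let j' : pullback f j ⟶ X := pullback.fst f j
  have hcond : j' ≫ f = f₀ ≫ j := pullback.condition
  let ξ₀ : Lifts f₀ η₀ := ⟨pullback.lift ξ.1 η₀ (by rw [ξ.2, hη₀]), pullback.lift_snd _ _ _⟩
  let ζ₀ : Lifts f₀ η₀ := ⟨pullback.lift ζ.1 η₀ (by rw [ζ.2, hη₀]), pullback.lift_snd _ _ _⟩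
  have hξ₀ : ξ₀.1 ≫ j' = ξ.1 := pullback.lift_fst _ _ _
  have hζ₀ : ζ₀.1 ≫ j' = ζ.1 := pullback.lift_fst _ _ _
  have hne₀ : ξ₀ ≠ ζ₀ := by
    intro h
    apply hne
    apply Subtype.ext
    rw [← hξ₀, ← hζ₀, h]
  obtain ⟨V₀, v₀, hv₀, H₀⟩ := exists_sep_affine f₀ η₀ ξ₀ ζ₀ hne₀
  haveI : Etale (homX V₀) := V₀.prop
  refine ⟨Scheme.Etale.mk (homX V₀ ≫ j), v₀, ?_, ?_⟩
  · show v₀ ≫ V₀.hom ≫ j = η
    rw [← Category.assoc, hv₀, hη₀]
  intro Z p q hpq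
  let p₀ : Z ⟶ V₀.left := p
  have hpq' : q ≫ f = (p₀ ≫ homX V₀) ≫ j := by
    rw [Category.assoc]
    exact hpq.symm
  let q₀ : Z ⟶ pullback f j := pullback.lift q (p₀ ≫ homX V₀) hpq'
  have hq₀1 : q₀ ≫ j' = q := pullback.lift_fst _ _ _
  have hq₀2 : q₀ ≫ f₀ = p₀ ≫ homX V₀ := pullback.lift_snd _ _ _
  obtain ⟨W, hcl, hin, hout⟩ := H₀ Z p₀ q₀ hq₀2.symm
  have key : ∀ (c : Lifts f₀ η₀) (z : Spec (CommRingCat.of Ω) ⟶ Z), z ≫ p = v₀ →
      z ≫ q = c.1 ≫ j' → z ≫ q₀ = c.1 := by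
    intro c z hzp hzq
    apply pullback.hom_ext
    · rw [Category.assoc]
      show z ≫ q₀ ≫ j' = c.1 ≫ j'
      rw [hq₀1]
      exact hzq
    · rw [Category.assoc]
      show z ≫ q₀ ≫ f₀ = c.1 ≫ f₀
      have hv₀' : v₀ ≫ homX V₀ = η₀ := hv₀
      have hzp' : z ≫ p₀ = v₀ := hzp
      rw [hq₀2, ← Category.assoc, hzp', hv₀']
      exact c.2.symm
  refine ⟨W, hcl, ?_, ?_⟩
  · intro z hzp hzq
    exact hin z hzp (key ξ₀ z hzp (by rw [hzq, hξ₀]))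
  · intro z hzp hzq
    exact hout z hzp (key ζ₀ z hzp (by rw [hzq, hζ₀]))

end Sep2

end Groth.Agent.Helper1.IG
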