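import Mathlib
import Groth.Agent.Lib.Helper1.IG2

/-!
# Integral morphisms in a cartesian square: comparison maps and clopen neighbourhoods coming from `X`
-/

set_option autoImplicit false
set_option linter.unusedSectionVars false
set_option linter.style.haveILetI false
open CategoryTheory CategoryTheory.Limits AlgebraicGeometry Opposite
universe u

namespace Groth.Agent.Helper1.IG

open Groth.Agent.Helper1.ELR Groth.Agent.Helper1.FP

/-- In a compact space, a family of closed sets which is stable under finite intersections and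
separates points contains arbitrarily small neighbourhoods-members of every point. -/
theorem exists_mem_subset_of_separating {Z : Type*} [TopologicalSpace Z] [CompactSpace Z]
    (𝒞 : Set (Set Z)) (hclosed : ∀ C ∈ 𝒞, IsClosed C) (huniv : Set.univ ∈ 𝒞)
    (hinter : ∀ C₁ ∈ 𝒞, ∀ C₂ ∈ 𝒞, C₁ ∩ C₂ ∈ 𝒞)
    (p : Z) (hsep : ∀ q, q ≠ p → ∃ C ∈ 𝒞, p ∈ C ∧ q ∉ C)
    (O : Set Z) (hO : IsOpen O) (hp : p ∈ O) : ∃ C ∈ 𝒞, p ∈ C ∧ C ⊆ O := by
  classical
  have hK : IsCompact Oᶜ := hO.isClosed_compl.isCompact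
  have hq : ∀ q : {q : Z // q ∈ Oᶜ}, ∃ C ∈ 𝒞, p ∈ C ∧ q.1 ∉ C := by
    intro q
    apply hsep q.1
    rintro rfl
    exact q.2 hp
  choose C hC𝒞 hpC hqC using hq
  have hcov : Oᶜ ⊆ ⋃ q, (C q)ᶜ := by
    intro z hz
    exact Set.mem_iUnion.2 ⟨⟨z, hz⟩, hqC ⟨z, hz⟩⟩
  obtain ⟨t, ht⟩ := hK.elim_finite_subcover (fun q => (C q)ᶜ)
    (fun q => (hclosed _ (hC𝒞 q)).isOpen_compl) hcov
  have hfin : ∀ s : Finset {q : Z // q ∈ Oᶜ}, (⋂ q ∈ s, C q) ∈ 𝒞 ∧ p ∈ ⋂ q ∈ s, C q := by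
    intro s
    induction s using Finset.induction_on with
    | empty => simpa using huniv
    | insert a s _ ih =>
      rw [Finset.set_biInter_insert]
      exact ⟨hinter _ (hC𝒞 a) _ ih.1, hpC a, ih.2⟩
  refine ⟨⋂ q ∈ t, C q, (hfin t).1, (hfin t).2, ?_⟩
  intro z hz
  by_contra hzO
  obtain ⟨q, hq⟩ := Set.mem_iUnion.1 (ht hzO)
  obtain ⟨hqt, hzq⟩ := Set.mem_iUnion.1 hq
  exact hzq (Set.mem_iInter₂.1 hz q hqt)


section Sq

variable {X Y X' Y' : Scheme.{u}} (f : X ⟶ Y) (g : Y' ⟶ Y) (f' : X' ⟶ Y') (g' : X' ⟶ X)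
  (h : IsPullback g' f' f g) {Ω : Type u} [Field Ω] [IsAlgClosed Ω]
  (η' : Spec (CommRingCat.of Ω) ⟶ Y')

include h in
theorem piN_cond (V : Y.Etale) {V'' : Y'.Etale} (n : V'' ⟶ (EtCoh.bc g).obj V) :
    ((pullback.fst V''.hom f' : ((EtCoh.bc f').obj V'').left ⟶ V''.left) ≫ n.left ≫
      (pullback.fst V.hom g : ((EtCoh.bc g).obj V).left ⟶ V.left)) ≫ V.hom =
    (((EtCoh.bc f').obj V'').hom ≫ g') ≫ f := by
  let a : ((EtCoh.bc f').obj V'').left ⟶ V''.left := (pullback.fst V''.hom f' : _)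
  let b : ((EtCoh.bc g).obj V).left ⟶ V.left := (pullback.fst V.hom g : _)
  let c : ((EtCoh.bc f').obj V'').left ⟶ X' := ((EtCoh.bc f').obj V'').hom
  have h1 : b ≫ V.hom = ((EtCoh.bc g).obj V).hom ≫ g := pullback.condition
  have h2 : n.left ≫ ((EtCoh.bc g).obj V).hom = V''.hom := MorphismProperty.Over.w n
  have h3 : a ≫ V''.hom = c ≫ f' := pullback.condition
  calc (a ≫ n.left ≫ b) ≫ V.hom = a ≫ (n.left ≫ (b ≫ V.hom)) := by simp only [Category.assoc]
    _ = a ≫ (n.left ≫ (((EtCoh.bc g).obj V).hom ≫ g)) :=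
        congrArg (fun m => a ≫ (n.left ≫ m)) h1
    _ = a ≫ ((n.left ≫ ((EtCoh.bc g).obj V).hom) ≫ g) := by simp only [Category.assoc]
    _ = a ≫ (V''.hom ≫ g) := congrArg (fun m => a ≫ (m ≫ g)) h2
    _ = (a ≫ V''.hom) ≫ g := (Category.assoc _ _ _).symm
    _ = (c ≫ f') ≫ g := congrArg (fun m => m ≫ g) h3
    _ = c ≫ (f' ≫ g) := Category.assoc _ _ _
    _ = c ≫ (g' ≫ f) := congrArg (fun m => c ≫ m) h.w.symm
    _ = (c ≫ g') ≫ f := (Category.assoc _ _ _).symm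

/-- the comparison map `X' ×_{Y'} V'' ⟶ X ×_Y V` attached to `V'' ⟶ Y' ×_Y V` -/
noncomputable def piN (V : Y.Etale) {V'' : Y'.Etale} (n : V'' ⟶ (EtCoh.bc g).obj V) :
    ((EtCoh.bc f').obj V'').left ⟶ ((EtCoh.bc f).obj V).left :=
  pullback.lift
    ((pullback.fst V''.hom f' : ((EtCoh.bc f').obj V'').left ⟶ V''.left) ≫ n.left ≫
      (pullback.fst V.hom g : ((EtCoh.bc g).obj V).left ⟶ V.left))
    (((EtCoh.bc f').obj V'').hom ≫ g') (piN_cond f g f' g' h V n)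

theorem piN_fst (V : Y.Etale) {V'' : Y'.Etale} (n : V'' ⟶ (EtCoh.bc g).obj V) :
    piN f g f' g' h V n ≫ (pullback.fst V.hom f : ((EtCoh.bc f).obj V).left ⟶ V.left) =
      (pullback.fst V''.hom f' : ((EtCoh.bc f').obj V'').left ⟶ V''.left) ≫ n.left ≫
        (pullback.fst V.hom g : ((EtCoh.bc g).obj V).left ⟶ V.left) :=
  pullback.lift_fst _ _ _

theorem piN_snd (V : Y.Etale) {V'' : Y'.Etale} (n : V'' ⟶ (EtCoh.bc g).obj V) :
    piN f g f' g' h V n ≫ ((EtCoh.bc f).obj V).hom = ((EtCoh.bc f').obj V'').hom ≫ g' :=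
  pullback.lift_snd _ _ _

/-- the canonical point of `X' ×_{Y'} V''` over a lift maps to the canonical point of `X ×_Y V` -/
theorem pt_liftPt_piN (ξ' : Lifts f' η') (V : Y.Etale) (x : (Φ (η' ≫ g)).fiber.obj V)
    {V'' : Y'.Etale} (y'' : (Φ η').fiber.obj V'') (n : V'' ⟶ (EtCoh.bc g).obj V)
    (hn : (Φ η').fiber.map n y'' = up g η' V x) :
    pt ξ'.1 _ (liftPt f' η' ξ' V'' y'') ≫ piN f g f' g' h V n =
      pt _ _ (liftPt f (η' ≫ g) (liftDn f g f' g' h η' ξ') V x) := by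
  let a : ((EtCoh.bc f').obj V'').left ⟶ V''.left := (pullback.fst V''.hom f' : _)
  let b : ((EtCoh.bc g).obj V).left ⟶ V.left := (pullback.fst V.hom g : _)
  let z := pt ξ'.1 _ (liftPt f' η' ξ' V'' y'')
  have hz1 : z ≫ a = pt η' V'' y'' := pt_liftPt_fst f' η' ξ' V'' y''
  have hz2 : z ≫ ((EtCoh.bc f').obj V'').hom = ξ'.1 := pt_liftPt_snd f' η' ξ' V'' y''
  have hn' : pt η' V'' y'' ≫ n.left = pt η' _ (up g η' V x) := by
    rw [← hn]
    rfl
  have hup : pt η' _ (up g η' V x) ≫ b = pt (η' ≫ g) V x := by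
    have := congrArg (pt (η' ≫ g) V) (dn_up g η' V x)
    rw [pt_dn] at this
    exact this
  apply pt_bc_ext f V
  · refine Eq.trans ?_ (pt_liftPt_fst f (η' ≫ g) _ V x).symm
    calc (z ≫ piN f g f' g' h V n) ≫
          (pullback.fst V.hom f : ((EtCoh.bc f).obj V).left ⟶ V.left)
        = z ≫ (piN f g f' g' h V n ≫
          (pullback.fst V.hom f : ((EtCoh.bc f).obj V).left ⟶ V.left)) := Category.assoc _ _ _
      _ = z ≫ (a ≫ n.left ≫ b) := congrArg (fun m => z ≫ m) (piN_fst f g f' g' h V n)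
      _ = ((z ≫ a) ≫ n.left) ≫ b := by simp only [Category.assoc]
      _ = (pt η' V'' y'' ≫ n.left) ≫ b := congrArg (fun m => (m ≫ n.left) ≫ b) hz1
      _ = pt η' _ (up g η' V x) ≫ b := congrArg (fun m => m ≫ b) hn'
      _ = pt (η' ≫ g) V x := hup
  · refine Eq.trans ?_ (pt_liftPt_snd f (η' ≫ g) _ V x).symm
    calc (z ≫ piN f g f' g' h V n) ≫ ((EtCoh.bc f).obj V).hom
        = z ≫ (piN f g f' g' h V n ≫ ((EtCoh.bc f).obj V).hom) := Category.assoc _ _ _
      _ = z ≫ (((EtCoh.bc f').obj V'').hom ≫ g') :=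
          congrArg (fun m => z ≫ m) (piN_snd f g f' g' h V n)
      _ = (z ≫ ((EtCoh.bc f').obj V'').hom) ≫ g' := (Category.assoc _ _ _).symm
      _ = ξ'.1 ≫ g' := congrArg (fun m => m ≫ g') hz2

/-- compatibility of the comparison map with refinement on the `Y'` side -/
theorem map_piN (V : Y.Etale) {V'' V''₁ : Y'.Etale} (e : V''₁ ⟶ V'') (n : V'' ⟶ (EtCoh.bc g).obj V) :
    ((EtCoh.bc f').map e).left ≫ piN f g f' g' h V n = piN f g f' g' h V (e ≫ n) := by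
  let a : ((EtCoh.bc f').obj V'').left ⟶ V''.left := (pullback.fst V''.hom f' : _)
  let a₁ : ((EtCoh.bc f').obj V''₁).left ⟶ V''₁.left := (pullback.fst V''₁.hom f' : _)
  let b : ((EtCoh.bc g).obj V).left ⟶ V.left := (pullback.fst V.hom g : _)
  have hw : ((EtCoh.bc f').map e).left ≫ a = a₁ ≫ e.left := (EtCoh.isPullback_bc_map f' e).w
  have hs : ((EtCoh.bc f').map e).left ≫ ((EtCoh.bc f').obj V'').hom =
      ((EtCoh.bc f').obj V''₁).hom := MorphismProperty.Over.w ((EtCoh.bc f').map e)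
  apply pt_bc_ext f V
  · refine Eq.trans ?_ (piN_fst f g f' g' h V (e ≫ n)).symm
    calc (((EtCoh.bc f').map e).left ≫ piN f g f' g' h V n) ≫
          (pullback.fst V.hom f : ((EtCoh.bc f).obj V).left ⟶ V.left)
        = ((EtCoh.bc f').map e).left ≫ (piN f g f' g' h V n ≫
          (pullback.fst V.hom f : ((EtCoh.bc f).obj V).left ⟶ V.left)) := Category.assoc _ _ _
      _ = ((EtCoh.bc f').map e).left ≫ (a ≫ n.left ≫ b) :=
          congrArg (fun m => ((EtCoh.bc f').map e).left ≫ m) (piN_fst f g f' g' h V n)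
      _ = (((EtCoh.bc f').map e).left ≫ a) ≫ (n.left ≫ b) := (Category.assoc _ _ _).symm
      _ = (a₁ ≫ e.left) ≫ (n.left ≫ b) := congrArg (fun m => m ≫ (n.left ≫ b)) hw
      _ = a₁ ≫ (e.left ≫ n.left) ≫ b := by simp only [Category.assoc]
      _ = a₁ ≫ (e ≫ n).left ≫ b := rfl
  · refine Eq.trans ?_ (piN_snd f g f' g' h V (e ≫ n)).symm
    calc (((EtCoh.bc f').map e).left ≫ piN f g f' g' h V n) ≫ ((EtCoh.bc f).obj V).hom
        = ((EtCoh.bc f').map e).left ≫ (piN f g f' g' h V n ≫ ((EtCoh.bc f).obj V).hom) :=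
          Category.assoc _ _ _
      _ = ((EtCoh.bc f').map e).left ≫ (((EtCoh.bc f').obj V'').hom ≫ g') :=
          congrArg (fun m => ((EtCoh.bc f').map e).left ≫ m) (piN_snd f g f' g' h V n)
      _ = (((EtCoh.bc f').map e).left ≫ ((EtCoh.bc f').obj V'').hom) ≫ g' :=
          (Category.assoc _ _ _).symm
      _ = ((EtCoh.bc f').obj V''₁).hom ≫ g' := congrArg (fun m => m ≫ g') hs

/-- compatibility of the comparison map with refinement on the `Y` side -/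
theorem piN_map {V V₁ : Y.Etale} (e : V₁ ⟶ V) {V'' : Y'.Etale} (n : V'' ⟶ (EtCoh.bc g).obj V₁) :
    piN f g f' g' h V₁ n ≫ ((EtCoh.bc f).map e).left =
      piN f g f' g' h V (n ≫ (EtCoh.bc g).map e) := by
  let a : ((EtCoh.bc f').obj V'').left ⟶ V''.left := (pullback.fst V''.hom f' : _)
  let b : ((EtCoh.bc g).obj V).left ⟶ V.left := (pullback.fst V.hom g : _)
  let b₁ : ((EtCoh.bc g).obj V₁).left ⟶ V₁.left := (pullback.fst V₁.hom g : _)
  let c : ((EtCoh.bc f).obj V).left ⟶ V.left := (pullback.fst V.hom f : _)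
  let c₁ : ((EtCoh.bc f).obj V₁).left ⟶ V₁.left := (pullback.fst V₁.hom f : _)
  have hw : ((EtCoh.bc f).map e).left ≫ c = c₁ ≫ e.left := (EtCoh.isPullback_bc_map f e).w
  have hwg : ((EtCoh.bc g).map e).left ≫ b = b₁ ≫ e.left := (EtCoh.isPullback_bc_map g e).w
  have hs : ((EtCoh.bc f).map e).left ≫ ((EtCoh.bc f).obj V).hom =
      ((EtCoh.bc f).obj V₁).hom := MorphismProperty.Over.w ((EtCoh.bc f).map e)
  apply pt_bc_ext f V
  · refine Eq.trans ?_ (piN_fst f g f' g' h V (n ≫ (EtCoh.bc g).map e)).symm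
    calc (piN f g f' g' h V₁ n ≫ ((EtCoh.bc f).map e).left) ≫ c
        = piN f g f' g' h V₁ n ≫ (((EtCoh.bc f).map e).left ≫ c) := Category.assoc _ _ _
      _ = piN f g f' g' h V₁ n ≫ (c₁ ≫ e.left) := congrArg (fun m => piN f g f' g' h V₁ n ≫ m) hw
      _ = (piN f g f' g' h V₁ n ≫ c₁) ≫ e.left := (Category.assoc _ _ _).symm
      _ = (a ≫ n.left ≫ b₁) ≫ e.left := congrArg (fun m => m ≫ e.left) (piN_fst f g f' g' h V₁ n)
      _ = a ≫ n.left ≫ (b₁ ≫ e.left) := by simp only [Category.assoc]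
      _ = a ≫ n.left ≫ (((EtCoh.bc g).map e).left ≫ b) :=
          congrArg (fun m => a ≫ n.left ≫ m) hwg.symm
      _ = a ≫ (n.left ≫ ((EtCoh.bc g).map e).left) ≫ b := by simp only [Category.assoc]
      _ = a ≫ (n ≫ (EtCoh.bc g).map e).left ≫ b := rfl
  · refine Eq.trans ?_ (piN_snd f g f' g' h V (n ≫ (EtCoh.bc g).map e)).symm
    calc (piN f g f' g' h V₁ n ≫ ((EtCoh.bc f).map e).left) ≫ ((EtCoh.bc f).obj V).hom
        = piN f g f' g' h V₁ n ≫ (((EtCoh.bc f).map e).left ≫ ((EtCoh.bc f).obj V).hom) :=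
          Category.assoc _ _ _
      _ = piN f g f' g' h V₁ n ≫ ((EtCoh.bc f).obj V₁).hom :=
          congrArg (fun m => piN f g f' g' h V₁ n ≫ m) hs
      _ = ((EtCoh.bc f').obj V'').hom ≫ g' := piN_snd f g f' g' h V₁ n

/-- comparison of the geometric fibres -/
noncomputable def rhoF : Fib f' η' ⟶ Fib f (η' ≫ g) :=
  pullback.lift (pullback.fst f' η' ≫ g') (pullback.snd f' η') (by
    rw [Category.assoc, h.w, ← Category.assoc, pullback.condition, Category.assoc])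

theorem ptF_rhoF (ξ' : Lifts f' η') :
    ptF f' η' ξ' ≫ rhoF f g f' g' h η' = ptF f (η' ≫ g) (liftDn f g f' g' h η' ξ') := by
  apply pullback.hom_ext
  · rw [Category.assoc, ptF_fst]
    show ptF f' η' ξ' ≫ rhoF f g f' g' h η' ≫ pullback.fst f (η' ≫ g) = ξ'.1 ≫ g'
    unfold rhoF
    rw [pullback.lift_fst, ← Category.assoc, ptF_fst]
  · rw [Category.assoc, ptF_snd]
    unfold rhoF
    rw [pullback.lift_snd, ptF_snd]

/-- the trace map: from the geometric fibre of `f'` to `X ×_Y V` -/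
noncomputable def trF (V : Y.Etale) (x : (Φ (η' ≫ g)).fiber.obj V) :
    Fib f' η' ⟶ ((EtCoh.bc f).obj V).left :=
  rhoF f g f' g' h η' ≫ cF f (η' ≫ g) V x

theorem ptF_trF (ξ' : Lifts f' η') (V : Y.Etale) (x : (Φ (η' ≫ g)).fiber.obj V) :
    ptF f' η' ξ' ≫ trF f g f' g' h η' V x =
      pt _ _ (liftPt f (η' ≫ g) (liftDn f g f' g' h η' ξ') V x) := by
  unfold trF
  rw [← Category.assoc, ptF_rhoF, ptF_cF]

theorem trF_map {V₁ V : Y.Etale} (e : V₁ ⟶ V) (x₁ : (Φ (η' ≫ g)).fiber.obj V₁) :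
    trF f g f' g' h η' V₁ x₁ ≫ ((EtCoh.bc f).map e).left =
      trF f g f' g' h η' V ((Φ (η' ≫ g)).fiber.map e x₁) := by
  unfold trF
  rw [Category.assoc, cF_map]

/-- the family of traces on the geometric fibre of `f'` of clopen subsets coming from `X` -/
def traces : Set (Set (Fib f' η')) :=
  {C | ∃ (V : Y.Etale) (x : (Φ (η' ≫ g)).fiber.obj V) (W : ((EtCoh.bc f).obj V).left.Opens),
    IsClosed (W : Set ((EtCoh.bc f).obj V).left) ∧
      C = (trF f g f' g' h η' V x).base ⁻¹' (W : Set ((EtCoh.bc f).obj V).left)}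

theorem traces_closed (C : Set (Fib f' η')) (hC : C ∈ traces f g f' g' h η') : IsClosed C := by
  obtain ⟨V, x, W, hW, rfl⟩ := hC
  exact hW.preimage (trF f g f' g' h η' V x).continuous

theorem traces_univ : Set.univ ∈ traces f g f' g' h η' :=
  ⟨EtCoh.top Y, x₀ (η' ≫ g), ⊤, isClosed_univ, rfl⟩

theorem traces_inter (C₁ : Set (Fib f' η')) (h₁ : C₁ ∈ traces f g f' g' h η')
    (C₂ : Set (Fib f' η')) (h₂ : C₂ ∈ traces f g f' g' h η') :
    C₁ ∩ C₂ ∈ traces f g f' g' h η' := by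
  obtain ⟨V₁, x₁, W₁, hW₁, rfl⟩ := h₁
  obtain ⟨V₂, x₂, W₂, hW₂, rfl⟩ := h₂
  let a : (Φ (η' ≫ g)).fiber.Elements := ⟨V₁, x₁⟩
  let b : (Φ (η' ≫ g)).fiber.Elements := ⟨V₂, x₂⟩
  let c := IsCofiltered.min a b
  let fa : c ⟶ a := IsCofiltered.minToLeft a b
  let fb : c ⟶ b := IsCofiltered.minToRight a b
  have ha : (Φ (η' ≫ g)).fiber.map fa.1 c.2 = x₁ := fa.2
  have hb : (Φ (η' ≫ g)).fiber.map fb.1 c.2 = x₂ := fb.2
  refine ⟨c.1, c.2, ((EtCoh.bc f).map fa.1).left ⁻¹ᵁ W₁ ⊓ ((EtCoh.bc f).map fb.1).left ⁻¹ᵁ W₂,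
    ?_, ?_⟩
  · exact (hW₁.preimage ((EtCoh.bc f).map fa.1).left.continuous).inter
      (hW₂.preimage ((EtCoh.bc f).map fb.1).left.continuous)
  · ext w
    have e1 : (trF f g f' g' h η' V₁ x₁).base w =
        ((EtCoh.bc f).map fa.1).left.base ((trF f g f' g' h η' c.1 c.2).base w) := by
      rw [← ha, ← trF_map]
      rfl
    have e2 : (trF f g f' g' h η' V₂ x₂).base w =
        ((EtCoh.bc f).map fb.1).left.base ((trF f g f' g' h η' c.1 c.2).base w) := by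
      rw [← hb, ← trF_map]
      rfl
    constructor
    · rintro ⟨hw1, hw2⟩
      have hw1' : (trF f g f' g' h η' V₁ x₁).base w ∈ W₁ := hw1
      have hw2' : (trF f g f' g' h η' V₂ x₂).base w ∈ W₂ := hw2
      rw [e1] at hw1'
      rw [e2] at hw2'
      exact ⟨hw1', hw2'⟩
    · rintro ⟨hw1, hw2⟩
      have hw1' : ((EtCoh.bc f).map fa.1).left.base ((trF f g f' g' h η' c.1 c.2).base w) ∈ W₁ := hw1
      have hw2' : ((EtCoh.bc f).map fb.1).left.base ((trF f g f' g' h η' c.1 c.2).base w) ∈ W₂ := hw2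
      rw [← e1] at hw1'
      rw [← e2] at hw2'
      exact ⟨hw1', hw2'⟩

theorem traces_sep [IsIntegralHom f] [IsIntegralHom f'] (ξ' : Lifts f' η') (q : Fib f' η')
    (hq : q ≠ (ptF f' η' ξ').base default) :
    ∃ C ∈ traces f g f' g' h η', (ptF f' η' ξ').base default ∈ C ∧ q ∉ C := by
  obtain ⟨ζ', rfl⟩ := exists_ptF f' η' q
  have hne : liftDn f g f' g' h η' ξ' ≠ liftDn f g f' g' h η' ζ' := by
    intro heq
    apply hq
    rw [liftDn_injective f g f' g' h η' ξ' ζ' heq]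
  obtain ⟨V, v, hv, H⟩ := exists_sep f (η' ≫ g) _ _ hne
  let x : (Φ (η' ≫ g)).fiber.obj V := mkPt (η' ≫ g) V v hv
  obtain ⟨W, hcl, hin, hout⟩ := H ((EtCoh.bc f).obj V).left
    (pullback.fst V.hom f : ((EtCoh.bc f).obj V).left ⟶ V.left) ((EtCoh.bc f).obj V).hom
    pullback.condition
  refine ⟨_, ⟨V, x, W, hcl, rfl⟩, ?_, ?_⟩
  · show (trF f g f' g' h η' V x).base ((ptF f' η' ξ').base default) ∈ W
    have h1 := hin (pt _ _ (liftPt f (η' ≫ g) (liftDn f g f' g' h η' ξ') V x))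
      (pt_liftPt_fst f (η' ≫ g) _ V x) (pt_liftPt_snd f (η' ≫ g) _ V x)
    rw [← ptF_trF] at h1
    exact h1
  · intro hmem
    have hmem' : (trF f g f' g' h η' V x).base ((ptF f' η' ζ').base default) ∈ W := hmem
    have h1 := hout (pt _ _ (liftPt f (η' ≫ g) (liftDn f g f' g' h η' ζ') V x))
      (pt_liftPt_fst f (η' ≫ g) _ V x) (pt_liftPt_snd f (η' ≫ g) _ V x)
    rw [← ptF_trF] at h1
    exact h1 hmem'

/-- **Clopen neighbourhoods coming from `X`.** Every open neighbourhood, in `X' ×_{Y'} V'₀`, of the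
canonical point of a lift contains (after refining the étale neighbourhood) the pullback of a clopen
subset of some `X ×_Y V` containing the canonical point of the corresponding lift. -/
theorem exists_clopen_nbhd [IsIntegralHom f] (ξ' : Lifts f' η') (V'₀ : Y'.Etale)
    (y'₀ : (Φ η').fiber.obj V'₀) (A : ((EtCoh.bc f').obj V'₀).left.Opens)
    (hA : (pt ξ'.1 _ (liftPt f' η' ξ' V'₀ y'₀)).base default ∈ A) :
    ∃ (V : Y.Etale) (x : (Φ (η' ≫ g)).fiber.obj V) (W : ((EtCoh.bc f).obj V).left.Opens),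
      IsClosed (W : Set ((EtCoh.bc f).obj V).left) ∧
      (pt _ _ (liftPt f (η' ≫ g) (liftDn f g f' g' h η' ξ') V x)).base default ∈ W ∧
      ∃ (V'' : Y'.Etale) (y'' : (Φ η').fiber.obj V'') (n₁ : V'' ⟶ V'₀)
        (n₂ : V'' ⟶ (EtCoh.bc g).obj V),
        (Φ η').fiber.map n₁ y'' = y'₀ ∧ (Φ η').fiber.map n₂ y'' = up g η' V x ∧
        ∀ z : ((EtCoh.bc f').obj V'').left, (piN f g f' g' h V n₂).base z ∈ W →
          ((EtCoh.bc f').map n₁).left.base z ∈ A := by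
  haveI : IsIntegralHom f' := MorphismProperty.of_isPullback (P := @IsIntegralHom) h inferInstance
  haveI := compactSpace_Fib f' η'
  let O : Set (Fib f' η') := (cF f' η' V'₀ y'₀).base ⁻¹' (A : Set ((EtCoh.bc f').obj V'₀).left)
  have hO : IsOpen O := A.isOpen.preimage (cF f' η' V'₀ y'₀).continuous
  have hpO : (ptF f' η' ξ').base default ∈ O := by
    show (cF f' η' V'₀ y'₀).base ((ptF f' η' ξ').base default) ∈ A
    rw [← ptF_cF] at hA
    exact hA
  obtain ⟨C, ⟨V, x, W, hW, rfl⟩, hpC, hCO⟩ := exists_mem_subset_of_separating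
    (traces f g f' g' h η') (traces_closed f g f' g' h η') (traces_univ f g f' g' h η')
    (traces_inter f g f' g' h η') ((ptF f' η' ξ').base default)
    (fun q hq => traces_sep f g f' g' h η' ξ' q hq) O hO hpO
  have hξW : (pt _ _ (liftPt f (η' ≫ g) (liftDn f g f' g' h η' ξ') V x)).base default ∈ W := by
    rw [← ptF_trF]
    exact hpC
  refine ⟨V, x, W, hW, hξW, ?_⟩
  let a : (Φ η').fiber.Elements := ⟨V'₀, y'₀⟩
  let b : (Φ η').fiber.Elements := ⟨(EtCoh.bc g).obj V, up g η' V x⟩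
  let c := IsCofiltered.min a b
  let fa : c ⟶ a := IsCofiltered.minToLeft a b
  let fb : c ⟶ b := IsCofiltered.minToRight a b
  have ha : (Φ η').fiber.map fa.1 c.2 = y'₀ := fa.2
  have hb : (Φ η').fiber.map fb.1 c.2 = up g η' V x := fb.2
  let B : Set ((EtCoh.bc f').obj c.1).left :=
    (piN f g f' g' h V fb.1).base ⁻¹' (W : Set ((EtCoh.bc f).obj V).left)
  have hB : IsClosed B := hW.preimage (piN f g f' g' h V fb.1).continuous
  let O₂ : ((EtCoh.bc f').obj c.1).left.Opens :=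
    ⟨Bᶜ, hB.isOpen_compl⟩ ⊔ ((EtCoh.bc f').map fa.1).left ⁻¹ᵁ A
  have hO₂ : ∀ ζ' : Lifts f' η', (pt ζ'.1 _ (liftPt f' η' ζ' c.1 c.2)).base default ∈ O₂ := by
    intro ζ'
    by_cases hζ : (pt ζ'.1 _ (liftPt f' η' ζ' c.1 c.2)).base default ∈ B
    · right
      have h1 : (piN f g f' g' h V fb.1).base
          ((pt ζ'.1 _ (liftPt f' η' ζ' c.1 c.2)).base default) ∈ W := hζ
      have h2 : (pt ζ'.1 _ (liftPt f' η' ζ' c.1 c.2) ≫ piN f g f' g' h V fb.1).base default ∈ W :=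
        h1
      rw [pt_liftPt_piN f g f' g' h η' ζ' V x c.2 fb.1 hb, ← ptF_trF] at h2
      have h3 : (ptF f' η' ζ').base default ∈ O := hCO h2
      have h4 : (cF f' η' V'₀ y'₀).base ((ptF f' η' ζ').base default) ∈ A := h3
      have h5 : (ptF f' η' ζ' ≫ cF f' η' V'₀ y'₀).base default ∈ A := h4
      rw [ptF_cF, ← ha, ← liftPt_map] at h5
      exact h5
    · left
      exact hζ
  obtain ⟨V''₀, e, y''₀, hy''₀, hcov⟩ := fibre_cover f' η' c.1 c.2 O₂ hO₂
  refine ⟨V''₀, y''₀, e ≫ fa.1, e ≫ fb.1, ?_, ?_, ?_⟩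
  · rw [Functor.map_comp]
    show (Φ η').fiber.map fa.1 ((Φ η').fiber.map e y''₀) = y'₀
    rw [hy''₀, ha]
  · rw [Functor.map_comp]
    show (Φ η').fiber.map fb.1 ((Φ η').fiber.map e y''₀) = up g η' V x
    rw [hy''₀, hb]
  · intro z hz
    rw [← map_piN] at hz
    have hz' : ((EtCoh.bc f').map e).left.base z ∈ B := hz
    rcases hcov z with h1 | h1
    · exact (h1 hz').elim
    · rw [Functor.map_comp]
      exact h1

end Sq

end Groth.Agent.Helper1.IG
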