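import Mathlib
import Groth.Agent.Lib.Helper1.IG3
import Groth.Agent.Lib.Helper1.SG2

/-!
# Opens of étale schemes as objects of the small étale site, and the comparison maps `kap`, `lam`
-/

set_option autoImplicit false
set_option linter.unusedSectionVars false
set_option linter.style.haveILetI false
open CategoryTheory CategoryTheory.Limits AlgebraicGeometry Opposite
universe u

namespace Groth.Agent.Helper1.IG

open Groth.Agent.Helper1.ELR Groth.Agent.Helper1.FP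

theorem assoc4 {C : Type*} [Category C] {A B D E F : C} (a : A ⟶ B) (b : B ⟶ D) (c : D ⟶ E)
    (d : E ⟶ F) : ((a ≫ b) ≫ c) ≫ d = a ≫ ((b ≫ c) ≫ d) := by simp

theorem assoc4' {C : Type*} [Category C] {A B D E F : C} (a : A ⟶ B) (b : B ⟶ D) (c : D ⟶ E)
    (d : E ⟶ F) : a ≫ ((b ≫ c) ≫ d) = (a ≫ b) ≫ (c ≫ d) := by simp

section Oobj

variable {X : Scheme.{u}}

/-- an open of an étale `X`-scheme, as an étale `X`-scheme -/
noncomputable def Oobj (N : X.Etale) (O : N.left.Opens) : X.Etale :=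
  haveI : Etale (homX N) := N.prop
  Scheme.Etale.mk (O.ι ≫ homX N)

/-- the inclusion -/
noncomputable def Oincl (N : X.Etale) (O : N.left.Opens) : Oobj N O ⟶ N :=
  MorphismProperty.Over.homMk O.ι rfl trivial

theorem Oincl_left (N : X.Etale) (O : N.left.Opens) : (Oincl N O).left = O.ι := rfl

theorem hom_ext_Oobj {N T : X.Etale} {O : N.left.Opens} (a b : T ⟶ Oobj N O)
    (hab : a ≫ Oincl N O = b ≫ Oincl N O) : a = b := by
  apply MorphismProperty.Over.Hom.ext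
  have h1 : a.left ≫ O.ι = b.left ≫ O.ι := congrArg (fun m => m.left) hab
  exact (cancel_mono O.ι).1 h1

/-- lifting a morphism of schemes through an open -/
noncomputable def OliftS {Z S : Scheme.{u}} (m : Z ⟶ S) (O : S.Opens)
    (hm : ∀ t : Z, m.base t ∈ O) : Z ⟶ O.toScheme :=
  IsOpenImmersion.lift O.ι m (by
    rw [Scheme.Opens.range_ι]
    rintro _ ⟨t, rfl⟩
    exact hm t)

theorem OliftS_ι {Z S : Scheme.{u}} (m : Z ⟶ S) (O : S.Opens)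
    (hm : ∀ t : Z, m.base t ∈ O) : OliftS m O hm ≫ O.ι = m :=
  IsOpenImmersion.lift_fac _ _ _

/-- lifting a morphism through an open -/
noncomputable def Olift {N T : X.Etale} (m : T ⟶ N) (O : N.left.Opens)
    (hm : ∀ t : T.left, m.left.base t ∈ O) : T ⟶ Oobj N O :=
  MorphismProperty.Over.homMk (OliftS m.left O hm)
    (by
      show OliftS m.left O hm ≫ O.ι ≫ homX N = T.hom
      rw [← Category.assoc, OliftS_ι]
      exact MorphismProperty.Over.w m) trivial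

theorem Olift_incl {N T : X.Etale} (m : T ⟶ N) (O : N.left.Opens)
    (hm : ∀ t : T.left, m.left.base t ∈ O) : Olift m O hm ≫ Oincl N O = m := by
  apply MorphismProperty.Over.Hom.ext
  exact OliftS_ι m.left O hm

theorem Oincl_mem (N : X.Etale) (O : N.left.Opens) (t : (Oobj N O).left) :
    (Oincl N O).left.base t ∈ O := t.2

/-- the morphism between opens induced by a morphism -/
noncomputable def Omap {N₁ N : X.Etale} (m : N₁ ⟶ N) (O₁ : N₁.left.Opens) (O : N.left.Opens)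
    (hle : ∀ t : N₁.left, t ∈ O₁ → m.left.base t ∈ O) : Oobj N₁ O₁ ⟶ Oobj N O :=
  Olift (Oincl N₁ O₁ ≫ m) O (fun t => hle _ t.2)

theorem Omap_incl {N₁ N : X.Etale} (m : N₁ ⟶ N) (O₁ : N₁.left.Opens) (O : N.left.Opens)
    (hle : ∀ t : N₁.left, t ∈ O₁ → m.left.base t ∈ O) :
    Omap m O₁ O hle ≫ Oincl N O = Oincl N₁ O₁ ≫ m := Olift_incl _ _ _

end Oobj

section MkBC

variable {X X' : Scheme.{u}} (k : X' ⟶ X)

/-- morphisms into a base change are determined by their first projection -/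
theorem hom_ext_bc {T' : X'.Etale} {U : X.Etale} (a b : T' ⟶ (EtCoh.bc k).obj U)
    (hab : a.left ≫ US.prV k U = b.left ≫ US.prV k U) : a = b := by
  apply MorphismProperty.Over.Hom.ext
  apply pt_bc_ext k U
  · exact hab
  · exact (MorphismProperty.Over.w a).trans (MorphismProperty.Over.w b).symm

/-- a morphism into a base change from its first projection -/
noncomputable def mkBC (T' : X'.Etale) (U : X.Etale) (φ : T'.left ⟶ U.left)
    (hφ : φ ≫ U.hom = T'.hom ≫ k) : T' ⟶ (EtCoh.bc k).obj U :=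
  MorphismProperty.Over.homMk (pullback.lift φ T'.hom hφ) (pullback.lift_snd _ _ _) trivial

theorem mkBC_fst (T' : X'.Etale) (U : X.Etale) (φ : T'.left ⟶ U.left)
    (hφ : φ ≫ U.hom = T'.hom ≫ k) : (mkBC k T' U φ hφ).left ≫ US.prV k U = φ :=
  pullback.lift_fst _ _ _

end MkBC

section Sq2

variable {X Y X' Y' : Scheme.{u}} (f : X ⟶ Y) (g : Y' ⟶ Y) (f' : X' ⟶ Y') (g' : X' ⟶ X)
  (h : IsPullback g' f' f g)

/-- the comparison `X' ×_{Y'} V'' ⟶ X' ×_X (X ×_Y V)` attached to `V'' ⟶ Y' ×_Y V` -/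
noncomputable def kap (V : Y.Etale) {V'' : Y'.Etale} (n : V'' ⟶ (EtCoh.bc g).obj V) :
    (EtCoh.bc f').obj V'' ⟶ (EtCoh.bc g').obj ((EtCoh.bc f).obj V) :=
  (EtCoh.bc f').map n ≫ ιBC f g f' g' h.w V

theorem kap_fst (V : Y.Etale) {V'' : Y'.Etale} (n : V'' ⟶ (EtCoh.bc g).obj V) :
    (kap f g f' g' h V n).left ≫ US.prV g' ((EtCoh.bc f).obj V) = piN f g f' g' h V n := by
  let κ := kap f g f' g' h V n
  let a : ((EtCoh.bc f').obj V'').left ⟶ V''.left := US.prV f' V''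
  let b : ((EtCoh.bc g).obj V).left ⟶ V.left := US.prV g V
  let c : ((EtCoh.bc f').obj ((EtCoh.bc g).obj V)).left ⟶ ((EtCoh.bc g).obj V).left :=
    US.prV f' ((EtCoh.bc g).obj V)
  let d : ((EtCoh.bc g').obj ((EtCoh.bc f).obj V)).left ⟶ ((EtCoh.bc f).obj V).left :=
    US.prV g' ((EtCoh.bc f).obj V)
  let p : ((EtCoh.bc f).obj V).left ⟶ V.left := US.prV f V
  have h1 : (ιBC f g f' g' h.w V).left ≫ d ≫ p = c ≫ b := ιBC_fst_fst f g f' g' h.w V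
  have h2 : ((EtCoh.bc f').map n).left ≫ c = a ≫ n.left := (EtCoh.isPullback_bc_map f' n).w
  have h3 : d ≫ ((EtCoh.bc f).obj V).hom = ((EtCoh.bc g').obj ((EtCoh.bc f).obj V)).hom ≫ g' :=
    pullback.condition
  have h4 : κ.left ≫ ((EtCoh.bc g').obj ((EtCoh.bc f).obj V)).hom = ((EtCoh.bc f').obj V'').hom :=
    MorphismProperty.Over.w κ
  have h5 : κ.left = ((EtCoh.bc f').map n).left ≫ (ιBC f g f' g' h.w V).left := rfl
  apply pt_bc_ext f V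
  · refine Eq.trans ?_ (piN_fst f g f' g' h V n).symm
    calc (κ.left ≫ d) ≫ p
        = ((EtCoh.bc f').map n).left ≫ ((ιBC f g f' g' h.w V).left ≫ d ≫ p) := by
          rw [h5]; simp only [Category.assoc]
      _ = ((EtCoh.bc f').map n).left ≫ (c ≫ b) :=
          congrArg (fun m => ((EtCoh.bc f').map n).left ≫ m) h1
      _ = (((EtCoh.bc f').map n).left ≫ c) ≫ b := (Category.assoc _ _ _).symm
      _ = (a ≫ n.left) ≫ b := congrArg (fun m => m ≫ b) h2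
      _ = a ≫ n.left ≫ b := Category.assoc _ _ _
  · refine Eq.trans ?_ (piN_snd f g f' g' h V n).symm
    calc (κ.left ≫ d) ≫ ((EtCoh.bc f).obj V).hom
        = κ.left ≫ (d ≫ ((EtCoh.bc f).obj V).hom) := Category.assoc _ _ _
      _ = κ.left ≫ (((EtCoh.bc g').obj ((EtCoh.bc f).obj V)).hom ≫ g') :=
          congrArg (fun m => κ.left ≫ m) h3
      _ = (κ.left ≫ ((EtCoh.bc g').obj ((EtCoh.bc f).obj V)).hom) ≫ g' :=
          (Category.assoc _ _ _).symm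
      _ = ((EtCoh.bc f').obj V'').hom ≫ g' := congrArg (fun m => m ≫ g') h4

/-- the preimage in `X' ×_{Y'} V''` of an open of `X ×_Y V` -/
noncomputable def Wsh (V : Y.Etale) {V'' : Y'.Etale} (n : V'' ⟶ (EtCoh.bc g).obj V)
    (W : ((EtCoh.bc f).obj V).left.Opens) : ((EtCoh.bc f').obj V'').left.Opens :=
  (piN f g f' g' h V n) ⁻¹ᵁ W

theorem mem_Wsh (V : Y.Etale) {V'' : Y'.Etale} (n : V'' ⟶ (EtCoh.bc g).obj V)
    (W : ((EtCoh.bc f).obj V).left.Opens) (z : ((EtCoh.bc f').obj V'').left) :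
    z ∈ Wsh f g f' g' h V n W ↔ (piN f g f' g' h V n).base z ∈ W := Iff.rfl

/-- the scheme morphism underlying `lam` -/
noncomputable def lamS (V : Y.Etale) {V'' : Y'.Etale} (n : V'' ⟶ (EtCoh.bc g).obj V)
    (W : ((EtCoh.bc f).obj V).left.Opens) :
    (Wsh f g f' g' h V n W).toScheme ⟶ W.toScheme :=
  OliftS ((Wsh f g f' g' h V n W).ι ≫ piN f g f' g' h V n) W (fun t => t.2)

theorem lamS_ι (V : Y.Etale) {V'' : Y'.Etale} (n : V'' ⟶ (EtCoh.bc g).obj V)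
    (W : ((EtCoh.bc f).obj V).left.Opens) :
    lamS f g f' g' h V n W ≫ W.ι = (Wsh f g f' g' h V n W).ι ≫ piN f g f' g' h V n :=
  OliftS_ι _ _ _

/-- the comparison `piN⁻¹ W ⟶ X' ×_X W` -/
noncomputable def lam (V : Y.Etale) {V'' : Y'.Etale} (n : V'' ⟶ (EtCoh.bc g).obj V)
    (W : ((EtCoh.bc f).obj V).left.Opens) :
    Oobj ((EtCoh.bc f').obj V'') (Wsh f g f' g' h V n W) ⟶
      (EtCoh.bc g').obj (Oobj ((EtCoh.bc f).obj V) W) :=
  mkBC g' (Oobj ((EtCoh.bc f').obj V'') (Wsh f g f' g' h V n W)) (Oobj ((EtCoh.bc f).obj V) W)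
    (lamS f g f' g' h V n W) (by
      show lamS f g f' g' h V n W ≫ W.ι ≫ ((EtCoh.bc f).obj V).hom =
        ((Wsh f g f' g' h V n W).ι ≫ ((EtCoh.bc f').obj V'').hom) ≫ g'
      rw [← Category.assoc, lamS_ι, Category.assoc, piN_snd, Category.assoc])

theorem lam_fst (V : Y.Etale) {V'' : Y'.Etale} (n : V'' ⟶ (EtCoh.bc g).obj V)
    (W : ((EtCoh.bc f).obj V).left.Opens) :
    (lam f g f' g' h V n W).left ≫ US.prV g' (Oobj ((EtCoh.bc f).obj V) W) =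
      lamS f g f' g' h V n W :=
  mkBC_fst g' _ _ _ _

/-- naturality of `lam` -/
theorem lam_nat {V V₂ : Y.Etale} (e : V₂ ⟶ V) {V'' V''₂ : Y'.Etale} (e'' : V''₂ ⟶ V'')
    (n : V'' ⟶ (EtCoh.bc g).obj V) (n' : V''₂ ⟶ (EtCoh.bc g).obj V₂)
    (hcomm : e'' ≫ n = n' ≫ (EtCoh.bc g).map e)
    (W : ((EtCoh.bc f).obj V).left.Opens) (W₂ : ((EtCoh.bc f).obj V₂).left.Opens)
    (r : Oobj ((EtCoh.bc f').obj V''₂) (Wsh f g f' g' h V₂ n' W₂) ⟶
      Oobj ((EtCoh.bc f').obj V'') (Wsh f g f' g' h V n W))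
    (hr : r ≫ Oincl _ _ = Oincl _ _ ≫ (EtCoh.bc f').map e'')
    (ψ : Oobj ((EtCoh.bc f).obj V₂) W₂ ⟶ Oobj ((EtCoh.bc f).obj V) W)
    (hψ : ψ ≫ Oincl _ _ = Oincl _ _ ≫ (EtCoh.bc f).map e) :
    r ≫ lam f g f' g' h V n W = lam f g f' g' h V₂ n' W₂ ≫ (EtCoh.bc g').map ψ := by
  let T₁ : X'.Etale := Oobj ((EtCoh.bc f').obj V'') (Wsh f g f' g' h V n W)
  let T₂ : X'.Etale := Oobj ((EtCoh.bc f').obj V''₂) (Wsh f g f' g' h V₂ n' W₂)
  let U₁ : X.Etale := Oobj ((EtCoh.bc f).obj V) W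
  let U₂ : X.Etale := Oobj ((EtCoh.bc f).obj V₂) W₂
  let pW : ((EtCoh.bc g').obj U₁).left ⟶ U₁.left := US.prV g' U₁
  let pW₂ : ((EtCoh.bc g').obj U₂).left ⟶ U₂.left := US.prV g' U₂
  let ι₁ : T₁.left ⟶ ((EtCoh.bc f').obj V'').left := (Wsh f g f' g' h V n W).ι
  let ι₂ : T₂.left ⟶ ((EtCoh.bc f').obj V''₂).left := (Wsh f g f' g' h V₂ n' W₂).ι
  let ιW : U₁.left ⟶ ((EtCoh.bc f).obj V).left := W.ι
  let ιW₂ : U₂.left ⟶ ((EtCoh.bc f).obj V₂).left := W₂.ι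
  let l₁ : T₁.left ⟶ U₁.left := lamS f g f' g' h V n W
  let l₂ : T₂.left ⟶ U₂.left := lamS f g f' g' h V₂ n' W₂
  let L₁ : T₁ ⟶ (EtCoh.bc g').obj U₁ := lam f g f' g' h V n W
  let L₂ : T₂ ⟶ (EtCoh.bc g').obj U₂ := lam f g f' g' h V₂ n' W₂
  haveI : Mono ιW := inferInstanceAs (Mono W.ι)
  have hr' : r.left ≫ ι₁ = ι₂ ≫ ((EtCoh.bc f').map e'').left := congrArg (fun m => m.left) hr
  have hψ' : ψ.left ≫ ιW = ιW₂ ≫ ((EtCoh.bc f).map e).left := congrArg (fun m => m.left) hψ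
  have hsq : ((EtCoh.bc g').map ψ).left ≫ pW = pW₂ ≫ ψ.left := (EtCoh.isPullback_bc_map g' ψ).w
  have e1 : L₁.left ≫ pW = l₁ := lam_fst f g f' g' h V n W
  have e2 : L₂.left ≫ pW₂ = l₂ := lam_fst f g f' g' h V₂ n' W₂
  have i1 : l₁ ≫ ιW = ι₁ ≫ piN f g f' g' h V n := lamS_ι f g f' g' h V n W
  have i2 : l₂ ≫ ιW₂ = ι₂ ≫ piN f g f' g' h V₂ n' := lamS_ι f g f' g' h V₂ n' W₂
  apply hom_ext_bc g'
  apply (cancel_mono ιW).1
  have hL : ((r ≫ L₁).left ≫ pW) ≫ ιW = ι₂ ≫ piN f g f' g' h V (e'' ≫ n) := by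
    calc ((r ≫ L₁).left ≫ pW) ≫ ιW
        = r.left ≫ ((L₁.left ≫ pW) ≫ ιW) := assoc4 r.left L₁.left pW ιW
      _ = r.left ≫ (l₁ ≫ ιW) := congrArg (fun m => r.left ≫ (m ≫ ιW)) e1
      _ = r.left ≫ (ι₁ ≫ piN f g f' g' h V n) := congrArg (fun m => r.left ≫ m) i1
      _ = (r.left ≫ ι₁) ≫ piN f g f' g' h V n := (Category.assoc _ _ _).symm
      _ = (ι₂ ≫ ((EtCoh.bc f').map e'').left) ≫ piN f g f' g' h V n :=
          congrArg (fun m => m ≫ piN f g f' g' h V n) hr'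
      _ = ι₂ ≫ (((EtCoh.bc f').map e'').left ≫ piN f g f' g' h V n) := Category.assoc _ _ _
      _ = ι₂ ≫ piN f g f' g' h V (e'' ≫ n) :=
          congrArg (fun m => ι₂ ≫ m) (map_piN f g f' g' h V e'' n)
  have hR : ((L₂ ≫ (EtCoh.bc g').map ψ).left ≫ pW) ≫ ιW =
      ι₂ ≫ piN f g f' g' h V (n' ≫ (EtCoh.bc g).map e) := by
    calc ((L₂ ≫ (EtCoh.bc g').map ψ).left ≫ pW) ≫ ιW
        = L₂.left ≫ ((((EtCoh.bc g').map ψ).left ≫ pW) ≫ ιW) :=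
          assoc4 L₂.left ((EtCoh.bc g').map ψ).left pW ιW
      _ = L₂.left ≫ ((pW₂ ≫ ψ.left) ≫ ιW) := congrArg (fun m => L₂.left ≫ (m ≫ ιW)) hsq
      _ = (L₂.left ≫ pW₂) ≫ (ψ.left ≫ ιW) := assoc4' L₂.left pW₂ ψ.left ιW
      _ = l₂ ≫ (ψ.left ≫ ιW) := congrArg (fun m => m ≫ (ψ.left ≫ ιW)) e2
      _ = l₂ ≫ (ιW₂ ≫ ((EtCoh.bc f).map e).left) := congrArg (fun m => l₂ ≫ m) hψ'
      _ = (l₂ ≫ ιW₂) ≫ ((EtCoh.bc f).map e).left := (Category.assoc _ _ _).symm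
      _ = (ι₂ ≫ piN f g f' g' h V₂ n') ≫ ((EtCoh.bc f).map e).left :=
          congrArg (fun m => m ≫ ((EtCoh.bc f).map e).left) i2
      _ = ι₂ ≫ (piN f g f' g' h V₂ n' ≫ ((EtCoh.bc f).map e).left) := Category.assoc _ _ _
      _ = ι₂ ≫ piN f g f' g' h V (n' ≫ (EtCoh.bc g).map e) :=
          congrArg (fun m => ι₂ ≫ m) (piN_map f g f' g' h e n')
  rw [hcomm] at hL
  exact hL.trans hR.symm

end Sq2

section Ptd

variable {X : Scheme.{u}} {Ω : Type u} [Field Ω] [IsSepClosed Ω] (ξ : Spec (CommRingCat.of Ω) ⟶ X)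

/-- cospans of pointed étale neighbourhoods can be completed -/
theorem cospan_pt {A B C : X.Etale} (a : (Φ ξ).fiber.obj A) (b : (Φ ξ).fiber.obj B)
    (c : (Φ ξ).fiber.obj C) (p : A ⟶ C) (q : B ⟶ C) (hp : (Φ ξ).fiber.map p a = c)
    (hq : (Φ ξ).fiber.map q b = c) :
    ∃ (D : X.Etale) (d : (Φ ξ).fiber.obj D) (r : D ⟶ A) (s : D ⟶ B),
      (Φ ξ).fiber.map r d = a ∧ (Φ ξ).fiber.map s d = b ∧ r ≫ p = s ≫ q := by
  let a' : (Φ ξ).fiber.Elements := ⟨A, a⟩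
  let b' : (Φ ξ).fiber.Elements := ⟨B, b⟩
  let c' : (Φ ξ).fiber.Elements := ⟨C, c⟩
  let p' : a' ⟶ c' := ⟨p, hp⟩
  let q' : b' ⟶ c' := ⟨q, hq⟩
  obtain ⟨d', r', s', hrs⟩ := IsCofiltered.cospan p' q'
  exact ⟨d'.1, d'.2, r'.1, s'.1, r'.2, s'.2, congrArg Subtype.val hrs⟩

/-- bowties of pointed étale neighbourhoods can be completed -/
theorem bowtie_pt {A B C D : X.Etale} (a : (Φ ξ).fiber.obj A) (b : (Φ ξ).fiber.obj B)
    (c : (Φ ξ).fiber.obj C) (d : (Φ ξ).fiber.obj D) (p₁ : A ⟶ C) (q₁ : B ⟶ C) (p₂ : A ⟶ D)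
    (q₂ : B ⟶ D) (hp₁ : (Φ ξ).fiber.map p₁ a = c) (hq₁ : (Φ ξ).fiber.map q₁ b = c)
    (hp₂ : (Φ ξ).fiber.map p₂ a = d) (hq₂ : (Φ ξ).fiber.map q₂ b = d) :
    ∃ (E : X.Etale) (e : (Φ ξ).fiber.obj E) (r : E ⟶ A) (s : E ⟶ B),
      (Φ ξ).fiber.map r e = a ∧ (Φ ξ).fiber.map s e = b ∧ r ≫ p₁ = s ≫ q₁ ∧ r ≫ p₂ = s ≫ q₂ := by
  let a' : (Φ ξ).fiber.Elements := ⟨A, a⟩
  let b' : (Φ ξ).fiber.Elements := ⟨B, b⟩
  let c' : (Φ ξ).fiber.Elements := ⟨C, c⟩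
  let d' : (Φ ξ).fiber.Elements := ⟨D, d⟩
  let p₁' : a' ⟶ c' := ⟨p₁, hp₁⟩
  let q₁' : b' ⟶ c' := ⟨q₁, hq₁⟩
  let p₂' : a' ⟶ d' := ⟨p₂, hp₂⟩
  let q₂' : b' ⟶ d' := ⟨q₂, hq₂⟩
  obtain ⟨e', r', s', h1, h2⟩ := IsCofiltered.bowtie p₁' q₁' p₂' q₂'
  exact ⟨e'.1, e'.2, r'.1, s'.1, r'.2, s'.2, congrArg Subtype.val h1, congrArg Subtype.val h2⟩

/-- two pointed étale neighbourhoods have a common refinement -/
theorem min_pt {A B : X.Etale} (a : (Φ ξ).fiber.obj A) (b : (Φ ξ).fiber.obj B) :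
    ∃ (D : X.Etale) (d : (Φ ξ).fiber.obj D) (r : D ⟶ A) (s : D ⟶ B),
      (Φ ξ).fiber.map r d = a ∧ (Φ ξ).fiber.map s d = b := by
  let a' : (Φ ξ).fiber.Elements := ⟨A, a⟩
  let b' : (Φ ξ).fiber.Elements := ⟨B, b⟩
  exact ⟨(IsCofiltered.min a' b').1, (IsCofiltered.min a' b').2,
    (IsCofiltered.minToLeft a' b').1, (IsCofiltered.minToRight a' b').1,
    (IsCofiltered.minToLeft a' b').2, (IsCofiltered.minToRight a' b').2⟩

end Ptd

section UpMap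

variable {X X' : Scheme.{u}} (k : X' ⟶ X) {Ω : Type u} [Field Ω] [IsSepClosed Ω]
  (ξ' : Spec (CommRingCat.of Ω) ⟶ X')

theorem up_map {U U₂ : X.Etale} (e : U₂ ⟶ U) (l : (Φ (ξ' ≫ k)).fiber.obj U₂) :
    (Φ ξ').fiber.map ((EtCoh.bc k).map e) (up k ξ' U₂ l) =
      up k ξ' U ((Φ (ξ' ≫ k)).fiber.map e l) := by
  apply dn_injective k ξ' U
  rw [dn_map, dn_up, dn_up]

end UpMap

end Groth.Agent.Helper1.IG
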