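import Mathlib
import Groth.Agent.Lib.Helper1.IG4

/-!
# Integral base change: the abstract injectivity and surjectivity statements
-/

set_option autoImplicit false
set_option linter.unusedSectionVars false
set_option linter.style.haveILetI false
open CategoryTheory CategoryTheory.Limits AlgebraicGeometry Opposite
universe u

namespace Groth.Agent.Helper1.IG

open Groth.Agent.Helper1.ELR Groth.Agent.Helper1.FP Groth.Agent.Helper1.SG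

theorem bc_map_id_base {X Y : Scheme.{u}} (f : X ⟶ Y) (V : Y.Etale)
    (z : ((EtCoh.bc f).obj V).left) : ((EtCoh.bc f).map (𝟙 V)).left.base z = z := by
  have h1 : (EtCoh.bc f).map (𝟙 V) = 𝟙 _ := (EtCoh.bc f).map_id V
  exact congrArg (fun m => m.left.base z) h1

section Glue2

variable {X : Scheme.{u}} (G : EtDesc.Sh X)

theorem Oincl_injective (N : X.Etale) (O : N.left.Opens) :
    Function.Injective (Oincl N O).left.base :=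
  O.ι.isOpenEmbedding.injective

theorem Oincl_apply (N : X.Etale) (O : N.left.Opens) (z : (Oobj N O).left) :
    (Oincl N O).left.base z = z.1 := rfl

theorem nonempty_of_isEmpty (Z : X.Etale) [IsEmpty Z.left] : Nonempty (G.obj.obj (op Z)) := by
  obtain ⟨t, -⟩ := exists_glue_type G.obj (sh_isSheaf G) (T := Z) (ι := PEmpty.{1})
    (fun a => a.elim) (fun a => a.elim) (fun a => a.elim) (fun a => a.elim)
    (fun x => (IsEmpty.false x).elim) (fun a => a.elim)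
  exact ⟨t⟩

theorem ext2_open (N : X.Etale) (O₁ O₂ O : N.left.Opens)
    (w₁ : Oobj N O₁ ⟶ Oobj N O) (w₂ : Oobj N O₂ ⟶ Oobj N O)
    (hw₁ : w₁ ≫ Oincl N O = Oincl N O₁) (hw₂ : w₂ ≫ Oincl N O = Oincl N O₂)
    (hcov : ∀ z, z ∈ O → z ∈ O₁ ∨ z ∈ O₂) (t t' : G.obj.obj (op (Oobj N O)))
    (h₁ : G.obj.map w₁.op t = G.obj.map w₁.op t')
    (h₂ : G.obj.map w₂.op t = G.obj.map w₂.op t') : t = t' := by
  apply eq_of_forall_agreeAt G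
  intro z
  rcases hcov _ z.2 with hz | hz
  · refine ⟨Oobj N O₁, w₁, ⟨z.1, hz⟩, ?_, h₁⟩
    apply Oincl_injective N O
    have e1 := congrArg (fun m => m.left.base (⟨z.1, hz⟩ : (Oobj N O₁).left)) hw₁
    exact e1
  · refine ⟨Oobj N O₂, w₂, ⟨z.1, hz⟩, ?_, h₂⟩
    apply Oincl_injective N O
    have e1 := congrArg (fun m => m.left.base (⟨z.1, hz⟩ : (Oobj N O₂).left)) hw₂
    exact e1

theorem glue2_open (N : X.Etale) (O₁ O₂ O : N.left.Opens)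
    (w₁ : Oobj N O₁ ⟶ Oobj N O) (w₂ : Oobj N O₂ ⟶ Oobj N O)
    (hw₁ : w₁ ≫ Oincl N O = Oincl N O₁) (hw₂ : w₂ ≫ Oincl N O = Oincl N O₂)
    (hdisj : ∀ z, z ∈ O₁ → z ∈ O₂ → False)
    (hcov : ∀ z, z ∈ O → z ∈ O₁ ∨ z ∈ O₂)
    (l₁ : G.obj.obj (op (Oobj N O₁))) (l₂ : G.obj.obj (op (Oobj N O₂))) :
    ∃ t : G.obj.obj (op (Oobj N O)), G.obj.map w₁.op t = l₁ ∧ G.obj.map w₂.op t = l₂ := by
  let O' : Bool → N.left.Opens := fun b => cond b O₁ O₂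
  let w : ∀ b : Bool, Oobj N (O' b) ⟶ Oobj N O := fun b =>
    Bool.rec (motive := fun b => Oobj N (O' b) ⟶ Oobj N O) w₂ w₁ b
  have hw : ∀ b, w b ≫ Oincl N O = Oincl N (O' b) := by
    intro b
    cases b
    · exact hw₂
    · exact hw₁
  let l : ∀ b : Bool, G.obj.obj (op (Oobj N (O' b))) := fun b =>
    Bool.rec (motive := fun b => G.obj.obj (op (Oobj N (O' b)))) l₂ l₁ b
  have hpt : ∀ (b : Bool) (z : (Oobj N (O' b)).left),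
      ((w b).left.base z).1 = z.1 := by
    intro b z
    have e1 := congrArg (fun m => m.left.base z) (hw b)
    exact e1
  have hmono : ∀ b, Mono (w b).left := by
    intro b
    have e1 : (w b).left ≫ O.ι = (O' b).ι := congrArg (fun m => m.left) (hw b)
    haveI : Mono ((w b).left ≫ O.ι) := by
      rw [e1]
      exact inferInstanceAs (Mono (Scheme.Opens.ι (O' b)))
    exact mono_of_mono (w b).left O.ι
  have hdisj' : ∀ a b : Bool, a ≠ b → ∀ (za : (Oobj N (O' a)).left) (zb : (Oobj N (O' b)).left),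
      (w a).left.base za ≠ (w b).left.base zb := by
    intro a b hab za zb heq
    have e1 : za.1 = zb.1 := by
      rw [← hpt a za, ← hpt b zb, heq]
    cases a <;> cases b
    · exact hab rfl
    · exact hdisj zb.1 zb.2 (e1 ▸ za.2)
    · exact hdisj za.1 za.2 (e1 ▸ zb.2)
    · exact hab rfl
  have hsurj : ∀ x : (Oobj N O).left, ∃ (a : Bool) (z : (Oobj N (O' a)).left),
      (w a).left.base z = x := by
    intro x
    rcases hcov _ x.2 with hz | hz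
    · refine ⟨true, ⟨x.1, hz⟩, ?_⟩
      apply Oincl_injective N O
      exact hpt true ⟨x.1, hz⟩
    · refine ⟨false, ⟨x.1, hz⟩, ?_⟩
      apply Oincl_injective N O
      exact hpt false ⟨x.1, hz⟩
  obtain ⟨t, ht⟩ := exists_glue_type G.obj (sh_isSheaf G) (fun b => Oobj N (O' b)) w hmono hdisj'
    hsurj l
  exact ⟨t, ht true, ht false⟩

end Glue2

section Abs

variable {X Y X' Y' : Scheme.{u}} (f : X ⟶ Y) (g : Y' ⟶ Y) (f' : X' ⟶ Y') (g' : X' ⟶ X)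
  (h : IsPullback g' f' f g) (P : EtDesc.Sh X) (P' : EtDesc.Sh X')
  (u : ∀ U : X.Etale, P.obj.obj (op U) → P'.obj.obj (op ((EtCoh.bc g').obj U)))
  (hu_map : ∀ {U U₂ : X.Etale} (ψ : U₂ ⟶ U) (a : P.obj.obj (op U)),
      u U₂ (P.obj.map ψ.op a) = P'.obj.map ((EtCoh.bc g').map ψ).op (u U a))
  (hu_inj : ∀ (U : X.Etale) (a b : P.obj.obj (op U)) (w : ((EtCoh.bc g').obj U).left),
      AgreeAt P' ((EtCoh.bc g').obj U) (u U a) (u U b) w →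
        AgreeAt P U a b ((US.prV g' U).base w))
  (hu_rep : ∀ {Ω₁ : Type u} [Field Ω₁] [IsSepClosed Ω₁] (ξ' : Spec (CommRingCat.of Ω₁) ⟶ X')
      (N : X'.Etale) (l : (Φ ξ').fiber.obj N) (t : P'.obj.obj (op N)),
      ∃ (U : X.Etale) (a : P.obj.obj (op U)) (M : X'.Etale) (lM : (Φ ξ').fiber.obj M)
        (m : M ⟶ N) (k : M ⟶ (EtCoh.bc g').obj U), (Φ ξ').fiber.map m lM = l ∧
        P'.obj.map m.op t = P'.obj.map k.op (u U a))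
  {Ω : Type u} [Field Ω] [IsAlgClosed Ω] (η' : Spec (CommRingCat.of Ω) ⟶ Y')

include hu_inj in
/-- **Abstract injectivity.** -/
theorem abs_inj [IsIntegralHom f] (V : Y.Etale) (x : (Φ (η' ≫ g)).fiber.obj V)
    (σ σ' : P.obj.obj (op ((EtCoh.bc f).obj V)))
    {V'' : Y'.Etale} (y'' : (Φ η').fiber.obj V'') (n : V'' ⟶ (EtCoh.bc g).obj V)
    (hn : (Φ η').fiber.map n y'' = up g η' V x)
    (heq : P'.obj.map (kap f g f' g' h V n).op (u _ σ) =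
      P'.obj.map (kap f g f' g' h V n).op (u _ σ')) :
    ∃ (V₀ : Y.Etale) (e : V₀ ⟶ V) (x₀ : (Φ (η' ≫ g)).fiber.obj V₀),
      (Φ (η' ≫ g)).fiber.map e x₀ = x ∧
      P.obj.map ((EtCoh.bc f).map e).op σ = P.obj.map ((EtCoh.bc f).map e).op σ' := by
  let O : ((EtCoh.bc f).obj V).left.Opens :=
    ⟨{z | AgreeAt P _ σ σ' z}, isOpen_agreeAt P _ σ σ'⟩
  have hO : ∀ ξ : Lifts f (η' ≫ g), (pt ξ.1 _ (liftPt f (η' ≫ g) ξ V x)).base default ∈ O := by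
    intro ξ
    obtain ⟨ξ', rfl⟩ := exists_liftDn f g f' g' h η' ξ
    let z' : ((EtCoh.bc f').obj V'').left :=
      (pt ξ'.1 _ (liftPt f' η' ξ' V'' y'')).base default
    have h1 : AgreeAt P' ((EtCoh.bc f').obj V'')
        (P'.obj.map (kap f g f' g' h V n).op (u _ σ))
        (P'.obj.map (kap f g f' g' h V n).op (u _ σ')) z' :=
      ⟨_, 𝟙 _, z', rfl, by rw [heq]⟩
    have h2 := agreeAt_of_map P' (kap f g f' g' h V n) (u _ σ) (u _ σ') z' h1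
    have h3 := hu_inj _ σ σ' _ h2
    have h4 : (US.prV g' ((EtCoh.bc f).obj V)).base ((kap f g f' g' h V n).left.base z') =
        (pt _ _ (liftPt f (η' ≫ g) (liftDn f g f' g' h η' ξ') V x)).base default := by
      have e1 := pt_liftPt_piN f g f' g' h η' ξ' V x y'' n hn
      rw [← e1, ← kap_fst]
      rfl
    rw [h4] at h3
    exact h3
  obtain ⟨V₀, e, x₀, hx₀, hcov⟩ := fibre_cover f (η' ≫ g) V x O hO
  refine ⟨V₀, e, x₀, hx₀, ?_⟩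
  apply eq_of_forall_agreeAt P
  intro z
  exact agreeAt_map P ((EtCoh.bc f).map e) σ σ' z (hcov z)

/-- `σ` represents `t` over the preimage of `W` -/
def Sol (V' : Y'.Etale) (t : P'.obj.obj (op ((EtCoh.bc f').obj V'))) (V : Y.Etale)
    (W : ((EtCoh.bc f).obj V).left.Opens) (σ : P.obj.obj (op (Oobj ((EtCoh.bc f).obj V) W)))
    {V'' : Y'.Etale} (n₁ : V'' ⟶ V') (n₂ : V'' ⟶ (EtCoh.bc g).obj V) : Prop :=
  P'.obj.map (Oincl _ (Wsh f g f' g' h V n₂ W) ≫ (EtCoh.bc f').map n₁).op t =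
    P'.obj.map (lam f g f' g' h V n₂ W).op (u _ σ)

theorem Wsh_le {V V₂ : Y.Etale} (e : V₂ ⟶ V) {V'' V''₂ : Y'.Etale} (e'' : V''₂ ⟶ V'')
    (n₂ : V'' ⟶ (EtCoh.bc g).obj V) (n₂' : V''₂ ⟶ (EtCoh.bc g).obj V₂)
    (hcomm : e'' ≫ n₂ = n₂' ≫ (EtCoh.bc g).map e)
    (W : ((EtCoh.bc f).obj V).left.Opens) (W₂ : ((EtCoh.bc f).obj V₂).left.Opens)
    (hle : ∀ z, z ∈ W₂ → ((EtCoh.bc f).map e).left.base z ∈ W)
    (z : ((EtCoh.bc f').obj V''₂).left) (hz : z ∈ Wsh f g f' g' h V₂ n₂' W₂) :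
    ((EtCoh.bc f').map e'').left.base z ∈ Wsh f g f' g' h V n₂ W := by
  show (piN f g f' g' h V n₂).base (((EtCoh.bc f').map e'').left.base z) ∈ W
  have e1 : (piN f g f' g' h V n₂).base (((EtCoh.bc f').map e'').left.base z) =
      ((EtCoh.bc f).map e).left.base ((piN f g f' g' h V₂ n₂').base z) := by
    have a1 := congrArg (fun m => m.base z) (map_piN f g f' g' h V e'' n₂)
    have a2 := congrArg (fun m => m.base z) (piN_map f g f' g' h e n₂')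
    rw [hcomm] at a1
    exact a1.trans a2.symm
  rw [e1]
  exact hle _ hz

theorem sol_lhs (V' : Y'.Etale) (t : P'.obj.obj (op ((EtCoh.bc f').obj V')))
    {V'' V''₂ : Y'.Etale} (e'' : V''₂ ⟶ V'') (n₁ : V'' ⟶ V')
    (O : ((EtCoh.bc f').obj V'').left.Opens) (O₂ : ((EtCoh.bc f').obj V''₂).left.Opens)
    (r : Oobj ((EtCoh.bc f').obj V''₂) O₂ ⟶ Oobj ((EtCoh.bc f').obj V'') O)
    (hr : r ≫ Oincl _ _ = Oincl _ _ ≫ (EtCoh.bc f').map e'') :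
    P'.obj.map r.op (P'.obj.map (Oincl _ O ≫ (EtCoh.bc f').map n₁).op t) =
      P'.obj.map (Oincl _ O₂ ≫ (EtCoh.bc f').map (e'' ≫ n₁)).op t := by
  rw [map_mapS]
  have e1 : r ≫ Oincl _ O ≫ (EtCoh.bc f').map n₁ =
      Oincl _ O₂ ≫ (EtCoh.bc f').map (e'' ≫ n₁) := by
    rw [← Category.assoc, hr, Category.assoc, ← Functor.map_comp]
  rw [e1]

include hu_map in
theorem sol_rhs {V V₂ : Y.Etale} (e : V₂ ⟶ V) {V'' V''₂ : Y'.Etale} (e'' : V''₂ ⟶ V'')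
    (n₂ : V'' ⟶ (EtCoh.bc g).obj V) (n₂' : V''₂ ⟶ (EtCoh.bc g).obj V₂)
    (hcomm : e'' ≫ n₂ = n₂' ≫ (EtCoh.bc g).map e)
    (W : ((EtCoh.bc f).obj V).left.Opens) (W₂ : ((EtCoh.bc f).obj V₂).left.Opens)
    (r : Oobj ((EtCoh.bc f').obj V''₂) (Wsh f g f' g' h V₂ n₂' W₂) ⟶
      Oobj ((EtCoh.bc f').obj V'') (Wsh f g f' g' h V n₂ W))
    (hr : r ≫ Oincl _ _ = Oincl _ _ ≫ (EtCoh.bc f').map e'')
    (ψ : Oobj ((EtCoh.bc f).obj V₂) W₂ ⟶ Oobj ((EtCoh.bc f).obj V) W)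
    (hψ : ψ ≫ Oincl _ _ = Oincl _ _ ≫ (EtCoh.bc f).map e)
    (σ : P.obj.obj (op (Oobj ((EtCoh.bc f).obj V) W))) :
    P'.obj.map r.op (P'.obj.map (lam f g f' g' h V n₂ W).op (u _ σ)) =
      P'.obj.map (lam f g f' g' h V₂ n₂' W₂).op (u _ (P.obj.map ψ.op σ)) := by
  rw [map_mapS, lam_nat f g f' g' h e e'' n₂ n₂' hcomm W W₂ r hr ψ hψ, hu_map, map_mapS]

include hu_map in
theorem sol_refine (V' : Y'.Etale) (t : P'.obj.obj (op ((EtCoh.bc f').obj V')))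
    {V V₂ : Y.Etale} (e : V₂ ⟶ V) {V'' V''₂ : Y'.Etale} (e'' : V''₂ ⟶ V'') (n₁ : V'' ⟶ V')
    (n₂ : V'' ⟶ (EtCoh.bc g).obj V) (n₂' : V''₂ ⟶ (EtCoh.bc g).obj V₂)
    (hcomm : e'' ≫ n₂ = n₂' ≫ (EtCoh.bc g).map e)
    (W : ((EtCoh.bc f).obj V).left.Opens) (W₂ : ((EtCoh.bc f).obj V₂).left.Opens)
    (hle : ∀ z, z ∈ W₂ → ((EtCoh.bc f).map e).left.base z ∈ W)
    (σ : P.obj.obj (op (Oobj ((EtCoh.bc f).obj V) W)))
    (hS : Sol f g f' g' h P P' u V' t V W σ n₁ n₂) :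
    Sol f g f' g' h P P' u V' t V₂ W₂
      (P.obj.map (Omap ((EtCoh.bc f).map e) W₂ W hle).op σ) (e'' ≫ n₁) n₂' := by
  let r := Omap ((EtCoh.bc f').map e'') (Wsh f g f' g' h V₂ n₂' W₂) (Wsh f g f' g' h V n₂ W)
    (Wsh_le f g f' g' h e e'' n₂ n₂' hcomm W W₂ hle)
  have hr : r ≫ Oincl _ _ = Oincl _ _ ≫ (EtCoh.bc f').map e'' := Omap_incl _ _ _ _
  have hψ := Omap_incl ((EtCoh.bc f).map e) W₂ W hle
  have h1 := congrArg (P'.obj.map r.op) hS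
  rw [sol_lhs f' P' V' t e'' n₁ _ _ r hr,
    sol_rhs f g f' g' h P P' u hu_map e e'' n₂ n₂' hcomm W W₂ r hr _ hψ σ] at h1
  exact h1

/-- a clopen `W` of `X ×_Y V` over which `t` is represented by a section of `P` -/
def Good (V' : Y'.Etale) (y' : (Φ η').fiber.obj V')
    (t : P'.obj.obj (op ((EtCoh.bc f').obj V'))) (V : Y.Etale)
    (x : (Φ (η' ≫ g)).fiber.obj V) (W : ((EtCoh.bc f).obj V).left.Opens) : Prop :=
  IsClosed (W : Set ((EtCoh.bc f).obj V).left) ∧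
  ∃ (σ : P.obj.obj (op (Oobj ((EtCoh.bc f).obj V) W))) (V'' : Y'.Etale)
    (y'' : (Φ η').fiber.obj V'') (n₁ : V'' ⟶ V') (n₂ : V'' ⟶ (EtCoh.bc g).obj V),
    (Φ η').fiber.map n₁ y'' = y' ∧ (Φ η').fiber.map n₂ y'' = up g η' V x ∧
    Sol f g f' g' h P P' u V' t V W σ n₁ n₂

include hu_map in
theorem good_refine (V' : Y'.Etale) (y' : (Φ η').fiber.obj V')
    (t : P'.obj.obj (op ((EtCoh.bc f').obj V'))) {V V₂ : Y.Etale}
    (x : (Φ (η' ≫ g)).fiber.obj V) (x₂ : (Φ (η' ≫ g)).fiber.obj V₂) (e : V₂ ⟶ V)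
    (he : (Φ (η' ≫ g)).fiber.map e x₂ = x)
    (W : ((EtCoh.bc f).obj V).left.Opens) (W₂ : ((EtCoh.bc f).obj V₂).left.Opens)
    (hW₂ : IsClosed (W₂ : Set ((EtCoh.bc f).obj V₂).left))
    (hle : ∀ z, z ∈ W₂ → ((EtCoh.bc f).map e).left.base z ∈ W)
    (hG : Good f g f' g' h P P' u η' V' y' t V x W) :
    Good f g f' g' h P P' u η' V' y' t V₂ x₂ W₂ := by
  obtain ⟨-, σ, V'', y'', n₁, n₂, hn₁, hn₂, hS⟩ := hG
  have hup : (Φ η').fiber.map ((EtCoh.bc g).map e) (up g η' V₂ x₂) = up g η' V x := by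
    rw [up_map, he]
  obtain ⟨D, d, r, s, hr, hs, hrs⟩ := cospan_pt η' y'' (up g η' V₂ x₂) (up g η' V x) n₂
    ((EtCoh.bc g).map e) hn₂ hup
  refine ⟨hW₂, _, D, d, r ≫ n₁, s, ?_, hs,
    sol_refine f g f' g' h P P' u hu_map V' t e r n₁ n₂ s hrs W W₂ hle σ hS⟩
  rw [Functor.map_comp]
  show (Φ η').fiber.map n₁ ((Φ η').fiber.map r d) = y'
  rw [hr, hn₁]

theorem good_empty (V' : Y'.Etale) (y' : (Φ η').fiber.obj V')
    (t : P'.obj.obj (op ((EtCoh.bc f').obj V'))) (V : Y.Etale)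
    (x : (Φ (η' ≫ g)).fiber.obj V) : Good f g f' g' h P P' u η' V' y' t V x ⊥ := by
  obtain ⟨D, d, r, s, hr, hs⟩ := min_pt η' y' (up g η' V x)
  haveI : IsEmpty (Oobj ((EtCoh.bc f).obj V) ⊥).left := ⟨fun z => z.2⟩
  obtain ⟨σ⟩ := nonempty_of_isEmpty P (Oobj ((EtCoh.bc f).obj V) ⊥)
  refine ⟨isClosed_empty, σ, D, d, r, s, hr, hs, ?_⟩
  haveI : IsEmpty (Oobj ((EtCoh.bc f').obj D) (Wsh f g f' g' h V s ⊥)).left := ⟨fun z => z.2⟩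
  haveI := subsingleton_of_isEmpty_type P'.obj (sh_isSheaf P')
    (Oobj ((EtCoh.bc f').obj D) (Wsh f g f' g' h V s ⊥))
  exact Subsingleton.elim _ _


include hu_map in
theorem good_union (V' : Y'.Etale) (y' : (Φ η').fiber.obj V')
    (t : P'.obj.obj (op ((EtCoh.bc f').obj V'))) (V : Y.Etale)
    (x : (Φ (η' ≫ g)).fiber.obj V) (W₁ W₂ : ((EtCoh.bc f).obj V).left.Opens)
    (hdisj : ∀ z, z ∈ W₁ → z ∈ W₂ → False)
    (hG₁ : Good f g f' g' h P P' u η' V' y' t V x W₁)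
    (hG₂ : Good f g f' g' h P P' u η' V' y' t V x W₂) :
    Good f g f' g' h P P' u η' V' y' t V x (W₁ ⊔ W₂) := by
  obtain ⟨hc₁, σ₁, V''₁, y''₁, n₁₁, n₂₁, hn₁₁, hn₂₁, hS₁⟩ := hG₁
  obtain ⟨hc₂, σ₂, V''₂, y''₂, n₁₂, n₂₂, hn₁₂, hn₂₂, hS₂⟩ := hG₂
  obtain ⟨D, d, r, s, hr, hs, h1, h2⟩ := bowtie_pt η' y''₁ y''₂ y' (up g η' V x) n₁₁ n₁₂ n₂₁ n₂₂
    hn₁₁ hn₁₂ hn₂₁ hn₂₂
  let n₁ : D ⟶ V' := r ≫ n₁₁
  let n₂ : D ⟶ (EtCoh.bc g).obj V := r ≫ n₂₁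
  have hid : ∀ (W W' : ((EtCoh.bc f).obj V).left.Opens), W ≤ W' →
      ∀ z, z ∈ W → ((EtCoh.bc f).map (𝟙 V)).left.base z ∈ W' := by
    intro W W' hWW z hz
    rw [bc_map_id_base]
    exact hWW hz
  have hc1 : r ≫ n₂₁ = n₂ ≫ (EtCoh.bc g).map (𝟙 V) := by
    rw [CategoryTheory.Functor.map_id, Category.comp_id]
  have hc2 : s ≫ n₂₂ = n₂ ≫ (EtCoh.bc g).map (𝟙 V) := by
    rw [CategoryTheory.Functor.map_id, Category.comp_id, ← h2]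
  have hc : 𝟙 D ≫ n₂ = n₂ ≫ (EtCoh.bc g).map (𝟙 V) := by
    rw [CategoryTheory.Functor.map_id, Category.comp_id, Category.id_comp]
  have S₁ := sol_refine f g f' g' h P P' u hu_map V' t (𝟙 V) r n₁₁ n₂₁ n₂ hc1 W₁ W₁
    (hid W₁ W₁ le_rfl) σ₁ hS₁
  have S₂ := sol_refine f g f' g' h P P' u hu_map V' t (𝟙 V) s n₁₂ n₂₂ n₂ hc2 W₂ W₂
    (hid W₂ W₂ le_rfl) σ₂ hS₂
  rw [← h1] at S₂
  let ψ₁ := Omap ((EtCoh.bc f).map (𝟙 V)) W₁ (W₁ ⊔ W₂) (hid W₁ _ le_sup_left)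
  let ψ₂ := Omap ((EtCoh.bc f).map (𝟙 V)) W₂ (W₁ ⊔ W₂) (hid W₂ _ le_sup_right)
  have hψ₁0 : ψ₁ ≫ Oincl _ (W₁ ⊔ W₂) = Oincl _ W₁ ≫ (EtCoh.bc f).map (𝟙 V) := Omap_incl _ _ _ _
  have hψ₂0 : ψ₂ ≫ Oincl _ (W₁ ⊔ W₂) = Oincl _ W₂ ≫ (EtCoh.bc f).map (𝟙 V) := Omap_incl _ _ _ _
  have hψ₁ : ψ₁ ≫ Oincl _ (W₁ ⊔ W₂) = Oincl _ W₁ := by
    rw [hψ₁0, CategoryTheory.Functor.map_id, Category.comp_id]
  have hψ₂ : ψ₂ ≫ Oincl _ (W₁ ⊔ W₂) = Oincl _ W₂ := by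
    rw [hψ₂0, CategoryTheory.Functor.map_id, Category.comp_id]
  obtain ⟨σ, hσ₁, hσ₂⟩ := glue2_open P ((EtCoh.bc f).obj V) W₁ W₂ (W₁ ⊔ W₂) ψ₁ ψ₂ hψ₁ hψ₂ hdisj
    (fun z hz => TopologicalSpace.Opens.mem_sup.1 hz)
    (P.obj.map (Omap ((EtCoh.bc f).map (𝟙 V)) W₁ W₁ (hid W₁ W₁ le_rfl)).op σ₁)
    (P.obj.map (Omap ((EtCoh.bc f).map (𝟙 V)) W₂ W₂ (hid W₂ W₂ le_rfl)).op σ₂)
  have hcl : IsClosed ((W₁ ⊔ W₂ : ((EtCoh.bc f).obj V).left.Opens) :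
      Set ((EtCoh.bc f).obj V).left) := by
    rw [TopologicalSpace.Opens.coe_sup]
    exact hc₁.union hc₂
  refine ⟨hcl, σ, D, d, n₁, n₂, ?_, ?_, ?_⟩
  · show (Φ η').fiber.map (r ≫ n₁₁) d = y'
    rw [Functor.map_comp]
    show (Φ η').fiber.map n₁₁ ((Φ η').fiber.map r d) = y'
    rw [hr, hn₁₁]
  · show (Φ η').fiber.map (r ≫ n₂₁) d = up g η' V x
    rw [Functor.map_comp]
    show (Φ η').fiber.map n₂₁ ((Φ η').fiber.map r d) = up g η' V x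
    rw [hr, hn₂₁]
  · let r₁ := Omap ((EtCoh.bc f').map (𝟙 D)) (Wsh f g f' g' h V n₂ W₁)
      (Wsh f g f' g' h V n₂ (W₁ ⊔ W₂))
      (Wsh_le f g f' g' h (𝟙 V) (𝟙 D) n₂ n₂ hc (W₁ ⊔ W₂) W₁ (hid W₁ _ le_sup_left))
    let r₂ := Omap ((EtCoh.bc f').map (𝟙 D)) (Wsh f g f' g' h V n₂ W₂)
      (Wsh f g f' g' h V n₂ (W₁ ⊔ W₂))
      (Wsh_le f g f' g' h (𝟙 V) (𝟙 D) n₂ n₂ hc (W₁ ⊔ W₂) W₂ (hid W₂ _ le_sup_right))
    have hr₁0 : r₁ ≫ Oincl _ _ = Oincl _ _ ≫ (EtCoh.bc f').map (𝟙 D) := Omap_incl _ _ _ _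
    have hr₂0 : r₂ ≫ Oincl _ _ = Oincl _ _ ≫ (EtCoh.bc f').map (𝟙 D) := Omap_incl _ _ _ _
    have hr₁ : r₁ ≫ Oincl _ _ = Oincl _ _ := by
      rw [hr₁0, CategoryTheory.Functor.map_id, Category.comp_id]
    have hr₂ : r₂ ≫ Oincl _ _ = Oincl _ _ := by
      rw [hr₂0, CategoryTheory.Functor.map_id, Category.comp_id]
    have L1 := sol_lhs f' P' V' t (𝟙 D) n₁ (Wsh f g f' g' h V n₂ (W₁ ⊔ W₂))
      (Wsh f g f' g' h V n₂ W₁) r₁ hr₁0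
    have L2 := sol_lhs f' P' V' t (𝟙 D) n₁ (Wsh f g f' g' h V n₂ (W₁ ⊔ W₂))
      (Wsh f g f' g' h V n₂ W₂) r₂ hr₂0
    have R1 := sol_rhs f g f' g' h P P' u hu_map (𝟙 V) (𝟙 D) n₂ n₂ hc (W₁ ⊔ W₂) W₁ r₁ hr₁0
      ψ₁ hψ₁0 σ
    have R2 := sol_rhs f g f' g' h P P' u hu_map (𝟙 V) (𝟙 D) n₂ n₂ hc (W₁ ⊔ W₂) W₂ r₂ hr₂0
      ψ₂ hψ₂0 σ
    rw [hσ₁] at R1
    rw [hσ₂] at R2
    rw [Category.id_comp] at L1 L2
    apply ext2_open P' ((EtCoh.bc f').obj D) (Wsh f g f' g' h V n₂ W₁) (Wsh f g f' g' h V n₂ W₂)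
      (Wsh f g f' g' h V n₂ (W₁ ⊔ W₂)) r₁ r₂ hr₁ hr₂
      (fun z hz => TopologicalSpace.Opens.mem_sup.1 hz)
    · exact L1.trans (S₁.trans R1.symm)
    · exact L2.trans (S₂.trans R2.symm)


end Abs

end Groth.Agent.Helper1.IG
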