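import Mathlib
import Groth.Agent.Lib.Helper1.IG5

/-!
# Integral base change: local representability near a lift
-/

set_option autoImplicit false
set_option linter.unusedSectionVars false
set_option linter.style.haveILetI false
open CategoryTheory CategoryTheory.Limits AlgebraicGeometry Opposite
universe u

namespace Groth.Agent.Helper1.IG

open Groth.Agent.Helper1.ELR Groth.Agent.Helper1.FP Groth.Agent.Helper1.SG

section Abs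

variable {X Y X' Y' : Scheme.{u}} (f : X ⟶ Y) (g : Y' ⟶ Y) (f' : X' ⟶ Y') (g' : X' ⟶ X)
  (h : IsPullback g' f' f g) (P : EtDesc.Sh X) (P' : EtDesc.Sh X')
  (u : ∀ U : X.Etale, P.obj.obj (op U) → P'.obj.obj (op ((EtCoh.bc g').obj U)))
  (hu_map : ∀ {U U₂ : X.Etale} (ψ : U₂ ⟶ U) (a : P.obj.obj (op U)),
      u U₂ (P.obj.map ψ.op a) = P'.obj.map ((EtCoh.bc g').map ψ).op (u U a))
  (hu_rep : ∀ {Ω₁ : Type u} [Field Ω₁] [IsSepClosed Ω₁] (ξ' : Spec (CommRingCat.of Ω₁) ⟶ X')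
      (N : X'.Etale) (l : (Φ ξ').fiber.obj N) (t : P'.obj.obj (op N)),
      ∃ (U : X.Etale) (a : P.obj.obj (op U)) (M : X'.Etale) (lM : (Φ ξ').fiber.obj M)
        (m : M ⟶ N) (k : M ⟶ (EtCoh.bc g').obj U), (Φ ξ').fiber.map m lM = l ∧
        P'.obj.map m.op t = P'.obj.map k.op (u U a))
  {Ω : Type u} [Field Ω] [IsAlgClosed Ω] (η' : Spec (CommRingCat.of Ω) ⟶ Y')

include hu_map hu_rep in
/-- **Local representability near a lift.** -/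
theorem good_loc [IsIntegralHom f] (V' : Y'.Etale) (y' : (Φ η').fiber.obj V')
    (t : P'.obj.obj (op ((EtCoh.bc f').obj V'))) (ξ' : Lifts f' η') :
    ∃ (V : Y.Etale) (x : (Φ (η' ≫ g)).fiber.obj V) (W : ((EtCoh.bc f).obj V).left.Opens),
      Good f g f' g' h P P' u η' V' y' t V x W ∧
      (pt _ _ (liftPt f (η' ≫ g) (liftDn f g f' g' h η' ξ') V x)).base default ∈ W := by
  let ξ := liftDn f g f' g' h η' ξ'
  let l'₀ := liftPt f' η' ξ' V' y'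
  obtain ⟨U, a, M, lM, m, k, hm, hrep⟩ := hu_rep ξ'.1 ((EtCoh.bc f').obj V') l'₀ t
  let l₁ : (Φ ξ'.1).fiber.obj ((EtCoh.bc g').obj U) := (Φ ξ'.1).fiber.map k lM
  let ūl : (Φ (ξ'.1 ≫ g')).fiber.obj U := dn g' ξ'.1 U l₁
  let ū : Spec (CommRingCat.of Ω) ⟶ U.left := pt (ξ'.1 ≫ g') U ūl
  have hūU : ū ≫ U.hom = ξ'.1 ≫ g' := pt_comp _ U ūl
  have hū : (ū ≫ homX U) ≫ f = η' ≫ g := by
    have e1 : ū ≫ homX U = ξ.1 := hūU
    rw [e1]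
    exact ξ.2
  obtain ⟨V₁, v₁, hv₁, H⟩ := exists_clopen_integral f (η' ≫ g) U ū hū
  let x₁ : (Φ (η' ≫ g)).fiber.obj V₁ := mkPt (η' ≫ g) V₁ v₁ hv₁
  obtain ⟨W₁, hW₁cl, hh, hhU, hpt⟩ := H ((EtCoh.bc f).obj V₁).left (US.prV f V₁)
    ((EtCoh.bc f).obj V₁).hom pullback.condition
  let ψ₁ : Oobj ((EtCoh.bc f).obj V₁) W₁ ⟶ U := MorphismProperty.Over.homMk hh hhU trivial
  let a₁ : P.obj.obj (op (Oobj ((EtCoh.bc f).obj V₁) W₁)) := P.obj.map ψ₁.op a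
  let zξ : Spec (CommRingCat.of Ω) ⟶ ((EtCoh.bc f).obj V₁).left :=
    pt ξ.1 _ (liftPt f (η' ≫ g) ξ V₁ x₁)
  have hz1 : zξ ≫ US.prV f V₁ = v₁ := pt_liftPt_fst f (η' ≫ g) ξ V₁ x₁
  have hz2 : zξ ≫ ((EtCoh.bc f).obj V₁).hom = ū ≫ U.hom :=
    (pt_liftPt_snd f (η' ≫ g) ξ V₁ x₁).trans hūU.symm
  obtain ⟨w, hw1, hw2⟩ := hpt zξ hz1 hz2
  -- comparison on the `X'` side
  obtain ⟨V'₀, y'₀, p₁, p₂, hp₁, hp₂⟩ := min_pt η' y' (up g η' V₁ x₁)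
  let Wsh₁ := Wsh f g f' g' h V₁ p₂ W₁
  let T' : X'.Etale := Oobj ((EtCoh.bc f').obj V'₀) Wsh₁
  let t₁ : P'.obj.obj (op T') := P'.obj.map (Oincl _ Wsh₁ ≫ (EtCoh.bc f').map p₁).op t
  let t₂ : P'.obj.obj (op T') := P'.obj.map (lam f g f' g' h V₁ p₂ W₁).op (u _ a₁)
  let A : ((EtCoh.bc f').obj V'₀).left.Opens :=
    ⟨Wsh₁.ι.base '' {z | AgreeAt P' T' t₁ t₂ z},
      Wsh₁.ι.isOpenEmbedding.isOpenMap _ (isOpen_agreeAt P' T' t₁ t₂)⟩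
  let c' : Spec (CommRingCat.of Ω) ⟶ ((EtCoh.bc f').obj V'₀).left :=
    pt ξ'.1 _ (liftPt f' η' ξ' V'₀ y'₀)
  have hc'piN : c' ≫ piN f g f' g' h V₁ p₂ = zξ :=
    pt_liftPt_piN f g f' g' h η' ξ' V₁ x₁ y'₀ p₂ hp₂
  have hc'mem : ∀ s : Spec (CommRingCat.of Ω), c'.base s ∈ Wsh₁ := by
    intro s
    show (piN f g f' g' h V₁ p₂).base (c'.base s) ∈ W₁
    have e1 : (piN f g f' g' h V₁ p₂).base (c'.base s) = W₁.ι.base (w.base s) :=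
      congrArg (fun m => m.base s) (hc'piN.trans hw1.symm)
    rw [e1]
    exact (w.base s).2
  let cT : Spec (CommRingCat.of Ω) ⟶ T'.left := OliftS c' Wsh₁ hc'mem
  have hcT : cT ≫ Wsh₁.ι = c' := OliftS_ι _ _ _
  have hcTX : cT ≫ T'.hom = ξ'.1 := by
    calc cT ≫ Wsh₁.ι ≫ ((EtCoh.bc f').obj V'₀).hom
        = (cT ≫ Wsh₁.ι) ≫ ((EtCoh.bc f').obj V'₀).hom := (Category.assoc _ _ _).symm
      _ = c' ≫ ((EtCoh.bc f').obj V'₀).hom :=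
          congrArg (fun q => q ≫ ((EtCoh.bc f').obj V'₀).hom) hcT
      _ = ξ'.1 := pt_liftPt_snd f' η' ξ' V'₀ y'₀
  let lT : (Φ ξ'.1).fiber.obj T' := mkPt ξ'.1 T' cT hcTX
  have hl1 : (Φ ξ'.1).fiber.map (Oincl _ Wsh₁ ≫ (EtCoh.bc f').map p₁) lT = l'₀ := by
    apply pt_ext
    calc pt ξ'.1 _ ((Φ ξ'.1).fiber.map (Oincl _ Wsh₁ ≫ (EtCoh.bc f').map p₁) lT)
        = cT ≫ (Wsh₁.ι ≫ ((EtCoh.bc f').map p₁).left) := rfl
      _ = (cT ≫ Wsh₁.ι) ≫ ((EtCoh.bc f').map p₁).left := (Category.assoc _ _ _).symm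
      _ = c' ≫ ((EtCoh.bc f').map p₁).left :=
          congrArg (fun q => q ≫ ((EtCoh.bc f').map p₁).left) hcT
      _ = pt ξ'.1 _ ((Φ ξ'.1).fiber.map ((EtCoh.bc f').map p₁) (liftPt f' η' ξ' V'₀ y'₀)) := rfl
      _ = pt ξ'.1 _ (liftPt f' η' ξ' V' ((Φ η').fiber.map p₁ y'₀)) :=
          congrArg (pt ξ'.1 _) (liftPt_map f' η' ξ' p₁ y'₀)
      _ = pt ξ'.1 _ l'₀ := by rw [hp₁]
  have hl2 : (Φ ξ'.1).fiber.map ((EtCoh.bc g').map ψ₁)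
      ((Φ ξ'.1).fiber.map (lam f g f' g' h V₁ p₂ W₁) lT) = l₁ := by
    apply dn_injective g' ξ'.1 U
    rw [dn_map]
    apply pt_ext
    have e0 : pt (ξ'.1 ≫ g') _ (dn g' ξ'.1 _
        ((Φ ξ'.1).fiber.map (lam f g f' g' h V₁ p₂ W₁) lT)) = w := by
      apply (cancel_mono W₁.ι).1
      calc pt (ξ'.1 ≫ g') _ (dn g' ξ'.1 _
            ((Φ ξ'.1).fiber.map (lam f g f' g' h V₁ p₂ W₁) lT)) ≫ W₁.ι
          = ((cT ≫ (lam f g f' g' h V₁ p₂ W₁).left) ≫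
              US.prV g' (Oobj ((EtCoh.bc f).obj V₁) W₁)) ≫ W₁.ι := rfl
        _ = cT ≫ (((lam f g f' g' h V₁ p₂ W₁).left ≫
              US.prV g' (Oobj ((EtCoh.bc f).obj V₁) W₁)) ≫ W₁.ι) := assoc4 _ _ _ _
        _ = cT ≫ (lamS f g f' g' h V₁ p₂ W₁ ≫ W₁.ι) :=
            congrArg (fun q => cT ≫ (q ≫ W₁.ι)) (lam_fst f g f' g' h V₁ p₂ W₁)
        _ = cT ≫ (Wsh₁.ι ≫ piN f g f' g' h V₁ p₂) :=
            congrArg (fun q => cT ≫ q) (lamS_ι f g f' g' h V₁ p₂ W₁)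
        _ = (cT ≫ Wsh₁.ι) ≫ piN f g f' g' h V₁ p₂ := (Category.assoc _ _ _).symm
        _ = c' ≫ piN f g f' g' h V₁ p₂ := congrArg (fun q => q ≫ piN f g f' g' h V₁ p₂) hcT
        _ = zξ := hc'piN
        _ = w ≫ W₁.ι := hw1.symm
    calc pt (ξ'.1 ≫ g') U ((Φ (ξ'.1 ≫ g')).fiber.map ψ₁ (dn g' ξ'.1 _
          ((Φ ξ'.1).fiber.map (lam f g f' g' h V₁ p₂ W₁) lT)))
        = pt (ξ'.1 ≫ g') _ (dn g' ξ'.1 _
          ((Φ ξ'.1).fiber.map (lam f g f' g' h V₁ p₂ W₁) lT)) ≫ hh := rfl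
      _ = w ≫ hh := congrArg (fun q => q ≫ hh) e0
      _ = ū := hw2
  have hgerm : (Φ ξ'.1).toPresheafFiber T' lT P'.obj t₁ =
      (Φ ξ'.1).toPresheafFiber T' lT P'.obj t₂ := by
    have G1 := (Φ ξ'.1).toPresheafFiber_w_apply (Oincl _ Wsh₁ ≫ (EtCoh.bc f').map p₁) lT P'.obj t
    have G2 := (Φ ξ'.1).toPresheafFiber_w_apply m lM P'.obj t
    have G3 := (Φ ξ'.1).toPresheafFiber_w_apply k lM P'.obj (u U a)
    have G4 := (Φ ξ'.1).toPresheafFiber_w_apply (lam f g f' g' h V₁ p₂ W₁) lT P'.obj (u _ a₁)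
    have G5 := (Φ ξ'.1).toPresheafFiber_w_apply ((EtCoh.bc g').map ψ₁)
      ((Φ ξ'.1).fiber.map (lam f g f' g' h V₁ p₂ W₁) lT) P'.obj (u U a)
    rw [hl1] at G1
    rw [hm, hrep] at G2
    rw [hl2, ← hu_map] at G5
    exact G1.trans (G2.symm.trans (G3.trans (G5.symm.trans G4.symm)))
  have hA : (pt ξ'.1 _ (liftPt f' η' ξ' V'₀ y'₀)).base default ∈ A := by
    have h1 := agreeAt_of_germ_eq P' ξ'.1 T' lT t₁ t₂ hgerm
    exact ⟨(pt ξ'.1 T' lT).base default, h1, congrArg (fun q => q.base default) hcT⟩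
  obtain ⟨V, x, W, hWcl, hξW, V'', y'', m₁, n₂, hm₁, hn₂, hsub⟩ :=
    exists_clopen_nbhd f g f' g' h η' ξ' V'₀ y'₀ A hA
  obtain ⟨C, c, e, e₁, he, he₁⟩ := min_pt (η' ≫ g) x x₁
  have hupe : (Φ η').fiber.map ((EtCoh.bc g).map e) (up g η' C c) = up g η' V x := by
    rw [up_map, he]
  have hupe₁ : (Φ η').fiber.map ((EtCoh.bc g).map e₁) (up g η' C c) = up g η' V₁ x₁ := by
    rw [up_map, he₁]
  have hm₁p₂ : (Φ η').fiber.map (m₁ ≫ p₂) y'' = up g η' V₁ x₁ := by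
    rw [Functor.map_comp]
    show (Φ η').fiber.map p₂ ((Φ η').fiber.map m₁ y'') = up g η' V₁ x₁
    rw [hm₁, hp₂]
  obtain ⟨V''₃, y''₃, r, q₂, hr, hq₂, hb1, hb2⟩ := bowtie_pt η' y'' (up g η' C c) (up g η' V x)
    (up g η' V₁ x₁) n₂ ((EtCoh.bc g).map e) (m₁ ≫ p₂) ((EtCoh.bc g).map e₁) hn₂ hupe hm₁p₂ hupe₁
  let W₃ : ((EtCoh.bc f).obj C).left.Opens :=
    ((EtCoh.bc f).map e).left ⁻¹ᵁ W ⊓ ((EtCoh.bc f).map e₁).left ⁻¹ᵁ W₁
  have hW₃cl : IsClosed (W₃ : Set ((EtCoh.bc f).obj C).left) :=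
    (hWcl.preimage ((EtCoh.bc f).map e).left.continuous).inter
      (hW₁cl.preimage ((EtCoh.bc f).map e₁).left.continuous)
  have hle₁ : ∀ z, z ∈ W₃ → ((EtCoh.bc f).map e₁).left.base z ∈ W₁ := fun z hz => hz.2
  have hle : ∀ z, z ∈ W₃ → ((EtCoh.bc f).map e).left.base z ∈ W := fun z hz => hz.1
  let ψ := Omap ((EtCoh.bc f).map e₁) W₃ W₁ hle₁
  have hψ : ψ ≫ Oincl _ _ = Oincl _ _ ≫ (EtCoh.bc f).map e₁ := Omap_incl _ _ _ _
  let σ₃ : P.obj.obj (op (Oobj ((EtCoh.bc f).obj C) W₃)) := P.obj.map ψ.op a₁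
  have hcomm₁ : (r ≫ m₁) ≫ p₂ = q₂ ≫ (EtCoh.bc g).map e₁ := by
    rw [Category.assoc]
    exact hb2
  let Wsh₃ := Wsh f g f' g' h C q₂ W₃
  let ρ := Omap ((EtCoh.bc f').map (r ≫ m₁)) Wsh₃ Wsh₁
    (Wsh_le f g f' g' h e₁ (r ≫ m₁) p₂ q₂ hcomm₁ W₁ W₃ hle₁)
  have hρ : ρ ≫ Oincl _ _ = Oincl _ _ ≫ (EtCoh.bc f').map (r ≫ m₁) := Omap_incl _ _ _ _
  have L := sol_lhs f' P' V' t (r ≫ m₁) p₁ Wsh₁ Wsh₃ ρ hρ
  have R := sol_rhs f g f' g' h P P' u hu_map e₁ (r ≫ m₁) p₂ q₂ hcomm₁ W₁ W₃ ρ hρ ψ hψ a₁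
  have hSol : Sol f g f' g' h P P' u V' t C W₃ σ₃ ((r ≫ m₁) ≫ p₁) q₂ := by
    refine L.symm.trans (Eq.trans ?_ R)
    apply eq_of_forall_agreeAt P'
    intro z
    apply agreeAt_map P' ρ t₁ t₂ z
    let z₃ : ((EtCoh.bc f').obj V''₃).left := (Oincl _ Wsh₃).left.base z
    have hzW : (piN f g f' g' h V n₂).base (((EtCoh.bc f').map r).left.base z₃) ∈ W :=
      Wsh_le f g f' g' h e r n₂ q₂ hb1 W W₃ hle z₃ z.2
    obtain ⟨zA, hzA1, hzA2⟩ := hsub _ hzW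
    have e1 : zA = ρ.left.base z := by
      apply Oincl_injective _ Wsh₁
      have e2 := congrArg (fun q => q.left.base z) hρ
      refine hzA2.trans (Eq.trans ?_ e2.symm)
      have e3 : (EtCoh.bc f').map (r ≫ m₁) = (EtCoh.bc f').map r ≫ (EtCoh.bc f').map m₁ :=
        CategoryTheory.Functor.map_comp _ _ _
      exact (congrArg (fun q => q.left.base z₃) e3).symm
    rw [← e1]
    exact hzA1
  refine ⟨C, c, W₃, ⟨hW₃cl, σ₃, V''₃, y''₃, (r ≫ m₁) ≫ p₁, q₂, ?_, hq₂, hSol⟩, ?_⟩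
  · rw [Functor.map_comp, Functor.map_comp]
    show (Φ η').fiber.map p₁ ((Φ η').fiber.map m₁ ((Φ η').fiber.map r y''₃)) = y'
    rw [hr, hm₁, hp₁]
  · constructor
    · show ((EtCoh.bc f).map e).left.base
        ((pt ξ.1 _ (liftPt f (η' ≫ g) ξ C c)).base default) ∈ W
      have e1 := congrArg (fun l => (pt ξ.1 _ l).base default) (liftPt_map f (η' ≫ g) ξ e c)
      rw [he] at e1
      have e2 : ((EtCoh.bc f).map e).left.base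
          ((pt ξ.1 _ (liftPt f (η' ≫ g) ξ C c)).base default) =
          (pt ξ.1 _ (liftPt f (η' ≫ g) ξ V x)).base default := e1
      rw [e2]
      exact hξW
    · show ((EtCoh.bc f).map e₁).left.base
        ((pt ξ.1 _ (liftPt f (η' ≫ g) ξ C c)).base default) ∈ W₁
      have e1 := congrArg (fun l => (pt ξ.1 _ l).base default) (liftPt_map f (η' ≫ g) ξ e₁ c)
      rw [he₁] at e1
      have e2 : ((EtCoh.bc f).map e₁).left.base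
          ((pt ξ.1 _ (liftPt f (η' ≫ g) ξ C c)).base default) = zξ.base default := e1
      have e3 : zξ.base default = W₁.ι.base (w.base default) :=
        congrArg (fun q => q.base default) hw1.symm
      rw [e2, e3]
      exact (w.base default).2

end Abs

end Groth.Agent.Helper1.IG
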