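import Mathlib
import Groth.Agent.Lib.Helper1.IG6

/-!
# Integral base change: the abstract surjectivity statement
-/

set_option autoImplicit false
set_option linter.unusedSectionVars false
set_option linter.style.haveILetI false
open CategoryTheory CategoryTheory.Limits AlgebraicGeometry Opposite
universe u

namespace Groth.Agent.Helper1.IG

open Groth.Agent.Helper1.ELR Groth.Agent.Helper1.FP Groth.Agent.Helper1.SG

section LamIncl

variable {X Y X' Y' : Scheme.{u}} (f : X ⟶ Y) (g : Y' ⟶ Y) (f' : X' ⟶ Y') (g' : X' ⟶ X)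
  (h : IsPullback g' f' f g)

theorem lam_incl (V : Y.Etale) {V'' : Y'.Etale} (n : V'' ⟶ (EtCoh.bc g).obj V)
    (W : ((EtCoh.bc f).obj V).left.Opens) :
    lam f g f' g' h V n W ≫ (EtCoh.bc g').map (Oincl ((EtCoh.bc f).obj V) W) =
      Oincl ((EtCoh.bc f').obj V'') (Wsh f g f' g' h V n W) ≫ kap f g f' g' h V n := by
  let T₁ : X'.Etale := Oobj ((EtCoh.bc f').obj V'') (Wsh f g f' g' h V n W)
  let U₁ : X.Etale := Oobj ((EtCoh.bc f).obj V) W
  let N : X.Etale := (EtCoh.bc f).obj V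
  let pW : ((EtCoh.bc g').obj U₁).left ⟶ U₁.left := US.prV g' U₁
  let pN : ((EtCoh.bc g').obj N).left ⟶ N.left := US.prV g' N
  let ι₁ : T₁.left ⟶ ((EtCoh.bc f').obj V'').left := (Wsh f g f' g' h V n W).ι
  let ιW : U₁.left ⟶ N.left := W.ι
  let l₁ : T₁.left ⟶ U₁.left := lamS f g f' g' h V n W
  let L₁ : T₁ ⟶ (EtCoh.bc g').obj U₁ := lam f g f' g' h V n W
  let κ : (EtCoh.bc f').obj V'' ⟶ (EtCoh.bc g').obj N := kap f g f' g' h V n
  have hsq : ((EtCoh.bc g').map (Oincl N W)).left ≫ pN = pW ≫ ιW :=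
    (EtCoh.isPullback_bc_map g' (Oincl N W)).w
  have e1 : L₁.left ≫ pW = l₁ := lam_fst f g f' g' h V n W
  have i1 : l₁ ≫ ιW = ι₁ ≫ piN f g f' g' h V n := lamS_ι f g f' g' h V n W
  have k1 : κ.left ≫ pN = piN f g f' g' h V n := kap_fst f g f' g' h V n
  apply hom_ext_bc g'
  calc (L₁ ≫ (EtCoh.bc g').map (Oincl N W)).left ≫ pN
      = L₁.left ≫ (((EtCoh.bc g').map (Oincl N W)).left ≫ pN) := Category.assoc _ _ _
    _ = L₁.left ≫ (pW ≫ ιW) := congrArg (fun q => L₁.left ≫ q) hsq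
    _ = (L₁.left ≫ pW) ≫ ιW := (Category.assoc _ _ _).symm
    _ = l₁ ≫ ιW := congrArg (fun q => q ≫ ιW) e1
    _ = ι₁ ≫ piN f g f' g' h V n := i1
    _ = ι₁ ≫ (κ.left ≫ pN) := congrArg (fun q => ι₁ ≫ q) k1.symm
    _ = (ι₁ ≫ κ.left) ≫ pN := (Category.assoc _ _ _).symm

end LamIncl

section Abs

variable {X Y X' Y' : Scheme.{u}} (f : X ⟶ Y) (g : Y' ⟶ Y) (f' : X' ⟶ Y') (g' : X' ⟶ X)
  (h : IsPullback g' f' f g) (P : EtDesc.Sh X) (P' : EtDesc.Sh X')
  (u : ∀ U : X.Etale, P.obj.obj (op U) → P'.obj.obj (op ((EtCoh.bc g').obj U)))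
  (hu_map : ∀ {U U₂ : X.Etale} (ψ : U₂ ⟶ U) (a : P.obj.obj (op U)),
      u U₂ (P.obj.map ψ.op a) = P'.obj.map ((EtCoh.bc g').map ψ).op (u U a))
  (hu_rep : ∀ {Ω₁ : Type u} [Field Ω₁] [IsSepClosed Ω₁] (ξ' : Spec (CommRingCat.of Ω₁) ⟶ X')
      (N : X'.Etale) (l : (Φ ξ').fiber.obj N) (t : P'.obj.obj (op N)),
      ∃ (U : X.Etale) (a : P.obj.obj (op U)) (M : X'.Etale) (lM : (Φ ξ').fiber.obj M)
        (m : M ⟶ N) (k : M ⟶ (EtCoh.bc g').obj U), (Φ ξ').fiber.map m lM = l ∧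
        P'.obj.map m.op t = P'.obj.map k.op (u U a))
  {Ω : Type u} [Field Ω] [IsAlgClosed Ω] (η' : Spec (CommRingCat.of Ω) ⟶ Y')

include hu_map hu_rep in
theorem good_top [IsIntegralHom f] (V' : Y'.Etale) (y' : (Φ η').fiber.obj V')
    (t : P'.obj.obj (op ((EtCoh.bc f').obj V'))) :
    ∃ (V : Y.Etale) (x : (Φ (η' ≫ g)).fiber.obj V),
      Good f g f' g' h P P' u η' V' y' t V x ⊤ := by
  classical
  have hloc : ∀ ξ : Lifts f (η' ≫ g), ∃ (V : Y.Etale) (x : (Φ (η' ≫ g)).fiber.obj V)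
      (W : ((EtCoh.bc f).obj V).left.Opens), Good f g f' g' h P P' u η' V' y' t V x W ∧
      (pt ξ.1 _ (liftPt f (η' ≫ g) ξ V x)).base default ∈ W := by
    intro ξ
    obtain ⟨ξ', rfl⟩ := exists_liftDn f g f' g' h η' ξ
    exact good_loc f g f' g' h P P' u hu_map hu_rep η' V' y' t ξ'
  choose Vξ xξ Wξ hGξ hmemξ using hloc
  obtain ⟨s, hs⟩ := exists_finite_cover f (η' ≫ g) Vξ xξ Wξ (fun ξ => ⟨ξ, hmemξ ξ⟩)
  have hind : ∀ s : Finset (Lifts f (η' ≫ g)), ∃ (V : Y.Etale) (x : (Φ (η' ≫ g)).fiber.obj V)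
      (W : ((EtCoh.bc f).obj V).left.Opens), Good f g f' g' h P P' u η' V' y' t V x W ∧
      ∀ ξ : Lifts f (η' ≫ g),
        (∃ i ∈ s, (pt ξ.1 _ (liftPt f (η' ≫ g) ξ (Vξ i) (xξ i))).base default ∈ Wξ i) →
        (pt ξ.1 _ (liftPt f (η' ≫ g) ξ V x)).base default ∈ W := by
    intro s
    induction s using Finset.induction_on with
    | empty =>
      refine ⟨EtCoh.top Y, x₀ (η' ≫ g), ⊥, good_empty f g f' g' h P P' u η' V' y' t _ _, ?_⟩
      rintro ξ ⟨i, hi, -⟩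
      exact (Finset.notMem_empty i hi).elim
    | insert i s hi ih =>
      obtain ⟨V, x, W, hG, hW⟩ := ih
      obtain ⟨D, d, r, r', hr, hr'⟩ := min_pt (η' ≫ g) x (xξ i)
      have hWcl : IsClosed (W : Set ((EtCoh.bc f).obj V).left) := hG.1
      let W₁ : ((EtCoh.bc f).obj D).left.Opens := ((EtCoh.bc f).map r).left ⁻¹ᵁ W
      have hW₁cl : IsClosed (W₁ : Set ((EtCoh.bc f).obj D).left) :=
        hWcl.preimage ((EtCoh.bc f).map r).left.continuous
      let W₂ : ((EtCoh.bc f).obj D).left.Opens :=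
        ((EtCoh.bc f).map r').left ⁻¹ᵁ (Wξ i) ⊓
          ⟨(W₁ : Set ((EtCoh.bc f).obj D).left)ᶜ, hW₁cl.isOpen_compl⟩
      have hW₂cl : IsClosed (W₂ : Set ((EtCoh.bc f).obj D).left) :=
        ((hGξ i).1.preimage ((EtCoh.bc f).map r').left.continuous).inter
          W₁.isOpen.isClosed_compl
      have G₁ := good_refine f g f' g' h P P' u hu_map η' V' y' t x d r hr W W₁ hW₁cl
        (fun z hz => hz) hG
      have G₂ := good_refine f g f' g' h P P' u hu_map η' V' y' t (xξ i) d r' hr' (Wξ i) W₂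
        hW₂cl (fun z hz => hz.1) (hGξ i)
      have G := good_union f g f' g' h P P' u hu_map η' V' y' t D d W₁ W₂
        (fun z h1 h2 => h2.2 h1) G₁ G₂
      refine ⟨D, d, W₁ ⊔ W₂, G, ?_⟩
      rintro ξ ⟨j, hj, hmem⟩
      have key : ∀ {V₀ : Y.Etale} (x₀ : (Φ (η' ≫ g)).fiber.obj V₀) (ρ : D ⟶ V₀)
          (hρ : (Φ (η' ≫ g)).fiber.map ρ d = x₀),
          ((EtCoh.bc f).map ρ).left.base ((pt ξ.1 _ (liftPt f (η' ≫ g) ξ D d)).base default) =
            (pt ξ.1 _ (liftPt f (η' ≫ g) ξ V₀ x₀)).base default := by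
        intro V₀ x₀ ρ hρ
        have e1 := congrArg (fun l => (pt ξ.1 _ l).base default) (liftPt_map f (η' ≫ g) ξ ρ d)
        rw [hρ] at e1
        exact e1
      rcases Finset.mem_insert.1 hj with hji | hjs
      · subst hji
        by_cases hin : (pt ξ.1 _ (liftPt f (η' ≫ g) ξ D d)).base default ∈ W₁
        · exact TopologicalSpace.Opens.mem_sup.2 (Or.inl hin)
        · refine TopologicalSpace.Opens.mem_sup.2 (Or.inr ⟨?_, hin⟩)
          show ((EtCoh.bc f).map r').left.base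
            ((pt ξ.1 _ (liftPt f (η' ≫ g) ξ D d)).base default) ∈ Wξ j
          rw [key (xξ j) r' hr']
          exact hmem
      · refine TopologicalSpace.Opens.mem_sup.2 (Or.inl ?_)
        show ((EtCoh.bc f).map r).left.base
          ((pt ξ.1 _ (liftPt f (η' ≫ g) ξ D d)).base default) ∈ W
        rw [key x r hr]
        exact hW ξ ⟨j, hjs, hmem⟩
  obtain ⟨V, x, W, hG, hW⟩ := hind s
  have hall : ∀ ξ : Lifts f (η' ≫ g),
      (pt ξ.1 _ (liftPt f (η' ≫ g) ξ V x)).base default ∈ W := fun ξ => hW ξ (hs ξ)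
  obtain ⟨V₀, e, x₀, hx₀, hcov⟩ := fibre_cover f (η' ≫ g) V x W hall
  exact ⟨V₀, x₀, good_refine f g f' g' h P P' u hu_map η' V' y' t x x₀ e hx₀ W ⊤
    isClosed_univ (fun z _ => hcov z) hG⟩

include hu_map hu_rep in
/-- **Abstract surjectivity.** -/
theorem abs_surj [IsIntegralHom f] (V' : Y'.Etale) (y' : (Φ η').fiber.obj V')
    (t : P'.obj.obj (op ((EtCoh.bc f').obj V'))) :
    ∃ (V : Y.Etale) (x : (Φ (η' ≫ g)).fiber.obj V)
      (σ : P.obj.obj (op ((EtCoh.bc f).obj V))) (V'' : Y'.Etale) (y'' : (Φ η').fiber.obj V'')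
      (n₁ : V'' ⟶ V') (n₂ : V'' ⟶ (EtCoh.bc g).obj V),
      (Φ η').fiber.map n₁ y'' = y' ∧ (Φ η').fiber.map n₂ y'' = up g η' V x ∧
      P'.obj.map ((EtCoh.bc f').map n₁).op t =
        P'.obj.map (kap f g f' g' h V n₂).op (u _ σ) := by
  obtain ⟨V, x, -, σT, V'', y'', n₁, n₂, hn₁, hn₂, hS⟩ :=
    good_top f g f' g' h P P' u hu_map hu_rep η' V' y' t
  let N : X.Etale := (EtCoh.bc f).obj V
  let j : N ⟶ Oobj N ⊤ := Olift (𝟙 N) ⊤ (fun _ => trivial)
  have hj : j ≫ Oincl N ⊤ = 𝟙 N := Olift_incl _ _ _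
  have hj' : Oincl N ⊤ ≫ j = 𝟙 _ := by
    apply hom_ext_Oobj
    rw [Category.assoc, hj, Category.comp_id, Category.id_comp]
  let σ : P.obj.obj (op N) := P.obj.map j.op σT
  have hσ : P.obj.map (Oincl N ⊤).op σ = σT := by
    show P.obj.map (Oincl N ⊤).op (P.obj.map j.op σT) = σT
    rw [map_mapS, hj', map_idS]
  let N' : X'.Etale := (EtCoh.bc f').obj V''
  let j' : N' ⟶ Oobj N' (Wsh f g f' g' h V n₂ ⊤) := Olift (𝟙 N') _ (fun _ => trivial)
  have hj'1 : j' ≫ Oincl N' _ = 𝟙 N' := Olift_incl _ _ _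
  refine ⟨V, x, σ, V'', y'', n₁, n₂, hn₁, hn₂, ?_⟩
  have h1 := congrArg (P'.obj.map j'.op) hS
  rw [map_mapS, map_mapS, ← Category.assoc, hj'1, Category.id_comp] at h1
  rw [h1, ← hσ, hu_map, map_mapS, Category.assoc, lam_incl, ← Category.assoc, hj'1,
    Category.id_comp]

end Abs

end Groth.Agent.Helper1.IG
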