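import Mathlib
import Groth.Agent.Lib.Helper1.IG7

/-!
# Integral base change for abelian sheaves: instantiation of the abstract statements
-/

set_option autoImplicit false
set_option linter.unusedSectionVars false
set_option linter.style.haveILetI false
open CategoryTheory CategoryTheory.Limits AlgebraicGeometry Opposite
universe u

namespace Groth.Agent.Helper1.IG

open Groth.Agent.Helper1.ELR Groth.Agent.Helper1.FP

/-- the underlying sheaf of sets of an abelian sheaf -/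
noncomputable def forgetSh {X : Scheme.{u}} (F : EtCoh.Ab X) : EtDesc.Sh X :=
  ⟨F.obj ⋙ forget AddCommGrpCat.{u + 1},
    (isSheaf_iff_isSheaf_of_type _ _).2 (SZ.presieve_isSheaf F)⟩

theorem agreeAt_forgetSh_iff {X : Scheme.{u}} (F : EtCoh.Ab X) (T : X.Etale)
    (α β : F.obj.obj (op T)) (z : T.left) :
    SG.AgreeAt (forgetSh F) T α β z ↔ US.AgreeAt F T α β z := Iff.rfl

section AbInst

variable {X X' : Scheme.{u}} (k : X' ⟶ X) (F : EtCoh.Ab X)

theorem ab_hu_map {U U₂ : X.Etale} (ψ : U₂ ⟶ U) (a : (forgetSh F).obj.obj (op U)) :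
    US.uA k F U₂ ((forgetSh F).obj.map ψ.op a) =
      (forgetSh (US.pG k F)).obj.map ((EtCoh.bc k).map ψ).op (US.uA k F U a) :=
  US.uA_map k F ψ a

theorem ab_hu_inj (U : X.Etale) (a b : (forgetSh F).obj.obj (op U))
    (w : ((EtCoh.bc k).obj U).left)
    (hw : SG.AgreeAt (forgetSh (US.pG k F)) ((EtCoh.bc k).obj U) (US.uA k F U a)
      (US.uA k F U b) w) :
    SG.AgreeAt (forgetSh F) U a b ((US.prV k U).base w) := by
  haveI := SHC.preservesFilteredColimits_forget.{u}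
  have h : US.AgreeAt (US.pG k F) ((EtCoh.bc k).obj U) (US.uA k F U a) (US.uA k F U b) w := hw
  show US.AgreeAt F U a b ((US.prV k U).base w)
  obtain ⟨Ω, hΩ1, hΩ2, nb, hnb⟩ := exists_geomPoint w
  letI := hΩ1
  haveI := hΩ2
  let xb : Spec (CommRingCat.of Ω) ⟶ X' := nb ≫ ((EtCoh.bc k).obj U).hom
  let l' : (Φ xb).fiber.obj ((EtCoh.bc k).obj U) := mkPt xb _ nb rfl
  have hpt : (pt xb _ l').base default = w := hnb
  have g1 := US.germ_eq_of_agreeAt (US.pG k F) xb _ l' (US.uA k F U a) (US.uA k F U b)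
    (by rw [hpt]; exact h)
  have c1 := cmp_germ k xb F U l' a
  have c2 := cmp_germ k xb F U l' b
  have g3 : (SHC.comapPoint k xb).toPresheafFiber U l' F.obj a =
      (SHC.comapPoint k xb).toPresheafFiber U l' F.obj b :=
    cmp_hom_injective k xb F (c1.trans (g1.trans c2.symm))
  obtain ⟨V₃, ψ₃, y₃, hy₃, hab⟩ := ((SHC.comapPoint k xb).toPresheafFiber_eq_iff' (P := F.obj)
    U l' a b).1 g3
  let y₃' : (Φ xb).fiber.obj ((EtCoh.bc k).obj V₃) := y₃
  have hy₃' : pt xb _ y₃' ≫ ((EtCoh.bc k).map ψ₃).left = nb := by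
    have h1 : (Φ xb).fiber.map ((EtCoh.bc k).map ψ₃) y₃' = l' := hy₃
    have h2 := congrArg (pt xb _) h1
    exact h2
  refine ⟨V₃, ψ₃, (pt xb _ y₃' ≫ US.prV k V₃).base default, ?_, hab⟩
  have hsq : ((EtCoh.bc k).map ψ₃).left ≫ US.prV k U = US.prV k V₃ ≫ ψ₃.left :=
    (EtCoh.isPullback_bc_map k ψ₃).w
  have hm3 : (pt xb _ y₃' ≫ US.prV k V₃) ≫ ψ₃.left = nb ≫ US.prV k U := by
    calc (pt xb _ y₃' ≫ US.prV k V₃) ≫ ψ₃.left
        = pt xb _ y₃' ≫ (US.prV k V₃ ≫ ψ₃.left) := Category.assoc _ _ _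
      _ = pt xb _ y₃' ≫ (((EtCoh.bc k).map ψ₃).left ≫ US.prV k U) :=
          congrArg (fun q => pt xb _ y₃' ≫ q) hsq.symm
      _ = (pt xb _ y₃' ≫ ((EtCoh.bc k).map ψ₃).left) ≫ US.prV k U := (Category.assoc _ _ _).symm
      _ = nb ≫ US.prV k U := congrArg (fun q => q ≫ US.prV k U) hy₃'
  have h4 := congrArg (fun q => q.base default) hm3
  have h5 : (nb ≫ US.prV k U).base default = (US.prV k U).base (nb.base default) := rfl
  rw [hnb] at h5
  exact h4.trans h5

theorem ab_hu_rep {Ω₁ : Type u} [Field Ω₁] [IsSepClosed Ω₁] (ξ' : Spec (CommRingCat.of Ω₁) ⟶ X')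
    (N : X'.Etale) (l : (Φ ξ').fiber.obj N) (t : (forgetSh (US.pG k F)).obj.obj (op N)) :
    ∃ (U : X.Etale) (a : (forgetSh F).obj.obj (op U)) (M : X'.Etale) (lM : (Φ ξ').fiber.obj M)
      (m : M ⟶ N) (q : M ⟶ (EtCoh.bc k).obj U), (Φ ξ').fiber.map m lM = l ∧
      (forgetSh (US.pG k F)).obj.map m.op t =
        (forgetSh (US.pG k F)).obj.map q.op (US.uA k F U a) := by
  haveI := SHC.preservesFilteredColimits_forget.{u}
  let t' : (US.pG k F).obj.obj (op N) := t
  obtain ⟨e, he⟩ := cmp_hom_surjective k ξ' F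
    ((Φ ξ').toPresheafFiber N l (US.pG k F).obj t')
  obtain ⟨U, l₁, a, rfl⟩ := (SHC.comapPoint k ξ').toPresheafFiber_jointly_surjective
    (P := F.obj) e
  have c1 := cmp_germ k ξ' F U l₁ a
  let l₁' : (Φ ξ').fiber.obj ((EtCoh.bc k).obj U) := l₁
  obtain ⟨M₀, lM₀, p, q, hp, hq⟩ := min_pt ξ' l l₁'
  have e1 := (Φ ξ').toPresheafFiber_w_apply p lM₀ (US.pG k F).obj t'
  rw [hp] at e1
  have e2 := (Φ ξ').toPresheafFiber_w_apply q lM₀ (US.pG k F).obj (US.uA k F U a)
  rw [hq] at e2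
  have e3 : (Φ ξ').toPresheafFiber M₀ lM₀ (US.pG k F).obj ((US.pG k F).obj.map p.op t') =
      (Φ ξ').toPresheafFiber M₀ lM₀ (US.pG k F).obj
        ((US.pG k F).obj.map q.op (US.uA k F U a)) :=
    e1.trans (he.symm.trans (c1.trans e2.symm))
  obtain ⟨M, μ, lM, hlM, hμ⟩ := ((Φ ξ').toPresheafFiber_eq_iff' (P := (US.pG k F).obj)
    M₀ lM₀ _ _).1 e3
  refine ⟨U, a, M, lM, μ ≫ p, μ ≫ q, ?_, ?_⟩
  · rw [Functor.map_comp]
    show (Φ ξ').fiber.map p ((Φ ξ').fiber.map μ lM) = l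
    rw [hlM, hp]
  · have h1 := SG.map_mapS (forgetSh (US.pG k F)) μ p t
    have h2 := SG.map_mapS (forgetSh (US.pG k F)) μ q (US.uA k F U a)
    exact h1.symm.trans (Eq.trans hμ h2)

end AbInst

section Main

variable {X Y X' Y' : Scheme.{u}} (f : X ⟶ Y) (g : Y' ⟶ Y) (f' : X' ⟶ Y')
  (g' : X' ⟶ X) (h : IsPullback g' f' f g) (F : EtCoh.Ab X) {Ω : Type u} [Field Ω] [IsAlgClosed Ω]
  (η' : Spec (CommRingCat.of Ω) ⟶ Y') [IsIntegralHom f]

theorem kap_map_apply (V : Y.Etale) {V'' : Y'.Etale} (n : V'' ⟶ (EtCoh.bc g).obj V)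
    (τ : (US.pG g' F).obj.obj (op ((EtCoh.bc g').obj ((EtCoh.bc f).obj V)))) :
    (forgetSh (US.pG g' F)).obj.map (kap f g f' g' h V n).op τ =
      (US.pG g' F).obj.map ((EtCoh.bc f').map n).op
        ((US.pG g' F).obj.map (ιBC f g f' g' h.w V).op τ) :=
  (SG.map_mapS (forgetSh (US.pG g' F)) ((EtCoh.bc f').map n) (ιBC f g f' g' h.w V) τ).symm

theorem stalk_formula0 (V : Y.Etale) (y : (Φ η').fiber.obj ((EtCoh.bc g).obj V))
    (σ : F.obj.obj (op ((EtCoh.bc f).obj V))) :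
    ((Φ η').presheafFiber.map (EtCoh.baseChange0 f g f' g' h.w F).hom)
        ((cmp g η' ((EtCoh.push f).obj F)).hom
          ((SHC.comapPoint g η').toPresheafFiber V y ((EtCoh.push f).obj F).obj σ)) =
    (Φ η').toPresheafFiber ((EtCoh.bc g).obj V) y
      ((EtCoh.push f').obj ((EtCoh.pull g').obj F)).obj
      (((EtCoh.pull g').obj F).obj.map (ιBC f g f' g' h.w V).op
        (((EtCoh.pullPushAdj g').unit.app F).hom.app (op ((EtCoh.bc f).obj V)) σ)) := by
  have c1 := cmp_germ g η' ((EtCoh.push f).obj F) V y σ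
  have e2 := (Φ η').toPresheafFiber_naturality_apply (EtCoh.baseChange0 f g f' g' h.w F).hom
    ((EtCoh.bc g).obj V) y
    (((EtCoh.pullPushAdj g).unit.app ((EtCoh.push f).obj F)).hom.app (op V) σ)
  have e3 := baseChange0_unit_app f g f' g' h.w F V σ
  exact (congrArg (fun z => ((Φ η').presheafFiber.map
    (EtCoh.baseChange0 f g f' g' h.w F).hom) z) c1).trans
    (e2.trans (congrArg (fun z => (Φ η').toPresheafFiber ((EtCoh.bc g).obj V) y
      ((EtCoh.push f').obj ((EtCoh.pull g').obj F)).obj z) e3))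

theorem stalk_bc_injective_integral :
    Function.Injective ((Φ η').presheafFiber.map (EtCoh.baseChange0 f g f' g' h.w F).hom) := by
  haveI := SHC.preservesFilteredColimits_forget.{u}
  intro a b hab
  obtain ⟨a₀, rfl⟩ := cmp_hom_surjective g η' ((EtCoh.push f).obj F) a
  obtain ⟨b₀, rfl⟩ := cmp_hom_surjective g η' ((EtCoh.push f).obj F) b
  apply congrArg
  obtain ⟨V, y, σ, σ', rfl, rfl⟩ := (SHC.comapPoint g η').toPresheafFiber_jointly_surjective₂
    (P := ((EtCoh.push f).obj F).obj) a₀ b₀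
  have s1 := stalk_formula0 f g f' g' h F η' V y σ
  have s1' := stalk_formula0 f g f' g' h F η' V y σ'
  have hab' := s1.symm.trans (hab.trans s1')
  obtain ⟨V'', n, y'', hy'', hn⟩ := ((Φ η').toPresheafFiber_eq_iff'
    (P := ((EtCoh.push f').obj ((EtCoh.pull g').obj F)).obj) ((EtCoh.bc g).obj V) y _ _).1 hab'
  let y₀ : (Φ η').fiber.obj ((EtCoh.bc g).obj V) := y
  have hy₀ : (Φ η').fiber.map n y'' = up g η' V (dn g η' V y₀) := by
    rw [up_dn]
    exact hy''
  have heq : (forgetSh (US.pG g' F)).obj.map (kap f g f' g' h V n).op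
        (US.uA g' F ((EtCoh.bc f).obj V) σ) =
      (forgetSh (US.pG g' F)).obj.map (kap f g f' g' h V n).op
        (US.uA g' F ((EtCoh.bc f).obj V) σ') := by
    rw [kap_map_apply, kap_map_apply]
    exact hn
  obtain ⟨V₁, e, x₁, hx₁, he⟩ := abs_inj f g f' g' h (forgetSh F) (forgetSh (US.pG g' F))
    (US.uA g' F) (ab_hu_inj g' F) η' V (dn g η' V y₀) σ σ' y'' n hy₀ heq
  let y₁ := up g η' V₁ x₁
  have hy₁ : (Φ η').fiber.map ((EtCoh.bc g).map e) y₁ = y := by
    apply dn_injective g η' V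
    rw [dn_map, dn_up]
    exact hx₁
  have e1 := (SHC.comapPoint g η').toPresheafFiber_w_apply e y₁ ((EtCoh.push f).obj F).obj σ
  have e1' := (SHC.comapPoint g η').toPresheafFiber_w_apply e y₁ ((EtCoh.push f).obj F).obj σ'
  have hy₁' : (SHC.comapPoint g η').fiber.map e y₁ = y := hy₁
  rw [hy₁'] at e1 e1'
  rw [← e1, ← e1']
  exact congrArg ((SHC.comapPoint g η').toPresheafFiber V₁ y₁ ((EtCoh.push f).obj F).obj) he

theorem stalk_bc_surjective_integral :
    Function.Surjective ((Φ η').presheafFiber.map (EtCoh.baseChange0 f g f' g' h.w F).hom) := by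
  haveI := SHC.preservesFilteredColimits_forget.{u}
  intro r
  obtain ⟨V', y', t, rfl⟩ := (Φ η').toPresheafFiber_jointly_surjective
    (P := ((EtCoh.push f').obj ((EtCoh.pull g').obj F)).obj) r
  obtain ⟨V, x, σ, V'', y'', n₁, n₂, hn₁, hn₂, hS⟩ := abs_surj f g f' g' h (forgetSh F)
    (forgetSh (US.pG g' F)) (US.uA g' F) (ab_hu_map g' F) (ab_hu_rep g' F) η' V' y' t
  let y := up g η' V x
  refine ⟨(cmp g η' ((EtCoh.push f).obj F)).hom
    ((SHC.comapPoint g η').toPresheafFiber V y ((EtCoh.push f).obj F).obj σ), ?_⟩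
  refine (stalk_formula0 f g f' g' h F η' V y σ).trans ?_
  have w1 := (Φ η').toPresheafFiber_w_apply n₁ y''
    ((EtCoh.push f').obj ((EtCoh.pull g').obj F)).obj t
  have w2 := (Φ η').toPresheafFiber_w_apply n₂ y''
    ((EtCoh.push f').obj ((EtCoh.pull g').obj F)).obj
    (((EtCoh.pull g').obj F).obj.map (ιBC f g f' g' h.w V).op
      (((EtCoh.pullPushAdj g').unit.app F).hom.app (op ((EtCoh.bc f).obj V)) σ))
  rw [hn₁] at w1
  rw [hn₂] at w2
  rw [← w1, ← w2]
  apply congrArg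
  rw [kap_map_apply] at hS
  exact hS.symm

end Main

/-- **Base change for direct images along an integral morphism, in degree zero.** -/
theorem isIso_baseChange0_integral {X Y X' Y' : Scheme.{u}} (f : X ⟶ Y) [IsIntegralHom f]
    (g : Y' ⟶ Y) (f' : X' ⟶ Y') (g' : X' ⟶ X) (h : IsPullback g' f' f g) (F : EtCoh.Ab X) :
    IsIso (EtCoh.baseChange0 f g f' g' h.w F) := by
  haveI := SHC.preservesFilteredColimits_forget.{u}
  have key : ∀ (U : Y'.Etale) (x : U.left), ∃ (Ω : Type u) (_ : Field Ω) (_ : IsSepClosed Ω)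
      (ξ : Spec (CommRingCat.of Ω) ⟶ Y') (y : (Scheme.pointSmallEtale ξ).fiber.obj U),
      (y.left : Spec (CommRingCat.of Ω) ⟶ U.left).base (default : Spec (CommRingCat.of Ω)) = x ∧
      Function.Bijective ((Scheme.pointSmallEtale ξ).presheafFiber.map
        (EtCoh.baseChange0 f g f' g' h.w F).hom) := by
    intro U x
    obtain ⟨Ω, hΩ1, hΩ2, η₀, hη₀⟩ := exists_geomPoint x
    letI := hΩ1
    haveI := hΩ2
    exact ⟨Ω, hΩ1, inferInstance, η₀ ≫ U.hom, mkPt (η₀ ≫ U.hom) U η₀ rfl, hη₀,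
      stalk_bc_injective_integral f g f' g' h F (η₀ ≫ U.hom),
      stalk_bc_surjective_integral f g f' g' h F (η₀ ≫ U.hom)⟩
  haveI : Sheaf.IsLocallyInjective (EtCoh.baseChange0 f g f' g' h.w F) := by
    apply SHC.isLocallyInjective_of_enough
    intro U x
    obtain ⟨Ω, i1, i2, ξ, y, hy, hb⟩ := key U x
    exact ⟨Ω, i1, i2, ξ, y, hy, hb.1⟩
  haveI : Sheaf.IsLocallySurjective (EtCoh.baseChange0 f g f' g' h.w F) := by
    apply SHC.isLocallySurjective_of_enough
    intro U x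
    obtain ⟨Ω, i1, i2, ξ, y, hy, hb⟩ := key U x
    exact ⟨Ω, i1, i2, ξ, y, hy, hb.2⟩
  haveI : Mono (EtCoh.baseChange0 f g f' g' h.w F) := Sheaf.mono_of_isLocallyInjective _
  haveI : Epi (EtCoh.baseChange0 f g f' g' h.w F) :=
    (Sheaf.isLocallySurjective_iff_epi' _ _).1 inferInstance
  exact isIso_of_mono_of_epi _

end Groth.Agent.Helper1.IG
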