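import Mathlib
import Groth.Prelude.Def_SGA4b
import Groth.Agent.Lib.Helper1.SG6
import Groth.Agent.Lib.Helper1.AC2

/-!
# Descent of sections over étale opens and of morphisms of sheaves of sets along universally
submersive morphisms (helper1)
-/

set_option autoImplicit false
set_option linter.unusedSectionVars false
set_option linter.style.haveILetI false
open CategoryTheory CategoryTheory.Limits AlgebraicGeometry Opposite
universe u

namespace Groth.Agent.Helper1.SG

open Groth.Agent.Helper1.ELR Groth.Agent.Helper1.FP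

section Nat

variable {T S X : Scheme.{u}} (g : T ⟶ S) (a : S ⟶ X) (b : T ⟶ X) (w : g ≫ a = b)

theorem kap_natural {U V : X.Etale} (φ : V ⟶ U) :
    (EtCoh.bc g).map ((EtCoh.bc a).map φ) ≫ kap g a b w U =
      kap g a b w V ≫ (EtCoh.bc b).map φ := by
  have n1 : (EtCoh.bc g).map ((EtCoh.bc a).map φ) ≫ dU g a U =
      dU g a V ≫ (EtCoh.bc (g ≫ a)).map φ :=
    (MorphismProperty.Over.pullbackComp (P := EtCoh.etaleMP) (Q := ⊤) g a).inv.naturality φ
  have n2 : (EtCoh.bc (g ≫ a)).map φ ≫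
      (MorphismProperty.Over.pullbackCongr (P := EtCoh.etaleMP) (Q := ⊤) w).hom.app U =
      (MorphismProperty.Over.pullbackCongr (P := EtCoh.etaleMP) (Q := ⊤) w).hom.app V ≫
        (EtCoh.bc b).map φ :=
    (MorphismProperty.Over.pullbackCongr (P := EtCoh.etaleMP) (Q := ⊤) w).hom.naturality φ
  have e1 : (EtCoh.bc g).map ((EtCoh.bc a).map φ) ≫ kap g a b w U =
      ((EtCoh.bc g).map ((EtCoh.bc a).map φ) ≫ dU g a U) ≫
        (MorphismProperty.Over.pullbackCongr (P := EtCoh.etaleMP) (Q := ⊤) w).hom.app U :=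
    (Category.assoc _ _ _).symm
  have e2 : ((EtCoh.bc g).map ((EtCoh.bc a).map φ) ≫ dU g a U) ≫
        (MorphismProperty.Over.pullbackCongr (P := EtCoh.etaleMP) (Q := ⊤) w).hom.app U =
      (dU g a V ≫ (EtCoh.bc (g ≫ a)).map φ) ≫
        (MorphismProperty.Over.pullbackCongr (P := EtCoh.etaleMP) (Q := ⊤) w).hom.app U :=
    congrArg (fun m => m ≫
      (MorphismProperty.Over.pullbackCongr (P := EtCoh.etaleMP) (Q := ⊤) w).hom.app U) n1
  have e3 : (dU g a V ≫ (EtCoh.bc (g ≫ a)).map φ) ≫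
        (MorphismProperty.Over.pullbackCongr (P := EtCoh.etaleMP) (Q := ⊤) w).hom.app U =
      dU g a V ≫ ((EtCoh.bc (g ≫ a)).map φ ≫
        (MorphismProperty.Over.pullbackCongr (P := EtCoh.etaleMP) (Q := ⊤) w).hom.app U) :=
    Category.assoc _ _ _
  have e4 : dU g a V ≫ ((EtCoh.bc (g ≫ a)).map φ ≫
        (MorphismProperty.Over.pullbackCongr (P := EtCoh.etaleMP) (Q := ⊤) w).hom.app U) =
      dU g a V ≫ ((MorphismProperty.Over.pullbackCongr (P := EtCoh.etaleMP) (Q := ⊤) w).hom.app V ≫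
        (EtCoh.bc b).map φ) := congrArg (fun m => dU g a V ≫ m) n2
  have e5 : dU g a V ≫ ((MorphismProperty.Over.pullbackCongr (P := EtCoh.etaleMP) (Q := ⊤) w).hom.app V ≫
        (EtCoh.bc b).map φ) = kap g a b w V ≫ (EtCoh.bc b).map φ :=
    (Category.assoc _ _ _).symm
  exact e1.trans (e2.trans (e3.trans (e4.trans e5)))

end Nat

theorem swp_natural {X' X : Scheme.{u}} (f : X' ⟶ X) {U V : X.Etale} (φ : V ⟶ U) :
    (EtCoh.bc (pullback.fst f f)).map ((EtCoh.bc f).map φ) ≫ swp f U =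
      swp f V ≫ (EtCoh.bc (pullback.snd f f)).map ((EtCoh.bc f).map φ) := by
  have n1 := kap_natural (pullback.fst f f) f (pullback.fst f f ≫ f) rfl φ
  have n2 := kap_natural (pullback.snd f f) f (pullback.fst f f ≫ f) pullback.condition.symm φ
  have s1 := swp_comp_kap f U
  have s2 := swp_comp_kap f V
  -- cancel the iso kap₂ U on the right
  have hmono : ∀ {A : (pullback f f).Etale}
      (x y : A ⟶ (EtCoh.bc (pullback.snd f f)).obj ((EtCoh.bc f).obj U)),
      x ≫ kap (pullback.snd f f) f (pullback.fst f f ≫ f) pullback.condition.symm U =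
        y ≫ kap (pullback.snd f f) f (pullback.fst f f ≫ f) pullback.condition.symm U → x = y := by
    intro A x y h
    exact (cancel_mono (kapIso (pullback.snd f f) f (pullback.fst f f ≫ f)
      pullback.condition.symm U).hom).1 h
  apply hmono
  have k2U := kap (pullback.snd f f) f (pullback.fst f f ≫ f) pullback.condition.symm U
  exact (Category.assoc _ _ _).trans ((congrArg (fun m =>
      (EtCoh.bc (pullback.fst f f)).map ((EtCoh.bc f).map φ) ≫ m) s1).trans
    (n1.trans ((congrArg (fun m => m ≫ (EtCoh.bc (pullback.fst f f ≫ f)).map φ) s2.symm).trans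
      ((Category.assoc _ _ _).trans ((congrArg (fun m => swp f V ≫ m) n2.symm).trans
        (Category.assoc _ _ _).symm)))))

theorem sat_abstract2 {Z : Scheme.{u}} {G1 G2 : EtDesc.Sh Z} (can : G1 ⟶ G2)
    {W1 W2 : Z.Etale} (sw : W1 ⟶ W2)
    (α1 β1 : G1.obj.obj (op W1)) (α2 β2 : G2.obj.obj (op W2)) (z : W1.left)
    (c1 : can.hom.app (op W1) α1 = G2.obj.map sw.op α2)
    (c2 : can.hom.app (op W1) β1 = G2.obj.map sw.op β2)
    (a1 : AgreeAt G1 W1 α1 β1 z) : AgreeAt G2 W2 α2 β2 (sw.left.base z) := by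
  have a2 := agreeAt_hom can W1 _ _ z a1
  rw [c1, c2] at a2
  exact agreeAt_of_map G2 sw _ _ z a2

theorem can_restrict_abstract {Z : Scheme.{u}} {G1 G2 : EtDesc.Sh Z} (can : G1 ⟶ G2)
    {W1U W2U W1V W2V : Z.Etale} (swU : W1U ⟶ W2U) (swV : W1V ⟶ W2V) (m1 : W1V ⟶ W1U)
    (m2 : W2V ⟶ W2U) (hnat : m1 ≫ swU = swV ≫ m2)
    (x1 : G1.obj.obj (op W1U)) (x2 : G2.obj.obj (op W2U))
    (h : can.hom.app (op W1U) x1 = G2.obj.map swU.op x2) :
    can.hom.app (op W1V) (G1.obj.map m1.op x1) = G2.obj.map swV.op (G2.obj.map m2.op x2) := by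
  have n := NatTrans.naturality_apply can.hom m1.op x1
  refine n.trans ?_
  rw [h, map_mapS, map_mapS, hnat]

section Rel

variable {X' X : Scheme.{u}} (f : X' ⟶ X) (G : EtDesc.Sh X)

/-- the descent condition for a section of `f^*G` over `X' ×_X U` -/
def DescCond (U : X.Etale) (s' : (pGS f G).obj.obj (op ((EtCoh.bc f).obj U))) : Prop :=
  (EtDesc.canIso f G).hom.hom.app
      (op ((EtCoh.bc (pullback.fst f f)).obj ((EtCoh.bc f).obj U)))
      (uS (pullback.fst f f) (pGS f G) ((EtCoh.bc f).obj U) s') =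
    (pGS (pullback.snd f f) (pGS f G)).obj.map (swp f U).op
      (uS (pullback.snd f f) (pGS f G) ((EtCoh.bc f).obj U) s')

theorem descCond_map {U V : X.Etale} (φ : V ⟶ U)
    (s' : (pGS f G).obj.obj (op ((EtCoh.bc f).obj U))) (h : DescCond f G U s') :
    DescCond f G V ((pGS f G).obj.map ((EtCoh.bc f).map φ).op s') := by
  unfold DescCond
  rw [uS_map, uS_map]
  exact can_restrict_abstract (EtDesc.canIso f G).hom (swp f U) (swp f V) _ _
    (swp_natural f φ) _ _ h

theorem descCond_unit (U : X.Etale) (a : G.obj.obj (op U)) : DescCond f G U (uS f G U a) :=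
  canIso_unit f G U a

theorem saturated_rel (U : X.Etale) (s' : (pGS f G).obj.obj (op ((EtCoh.bc f).obj U)))
    (h : DescCond f G U s') (a : G.obj.obj (op U)) (w1 w2 : ((EtCoh.bc f).obj U).left)
    (h1 : AgreeAt (pGS f G) ((EtCoh.bc f).obj U) s' (uS f G U a) w1)
    (hw : (US.prV f U).base w1 = (US.prV f U).base w2) :
    AgreeAt (pGS f G) ((EtCoh.bc f).obj U) s' (uS f G U a) w2 := by
  obtain ⟨z, hz1, hz2⟩ := exists_point_swp f U w1 w2 hw
  have key := sat_abstract2 (EtDesc.canIso f G).hom (swp f U) _ _ _ _ z h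
    (canIso_unit f G U a)
    (agreeAt_unit_of_agreeAt (pullback.fst f f) (pGS f G) ((EtCoh.bc f).obj U) _ _ z
      (by rw [hz1]; exact h1))
  have a4 := agreeAt_of_agreeAt_unit (pullback.snd f f) (pGS f G) ((EtCoh.bc f).obj U) _ _ _ key
  rw [hz2] at a4
  exact a4

/-- the sieve of étale `V → U` over which `s'` comes from a section of `G` -/
noncomputable def repSieveRel (U : X.Etale)
    (s' : (pGS f G).obj.obj (op ((EtCoh.bc f).obj U))) : Sieve U where
  arrows := fun V φ => ∃ a : G.obj.obj (op V),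
    uS f G V a = (pGS f G).obj.map ((EtCoh.bc f).map φ).op s'
  downward_closed := by
    rintro V W φ ⟨a, ha⟩ ψ
    refine ⟨G.obj.map ψ.op a, ?_⟩
    rw [uS_map, ha, map_mapS, ← Functor.map_comp]

theorem repSieveRel_mem (hf : EtDesc.IsUnivSubmersive f) (U : X.Etale)
    (s' : (pGS f G).obj.obj (op ((EtCoh.bc f).obj U))) (hDC : DescCond f G U s') :
    repSieveRel f G U s' ∈ X.smallEtaleTopology U := by
  have hsurj := surjective_of_univSubmersive f hf
  apply SHC.mem_of_pointwise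
  intro u
  obtain ⟨w, hw⟩ := prV_surjective f hsurj U u
  obtain ⟨Ω, hΩ1, hΩ2, wb, hwb⟩ := exists_geomPoint w
  letI := hΩ1
  haveI := hΩ2
  let xb : Spec (CommRingCat.of Ω) ⟶ X' := wb ≫ ((EtCoh.bc f).obj U).hom
  let yb : (Φ xb).fiber.obj ((EtCoh.bc f).obj U) := mkPt xb _ wb rfl
  obtain ⟨V₂, ψ, y₂, a₂, hy₂, hag⟩ := exists_local_rep f G xb U yb s'
  let α₂ : (pGS f G).obj.obj (op ((EtCoh.bc f).obj V₂)) :=
    (pGS f G).obj.map ((EtCoh.bc f).map ψ).op s'
  have hα₂ : DescCond f G V₂ α₂ := descCond_map f G ψ s' hDC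
  let E' : Set ((EtCoh.bc f).obj V₂).left :=
    {z | AgreeAt (pGS f G) ((EtCoh.bc f).obj V₂) α₂ (uS f G V₂ a₂) z}
  have hE' : IsOpen E' := isOpen_agreeAt _ _ _ _
  have hsat : ∀ z z₂, z ∈ E' → (US.prV f V₂).base z₂ = (US.prV f V₂).base z → z₂ ∈ E' :=
    fun z z₂ hz hzz => saturated_rel f G V₂ α₂ hα₂ a₂ z z₂ hz hzz.symm
  let E : Set V₂.left := (US.prV f V₂).base '' E'
  have hpre : (US.prV f V₂).base ⁻¹' E = E' := by
    ext t
    constructor
    · rintro ⟨z, hz, hzt⟩
      exact hsat z t hz hzt.symm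
    · intro ht
      exact ⟨t, ht, rfl⟩
  have hE : IsOpen E := by
    have hq := (hf V₂.left V₂.hom).2
    have hsym : (pullbackSymmetry f V₂.hom).hom ≫ US.prV f V₂ = pullback.snd f V₂.hom :=
      pullbackSymmetry_hom_comp_fst _ _
    rw [← hq.isCoinducing.isOpen_preimage]
    have h1 : (pullback.snd f V₂.hom).base ⁻¹' E =
        (pullbackSymmetry f V₂.hom).hom.base ⁻¹' E' := by
      rw [← hpre, ← hsym]
      rfl
    rw [h1]
    exact hE'.preimage (pullbackSymmetry f V₂.hom).hom.continuous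
  let EO : V₂.left.Opens := ⟨E, hE⟩
  haveI : Etale (homX V₂) := V₂.prop
  let VE : X.Etale := Scheme.Etale.mk (EO.ι ≫ homX V₂)
  let j : VE ⟶ V₂ := MorphismProperty.Over.homMk EO.ι rfl trivial
  have hz₀ : (pt xb _ y₂).base default ∈ E' := hag
  let v₀ : V₂.left := (US.prV f V₂).base ((pt xb _ y₂).base default)
  have hv₀ : v₀ ∈ E := ⟨_, hz₀, rfl⟩
  refine ⟨VE, j ≫ ψ, (⟨v₀, hv₀⟩ : EO), ?_, ?_⟩
  · refine ⟨G.obj.map j.op a₂, ?_⟩
    rw [uS_map]
    have h2 : (pGS f G).obj.map ((EtCoh.bc f).map (j ≫ ψ)).op s' =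
        (pGS f G).obj.map ((EtCoh.bc f).map j).op α₂ := by
      show _ = (pGS f G).obj.map ((EtCoh.bc f).map j).op
        ((pGS f G).obj.map ((EtCoh.bc f).map ψ).op s')
      rw [map_mapS, ← Functor.map_comp]
    rw [h2]
    symm
    apply eq_of_forall_agreeAt
    intro z'
    apply agreeAt_map
    have hsq := (EtCoh.isPullback_bc_map f j).w
    have h3 : (US.prV f V₂).base (((EtCoh.bc f).map j).left.base z') =
        j.left.base ((US.prV f VE).base z') := congrArg (fun k => k.base z') hsq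
    have hz'E : (US.prV f V₂).base (((EtCoh.bc f).map j).left.base z') ∈ E := by
      rw [h3]
      exact ((US.prV f VE).base z').2
    have h4 : ((EtCoh.bc f).map j).left.base z' ∈ (US.prV f V₂).base ⁻¹' E := hz'E
    rw [hpre] at h4
    exact h4
  · have hsq := (EtCoh.isPullback_bc_map f ψ).w
    have h3 : (US.prV f U).base (((EtCoh.bc f).map ψ).left.base
        ((pt xb _ y₂).base default)) = ψ.left.base v₀ :=
      congrArg (fun k => k.base ((pt xb _ y₂).base default)) hsq
    have h4 : ((EtCoh.bc f).map ψ).left.base ((pt xb _ y₂).base default) =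
        (pt xb _ ((Φ xb).fiber.map ((EtCoh.bc f).map ψ) y₂)).base default := rfl
    rw [h4, hy₂] at h3
    have h5 : (pt xb _ yb).base default = w := hwb
    have h8 : (j ≫ ψ).left.base (⟨v₀, hv₀⟩ : EO) = ψ.left.base v₀ := rfl
    rw [h8, ← h3, h5]
    exact hw

/-- **Relative descent of sections** -/
theorem exists_of_descCond (hf : EtDesc.IsUnivSubmersive f) (U : X.Etale)
    (s' : (pGS f G).obj.obj (op ((EtCoh.bc f).obj U))) (hDC : DescCond f G U s') :
    ∃ a : G.obj.obj (op U), uS f G U a = s' := by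
  have hsurj := surjective_of_univSubmersive f hf
  have hR := repSieveRel_mem f G hf U s' hDC
  let R := repSieveRel f G U s'
  let G' := pGS f G
  have hSF := (sh_isSheaf G) R hR
  let xfam : Presieve.FamilyOfElements G.obj R.arrows := fun V φ h => h.choose
  have hspec : ∀ (V : X.Etale) (φ : V ⟶ U) (h : R φ),
      uS f G V (xfam φ h) = G'.obj.map ((EtCoh.bc f).map φ).op s' :=
    fun V φ h => h.choose_spec
  have hcompat : xfam.SieveCompatible := by
    intro V W φ ψ hφ
    apply uS_injective f G hsurj W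
    rw [hspec, uS_map, hspec, map_mapS, ← Functor.map_comp]
  have hcompat' := (Presieve.compatible_iff_sieveCompatible xfam).2 hcompat
  refine ⟨hSF.amalgamate xfam hcompat', ?_⟩
  have hglue : ∀ (V : X.Etale) (φ : V ⟶ U) (hφ : R φ),
      G.obj.map φ.op (hSF.amalgamate xfam hcompat') = xfam φ hφ :=
    fun V φ hφ => hSF.valid_glue hcompat' φ hφ
  let P : EtDesc.Sh X := (EtDesc.pushSh f).obj G'
  refine ((sh_isSheaf P) R hR).isSeparatedFor.ext ?_
  intro V φ hφ
  show P.obj.map φ.op (uS f G U (hSF.amalgamate xfam hcompat')) = P.obj.map φ.op s'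
  rw [pushSh_map_eq, pushSh_map_eq]
  have h1 := (uS_map f G φ (hSF.amalgamate xfam hcompat')).symm
  have h2 : G.obj.map φ.op (hSF.amalgamate xfam hcompat') = xfam φ hφ := hglue V φ hφ
  exact h1.trans ((congrArg (uS f G V) h2).trans (hspec V φ hφ))

end Rel

theorem unit_nat {T S : Scheme.{u}} (p : T ⟶ S) {A B : EtDesc.Sh S} (m : A ⟶ B) (W : S.Etale)
    (x : A.obj.obj (op W)) :
    uS p B W (m.hom.app (op W) x) =
      ((EtDesc.pullSh p).map m).hom.app (op ((EtCoh.bc p).obj W)) (uS p A W x) := by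
  have h := (EtDesc.adjSh p).unit.naturality m
  exact congrArg (fun k => k.hom.app (op W) x) h

theorem compat_abstract {Z : Scheme.{u}} {F1 F2 G1 G2 : EtDesc.Sh Z} (canF : F1 ⟶ F2)
    (canG : G1 ⟶ G2) (a1 : F1 ⟶ G1) (a2 : F2 ⟶ G2) (ha : canF ≫ a2 = a1 ≫ canG)
    {W1 W2 : Z.Etale} (sw : W1 ⟶ W2) (A : F1.obj.obj (op W1)) (B : F2.obj.obj (op W2))
    (h2 : canF.hom.app (op W1) A = F2.obj.map sw.op B) :
    canG.hom.app (op W1) (a1.hom.app (op W1) A) =
      G2.obj.map sw.op (a2.hom.app (op W2) B) := by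
  have h1 := congrArg (fun k => k.hom.app (op W1) A) ha
  have n := NatTrans.naturality_apply a2.hom sw.op B
  refine (shComp_app a1 canG W1 A).symm.trans ?_
  refine h1.symm.trans ?_
  refine (shComp_app canF a2 W1 A).trans ?_
  rw [h2]
  exact n

section Mor

variable {X' X : Scheme.{u}} (f : X' ⟶ X) (F G : EtDesc.Sh X)
  (a : (EtDesc.pullSh f).obj F ⟶ (EtDesc.pullSh f).obj G)

theorem descCond_of_compat
    (ha : (EtDesc.canIso f F).hom ≫ (EtDesc.pullSh (pullback.snd f f)).map a =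
      (EtDesc.pullSh (pullback.fst f f)).map a ≫ (EtDesc.canIso f G).hom)
    (U : X.Etale) (σ : F.obj.obj (op U)) :
    DescCond f G U (a.hom.app (op ((EtCoh.bc f).obj U)) (uS f F U σ)) := by
  unfold DescCond
  rw [unit_nat (pullback.fst f f) a, unit_nat (pullback.snd f f) a]
  exact compat_abstract (EtDesc.canIso f F).hom (EtDesc.canIso f G).hom
    ((EtDesc.pullSh (pullback.fst f f)).map a) ((EtDesc.pullSh (pullback.snd f f)).map a) ha
    (swp f U) _ _ (canIso_unit f F U σ)

/-- **Descent of morphisms** of sheaves of sets along a universally submersive morphism -/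
theorem exists_unique_descent (hf : EtDesc.IsUnivSubmersive f)
    (ha : (EtDesc.canIso f F).hom ≫ (EtDesc.pullSh (pullback.snd f f)).map a =
      (EtDesc.pullSh (pullback.fst f f)).map a ≫ (EtDesc.canIso f G).hom) :
    ∃! b : F ⟶ G, (EtDesc.pullSh f).map b = a := by
  have hsurj := surjective_of_univSubmersive f hf
  have hex : ∀ (U : X.Etale) (σ : F.obj.obj (op U)), ∃ τ : G.obj.obj (op U),
      uS f G U τ = a.hom.app (op ((EtCoh.bc f).obj U)) (uS f F U σ) :=
    fun U σ => exists_of_descCond f G hf U _ (descCond_of_compat f F G a ha U σ)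
  let bf : ∀ U : X.Etale, F.obj.obj (op U) → G.obj.obj (op U) := fun U σ => (hex U σ).choose
  have hbf : ∀ (U : X.Etale) (σ : F.obj.obj (op U)),
      uS f G U (bf U σ) = a.hom.app (op ((EtCoh.bc f).obj U)) (uS f F U σ) :=
    fun U σ => (hex U σ).choose_spec
  have hnat : ∀ (U V : X.Etale) (φ : V ⟶ U) (σ : F.obj.obj (op U)),
      bf V (F.obj.map φ.op σ) = G.obj.map φ.op (bf U σ) := by
    intro U V φ σ
    apply uS_injective f G hsurj V
    rw [hbf, uS_map, uS_map, hbf]
    exact NatTrans.naturality_apply a.hom ((EtCoh.bc f).map φ).op (uS f F U σ)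
  let bn : F.obj ⟶ G.obj :=
    { app := fun U => ↾(bf U.unop)
      naturality := by
        intro U V φ
        refine ConcreteCategory.hom_ext _ _ fun σ => ?_
        exact hnat U.unop V.unop φ.unop σ }
  let b : F ⟶ G := ⟨bn⟩
  have hb_app : ∀ (U : X.Etale) (σ : F.obj.obj (op U)), b.hom.app (op U) σ = bf U σ :=
    fun U σ => rfl
  -- the adjunct computation
  have hadj : ∀ b' : F ⟶ G, (EtDesc.pullSh f).map b' = a ↔
      b' ≫ (EtDesc.adjSh f).unit.app G = (EtDesc.adjSh f).unit.app F ≫ (EtDesc.pushSh f).map a := by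
    intro b'
    have hn : b' ≫ (EtDesc.adjSh f).unit.app G =
        (EtDesc.adjSh f).unit.app F ≫ (EtDesc.pushSh f).map ((EtDesc.pullSh f).map b') :=
      (EtDesc.adjSh f).unit.naturality b'
    constructor
    · intro h
      rw [hn, h]
    · intro h
      apply ((EtDesc.adjSh f).homEquiv F ((EtDesc.pullSh f).obj G)).injective
      rw [Adjunction.homEquiv_unit, Adjunction.homEquiv_unit, ← hn, h]
  have hb : b ≫ (EtDesc.adjSh f).unit.app G =
      (EtDesc.adjSh f).unit.app F ≫ (EtDesc.pushSh f).map a := by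
    apply Sheaf.hom_ext
    apply NatTrans.ext
    funext U
    refine ConcreteCategory.hom_ext _ _ fun σ => ?_
    exact hbf U.unop σ
  refine ⟨b, (hadj b).2 hb, ?_⟩
  intro b' hb'
  have h1 := (hadj b').1 hb'
  haveI : Mono ((EtDesc.adjSh f).unit.app G) := AC.mono_unit_of_surjective f hsurj G
  exact (cancel_mono ((EtDesc.adjSh f).unit.app G)).1 (h1.trans hb.symm)

end Mor

end Groth.Agent.Helper1.SG
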