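import Mathlib
import Groth.Prelude.Def_SGA4b
import Groth.Agent.Lib.Helper1.SG7
import Groth.Agent.Lib.Helper1.AC2

/-!
# Local membership in the image of a morphism of sheaves of sets, and inverse images (helper1)
-/

set_option autoImplicit false
set_option linter.unusedSectionVars false
set_option linter.style.haveILetI false
open CategoryTheory CategoryTheory.Limits AlgebraicGeometry Opposite
universe u

namespace Groth.Agent.Helper1.SG

open Groth.Agent.Helper1.ELR Groth.Agent.Helper1.FP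

section InAt

variable {Z : Scheme.{u}} {G F : EtDesc.Sh Z} (a : G ⟶ F)

/-- the section `s` of `F` lies in the image of `a` on an étale neighbourhood of the point `u` -/
def InAt (U : Z.Etale) (s : F.obj.obj (op U)) (u : U.left) : Prop :=
  ∃ (M : Z.Etale) (μ : M ⟶ U) (m : M.left), μ.left.base m = u ∧
    ∃ t : G.obj.obj (op M), a.hom.app (op M) t = F.obj.map μ.op s

theorem isOpen_inAt (U : Z.Etale) (s : F.obj.obj (op U)) : IsOpen {u : U.left | InAt a U s u} := by
  rw [isOpen_iff_forall_mem_open]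
  rintro z ⟨M, μ, m, hm, h⟩
  refine ⟨Set.range μ.left.base, ?_, μ.left.isOpenMap.isOpen_range, ⟨m, hm⟩⟩
  rintro _ ⟨m', rfl⟩
  exact ⟨M, μ, m', rfl, h⟩

theorem inAt_of_map {U N : Z.Etale} (φ : N ⟶ U) (s : F.obj.obj (op U)) (n : N.left)
    (h : InAt a N (F.obj.map φ.op s) n) : InAt a U s (φ.left.base n) := by
  obtain ⟨M, μ, m, hm, t, ht⟩ := h
  refine ⟨M, μ ≫ φ, m, ?_, t, ?_⟩
  · rw [← hm]
    rfl
  · rw [ht, map_mapS]

theorem inAt_map {U N : Z.Etale} (φ : N ⟶ U) (s : F.obj.obj (op U)) (n : N.left)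
    (h : InAt a U s (φ.left.base n)) : InAt a N (F.obj.map φ.op s) n := by
  obtain ⟨M, μ, m, hm, t, ht⟩ := h
  obtain ⟨K, p, p', k, hpp, hk1, hk2⟩ := AC.exists_common μ φ m n hm
  refine ⟨K, p', k, hk2, G.obj.map p.op t, ?_⟩
  have n1 := NatTrans.naturality_apply a.hom p.op t
  rw [n1, ht, map_mapS, map_mapS, hpp]

theorem inAt_of_eq (U : Z.Etale) (s : F.obj.obj (op U)) (t : G.obj.obj (op U))
    (h : a.hom.app (op U) t = s) (u : U.left) : InAt a U s u :=
  ⟨U, 𝟙 U, u, rfl, t, by rw [h, map_idS]⟩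

/-- a section which is locally in the image of a monomorphism is in the image -/
theorem exists_of_forall_inAt [Mono a] (U : Z.Etale) (s : F.obj.obj (op U))
    (h : ∀ u, InAt a U s u) : ∃ t : G.obj.obj (op U), a.hom.app (op U) t = s := by
  have hinj : ∀ W : Z.Etale, Function.Injective (a.hom.app (op W)) := fun W => AC.inj_of_mono a W
  let R : Sieve U :=
    { arrows := fun M μ => ∃ t : G.obj.obj (op M), a.hom.app (op M) t = F.obj.map μ.op s
      downward_closed := by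
        rintro M M' μ ⟨t, ht⟩ ν
        refine ⟨G.obj.map ν.op t, ?_⟩
        have n1 := NatTrans.naturality_apply a.hom ν.op t
        rw [n1, ht, map_mapS] }
  have hR : R ∈ Z.smallEtaleTopology U := by
    apply SHC.mem_of_pointwise
    intro u
    obtain ⟨M, μ, m, hm, ht⟩ := h u
    exact ⟨M, μ, m, ht, hm⟩
  have hSF := (sh_isSheaf G) R hR
  let xfam : Presieve.FamilyOfElements G.obj R.arrows := fun V φ h => h.choose
  have hspec : ∀ (V : Z.Etale) (φ : V ⟶ U) (h : R φ),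
      a.hom.app (op V) (xfam φ h) = F.obj.map φ.op s := fun V φ h => h.choose_spec
  have hcompat : xfam.SieveCompatible := by
    intro V W φ ψ hφ
    apply hinj W
    have n1 := NatTrans.naturality_apply a.hom ψ.op (xfam φ hφ)
    rw [hspec, n1, hspec, map_mapS]
  have hcompat' := (Presieve.compatible_iff_sieveCompatible xfam).2 hcompat
  refine ⟨hSF.amalgamate xfam hcompat', ?_⟩
  refine ((sh_isSheaf F) R hR).isSeparatedFor.ext ?_
  intro V φ hφ
  have n1 := NatTrans.naturality_apply a.hom φ.op (hSF.amalgamate xfam hcompat')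
  have h2 : G.obj.map φ.op (hSF.amalgamate xfam hcompat') = xfam φ hφ :=
    hSF.valid_glue hcompat' φ hφ
  rw [← n1, h2, hspec]

end InAt

section Germ

variable {Z : Scheme.{u}} {G F : EtDesc.Sh Z} (a : G ⟶ F)

theorem germ_mem_of_inAt {Ω : Type u} [Field Ω] [IsSepClosed Ω]
    (ξ : Spec (CommRingCat.of Ω) ⟶ Z) (U : Z.Etale) (l : (Φ ξ).fiber.obj U)
    (s : F.obj.obj (op U)) (h : InAt a U s ((pt ξ U l).base default)) :
    (Φ ξ).toPresheafFiber U l F.obj s ∈ Set.range ((Φ ξ).presheafFiber.map a.hom) := by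
  obtain ⟨M, μ, m, hm, t, ht⟩ := h
  obtain ⟨mb, hmb, -⟩ := Scheme.exists_fac_of_etale_of_isSepClosed μ.left (pt ξ U l) m hm
  have hM : mb ≫ M.hom = ξ := by
    have e1 : μ.left ≫ U.hom = M.hom := MorphismProperty.Over.w μ
    calc mb ≫ M.hom = mb ≫ (μ.left ≫ U.hom) := congrArg (fun k => mb ≫ k) e1.symm
      _ = (mb ≫ μ.left) ≫ U.hom := (Category.assoc _ _ _).symm
      _ = pt ξ U l ≫ U.hom := congrArg (fun k => k ≫ U.hom) hmb
      _ = ξ := pt_comp ξ U l
  let lM : (Φ ξ).fiber.obj M := mkPt ξ M mb hM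
  have hl : (Φ ξ).fiber.map μ lM = l := by
    apply pt_ext
    rw [pt_map]
    exact hmb
  have e1 := (Φ ξ).toPresheafFiber_w_apply μ lM F.obj s
  rw [hl] at e1
  refine ⟨(Φ ξ).toPresheafFiber M lM G.obj t, ?_⟩
  rw [(Φ ξ).toPresheafFiber_naturality_apply, ht]
  exact e1

/-- generic form: a germ in the image of the stalk map comes from a local preimage -/
theorem exists_local_preimage (P : GrothendieckTopology.Point.{u} Z.smallEtaleTopology)
    (U : Z.Etale) (l : P.fiber.obj U) (s : F.obj.obj (op U))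
    (h : P.toPresheafFiber U l F.obj s ∈ Set.range (P.presheafFiber.map a.hom)) :
    ∃ (M : Z.Etale) (μ : M ⟶ U) (y : P.fiber.obj M) (t : G.obj.obj (op M)),
      P.fiber.map μ y = l ∧ a.hom.app (op M) t = F.obj.map μ.op s := by
  obtain ⟨γ, hγ⟩ := h
  obtain ⟨V₁, y₁, t, rfl⟩ := P.toPresheafFiber_jointly_surjective (P := G.obj) γ
  rw [P.toPresheafFiber_naturality_apply] at hγ
  haveI := P.isCofiltered
  let A : P.fiber.Elements := ⟨U, l⟩
  let B : P.fiber.Elements := ⟨V₁, y₁⟩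
  let p : IsCofiltered.min A B ⟶ A := IsCofiltered.minToLeft A B
  let q : IsCofiltered.min A B ⟶ B := IsCofiltered.minToRight A B
  let V₂ : Z.Etale := (IsCofiltered.min A B).1
  let y₂ : P.fiber.obj V₂ := (IsCofiltered.min A B).2
  let ψ : V₂ ⟶ U := p.1
  let ψ₁ : V₂ ⟶ V₁ := q.1
  have hp : P.fiber.map ψ y₂ = l := p.2
  have hq : P.fiber.map ψ₁ y₂ = y₁ := q.2
  have e1 := P.toPresheafFiber_w_apply ψ y₂ F.obj s
  rw [hp] at e1
  have e2 := P.toPresheafFiber_w_apply ψ₁ y₂ F.obj (a.hom.app (op V₁) t)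
  rw [hq] at e2
  have e3 : P.toPresheafFiber V₂ y₂ F.obj (F.obj.map ψ.op s) =
      P.toPresheafFiber V₂ y₂ F.obj (F.obj.map ψ₁.op (a.hom.app (op V₁) t)) :=
    e1.trans (hγ.symm.trans e2.symm)
  obtain ⟨V₃, k, y₃, hy₃, hk⟩ := (P.toPresheafFiber_eq_iff' (P := F.obj) V₂ y₂ _ _).1 e3
  refine ⟨V₃, k ≫ ψ, y₃, G.obj.map (k ≫ ψ₁).op t, ?_, ?_⟩
  · rw [Functor.map_comp_apply, hy₃, hp]
  · have n1 := NatTrans.naturality_apply a.hom (k ≫ ψ₁).op t
    rw [n1, ← map_mapS F k ψ₁, ← hk, map_mapS]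

theorem inAt_of_germ_mem {Ω : Type u} [Field Ω] [IsSepClosed Ω]
    (ξ : Spec (CommRingCat.of Ω) ⟶ Z) (U : Z.Etale) (l : (Φ ξ).fiber.obj U)
    (s : F.obj.obj (op U))
    (h : (Φ ξ).toPresheafFiber U l F.obj s ∈ Set.range ((Φ ξ).presheafFiber.map a.hom)) :
    InAt a U s ((pt ξ U l).base default) := by
  obtain ⟨M, μ, y, t, hy, ht⟩ := exists_local_preimage a (Φ ξ) U l s h
  refine ⟨M, μ, (pt ξ M y).base default, ?_, t, ht⟩
  rw [← hy]
  rfl

end Germ

section PullInAt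

variable {T S : Scheme.{u}} (p : T ⟶ S) {G F : EtDesc.Sh S} (a : G ⟶ F)

theorem inAt_unit_of_inAt (U : S.Etale) (s : F.obj.obj (op U)) (w : ((EtCoh.bc p).obj U).left)
    (h : InAt a U s ((US.prV p U).base w)) :
    InAt ((EtDesc.pullSh p).map a) ((EtCoh.bc p).obj U) (uS p F U s) w := by
  obtain ⟨M, μ, m, hm, t, ht⟩ := h
  have sq := EtCoh.isPullback_bc_map p μ
  obtain ⟨z, hz1, -⟩ := Scheme.Pullback.exists_preimage_pullback
    (f := US.prV p U) (g := μ.left) w m hm.symm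
  refine ⟨(EtCoh.bc p).obj M, (EtCoh.bc p).map μ, sq.isoPullback.inv z, ?_, uS p G M t, ?_⟩
  · have e : sq.isoPullback.inv ≫ ((EtCoh.bc p).map μ).left =
        pullback.fst (US.prV p U) μ.left := IsPullback.isoPullback_inv_fst sq
    exact (congrArg (fun k => k.base z) e).trans hz1
  · rw [← unit_nat p a M t, ht, uS_map]

theorem cmpS_natural {Ω : Type u} [Field Ω] [IsSepClosed Ω]
    (ξ' : Spec (CommRingCat.of Ω) ⟶ T) {H₁ H₂ : EtDesc.Sh S} (m : H₁ ⟶ H₂)
    (γ : (SHC.comapPoint p ξ').presheafFiber.obj H₁.obj) :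
    (Φ ξ').presheafFiber.map ((EtDesc.pullSh p).map m).hom ((cmpS p ξ' H₁).hom γ) =
      (cmpS p ξ' H₂).hom ((SHC.comapPoint p ξ').presheafFiber.map m.hom γ) := by
  haveI := SHC.initiallySmall_comap p ξ'
  haveI : (EtDesc.pushSh p).IsRightAdjoint := (EtDesc.adjSh p).isRightAdjoint
  have h := ((Φ ξ').sheafFiberComapIso (EtCoh.bc p) (EtCoh.coverPreserving_bc p)
    (Type (u + 1))).hom.naturality m
  have h2 := ConcreteCategory.congr_hom h γ
  exact ((ConcreteCategory.comp_apply _ _ _).symm.trans h2.symm).trans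
    (ConcreteCategory.comp_apply _ _ _)

theorem inAt_of_inAt_unit (U : S.Etale) (s : F.obj.obj (op U)) (w : ((EtCoh.bc p).obj U).left)
    (h : InAt ((EtDesc.pullSh p).map a) ((EtCoh.bc p).obj U) (uS p F U s) w) :
    InAt a U s ((US.prV p U).base w) := by
  obtain ⟨Ω, hΩ1, hΩ2, wb, hwb⟩ := exists_geomPoint w
  letI := hΩ1
  haveI := hΩ2
  let xb : Spec (CommRingCat.of Ω) ⟶ T := wb ≫ ((EtCoh.bc p).obj U).hom
  let l' : (Φ xb).fiber.obj ((EtCoh.bc p).obj U) := mkPt xb _ wb rfl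
  have hpt : (pt xb _ l').base default = w := hwb
  obtain ⟨γ', hγ'⟩ := germ_mem_of_inAt ((EtDesc.pullSh p).map a) xb _ l' (uS p F U s)
    (by rw [hpt]; exact h)
  obtain ⟨γ, rfl⟩ := cmpS_hom_surjective p xb G γ'
  have c1 := cmpS_germ p xb F U l' s
  have n1 := cmpS_natural p xb a γ
  have e : (SHC.comapPoint p xb).presheafFiber.map a.hom γ =
      (SHC.comapPoint p xb).toPresheafFiber U l' F.obj s :=
    cmpS_hom_injective p xb F (n1.symm.trans (hγ'.trans c1.symm))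
  obtain ⟨M, μ, y, t, hy, ht⟩ := exists_local_preimage a (SHC.comapPoint p xb) U l' s ⟨γ, e⟩
  let y' : (Φ xb).fiber.obj ((EtCoh.bc p).obj M) := y
  have hy' : pt xb _ y' ≫ ((EtCoh.bc p).map μ).left = wb := by
    have h1 : (Φ xb).fiber.map ((EtCoh.bc p).map μ) y' = l' := hy
    exact congrArg (pt xb _) h1
  refine ⟨M, μ, (pt xb _ y' ≫ US.prV p M).base default, ?_, t, ht⟩
  have hsq : ((EtCoh.bc p).map μ).left ≫ US.prV p U = US.prV p M ≫ μ.left :=
    (EtCoh.isPullback_bc_map p μ).w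
  have hm3 : (pt xb _ y' ≫ US.prV p M) ≫ μ.left = wb ≫ US.prV p U := by
    calc (pt xb _ y' ≫ US.prV p M) ≫ μ.left
        = pt xb _ y' ≫ (US.prV p M ≫ μ.left) := Category.assoc _ _ _
      _ = pt xb _ y' ≫ (((EtCoh.bc p).map μ).left ≫ US.prV p U) :=
          congrArg (fun k => pt xb _ y' ≫ k) hsq.symm
      _ = (pt xb _ y' ≫ ((EtCoh.bc p).map μ).left) ≫ US.prV p U := (Category.assoc _ _ _).symm
      _ = wb ≫ US.prV p U := congrArg (fun k => k ≫ US.prV p U) hy'
  have h4 := congrArg (fun k => k.base default) hm3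
  have h5 : (wb ≫ US.prV p U).base default = (US.prV p U).base (wb.base default) := rfl
  rw [hwb] at h5
  exact h4.trans h5

theorem inAt_unit_iff (U : S.Etale) (s : F.obj.obj (op U)) (w : ((EtCoh.bc p).obj U).left) :
    InAt ((EtDesc.pullSh p).map a) ((EtCoh.bc p).obj U) (uS p F U s) w ↔
      InAt a U s ((US.prV p U).base w) :=
  ⟨inAt_of_inAt_unit p a U s w, inAt_unit_of_inAt p a U s w⟩

end PullInAt

end Groth.Agent.Helper1.SG
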