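import Mathlib
import Groth.Prelude.Def_SGA4b
import Groth.Agent.Lib.Helper1.SG8
import Groth.Agent.Lib.Helper1.SHC7
import Groth.Agent.Lib.Helper1.SHC14

/-!
# Descent of subsheaves of sheaves of sets along universally submersive morphisms (helper1)
-/

set_option autoImplicit false
set_option linter.unusedSectionVars false
set_option linter.style.haveILetI false
open CategoryTheory CategoryTheory.Limits AlgebraicGeometry Opposite
universe u

namespace Groth.Agent.Helper1.SG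

open Groth.Agent.Helper1.ELR Groth.Agent.Helper1.FP

section Factor

variable {Z : Scheme.{u}} {G₁ G₂ F : EtDesc.Sh Z} (a₁ : G₁ ⟶ F) (a₂ : G₂ ⟶ F)

/-- a morphism whose sections all lie in the image of a monomorphism factors through it -/
theorem exists_factor [Mono a₂]
    (h : ∀ (U : Z.Etale) (τ₁ : G₁.obj.obj (op U)), ∃ τ₂ : G₂.obj.obj (op U),
      a₂.hom.app (op U) τ₂ = a₁.hom.app (op U) τ₁) :
    ∃ κ : G₁ ⟶ G₂, κ ≫ a₂ = a₁ := by
  have hinj : ∀ W : Z.Etale, Function.Injective (a₂.hom.app (op W)) :=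
    fun W => AC.inj_of_mono a₂ W
  let kf : ∀ U : Z.Etale, G₁.obj.obj (op U) → G₂.obj.obj (op U) := fun U τ => (h U τ).choose
  have hkf : ∀ (U : Z.Etale) (τ : G₁.obj.obj (op U)),
      a₂.hom.app (op U) (kf U τ) = a₁.hom.app (op U) τ := fun U τ => (h U τ).choose_spec
  let kn : G₁.obj ⟶ G₂.obj :=
    { app := fun U => ↾(kf U.unop)
      naturality := by
        intro U V φ
        refine ConcreteCategory.hom_ext _ _ fun τ => ?_
        apply hinj V.unop
        show a₂.hom.app V (kf V.unop (G₁.obj.map φ τ)) =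
          a₂.hom.app V (G₂.obj.map φ (kf U.unop τ))
        have n1 := NatTrans.naturality_apply a₂.hom φ (kf U.unop τ)
        have n2 := NatTrans.naturality_apply a₁.hom φ τ
        rw [hkf, n1, hkf, n2] }
  refine ⟨⟨kn⟩, ?_⟩
  apply Sheaf.hom_ext
  apply NatTrans.ext
  funext U
  refine ConcreteCategory.hom_ext _ _ fun τ => ?_
  exact hkf U.unop τ

theorem exists_iso_of_same_image [Mono a₁] [Mono a₂]
    (h12 : ∀ (U : Z.Etale) (τ₁ : G₁.obj.obj (op U)), ∃ τ₂ : G₂.obj.obj (op U),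
      a₂.hom.app (op U) τ₂ = a₁.hom.app (op U) τ₁)
    (h21 : ∀ (U : Z.Etale) (τ₂ : G₂.obj.obj (op U)), ∃ τ₁ : G₁.obj.obj (op U),
      a₁.hom.app (op U) τ₁ = a₂.hom.app (op U) τ₂) :
    ∃ ψ : G₁ ≅ G₂, ψ.hom ≫ a₂ = a₁ := by
  obtain ⟨κ, hκ⟩ := exists_factor a₁ a₂ h12
  obtain ⟨κ', hκ'⟩ := exists_factor a₂ a₁ h21
  refine ⟨⟨κ, κ', ?_, ?_⟩, hκ⟩
  · rw [← cancel_mono a₁, Category.assoc, hκ', hκ, Category.id_comp]
  · rw [← cancel_mono a₂, Category.assoc, hκ, hκ', Category.id_comp]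

end Factor

section SubA

variable {X' X : Scheme.{u}} (f : X' ⟶ X) {F G₁ G₂ : EtDesc.Sh X}
  (a₁ : G₁ ⟶ F) (a₂ : G₂ ⟶ F)

theorem sections_factor_of_pull_factor [Mono a₂] (hf : Function.Surjective f.base)
    (k : (EtDesc.pullSh f).obj G₁ ⟶ (EtDesc.pullSh f).obj G₂)
    (hk : k ≫ (EtDesc.pullSh f).map a₂ = (EtDesc.pullSh f).map a₁)
    (U : X.Etale) (τ₁ : G₁.obj.obj (op U)) :
    ∃ τ₂ : G₂.obj.obj (op U), a₂.hom.app (op U) τ₂ = a₁.hom.app (op U) τ₁ := by
  apply exists_of_forall_inAt a₂ U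
  intro u
  obtain ⟨w, hw⟩ := prV_surjective f hf U u
  rw [← hw]
  apply inAt_of_inAt_unit f a₂ U
  refine inAt_of_eq _ _ _ (k.hom.app (op ((EtCoh.bc f).obj U)) (uS f G₁ U τ₁)) ?_ w
  have h1 := congrArg (fun m => m.hom.app (op ((EtCoh.bc f).obj U)) (uS f G₁ U τ₁)) hk
  refine (shComp_app _ _ _ _).symm.trans (h1.trans ?_)
  exact (unit_nat f a₁ U τ₁).symm

/-- part (a) of subsheaf descent -/
theorem subsheaf_unique [Mono a₁] [Mono a₂] (hf : Function.Surjective f.base)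
    (φ : (EtDesc.pullSh f).obj G₁ ≅ (EtDesc.pullSh f).obj G₂)
    (hφ : φ.hom ≫ (EtDesc.pullSh f).map a₂ = (EtDesc.pullSh f).map a₁) :
    ∃ ψ : G₁ ≅ G₂, ψ.hom ≫ a₂ = a₁ := by
  have hφ' : φ.inv ≫ (EtDesc.pullSh f).map a₁ = (EtDesc.pullSh f).map a₂ := by
    rw [← hφ, Iso.inv_hom_id_assoc]
  exact exists_iso_of_same_image a₁ a₂
    (sections_factor_of_pull_factor f a₁ a₂ hf φ.hom hφ)
    (sections_factor_of_pull_factor f a₂ a₁ hf φ.inv hφ')

end SubA

section PresMono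

variable {T S : Scheme.{u}} (p : T ⟶ S) {G F : EtDesc.Sh S} (a : G ⟶ F)

theorem stalk_injective_of_mono {Z : Scheme.{u}} {A B : EtDesc.Sh Z} (m : A ⟶ B) [Mono m]
    (P : GrothendieckTopology.Point.{u} Z.smallEtaleTopology) :
    Function.Injective (P.presheafFiber.map m.hom) := by
  haveI := SHC.preservesFilteredColimits_forget_type.{u}
  haveI := Presheaf.isLocallyInjective_of_injective Z.smallEtaleTopology m.hom
    (fun U => AC.inj_of_mono m U.unop)
  exact P.toPresheafFiber_map_injective m.hom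

/-- inverse images preserve monomorphisms of sheaves of sets -/
theorem mono_pullSh_map [Mono a] : Mono ((EtDesc.pullSh p).map a) := by
  rw [SHC.mono_iff_stalks_type]
  intro Ω _ _ ξ'
  show Function.Injective ((Φ ξ').presheafFiber.map ((EtDesc.pullSh p).map a).hom)
  intro γ₁' γ₂' h
  obtain ⟨γ₁, rfl⟩ := cmpS_hom_surjective p ξ' G γ₁'
  obtain ⟨γ₂, rfl⟩ := cmpS_hom_surjective p ξ' G γ₂'
  have h' := (cmpS_natural p ξ' a γ₁).symm.trans (h.trans (cmpS_natural p ξ' a γ₂))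
  have h2 := cmpS_hom_injective p ξ' F h'
  exact congrArg _ (stalk_injective_of_mono a (SHC.comapPoint p ξ') h2)

end PresMono

theorem inAt_transport {Z : Scheme.{u}} {A1 A2 B1 B2 : EtDesc.Sh Z} (m1 : A1 ⟶ B1)
    (m2 : A2 ⟶ B2) (φ : A1 ⟶ A2) (c : B1 ⟶ B2) (h : φ ≫ m2 = m1 ≫ c) (W : Z.Etale)
    (x : B1.obj.obj (op W)) (z : W.left) (hx : InAt m1 W x z) :
    InAt m2 W (c.hom.app (op W) x) z := by
  obtain ⟨M, μ, m, hm, t, ht⟩ := hx
  refine ⟨M, μ, m, hm, φ.hom.app (op M) t, ?_⟩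
  have h1 := congrArg (fun k => k.hom.app (op M) t) h
  have n := NatTrans.naturality_apply c.hom μ.op x
  exact ((shComp_app φ m2 M t).symm.trans h1).trans
    ((shComp_app m1 c M t).trans ((congrArg _ ht).trans n))

theorem sat_in_abstract {Z : Scheme.{u}} {A1 A2 B1 B2 : EtDesc.Sh Z} (m1 : A1 ⟶ B1)
    (m2 : A2 ⟶ B2) (φ : A1 ⟶ A2) (c : B1 ⟶ B2) (h : φ ≫ m2 = m1 ≫ c) {W1 W2 : Z.Etale}
    (sw : W1 ⟶ W2) (x1 : B1.obj.obj (op W1)) (x2 : B2.obj.obj (op W2))
    (hc : c.hom.app (op W1) x1 = B2.obj.map sw.op x2) (z : W1.left) (hx : InAt m1 W1 x1 z) :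
    InAt m2 W2 x2 (sw.left.base z) := by
  have h2 := inAt_transport m1 m2 φ c h W1 x1 z hx
  rw [hc] at h2
  exact inAt_of_map m2 sw x2 z h2

section SubB

variable {X' X : Scheme.{u}} (f : X' ⟶ X) (F : EtDesc.Sh X) {G' : EtDesc.Sh X'}
  (a' : G' ⟶ (EtDesc.pullSh f).obj F)

/-- the subpresheaf of sections of `F` whose inverse image lies in `G'` -/
def subG : Subfunctor F.obj where
  obj U := {s | ∃ t' : G'.obj.obj (op ((EtCoh.bc f).obj U.unop)),
    a'.hom.app (op ((EtCoh.bc f).obj U.unop)) t' = uS f F U.unop s}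
  map {U V} i := by
    rintro s ⟨t', ht'⟩
    refine ⟨G'.obj.map ((EtCoh.bc f).map i.unop).op t', ?_⟩
    have n1 := NatTrans.naturality_apply a'.hom ((EtCoh.bc f).map i.unop).op t'
    have n2 := uS_map f F i.unop s
    exact n1.trans ((congrArg _ ht').trans n2.symm)

theorem mem_subG (U : X.Etale) (s : F.obj.obj (op U)) :
    s ∈ (subG f F a').obj (op U) ↔ ∃ t' : G'.obj.obj (op ((EtCoh.bc f).obj U)),
      a'.hom.app (op ((EtCoh.bc f).obj U)) t' = uS f F U s := Iff.rfl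

theorem subG_isSheaf [Mono a'] :
    Presieve.IsSheaf X.smallEtaleTopology (subG f F a').toFunctor := by
  rw [Subfunctor.isSheaf_iff _ (sh_isSheaf F)]
  intro U s hs
  obtain ⟨U⟩ := U
  rw [mem_subG]
  apply exists_of_forall_inAt a' ((EtCoh.bc f).obj U)
  intro w
  obtain ⟨V, φ, v, hφ, hv⟩ := SZ.pointwise_of_mem U _ hs ((US.prV f U).base w)
  obtain ⟨t', ht'⟩ := hφ
  have sq := EtCoh.isPullback_bc_map f φ
  obtain ⟨z, hz1, -⟩ := Scheme.Pullback.exists_preimage_pullback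
    (f := US.prV f U) (g := φ.left) w v hv.symm
  refine ⟨(EtCoh.bc f).obj V, (EtCoh.bc f).map φ, sq.isoPullback.inv z, ?_, t', ?_⟩
  · have e : sq.isoPullback.inv ≫ ((EtCoh.bc f).map φ).left =
        pullback.fst (US.prV f U) φ.left := IsPullback.isoPullback_inv_fst sq
    exact (congrArg (fun k => k.base z) e).trans hz1
  · exact ht'.trans (uS_map f F φ s)

/-- the descended subsheaf -/
noncomputable def Gsh [Mono a'] : EtDesc.Sh X :=
  ⟨(subG f F a').toFunctor, (isSheaf_iff_isSheaf_of_type _ _).2 (subG_isSheaf f F a')⟩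

/-- the inclusion of the descended subsheaf -/
noncomputable def Gι [Mono a'] : Gsh f F a' ⟶ F := ⟨(subG f F a').ι⟩

theorem Gι_app [Mono a'] (U : X.Etale) (x : (Gsh f F a').obj.obj (op U)) :
    (Gι f F a').hom.app (op U) x = x.1 := rfl

instance [Mono a'] : Mono (Gι f F a') :=
  AC.mono_of_inj _ fun _ _ _ h => Subtype.ext h

/-- the section of `G'` attached to a section of the descended subsheaf -/
noncomputable def βf [Mono a'] (U : X.Etale) (x : (Gsh f F a').obj.obj (op U)) :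
    G'.obj.obj (op ((EtCoh.bc f).obj U)) := ((mem_subG f F a' U x.1).1 x.2).choose

theorem βf_spec [Mono a'] (U : X.Etale) (x : (Gsh f F a').obj.obj (op U)) :
    a'.hom.app (op ((EtCoh.bc f).obj U)) (βf f F a' U x) = uS f F U x.1 :=
  ((mem_subG f F a' U x.1).1 x.2).choose_spec

theorem Gsh_map_val [Mono a'] {U V : X.Etale} (φ : V ⟶ U) (x : (Gsh f F a').obj.obj (op U)) :
    ((Gsh f F a').obj.map φ.op x).1 = F.obj.map φ.op x.1 := rfl

/-- the morphism `G ⟶ f_* G'` -/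
noncomputable def βm [Mono a'] : Gsh f F a' ⟶ (EtDesc.pushSh f).obj G' :=
  ⟨{ app := fun U => ↾(βf f F a' U.unop)
     naturality := by
       intro U V φ
       refine ConcreteCategory.hom_ext _ _ fun x => ?_
       apply AC.inj_of_mono a' ((EtCoh.bc f).obj V.unop)
       show a'.hom.app _ (βf f F a' V.unop ((Gsh f F a').obj.map φ x)) =
         a'.hom.app _ (G'.obj.map ((EtCoh.bc f).map φ.unop).op (βf f F a' U.unop x))
       have n1 := NatTrans.naturality_apply a'.hom ((EtCoh.bc f).map φ.unop).op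
         (βf f F a' U.unop x)
       rw [βf_spec, n1, βf_spec]
       exact uS_map f F φ.unop x.1 }⟩

theorem βm_app [Mono a'] (U : X.Etale) (x : (Gsh f F a').obj.obj (op U)) :
    (βm f F a').hom.app (op U) x = βf f F a' U x := rfl

/-- the comparison `f^* G ⟶ G'` -/
noncomputable def ψ₀ [Mono a'] : (EtDesc.pullSh f).obj (Gsh f F a') ⟶ G' :=
  ((EtDesc.adjSh f).homEquiv (Gsh f F a') G').symm (βm f F a')

theorem unit_ψ₀ [Mono a'] :
    (EtDesc.adjSh f).unit.app (Gsh f F a') ≫ (EtDesc.pushSh f).map (ψ₀ f F a') = βm f F a' := by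
  exact Equiv.apply_symm_apply ((EtDesc.adjSh f).homEquiv (Gsh f F a') G') (βm f F a')

theorem ψ₀_unit [Mono a'] (U : X.Etale) (x : (Gsh f F a').obj.obj (op U)) :
    (ψ₀ f F a').hom.app (op ((EtCoh.bc f).obj U)) (uS f (Gsh f F a') U x) = βf f F a' U x :=
  congrArg (fun m => m.hom.app (op U) x) (unit_ψ₀ f F a')

theorem ψ₀_comp [Mono a'] : ψ₀ f F a' ≫ a' = (EtDesc.pullSh f).map (Gι f F a') := by
  apply ((EtDesc.adjSh f).homEquiv (Gsh f F a') ((EtDesc.pullSh f).obj F)).injective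
  show (EtDesc.adjSh f).unit.app (Gsh f F a') ≫ (EtDesc.pushSh f).map (ψ₀ f F a' ≫ a') =
    (EtDesc.adjSh f).unit.app (Gsh f F a') ≫
      (EtDesc.pushSh f).map ((EtDesc.pullSh f).map (Gι f F a'))
  rw [Functor.map_comp, ← Category.assoc, unit_ψ₀]
  have hn : Gι f F a' ≫ (EtDesc.adjSh f).unit.app F =
      (EtDesc.adjSh f).unit.app (Gsh f F a') ≫
        (EtDesc.pushSh f).map ((EtDesc.pullSh f).map (Gι f F a')) :=
    (EtDesc.adjSh f).unit.naturality (Gι f F a')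
  rw [← hn]
  apply Sheaf.hom_ext
  apply NatTrans.ext
  funext U
  refine ConcreteCategory.hom_ext _ _ fun x => ?_
  exact βf_spec f F a' U.unop x

instance mono_ψ₀ [Mono a'] : Mono (ψ₀ f F a') := by
  haveI : Mono ((EtDesc.pullSh f).map (Gι f F a')) := mono_pullSh_map f (Gι f F a')
  haveI : Mono (ψ₀ f F a' ≫ a') := by
    rw [ψ₀_comp]
    infer_instance
  exact mono_of_mono (ψ₀ f F a') a'

theorem sat_in
    (φ : (EtDesc.pullSh (pullback.fst f f)).obj G' ⟶ (EtDesc.pullSh (pullback.snd f f)).obj G')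
    (hφ : φ ≫ (EtDesc.pullSh (pullback.snd f f)).map a' =
      (EtDesc.pullSh (pullback.fst f f)).map a' ≫ (EtDesc.canIso f F).hom)
    (V : X.Etale) (σ : F.obj.obj (op V)) (w1 w2 : ((EtCoh.bc f).obj V).left)
    (h1 : InAt a' ((EtCoh.bc f).obj V) (uS f F V σ) w1)
    (hw : (US.prV f V).base w1 = (US.prV f V).base w2) :
    InAt a' ((EtCoh.bc f).obj V) (uS f F V σ) w2 := by
  obtain ⟨ζ, hz1, hz2⟩ := exists_point_swp f V w1 w2 hw
  have key := sat_in_abstract ((EtDesc.pullSh (pullback.fst f f)).map a')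
    ((EtDesc.pullSh (pullback.snd f f)).map a') φ (EtDesc.canIso f F).hom hφ (swp f V) _ _
    (canIso_unit f F V σ) ζ
    (inAt_unit_of_inAt (pullback.fst f f) a' ((EtCoh.bc f).obj V) (uS f F V σ) ζ
      (by rw [hz1]; exact h1))
  have h3 := inAt_of_inAt_unit (pullback.snd f f) a' ((EtCoh.bc f).obj V) (uS f F V σ) _ key
  rw [hz2] at h3
  exact h3

theorem epi_ψ₀ [Mono a'] (hf : EtDesc.IsUnivSubmersive f)
    (φ : (EtDesc.pullSh (pullback.fst f f)).obj G' ⟶ (EtDesc.pullSh (pullback.snd f f)).obj G')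
    (hφ : φ ≫ (EtDesc.pullSh (pullback.snd f f)).map a' =
      (EtDesc.pullSh (pullback.fst f f)).map a' ≫ (EtDesc.canIso f F).hom) :
    Epi (ψ₀ f F a') := by
  rw [SHC.epi_iff_stalks_type]
  intro Ω _ _ ξ'
  show Function.Surjective ((Φ ξ').presheafFiber.map (ψ₀ f F a').hom)
  intro γ'
  obtain ⟨e, he⟩ := cmpS_hom_surjective f ξ' F ((Φ ξ').presheafFiber.map a'.hom γ')
  obtain ⟨V₁, y₁, σ, rfl⟩ := (SHC.comapPoint f ξ').toPresheafFiber_jointly_surjective
    (P := F.obj) e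
  let y₁' : (Φ ξ').fiber.obj ((EtCoh.bc f).obj V₁) := y₁
  have c1 := cmpS_germ f ξ' F V₁ y₁' σ
  have hδ : (Φ ξ').toPresheafFiber _ y₁' (pGS f F).obj (uS f F V₁ σ) =
      (Φ ξ').presheafFiber.map a'.hom γ' := c1.symm.trans he
  have hin : InAt a' ((EtCoh.bc f).obj V₁) (uS f F V₁ σ) ((pt ξ' _ y₁').base default) :=
    inAt_of_germ_mem a' ξ' _ y₁' _ ⟨γ', hδ.symm⟩
  let E' : Set ((EtCoh.bc f).obj V₁).left :=
    {z | InAt a' ((EtCoh.bc f).obj V₁) (uS f F V₁ σ) z}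
  have hE' : IsOpen E' := isOpen_inAt a' _ _
  have hsat : ∀ z z₂, z ∈ E' → (US.prV f V₁).base z₂ = (US.prV f V₁).base z → z₂ ∈ E' :=
    fun z z₂ hz hzz => sat_in f F a' φ hφ V₁ σ z z₂ hz hzz.symm
  let E : Set V₁.left := (US.prV f V₁).base '' E'
  have hpre : (US.prV f V₁).base ⁻¹' E = E' := by
    ext t
    constructor
    · rintro ⟨z, hz, hzt⟩
      exact hsat z t hz hzt.symm
    · intro ht
      exact ⟨t, ht, rfl⟩
  have hE : IsOpen E := by
    have hq := (hf V₁.left V₁.hom).2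
    have hsym : (pullbackSymmetry f V₁.hom).hom ≫ US.prV f V₁ = pullback.snd f V₁.hom :=
      pullbackSymmetry_hom_comp_fst _ _
    rw [← hq.isCoinducing.isOpen_preimage]
    have h1 : (pullback.snd f V₁.hom).base ⁻¹' E =
        (pullbackSymmetry f V₁.hom).hom.base ⁻¹' E' := by
      rw [← hpre, ← hsym]
      rfl
    rw [h1]
    exact hE'.preimage (pullbackSymmetry f V₁.hom).hom.continuous
  let EO : V₁.left.Opens := ⟨E, hE⟩
  haveI : Etale (homX V₁) := V₁.prop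
  let VE : X.Etale := Scheme.Etale.mk (EO.ι ≫ homX V₁)
  let j : VE ⟶ V₁ := MorphismProperty.Over.homMk EO.ι rfl trivial
  have sq := EtCoh.isPullback_bc_map f j
  have hbcj : ∀ z' : ((EtCoh.bc f).obj VE).left, ((EtCoh.bc f).map j).left.base z' ∈ E' := by
    intro z'
    have h3 : (US.prV f V₁).base (((EtCoh.bc f).map j).left.base z') =
        j.left.base ((US.prV f VE).base z') := congrArg (fun k => k.base z') sq.w
    have hz'E : (US.prV f V₁).base (((EtCoh.bc f).map j).left.base z') ∈ E := by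
      rw [h3]
      exact ((US.prV f VE).base z').2
    have h4 : ((EtCoh.bc f).map j).left.base z' ∈ (US.prV f V₁).base ⁻¹' E := hz'E
    rw [hpre] at h4
    exact h4
  have hmem : F.obj.map j.op σ ∈ (subG f F a').obj (op VE) := by
    rw [mem_subG]
    apply exists_of_forall_inAt a' ((EtCoh.bc f).obj VE)
    intro z'
    rw [uS_map]
    apply inAt_map
    exact hbcj z'
  let x_E : (Gsh f F a').obj.obj (op VE) := ⟨F.obj.map j.op σ, hmem⟩
  -- lift the geometric point to `bc VE`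
  let z₀ : ((EtCoh.bc f).obj V₁).left := (pt ξ' _ y₁').base default
  have hz₀ : z₀ ∈ E' := hin
  let v₀ : V₁.left := (US.prV f V₁).base z₀
  have hv₀ : v₀ ∈ E := ⟨z₀, hz₀, rfl⟩
  obtain ⟨q, hq1, -⟩ := Scheme.Pullback.exists_preimage_pullback
    (f := US.prV f V₁) (g := j.left) z₀ (⟨v₀, hv₀⟩ : EO) rfl
  have hn_E : ((EtCoh.bc f).map j).left.base (sq.isoPullback.inv.base q) = z₀ := by
    have e : sq.isoPullback.inv ≫ ((EtCoh.bc f).map j).left =
        pullback.fst (US.prV f V₁) j.left := IsPullback.isoPullback_inv_fst sq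
    exact (congrArg (fun k => k.base q) e).trans hq1
  obtain ⟨mb, hmb, -⟩ := Scheme.exists_fac_of_etale_of_isSepClosed ((EtCoh.bc f).map j).left
    (pt ξ' _ y₁') (sq.isoPullback.inv.base q) hn_E
  have hM : mb ≫ ((EtCoh.bc f).obj VE).hom = ξ' := by
    have e1 : ((EtCoh.bc f).map j).left ≫ ((EtCoh.bc f).obj V₁).hom =
        ((EtCoh.bc f).obj VE).hom := MorphismProperty.Over.w ((EtCoh.bc f).map j)
    calc mb ≫ ((EtCoh.bc f).obj VE).hom
        = mb ≫ (((EtCoh.bc f).map j).left ≫ ((EtCoh.bc f).obj V₁).hom) :=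
          congrArg (fun k => mb ≫ k) e1.symm
      _ = (mb ≫ ((EtCoh.bc f).map j).left) ≫ ((EtCoh.bc f).obj V₁).hom :=
          (Category.assoc _ _ _).symm
      _ = pt ξ' _ y₁' ≫ ((EtCoh.bc f).obj V₁).hom :=
          congrArg (fun k => k ≫ ((EtCoh.bc f).obj V₁).hom) hmb
      _ = ξ' := pt_comp ξ' _ y₁'
  let y_E : (Φ ξ').fiber.obj ((EtCoh.bc f).obj VE) := mkPt ξ' _ mb hM
  have hyE : (Φ ξ').fiber.map ((EtCoh.bc f).map j) y_E = y₁' := by
    apply pt_ext
    rw [pt_map]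
    exact hmb
  refine ⟨(Φ ξ').toPresheafFiber ((EtCoh.bc f).obj VE) y_E
    ((EtDesc.pullSh f).obj (Gsh f F a')).obj (uS f (Gsh f F a') VE x_E), ?_⟩
  apply stalk_injective_of_mono a' (Φ ξ')
  rw [(Φ ξ').toPresheafFiber_naturality_apply, (Φ ξ').toPresheafFiber_naturality_apply,
    ψ₀_unit, βf_spec]
  refine Eq.trans ?_ hδ
  have e1 := (Φ ξ').toPresheafFiber_w_apply ((EtCoh.bc f).map j) y_E (pGS f F).obj
    (uS f F V₁ σ)
  rw [hyE] at e1
  refine Eq.trans ?_ e1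
  exact congrArg _ (uS_map f F j σ)

/-- part (b) of subsheaf descent -/
theorem subsheaf_descent [Mono a'] (hf : EtDesc.IsUnivSubmersive f)
    (φ : (EtDesc.pullSh (pullback.fst f f)).obj G' ≅ (EtDesc.pullSh (pullback.snd f f)).obj G')
    (hφ : φ.hom ≫ (EtDesc.pullSh (pullback.snd f f)).map a' =
      (EtDesc.pullSh (pullback.fst f f)).map a' ≫ (EtDesc.canIso f F).hom) :
    ∃ (G : EtDesc.Sh X) (a : G ⟶ F) (_ : Mono a) (ψ : (EtDesc.pullSh f).obj G ≅ G'),
      ψ.hom ≫ a' = (EtDesc.pullSh f).map a := by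
  haveI := epi_ψ₀ f F a' hf φ.hom hφ
  haveI : IsIso (ψ₀ f F a') := isIso_of_mono_of_epi _
  exact ⟨Gsh f F a', Gι f F a', inferInstance, asIso (ψ₀ f F a'), ψ₀_comp f F a'⟩

end SubB

end Groth.Agent.Helper1.SG
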