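import Mathlib
import Groth.Prelude.Def_SGA4b
import Groth.Prelude.Def_EtBCD
import Groth.Agent.Lib.Helper1.SG9
import Groth.Agent.Lib.Helper1.AC2

set_option autoImplicit false
set_option linter.unusedSectionVars false
set_option linter.style.haveILetI false
open CategoryTheory CategoryTheory.Limits AlgebraicGeometry Opposite
universe u

namespace Groth.Agent.Helper1.SB

open Groth.Agent.Helper1.SG

section Classifier

variable {X : Scheme.{u}} {F G : EtDesc.Sh X}

/-- the sheaf of closed sieves on the small étale site -/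
noncomputable abbrev Om (X : Scheme.{u}) : EtDesc.Sh X := Sheaf.Ω X.smallEtaleTopology

/-- the characteristic map of a subsheaf -/
noncomputable abbrev chi (m : F ⟶ G) [Mono m] : G ⟶ Om X := Sheaf.χ m

/-- the constant map `true` -/
noncomputable abbrev tau (G : EtDesc.Sh X) : G ⟶ Om X :=
  (Sheaf.isTerminalTerminal X.smallEtaleTopology Types.isTerminalPUnit).from G ≫
    Sheaf.truth X.smallEtaleTopology

theorem comp_chi (m : F ⟶ G) [Mono m] : m ≫ chi m = m ≫ tau G := by
  have h := (Sheaf.isPullback_χ_truth m).w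
  refine h.trans ?_
  rw [← Category.assoc]
  congr 1

theorem exists_of_chi_eq_tau (m : F ⟶ G) [Mono m] (U : X.Etale) (η : G.obj.obj (op U))
    (h : (chi m).hom.app (op U) η = (tau G).hom.app (op U) η) :
    ∃ a : F.obj.obj (op U), m.hom.app (op U) a = η := by
  have h1 : ((chi m).hom.app (op U) η).1 = ((tau G).hom.app (op U) η).1 := congrArg Subtype.val h
  have h2 : ((tau G).hom.app (op U) η).1 = (⊤ : Sieve U) := rfl
  have h3 : ((chi m).hom.app (op U) η).1 = (Presheaf.χ m.hom).app (op U) η := rfl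
  rw [h2, h3] at h1
  have h4 : ((Presheaf.χ m.hom).app (op U) η).arrows (𝟙 U) := by
    rw [h1]; trivial
  obtain ⟨a, ha⟩ := h4
  refine ⟨a, ?_⟩
  rw [← ha]
  exact map_idS G U η

end Classifier

section Nat

variable {X Y : Scheme.{u}} (h : Y ⟶ X)

/-- naturality of the pullback of global sections -/
theorem secPull_nat {A B : EtDesc.Sh X} (φ : A ⟶ B) (s : A.obj.obj (op (EtCoh.top X))) :
    ((EtDesc.pullSh h).map φ).hom.app (op (EtCoh.top Y)) (EtDesc.secPull h A s) =
      EtDesc.secPull h B (φ.hom.app (op (EtCoh.top X)) s) := by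
  rw [secPull_eq, secPull_eq, unit_nat]
  exact NatTrans.naturality_apply ((EtDesc.pullSh h).map φ).hom (EtCore.bcTopIso h).inv.op
    (uS h A (EtCoh.top X) s)

theorem pull_comp_app {A B C : EtDesc.Sh X} (φ : A ⟶ B) (ψ : B ⟶ C) (W : Y.Etale)
    (x : ((EtDesc.pullSh h).obj A).obj.obj (op W)) :
    ((EtDesc.pullSh h).map (φ ≫ ψ)).hom.app (op W) x =
      ((EtDesc.pullSh h).map ψ).hom.app (op W) (((EtDesc.pullSh h).map φ).hom.app (op W) x) := by
  rw [(EtDesc.pullSh h).map_comp]
  rfl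

/-- **Descent of membership along a monomorphism**: if global sections pull back injectively along
`h`, a section of `h^*F` whose image in `h^*G` comes from `X` already comes from `X`. -/
theorem mem_range_of_mono (hinj : Function.Injective (EtDesc.secPull h (Om X)))
    {F G : EtDesc.Sh X} (u : F ⟶ G) [Mono u]
    (ξ : ((EtDesc.pullSh h).obj F).obj.obj (op (EtCoh.top Y)))
    (η : G.obj.obj (op (EtCoh.top X)))
    (hξ : ((EtDesc.pullSh h).map u).hom.app (op (EtCoh.top Y)) ξ = EtDesc.secPull h G η) :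
    ∃ a : F.obj.obj (op (EtCoh.top X)), u.hom.app (op (EtCoh.top X)) a = η := by
  apply exists_of_chi_eq_tau u
  apply hinj
  rw [← secPull_nat h (chi u) η, ← secPull_nat h (tau G) η, ← hξ, ← pull_comp_app,
    ← pull_comp_app, comp_chi]

end Nat

section Via

variable {T S X : Scheme.{u}} (g : T ⟶ S) (a : S ⟶ X) (b : T ⟶ X) (w : g ≫ a = b)
  (F : EtDesc.Sh X)

theorem secPull_via (s : F.obj.obj (op (EtCoh.top X))) :
    (EtDesc.pullVia g a b w F).hom.hom.app (op (EtCoh.top T))
        (EtDesc.secPull g (pGS a F) (EtDesc.secPull a F s)) = EtDesc.secPull b F s := by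
  rw [secPull_secPull, secPull_eq]
  exact secPull_abstract (EtDesc.pullVia g a b w F).hom (kap g a b w (EtCoh.top X)) _ _
    (pullVia_unit g a b w F (EtCoh.top X) s) (kk g a) (EtCore.bcTopIso b).inv
    ((EtCore.bcTopIsTerminal b).hom_ext _ _)

end Via

section Transpose

variable {X Y : Scheme.{u}} (h : Y ⟶ X)

/-- sections of a transposed map at the top -/
theorem transpose_secPull {A : EtDesc.Sh X} {B : EtDesc.Sh Y} (ψ : (EtDesc.pullSh h).obj A ⟶ B)
    (s : A.obj.obj (op (EtCoh.top X))) :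
    ψ.hom.app (op (EtCoh.top Y)) (EtDesc.secPull h A s) =
      B.obj.map (EtCore.bcTopIso h).inv.op
        ((((EtDesc.adjSh h).homEquiv A B) ψ).hom.app (op (EtCoh.top X)) s) := by
  rw [secPull_eq]
  have n := NatTrans.naturality_apply ψ.hom (EtCore.bcTopIso h).inv.op (uS h A (EtCoh.top X) s)
  refine n.trans ?_
  congr 1

end Transpose

section BC

variable {X Y Xb Yb : Scheme.{u}} (h : Y ⟶ X) (p : Xb ⟶ X) (hb : Yb ⟶ Xb) (pY : Yb ⟶ Y)
  (w : hb ≫ p = pY ≫ h) (Fb : EtDesc.Sh Xb)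

/-- the explicit transpose of the base change map -/
noncomputable abbrev phi : (EtDesc.pushSh p).obj Fb ⟶
    (EtDesc.pushSh h).obj ((EtDesc.pushSh pY).obj ((EtDesc.pullSh hb).obj Fb)) :=
  (EtDesc.pushSh p).map ((EtDesc.adjSh hb).unit.app Fb) ≫ (EtDesc.pushCompSh p hb).hom.app _ ≫
      (EtBC.pushCongrSh w).hom.app _ ≫ (EtDesc.pushCompSh h pY).inv.app _

theorem homEquiv_bc : ((EtDesc.adjSh h).homEquiv _ _) (EtBC.baseChange0Sh p h pY hb w Fb) =
    phi h p hb pY w Fb := by
  unfold EtBC.baseChange0Sh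
  exact Equiv.apply_symm_apply _ _

/-- the composite morphism `bc_{pY} (bc_h top) ⟶ bc_{hb} (bc_p top)` appearing in `phi` -/
noncomputable abbrev M1 : (EtCoh.bc pY).obj ((EtCoh.bc h).obj (EtCoh.top X)) ⟶
    (EtCoh.bc hb).obj ((EtCoh.bc p).obj (EtCoh.top X)) :=
  dU pY h (EtCoh.top X) ≫
    (MorphismProperty.Over.pullbackCongr (P := EtCoh.etaleMP) (Q := ⊤) w).inv.app (EtCoh.top X) ≫
      cU hb p (EtCoh.top X)

theorem phi_app (s : Fb.obj.obj (op ((EtCoh.bc p).obj (EtCoh.top X)))) :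
    (phi h p hb pY w Fb).hom.app (op (EtCoh.top X)) s =
      ((EtDesc.pullSh hb).obj Fb).obj.map (M1 h p hb pY w).op
        (uS hb Fb ((EtCoh.bc p).obj (EtCoh.top X)) s) := by
  have e : (phi h p hb pY w Fb).hom.app (op (EtCoh.top X)) s =
      ((EtDesc.pullSh hb).obj Fb).obj.map (dU pY h (EtCoh.top X)).op
        (((EtDesc.pullSh hb).obj Fb).obj.map
          ((MorphismProperty.Over.pullbackCongr (P := EtCoh.etaleMP) (Q := ⊤) w).inv.app
            (EtCoh.top X)).op
          (((EtDesc.pullSh hb).obj Fb).obj.map (cU hb p (EtCoh.top X)).op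
            (uS hb Fb ((EtCoh.bc p).obj (EtCoh.top X)) s))) := rfl
  refine e.trans ?_
  refine (congrArg (((EtDesc.pullSh hb).obj Fb).obj.map (dU pY h (EtCoh.top X)).op)
    (map_mapS ((EtDesc.pullSh hb).obj Fb)
      ((MorphismProperty.Over.pullbackCongr (P := EtCoh.etaleMP) (Q := ⊤) w).inv.app (EtCoh.top X))
      (cU hb p (EtCoh.top X)) (uS hb Fb ((EtCoh.bc p).obj (EtCoh.top X)) s))).trans ?_
  exact map_mapS ((EtDesc.pullSh hb).obj Fb) (dU pY h (EtCoh.top X)) _ _

/-- **the base change map on global sections** is the pullback of sections along `hb` -/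
theorem bc_secPull (s : Fb.obj.obj (op ((EtCoh.bc p).obj (EtCoh.top X)))) :
    (EtBC.baseChange0Sh p h pY hb w Fb).hom.app (op (EtCoh.top Y))
        (EtDesc.secPull h ((EtDesc.pushSh p).obj Fb) s) =
      ((EtDesc.pullSh hb).obj Fb).obj.map (EtCore.bcTopIso pY).hom.op
        (EtDesc.secPull hb Fb (Fb.obj.map (EtCore.bcTopIso p).inv.op s)) := by
  let G := (EtDesc.pullSh hb).obj Fb
  let x := uS hb Fb ((EtCoh.bc p).obj (EtCoh.top X)) s
  have e1 : (EtBC.baseChange0Sh p h pY hb w Fb).hom.app (op (EtCoh.top Y))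
        (EtDesc.secPull h ((EtDesc.pushSh p).obj Fb) s) =
      G.obj.map ((EtCoh.bc pY).map (EtCore.bcTopIso h).inv).op
        ((phi h p hb pY w Fb).hom.app (op (EtCoh.top X)) s) := by
    refine (transpose_secPull h (EtBC.baseChange0Sh p h pY hb w Fb) s).trans ?_
    rw [homEquiv_bc]
    rfl
  have e2 : G.obj.map ((EtCoh.bc pY).map (EtCore.bcTopIso h).inv).op
        ((phi h p hb pY w Fb).hom.app (op (EtCoh.top X)) s) =
      G.obj.map ((EtCoh.bc pY).map (EtCore.bcTopIso h).inv ≫ M1 h p hb pY w).op x :=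
    (congrArg (G.obj.map ((EtCoh.bc pY).map (EtCore.bcTopIso h).inv).op)
      (phi_app h p hb pY w Fb s)).trans (map_mapS G _ _ _)
  have e3 : EtDesc.secPull hb Fb (Fb.obj.map (EtCore.bcTopIso p).inv.op s) =
      G.obj.map (kk hb p).op x := by
    rw [secPull_eq, uS_map]
    exact map_mapS G _ _ _
  have e4 : G.obj.map (EtCore.bcTopIso pY).hom.op
        (EtDesc.secPull hb Fb (Fb.obj.map (EtCore.bcTopIso p).inv.op s)) =
      G.obj.map ((EtCore.bcTopIso pY).hom ≫ kk hb p).op x :=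
    (congrArg (G.obj.map (EtCore.bcTopIso pY).hom.op) e3).trans (map_mapS G _ _ _)
  have e5 : (EtCoh.bc pY).map (EtCore.bcTopIso h).inv ≫ M1 h p hb pY w =
      (EtCore.bcTopIso pY).hom ≫ kk hb p := (bcBcTopIsTerminal hb p).hom_ext _ _
  refine e1.trans (e2.trans ?_)
  refine Eq.trans ?_ e4.symm
  exact congrArg (fun m => G.obj.map m.op x) e5

end BC

section Main

variable {X Y Xb Yb : Scheme.{u}} (h : Y ⟶ X) (p : Xb ⟶ X) (hb : Yb ⟶ Xb) (pY : Yb ⟶ Y)
  (w : hb ≫ p = pY ≫ h)
include pY w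

omit pY w in
theorem map_inv_hom {Z : Scheme.{u}} (G : EtDesc.Sh Z) {A B : Z.Etale} (e : A ≅ B)
    (s : G.obj.obj (op A)) : G.obj.map e.hom.op (G.obj.map e.inv.op s) = s := by
  rw [map_mapS, e.hom_inv_id, map_idS]

omit pY w in
theorem map_hom_inv {Z : Scheme.{u}} (G : EtDesc.Sh Z) {A B : Z.Etale} (e : A ≅ B)
    (s : G.obj.obj (op B)) : G.obj.map e.inv.op (G.obj.map e.hom.op s) = s := by
  rw [map_mapS, e.inv_hom_id, map_idS]

/-- injectivity of pullback of sections descends along a surjective `p` -/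
theorem injective_of_cover (hp : Function.Surjective p.base)
    (hinj : ∀ Fb : EtDesc.Sh Xb, Function.Injective (EtDesc.secPull hb Fb)) (F : EtDesc.Sh X) :
    Function.Injective (EtDesc.secPull h F) := by
  intro a b hab
  apply secPull_injective p hp F
  apply hinj (pGS p F)
  have ea := secPull_via hb p (pY ≫ h) w F a
  have eb := secPull_via hb p (pY ≫ h) w F b
  have ea' := secPull_via pY h (pY ≫ h) rfl F a
  have eb' := secPull_via pY h (pY ≫ h) rfl F b
  have e : EtDesc.secPull (pY ≫ h) F a = EtDesc.secPull (pY ≫ h) F b := by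
    rw [← ea', ← eb', hab]
  have e2 := ea.trans (e.trans eb.symm)
  have e3 := congrArg ((EtDesc.pullVia hb p (pY ≫ h) w F).inv.hom.app (op (EtCoh.top Yb))) e2
  rw [shIso_hom_inv_app, shIso_hom_inv_app] at e3
  exact e3

/-- bijectivity of pullback of sections descends along a surjective `p` when the base change maps
are monomorphisms -/
theorem bijective_of_cover (hp : Function.Surjective p.base)
    (hbij : ∀ Fb : EtDesc.Sh Xb, Function.Bijective (EtDesc.secPull hb Fb))
    (hmono : ∀ Fb : EtDesc.Sh Xb, Mono (EtBC.baseChange0Sh p h pY hb w Fb)) (F : EtDesc.Sh X) :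
    Function.Bijective (EtDesc.secPull h F) := by
  have hinj : ∀ F : EtDesc.Sh X, Function.Injective (EtDesc.secPull h F) :=
    injective_of_cover h p hb pY w hp (fun Fb => (hbij Fb).1)
  refine ⟨hinj F, ?_⟩
  intro ξ
  let Fb : EtDesc.Sh Xb := pGS p F
  let G : EtDesc.Sh X := (EtDesc.pushSh p).obj Fb
  let u : F ⟶ G := (EtDesc.adjSh p).unit.app F
  haveI : Mono u := AC.mono_unit_of_surjective p hp F
  haveI : Mono ((EtDesc.pullSh h).map u) := mono_pullSh_map h u
  let ξ' := ((EtDesc.pullSh h).map u).hom.app (op (EtCoh.top Y)) ξ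
  let bcm := EtBC.baseChange0Sh p h pY hb w Fb
  haveI : Mono bcm := hmono Fb
  let z := bcm.hom.app (op (EtCoh.top Y)) ξ'
  let Gb := (EtDesc.pullSh hb).obj Fb
  let ξb : Gb.obj.obj (op (EtCoh.top Yb)) := Gb.obj.map (EtCore.bcTopIso pY).inv.op z
  obtain ⟨t, ht⟩ := (hbij Fb).2 ξb
  let η : Fb.obj.obj (op ((EtCoh.bc p).obj (EtCoh.top X))) :=
    Fb.obj.map (EtCore.bcTopIso p).hom.op t
  have h1 : Fb.obj.map (EtCore.bcTopIso p).inv.op η = t := map_hom_inv Fb _ t
  have h2 : bcm.hom.app (op (EtCoh.top Y)) (EtDesc.secPull h G η) = z := by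
    refine (bc_secPull h p hb pY w Fb η).trans ?_
    rw [h1, ht]
    exact map_inv_hom Gb _ z
  have h3 : EtDesc.secPull h G η = ξ' := AC.inj_of_mono bcm (EtCoh.top Y) h2
  obtain ⟨a, ha⟩ := mem_range_of_mono h (hinj (Om X)) u ξ η h3.symm
  refine ⟨a, ?_⟩
  apply AC.inj_of_mono ((EtDesc.pullSh h).map u) (EtCoh.top Y)
  rw [secPull_nat, ha]
  exact h3

/-- injectivity of pullback of sections passes to a base change with monic base change maps -/
theorem injective_bc
    (hinj : ∀ F : EtDesc.Sh X, Function.Injective (EtDesc.secPull h F))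
    (hmono : ∀ Fb : EtDesc.Sh Xb, Mono (EtBC.baseChange0Sh p h pY hb w Fb)) (Fb : EtDesc.Sh Xb) :
    Function.Injective (EtDesc.secPull hb Fb) := by
  intro a b hab
  let G : EtDesc.Sh X := (EtDesc.pushSh p).obj Fb
  let bcm := EtBC.baseChange0Sh p h pY hb w Fb
  haveI : Mono bcm := hmono Fb
  let a' : Fb.obj.obj (op ((EtCoh.bc p).obj (EtCoh.top X))) :=
    Fb.obj.map (EtCore.bcTopIso p).hom.op a
  let b' : Fb.obj.obj (op ((EtCoh.bc p).obj (EtCoh.top X))) :=
    Fb.obj.map (EtCore.bcTopIso p).hom.op b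
  have ha : Fb.obj.map (EtCore.bcTopIso p).inv.op a' = a := map_hom_inv Fb _ a
  have hb' : Fb.obj.map (EtCore.bcTopIso p).inv.op b' = b := map_hom_inv Fb _ b
  have e1 := bc_secPull h p hb pY w Fb a'
  have e2 := bc_secPull h p hb pY w Fb b'
  rw [ha] at e1
  rw [hb'] at e2
  have e3 : bcm.hom.app (op (EtCoh.top Y)) (EtDesc.secPull h G a') =
      bcm.hom.app (op (EtCoh.top Y)) (EtDesc.secPull h G b') := by
    rw [e1, e2, hab]
  have e4 : a' = b' := hinj G (AC.inj_of_mono bcm (EtCoh.top Y) e3)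
  rw [← ha, ← hb', e4]

/-- bijectivity of pullback of sections passes to a base change with invertible base change maps -/
theorem bijective_bc
    (hbij : ∀ F : EtDesc.Sh X, Function.Bijective (EtDesc.secPull h F))
    (hiso : ∀ Fb : EtDesc.Sh Xb, IsIso (EtBC.baseChange0Sh p h pY hb w Fb)) (Fb : EtDesc.Sh Xb) :
    Function.Bijective (EtDesc.secPull hb Fb) := by
  refine ⟨injective_bc h p hb pY w (fun F => (hbij F).1)
    (fun Fb => by haveI := hiso Fb; infer_instance) Fb, ?_⟩
  intro ξb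
  let G : EtDesc.Sh X := (EtDesc.pushSh p).obj Fb
  let Gb := (EtDesc.pullSh hb).obj Fb
  let bcm := EtBC.baseChange0Sh p h pY hb w Fb
  haveI : IsIso bcm := hiso Fb
  let z : ((EtDesc.pushSh pY).obj Gb).obj.obj (op (EtCoh.top Y)) :=
    Gb.obj.map (EtCore.bcTopIso pY).hom.op ξb
  let ξ' := (inv bcm).hom.app (op (EtCoh.top Y)) z
  have hz : bcm.hom.app (op (EtCoh.top Y)) ξ' = z :=
    (shComp_app (inv bcm) bcm (EtCoh.top Y) z).symm.trans
      (congrArg (fun m => m.hom.app (op (EtCoh.top Y)) z) (IsIso.inv_hom_id bcm))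
  obtain ⟨η, hη⟩ := (hbij G).2 ξ'
  refine ⟨Fb.obj.map (EtCore.bcTopIso p).inv.op η, ?_⟩
  have e1 := bc_secPull h p hb pY w Fb η
  rw [hη, hz] at e1
  have e2 := congrArg (Gb.obj.map (EtCore.bcTopIso pY).inv.op) e1
  rw [map_hom_inv, map_hom_inv] at e2
  exact e2.symm

end Main

end Groth.Agent.Helper1.SB
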