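import Mathlib
import Groth.Prelude.Def_EtBCD
import Groth.Agent.Lib.Helper1.IG7
import Groth.Agent.Lib.Helper1.SB1

/-!
# Integral base change for sheaves of sets: instantiation of the abstract statements
-/

set_option autoImplicit false
set_option linter.unusedSectionVars false
set_option linter.style.haveILetI false
open CategoryTheory CategoryTheory.Limits AlgebraicGeometry Opposite
universe u

namespace Groth.Agent.Helper1.IG

open Groth.Agent.Helper1.ELR Groth.Agent.Helper1.FP Groth.Agent.Helper1.SG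

section SetInst

variable {X X' : Scheme.{u}} (k : X' ⟶ X) (F : EtDesc.Sh X)

theorem set_hu_rep {Ω₁ : Type u} [Field Ω₁] [IsSepClosed Ω₁] (ξ' : Spec (CommRingCat.of Ω₁) ⟶ X')
    (N : X'.Etale) (l : (Φ ξ').fiber.obj N) (t : (pGS k F).obj.obj (op N)) :
    ∃ (U : X.Etale) (a : F.obj.obj (op U)) (M : X'.Etale) (lM : (Φ ξ').fiber.obj M)
      (m : M ⟶ N) (q : M ⟶ (EtCoh.bc k).obj U), (Φ ξ').fiber.map m lM = l ∧
      (pGS k F).obj.map m.op t = (pGS k F).obj.map q.op (uS k F U a) := by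
  obtain ⟨e, he⟩ := cmpS_hom_surjective k ξ' F
    ((Φ ξ').toPresheafFiber N l (pGS k F).obj t)
  obtain ⟨U, l₁, a, rfl⟩ := (SHC.comapPoint k ξ').toPresheafFiber_jointly_surjective
    (P := F.obj) e
  have c1 := cmpS_germ k ξ' F U l₁ a
  let l₁' : (Φ ξ').fiber.obj ((EtCoh.bc k).obj U) := l₁
  obtain ⟨M₀, lM₀, p, q, hp, hq⟩ := min_pt ξ' l l₁'
  have e1 := (Φ ξ').toPresheafFiber_w_apply p lM₀ (pGS k F).obj t
  rw [hp] at e1
  have e2 := (Φ ξ').toPresheafFiber_w_apply q lM₀ (pGS k F).obj (uS k F U a)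
  rw [hq] at e2
  have e3 : (Φ ξ').toPresheafFiber M₀ lM₀ (pGS k F).obj ((pGS k F).obj.map p.op t) =
      (Φ ξ').toPresheafFiber M₀ lM₀ (pGS k F).obj
        ((pGS k F).obj.map q.op (uS k F U a)) :=
    e1.trans (he.symm.trans (c1.trans e2.symm))
  obtain ⟨M, μ, lM, hlM, hμ⟩ := ((Φ ξ').toPresheafFiber_eq_iff' (P := (pGS k F).obj)
    M₀ lM₀ _ _).1 e3
  refine ⟨U, a, M, lM, μ ≫ p, μ ≫ q, ?_, ?_⟩
  · rw [Functor.map_comp]
    show (Φ ξ').fiber.map p ((Φ ξ').fiber.map μ lM) = l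
    rw [hlM, hp]
  · have h1 := map_mapS (pGS k F) μ p t
    have h2 := map_mapS (pGS k F) μ q (uS k F U a)
    exact h1.symm.trans (Eq.trans hμ h2)

end SetInst

section BCS

variable {X Y X' Y' : Scheme.{u}} (f : X ⟶ Y) (g : Y' ⟶ Y) (f' : X' ⟶ Y') (g' : X' ⟶ X)
  (w : g' ≫ f = f' ≫ g) (F : EtDesc.Sh X)

theorem phiV_app (V : Y.Etale) (s : F.obj.obj (op ((EtCoh.bc f).obj V))) :
    (SB.phi g f g' f' w F).hom.app (op V) s =
      ((EtDesc.pullSh g').obj F).obj.map (ιBC f g f' g' w V).op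
        (uS g' F ((EtCoh.bc f).obj V) s) := by
  have e : (SB.phi g f g' f' w F).hom.app (op V) s =
      ((EtDesc.pullSh g').obj F).obj.map (dU f' g V).op
        (((EtDesc.pullSh g').obj F).obj.map
          ((MorphismProperty.Over.pullbackCongr (P := EtCoh.etaleMP) (Q := ⊤) w).inv.app V).op
          (((EtDesc.pullSh g').obj F).obj.map (cU g' f V).op
            (uS g' F ((EtCoh.bc f).obj V) s))) := rfl
  refine e.trans ?_
  refine (congrArg (((EtDesc.pullSh g').obj F).obj.map (dU f' g V).op)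
    (map_mapS ((EtDesc.pullSh g').obj F)
      ((MorphismProperty.Over.pullbackCongr (P := EtCoh.etaleMP) (Q := ⊤) w).inv.app V)
      (cU g' f V) (uS g' F ((EtCoh.bc f).obj V) s))).trans ?_
  exact map_mapS ((EtDesc.pullSh g').obj F) (dU f' g V) _ _

theorem unit_comp_baseChange0Sh :
    (EtDesc.adjSh g).unit.app _ ≫ (EtDesc.pushSh g).map (EtBC.baseChange0Sh f g f' g' w F) =
      SB.phi g f g' f' w F :=
  ((EtDesc.adjSh g).homEquiv_unit _ _ _).symm.trans (SB.homEquiv_bc g f g' f' w F)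

theorem baseChange0Sh_unit_app (V : Y.Etale) (σ : F.obj.obj (op ((EtCoh.bc f).obj V))) :
    (EtBC.baseChange0Sh f g f' g' w F).hom.app (op ((EtCoh.bc g).obj V))
      (uS g ((EtDesc.pushSh f).obj F) V σ) =
      ((EtDesc.pullSh g').obj F).obj.map (ιBC f g f' g' w V).op
        (uS g' F ((EtCoh.bc f).obj V) σ) := by
  rw [← phiV_app, ← unit_comp_baseChange0Sh]
  rfl

end BCS

section MainS

variable {X Y X' Y' : Scheme.{u}} (f : X ⟶ Y) (g : Y' ⟶ Y) (f' : X' ⟶ Y')
  (g' : X' ⟶ X) (h : IsPullback g' f' f g) (F : EtDesc.Sh X) {Ω : Type u} [Field Ω] [IsAlgClosed Ω]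
  (η' : Spec (CommRingCat.of Ω) ⟶ Y') [IsIntegralHom f]

theorem kap_map_applyS (V : Y.Etale) {V'' : Y'.Etale} (n : V'' ⟶ (EtCoh.bc g).obj V)
    (τ : (pGS g' F).obj.obj (op ((EtCoh.bc g').obj ((EtCoh.bc f).obj V)))) :
    (pGS g' F).obj.map (kap f g f' g' h V n).op τ =
      (pGS g' F).obj.map ((EtCoh.bc f').map n).op
        ((pGS g' F).obj.map (ιBC f g f' g' h.w V).op τ) :=
  (map_mapS (pGS g' F) ((EtCoh.bc f').map n) (ιBC f g f' g' h.w V) τ).symm

theorem stalk_formula0S (V : Y.Etale) (y : (Φ η').fiber.obj ((EtCoh.bc g).obj V))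
    (σ : F.obj.obj (op ((EtCoh.bc f).obj V))) :
    ((Φ η').presheafFiber.map (EtBC.baseChange0Sh f g f' g' h.w F).hom)
        ((cmpS g η' ((EtDesc.pushSh f).obj F)).hom
          ((SHC.comapPoint g η').toPresheafFiber V y ((EtDesc.pushSh f).obj F).obj σ)) =
    (Φ η').toPresheafFiber ((EtCoh.bc g).obj V) y
      ((EtDesc.pushSh f').obj ((EtDesc.pullSh g').obj F)).obj
      (((EtDesc.pullSh g').obj F).obj.map (ιBC f g f' g' h.w V).op
        (uS g' F ((EtCoh.bc f).obj V) σ)) := by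
  have c1 := cmpS_germ g η' ((EtDesc.pushSh f).obj F) V y σ
  have e2 := (Φ η').toPresheafFiber_naturality_apply (EtBC.baseChange0Sh f g f' g' h.w F).hom
    ((EtCoh.bc g).obj V) y (uS g ((EtDesc.pushSh f).obj F) V σ)
  have e3 := baseChange0Sh_unit_app f g f' g' h.w F V σ
  exact (congrArg (fun z => ((Φ η').presheafFiber.map
    (EtBC.baseChange0Sh f g f' g' h.w F).hom) z) c1).trans
    (e2.trans (congrArg (fun z => (Φ η').toPresheafFiber ((EtCoh.bc g).obj V) y
      ((EtDesc.pushSh f').obj ((EtDesc.pullSh g').obj F)).obj z) e3))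

theorem stalk_bcS_injective_integral :
    Function.Injective ((Φ η').presheafFiber.map (EtBC.baseChange0Sh f g f' g' h.w F).hom) := by
  intro a b hab
  obtain ⟨a₀, rfl⟩ := cmpS_hom_surjective g η' ((EtDesc.pushSh f).obj F) a
  obtain ⟨b₀, rfl⟩ := cmpS_hom_surjective g η' ((EtDesc.pushSh f).obj F) b
  apply congrArg
  obtain ⟨V, y, σ, σ', rfl, rfl⟩ := (SHC.comapPoint g η').toPresheafFiber_jointly_surjective₂
    (P := ((EtDesc.pushSh f).obj F).obj) a₀ b₀
  have s1 := stalk_formula0S f g f' g' h F η' V y σ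
  have s1' := stalk_formula0S f g f' g' h F η' V y σ'
  have hab' := s1.symm.trans (hab.trans s1')
  obtain ⟨V'', n, y'', hy'', hn⟩ := ((Φ η').toPresheafFiber_eq_iff'
    (P := ((EtDesc.pushSh f').obj ((EtDesc.pullSh g').obj F)).obj) ((EtCoh.bc g).obj V) y _ _).1
    hab'
  let y₀ : (Φ η').fiber.obj ((EtCoh.bc g).obj V) := y
  have hy₀ : (Φ η').fiber.map n y'' = up g η' V (dn g η' V y₀) := by
    rw [up_dn]
    exact hy''
  have heq : (pGS g' F).obj.map (kap f g f' g' h V n).op (uS g' F ((EtCoh.bc f).obj V) σ) =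
      (pGS g' F).obj.map (kap f g f' g' h V n).op (uS g' F ((EtCoh.bc f).obj V) σ') := by
    rw [kap_map_applyS, kap_map_applyS]
    exact hn
  obtain ⟨V₁, e, x₁, hx₁, he⟩ := abs_inj f g f' g' h F (pGS g' F)
    (uS g' F) (agreeAt_of_agreeAt_unit g' F) η' V (dn g η' V y₀) σ σ' y'' n hy₀ heq
  let y₁ := up g η' V₁ x₁
  have hy₁ : (Φ η').fiber.map ((EtCoh.bc g).map e) y₁ = y := by
    apply dn_injective g η' V
    rw [dn_map, dn_up]
    exact hx₁
  have e1 := (SHC.comapPoint g η').toPresheafFiber_w_apply e y₁ ((EtDesc.pushSh f).obj F).obj σ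
  have e1' := (SHC.comapPoint g η').toPresheafFiber_w_apply e y₁ ((EtDesc.pushSh f).obj F).obj σ'
  have hy₁' : (SHC.comapPoint g η').fiber.map e y₁ = y := hy₁
  rw [hy₁'] at e1 e1'
  rw [← e1, ← e1']
  exact congrArg ((SHC.comapPoint g η').toPresheafFiber V₁ y₁ ((EtDesc.pushSh f).obj F).obj) he

theorem stalk_bcS_surjective_integral :
    Function.Surjective ((Φ η').presheafFiber.map (EtBC.baseChange0Sh f g f' g' h.w F).hom) := by
  intro r
  obtain ⟨V', y', t, rfl⟩ := (Φ η').toPresheafFiber_jointly_surjective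
    (P := ((EtDesc.pushSh f').obj ((EtDesc.pullSh g').obj F)).obj) r
  obtain ⟨V, x, σ, V'', y'', n₁, n₂, hn₁, hn₂, hS⟩ := abs_surj f g f' g' h F
    (pGS g' F) (uS g' F) (uS_map g' F) (set_hu_rep g' F) η' V' y' t
  let y := up g η' V x
  refine ⟨(cmpS g η' ((EtDesc.pushSh f).obj F)).hom
    ((SHC.comapPoint g η').toPresheafFiber V y ((EtDesc.pushSh f).obj F).obj σ), ?_⟩
  refine (stalk_formula0S f g f' g' h F η' V y σ).trans ?_
  have w1 := (Φ η').toPresheafFiber_w_apply n₁ y''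
    ((EtDesc.pushSh f').obj ((EtDesc.pullSh g').obj F)).obj t
  have w2 := (Φ η').toPresheafFiber_w_apply n₂ y''
    ((EtDesc.pushSh f').obj ((EtDesc.pullSh g').obj F)).obj
    (((EtDesc.pullSh g').obj F).obj.map (ιBC f g f' g' h.w V).op
      (uS g' F ((EtCoh.bc f).obj V) σ))
  rw [hn₁] at w1
  rw [hn₂] at w2
  rw [← w1, ← w2]
  apply congrArg
  rw [kap_map_applyS] at hS
  exact hS.symm

end MainS

/-- **Base change for direct images of sheaves of sets along an integral morphism.** -/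
theorem isIso_baseChange0Sh_integral {X Y X' Y' : Scheme.{u}} (f : X ⟶ Y) [IsIntegralHom f]
    (g : Y' ⟶ Y) (f' : X' ⟶ Y') (g' : X' ⟶ X) (h : IsPullback g' f' f g) (F : EtDesc.Sh X) :
    IsIso (EtBC.baseChange0Sh f g f' g' h.w F) := by
  have key : ∀ (U : Y'.Etale) (x : U.left), ∃ (Ω : Type u) (_ : Field Ω) (_ : IsSepClosed Ω)
      (ξ : Spec (CommRingCat.of Ω) ⟶ Y') (y : (Scheme.pointSmallEtale ξ).fiber.obj U),
      (y.left : Spec (CommRingCat.of Ω) ⟶ U.left).base (default : Spec (CommRingCat.of Ω)) = x ∧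
      Function.Bijective ((Scheme.pointSmallEtale ξ).presheafFiber.map
        (EtBC.baseChange0Sh f g f' g' h.w F).hom) := by
    intro U x
    obtain ⟨Ω, hΩ1, hΩ2, η₀, hη₀⟩ := exists_geomPoint x
    letI := hΩ1
    haveI := hΩ2
    exact ⟨Ω, hΩ1, inferInstance, η₀ ≫ U.hom, mkPt (η₀ ≫ U.hom) U η₀ rfl, hη₀,
      stalk_bcS_injective_integral f g f' g' h F (η₀ ≫ U.hom),
      stalk_bcS_surjective_integral f g f' g' h F (η₀ ≫ U.hom)⟩
  haveI : Sheaf.IsLocallyInjective (EtBC.baseChange0Sh f g f' g' h.w F) := by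
    apply SHC.isLocallyInjective_of_enough
    intro U x
    obtain ⟨Ω, i1, i2, ξ, y, hy, hb⟩ := key U x
    exact ⟨Ω, i1, i2, ξ, y, hy, hb.1⟩
  haveI : Sheaf.IsLocallySurjective (EtBC.baseChange0Sh f g f' g' h.w F) := by
    apply SHC.isLocallySurjective_of_enough
    intro U x
    obtain ⟨Ω, i1, i2, ξ, y, hy, hb⟩ := key U x
    exact ⟨Ω, i1, i2, ξ, y, hy, hb.2⟩
  exact (Sheaf.isLocallyBijective_iff_isIso _).1 ⟨inferInstance, inferInstance⟩

end Groth.Agent.Helper1.IG
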