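import Groth.Agent.Lib.Helper1.HenselFinite
import Groth.Agent.Lib.Helper1.HznTerm

/-!
# Local rings integral over a henselian local ring are henselian
-/

set_option autoImplicit false

namespace Groth.Agent.Helper1.IH

open Polynomial IsLocalRing Groth.Agent.Helper1

universe u

/-- a finite local algebra over a henselian local ring is henselian -/
theorem henselianLocalRing_of_finite (S : Type u) [CommRing S] [HenselianLocalRing S]
    (C : Type u) [CommRing C] [IsLocalRing C] [Algebra S C] [Module.Finite S C] :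
    HenselianLocalRing C := by
  refine ((HenselianLocalRing.TFAE C).out 1 0).mp ?_
  intro f hf a₀ h₁ h₂
  obtain ⟨a, rfl⟩ := IsLocalRing.residue_surjective a₀
  change aeval (residue C a) f = 0 at h₁
  let χ : AdjoinRoot f →ₐ[C] ResidueField C :=
    AdjoinRoot.liftAlgHom f (Algebra.ofId C _) (residue C a) h₁
  have hχmk : ∀ p : C[X], χ (AdjoinRoot.mk f p) = (p.map (residue C)).eval (residue C a) := by
    intro p
    rw [eval_map]; rfl
  have hχalg : ∀ c : C, χ (algebraMap C (AdjoinRoot f) c) = residue C c := by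
    intro c
    rw [AlgHom.commutes]; rfl
  haveI : Module.Finite C (AdjoinRoot f) := hf.finite_adjoinRoot
  haveI : Module.Finite S (AdjoinRoot f) := Module.Finite.trans C _
  obtain ⟨hfin, e, he, hne, hloc⟩ :=
    exists_completeOrthogonalIdempotents_forall_isLocalRing S (AdjoinRoot f)
  have hχsurj : Function.Surjective χ := by
    intro y
    obtain ⟨c, rfl⟩ := IsLocalRing.residue_surjective y
    exact ⟨algebraMap C (AdjoinRoot f) c, hχalg c⟩
  haveI hmax : (RingHom.ker χ).IsMaximal := RingHom.ker_isMaximal_of_surjective χ hχsurj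
  obtain ⟨E, hE⟩ : ∃ E : AdjoinRoot f, E = e ⟨RingHom.ker χ, hmax⟩ := ⟨_, rfl⟩
  have hEidem : IsIdempotentElem E := by
    rw [hE]
    exact he.idem _
  have hEne : χ E ≠ 0 := by
    intro h0
    have := hne ⟨RingHom.ker χ, hmax⟩
    rw [← hE] at this
    exact this ((RingHom.mem_ker).mpr h0)
  have hχE : χ E = 1 := by
    have h1 : χ E * χ E = χ E := by rw [← map_mul, hEidem.eq]
    have h2 : χ E * (χ E - 1) = 0 := by rw [mul_sub, h1, mul_one, sub_self]
    rcases mul_eq_zero.mp h2 with h3 | h3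
    · exact absurd h3 hEne
    · exact sub_eq_zero.mp h3
  haveI hL : IsLocalRing (AdjoinRoot f ⧸ Ideal.span {1 - E}) := by
    rw [hE]
    exact hloc _
  -- the induced map on the local factor
  have hker : ∀ x ∈ Ideal.span {1 - E}, χ.toRingHom x = 0 := by
    intro x hx
    obtain ⟨z, rfl⟩ := Ideal.mem_span_singleton'.mp hx
    show χ (z * (1 - E)) = 0
    rw [map_mul, map_sub, map_one, hχE, sub_self, mul_zero]
  obtain ⟨χ', hχ'⟩ : ∃ χ' : AdjoinRoot f ⧸ Ideal.span {1 - E} →+* ResidueField C,
      χ' = Ideal.Quotient.lift (Ideal.span {1 - E}) χ.toRingHom hker := ⟨_, rfl⟩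
  have hχ'mk : ∀ x : AdjoinRoot f, χ' (Ideal.Quotient.mk _ x) = χ x := by
    intro x
    rw [hχ', Ideal.Quotient.lift_mk]; rfl
  have hχ'surj : Function.Surjective χ' := by
    intro y
    obtain ⟨x, rfl⟩ := hχsurj y
    exact ⟨Ideal.Quotient.mk _ x, hχ'mk x⟩
  have hkermax : RingHom.ker χ' = maximalIdeal (AdjoinRoot f ⧸ Ideal.span {1 - E}) :=
    IsLocalRing.eq_maximalIdeal (RingHom.ker_isMaximal_of_surjective χ' hχ'surj)
  -- the cofactor
  obtain ⟨g, hg⟩ : ∃ g : C[X], g = f /ₘ (X - Polynomial.C a) := ⟨_, rfl⟩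
  have hfg : f = Polynomial.C (f.eval a) + (X - Polynomial.C a) * g := by
    rw [hg, ← modByMonic_X_sub_C_eq_C_eval, modByMonic_add_div]
  have hga : g.eval a = (derivative f).eval a := by
    have h1 := congrArg (fun p => (derivative p).eval a) hfg
    simp only [derivative_add, derivative_C, zero_add, derivative_mul, derivative_sub,
      derivative_X, sub_zero, one_mul, eval_add, eval_mul, eval_sub, eval_X, eval_C, sub_self,
      zero_mul, add_zero] at h1
    exact h1.symm
  have hχg : χ (AdjoinRoot.mk f g) ≠ 0 := by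
    rw [hχmk, ← Hzn.map_eval', hga, Hzn.map_eval', eval_map]
    rw [aeval_def, ResidueField.algebraMap_eq] at h₂
    exact h₂
  have hfa : f.eval a ∈ maximalIdeal C := by
    rw [← Ideal.Quotient.eq_zero_iff_mem]
    show residue C (f.eval a) = 0
    rw [Hzn.map_eval', eval_map]
    rw [aeval_def, ResidueField.algebraMap_eq] at h₁
    exact h₁
  have hrel : (AdjoinRoot.root f - algebraMap C _ a) * AdjoinRoot.mk f g =
      -algebraMap C (AdjoinRoot f) (f.eval a) := by
    have h1 := congrArg (AdjoinRoot.mk f) hfg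
    rw [AdjoinRoot.mk_self, map_add, map_mul, map_sub, AdjoinRoot.mk_X, AdjoinRoot.mk_C,
      AdjoinRoot.mk_C] at h1
    have h2 : algebraMap C (AdjoinRoot f) = AdjoinRoot.of f := rfl
    rw [h2]
    exact eq_neg_of_add_eq_zero_right h1.symm
  -- `mk g` becomes a unit in the local factor
  have hgunit : IsUnit (Ideal.Quotient.mk (Ideal.span {1 - E}) (AdjoinRoot.mk f g)) := by
    by_contra hnu
    have h1 : Ideal.Quotient.mk (Ideal.span {1 - E}) (AdjoinRoot.mk f g) ∈
        maximalIdeal (AdjoinRoot f ⧸ Ideal.span {1 - E}) := (mem_maximalIdeal _).mpr hnu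
    rw [← hkermax, RingHom.mem_ker, hχ'mk] at h1
    exact hχg h1
  obtain ⟨y', hy'⟩ := hgunit.exists_right_inv
  obtain ⟨y, rfl⟩ := Ideal.Quotient.mk_surjective y'
  rw [← map_mul, ← map_one (Ideal.Quotient.mk (Ideal.span {1 - E})), Ideal.Quotient.eq,
    Ideal.mem_span_singleton'] at hy'
  obtain ⟨z, hz⟩ := hy'
  have hgyE : AdjoinRoot.mk f g * y * E = E := by
    have h1 : (AdjoinRoot.mk f g * y - 1) * E = 0 := by
      rw [← hz, mul_assoc, sub_mul, one_mul, hEidem.eq, sub_self, mul_zero]
    rw [sub_mul, one_mul, sub_eq_zero] at h1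
    exact h1
  have hJ : (AdjoinRoot.root f - algebraMap C _ a) * E ∈
      (maximalIdeal C).map (algebraMap C (AdjoinRoot f)) := by
    have h1 : (AdjoinRoot.root f - algebraMap C _ a) * E =
        -algebraMap C (AdjoinRoot f) (f.eval a) * (y * E) := by
      rw [← hrel]
      calc (AdjoinRoot.root f - algebraMap C _ a) * E
          = (AdjoinRoot.root f - algebraMap C _ a) * (AdjoinRoot.mk f g * y * E) := by
            rw [hgyE]
        _ = _ := by ring
    rw [h1]
    apply Ideal.mul_mem_right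
    exact neg_mem (Ideal.mem_map_of_mem _ hfa)
  exact exists_root_of_idempotent f hf a χ (AdjoinRoot.liftAlgHom_root ..) E hEidem hχE hJ

/-- a local ring integral over a henselian local ring is henselian -/
theorem henselianLocalRing_of_isIntegral (S : Type u) [CommRing S] [HenselianLocalRing S]
    (C : Type u) [CommRing C] [hC : IsLocalRing C] [Algebra S C] [Algebra.IsIntegral S C] :
    HenselianLocalRing C := by
  refine { toIsLocalRing := hC, is_henselian := ?_ }
  intro f hf a₀ h₁ h₂
  classical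
  obtain ⟨T, hT⟩ : ∃ T : Finset C,
      T = insert a₀ ((Finset.range (f.natDegree + 1)).image f.coeff) := ⟨_, rfl⟩
  obtain ⟨C₀, hC₀⟩ : ∃ C₀ : Subalgebra S C, C₀ = Algebra.adjoin S (T : Set C) := ⟨_, rfl⟩
  haveI hfin : Module.Finite S C₀ := by
    rw [hC₀]
    exact Algebra.finite_adjoin_of_finite_of_isIntegral T.finite_toSet
      (fun x _ => Algebra.IsIntegral.isIntegral x)
  haveI : Algebra.IsIntegral C₀ C := Algebra.IsIntegral.tower_top S
  haveI hloc : IsLocalHom (algebraMap C₀ C) :=
    RingHom.IsIntegral.isLocalHom (algebraMap_isIntegral_iff.mpr inferInstance)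
      Subtype.val_injective
  haveI : IsLocalRing C₀ := RingHom.domain_isLocalRing (algebraMap C₀ C)
  haveI : HenselianLocalRing C₀ := henselianLocalRing_of_finite S C₀
  have hcoef : ∀ n, f.coeff n ∈ C₀ := by
    intro n
    by_cases hn : n ≤ f.natDegree
    · rw [hC₀]
      apply Algebra.subset_adjoin
      rw [hT, Finset.coe_insert]
      right
      exact Finset.mem_coe.mpr
        (Finset.mem_image.mpr ⟨n, Finset.mem_range.mpr (by omega), rfl⟩)
    · rw [Polynomial.coeff_eq_zero_of_natDegree_lt (by omega)]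
      exact C₀.zero_mem
  have ha₀ : a₀ ∈ C₀ := by
    rw [hC₀]
    apply Algebra.subset_adjoin
    rw [hT, Finset.coe_insert]
    exact Set.mem_insert _ _
  have hlift : f ∈ Polynomial.lifts (algebraMap C₀ C) := by
    rw [Polynomial.lifts_iff_coeff_lifts]
    intro n
    exact ⟨⟨f.coeff n, hcoef n⟩, rfl⟩
  obtain ⟨f₀, hf₀, -, hf₀m⟩ := Polynomial.lifts_and_degree_eq_and_monic hlift hf
  have hval : algebraMap C₀ C ⟨a₀, ha₀⟩ = a₀ := rfl
  have h₁' : f₀.eval ⟨a₀, ha₀⟩ ∈ maximalIdeal C₀ := by
    rw [mem_maximalIdeal, mem_nonunits_iff]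
    intro hu
    have h3 := hu.map (algebraMap C₀ C)
    rw [Hzn.map_eval', hf₀, hval] at h3
    exact ((mem_maximalIdeal _).mp h₁) h3
  have h₂' : IsUnit ((derivative f₀).eval ⟨a₀, ha₀⟩) := by
    apply isUnit_of_map_unit (algebraMap C₀ C)
    rw [Hzn.map_derivative_eval', hf₀, hval]
    exact h₂
  obtain ⟨a, ha, haa⟩ := HenselianLocalRing.is_henselian f₀ hf₀m ⟨a₀, ha₀⟩ h₁' h₂'
  refine ⟨algebraMap C₀ C a, ?_, ?_⟩
  · have h3 := congrArg (algebraMap C₀ C) ha
    rw [Hzn.map_eval', hf₀, map_zero] at h3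
    exact h3
  · have h3 : algebraMap C₀ C (a - ⟨a₀, ha₀⟩) ∈ maximalIdeal C := by
      rw [mem_maximalIdeal, mem_nonunits_iff]
      intro hu
      exact ((mem_maximalIdeal _).mp haa) (isUnit_of_map_unit (algebraMap C₀ C) _ hu)
    rw [map_sub, hval] at h3
    exact h3

/-- ring hom form -/
theorem henselianLocalRing_of_integral_ringHom {S C : Type u} [CommRing S]
    [HenselianLocalRing S] [CommRing C] [IsLocalRing C] (g : S →+* C) (hg : g.IsIntegral) :
    HenselianLocalRing C := by
  letI := g.toAlgebra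
  haveI : Algebra.IsIntegral S C := ⟨hg⟩
  exact henselianLocalRing_of_isIntegral S C

end Groth.Agent.Helper1.IH
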