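import Groth.Agent.Lib.Helper1.IH1
import Groth.Agent.Lib.Helper1.HFlat4
import Groth.Agent.Lib.Helper1.HznUniv

/-!
# The henselization of a local ring integral over `A` is `B ⊗[A] Aʰ`
-/

set_option autoImplicit false

namespace Groth.Agent.Helper1.IH

open Polynomial IsLocalRing TensorProduct

universe u

section Tensor

variable (A B S : Type u) [CommRing A] [CommRing B] [Algebra A B] [CommRing S] [Algebra A S]

/-- the right inclusion as a ring hom -/
noncomputable def incR : S →+* B ⊗[A] S :=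
  (Algebra.TensorProduct.includeRight : S →ₐ[A] B ⊗[A] S).toRingHom

theorem incR_apply (s : S) : incR A B S s = (1 : B) ⊗ₜ[A] s := rfl

theorem incR_algebraMap (a : A) :
    incR A B S (algebraMap A S a) = algebraMap B (B ⊗[A] S) (algebraMap A B a) := by
  show (1 : B) ⊗ₜ[A] (algebraMap A S a) = (algebraMap A B a) ⊗ₜ[A] (1 : S)
  rw [Algebra.algebraMap_eq_smul_one, Algebra.algebraMap_eq_smul_one, TensorProduct.smul_tmul]

theorem incR_comp_algebraMap :
    (incR A B S).comp (algebraMap A S) = (algebraMap B (B ⊗[A] S)).comp (algebraMap A B) :=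
  RingHom.ext (incR_algebraMap A B S)

theorem tmul_eq_mul (b : B) (s : S) :
    (b ⊗ₜ[A] s : B ⊗[A] S) = algebraMap B (B ⊗[A] S) b * incR A B S s := by
  show b ⊗ₜ[A] s = (b ⊗ₜ[A] (1 : S)) * ((1 : B) ⊗ₜ[A] s)
  rw [Algebra.TensorProduct.tmul_mul_tmul, mul_one, one_mul]

theorem incR_isIntegral [Algebra.IsIntegral A B] : (incR A B S).IsIntegral := by
  intro c
  induction c using TensorProduct.induction_on with
  | zero => exact (incR A B S).isIntegralElem_zero
  | tmul b s =>
    rw [tmul_eq_mul]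
    apply RingHom.IsIntegralElem.mul
    · obtain ⟨p, hp, hpb⟩ := Algebra.IsIntegral.isIntegral (R := A) b
      refine ⟨p.map (algebraMap A S), hp.map _, ?_⟩
      rw [Polynomial.eval₂_map, incR_comp_algebraMap, ← Polynomial.hom_eval₂, hpb, map_zero]
    · exact RingHom.isIntegralElem_map _
  | add x y hx hy => exact RingHom.IsIntegralElem.add _ hx hy

variable [IsLocalRing A] [IsLocalRing B] [IsLocalHom (algebraMap A B)] [Algebra.IsIntegral A B]
  [IsLocalRing S] [IsLocalHom (algebraMap A S)]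

theorem comap_incR_eq (M : Ideal (B ⊗[A] S)) [M.IsMaximal] :
    M.comap (incR A B S) = maximalIdeal S :=
  IsLocalRing.eq_maximalIdeal
    (Ideal.isMaximal_comap_of_isIntegral_of_isMaximal' _ (incR_isIntegral A B S) M)

theorem comap_algebraMap_eq (M : Ideal (B ⊗[A] S)) [M.IsMaximal] :
    M.comap (algebraMap B (B ⊗[A] S)) = maximalIdeal B := by
  haveI : (M.comap (algebraMap B (B ⊗[A] S))).IsPrime := Ideal.comap_isPrime _ _
  apply IsLocalRing.eq_maximalIdeal
  apply Ideal.isMaximal_of_isIntegral_of_isMaximal_comap (R := A)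
  have h1 : (M.comap (algebraMap B (B ⊗[A] S))).comap (algebraMap A B) = maximalIdeal A := by
    rw [Ideal.comap_comap, ← incR_comp_algebraMap, ← Ideal.comap_comap, comap_incR_eq]
    exact ((IsLocalRing.local_hom_TFAE (algebraMap A S)).out 0 4).mp ‹IsLocalHom (algebraMap A S)›
  rw [h1]
  exact maximalIdeal.isMaximal A

variable [Hensel.IsHenselization A S]

theorem exists_sub_tmul_mem (c : B ⊗[A] S) :
    ∃ b : B, c - b ⊗ₜ[A] (1 : S) ∈ (maximalIdeal S).map (incR A B S) := by
  induction c using TensorProduct.induction_on with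
  | zero => exact ⟨0, by rw [TensorProduct.zero_tmul, sub_zero]; exact Ideal.zero_mem _⟩
  | tmul b s =>
    obtain ⟨a, ha⟩ := Hzn.exists_sub_mem_of_isHenselization A S s
    rw [Hzn.map_maximalIdeal_eq_of_isHenselization] at ha
    refine ⟨a • b, ?_⟩
    have h1 : b ⊗ₜ[A] s - (a • b) ⊗ₜ[A] (1 : S) =
        (b ⊗ₜ[A] (1 : S)) * incR A B S (s - algebraMap A S a) := by
      rw [incR_apply, Algebra.TensorProduct.tmul_mul_tmul, mul_one, one_mul,
        TensorProduct.tmul_sub, TensorProduct.smul_tmul, Algebra.algebraMap_eq_smul_one]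
    rw [h1]
    exact Ideal.mul_mem_left _ _ (Ideal.mem_map_of_mem _ ha)
  | add x y hx hy =>
    obtain ⟨b₁, h₁⟩ := hx
    obtain ⟨b₂, h₂⟩ := hy
    refine ⟨b₁ + b₂, ?_⟩
    have e : x + y - (b₁ + b₂) ⊗ₜ[A] (1 : S) =
        (x - b₁ ⊗ₜ[A] (1 : S)) + (y - b₂ ⊗ₜ[A] (1 : S)) := by
      rw [TensorProduct.add_tmul]; ring
    rw [e]
    exact Ideal.add_mem _ h₁ h₂

theorem isLocalRing_tensor : IsLocalRing (B ⊗[A] S) := by
  haveI : Module.FaithfullyFlat A S := HFlat.faithfullyFlat_of_isHenselization A S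
  haveI : Nontrivial (B ⊗[A] S) := inferInstance
  apply IsLocalRing.of_unique_max_ideal
  obtain ⟨M, hM⟩ := Ideal.exists_maximal (B ⊗[A] S)
  have key : ∀ (M₁ M₂ : Ideal (B ⊗[A] S)), M₁.IsMaximal → M₂.IsMaximal → M₁ ≤ M₂ := by
    intro M₁ M₂ h₁ h₂ c hc
    obtain ⟨b, hb⟩ := exists_sub_tmul_mem A B S c
    have hmap₁ : (maximalIdeal S).map (incR A B S) ≤ M₁ := by
      rw [Ideal.map_le_iff_le_comap, comap_incR_eq A B S M₁]
    have hmap₂ : (maximalIdeal S).map (incR A B S) ≤ M₂ := by
      rw [Ideal.map_le_iff_le_comap, comap_incR_eq A B S M₂]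
    have hb₁ : b ⊗ₜ[A] (1 : S) ∈ M₁ := by
      have h3 := M₁.sub_mem hc (hmap₁ hb)
      rwa [sub_sub_cancel] at h3
    have hbm : b ∈ maximalIdeal B := by
      rw [← comap_algebraMap_eq A B S M₁]
      exact hb₁
    have hb₂ : b ⊗ₜ[A] (1 : S) ∈ M₂ := by
      rw [← comap_algebraMap_eq A B S M₂] at hbm
      exact hbm
    have h4 := M₂.add_mem (hmap₂ hb) hb₂
    rwa [sub_add_cancel] at h4
  exact ⟨M, hM, fun M' hM' => le_antisymm (key M' M hM' hM) (key M M' hM hM')⟩

theorem isLocalHom_algebraMap_tensor [IsLocalRing (B ⊗[A] S)] :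
    IsLocalHom (algebraMap B (B ⊗[A] S)) := by
  constructor
  intro b hb
  by_contra hnu
  have hbm : b ∈ maximalIdeal B := (mem_maximalIdeal _).mpr hnu
  rw [← comap_algebraMap_eq A B S (maximalIdeal (B ⊗[A] S)), Ideal.mem_comap] at hbm
  exact ((mem_maximalIdeal _).mp hbm) hb

/-- for `B` local and integral over `A` (with local structure map), `B ⊗[A] Aʰ` is a
henselization of `B` -/
theorem isHenselization_tensor :
    ∃ (_ : IsLocalRing (B ⊗[A] S)) (_ : IsLocalHom (algebraMap B (B ⊗[A] S))),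
      Hensel.IsHenselization B (B ⊗[A] S) := by
  haveI hloc : IsLocalRing (B ⊗[A] S) := isLocalRing_tensor A B S
  haveI hlh : IsLocalHom (algebraMap B (B ⊗[A] S)) := isLocalHom_algebraMap_tensor A B S
  refine ⟨hloc, hlh, ?_⟩
  haveI hS : HenselianLocalRing S := Hensel.IsHenselization.henselian (R := A)
  refine ⟨henselianLocalRing_of_integral_ringHom (incR A B S) (incR_isIntegral A B S), ?_⟩
  intro T _ _ f hf
  haveI := hf
  haveI : IsLocalHom (f.comp (algebraMap A B)) := RingHom.isLocalHom_comp f (algebraMap A B)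
  obtain ⟨h, hh, huniq⟩ := Hensel.IsHenselization.universal (R := A) (S := S) T
    (f.comp (algebraMap A B)) inferInstance
  letI : Algebra A T := (f.comp (algebraMap A B)).toAlgebra
  let fB : B →ₐ[A] T := { f with commutes' := fun a => rfl }
  let hS' : S →ₐ[A] T := { h with commutes' := fun a => RingHom.congr_fun hh a }
  let G : B ⊗[A] S →ₐ[A] T := Algebra.TensorProduct.lift fB hS' (fun _ _ => Commute.all _ _)
  have hGalg : ∀ b : B, G (algebraMap B (B ⊗[A] S) b) = f b := by
    intro b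
    show G (b ⊗ₜ[A] (1 : S)) = f b
    rw [Algebra.TensorProduct.lift_tmul, map_one, mul_one]
    rfl
  have hGinc : ∀ s : S, G (incR A B S s) = h s := by
    intro s
    show G ((1 : B) ⊗ₜ[A] s) = h s
    rw [Algebra.TensorProduct.lift_tmul, map_one, one_mul]
    rfl
  refine ⟨G.toRingHom, RingHom.ext hGalg, ?_⟩
  intro G' hG'
  have hG'alg : ∀ b : B, G' (algebraMap B (B ⊗[A] S) b) = f b := RingHom.congr_fun hG'
  have h1 : G'.comp (incR A B S) = h := huniq _ (by
    refine RingHom.ext (fun a => ?_)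
    show G' (incR A B S (algebraMap A S a)) = f (algebraMap A B a)
    rw [incR_algebraMap, hG'alg])
  refine RingHom.ext (fun c => ?_)
  induction c using TensorProduct.induction_on with
  | zero => rw [map_zero, map_zero]
  | tmul b s =>
    rw [tmul_eq_mul, map_mul, map_mul, hG'alg]
    show f b * (G'.comp (incR A B S)) s = G (algebraMap B (B ⊗[A] S) b) * G (incR A B S s)
    rw [h1, hGalg, hGinc]
  | add x y hx hy => rw [map_add, map_add, hx, hy]

end Tensor

end Groth.Agent.Helper1.IH
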