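import Mathlib
import Groth.Prelude.Def_Wider

/-!
# Essential extensions and injective hulls
-/

namespace Groth.Agent.Helper1

open Function

universe u v

section Ess

variable {R : Type u} [CommRing R]

/-- `EssIn A B`: every nonzero element of `B` has a nonzero multiple in `A`. -/
def EssIn {I : Type v} [AddCommGroup I] [Module R I] (A B : Submodule R I) : Prop :=
  ∀ x ∈ B, x ≠ 0 → ∃ r : R, r • x ∈ A ∧ r • x ≠ 0

theorem isEssentialInj_iff {M E : Type v} [AddCommGroup M] [Module R M] [AddCommGroup E]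
    [Module R E] (f : M →ₗ[R] E) :
    InjHull.IsEssentialInj f ↔
      Injective f ∧ ∀ x : E, x ≠ 0 → ∃ r : R, r • x ∈ LinearMap.range f ∧ r • x ≠ 0 := by
  constructor
  · intro h
    refine ⟨h.injective, fun x hx => ?_⟩
    have h1 : Submodule.span R {x} ≠ ⊥ := by
      rw [Ne, Submodule.span_singleton_eq_bot]
      exact hx
    have h2 := h.essential _ h1
    obtain ⟨y, hy, hy0⟩ := (Submodule.ne_bot_iff _).mp h2
    obtain ⟨r, rfl⟩ := Submodule.mem_span_singleton.mp hy.1
    exact ⟨r, hy.2, hy0⟩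
  · rintro ⟨h1, h2⟩
    refine ⟨h1, fun N hN => ?_⟩
    obtain ⟨x, hx, hx0⟩ := (Submodule.ne_bot_iff _).mp hN
    obtain ⟨r, hr, hr0⟩ := h2 x hx0
    exact (Submodule.ne_bot_iff _).mpr ⟨r • x, ⟨N.smul_mem r hx, hr⟩, hr0⟩

/-- A map out of an essential extension which is injective on the base is injective. -/
theorem injective_of_comp_injective {M E : Type v} {X : Type*} [AddCommGroup M] [Module R M]
    [AddCommGroup E] [Module R E] [AddCommGroup X] [Module R X]
    (f : M →ₗ[R] E) (hf : InjHull.IsEssentialInj f)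
    (α : E →ₗ[R] X) (h : Injective (α ∘ₗ f)) : Injective α := by
  rw [← LinearMap.ker_eq_bot]
  by_contra hne
  have h1 := hf.essential _ hne
  obtain ⟨y, ⟨hy1, ⟨m, rfl⟩⟩, hy0⟩ := (Submodule.ne_bot_iff _).mp h1
  apply hy0
  have h2 : (α ∘ₗ f) m = (α ∘ₗ f) 0 := by
    rw [map_zero]
    exact LinearMap.mem_ker.mp hy1
  rw [h h2, map_zero]

/-- An injective map from an injective module splits. -/
theorem exists_isCompl_range_of_injective {E I : Type u} [AddCommGroup E] [Module R E]
    [AddCommGroup I] [Module R I]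
    (hE : Module.Injective R E) (α : E →ₗ[R] I) (hα : Injective α) :
    ∃ β : I →ₗ[R] E, β ∘ₗ α = LinearMap.id ∧ IsCompl (LinearMap.range α) (LinearMap.ker β) := by
  have := hE
  obtain ⟨β, hβ⟩ := Module.Injective.extension_property R E E I α hα LinearMap.id
  refine ⟨β, hβ, ?_⟩
  have hβ' : ∀ x, β (α x) = x := fun x => LinearMap.congr_fun hβ x
  constructor
  · rw [Submodule.disjoint_def]
    rintro x ⟨y, rfl⟩ hx
    rw [LinearMap.mem_ker, hβ'] at hx
    rw [hx, map_zero]
  · rw [codisjoint_iff, eq_top_iff]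
    intro x _
    have h1 : x = α (β x) + (x - α (β x)) := by abel
    rw [h1]
    refine Submodule.add_mem_sup ⟨β x, rfl⟩ ?_
    rw [LinearMap.mem_ker, map_sub, hβ', sub_self]

/-- A direct summand of an injective module is injective. -/
theorem injective_of_isCompl {I : Type u} [AddCommGroup I] [Module R I]
    (hI : Module.Injective R I) {E E' : Submodule R I} (h : IsCompl E E') :
    Module.Injective R E := by
  constructor
  intro X Y _ _ _ _ f hf g
  obtain ⟨k, hk⟩ := hI.out f hf (E.subtype ∘ₗ g)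
  refine ⟨(Submodule.projectionOnto E E' h) ∘ₗ k, fun x => ?_⟩
  rw [LinearMap.comp_apply, hk]
  exact Submodule.projectionOnto_apply_left h (g x)

/-- Injectivity transfers along linear equivalences. -/
theorem injective_of_linearEquiv {E E' : Type u} [AddCommGroup E] [Module R E]
    [AddCommGroup E'] [Module R E'] (e : E ≃ₗ[R] E') (hE : Module.Injective R E) :
    Module.Injective R E' :=
  Module.Baer.injective (Module.Baer.of_equiv e (Module.Baer.of_injective hE))

/-- Every module embeds into an injective module (same universe). -/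
theorem exists_injective_embedding (M : Type u) [AddCommGroup M] [Module R M] :
    ∃ (I : Type u) (_ : AddCommGroup I) (_ : Module R I) (i : M →ₗ[R] I),
      Module.Injective R I ∧ Injective i := by
  obtain ⟨P⟩ := (inferInstance : CategoryTheory.EnoughInjectives (ModuleCat.{u} R)).presentation
    (ModuleCat.of R M)
  have := P.injective
  have := P.mono
  refine ⟨P.J, inferInstance, inferInstance, P.f.hom, ?_, ?_⟩
  · exact Module.injective_module_of_injective_object R P.J
  · exact (ModuleCat.mono_iff_injective P.f).mp inferInstance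

theorem exists_maximal_essential {I : Type v} [AddCommGroup I] [Module R I]
    (A : Submodule R I) :
    ∃ E : Submodule R I, A ≤ E ∧ EssIn A E ∧
      ∀ E' : Submodule R I, E ≤ E' → EssIn A E' → E' = E := by
  let S : Set (Submodule R I) := {N | A ≤ N ∧ EssIn A N}
  have hzorn : ∃ m, Maximal (· ∈ S) m := by
    apply zorn_le₀
    intro c hcS hc
    rcases c.eq_empty_or_nonempty with rfl | hne
    · exact ⟨A, ⟨le_rfl, fun x hx hx0 => ⟨1, by rwa [one_smul], by rwa [one_smul]⟩⟩,
        fun z hz => absurd hz (Set.notMem_empty z)⟩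
    · refine ⟨sSup c, ⟨?_, ?_⟩, fun z hz => le_sSup hz⟩
      · obtain ⟨N, hN⟩ := hne
        exact (hcS hN).1.trans (le_sSup hN)
      · intro x hx hx0
        rw [Submodule.mem_sSup_of_directed hne hc.directedOn] at hx
        obtain ⟨N, hN, hxN⟩ := hx
        exact (hcS hN).2 x hxN hx0
  obtain ⟨E, hE⟩ := hzorn
  exact ⟨E, hE.prop.1, hE.prop.2, fun E' hle hess =>
    le_antisymm (hE.le_of_ge ⟨hE.prop.1.trans hle, hess⟩ hle) hle⟩

theorem exists_maximal_disjoint {I : Type v} [AddCommGroup I] [Module R I]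
    (E : Submodule R I) :
    ∃ E' : Submodule R I, Disjoint E E' ∧
      ∀ N : Submodule R I, E' ≤ N → Disjoint E N → N = E' := by
  let S : Set (Submodule R I) := {N | Disjoint E N}
  have hzorn : ∃ m, Maximal (· ∈ S) m := by
    apply zorn_le₀
    intro c hcS hc
    rcases c.eq_empty_or_nonempty with rfl | hne
    · exact ⟨⊥, disjoint_bot_right, fun z hz => absurd hz (Set.notMem_empty z)⟩
    · refine ⟨sSup c, ?_, fun z hz => le_sSup hz⟩
      change Disjoint E (sSup c)
      rw [Submodule.disjoint_def]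
      intro x hxE hx
      rw [Submodule.mem_sSup_of_directed hne hc.directedOn] at hx
      obtain ⟨N, hN, hxN⟩ := hx
      exact Submodule.disjoint_def.mp (hcS hN) x hxE hxN
  obtain ⟨E', hE'⟩ := hzorn
  exact ⟨E', hE'.prop, fun N hle hd => le_antisymm (hE'.le_of_ge hd hle) hle⟩

/-- Inside an injective module, every submodule has an essential extension which is a direct
summand. -/
theorem exists_hull_in {I : Type u} [AddCommGroup I] [Module R I] (hI : Module.Injective R I)
    (A : Submodule R I) :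
    ∃ E E' : Submodule R I, A ≤ E ∧ EssIn A E ∧ IsCompl E E' := by
  have := hI
  obtain ⟨E, hAE, hess, hmax⟩ := exists_maximal_essential A
  obtain ⟨E', hdisj, hmax'⟩ := exists_maximal_disjoint E
  refine ⟨E, E', hAE, hess, hdisj, ?_⟩
  let π : I →ₗ[R] I ⧸ E' := E'.mkQ
  have hπ0 : ∀ z, π z = 0 ↔ z ∈ E' := fun z => by
    change E'.mkQ z = 0 ↔ _
    rw [Submodule.mkQ_apply, Submodule.Quotient.mk_eq_zero]
  let j : E →ₗ[R] I ⧸ E' := π ∘ₗ E.subtype
  have hj : Injective j := by
    rw [← LinearMap.ker_eq_bot, LinearMap.ker_eq_bot']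
    intro e he
    have h1 : (e : I) ∈ E' := (hπ0 _).mp he
    have h2 := (Submodule.disjoint_def.mp hdisj) (e : I) e.2 h1
    exact Subtype.ext h2
  have hjess : ∀ y : I ⧸ E', y ≠ 0 → ∃ r : R, ∃ e : E, (e : I) ≠ 0 ∧ r • y = j e := by
    intro y hy
    obtain ⟨x, rfl⟩ := E'.mkQ_surjective y
    have hx : x ∉ E' := fun h => hy ((hπ0 x).mpr h)
    have hnd : ¬ Disjoint E (E' ⊔ Submodule.span R {x}) := by
      intro hd
      have h1 := hmax' _ le_sup_left hd
      apply hx
      rw [← h1]
      exact Submodule.mem_sup_right (Submodule.mem_span_singleton_self x)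
    rw [Submodule.disjoint_def] at hnd
    push Not at hnd
    obtain ⟨z, hzE, hz, hz0⟩ := hnd
    obtain ⟨e', he', w, hw, rfl⟩ := Submodule.mem_sup.mp hz
    obtain ⟨r, rfl⟩ := Submodule.mem_span_singleton.mp hw
    refine ⟨r, ⟨e' + r • x, hzE⟩, hz0, ?_⟩
    change r • π x = π (e' + r • x)
    rw [map_add, map_smul, (hπ0 e').mpr he', zero_add]
  obtain ⟨ψ, hψ⟩ := Module.Injective.extension_property R I E (I ⧸ E') j hj E.subtype
  have hψ' : ∀ e : E, ψ (j e) = (e : I) := fun e => LinearMap.congr_fun hψ e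
  have hψinj : Injective ψ := by
    rw [← LinearMap.ker_eq_bot, LinearMap.ker_eq_bot']
    intro y hy
    by_contra hy0
    obtain ⟨r, e, he0, hre⟩ := hjess y hy0
    apply he0
    rw [← hψ' e, ← hre, map_smul, hy, smul_zero]
  have hrange : LinearMap.range ψ = E := by
    apply hmax
    · intro e he
      exact ⟨j ⟨e, he⟩, hψ' ⟨e, he⟩⟩
    · rintro z ⟨y, rfl⟩ hz0
      have hy0 : y ≠ 0 := by
        rintro rfl
        exact hz0 (map_zero ψ)
      obtain ⟨r, e, he0, hre⟩ := hjess y hy0
      obtain ⟨s, hs, hs0⟩ := hess (e : I) e.2 he0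
      refine ⟨s * r, ?_, ?_⟩
      · rw [mul_smul, ← map_smul, hre, hψ']
        exact hs
      · rw [mul_smul, ← map_smul, hre, hψ']
        exact hs0
  rw [codisjoint_iff, eq_top_iff]
  intro x _
  have h1 : ψ (π x) ∈ E := by
    rw [← hrange]
    exact ⟨π x, rfl⟩
  have h2 : ψ (j ⟨ψ (π x), h1⟩) = ψ (π x) := hψ' _
  have h3 : j ⟨ψ (π x), h1⟩ = π x := hψinj h2
  have h4 : x - ψ (π x) ∈ E' := by
    rw [← hπ0, map_sub, sub_eq_zero]
    exact h3.symm
  have h5 : x = ψ (π x) + (x - ψ (π x)) := by abel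
  rw [h5]
  exact Submodule.add_mem_sup h1 h4

/-- Existence of injective hulls. -/
theorem exists_injectiveHull (M : Type u) [AddCommGroup M] [Module R M] :
    ∃ (E : Type u) (_ : AddCommGroup E) (_ : Module R E) (f : M →ₗ[R] E),
      InjHull.IsInjectiveHull f := by
  obtain ⟨I, _, _, i, hI, hi⟩ := exists_injective_embedding (R := R) M
  obtain ⟨E, E', hAE, hess, hcompl⟩ := exists_hull_in hI (LinearMap.range i)
  let f : M →ₗ[R] E := i.codRestrict E (fun m => hAE ⟨m, rfl⟩)
  refine ⟨E, inferInstance, inferInstance, f, ⟨?_, injective_of_isCompl hI hcompl⟩⟩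
  rw [isEssentialInj_iff]
  refine ⟨fun a b hab => hi (congrArg Subtype.val hab), fun x hx => ?_⟩
  obtain ⟨r, hr, hr0⟩ := hess (x : I) x.2 (fun h => hx (Subtype.ext h))
  obtain ⟨m, hm⟩ := hr
  refine ⟨r, ⟨m, Subtype.ext ?_⟩, fun h => hr0 ?_⟩
  · exact hm
  · exact congrArg Subtype.val h

/-- Comparison of a hull with an arbitrary injective extension. -/
theorem exists_embedding_of_hull {M E I : Type u} [AddCommGroup M] [Module R M]
    [AddCommGroup E] [Module R E] [AddCommGroup I] [Module R I]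
    (f : M →ₗ[R] E) (hf : InjHull.IsInjectiveHull f) (i : M →ₗ[R] I) (hi : Injective i)
    (hI : Module.Injective R I) :
    ∃ (α : E →ₗ[R] I) (β : I →ₗ[R] E), Injective α ∧ α ∘ₗ f = i ∧ β ∘ₗ α = LinearMap.id ∧
      IsCompl (LinearMap.range α) (LinearMap.ker β) := by
  have := hI
  obtain ⟨α, hα⟩ := Module.Injective.extension_property R I M E f hf.injective i
  have hαinj : Injective α := by
    apply injective_of_comp_injective f hf.toIsEssentialInj α
    rw [hα]
    exact hi
  obtain ⟨β, hβ, hc⟩ := exists_isCompl_range_of_injective hf.isInjective α hαinj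
  exact ⟨α, β, hαinj, hα, hβ, hc⟩

/-- Uniqueness of injective hulls. -/
theorem exists_linearEquiv_of_hulls {M E E' : Type u} [AddCommGroup M] [Module R M]
    [AddCommGroup E] [Module R E] [AddCommGroup E'] [Module R E']
    (f : M →ₗ[R] E) (hf : InjHull.IsInjectiveHull f) (g : M →ₗ[R] E')
    (hg : InjHull.IsInjectiveHull g) : ∃ e : E ≃ₗ[R] E', e.toLinearMap ∘ₗ f = g := by
  obtain ⟨α, β, hα, hαf, hβα, hc⟩ := exists_embedding_of_hull f hf g hg.injective hg.isInjective
  have hβα' : ∀ x, β (α x) = x := fun x => LinearMap.congr_fun hβα x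
  have hker : LinearMap.ker β = ⊥ := by
    by_contra hne
    have h1 := hg.essential _ hne
    obtain ⟨y, ⟨hy1, ⟨m, rfl⟩⟩, hy0⟩ := (Submodule.ne_bot_iff _).mp h1
    apply hy0
    have h2 : g m ∈ LinearMap.range α := ⟨f m, LinearMap.congr_fun hαf m⟩
    exact Submodule.disjoint_def.mp hc.disjoint _ h2 hy1
  have hsurj : Surjective α := by
    rw [← LinearMap.range_eq_top]
    have h1 := hc.sup_eq_top
    rwa [hker, sup_bot_eq] at h1
  exact ⟨LinearEquiv.ofBijective α ⟨hα, hsurj⟩, hαf⟩

end Ess

end Groth.Agent.Helper1
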