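import Mathlib
import Groth.Prelude.Def_Wider
import Groth.Agent.Lib.Helper1.InjHullLib

/-!
# Indecomposable injective modules
-/

namespace Groth.Agent.Helper1

open Function

universe u v

section Indec

variable {R : Type u} [CommRing R]

/-- In an indecomposable injective module every nonzero submodule is essential. -/
theorem essIn_top_of_indecomposable {E : Type u} [AddCommGroup E] [Module R E]
    (hE : InjHull.IsIndecomposable R E) (hinj : Module.Injective R E)
    (N : Submodule R E) (hN : N ≠ ⊥) : EssIn N ⊤ := by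
  obtain ⟨H, H', hNH, hess, hc⟩ := exists_hull_in hinj N
  rcases hE.2 H H' hc with h | h
  · exfalso
    apply hN
    rw [eq_bot_iff, ← h]
    exact hNH
  · have h1 : H = ⊤ := by
      have h2 := hc.sup_eq_top
      rwa [h, sup_bot_eq] at h2
    rw [← h1]
    exact hess

/-- A module which is an essential extension of a cyclic module `R/p`, `p` prime,
is indecomposable. -/
theorem isIndecomposable_of_essential_cyclic_prime {E : Type v} [AddCommGroup E] [Module R E]
    (p : Ideal R) [hp : p.IsPrime] (y : E) (hy : ∀ r : R, r • y = 0 ↔ r ∈ p)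
    (hess : ∀ x : E, x ≠ 0 → ∃ r a : R, r • x = a • y ∧ a ∉ p) :
    InjHull.IsIndecomposable R E := by
  have hy0 : y ≠ 0 := by
    intro h
    have h1 : (1 : R) ∈ p := (hy 1).mp (by rw [h, smul_zero])
    exact hp.ne_top ((Ideal.eq_top_iff_one _).mpr h1)
  refine ⟨⟨⟨y, 0, hy0⟩⟩, fun N N' hc => ?_⟩
  by_contra hne
  push Not at hne
  obtain ⟨n, hn, hn0⟩ := (Submodule.ne_bot_iff _).mp hne.1
  obtain ⟨n', hn', hn0'⟩ := (Submodule.ne_bot_iff _).mp hne.2
  obtain ⟨r, a, hra, ha⟩ := hess n hn0
  obtain ⟨r', a', hra', ha'⟩ := hess n' hn0'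
  have h1 : (a * a') • y ∈ N := by
    rw [mul_comm, mul_smul, ← hra]
    exact N.smul_mem _ (N.smul_mem _ hn)
  have h2 : (a * a') • y ∈ N' := by
    rw [mul_smul, ← hra']
    exact N'.smul_mem _ (N'.smul_mem _ hn')
  have h3 : (a * a') • y = 0 := Submodule.disjoint_def.mp hc.disjoint _ h1 h2
  have h4 := (hy _).mp h3
  rcases hp.mem_or_mem h4 with h | h
  · exact ha h
  · exact ha' h

/-- A hull of `R/p` is also a hull of the residue field `κ(p)`. -/
theorem exists_hull_residueField (p : Ideal R) [p.IsPrime] {E : Type u} [AddCommGroup E]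
    [Module R E] (f : (R ⧸ p) →ₗ[R] E) (hf : InjHull.IsInjectiveHull f) :
    ∃ g : p.ResidueField →ₗ[R] E, InjHull.IsInjectiveHull g := by
  have := hf.isInjective
  let ι : (R ⧸ p) →ₗ[R] p.ResidueField :=
    (IsScalarTower.toAlgHom R (R ⧸ p) p.ResidueField).toLinearMap
  have hιa : ∀ a, ι a = algebraMap (R ⧸ p) p.ResidueField a := fun a => rfl
  have hι : Injective ι := by
    intro a b hab
    rw [hιa, hιa] at hab
    exact Ideal.injective_algebraMap_quotient_residueField p hab
  have hιess : ∀ x : p.ResidueField, x ≠ 0 → ∃ r : R, ∃ a : R ⧸ p, r • x = ι a ∧ a ≠ 0 := by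
    intro x hx
    obtain ⟨⟨a, s⟩, h⟩ := IsLocalization.surj (nonZeroDivisors (R ⧸ p)) x
    obtain ⟨r, hr⟩ := Ideal.Quotient.mk_surjective (s : R ⧸ p)
    refine ⟨r, a, ?_, ?_⟩
    · rw [hιa]
      rw [← h, Algebra.smul_def, IsScalarTower.algebraMap_apply R (R ⧸ p) p.ResidueField,
        Ideal.Quotient.algebraMap_eq, hr, mul_comm]
    · rintro rfl
      rw [map_zero] at h
      have hs : algebraMap (R ⧸ p) p.ResidueField (s : R ⧸ p) ≠ 0 := by
        intro h0
        have h1 : (s : R ⧸ p) = 0 :=
          Ideal.injective_algebraMap_quotient_residueField p (h0.trans (map_zero _).symm)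
        exact nonZeroDivisors.coe_ne_zero s h1
      exact hx ((mul_eq_zero.mp h).resolve_right hs)
  obtain ⟨g, hg⟩ := Module.Injective.extension_property R E (R ⧸ p) p.ResidueField ι hι f
  have hg' : ∀ a, g (ι a) = f a := fun a => LinearMap.congr_fun hg a
  have hginj : Injective g := by
    rw [← LinearMap.ker_eq_bot, LinearMap.ker_eq_bot']
    intro x hx
    by_contra hx0
    obtain ⟨r, a, hra, ha⟩ := hιess x hx0
    apply ha
    apply hf.injective
    rw [map_zero, ← hg', ← hra, map_smul, hx, smul_zero]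
  refine ⟨g, ⟨?_, hf.isInjective⟩⟩
  rw [isEssentialInj_iff]
  refine ⟨hginj, fun y hy => ?_⟩
  obtain ⟨r, ⟨a, ha⟩, hr0⟩ := ((isEssentialInj_iff f).mp hf.toIsEssentialInj).2 y hy
  exact ⟨r, ⟨ι a, by rw [hg', ha]⟩, hr0⟩

/-- An injective module which is an essential extension of a cyclic submodule `R y` with
annihilator `p` is an injective hull of `R/p`. -/
theorem isInjectiveHull_of_cyclic {E : Type u} [AddCommGroup E] [Module R E]
    (hE : Module.Injective R E) (p : Ideal R) (y : E) (hy : ∀ r : R, r • y = 0 ↔ r ∈ p)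
    (hess : ∀ x : E, x ≠ 0 → ∃ r a : R, r • x = a • y ∧ a ∉ p) :
    ∃ f : (R ⧸ p) →ₗ[R] E, InjHull.IsInjectiveHull f ∧ f 1 = y := by
  have hle : p ≤ LinearMap.ker (LinearMap.toSpanSingleton R E y) := by
    intro r hr
    rw [LinearMap.mem_ker, LinearMap.toSpanSingleton_apply]
    exact (hy r).mpr hr
  let f : (R ⧸ p) →ₗ[R] E := Submodule.liftQ p (LinearMap.toSpanSingleton R E y) hle
  have hf : ∀ r : R, f (Ideal.Quotient.mk p r) = r • y := fun r => by
    change (Submodule.liftQ p (LinearMap.toSpanSingleton R E y) hle) (Submodule.Quotient.mk r) = _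
    rw [Submodule.liftQ_apply, LinearMap.toSpanSingleton_apply]
  refine ⟨f, ⟨?_, hE⟩, ?_⟩
  · rw [isEssentialInj_iff]
    constructor
    · rw [← LinearMap.ker_eq_bot, LinearMap.ker_eq_bot']
      intro a ha
      obtain ⟨r, rfl⟩ := Ideal.Quotient.mk_surjective a
      rw [hf, hy] at ha
      exact Ideal.Quotient.eq_zero_iff_mem.mpr ha
    · intro x hx
      obtain ⟨r, a, hra, ha⟩ := hess x hx
      refine ⟨r, ⟨Ideal.Quotient.mk p a, by rw [hf, hra]⟩, ?_⟩
      rw [hra, Ne, hy]
      exact ha
  · have h1 := hf 1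
    rwa [one_smul, map_one] at h1

/-- The element-wise data of a hull of `R/p`. -/
theorem cyclic_data_of_hull (p : Ideal R) {E : Type u} [AddCommGroup E]
    [Module R E] (f : (R ⧸ p) →ₗ[R] E) (hf : InjHull.IsEssentialInj f) :
    (∀ r : R, r • f 1 = 0 ↔ r ∈ p) ∧
      ∀ x : E, x ≠ 0 → ∃ r a : R, r • x = a • f 1 ∧ a ∉ p := by
  have h1 : ∀ r : R, r • f 1 = f (Ideal.Quotient.mk p r) := by
    intro r
    rw [← map_smul]
    congr 1
    rw [Algebra.smul_def, mul_one]
    rfl
  have h2 : ∀ r : R, r • f 1 = 0 ↔ r ∈ p := by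
    intro r
    rw [h1, map_eq_zero_iff f hf.injective, Ideal.Quotient.eq_zero_iff_mem]
  refine ⟨h2, fun x hx => ?_⟩
  obtain ⟨r, ⟨a, ha⟩, hr0⟩ := ((isEssentialInj_iff f).mp hf).2 x hx
  obtain ⟨b, rfl⟩ := Ideal.Quotient.mk_surjective a
  refine ⟨r, b, ?_, ?_⟩
  · rw [h1, ha]
  · rw [← h2, h1, ha]
    exact hr0

theorem sSupIndep_insert {α : Type*} [CompleteLattice α] [IsModularLattice α] {s : Set α} {H : α}
    (hs : sSupIndep s) (hH : Disjoint H (sSup s)) (hHs : H ∉ s) : sSupIndep (insert H s) := by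
  intro a ha
  rcases Set.mem_insert_iff.mp ha with rfl | ha'
  · rw [Set.insert_sdiff_self_of_notMem hHs]
    exact hH
  · have hne : H ≠ a := fun h => hHs (h ▸ ha')
    rw [← Set.insert_sdiff_singleton_comm hne, sSup_insert, sup_comm]
    apply Disjoint.disjoint_sup_right_of_disjoint_sup_left (hs ha')
    refine hH.symm.mono_left ?_
    rw [sup_le_iff]
    exact ⟨le_sSup ha', sSup_le_sSup Set.sdiff_subset⟩

/-- Over a Noetherian ring, direct sums of injective modules are injective. -/
theorem injective_directSum [IsNoetherianRing R] {ι : Type u} (E : ι → Type u)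
    [∀ i, AddCommGroup (E i)] [∀ i, Module R (E i)] (hE : ∀ i, Module.Injective R (E i)) :
    Module.Injective R (DirectSum ι E) := by
  classical
  apply Module.Baer.injective
  intro I g
  obtain ⟨s, rfl⟩ : I.FG := IsNoetherian.noetherian I
  let F : Finset ι := s.biUnion fun a =>
    if h : a ∈ Ideal.span (s : Set R) then DFinsupp.support (g ⟨a, h⟩) else ∅
  have hF : ∀ (x : R) (hx : x ∈ Ideal.span (s : Set R)) (i : ι), i ∉ F → g ⟨x, hx⟩ i = 0 := by
    intro x hx i hi
    induction hx using Submodule.span_induction with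
    | mem a ha =>
      have h1 : a ∈ Ideal.span (s : Set R) := Ideal.subset_span ha
      by_contra hne
      apply hi
      rw [Finset.mem_biUnion]
      refine ⟨a, ha, ?_⟩
      rw [dif_pos h1, DFinsupp.mem_support_iff]
      exact hne
    | zero =>
      have : (⟨0, Submodule.zero_mem _⟩ : Ideal.span (s : Set R)) = 0 := rfl
      rw [this, map_zero]
      rfl
    | add a b ha hb h1 h2 =>
      have : (⟨a + b, Submodule.add_mem _ ha hb⟩ : Ideal.span (s : Set R)) = ⟨a, ha⟩ + ⟨b, hb⟩ := rfl
      rw [this, map_add, DirectSum.add_apply, h1, h2, add_zero]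
    | smul r a ha h1 =>
      have : (⟨r • a, Submodule.smul_mem _ r ha⟩ : Ideal.span (s : Set R)) = r • ⟨a, ha⟩ := rfl
      rw [this, map_smul, DirectSum.smul_apply, h1, smul_zero]
  have hext : ∀ i, ∃ g' : R →ₗ[R] E i, ∀ (x : R) (mem : x ∈ Ideal.span (s : Set R)),
      g' x = (DirectSum.component R ι E i ∘ₗ g) ⟨x, mem⟩ :=
    fun i => Module.Baer.of_injective (hE i) _ _
  choose g' hg' using hext
  refine ⟨∑ i ∈ F, DirectSum.lof R ι E i ∘ₗ g' i, fun x hx => ?_⟩
  refine DirectSum.ext_component R fun j => ?_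
  rw [LinearMap.sum_apply, map_sum]
  by_cases hj : j ∈ F
  · rw [Finset.sum_eq_single j]
    · rw [LinearMap.comp_apply, DirectSum.component.lof_self, hg' j x hx]
      rfl
    · intro i _ hij
      rw [LinearMap.comp_apply, DirectSum.component.of, dif_neg hij]
    · intro h
      exact absurd hj h
  · rw [Finset.sum_eq_zero]
    · exact (hF x hx j hj).symm
    · intro i hi
      have hij : i ≠ j := fun h => hj (h ▸ hi)
      rw [LinearMap.comp_apply, DirectSum.component.of, dif_neg hij]

/-- Over a Noetherian ring every injective module is the internal direct sum of an independent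
family of indecomposable injective submodules. -/
theorem exists_indecomposable_decomposition [IsNoetherianRing R] {I : Type u} [AddCommGroup I]
    [Module R I] (hI : Module.Injective R I) :
    ∃ F : Set (Submodule R I), sSupIndep F ∧ sSup F = ⊤ ∧
      ∀ N ∈ F, InjHull.IsIndecomposable R N ∧ Module.Injective R N := by
  classical
  let PP : Set (Submodule R I) := {N | InjHull.IsIndecomposable R N ∧ Module.Injective R N}
  let S : Set (Set (Submodule R I)) := {F | F ⊆ PP ∧ sSupIndep F}
  obtain ⟨F, hF⟩ : ∃ m, Maximal (· ∈ S) m := by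
    apply zorn_subset
    intro c hcS hc
    refine ⟨⋃₀ c, ⟨?_, ?_⟩, fun s hs => Set.subset_sUnion_of_mem hs⟩
    · intro N hN
      obtain ⟨s, hs, hNs⟩ := Set.mem_sUnion.mp hN
      exact (hcS hs).1 hNs
    · exact iSupIndep_sUnion_of_directed hc.directedOn (fun a ha => (hcS ha).2)
  refine ⟨F, hF.prop.2, ?_, fun N hN => hF.prop.1 hN⟩
  by_contra htop
  have hJinj : Module.Injective R ↥(sSup F) := by
    have hind : iSupIndep ((↑) : F → Submodule R I) := (sSupIndep_iff F).mp hF.prop.2
    have hDS : Module.Injective R (DirectSum F fun i => ↥(i : Submodule R I)) :=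
      injective_directSum (fun i : F => ↥(i : Submodule R I)) (fun i => (hF.prop.1 i.2).2)
    let φ : (DirectSum F fun i => ↥(i : Submodule R I)) →ₗ[R] I :=
      DirectSum.coeLinearMap (fun i : F => (i : Submodule R I))
    have hφ : Injective φ := hind.dfinsupp_lsum_injective
    have hrange : LinearMap.range φ = sSup F := by
      rw [sSup_eq_iSup']
      exact (Submodule.iSup_eq_range_dfinsupp_lsum _).symm
    exact injective_of_linearEquiv
      ((LinearEquiv.ofInjective φ hφ).trans (LinearEquiv.ofEq _ _ hrange)) hDS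
  obtain ⟨β, -, hc⟩ := exists_isCompl_range_of_injective hJinj (sSup F).subtype
    (Submodule.injective_subtype _)
  rw [Submodule.range_subtype] at hc
  have hJ'ne : LinearMap.ker β ≠ ⊥ := by
    intro h
    apply htop
    have h1 := hc.sup_eq_top
    rwa [h, sup_bot_eq] at h1
  obtain ⟨x', hx', hx0'⟩ := (Submodule.ne_bot_iff _).mp hJ'ne
  have hx0'' : (⟨x', hx'⟩ : LinearMap.ker β) ≠ 0 := fun h => hx0' (congrArg Subtype.val h)
  obtain ⟨P, hP, -⟩ := exists_le_isAssociatedPrime_of_isNoetherianRing R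
    (⟨x', hx'⟩ : LinearMap.ker β) hx0''
  obtain ⟨hPprime, y, hy⟩ := isAssociatedPrime_iff.mp hP
  have hyann : ∀ r : R, r • (y : I) = 0 ↔ r ∈ P := by
    intro r
    rw [hy, Submodule.mem_colon_singleton, Submodule.mem_bot]
    constructor
    · intro h
      exact Subtype.ext h
    · intro h
      exact congrArg Subtype.val h
  obtain ⟨H, H', hAH, hess, hHc⟩ := exists_hull_in hI (Submodule.span R {(y : I)})
  have hyH : (y : I) ∈ H := hAH (Submodule.mem_span_singleton_self _)
  have hess' : ∀ x ∈ H, x ≠ 0 → ∃ r a : R, r • x = a • (y : I) ∧ a ∉ P := by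
    intro x hx hx0
    obtain ⟨r, hr, hr0⟩ := hess x hx hx0
    obtain ⟨a, ha⟩ := Submodule.mem_span_singleton.mp hr
    refine ⟨r, a, ha.symm, fun haP => hr0 ?_⟩
    rw [← ha]
    exact (hyann a).mpr haP
  have hHindec : InjHull.IsIndecomposable R H := by
    apply isIndecomposable_of_essential_cyclic_prime P (⟨(y : I), hyH⟩ : H)
    · intro r
      rw [← hyann r]
      constructor
      · intro h
        exact congrArg Subtype.val h
      · intro h
        exact Subtype.ext h
    · intro x hx
      obtain ⟨r, a, hra, ha⟩ := hess' (x : I) x.2 (fun h => hx (Subtype.ext h))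
      exact ⟨r, a, Subtype.ext hra, ha⟩
  have hHinj : Module.Injective R H := injective_of_isCompl hI hHc
  have hy0 : (y : I) ≠ 0 := by
    intro h
    have h1 : (1 : R) ∈ P := (hyann 1).mp (by rw [h, smul_zero])
    exact hPprime.ne_top ((Ideal.eq_top_iff_one _).mpr h1)
  have hdisj : Disjoint H (sSup F) := by
    rw [Submodule.disjoint_def]
    intro z hzH hzJ
    by_contra hz0
    obtain ⟨r, a, hra, ha⟩ := hess' z hzH hz0
    have h1 : r • z ∈ sSup F := Submodule.smul_mem _ r hzJ
    have h2 : r • z ∈ LinearMap.ker β := by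
      rw [hra]
      exact Submodule.smul_mem _ a y.2
    have h3 : r • z = 0 := Submodule.disjoint_def.mp hc.disjoint _ h1 h2
    rw [hra] at h3
    exact ha ((hyann a).mp h3)
  have hHF : H ∉ F := by
    intro h
    have h1 : H ≤ sSup F := le_sSup h
    have h2 : (y : I) = 0 := Submodule.disjoint_def.mp hdisj _ hyH (h1 hyH)
    exact hy0 h2
  have hins : insert H F ∈ S := by
    refine ⟨?_, sSupIndep_insert hF.prop.2 hdisj hHF⟩
    intro N hN
    rcases Set.mem_insert_iff.mp hN with rfl | hN'
    · exact ⟨hHindec, hHinj⟩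
    · exact hF.prop.1 hN'
  exact hHF (hF.le_of_ge hins (Set.subset_insert H F) (Set.mem_insert H F))

end Indec

end Groth.Agent.Helper1
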