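import Mathlib

/-!
# Krull–Akizuki, part 1: relative lengths of nested submodules
-/

set_option autoImplicit false

namespace Groth.Agent.Helper1.KA

universe u

section RelLen

variable {R : Type*} [CommRing R] {V : Type*} [AddCommGroup V] [Module R V]

/-- the length of `B / A` for submodules `A ≤ B` of an ambient module -/
noncomputable def relLen (A B : Submodule R V) : ℕ∞ := Module.length R (B ⧸ A.submoduleOf B)

theorem relLen_chain {A B C : Submodule R V} (hAB : A ≤ B) (hBC : B ≤ C) :
    relLen A C = relLen A B + relLen B C := by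
  let f : (B ⧸ A.submoduleOf B) →ₗ[R] (C ⧸ A.submoduleOf C) :=
    Submodule.mapQ _ _ (Submodule.inclusion hBC) (fun b hb => hb)
  let g : (C ⧸ A.submoduleOf C) →ₗ[R] (C ⧸ B.submoduleOf C) :=
    Submodule.mapQ _ _ LinearMap.id (fun c hc => hAB hc)
  have hf : Function.Injective f := by
    rw [injective_iff_map_eq_zero]
    intro y hy
    obtain ⟨b, rfl⟩ := Submodule.Quotient.mk_surjective _ y
    rw [Submodule.Quotient.mk_eq_zero]
    have h1 : f (Submodule.Quotient.mk b) = Submodule.Quotient.mk (Submodule.inclusion hBC b) := rfl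
    rw [h1, Submodule.Quotient.mk_eq_zero] at hy
    exact hy
  have hg : Function.Surjective g := by
    intro y
    obtain ⟨c, rfl⟩ := Submodule.Quotient.mk_surjective _ y
    exact ⟨Submodule.Quotient.mk c, rfl⟩
  have hex : Function.Exact f g := by
    intro y
    obtain ⟨c, rfl⟩ := Submodule.Quotient.mk_surjective _ y
    have h1 : g (Submodule.Quotient.mk c) = Submodule.Quotient.mk c := rfl
    rw [h1, Submodule.Quotient.mk_eq_zero]
    constructor
    · intro hc
      refine ⟨Submodule.Quotient.mk ⟨(c : V), hc⟩, ?_⟩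
      rfl
    · rintro ⟨y', hy'⟩
      obtain ⟨b, rfl⟩ := Submodule.Quotient.mk_surjective _ y'
      have h2 : f (Submodule.Quotient.mk b) = Submodule.Quotient.mk (Submodule.inclusion hBC b) := rfl
      rw [h2, Submodule.Quotient.eq] at hy'
      -- hy' : inclusion b - c ∈ A.submoduleOf C
      have h3 : ((Submodule.inclusion hBC b - c : C) : V) ∈ A := hy'
      have h4 : (c : V) = (b : V) - ((Submodule.inclusion hBC b - c : C) : V) := by
        simp
      show (c : V) ∈ B
      rw [h4]
      exact B.sub_mem b.2 (hAB h3)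
  exact Module.length_eq_add_of_exact f g hf hg hex

theorem relLen_map {V' : Type*} [AddCommGroup V'] [Module R V'] (e : V ≃ₗ[R] V')
    (A B : Submodule R V) :
    relLen (A.map (e : V →ₗ[R] V')) (B.map (e : V →ₗ[R] V')) = relLen A B := by
  have hmap : (A.submoduleOf B).map ((e.submoduleMap B : B ≃ₗ[R] B.map (e : V →ₗ[R] V')) :
      B →ₗ[R] B.map (e : V →ₗ[R] V')) = (A.map (e : V →ₗ[R] V')).submoduleOf (B.map (e : V →ₗ[R] V')) := by
    ext ⟨y, hy⟩
    constructor
    · rintro ⟨b, hb, hby⟩
      have h1 : e (b : V) = y := congrArg Subtype.val hby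
      exact ⟨(b : V), hb, h1⟩
    · rintro ⟨a, ha, hay⟩
      obtain ⟨b, hb, hby⟩ := hy
      have hab : a = b := e.injective (show e a = e b from hay.trans hby.symm)
      refine ⟨⟨b, hb⟩, ?_, Subtype.ext hby⟩
      show (b : V) ∈ A
      rw [← hab]; exact ha
  exact (Submodule.Quotient.equiv _ _ (e.submoduleMap B) hmap).length_eq.symm

end RelLen

section FG

variable {R : Type*} [CommRing R] {T : Type*} [AddCommGroup T] [Module R T]

/-- the length is bounded as soon as it is bounded on finitely generated submodules -/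
theorem length_le_of_forall_fg (n : ℕ)
    (h : ∀ Q : Submodule R T, Q.FG → Module.length R Q ≤ n) : Module.length R T ≤ n := by
  by_contra hcon
  rw [not_le] at hcon
  have h1 : ((n + 1 : ℕ) : WithBot ℕ∞) ≤ Order.krullDim (Submodule R T) := by
    rw [← Module.coe_length]
    have : ((n + 1 : ℕ) : ℕ∞) ≤ Module.length R T := by
      rw [Nat.cast_add, Nat.cast_one]
      exact Order.add_one_le_of_lt hcon
    exact_mod_cast this
  obtain ⟨p, hp⟩ := Order.le_krullDim_iff.mp h1
  -- choose elements witnessing strictness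
  have hstep : ∀ i : Fin p.length, ∃ t : T, t ∈ p i.succ ∧ t ∉ p i.castSucc := fun i =>
    SetLike.exists_of_lt (p.step i)
  choose t ht1 ht2 using hstep
  let Q : Submodule R T := Submodule.span R (Set.range t)
  have hQ : Q.FG := Submodule.fg_span (Set.finite_range t)
  have htQ : ∀ i, t i ∈ Q := fun i => Submodule.subset_span (Set.mem_range_self i)
  -- the induced chain in `Q`
  let q : LTSeries (Submodule R Q) :=
    { length := p.length
      toFun := fun i => (p i).comap Q.subtype
      step := fun i => by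
        show (p i.castSucc).comap Q.subtype < (p i.succ).comap Q.subtype
        refine lt_of_le_of_ne (Submodule.comap_mono (p.step i).le) ?_
        intro heq
        have h2 : (⟨t i, htQ i⟩ : Q) ∈ (p i.succ).comap Q.subtype := ht1 i
        rw [← heq] at h2
        exact ht2 i h2 }
  have h2 : ((n + 1 : ℕ) : WithBot ℕ∞) ≤ Order.krullDim (Submodule R Q) :=
    Order.le_krullDim_iff.mpr ⟨q, hp⟩
  rw [← Module.coe_length] at h2
  have h3 : ((n + 1 : ℕ) : ℕ∞) ≤ Module.length R Q := by exact_mod_cast h2
  have h4 := h Q hQ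
  have h5 : ((n + 1 : ℕ) : ℕ∞) ≤ (n : ℕ∞) := h3.trans h4
  rw [Nat.cast_le] at h5
  omega

end FG

section Artinian

variable {R : Type*} [CommRing R] [IsDomain R] [IsNoetherianRing R]

theorem length_quotient_span_singleton_ne_top (hdim : ringKrullDim R ≤ 1) {x : R} (hx : x ≠ 0) :
    Module.length R (R ⧸ Ideal.span ({x} : Set R)) ≠ ⊤ := by
  have h1 : Ring.KrullDimLE 1 R := Ring.krullDimLE_iff.mpr hdim
  have hmax : ∀ I : Ideal R, I ≠ ⊥ → I.IsPrime → I.IsMaximal :=
    Ring.krullDimLE_one_iff_of_noZeroDivisors.mp h1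
  have h0 : Ring.KrullDimLE 0 (R ⧸ Ideal.span ({x} : Set R)) := by
    rw [Ring.krullDimLE_zero_iff]
    intro P hP
    have hP' : (P.comap (Ideal.Quotient.mk (Ideal.span ({x} : Set R)))).IsPrime := Ideal.comap_isPrime _ _
    have hne : P.comap (Ideal.Quotient.mk (Ideal.span ({x} : Set R))) ≠ ⊥ := by
      intro hbot
      have hxmem : x ∈ P.comap (Ideal.Quotient.mk (Ideal.span ({x} : Set R))) := by
        rw [Ideal.mem_comap]
        have : Ideal.Quotient.mk (Ideal.span ({x} : Set R)) x = 0 :=
          Ideal.Quotient.eq_zero_iff_mem.mpr (Ideal.mem_span_singleton_self x)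
        rw [this]; exact P.zero_mem
      rw [hbot, Ideal.mem_bot] at hxmem
      exact hx hxmem
    have hmax' := hmax _ hne hP'
    have := Ideal.map_eq_top_or_isMaximal_of_surjective
      (Ideal.Quotient.mk (Ideal.span ({x} : Set R))) Ideal.Quotient.mk_surjective hmax'
    rw [Ideal.map_comap_of_surjective _ Ideal.Quotient.mk_surjective] at this
    exact this.resolve_left hP.ne_top
  have hart : IsArtinianRing (R ⧸ Ideal.span ({x} : Set R)) :=
    isArtinianRing_iff_krullDimLE_zero.mpr h0
  rw [Module.length_eq_of_surjective (R := R ⧸ Ideal.span ({x} : Set R)) (S := R)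
    (M := R ⧸ Ideal.span ({x} : Set R)) Ideal.Quotient.mk_surjective]
  exact Module.length_ne_top

end Artinian

end Groth.Agent.Helper1.KA
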