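import Groth.Agent.Lib.Helper1.KA1

/-!
# Krull–Akizuki, part 2: the length bound and the Noetherian property
-/

set_option autoImplicit false

namespace Groth.Agent.Helper1.KA

universe u

section P2

variable {R : Type*} [CommRing R] {V : Type*} [AddCommGroup V] [Module R V]

/-- If `a` multiplies the generators `m i` of `B` into `F ≤ B`, then `B / F` has length at most
`s * length (R / a)`. -/
theorem relLen_le_of_smul_mem {s : ℕ} (m : Fin s → V) (F : Submodule R V)
    (hF : F ≤ Submodule.span R (Set.range m)) (a : R) (ha : ∀ i, a • m i ∈ F) :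
    relLen F (Submodule.span R (Set.range m)) ≤
      s * Module.length R (R ⧸ Ideal.span ({a} : Set R)) := by
  classical
  have hmB : ∀ i, m i ∈ Submodule.span R (Set.range m) :=
    fun i => Submodule.subset_span (Set.mem_range_self i)
  obtain ⟨tm, htm⟩ : ∃ tm : Fin s → (↥(Submodule.span R (Set.range m)) ⧸
      F.submoduleOf (Submodule.span R (Set.range m))),
      ∀ i, tm i = Submodule.Quotient.mk ⟨m i, hmB i⟩ := ⟨_, fun _ => rfl⟩
  have hkill : ∀ i, (Ideal.span ({a} : Set R) : Submodule R R) ≤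
      LinearMap.ker (LinearMap.toSpanSingleton R _ (tm i)) := by
    intro i
    rw [Ideal.span, Submodule.span_le]
    intro y hy
    rw [Set.mem_singleton_iff] at hy
    rw [hy]
    show LinearMap.toSpanSingleton R _ (tm i) a = 0
    rw [LinearMap.toSpanSingleton_apply, htm, ← Submodule.Quotient.mk_smul,
      Submodule.Quotient.mk_eq_zero]
    exact ha i
  let g : ∀ i : Fin s, (R ⧸ Ideal.span ({a} : Set R)) →ₗ[R]
      (↥(Submodule.span R (Set.range m)) ⧸ F.submoduleOf (Submodule.span R (Set.range m))) :=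
    fun i => Submodule.liftQ _ (LinearMap.toSpanSingleton R _ (tm i)) (hkill i)
  have hg : ∀ i (c : R), g i (Submodule.Quotient.mk c) = c • tm i := by
    intro i c
    show Submodule.liftQ _ (LinearMap.toSpanSingleton R _ (tm i)) (hkill i)
      (Submodule.Quotient.mk c) = _
    rw [Submodule.liftQ_apply, LinearMap.toSpanSingleton_apply]
  let ψ : (Fin s → R ⧸ Ideal.span ({a} : Set R)) →ₗ[R]
      (↥(Submodule.span R (Set.range m)) ⧸ F.submoduleOf (Submodule.span R (Set.range m))) :=
    LinearMap.lsum R (fun _ : Fin s => R ⧸ Ideal.span ({a} : Set R)) R g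
  have hψ : Function.Surjective ψ := by
    intro y
    obtain ⟨⟨b, hb⟩, rfl⟩ := Submodule.Quotient.mk_surjective _ y
    obtain ⟨c, hc⟩ := (Submodule.mem_span_range_iff_exists_fun R).mp hb
    refine ⟨fun i => Submodule.Quotient.mk (c i), ?_⟩
    show LinearMap.lsum R (fun _ : Fin s => R ⧸ Ideal.span ({a} : Set R)) R g _ = _
    rw [LinearMap.lsum_apply, LinearMap.sum_apply]
    have h1 : ∀ i : Fin s, ((g i).comp (LinearMap.proj i))
        (fun i => (Submodule.Quotient.mk (c i) : R ⧸ Ideal.span ({a} : Set R))) =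
        Submodule.Quotient.mk (c i • (⟨m i, hmB i⟩ : ↥(Submodule.span R (Set.range m)))) := by
      intro i
      rw [LinearMap.comp_apply, LinearMap.proj_apply, hg, htm, Submodule.Quotient.mk_smul]
    rw [Finset.sum_congr rfl (fun i _ => h1 i)]
    have h2 : ∀ z : ↥(Submodule.span R (Set.range m)),
        (Submodule.Quotient.mk z : ↥(Submodule.span R (Set.range m)) ⧸
          F.submoduleOf (Submodule.span R (Set.range m))) =
        (F.submoduleOf (Submodule.span R (Set.range m))).mkQ z := fun _ => rfl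
    simp only [h2]
    rw [← map_sum]
    congr 1
    apply Subtype.ext
    rw [Submodule.coe_sum]
    exact hc
  have h1 := Module.length_le_of_surjective ψ hψ
  rw [Module.length_pi, ENat.card_eq_coe_fintype_card, Fintype.card_fin] at h1
  exact h1

end P2

section Frac

variable {R : Type*} [CommRing R] [IsDomain R]
  {K : Type*} [Field K] [Algebra R K] [IsFractionRing R K]
  {V : Type*} [AddCommGroup V] [Module K V] [Module R V] [IsScalarTower R K V]

theorem exists_smul_mem_span (S : Set V) {v : V} (hv : v ∈ Submodule.span K S) :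
    ∃ a : R, a ≠ 0 ∧ a • v ∈ Submodule.span R S := by
  induction hv using Submodule.span_induction with
  | mem v hv => exact ⟨1, one_ne_zero, by rw [one_smul]; exact Submodule.subset_span hv⟩
  | zero => exact ⟨1, one_ne_zero, by rw [smul_zero]; exact Submodule.zero_mem _⟩
  | add v w _ _ hv hw =>
    obtain ⟨a, ha, hav⟩ := hv
    obtain ⟨b, hb, hbw⟩ := hw
    refine ⟨a * b, mul_ne_zero ha hb, ?_⟩
    have h1 : (a * b) • (v + w) = b • (a • v) + a • (b • w) := by
      rw [smul_add, mul_smul, mul_smul, smul_comm a b v]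
    rw [h1]
    exact Submodule.add_mem _ (Submodule.smul_mem _ _ hav) (Submodule.smul_mem _ _ hbw)
  | smul k v _ hv =>
    obtain ⟨a, ha, hav⟩ := hv
    obtain ⟨⟨r, d⟩, hrd⟩ := IsLocalization.surj (nonZeroDivisors R) k
    refine ⟨(d : R) * a, mul_ne_zero (nonZeroDivisors.coe_ne_zero d) ha, ?_⟩
    have h1 : ((d : R) * a) • (k • v) = (algebraMap R K ((d : R) * a) * k) • v := by
      rw [mul_smul (algebraMap R K _) k v, algebraMap_smul]
    have h2 : r • (a • v) = (algebraMap R K r * algebraMap R K a) • v := by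
      rw [mul_smul, algebraMap_smul, algebraMap_smul]
    have h3 : ((d : R) * a) • (k • v) = r • (a • v) := by
      rw [h1, h2]
      congr 1
      have hrd' : k * algebraMap R K (d : R) = algebraMap R K r := hrd
      rw [map_mul, ← hrd']
      ring
    rw [h3]
    exact Submodule.smul_mem _ _ hav

variable (K V) in
/-- multiplication by a nonzero element of `R` on a `K`-vector space, as an `R`-linear equivalence -/
noncomputable def mulEquiv (x : R) (hx : x ≠ 0) : V ≃ₗ[R] V :=
  (LinearEquiv.smulOfNeZero K V (algebraMap R K x) (by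
    rwa [Ne, map_eq_zero_iff _ (IsFractionRing.injective R K)])).restrictScalars R

theorem mulEquiv_apply (x : R) (hx : x ≠ 0) (v : V) : mulEquiv K V x hx v = x • v := by
  show algebraMap R K x • v = x • v
  exact algebraMap_smul K x v

theorem relLen_mulEquiv_le_of_fg [FiniteDimensional K V]
    (hfin : ∀ a : R, a ≠ 0 → Module.length R (R ⧸ Ideal.span ({a} : Set R)) ≠ ⊤)
    (M : Submodule R V) (hM : M.FG) (x : R) (hx : x ≠ 0) :
    relLen (M.map (mulEquiv K V x hx : V →ₗ[R] V)) M ≤
      (Module.finrank K V : ℕ∞) * Module.length R (R ⧸ Ideal.span ({x} : Set R)) := by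
  classical
  obtain ⟨t, g, hg⟩ := Submodule.fg_iff_exists_fin_generating_family.mp hM
  obtain ⟨b, hbM, hbspan, hbli⟩ := exists_linearIndependent K (M : Set V)
  have hbfin : b.Finite := hbli.setFinite
  let _ : Fintype b := hbfin.fintype
  obtain ⟨s, hs⟩ : ∃ s : ℕ, s = Fintype.card b := ⟨_, rfl⟩
  let eb : Fin s ≃ b := (Fintype.equivFinOfCardEq hs.symm).symm
  obtain ⟨m, hm⟩ : ∃ m : Fin s → V, ∀ i, m i = (eb i : V) := ⟨_, fun _ => rfl⟩
  have hrange : Set.range m = b := by
    ext v
    constructor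
    · rintro ⟨i, rfl⟩
      rw [hm]; exact (eb i).2
    · intro hv
      refine ⟨eb.symm ⟨v, hv⟩, ?_⟩
      rw [hm, Equiv.apply_symm_apply]
  have hsr : s ≤ Module.finrank K V := by
    rw [hs]; exact hbli.fintype_card_le_finrank
  obtain ⟨F, hF⟩ : ∃ F : Submodule R V, F = Submodule.span R (Set.range m) := ⟨_, rfl⟩
  have hFM : F ≤ M := by
    rw [hF, hrange]; exact Submodule.span_le.mpr hbM
  have hgM : ∀ j, g j ∈ M := fun j => by
    rw [← hg]; exact Submodule.subset_span (Set.mem_range_self j)
  have hex : ∀ j, ∃ a : R, a ≠ 0 ∧ a • g j ∈ F := by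
    intro j
    have h1 : g j ∈ Submodule.span K b := by
      rw [hbspan]; exact Submodule.subset_span (hgM j)
    obtain ⟨a, ha, hav⟩ := exists_smul_mem_span (R := R) b h1
    exact ⟨a, ha, by rw [hF, hrange]; exact hav⟩
  choose a ha hav using hex
  have ha0ne : (∏ j, a j) ≠ 0 := Finset.prod_ne_zero_iff.mpr (fun j _ => ha j)
  have ha0g : ∀ j, (∏ j, a j) • g j ∈ F := by
    intro j
    obtain ⟨c, hc⟩ := Finset.dvd_prod_of_mem a (Finset.mem_univ j)
    rw [hc, mul_comm, mul_smul]
    exact F.smul_mem _ (hav j)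
  have hFM_fin : relLen F M ≠ ⊤ := by
    have h1 := relLen_le_of_smul_mem g F (by rw [hg]; exact hFM) (∏ j, a j) ha0g
    rw [hg] at h1
    have h2 : (t : ℕ∞) * Module.length R (R ⧸ Ideal.span ({∏ j, a j} : Set R)) ≠ ⊤ :=
      WithTop.mul_ne_top (ENat.coe_ne_top t) (hfin _ ha0ne)
    exact ne_top_of_le_ne_top h2 h1
  have hxF : F.map (mulEquiv K V x hx : V →ₗ[R] V) ≤ F := by
    rintro _ ⟨f, hf, rfl⟩
    show mulEquiv K V x hx f ∈ F
    rw [mulEquiv_apply]; exact F.smul_mem x hf
  have hxM : M.map (mulEquiv K V x hx : V →ₗ[R] V) ≤ M := by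
    rintro _ ⟨f, hf, rfl⟩
    show mulEquiv K V x hx f ∈ M
    rw [mulEquiv_apply]; exact M.smul_mem x hf
  have hxFM : F.map (mulEquiv K V x hx : V →ₗ[R] V) ≤ M.map (mulEquiv K V x hx : V →ₗ[R] V) :=
    Submodule.map_mono hFM
  have c1 := relLen_chain hxFM hxM
  have c2 := relLen_chain hxF hFM
  rw [relLen_map (mulEquiv K V x hx) F M] at c1
  have c3 : relLen F M + relLen (M.map (mulEquiv K V x hx : V →ₗ[R] V)) M =
      relLen F M + relLen (F.map (mulEquiv K V x hx : V →ₗ[R] V)) F := by
    rw [← c1, c2, add_comm]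
  have c4 := ENat.add_right_injective_of_ne_top hFM_fin c3
  rw [c4]
  have h3 := relLen_le_of_smul_mem m (F.map (mulEquiv K V x hx : V →ₗ[R] V))
    (by rw [← hF]; exact hxF) x
    (fun i => ⟨m i, by rw [hF]; exact Submodule.subset_span (Set.mem_range_self i),
      mulEquiv_apply x hx (m i)⟩)
  rw [← hF] at h3
  refine h3.trans ?_
  exact mul_le_mul' (by exact_mod_cast hsr) le_rfl

theorem relLen_mulEquiv_le [FiniteDimensional K V]
    (hfin : ∀ a : R, a ≠ 0 → Module.length R (R ⧸ Ideal.span ({a} : Set R)) ≠ ⊤)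
    (M : Submodule R V) (x : R) (hx : x ≠ 0) :
    relLen (M.map (mulEquiv K V x hx : V →ₗ[R] V)) M ≤
      (Module.finrank K V : ℕ∞) * Module.length R (R ⧸ Ideal.span ({x} : Set R)) := by
  classical
  obtain ⟨n0, hn0⟩ := ENat.ne_top_iff_exists.mp (hfin x hx)
  have hcast : (Module.finrank K V : ℕ∞) * Module.length R (R ⧸ Ideal.span ({x} : Set R)) =
      ((Module.finrank K V * n0 : ℕ) : ℕ∞) := by
    rw [← hn0]; push_cast; rfl
  rw [hcast]
  unfold relLen
  apply length_le_of_forall_fg
  intro Q hQ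
  obtain ⟨t, q, hq⟩ := Submodule.fg_iff_exists_fin_generating_family.mp hQ
  have hlift : ∀ j, ∃ μ : M, Submodule.Quotient.mk μ = q j :=
    fun j => Submodule.Quotient.mk_surjective _ (q j)
  choose μ hμ using hlift
  obtain ⟨M', hM'⟩ : ∃ M' : Submodule R V,
      M' = Submodule.span R (Set.range (fun j => (μ j : V))) := ⟨_, rfl⟩
  have hμM' : ∀ j, (μ j : V) ∈ M' := fun j => by
    rw [hM']; exact Submodule.subset_span (Set.mem_range_self j)
  have hM'M : M' ≤ M := by
    rw [hM']
    exact Submodule.span_le.mpr (by rintro _ ⟨j, rfl⟩; exact (μ j).2)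
  have hM'fg : M'.FG := by
    rw [hM']; exact Submodule.fg_span (Set.finite_range _)
  let φ : (M' ⧸ (M'.map (mulEquiv K V x hx : V →ₗ[R] V)).submoduleOf M') →ₗ[R]
      (M ⧸ (M.map (mulEquiv K V x hx : V →ₗ[R] V)).submoduleOf M) :=
    Submodule.mapQ _ _ (Submodule.inclusion hM'M) (by
      intro y hy
      have hy' : (y : V) ∈ M'.map (mulEquiv K V x hx : V →ₗ[R] V) := hy
      show ((Submodule.inclusion hM'M y : M) : V) ∈ M.map (mulEquiv K V x hx : V →ₗ[R] V)
      exact Submodule.map_mono hM'M hy')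
  have hQφ : Q ≤ LinearMap.range φ := by
    rw [← hq, Submodule.span_le]
    rintro _ ⟨j, rfl⟩
    refine ⟨Submodule.Quotient.mk ⟨(μ j : V), hμM' j⟩, ?_⟩
    rw [← hμ j]
    rfl
  calc Module.length R Q ≤ Module.length R (LinearMap.range φ) :=
        Module.length_le_of_injective (Submodule.inclusion hQφ) (Submodule.inclusion_injective hQφ)
    _ ≤ Module.length R (M' ⧸ (M'.map (mulEquiv K V x hx : V →ₗ[R] V)).submoduleOf M') :=
        Module.length_le_of_surjective φ.rangeRestrict φ.surjective_rangeRestrict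
    _ ≤ _ := by
        have h1 := relLen_mulEquiv_le_of_fg (K := K) hfin M' hM'fg x hx
        rw [hcast] at h1
        exact h1

theorem length_quotient_smul_top_le [FiniteDimensional K V]
    (hfin : ∀ a : R, a ≠ 0 → Module.length R (R ⧸ Ideal.span ({a} : Set R)) ≠ ⊤)
    (M : Submodule R V) (x : R) (hx : x ≠ 0) :
    Module.length R (M ⧸ (Ideal.span ({x} : Set R) • (⊤ : Submodule R M))) ≤
      (Module.finrank K V : ℕ∞) * Module.length R (R ⧸ Ideal.span ({x} : Set R)) := by
  have heq : (Ideal.span ({x} : Set R) • (⊤ : Submodule R M)) =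
      (M.map (mulEquiv K V x hx : V →ₗ[R] V)).submoduleOf M := by
    ext y
    rw [Submodule.ideal_span_singleton_smul, Submodule.mem_smul_pointwise_iff_exists]
    constructor
    · rintro ⟨b, -, rfl⟩
      exact ⟨(b : V), b.2, mulEquiv_apply x hx (b : V)⟩
    · rintro ⟨v, hv, hvy⟩
      refine ⟨⟨v, hv⟩, Submodule.mem_top, Subtype.ext ?_⟩
      have h1 : mulEquiv K V x hx v = (y : V) := hvy
      rw [← h1, mulEquiv_apply]
      rfl
  rw [(Submodule.quotEquivOfEq _ _ heq).length_eq]
  exact relLen_mulEquiv_le hfin M x hx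

end Frac

section Noeth

theorem ideal_fg_of_quotient_noetherian {R A : Type*} [CommRing R] [CommRing A] [Algebra R A]
    (x : R) (hN : IsNoetherian R (A ⧸ (Ideal.span ({x} : Set R) • (⊤ : Submodule R A))))
    (I : Ideal A) (hxI : algebraMap R A x ∈ I) : I.FG := by
  classical
  obtain ⟨N, hNdef⟩ : ∃ N : Submodule R A, N = Ideal.span ({x} : Set R) • (⊤ : Submodule R A) :=
    ⟨_, rfl⟩
  rw [← hNdef] at hN
  have hfg : ((I.restrictScalars R).map N.mkQ).FG := IsNoetherian.noetherian _
  obtain ⟨t, g', hg'⟩ := Submodule.fg_iff_exists_fin_generating_family.mp hfg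
  have hlift : ∀ j, ∃ z ∈ I, N.mkQ z = g' j := by
    intro j
    have h1 : g' j ∈ (I.restrictScalars R).map N.mkQ := by
      rw [← hg']; exact Submodule.subset_span (Set.mem_range_self j)
    obtain ⟨z, hz, hzj⟩ := h1
    exact ⟨z, hz, hzj⟩
  choose g hgI hg using hlift
  have hI : I = Ideal.span (Set.range g ∪ {algebraMap R A x}) := by
    apply le_antisymm
    · intro z hz
      have hz' : N.mkQ z ∈ (I.restrictScalars R).map N.mkQ := ⟨z, hz, rfl⟩
      rw [← hg', Submodule.mem_span_range_iff_exists_fun] at hz'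
      obtain ⟨c, hc⟩ := hz'
      have h1 : N.mkQ (z - ∑ j, c j • g j) = 0 := by
        rw [map_sub, map_sum, ← hc, sub_eq_zero]
        refine (Finset.sum_congr rfl fun j _ => ?_).symm
        rw [map_smul, hg]
      have h2 : z - ∑ j, c j • g j ∈ N := by
        rw [Submodule.mkQ_apply, Submodule.Quotient.mk_eq_zero] at h1
        exact h1
      rw [hNdef, Submodule.ideal_span_singleton_smul,
        Submodule.mem_smul_pointwise_iff_exists] at h2
      obtain ⟨w, -, hw⟩ := h2
      have h3 : z = ∑ j, c j • g j + x • w := by rw [hw]; abel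
      rw [h3]
      refine Ideal.add_mem _ (Ideal.sum_mem _ fun j _ => ?_) ?_
      · rw [Algebra.smul_def]
        exact Ideal.mul_mem_left _ _ (Ideal.subset_span (Or.inl (Set.mem_range_self j)))
      · rw [Algebra.smul_def]
        exact Ideal.mul_mem_right _ _ (Ideal.subset_span (Or.inr rfl))
    · rw [Ideal.span_le]
      rintro z (⟨j, rfl⟩ | rfl)
      · exact hgI j
      · exact hxI
  rw [hI]
  exact Submodule.fg_span ((Set.finite_range g).union (Set.finite_singleton _))

theorem isNoetherianRing_of_between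
    (R : Type u) [CommRing R] [IsDomain R] [IsNoetherianRing R] (hdim : ringKrullDim R ≤ 1)
    (K L : Type u) [Field K] [Field L]
    [Algebra R K] [IsFractionRing R K] [Algebra K L] [FiniteDimensional K L] [Algebra R L]
    [IsScalarTower R K L] (A : Type u) [CommRing A] [Algebra R A] [Algebra A L]
    [IsScalarTower R A L] (hA : Function.Injective (algebraMap A L)) :
    IsNoetherianRing A := by
  have hfin : ∀ a : R, a ≠ 0 → Module.length R (R ⧸ Ideal.span ({a} : Set R)) ≠ ⊤ :=
    fun a ha => length_quotient_span_singleton_ne_top hdim ha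
  have hdom : IsDomain A := Function.Injective.isDomain (algebraMap A L) hA
  rw [isNoetherianRing_iff_ideal_fg]
  intro I
  by_cases hI : I = ⊥
  · rw [hI]; exact Submodule.fg_bot
  obtain ⟨y, hyI, hy0⟩ := Submodule.exists_mem_ne_zero_of_ne_bot hI
  have halgK : IsAlgebraic K (algebraMap A L y) := Algebra.IsAlgebraic.isAlgebraic _
  have halgR : IsAlgebraic R (algebraMap A L y) := (IsFractionRing.isAlgebraic_iff R K L).mpr halgK
  have halgA : IsAlgebraic R y := (isAlgebraic_algebraMap_iff hA).mp halgR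
  obtain ⟨x, hx0, hxy⟩ := halgA.exists_nonzero_dvd (mem_nonZeroDivisors_of_ne_zero hy0)
  have hxI : algebraMap R A x ∈ I := Ideal.mem_of_dvd I hxy hyI
  refine ideal_fg_of_quotient_noetherian x ?_ I hxI
  let f : A →ₗ[R] L := (IsScalarTower.toAlgHom R A L).toLinearMap
  have hf : Function.Injective f := hA
  let eAM : A ≃ₗ[R] LinearMap.range f := LinearEquiv.ofInjective f hf
  have hmap : (Ideal.span ({x} : Set R) • (⊤ : Submodule R A)).map
      (eAM : A →ₗ[R] LinearMap.range f) =
      Ideal.span ({x} : Set R) • (⊤ : Submodule R (LinearMap.range f)) := by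
    rw [Submodule.map_smul'', Submodule.map_top, LinearEquiv.range]
  have hlen : Module.length R (A ⧸ (Ideal.span ({x} : Set R) • (⊤ : Submodule R A))) ≠ ⊤ := by
    rw [(Submodule.Quotient.equiv _ _ eAM hmap).length_eq]
    have h1 := length_quotient_smul_top_le (K := K) hfin (LinearMap.range f) x hx0
    exact ne_top_of_le_ne_top (WithTop.mul_ne_top (ENat.coe_ne_top _) (hfin x hx0)) h1
  have hFL := Module.length_ne_top_iff.mp hlen
  exact (isFiniteLength_iff_isNoetherian_isArtinian.mp hFL).1

end Noeth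

end Groth.Agent.Helper1.KA
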