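import Groth.Agent.Lib.Helper1.KA2

/-!
# Krull–Akizuki, part 3: integral closure of a one-dimensional Noetherian domain
-/

set_option autoImplicit false

namespace Groth.Agent.Helper1.KA

universe u

theorem length_quotient_smul_top_ne_top_of_between
    (R : Type u) [CommRing R] [IsDomain R] [IsNoetherianRing R] (hdim : ringKrullDim R ≤ 1)
    (K L : Type u) [Field K] [Field L]
    [Algebra R K] [IsFractionRing R K] [Algebra K L] [FiniteDimensional K L] [Algebra R L]
    [IsScalarTower R K L] (A : Type u) [CommRing A] [Algebra R A] [Algebra A L]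
    [IsScalarTower R A L] (hA : Function.Injective (algebraMap A L)) (x : R) (hx0 : x ≠ 0) :
    Module.length R (A ⧸ (Ideal.span ({x} : Set R) • (⊤ : Submodule R A))) ≠ ⊤ := by
  have hfin : ∀ a : R, a ≠ 0 → Module.length R (R ⧸ Ideal.span ({a} : Set R)) ≠ ⊤ :=
    fun a ha => length_quotient_span_singleton_ne_top hdim ha
  let f : A →ₗ[R] L := (IsScalarTower.toAlgHom R A L).toLinearMap
  have hf : Function.Injective f := hA
  let eAM : A ≃ₗ[R] LinearMap.range f := LinearEquiv.ofInjective f hf
  have hmap : (Ideal.span ({x} : Set R) • (⊤ : Submodule R A)).map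
      (eAM : A →ₗ[R] LinearMap.range f) =
      Ideal.span ({x} : Set R) • (⊤ : Submodule R (LinearMap.range f)) := by
    rw [Submodule.map_smul'', Submodule.map_top, LinearEquiv.range]
  rw [(Submodule.Quotient.equiv _ _ eAM hmap).length_eq]
  have h1 := length_quotient_smul_top_le (K := K) hfin (LinearMap.range f) x hx0
  exact ne_top_of_le_ne_top (WithTop.mul_ne_top (ENat.coe_ne_top _) (hfin x hx0)) h1

theorem integralClosure_dedekind (A K L B : Type u) [CommRing A] [IsDomain A]
    [IsNoetherianRing A] (hdim : ringKrullDim A = 1) [Field K] [Algebra A K] [IsFractionRing A K]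
    [Field L] [Algebra K L] [FiniteDimensional K L] [Algebra A L] [IsScalarTower A K L]
    [CommRing B] [IsDomain B] [Algebra A B] [Algebra B L] [IsScalarTower A B L]
    [IsIntegralClosure B A L] :
    IsDedekindDomain B ∧ Function.Surjective (PrimeSpectrum.comap (algebraMap A B)) ∧
      (∀ p : PrimeSpectrum A, (PrimeSpectrum.comap (algebraMap A B) ⁻¹' {p}).Finite) ∧
      ∀ Q : Ideal B, Q.IsMaximal → Module.Finite (A ⧸ Q.comap (algebraMap A B)) (B ⧸ Q) := by
  have hfrac : IsFractionRing B L := IsIntegralClosure.isFractionRing_of_finite_extension A K L B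
  have hint : Algebra.IsIntegral A B := IsIntegralClosure.isIntegral_algebra A L
  have hBL : Function.Injective (algebraMap B L) := IsIntegralClosure.algebraMap_injective B A L
  have hAL : Function.Injective (algebraMap A L) := by
    rw [IsScalarTower.algebraMap_eq A K L]
    exact (algebraMap K L).injective.comp (IsFractionRing.injective A K)
  have hAB : Function.Injective (algebraMap A B) := by
    have h : algebraMap A L = (algebraMap B L).comp (algebraMap A B) :=
      IsScalarTower.algebraMap_eq A B L
    intro a b hab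
    apply hAL
    rw [h, RingHom.comp_apply, RingHom.comp_apply, hab]
  have hfaith : FaithfulSMul A B := (faithfulSMul_iff_algebraMap_injective A B).mpr hAB
  have hle : ringKrullDim A ≤ 1 := hdim.le
  have hnoeth : IsNoetherianRing B := isNoetherianRing_of_between A hle K L B hBL
  have hKA : Ring.KrullDimLE 1 A := Ring.krullDimLE_iff.mpr hle
  have hmaxA : ∀ I : Ideal A, I ≠ ⊥ → I.IsPrime → I.IsMaximal :=
    Ring.krullDimLE_one_iff_of_noZeroDivisors.mp hKA
  have hdimA : Ring.DimensionLEOne A := ⟨fun {p} hp hpp => hmaxA p hp hpp⟩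
  have hdimB : Ring.DimensionLEOne B := Ring.DimensionLEOne.of_isIntegral A B
  have hic : IsIntegrallyClosed B := (isIntegrallyClosed_iff L).mpr fun {x} hx =>
      ⟨IsIntegralClosure.mk' B x (isIntegral_trans (R := A) _ hx),
        IsIntegralClosure.algebraMap_mk' _ _ _⟩
  have hded : IsDedekindDomain B := { hnoeth, hdimB, hic with }
  have hnotfield : ¬ IsField A := by
    intro hF
    have h0 := ringKrullDim_eq_zero_of_isField hF
    rw [hdim] at h0
    exact one_ne_zero h0
  refine ⟨hded, Algebra.IsIntegral.comap_surjective A B, ?_, ?_⟩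
  · intro p
    by_cases hp : p.asIdeal = ⊥
    · refine Set.Finite.subset (Set.finite_singleton (⟨⊥, Ideal.isPrime_bot⟩ : PrimeSpectrum B)) ?_
      intro Q hQ
      have hQ' : PrimeSpectrum.comap (algebraMap A B) Q = p := hQ
      have h1 : Q.asIdeal.comap (algebraMap A B) = ⊥ := by
        rw [← hp, ← hQ']; rfl
      have h2 : Q.asIdeal = ⊥ := Ideal.eq_bot_of_comap_eq_bot h1
      exact PrimeSpectrum.ext h2
    · obtain ⟨x, hxp, hx0⟩ := Submodule.exists_mem_ne_zero_of_ne_bot hp
      obtain ⟨J, hJ⟩ : ∃ J : Ideal B, J = Ideal.span {algebraMap A B x} := ⟨_, rfl⟩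
      have hxJ : algebraMap A B x ∈ J := by rw [hJ]; exact Ideal.mem_span_singleton_self _
      have hx0' : algebraMap A B x ≠ 0 := by
        rw [Ne, map_eq_zero_iff _ hAB]; exact hx0
      have hfinJ := Ideal.finite_minimalPrimes_of_isNoetherianRing B J
      have hfin2 : ((fun Q : PrimeSpectrum B => Q.asIdeal) ⁻¹' J.minimalPrimes).Finite :=
        Set.Finite.preimage (fun Q _ Q' _ h => PrimeSpectrum.ext h) hfinJ
      refine hfin2.subset ?_
      intro Q hQ
      have hQ' : PrimeSpectrum.comap (algebraMap A B) Q = p := hQ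
      have hxQ : algebraMap A B x ∈ Q.asIdeal := by
        have : x ∈ (PrimeSpectrum.comap (algebraMap A B) Q).asIdeal := by rw [hQ']; exact hxp
        exact this
      have hJQ : J ≤ Q.asIdeal := by
        rw [hJ, Ideal.span_singleton_le_iff_mem]; exact hxQ
      show Q.asIdeal ∈ J.minimalPrimes
      refine ⟨⟨Q.isPrime, hJQ⟩, ?_⟩
      rintro P ⟨hPp, hJP⟩ hPQ
      have hPne : P ≠ ⊥ := by
        intro hP
        rw [hP] at hJP
        exact hx0' ((Ideal.mem_bot).mp (hJP hxJ))
      have hPmax : P.IsMaximal := hdimB.maximalOfPrime hPne hPp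
      exact (hPmax.eq_of_le Q.isPrime.ne_top hPQ).ge
  · intro Q hQ
    obtain ⟨p, hpdef⟩ : ∃ p : Ideal A, p = Q.comap (algebraMap A B) := ⟨_, rfl⟩
    have hpmax : p.IsMaximal := by
      rw [hpdef]; exact Ideal.isMaximal_comap_of_isIntegral_of_isMaximal Q
    have hpne : p ≠ ⊥ := by
      intro hp
      rw [hp] at hpmax
      exact hnotfield (Ring.isField_iff_maximal_bot.mpr hpmax)
    obtain ⟨x, hxp, hx0⟩ := Submodule.exists_mem_ne_zero_of_ne_bot hpne
    have hxQ : algebraMap A B x ∈ Q := by
      rw [hpdef] at hxp; exact hxp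
    have hlen := length_quotient_smul_top_ne_top_of_between A hle K L B hBL x hx0
    have hFL := Module.length_ne_top_iff.mp hlen
    have hN : IsNoetherian A (B ⧸ (Ideal.span ({x} : Set A) • (⊤ : Submodule A B))) :=
      (isFiniteLength_iff_isNoetherian_isArtinian.mp hFL).1
    have hker : (Ideal.span ({x} : Set A) • (⊤ : Submodule A B)) ≤
        LinearMap.ker (Ideal.Quotient.mkₐ A Q).toLinearMap := by
      rw [Submodule.ideal_span_singleton_smul]
      rintro _ ⟨b, -, rfl⟩
      rw [LinearMap.mem_ker]
      show Ideal.Quotient.mk Q (x • b) = 0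
      rw [Ideal.Quotient.eq_zero_iff_mem, Algebra.smul_def]
      exact Ideal.mul_mem_right _ _ hxQ
    have hsurj : Function.Surjective
        ((Ideal.span ({x} : Set A) • (⊤ : Submodule A B)).liftQ
          (Ideal.Quotient.mkₐ A Q).toLinearMap hker) := by
      intro y
      obtain ⟨b, rfl⟩ := Ideal.Quotient.mk_surjective y
      exact ⟨Submodule.Quotient.mk b, rfl⟩
    have hfinA : Module.Finite A (B ⧸ Q) := Module.Finite.of_surjective _ hsurj
    exact Module.Finite.of_restrictScalars_finite A (A ⧸ Q.comap (algebraMap A B)) (B ⧸ Q)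

end Groth.Agent.Helper1.KA
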