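import Groth.Agent.Lib.Helper1.KA3

/-!
# Krull–Akizuki, part 4: the version for dimension `≤ 1`, and transport along an isomorphism
-/

set_option autoImplicit false

namespace Groth.Agent.Helper1.KA

universe u

theorem integralClosure_dedekind_le (A K L B : Type u) [CommRing A] [IsDomain A]
    [IsNoetherianRing A] (hle : ringKrullDim A ≤ 1) [Field K] [Algebra A K] [IsFractionRing A K]
    [Field L] [Algebra K L] [FiniteDimensional K L] [Algebra A L] [IsScalarTower A K L]
    [CommRing B] [IsDomain B] [Algebra A B] [Algebra B L] [IsScalarTower A B L]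
    [IsIntegralClosure B A L] :
    IsDedekindDomain B ∧
      (∀ p : PrimeSpectrum A, (PrimeSpectrum.comap (algebraMap A B) ⁻¹' {p}).Finite) ∧
      ∀ Q : Ideal B, Q.IsMaximal → ((Ideal.Quotient.mk Q).comp (algebraMap A B)).Finite := by
  have hfrac : IsFractionRing B L := IsIntegralClosure.isFractionRing_of_finite_extension A K L B
  have hint : Algebra.IsIntegral A B := IsIntegralClosure.isIntegral_algebra A L
  have hBL : Function.Injective (algebraMap B L) := IsIntegralClosure.algebraMap_injective B A L
  have hAL : Function.Injective (algebraMap A L) := by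
    rw [IsScalarTower.algebraMap_eq A K L]
    exact (algebraMap K L).injective.comp (IsFractionRing.injective A K)
  have hAB : Function.Injective (algebraMap A B) := by
    have h : algebraMap A L = (algebraMap B L).comp (algebraMap A B) :=
      IsScalarTower.algebraMap_eq A B L
    intro a b hab
    apply hAL
    rw [h, RingHom.comp_apply, RingHom.comp_apply, hab]
  have hfaith : FaithfulSMul A B := (faithfulSMul_iff_algebraMap_injective A B).mpr hAB
  have hnoeth : IsNoetherianRing B := isNoetherianRing_of_between A hle K L B hBL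
  have hKA : Ring.KrullDimLE 1 A := Ring.krullDimLE_iff.mpr hle
  have hmaxA : ∀ I : Ideal A, I ≠ ⊥ → I.IsPrime → I.IsMaximal :=
    Ring.krullDimLE_one_iff_of_noZeroDivisors.mp hKA
  have hdimA : Ring.DimensionLEOne A := ⟨fun {p} hp hpp => hmaxA p hp hpp⟩
  have hdimB : Ring.DimensionLEOne B := Ring.DimensionLEOne.of_isIntegral A B
  have hic : IsIntegrallyClosed B := (isIntegrallyClosed_iff L).mpr fun {x} hx =>
      ⟨IsIntegralClosure.mk' B x (isIntegral_trans (R := A) _ hx),
        IsIntegralClosure.algebraMap_mk' _ _ _⟩
  have hded : IsDedekindDomain B := { hnoeth, hdimB, hic with }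
  refine ⟨hded, ?_, ?_⟩
  · intro p
    by_cases hp : p.asIdeal = ⊥
    · refine Set.Finite.subset (Set.finite_singleton (⟨⊥, Ideal.isPrime_bot⟩ : PrimeSpectrum B)) ?_
      intro Q hQ
      have hQ' : PrimeSpectrum.comap (algebraMap A B) Q = p := hQ
      have h1 : Q.asIdeal.comap (algebraMap A B) = ⊥ := by
        rw [← hp, ← hQ']; rfl
      have h2 : Q.asIdeal = ⊥ := Ideal.eq_bot_of_comap_eq_bot h1
      exact PrimeSpectrum.ext h2
    · obtain ⟨x, hxp, hx0⟩ := Submodule.exists_mem_ne_zero_of_ne_bot hp
      obtain ⟨J, hJ⟩ : ∃ J : Ideal B, J = Ideal.span {algebraMap A B x} := ⟨_, rfl⟩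
      have hxJ : algebraMap A B x ∈ J := by rw [hJ]; exact Ideal.mem_span_singleton_self _
      have hx0' : algebraMap A B x ≠ 0 := by
        rw [Ne, map_eq_zero_iff _ hAB]; exact hx0
      have hfinJ := Ideal.finite_minimalPrimes_of_isNoetherianRing B J
      have hfin2 : ((fun Q : PrimeSpectrum B => Q.asIdeal) ⁻¹' J.minimalPrimes).Finite :=
        Set.Finite.preimage (fun Q _ Q' _ h => PrimeSpectrum.ext h) hfinJ
      refine hfin2.subset ?_
      intro Q hQ
      have hQ' : PrimeSpectrum.comap (algebraMap A B) Q = p := hQ
      have hxQ : algebraMap A B x ∈ Q.asIdeal := by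
        have : x ∈ (PrimeSpectrum.comap (algebraMap A B) Q).asIdeal := by rw [hQ']; exact hxp
        exact this
      have hJQ : J ≤ Q.asIdeal := by
        rw [hJ, Ideal.span_singleton_le_iff_mem]; exact hxQ
      show Q.asIdeal ∈ J.minimalPrimes
      refine ⟨⟨Q.isPrime, hJQ⟩, ?_⟩
      rintro P ⟨hPp, hJP⟩ hPQ
      have hPne : P ≠ ⊥ := by
        intro hP
        rw [hP] at hJP
        exact hx0' ((Ideal.mem_bot).mp (hJP hxJ))
      have hPmax : P.IsMaximal := hdimB.maximalOfPrime hPne hPp
      exact (hPmax.eq_of_le Q.isPrime.ne_top hPQ).ge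
  · intro Q hQ
    obtain ⟨p, hpdef⟩ : ∃ p : Ideal A, p = Q.comap (algebraMap A B) := ⟨_, rfl⟩
    have hpmax : p.IsMaximal := by
      rw [hpdef]; exact Ideal.isMaximal_comap_of_isIntegral_of_isMaximal Q
    have hfinA : Module.Finite A (B ⧸ Q) := by
      by_cases hpne : p = ⊥
      · have hF : IsField A := by
          rw [hpne] at hpmax
          exact Ring.isField_iff_maximal_bot.mpr hpmax
        have hAK : Function.Surjective (algebraMap A K) :=
          IsFractionRing.surjective_iff_isField.mpr hF
        haveI : Module.Finite A K := Module.Finite.of_surjective (Algebra.linearMap A K) hAK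
        haveI : Module.Finite A L := Module.Finite.trans K L
        haveI : Module.Finite A B :=
          Module.Finite.of_injective (IsScalarTower.toAlgHom A B L).toLinearMap hBL
        exact Module.Finite.of_surjective (Ideal.Quotient.mkₐ A Q).toLinearMap
          (Ideal.Quotient.mkₐ_surjective A Q)
      · obtain ⟨x, hxp, hx0⟩ := Submodule.exists_mem_ne_zero_of_ne_bot hpne
        have hxQ : algebraMap A B x ∈ Q := by
          rw [hpdef] at hxp; exact hxp
        have hlen := length_quotient_smul_top_ne_top_of_between A hle K L B hBL x hx0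
        have hFL := Module.length_ne_top_iff.mp hlen
        have hN : IsNoetherian A (B ⧸ (Ideal.span ({x} : Set A) • (⊤ : Submodule A B))) :=
          (isFiniteLength_iff_isNoetherian_isArtinian.mp hFL).1
        have hker : (Ideal.span ({x} : Set A) • (⊤ : Submodule A B)) ≤
            LinearMap.ker (Ideal.Quotient.mkₐ A Q).toLinearMap := by
          rw [Submodule.ideal_span_singleton_smul]
          rintro _ ⟨b, -, rfl⟩
          rw [LinearMap.mem_ker]
          show Ideal.Quotient.mk Q (x • b) = 0
          rw [Ideal.Quotient.eq_zero_iff_mem, Algebra.smul_def]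
          exact Ideal.mul_mem_right _ _ hxQ
        have hsurj : Function.Surjective
            ((Ideal.span ({x} : Set A) • (⊤ : Submodule A B)).liftQ
              (Ideal.Quotient.mkₐ A Q).toLinearMap hker) := by
          intro y
          obtain ⟨b, rfl⟩ := Ideal.Quotient.mk_surjective y
          exact ⟨Submodule.Quotient.mk b, rfl⟩
        exact Module.Finite.of_surjective _ hsurj
    have h := RingHom.finite_algebraMap.mpr hfinA
    rwa [IsScalarTower.algebraMap_eq A B (B ⧸ Q), Ideal.Quotient.algebraMap_eq] at h

/-- Transport: an `A`-algebra isomorphic to the integral closure of `A` in its fraction field. -/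
theorem props_of_algEquiv (A B : Type u) [CommRing A] [IsDomain A] [IsNoetherianRing A]
    (hle : ringKrullDim A ≤ 1) [CommRing B] [IsDomain B] [Algebra A B]
    (K : Type u) [Field K] [Algebra A K] [IsFractionRing A K]
    (σ : B ≃ₐ[A] integralClosure A K) :
    IsDedekindDomain B ∧
      (∀ p : PrimeSpectrum A, (PrimeSpectrum.comap (algebraMap A B) ⁻¹' {p}).Finite) ∧
      ∀ Q : Ideal B, Q.IsMaximal → ((Ideal.Quotient.mk Q).comp (algebraMap A B)).Finite := by
  letI : Algebra B K :=
    ((integralClosure A K).val.toRingHom.comp (σ : B →+* integralClosure A K)).toAlgebra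
  have hBK : ∀ b : B, algebraMap B K b = ((σ b : integralClosure A K) : K) := fun _ => rfl
  haveI : IsScalarTower A B K := IsScalarTower.of_algebraMap_eq fun a => by
    rw [hBK, σ.commutes]; rfl
  haveI : IsIntegralClosure B A K :=
    { algebraMap_injective := by
        intro b b' h
        rw [hBK, hBK] at h
        exact σ.injective (Subtype.ext h)
      isIntegral_iff := by
        intro x
        constructor
        · intro hx
          refine ⟨σ.symm ⟨x, hx⟩, ?_⟩
          rw [hBK, σ.apply_symm_apply]
        · rintro ⟨y, rfl⟩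
          rw [hBK]
          exact (σ y).2 }
  exact integralClosure_dedekind_le A K K B hle

end Groth.Agent.Helper1.KA
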