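import Mathlib
import Groth.Prelude.Def_EtGm
import Groth.Prelude.Def_SixF3
import Groth.Prelude.Def_Dix
import Groth.Agent.Lib.Helper1.KU2

/-!
# Kummer theory at finite level: image of `H^i(μ_n) → H^i(G_m)` is the `n`-torsion
-/

set_option autoImplicit false
set_option linter.unusedSectionVars false
set_option linter.style.haveILetI false

open CategoryTheory CategoryTheory.Limits AlgebraicGeometry Opposite

namespace Groth.Agent.Helper1.KU

universe u

theorem isUnit_of_invertibleOn (X : Scheme.{u}) (n : ℕ) (hX : Dix.InvertibleOn X n) :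
    IsUnit ((n : ℕ) : Γ(X, ⊤)) := by
  apply RingedSpace.isUnit_of_isUnit_germ X.toRingedSpace ⊤
  intro x hx
  have h1 : x ∈ X.basicOpen ((n : ℕ) : Γ(X, ⊤)) := by
    have h2 : X.evaluation ⊤ x trivial ((n : ℕ) : Γ(X, ⊤)) ≠ 0 := by
      rw [map_natCast]
      exact hX x
    exact (Scheme.evaluation_ne_zero_iff_mem_basicOpen X x (U := ⊤) trivial _).mp h2
  exact (X.mem_basicOpen_top _ x).mp h1

theorem HF_map_powMap (X : Scheme.{u}) (n i : ℕ) (ξ : (EtCoh.HF X i).obj (EtCoh.Gm X)) :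
    (EtCoh.HF X i).map (EtCoh.powMap X n) ξ = n • ξ := by
  haveI : (EtCoh.HF X i).Additive := by unfold EtCoh.HF; infer_instance
  have h : (EtCoh.HF X i).map (EtCoh.powMap X n) = n • 𝟙 _ := by
    unfold EtCoh.powMap
    rw [Functor.map_nsmul, CategoryTheory.Functor.map_id]
  rw [h]
  rfl

theorem main3244 (X : Scheme.{u}) (n : ℕ) (hX : Dix.InvertibleOn X n) (i : ℕ) :
    Set.range ⇑((EtCoh.HF X i).map (EtCoh.muι X n)) =
      {ξ : (EtCoh.HF X i).obj (EtCoh.Gm X) | n • ξ = 0} := by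
  have hepi : Epi (EtCoh.powMap X n) := main0108 X n (isUnit_of_invertibleOn X n hX)
  have hS := EtSix.kummerShortExact hepi
  ext ξ
  simp only [Set.mem_range, Set.mem_ofPred_eq]
  constructor
  · rintro ⟨η, rfl⟩
    rw [← HF_map_powMap]
    have h0 : EtCoh.muι X n ≫ EtCoh.powMap X n = 0 := kernel.condition _
    have h1 : (EtCoh.HF X i).map (EtCoh.muι X n) ≫ (EtCoh.HF X i).map (EtCoh.powMap X n) = 0 := by
      haveI : (EtCoh.HF X i).Additive := by unfold EtCoh.HF; infer_instance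
      rw [← Functor.map_comp, h0, Functor.map_zero]
    have h2 := ConcreteCategory.congr_hom h1 η
    rw [ConcreteCategory.comp_apply] at h2
    exact h2
  · intro h
    rw [← HF_map_powMap] at h
    obtain ⟨x₁, hx₁⟩ := Abelian.Ext.covariant_sequence_exact₂ _ hS (ξ : EtCoh.H X (EtCoh.Gm X) i) h
    exact ⟨x₁, hx₁⟩

end Groth.Agent.Helper1.KU
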