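import Mathlib
import Groth.Prelude.Def_EtGm
import Groth.Prelude.Def_SixF3
import Groth.Prelude.Def_Dix
import Groth.Agent.Lib.Helper1.KU3

/-!
# `ℓ`-primary torsion of `H^i(X, G_m)` above the `ℓ`-cohomological dimension (helper1, KT1): S3246
-/

set_option autoImplicit false
set_option linter.unusedSectionVars false
set_option linter.style.haveILetI false

open CategoryTheory CategoryTheory.Limits AlgebraicGeometry Opposite

namespace Groth.Agent.Helper1.KT

universe w v u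

section Abstract

variable {C : Type u} [Category.{v} C] [Abelian C] [HasExt.{w} C]

open Abelian

/-- If `Ext^{j+1}(T, ker P) = 0` and `Ext^j(T, coker P) = 0` then postcomposition with `P` is
injective on `Ext^{j+1}(T, G)`. -/
theorem ext_eq_zero_of_comp_eq_zero {T G : C} (P : G ⟶ G) {j : ℕ}
    (hK : Subsingleton (Ext T (kernel P) (j + 1)))
    (hC : Subsingleton (Ext T (cokernel P) j))
    (ξ : Ext T G (j + 1)) (hξ : ξ.comp (Ext.mk₀ P) (add_zero (j + 1)) = 0) : ξ = 0 := by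
  have hem : Abelian.factorThruImage P ≫ Abelian.image.ι P = P := Abelian.image.fac P
  let S2 : ShortComplex C :=
    ShortComplex.mk (Abelian.image.ι P) (cokernel.π P) (kernel.condition _)
  have hS2 : S2.ShortExact :=
    { exact := ShortComplex.exact_of_f_is_kernel S2 (kernelIsKernel _)
      mono_f := inferInstanceAs (Mono (Abelian.image.ι P))
      epi_g := inferInstanceAs (Epi (cokernel.π P)) }
  have w1 : kernel.ι P ≫ Abelian.factorThruImage P = 0 := by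
    rw [← cancel_mono (Abelian.image.ι P), Category.assoc, hem, kernel.condition, zero_comp]
  let S1 : ShortComplex C := ShortComplex.mk (kernel.ι P) (Abelian.factorThruImage P) w1
  have hS1 : S1.ShortExact :=
    { exact := ShortComplex.exact_of_f_is_kernel S1
        (isKernelOfComp (Abelian.image.ι P) P (kernelIsKernel P) w1 hem)
      mono_f := inferInstanceAs (Mono (kernel.ι P))
      epi_g := inferInstanceAs (Epi (Abelian.factorThruImage P)) }
  have h1 : (ξ.comp (Ext.mk₀ (Abelian.factorThruImage P)) (add_zero (j + 1))).comp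
      (Ext.mk₀ (Abelian.image.ι P)) (add_zero (j + 1)) = 0 := by
    rw [Ext.comp_assoc_of_third_deg_zero, Ext.mk₀_comp_mk₀, hem]
    exact hξ
  have hξ' : ξ.comp (Ext.mk₀ (Abelian.factorThruImage P)) (add_zero (j + 1)) = 0 := by
    obtain ⟨x₃, hx₃⟩ := Ext.covariant_sequence_exact₁ T hS2
      (ξ.comp (Ext.mk₀ (Abelian.factorThruImage P)) (add_zero (j + 1))) h1
      (rfl : j + 1 = j + 1)
    rw [← hx₃, Subsingleton.elim x₃ 0, Ext.zero_comp]
  obtain ⟨x₁, hx₁⟩ := Ext.covariant_sequence_exact₂ T hS1 ξ hξ'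
  rw [← hx₁, Subsingleton.elim x₁ 0, Ext.zero_comp]

end Abstract

section Sheaf

universe u'

variable {X : Scheme.{u'}}

theorem isPrimaryTorsion_of_nsmul_eq_zero (ℓ k : ℕ) (F : EtCoh.Ab X)
    (h : ∀ (U : X.Etale) (s : EtCoh.sect F U), (ℓ ^ k) • s = 0) : Dix.IsPrimaryTorsion ℓ F := by
  intro U s x
  exact ⟨U, 𝟙 U, ⟨x, rfl⟩, k, h U _⟩

theorem nsmul_sect_eq_zero (F : EtCoh.Ab X) (N : ℕ) (h : N • 𝟙 F = 0) (U : X.Etale)
    (s : EtCoh.sect F U) : N • s = 0 := by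
  have h3 := (sheafToPresheaf X.smallEtaleTopology AddCommGrpCat.{u' + 1}).congr_map h
  rw [Functor.map_nsmul, Functor.map_zero, CategoryTheory.Functor.map_id] at h3
  have h5 := congrArg (fun φ => (φ.app (op U)).hom s) h3
  exact h5

theorem nsmul_id_kernel {G : EtCoh.Ab X} (N : ℕ) : N • 𝟙 (kernel (N • 𝟙 G)) = 0 := by
  rw [← cancel_mono (kernel.ι (N • 𝟙 G)), Preadditive.nsmul_comp, Category.id_comp, zero_comp]
  have h := kernel.condition (N • 𝟙 G)
  rw [Preadditive.comp_nsmul, Category.comp_id] at h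
  exact h

theorem nsmul_id_cokernel {G : EtCoh.Ab X} (N : ℕ) : N • 𝟙 (cokernel (N • 𝟙 G)) = 0 := by
  rw [← cancel_epi (cokernel.π (N • 𝟙 G)), Preadditive.comp_nsmul, Category.comp_id, comp_zero]
  have h := cokernel.condition (N • 𝟙 G)
  rw [Preadditive.nsmul_comp, Category.id_comp] at h
  exact h

theorem main3246 (X : Scheme.{u'}) (ℓ : ℕ) (n : ℕ) (hcd : Dix.CohDimLEAt X ℓ n) :
    (∀ i : ℕ, n + 1 < i → ∀ ξ : EtCoh.H X (EtCoh.Gm X) i, (∃ k : ℕ, ℓ ^ k • ξ = 0) → ξ = 0) ∧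
    (Dix.InvertibleOn X ℓ → ∀ i : ℕ, n < i → ∀ ξ : EtCoh.H X (EtCoh.Gm X) i,
      (∃ k : ℕ, ℓ ^ k • ξ = 0) → ξ = 0) := by
  constructor
  · intro i hi ξ hk
    obtain ⟨k, hk⟩ := hk
    obtain ⟨j, rfl⟩ : ∃ j, i = j + 1 := ⟨i - 1, by omega⟩
    have hK : Subsingleton (EtCoh.H X (kernel (ℓ ^ k • 𝟙 (EtCoh.Gm X))) (j + 1)) :=
      hcd _ (isPrimaryTorsion_of_nsmul_eq_zero ℓ k _
        (nsmul_sect_eq_zero _ _ (nsmul_id_kernel (ℓ ^ k)))) (j + 1) (by omega)
    have hC : Subsingleton (EtCoh.H X (cokernel (ℓ ^ k • 𝟙 (EtCoh.Gm X))) j) :=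
      hcd _ (isPrimaryTorsion_of_nsmul_eq_zero ℓ k _
        (nsmul_sect_eq_zero _ _ (nsmul_id_cokernel (ℓ ^ k)))) j (by omega)
    have hξ := (KU.HF_map_powMap X (ℓ ^ k) (j + 1) ξ).trans hk
    exact ext_eq_zero_of_comp_eq_zero (ℓ ^ k • 𝟙 (EtCoh.Gm X)) hK hC ξ hξ
  · intro hinv i hi ξ hk
    obtain ⟨k, hk⟩ := hk
    have hinv' : Dix.InvertibleOn X (ℓ ^ k) := by
      intro x
      rw [Nat.cast_pow]
      exact pow_ne_zero k (hinv x)
    have hepi : Epi (EtCoh.powMap X (ℓ ^ k)) :=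
      KU.main0108 X (ℓ ^ k) (KU.isUnit_of_invertibleOn X (ℓ ^ k) hinv')
    have hS := EtSix.kummerShortExact hepi
    have hξ := (KU.HF_map_powMap X (ℓ ^ k) i ξ).trans hk
    obtain ⟨x₁, hx₁⟩ := Abelian.Ext.covariant_sequence_exact₂ _ hS
      (ξ : EtCoh.H X (EtCoh.Gm X) i) hξ
    have hK : Subsingleton (EtCoh.H X (EtCoh.mu X (ℓ ^ k)) i) :=
      hcd _ (isPrimaryTorsion_of_nsmul_eq_zero ℓ k _
        (nsmul_sect_eq_zero _ _ (nsmul_id_kernel (ℓ ^ k)))) i hi
    have hx0 : x₁ = 0 := @Subsingleton.elim _ hK x₁ 0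
    rw [← hx₁, hx0, Abelian.Ext.zero_comp]
    rfl

end Sheaf

end Groth.Agent.Helper1.KT
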