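import Mathlib
import Groth.Prelude.Def_Hensel

/-!
# Lifting ring maps along a strict henselization into a henselian local ring, without
locality assumptions (helper1)
-/

set_option autoImplicit false
set_option linter.unusedSectionVars false
set_option linter.style.haveILetI false
universe u

namespace Groth.Agent.Helper1.SP

open IsLocalRing Polynomial

section FP

variable {R R' : Type u} [CommRing R] [HenselianLocalRing R] [CommRing R'] [HenselianLocalRing R']
  (η : R →+* ResidueField R')

/-- the fibre product `R ×_{κ(R')} R'` -/
noncomputable abbrev T : Subring (R × R') := η.pullback (residue R')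

instance isLocalRing_T : IsLocalRing (T η) := RingHom.isLocalRing_pullback η (residue R')

theorem isUnit_of_sub_mem {A : Type u} [CommRing A] [IsLocalRing A] (x y : A) (hy : IsUnit y)
    (h : x - y ∈ maximalIdeal A) : IsUnit x := by
  by_contra hx
  have hx' : x ∈ maximalIdeal A := (IsLocalRing.mem_maximalIdeal x).2 hx
  have hy' : y ∈ maximalIdeal A := by
    have := (maximalIdeal A).sub_mem hx' h
    simpa using this
  exact (IsLocalRing.mem_maximalIdeal y).1 hy' hy

theorem mem_maximalIdeal_T_iff (t : T η) :
    t ∈ maximalIdeal (T η) ↔ (η.pullbackFst (residue R')) t ∈ maximalIdeal R := by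
  rw [IsLocalRing.mem_maximalIdeal, IsLocalRing.mem_maximalIdeal, mem_nonunits_iff,
    mem_nonunits_iff, not_iff_not]
  exact ⟨fun h => h.map _, fun h => isUnit_of_map_unit (η.pullbackFst (residue R')) t h⟩

theorem henselian_T : HenselianLocalRing (T η) := by
  refine { is_henselian := ?_ }
  intro f hf a₀ h₁ h₂
  let p1 : T η →+* R := η.pullbackFst (residue R')
  let p2 : T η →+* R' := η.pullbackSnd (residue R')
  have hsq : η.comp p1 = (residue R').comp p2 := RingHom.pullback_comm_sq η (residue R')
  -- first component
  have h11 : (f.map p1).eval (p1 a₀) ∈ maximalIdeal R := by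
    rw [eval_map_apply]
    exact (mem_maximalIdeal_T_iff η _).1 h₁
  have h12 : IsUnit ((f.map p1).derivative.eval (p1 a₀)) := by
    rw [derivative_map, eval_map_apply]
    exact h₂.map p1
  obtain ⟨s, hs, hs0⟩ := HenselianLocalRing.is_henselian (f.map p1) (hf.map p1) (p1 a₀) h11 h12
  have hs' : IsUnit ((f.map p1).derivative.eval s) := by
    apply isUnit_of_sub_mem _ _ h12
    obtain ⟨c, hc⟩ := sub_dvd_eval_sub s (p1 a₀) (f.map p1).derivative
    rw [hc]
    exact (maximalIdeal R).mul_mem_right _ hs0
  -- second component
  obtain ⟨b₀, hb₀⟩ := residue_surjective (η s)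
  have hmap : (f.map p2).map (residue R') = (f.map p1).map η := by
    rw [Polynomial.map_map, Polynomial.map_map, hsq]
  have h21 : (f.map p2).eval b₀ ∈ maximalIdeal R' := by
    rw [← residue_eq_zero_iff, ← eval_map_apply, hmap, hb₀, eval_map_apply]
    have : (f.map p1).eval s = 0 := hs
    rw [this, map_zero]
  have h22 : IsUnit ((f.map p2).derivative.eval b₀) := by
    rw [← residue_ne_zero_iff_isUnit, ← eval_map_apply, ← derivative_map, hmap, derivative_map,
      hb₀, eval_map_apply]
    exact (hs'.map η).ne_zero
  obtain ⟨a, ha, ha0⟩ := HenselianLocalRing.is_henselian (f.map p2) (hf.map p2) b₀ h21 h22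
  have hmem : (s, a) ∈ T η := by
    show η s = residue R' a
    rw [← hb₀]
    symm
    rw [← sub_eq_zero, ← map_sub, residue_eq_zero_iff]
    exact ha0
  refine ⟨⟨(s, a), hmem⟩, ?_, ?_⟩
  · apply Subtype.ext
    apply Prod.ext
    · have e : p1 (f.eval ⟨(s, a), hmem⟩) = (f.map p1).eval (p1 ⟨(s, a), hmem⟩) :=
        (eval_map_apply (f := p1) (p := f) _).symm
      have e2 : p1 ⟨(s, a), hmem⟩ = s := rfl
      rw [e2] at e
      exact e.trans hs
    · have e : p2 (f.eval ⟨(s, a), hmem⟩) = (f.map p2).eval (p2 ⟨(s, a), hmem⟩) :=
        (eval_map_apply (f := p2) (p := f) _).symm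
      have e2 : p2 ⟨(s, a), hmem⟩ = a := rfl
      rw [e2] at e
      exact e.trans ha
  · rw [mem_maximalIdeal_T_iff]
    have e : (η.pullbackFst (residue R')) (⟨(s, a), hmem⟩ - a₀) = s - p1 a₀ := by
      rw [map_sub]
      rfl
    rw [e]
    exact hs0

end FP

section Main

variable (A R R' : Type u) [CommRing A] [IsLocalRing A] [CommRing R] [IsLocalRing R]
  [Algebra A R] [IsLocalHom (algebraMap A R)] [Hensel.IsStrictHenselization A R]
  [CommRing R'] [HenselianLocalRing R']

/-- **Lifting along a strict henselization, non-local version**: a ring map `c : A → R'` into a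
henselian local ring together with a compatible map `η : R → κ(R')` lifts uniquely to `R → R'`. -/
theorem exists_unique_lift (c : A →+* R') (η : R →+* ResidueField R')
    (hη : η.comp (algebraMap A R) = (residue R').comp c) :
    ∃! γ : R →+* R', γ.comp (algebraMap A R) = c ∧ (residue R').comp γ = η := by
  haveI hR : HenselianLocalRing R := Hensel.IsStrictHenselization.henselian (R := A) (S := R)
  haveI hT : HenselianLocalRing (T η) := henselian_T η
  let p1 : T η →+* R := η.pullbackFst (residue R')
  let p2 : T η →+* R' := η.pullbackSnd (residue R')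
  have hsq : ∀ t : T η, η (p1 t) = residue R' (p2 t) := fun t => t.2
  have hp1s : Function.Surjective p1 :=
    RingHom.surjective_pullbackFst_of_surjective η (residue R') residue_surjective
  -- the residue field isomorphism
  have hbij : Function.Bijective (ResidueField.map p1) := by
    refine ⟨(ResidueField.map p1).injective, ?_⟩
    intro y
    obtain ⟨s, rfl⟩ := residue_surjective y
    obtain ⟨t, rfl⟩ := hp1s s
    exact ⟨residue _ t, ResidueField.map_residue p1 t⟩
  let e : ResidueField (T η) ≃+* ResidueField R := RingEquiv.ofBijective _ hbij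
  have he : ∀ t : T η, e (residue _ t) = residue R (p1 t) := fun t =>
    ResidueField.map_residue p1 t
  let τ : ResidueField R →+* ResidueField (T η) := e.symm.toRingHom
  -- the map `A → T`
  let f : A →+* T η := RingHom.codRestrict ((algebraMap A R).prod c) (T η) (fun a => by
    show η (algebraMap A R a) = residue R' (c a)
    exact congrArg (fun k => k a) hη)
  have hf1 : ∀ a, p1 (f a) = algebraMap A R a := fun a => rfl
  have hf2 : ∀ a, p2 (f a) = c a := fun a => rfl
  haveI : IsLocalHom f := by
    constructor
    intro a ha
    have h1 : IsUnit (p1 (f a)) := ha.map p1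
    rw [hf1] at h1
    exact isUnit_of_map_unit (algebraMap A R) a h1
  have hcompat : τ.comp (ResidueField.map (algebraMap A R)) = ResidueField.map f := by
    apply RingHom.ext
    intro y
    obtain ⟨a, rfl⟩ := residue_surjective y
    rw [RingHom.comp_apply, ResidueField.map_residue, ResidueField.map_residue]
    show e.symm (residue R (algebraMap A R a)) = residue _ (f a)
    rw [← hf1 a, ← he, RingEquiv.symm_apply_apply]
  obtain ⟨g, ⟨hg1, hg2⟩, hguniq⟩ :=
    Hensel.IsStrictHenselization.universal (R := A) (S := R) (T η) f τ hcompat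
  -- `p1 ∘ g = id`
  have hid : p1.comp g = RingHom.id R := by
    have hcompat0 : (RingHom.id (ResidueField R)).comp (ResidueField.map (algebraMap A R)) =
        ResidueField.map (algebraMap A R) := RingHom.id_comp _
    obtain ⟨g0, -, hg0uniq⟩ := Hensel.IsStrictHenselization.universal (R := A) (S := R) R
      (algebraMap A R) (RingHom.id _) hcompat0
    have h1 : p1.comp g = g0 := by
      apply hg0uniq
      refine ⟨?_, ?_⟩
      · rw [RingHom.comp_assoc, hg1]
        exact RingHom.ext hf1
      · intro x
        show residue R (p1 (g x)) = residue R x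
        rw [← he, hg2]
        show e (e.symm (residue R x)) = residue R x
        rw [RingEquiv.apply_symm_apply]
    have h2 : RingHom.id R = g0 := by
      apply hg0uniq
      exact ⟨RingHom.id_comp _, fun x => rfl⟩
    rw [h1, h2]
  have hid' : ∀ s, p1 (g s) = s := fun s => congrArg (fun k => k s) hid
  refine ⟨p2.comp g, ⟨?_, ?_⟩, ?_⟩
  · rw [RingHom.comp_assoc, hg1]
    exact RingHom.ext hf2
  · apply RingHom.ext
    intro s
    show residue R' (p2 (g s)) = η s
    rw [← hsq, hid']
  · rintro γ₁ ⟨hγ1, hγ2⟩
    let g₁ : R →+* T η := RingHom.codRestrict ((RingHom.id R).prod γ₁) (T η) (fun s => by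
      show η s = residue R' (γ₁ s)
      exact (congrArg (fun k => k s) hγ2).symm)
    have hg₁1 : ∀ s, p1 (g₁ s) = s := fun s => rfl
    have hg₁2 : ∀ s, p2 (g₁ s) = γ₁ s := fun s => rfl
    have hgg : g₁ = g := by
      apply hguniq
      refine ⟨?_, ?_⟩
      · apply RingHom.ext
        intro a
        apply Subtype.ext
        apply Prod.ext
        · rfl
        · exact congrArg (fun k => k a) hγ1
      · intro x
        apply e.injective
        rw [he, hg₁1]
        show residue R x = e (e.symm (residue R x))
        rw [RingEquiv.apply_symm_apply]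
    apply RingHom.ext
    intro s
    show γ₁ s = p2 (g s)
    rw [← hgg]
    rfl

end Main

end Groth.Agent.Helper1.SP
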