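import Mathlib
import Groth.Agent.Lib.Helper1.SH2

set_option autoImplicit false
set_option linter.unusedSectionVars false
set_option linter.style.haveILetI false
universe u

namespace Groth.Agent.Helper1.SP

open Polynomial IsLocalRing Groth.Agent.Helper1 Groth.Agent.Helper1.HFlat

section Closure

variable {R S : Type u} [CommRing R] [IsLocalRing R] [CommRing S] [HenselianLocalRing S]
  {ψ : R →+* S} [IsLocalHom ψ]

/-- **Closure principle** for strict henselizations: a subring of `S` containing the image of `R`,
closed under inverses of units and under simple roots of monic polynomials is everything. -/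
theorem eq_top_of_closed (hψ : IsSHensHom ψ) (U : Subring S)
    (h1 : ψ.range ≤ U) (h2 : ∀ x ∈ U, IsUnit x → ∃ y ∈ U, x * y = 1)
    (h3 : ∀ (n : ℕ) (c : Fin n → S), (∀ j, c j ∈ U) → ∀ b : S, (Hzn.mpoly n c).IsRoot b →
      IsUnit ((Hzn.mpoly n c).derivative.eval b) → b ∈ U) : U = ⊤ := by
  have key : ∀ (E : LocRing.{u}) (φ : E.A →+* S), SGoodMap ψ E φ → φ.range ≤ U := by
    intro E φ hg
    induction hg with
    | base => exact h1
    | step E φ δ h ih =>
      refine range_liftSNext_le (fun _ : PUnit.{u + 1} => δ) U h2 ih ?_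
      intro l
      show δ.1.2 ∈ U
      obtain ⟨n, c, hc⟩ := Hzn.exists_eq_mpoly δ.2.1
      have r1 : ((δ.1.1).map φ).IsRoot δ.1.2 := δ.2.2.1
      have r2 : IsUnit (((δ.1.1).map φ).derivative.eval δ.1.2) := δ.2.2.2
      rw [hc, Hzn.mpoly_map] at r1 r2
      exact h3 n (fun i => φ (c i)) (fun j => ih ⟨c j, rfl⟩) δ.1.2 r1 r2
  rw [eq_top_iff]
  intro s _
  obtain ⟨E, φ, hg, hs⟩ := exists_sgood hψ s
  exact key E φ hg hs

end Closure

section Sep

/-- a simple root of a polynomial is a separable element -/
theorem isSeparable_of_simple_root {F E : Type*} [Field F] [Field E] [Algebra F E] (g : F[X])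
    (x : E) (h0 : aeval x g = 0) (h1 : aeval x (derivative g) ≠ 0) : IsSeparable F x := by
  have hg : g ≠ 0 := by
    rintro rfl
    simp at h1
  have hint : IsIntegral F x := isAlgebraic_iff_isIntegral.mp ⟨g, hg, h0⟩
  obtain ⟨h, hh⟩ := minpoly.dvd F x h0
  have hd : aeval x (derivative (minpoly F x)) ≠ 0 := by
    intro hz
    apply h1
    rw [hh, derivative_mul, map_add, map_mul, map_mul, hz, minpoly.aeval]
    ring
  have hd' : derivative (minpoly F x) ≠ 0 := by
    intro hz
    rw [hz] at hd
    simp at hd
  exact (separable_iff_derivative_ne_zero (minpoly.irreducible hint)).2 hd'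

end Sep

section Main3

variable {A S : Type u} [CommRing A] [IsLocalRing A] [CommRing S] [HenselianLocalRing S]
  {ψ : A →+* S} [IsLocalHom ψ]

/-- the residue field at a prime of a strict henselization is separable algebraic over the residue
field of the prime below -/
theorem isSeparable_residueField (hψ : IsSHensHom ψ) (p : Ideal A) [p.IsPrime] (q : Ideal S)
    [q.IsPrime] (hq : p = q.comap ψ) :
    letI := (Ideal.ResidueField.map p q ψ hq).toAlgebra
    Algebra.IsSeparable p.ResidueField q.ResidueField := by
  letI := (Ideal.ResidueField.map p q ψ hq).toAlgebra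
  rw [← separableClosure.eq_top_iff]
  let M : IntermediateField p.ResidueField q.ResidueField :=
    separableClosure p.ResidueField q.ResidueField
  let U : Subring S := M.toSubring.comap (algebraMap S q.ResidueField)
  have hmem : ∀ s : S, s ∈ U ↔ algebraMap S q.ResidueField s ∈ M := fun s => Iff.rfl
  have hU : U = ⊤ := by
    refine eq_top_of_closed hψ U ?_ ?_ ?_
    · rintro _ ⟨a, rfl⟩
      rw [hmem]
      have : algebraMap S q.ResidueField (ψ a) =
          algebraMap p.ResidueField q.ResidueField (algebraMap A p.ResidueField a) :=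
        (Ideal.ResidueField.map_algebraMap p q ψ hq a).symm
      rw [this]
      exact M.algebraMap_mem _
    · intro x hx hu
      obtain ⟨y, hy⟩ := hu.exists_right_inv
      refine ⟨y, ?_, hy⟩
      rw [hmem] at hx ⊢
      have h1 : algebraMap S q.ResidueField x * algebraMap S q.ResidueField y = 1 := by
        rw [← map_mul, hy, map_one]
      have h2 : algebraMap S q.ResidueField y = (algebraMap S q.ResidueField x)⁻¹ :=
        eq_inv_of_mul_eq_one_right h1
      rw [h2]
      exact M.inv_mem hx
    · intro n c hc b hb hu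
      rw [hmem]
      let alg : S →+* q.ResidueField := algebraMap S q.ResidueField
      let γ : Fin n → M := fun j => ⟨alg (c j), hc j⟩
      have hmap : (Hzn.mpoly n γ).map (algebraMap M q.ResidueField) = (Hzn.mpoly n c).map alg := by
        rw [Hzn.mpoly_map, Hzn.mpoly_map]
        rfl
      have e0 : aeval (alg b) (Hzn.mpoly n γ) = 0 := by
        rw [← Polynomial.eval_map_algebraMap, hmap, ← Hzn.map_eval']
        rw [hb.eq_zero, map_zero]
      have e1 : aeval (alg b) (derivative (Hzn.mpoly n γ)) ≠ 0 := by
        rw [← Polynomial.eval_map_algebraMap, ← Polynomial.derivative_map, hmap,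
          ← Hzn.map_derivative_eval']
        exact (hu.map alg).ne_zero
      have hs : IsSeparable M (alg b) := isSeparable_of_simple_root _ _ e0 e1
      have hs' : IsSeparable p.ResidueField (alg b) :=
        IsSeparable.of_algebra_isSeparable_of_isSeparable p.ResidueField hs
      exact mem_separableClosure_iff.2 hs'
  rw [eq_top_iff]
  intro z _
  obtain ⟨a, t, hz⟩ := IsLocalization.exists_mk'_eq (nonZeroDivisors (S ⧸ q)) z
  rw [IsFractionRing.mk'_eq_div] at hz
  obtain ⟨a', rfl⟩ := Ideal.Quotient.mk_surjective a
  obtain ⟨t', ht'⟩ := Ideal.Quotient.mk_surjective (t : S ⧸ q)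
  rw [← ht', Ideal.algebraMap_quotient_residueField_mk, Ideal.algebraMap_quotient_residueField_mk]
    at hz
  have ha : algebraMap S q.ResidueField a' ∈ M := (hmem a').1 (hU ▸ Subring.mem_top a')
  have ht : algebraMap S q.ResidueField t' ∈ M := (hmem t').1 (hU ▸ Subring.mem_top t')
  rw [← hz]
  exact M.div_mem ha ht

/-- **Key existence**: a ring map from a local ring to a separably closed field extends to its strict
henselization. -/
theorem exists_ringHom_to_sepClosed (hψ : IsSHensHom ψ) (Ω : Type u) [Field Ω] [IsSepClosed Ω]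
    (c₀ : A →+* Ω) : ∃ η : S →+* Ω, η.comp ψ = c₀ := by
  let p : Ideal A := RingHom.ker c₀
  haveI : p.IsPrime := RingHom.ker_isPrime c₀
  obtain ⟨q, hqp, hq⟩ := (Ideal.comap_map_eq_self_iff_of_isPrime (f := ψ) p).1 (hψ.comap_map p)
  haveI := hqp
  have hq' : p = q.comap ψ := hq.symm
  let ι : p.ResidueField →+* q.ResidueField := Ideal.ResidueField.map p q ψ hq'
  letI : Algebra p.ResidueField q.ResidueField := ι.toAlgebra
  haveI : Algebra.IsSeparable p.ResidueField q.ResidueField := isSeparable_residueField hψ p q hq'
  let cb : p.ResidueField →+* Ω := Ideal.ResidueField.lift p c₀ le_rfl (by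
    intro a ha
    show IsUnit (c₀ a)
    exact isUnit_iff_ne_zero.2 (fun h0 => ha ((RingHom.mem_ker).2 h0)))
  letI : Algebra p.ResidueField Ω := cb.toAlgebra
  let σ : q.ResidueField →ₐ[p.ResidueField] Ω := IsSepClosed.lift
  refine ⟨σ.toRingHom.comp (algebraMap S q.ResidueField), ?_⟩
  ext a
  show σ (algebraMap S q.ResidueField (ψ a)) = c₀ a
  have e1 : algebraMap S q.ResidueField (ψ a) =
      algebraMap p.ResidueField q.ResidueField (algebraMap A p.ResidueField a) :=
    (Ideal.ResidueField.map_algebraMap p q ψ hq' a).symm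
  rw [e1, σ.commutes]
  exact Ideal.ResidueField.lift_algebraMap p c₀ _ _ a

end Main3

end Groth.Agent.Helper1.SP
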