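import Mathlib
import Groth.Prelude.Def_Hensel
import Groth.Prelude.Def_EtAcyc
import Groth.Agent.Lib.Helper1.SP1
import Groth.Agent.Lib.Helper1.SP3
import Groth.Agent.Lib.Helper1.SH1
import Groth.Agent.Lib.Helper1.SHznUniv

set_option autoImplicit false
set_option linter.unusedSectionVars false
set_option linter.style.haveILetI false
universe u

namespace Groth.Agent.Helper1.LA

open IsLocalRing Polynomial Groth.Agent.Helper1 Groth.Agent.Helper1.HFlat

section Fields

/-- an element separable over a separably closed subfield lies in it -/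
theorem mem_range_of_isSeparable {K Ω : Type*} [Field K] [Field Ω] [IsSepClosed K] (τ : K →+* Ω)
    (ω : Ω) (p : K[X]) (hp : p.Separable) (hroot : (p.map τ).eval ω = 0) : ω ∈ τ.range := by
  letI := τ.toAlgebra
  have hp0 : p ≠ 0 := hp.ne_zero
  have hint : IsIntegral K ω := by
    refine ⟨p * C p.leadingCoeff⁻¹, Polynomial.monic_mul_leadingCoeff_inv hp0, ?_⟩
    rw [Polynomial.eval₂_mul, Polynomial.eval₂_eq_eval_map]
    have : (p.map (algebraMap K Ω)).eval ω = 0 := hroot
    rw [this, zero_mul]
  have hdvd : minpoly K ω ∣ p := by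
    apply minpoly.dvd
    rw [Polynomial.aeval_def, Polynomial.eval₂_eq_eval_map]
    exact hroot
  have hsep : (minpoly K ω).Separable := hp.of_dvd hdvd
  have hirr : Irreducible (minpoly K ω) := minpoly.irreducible hint
  have hdeg : (minpoly K ω).degree = 1 :=
    IsSepClosed.degree_eq_one_of_irreducible K hirr hsep
  have := minpoly.mem_range_of_degree_eq_one K ω hdeg
  exact this

end Fields

section Rings

variable {A B : Type u} [CommRing A] [IsLocalRing A] [CommRing B] [IsLocalRing B]
  (RA RB : Type u) [CommRing RA] [IsLocalRing RA] [Algebra A RA] [IsLocalHom (algebraMap A RA)]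
  [Hensel.IsStrictHenselization A RA]
  [CommRing RB] [IsLocalRing RB] [Algebra B RB] [IsLocalHom (algebraMap B RB)]
  [Hensel.IsStrictHenselization B RB]

/-- a ring map out of a strict henselization which restricts to a local map is local -/
theorem isLocalHom_of_comp {T : Type u} [CommRing T] [IsLocalRing T] (γ : RA →+* T)
    (c : A →+* T) [IsLocalHom c] (hγ : γ.comp (algebraMap A RA) = c) : IsLocalHom γ := by
  haveI hRA : HenselianLocalRing RA := Hensel.IsStrictHenselization.henselian (R := A)
  have hψ := IsSHensHom.of_isStrictHenselization A RA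
  have h1 : (maximalIdeal A).map c ≤ maximalIdeal T :=
    ((IsLocalRing.local_hom_TFAE c).out 0 2).1 ‹IsLocalHom c›
  refine ((IsLocalRing.local_hom_TFAE γ).out 0 2).2 ?_
  rw [← hψ.map_maximalIdeal, Ideal.map_map, hγ]
  exact h1

/-- **F2**: a local homomorphism lifts to a local homomorphism of strict henselizations. -/
theorem exists_local_lift (b : A →+* B) [IsLocalHom b] :
    ∃ γ : RA →+* RB, IsLocalHom γ ∧ γ.comp (algebraMap A RA) = (algebraMap B RB).comp b := by
  haveI hRA : HenselianLocalRing RA := Hensel.IsStrictHenselization.henselian (R := A)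
  haveI hRB : HenselianLocalRing RB := Hensel.IsStrictHenselization.henselian (R := B)
  have hsc : IsSepClosure (ResidueField B) (ResidueField RB) :=
    Hensel.IsStrictHenselization.isSepClosure
  haveI : IsSepClosed (ResidueField RB) := hsc.sep_closed
  have hψ := IsSHensHom.of_isStrictHenselization A RA
  obtain ⟨η, hη⟩ := SP.exists_ringHom_to_sepClosed hψ (ResidueField RB)
    ((residue RB).comp ((algebraMap B RB).comp b))
  obtain ⟨γ, ⟨hγ1, hγ2⟩, -⟩ := SP.exists_unique_lift A RA RB ((algebraMap B RB).comp b) η hη
  haveI : IsLocalHom ((algebraMap B RB).comp b) := RingHom.isLocalHom_comp _ _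
  exact ⟨γ, isLocalHom_of_comp RA γ _ hγ1, hγ1⟩

end Rings


section F1

variable {A B C : Type u} [CommRing A] [IsLocalRing A] [CommRing B] [IsLocalRing B]
  [CommRing C] [IsLocalRing C]
  (RA RB RC : Type u) [CommRing RA] [IsLocalRing RA] [Algebra A RA] [IsLocalHom (algebraMap A RA)]
  [Hensel.IsStrictHenselization A RA]
  [CommRing RB] [IsLocalRing RB] [Algebra B RB] [IsLocalHom (algebraMap B RB)]
  [Hensel.IsStrictHenselization B RB]
  [CommRing RC] [IsLocalRing RC] [Algebra C RC] [IsLocalHom (algebraMap C RC)]
  [Hensel.IsStrictHenselization C RC]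

/-- **F1**: a local homomorphism between strict henselizations of `A` and `C` compatible with a
composite `A → B → C` of local homomorphisms factors through any strict henselization of `B`. -/
theorem exists_factorization (a : A →+* B) [IsLocalHom a] (b : B →+* C) [IsLocalHom b]
    (ψ : RA →+* RC) [IsLocalHom ψ]
    (hψ : ψ.comp (algebraMap A RA) = (algebraMap C RC).comp (b.comp a)) :
    ∃ (γA : RA →+* RB) (γB : RB →+* RC), IsLocalHom γA ∧ IsLocalHom γB ∧
      γA.comp (algebraMap A RA) = (algebraMap B RB).comp a ∧
      γB.comp (algebraMap B RB) = (algebraMap C RC).comp b ∧ γB.comp γA = ψ := by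
  haveI hRA : HenselianLocalRing RA := Hensel.IsStrictHenselization.henselian (R := A)
  haveI hRB : HenselianLocalRing RB := Hensel.IsStrictHenselization.henselian (R := B)
  haveI hRC : HenselianLocalRing RC := Hensel.IsStrictHenselization.henselian (R := C)
  obtain ⟨γB, hγBloc, hγB⟩ := exists_local_lift RB RC b
  haveI := hγBloc
  have hscB : IsSepClosure (ResidueField B) (ResidueField RB) :=
    Hensel.IsStrictHenselization.isSepClosure
  haveI : IsSepClosed (ResidueField RB) := hscB.sep_closed
  have hscA : IsSepClosure (ResidueField A) (ResidueField RA) :=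
    Hensel.IsStrictHenselization.isSepClosure
  haveI : Algebra.IsSeparable (ResidueField A) (ResidueField RA) := hscA.separable
  let τ : ResidueField RB →+* ResidueField RC := ResidueField.map γB
  let ρ : ResidueField RA →+* ResidueField RC := ResidueField.map ψ
  let ι : ResidueField A →+* ResidueField RB :=
    (ResidueField.map (algebraMap B RB)).comp (ResidueField.map a)
  have hτι : τ.comp ι = ρ.comp (algebraMap (ResidueField A) (ResidueField RA)) := by
    apply RingHom.ext
    intro y
    obtain ⟨r, rfl⟩ := residue_surjective y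
    show ResidueField.map γB (ResidueField.map (algebraMap B RB) (ResidueField.map a (residue A r)))
      = ResidueField.map ψ (algebraMap (ResidueField A) (ResidueField RA) (residue A r))
    rw [ResidueField.map_residue, ResidueField.map_residue, ResidueField.map_residue,
      ResidueField.algebraMap_residue, ResidueField.map_residue]
    congr 1
    have h1 := congrArg (fun k => k (a r)) hγB
    have h2 := congrArg (fun k => k r) hψ
    simp only [RingHom.comp_apply] at h1 h2
    rw [h1, h2]
  have hmem : ∀ s : RA, ((residue RC).comp ψ) s ∈ τ.range := by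
    intro s
    have hsep : (minpoly (ResidueField A) (residue RA s)).Separable :=
      Algebra.IsSeparable.isSeparable (ResidueField A) (residue RA s)
    refine mem_range_of_isSeparable τ _ ((minpoly (ResidueField A) (residue RA s)).map ι)
      hsep.map ?_
    rw [Polynomial.map_map, hτι, ← Polynomial.map_map]
    have h3 : residue RC (ψ s) = ρ (residue RA s) := (ResidueField.map_residue ψ s).symm
    show Polynomial.eval (residue RC (ψ s)) _ = 0
    rw [h3, Polynomial.eval_map, Polynomial.eval₂_hom, Polynomial.eval_map,
      ← Polynomial.aeval_def, minpoly.aeval, map_zero]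
  have hτinj : Function.Injective τ := τ.injective
  let e : ResidueField RB ≃+* τ.range :=
    RingEquiv.ofBijective τ.rangeRestrict
      ⟨fun x y h => hτinj (congrArg Subtype.val h), τ.rangeRestrict_surjective⟩
  let η : RA →+* ResidueField RB :=
    e.symm.toRingHom.comp (((residue RC).comp ψ).codRestrict τ.range hmem)
  have hη : ∀ s : RA, τ (η s) = residue RC (ψ s) := by
    intro s
    have h4 : e (η s) = (((residue RC).comp ψ).codRestrict τ.range hmem) s :=
      e.apply_symm_apply _
    exact congrArg Subtype.val h4
  have hηc : η.comp (algebraMap A RA) = (residue RB).comp ((algebraMap B RB).comp a) := by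
    apply RingHom.ext
    intro r
    apply hτinj
    rw [RingHom.comp_apply, hη]
    show _ = ResidueField.map γB (residue RB (algebraMap B RB (a r)))
    rw [ResidueField.map_residue]
    congr 1
    have h1 := congrArg (fun k => k (a r)) hγB
    have h2 := congrArg (fun k => k r) hψ
    simp only [RingHom.comp_apply] at h1 h2
    rw [h1, h2]
  obtain ⟨γA, ⟨hγA1, hγA2⟩, -⟩ :=
    SP.exists_unique_lift A RA RB ((algebraMap B RB).comp a) η hηc
  haveI : IsLocalHom ((algebraMap B RB).comp a) := RingHom.isLocalHom_comp _ _
  have hγAloc : IsLocalHom γA := isLocalHom_of_comp RA γA _ hγA1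
  refine ⟨γA, γB, hγAloc, hγBloc, hγA1, hγB, ?_⟩
  have hη' : ((residue RC).comp ψ).comp (algebraMap A RA) =
      (residue RC).comp ((algebraMap C RC).comp (b.comp a)) := by
    rw [RingHom.comp_assoc, hψ]
  obtain ⟨γ₀, -, huniq⟩ := SP.exists_unique_lift A RA RC ((algebraMap C RC).comp (b.comp a))
    ((residue RC).comp ψ) hη'
  have e1 : ψ = γ₀ := huniq ψ ⟨hψ, rfl⟩
  have e2 : γB.comp γA = γ₀ := by
    apply huniq
    constructor
    · rw [RingHom.comp_assoc, hγA1, ← RingHom.comp_assoc, hγB, RingHom.comp_assoc]
    · apply RingHom.ext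
      intro s
      show residue RC (γB (γA s)) = residue RC (ψ s)
      rw [← hη s, ← ResidueField.map_residue γB]
      congr 1
      exact congrArg (fun k => k s) hγA2
  rw [e2, ← e1]

end F1


section Schemes

open CategoryTheory AlgebraicGeometry

variable {X Y Z : Scheme.{u}} (g : X ⟶ Y) (h : Y ⟶ Z)

/-- two-out-of-three for a property of the morphisms of strict localizations, along a
surjective `g` having the property. -/
theorem onStrictLocalizations_comp_iff
    (P : ∀ ⦃X' Y' : Scheme.{u}⦄, (X' ⟶ Y') → Prop)
    (hP : ∀ {A B C : Scheme.{u}} (p : A ⟶ B) (q : B ⟶ C), P p → (P q ↔ P (p ≫ q)))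
    (hg : Function.Surjective g.base)
    (hgP : EtAcyc.OnStrictLocalizations g P) :
    EtAcyc.OnStrictLocalizations h P ↔ EtAcyc.OnStrictLocalizations (g ≫ h) P := by
  constructor
  · intro hh x RZ RX _ _ _ _ aZ lhZ shZ _ _ _ aZX lhZX hcompat
    letI aZ' : Algebra (Z.presheaf.stalk (h.base (g.base x))) RZ := aZ
    haveI lhZ' : IsLocalHom (algebraMap (Z.presheaf.stalk (h.base (g.base x))) RZ) := lhZ
    haveI shZ' : Hensel.IsStrictHenselization (Z.presheaf.stalk (h.base (g.base x))) RZ := shZ
    have hψ : (algebraMap RZ RX).comp (algebraMap (Z.presheaf.stalk (h.base (g.base x))) RZ) =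
        (algebraMap (X.presheaf.stalk x) RX).comp
          ((g.stalkMap x).hom.comp (h.stalkMap (g.base x)).hom) := by
      rw [← CommRingCat.hom_comp, ← Scheme.Hom.stalkMap_comp]
      exact hcompat
    haveI := SHzn.isStrictHenselization (Y.presheaf.stalk (g.base x))
    obtain ⟨γA, γB, hγA, hγB, hA, hB, hAB⟩ := exists_factorization RZ
      (SHzn.S (Y.presheaf.stalk (g.base x))) RX (h.stalkMap (g.base x)).hom (g.stalkMap x).hom
      (algebraMap RZ RX) hψ
    have h1 : P (Spec.map (CommRingCat.ofHom γB)) := by
      letI := γB.toAlgebra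
      haveI : IsLocalHom (algebraMap (SHzn.S (Y.presheaf.stalk (g.base x))) RX) := hγB
      exact hgP x (SHzn.S (Y.presheaf.stalk (g.base x))) RX hB
    have h2 : P (Spec.map (CommRingCat.ofHom γA)) := by
      letI := γA.toAlgebra
      haveI : IsLocalHom (algebraMap RZ (SHzn.S (Y.presheaf.stalk (g.base x)))) := hγA
      exact hh (g.base x) RZ (SHzn.S (Y.presheaf.stalk (g.base x))) hA
    have h3 := (hP _ _ h1).1 h2
    rw [← Spec.map_comp, ← CommRingCat.ofHom_comp, hAB] at h3
    exact h3
  · intro hgh y RZ RY _ _ _ _ aZ lhZ shZ _ _ _ aZY lhZY hcompat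
    obtain ⟨x, rfl⟩ := hg y
    haveI := SHzn.isStrictHenselization (X.presheaf.stalk x)
    obtain ⟨γ, hγ, hγc⟩ := exists_local_lift RY (SHzn.S (X.presheaf.stalk x)) (g.stalkMap x).hom
    have h1 : P (Spec.map (CommRingCat.ofHom γ)) := by
      letI := γ.toAlgebra
      haveI : IsLocalHom (algebraMap RY (SHzn.S (X.presheaf.stalk x))) := hγ
      exact hgP x RY (SHzn.S (X.presheaf.stalk x)) hγc
    have h2 : P (Spec.map (CommRingCat.ofHom (γ.comp (algebraMap RZ RY)))) := by
      letI := (γ.comp (algebraMap RZ RY)).toAlgebra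
      haveI : IsLocalHom (algebraMap RZ (SHzn.S (X.presheaf.stalk x))) := by
        haveI := hγ
        exact RingHom.isLocalHom_comp _ _
      letI aZ' : Algebra (Z.presheaf.stalk ((g ≫ h).base x)) RZ := aZ
      haveI lhZ' : IsLocalHom (algebraMap (Z.presheaf.stalk ((g ≫ h).base x)) RZ) := lhZ
      haveI shZ' : Hensel.IsStrictHenselization (Z.presheaf.stalk ((g ≫ h).base x)) RZ := shZ
      refine hgh x RZ (SHzn.S (X.presheaf.stalk x)) ?_
      apply RingHom.ext
      intro r
      have e1 := DFunLike.congr_fun hcompat r
      have e2 := DFunLike.congr_fun hγc ((h.stalkMap (g.base x)).hom r)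
      have e3 : ((g ≫ h).stalkMap x).hom r = (g.stalkMap x).hom ((h.stalkMap (g.base x)).hom r) := by
        rw [Scheme.Hom.stalkMap_comp]
        rfl
      exact (congrArg γ e1).trans (e2.trans
        (congrArg (algebraMap (X.presheaf.stalk x) (SHzn.S (X.presheaf.stalk x))) e3.symm))
    rw [CommRingCat.ofHom_comp, Spec.map_comp] at h2
    exact (hP _ _ h1).2 h2

end Schemes

end Groth.Agent.Helper1.LA
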