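import Mathlib
import Groth.Prelude.Def_EtCore
import Groth.Agent.Lib.Helper1.LC4
import Groth.Agent.Lib.Helper1.LC6

/-!
# The unit `M_X ⟶ f_* f^* M_X` for constant sheaves, via locally constant functions
-/

universe v₁ v₂ v₃ u₁ u₂ u₃ u
set_option linter.unusedSectionVars false
set_option linter.style.haveILetI false
open CategoryTheory CategoryTheory.Limits AlgebraicGeometry TopologicalSpace Opposite

namespace Groth.Agent.Helper1.LC

theorem unit_comp_eq {𝒜 : Type u₁} {SX : Type u₂} {SZ : Type u₃} [Category.{v₁} 𝒜]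
    [Category.{v₂} SX] [Category.{v₃} SZ]
    {cX : 𝒜 ⥤ SX} {gX : SX ⥤ 𝒜} (adjX : cX ⊣ gX)
    {cZ : 𝒜 ⥤ SZ} {gZ : SZ ⥤ 𝒜} (adjZ : cZ ⊣ gZ)
    {pl : SX ⥤ SZ} {ps : SZ ⥤ SX} (adjf : pl ⊣ ps) (ν : ps ⋙ gX ≅ gZ)
    (A : 𝒜) {LX : SX} {LZ : SZ} (φX : cX.obj A ⟶ LX) (φZ : cZ.obj A ⟶ LZ) (ρ : LX ⟶ ps.obj LZ)
    (H : adjX.unit.app A ≫ gX.map φX ≫ gX.map ρ ≫ ν.hom.app LZ = adjZ.unit.app A ≫ gZ.map φZ) :
    adjf.unit.app (cX.obj A) ≫
      ps.map ((Adjunction.leftAdjointUniq ((adjX.comp adjf).ofNatIsoRight ν) adjZ).hom.app A ≫ φZ) =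
      φX ≫ ρ := by
  apply (adjX.homEquiv A _).injective
  rw [Adjunction.homEquiv_unit, Adjunction.homEquiv_unit]
  rw [← cancel_mono (ν.hom.app LZ)]
  have h1 := Adjunction.unit_leftAdjointUniq_hom_app ((adjX.comp adjf).ofNatIsoRight ν) adjZ A
  have h2 : ((adjX.comp adjf).ofNatIsoRight ν).unit.app A =
      adjX.unit.app A ≫ gX.map (adjf.unit.app (cX.obj A)) ≫ ν.hom.app (pl.obj (cX.obj A)) := by
    simp
  rw [h2] at h1
  have n1 := ν.hom.naturality
    ((Adjunction.leftAdjointUniq ((adjX.comp adjf).ofNatIsoRight ν) adjZ).hom.app A ≫ φZ)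
  simp only [Functor.comp_map] at n1
  simp only [Functor.map_comp, Category.assoc] at n1 h1 H ⊢
  rw [H, n1, ← h1]
  simp only [Category.assoc]
  rfl

section Sch

variable {X Z : Scheme.{u}} (f : Z ⟶ X) (M : Type (u + 1)) [AddCommGroup M]

/-- the projection on points -/
noncomputable def piV (V : X.Etale) :
    C((etPt Z).pt.obj ((EtCoh.bc f).obj V), (etPt X).pt.obj V) :=
  (pullback.fst V.hom f).base.hom

/-- restriction of locally constant functions to the base change -/
noncomputable def rhoP : LCp (etPt X) M ⟶ (EtCoh.bc f).op ⋙ LCp (etPt Z) M where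
  app V := AddCommGrpCat.ofHom (LocallyConstant.comapAddMonoidHom (piV f V.unop))
  naturality V W g := by
    refine AddCommGrpCat.hom_ext ?_
    refine AddMonoidHom.ext fun s => LocallyConstant.ext fun z => ?_
    have h := congrArg (fun h => h.base z) (EtCoh.isPullback_bc_map f g.unop).w
    exact congrArg (fun p => (toLC (etPt X) M s) p) h.symm

/-- restriction of locally constant functions to the base change, as a morphism of sheaves -/
noncomputable def rho : LCs (etPt X) M ⟶ (EtCoh.push f).obj (LCs (etPt Z) M) :=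
  ⟨rhoP f M⟩

theorem isIso_rho
    (hbij : ∀ V : X.Etale, Function.Bijective
      (LocallyConstant.comap (piV f V) : LocallyConstant ((etPt X).pt.obj V) M →
        LocallyConstant ((etPt Z).pt.obj ((EtCoh.bc f).obj V)) M)) :
    IsIso (rho f M) := by
  haveI : ∀ V, IsIso ((rhoP f M).app V) := by
    intro V
    let e : LocallyConstant ((etPt X).pt.obj V.unop) M ≃+
        LocallyConstant ((etPt Z).pt.obj ((EtCoh.bc f).obj V.unop)) M :=
      AddEquiv.ofBijective (LocallyConstant.comapAddMonoidHom (piV f V.unop)) (hbij V.unop)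
    have h : (rhoP f M).app V = (AddEquiv.toAddCommGrpIso e).hom := rfl
    rw [h]
    infer_instance
  haveI : IsIso (rhoP f M) := NatIso.isIso_of_isIso_app _
  haveI : IsIso ((sheafToPresheaf _ _).map (rho f M)) := (inferInstance : IsIso (rhoP f M))
  exact isIso_of_reflects_iso (rho f M) (sheafToPresheaf _ _)

theorem unit_comp_constIso (Y : Scheme.{u}) :
    (EtCore.constAdj Y).unit.app (AddCommGrpCat.of M) ≫
        (EtCore.gsec Y).map (constIso (etPt Y) M).hom =
      (kappa (etPt Y) M).app (op (EtCoh.top Y)) := by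
  have h := toSheafify_constIso_hom (etPt Y) M
  have h' := congrArg (fun t => t.app (op (EtCoh.top Y))) h
  have e1 : (EtCore.constAdj Y).unit.app (AddCommGrpCat.of M) =
      (toSheafify Y.smallEtaleTopology
        ((Functor.const _).obj (AddCommGrpCat.of M))).app (op (EtCoh.top Y)) := by
    show ((constantPresheafAdj _ (EtCore.topIsTerminal Y)).comp
      (sheafificationAdjunction _ _)).unit.app _ = _
    rw [Adjunction.comp_unit_app]
    exact Category.id_comp _
  rw [e1]
  exact h'

theorem key_H :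
    (EtCore.constAdj X).unit.app (AddCommGrpCat.of M) ≫
      (EtCore.gsec X).map (constIso (etPt X) M).hom ≫ (EtCore.gsec X).map (rho f M) ≫
        (EtCore.pushGsecIso f).hom.app (LCs (etPt Z) M) =
    (EtCore.constAdj Z).unit.app (AddCommGrpCat.of M) ≫
      (EtCore.gsec Z).map (constIso (etPt Z) M).hom := by
  rw [unit_comp_constIso M Z, ← Category.assoc, unit_comp_constIso M X]
  refine AddCommGrpCat.hom_ext ?_
  refine AddMonoidHom.ext fun m => LocallyConstant.ext fun z => ?_
  rfl

theorem key_identity :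
    (EtCoh.pullPushAdj f).unit.app
        ((constantSheaf X.smallEtaleTopology AddCommGrpCat.{u + 1}).obj (AddCommGrpCat.of M)) ≫
      (EtCoh.push f).map ((EtCore.pullConstIso f).hom.app (AddCommGrpCat.of M) ≫
        (constIso (etPt Z) M).hom) =
    (constIso (etPt X) M).hom ≫ rho f M :=
  unit_comp_eq (EtCore.constAdj X) (EtCore.constAdj Z) (EtCoh.pullPushAdj f) (EtCore.pushGsecIso f)
    (AddCommGrpCat.of M) (constIso (etPt X) M).hom (constIso (etPt Z) M).hom (rho f M)
    (key_H f M)

theorem isIso_unit_const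
    (hbij : ∀ V : X.Etale, Function.Bijective
      (LocallyConstant.comap (piV f V) : LocallyConstant ((etPt X).pt.obj V) M →
        LocallyConstant ((etPt Z).pt.obj ((EtCoh.bc f).obj V)) M)) :
    IsIso ((EtCoh.pullPushAdj f).unit.app
      ((constantSheaf X.smallEtaleTopology AddCommGrpCat.{u + 1}).obj (AddCommGrpCat.of M))) := by
  have key := key_identity f M
  haveI := isIso_rho f M hbij
  haveI : IsIso ((EtCoh.pullPushAdj f).unit.app
        ((constantSheaf X.smallEtaleTopology AddCommGrpCat.{u + 1}).obj (AddCommGrpCat.of M)) ≫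
      (EtCoh.push f).map ((EtCore.pullConstIso f).hom.app (AddCommGrpCat.of M) ≫
        (constIso (etPt Z) M).hom)) := by
    rw [key]
    infer_instance
  exact IsIso.of_isIso_comp_right _ ((EtCoh.push f).map
    ((EtCore.pullConstIso f).hom.app (AddCommGrpCat.of M) ≫ (constIso (etPt Z) M).hom))

end Sch

/-- the unit for a constant sheaf on a normal integral scheme along a preimmersion containing the
generic point is an isomorphism -/
theorem main_normal {X Z : Scheme.{u}} [IsIntegral X]
    (hN : ∀ x : X, IsIntegrallyClosed (X.presheaf.stalk x)) (f : Z ⟶ X) [IsPreimmersion f]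
    (hf : genericPoint X ∈ Set.range f.base) (M : Type) [AddCommGroup M] :
    IsIso ((EtCoh.pullPushAdj f).unit.app (EtCoh.const X M)) := by
  apply isIso_unit_const f (ULift.{u + 1} M)
  intro V
  let c : V.left ⟶ X := V.hom
  haveI : Etale c := V.prop
  exact comap_fst_bijective c hN f hf _

end Groth.Agent.Helper1.LC
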