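import Mathlib
import Groth.Prelude.Def_EtShriek2
import Groth.Agent.Lib.Helper1.EZ4

/-!
# Coproducts of abelian étale sheaves, sectionwise (helper1, UD3: large index types)
-/

set_option autoImplicit false
set_option linter.unusedSectionVars false
set_option linter.style.haveILetI false

open CategoryTheory CategoryTheory.Limits AlgebraicGeometry Opposite

namespace Groth.Agent.Helper1.UDL

universe u

open Groth.Agent.Helper1.ES Groth.Agent.Helper1.EZ

variable {X : Scheme.{u}} {ι : Type (u + 1)} (F : ι → EtCoh.Ab X)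

/-- the inclusion of a summand, on sections -/
noncomputable def inS (i : ι) (W : X.Etale) :
    EtCoh.sect (F i) W →+ EtCoh.sect (∐ F) W :=
  ((Sigma.ι F i).hom.app (op W)).hom

theorem inS_res (i : ι) {W W' : X.Etale} (k : W' ⟶ W) (s : EtCoh.sect (F i) W) :
    (∐ F).obj.map k.op (inS F i W s) = inS F i W' ((F i).obj.map k.op s) := by
  have := congrArg (fun ψ => ψ s) (congrArg AddCommGrpCat.Hom.hom
    ((Sigma.ι F i).hom.naturality k.op))
  simp only [AddCommGrpCat.hom_comp, AddMonoidHom.coe_comp, Function.comp_apply] at this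
  exact this.symm

open Classical in
/-- the projection to a summand -/
noncomputable def comp (i : ι) : ∐ F ⟶ F i :=
  Sigma.desc (fun j => if h : j = i then eqToHom (congrArg F h) else 0)

theorem ι_comp_self (i : ι) : Sigma.ι F i ≫ comp F i = 𝟙 _ := by
  unfold comp
  rw [Sigma.ι_desc, dif_pos rfl]
  rfl

theorem ι_comp_ne (i j : ι) (h : j ≠ i) : Sigma.ι F j ≫ comp F i = 0 := by
  unfold comp
  rw [Sigma.ι_desc, dif_neg h]

/-- the projection to a summand, on sections -/
noncomputable def prS (i : ι) (W : X.Etale) :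
    EtCoh.sect (∐ F) W →+ EtCoh.sect (F i) W :=
  ((comp F i).hom.app (op W)).hom

theorem prS_res (i : ι) {W W' : X.Etale} (k : W' ⟶ W) (t : EtCoh.sect (∐ F) W) :
    (F i).obj.map k.op (prS F i W t) = prS F i W' ((∐ F).obj.map k.op t) := by
  have := congrArg (fun ψ => ψ t) (congrArg AddCommGrpCat.Hom.hom
    ((comp F i).hom.naturality k.op))
  simp only [AddCommGrpCat.hom_comp, AddMonoidHom.coe_comp, Function.comp_apply] at this
  exact this.symm

theorem prS_inS_self (i : ι) (W : X.Etale) (s : EtCoh.sect (F i) W) :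
    prS F i W (inS F i W s) = s := by
  have := congrArg (fun (m : F i ⟶ F i) => m.hom.app (op W) s) (ι_comp_self F i)
  exact this

theorem prS_inS_ne (i j : ι) (h : j ≠ i) (W : X.Etale) (s : EtCoh.sect (F j) W) :
    prS F i W (inS F j W s) = 0 := by
  have := congrArg (fun (m : F j ⟶ F i) => m.hom.app (op W) s) (ι_comp_ne F i j h)
  exact this

open Classical in
theorem prS_sum_inS (W : X.Etale) (S : Finset ι) (s : ∀ i, EtCoh.sect (F i) W) (j : ι) :
    prS F j W (∑ i ∈ S, inS F i W (s i)) = if j ∈ S then s j else 0 := by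
  classical
  rw [map_sum]
  by_cases hj : j ∈ S
  · rw [if_pos hj, Finset.sum_eq_single_of_mem j hj]
    · exact prS_inS_self F j W (s j)
    · intro i _ hij
      exact prS_inS_ne F j i hij W (s i)
  · rw [if_neg hj]
    apply Finset.sum_eq_zero
    intro i hi
    exact prS_inS_ne F j i (fun h => hj (h ▸ hi)) W (s i)

/-- `t` is a finite sum of sections of the summands -/
def IsFinSum (W : X.Etale) (t : EtCoh.sect (∐ F) W) : Prop :=
  ∃ (S : Finset ι) (s : ∀ i, EtCoh.sect (F i) W), (∀ i, i ∉ S → s i = 0) ∧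
    t = ∑ i ∈ S, inS F i W (s i)

/-- being a finite sum of sections of summands is a stable predicate -/
noncomputable def finSumPred : StablePred (∐ F) where
  P := IsFinSum F
  zero W := ⟨∅, fun _ => 0, fun _ _ => rfl, by simp⟩
  add W a b := by
    classical
    rintro ⟨S₁, s₁, h₁, e₁⟩ ⟨S₂, s₂, h₂, e₂⟩
    refine ⟨S₁ ∪ S₂, fun i => s₁ i + s₂ i, fun i hi => ?_, ?_⟩
    · rw [Finset.mem_union, not_or] at hi
      show s₁ i + s₂ i = 0
      rw [h₁ i hi.1, h₂ i hi.2, add_zero]
    · have a1 : ∑ i ∈ S₁, inS F i W (s₁ i) = ∑ i ∈ S₁ ∪ S₂, inS F i W (s₁ i) :=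
        Finset.sum_subset Finset.subset_union_left
          (fun i _ hi => by rw [h₁ i hi, map_zero])
      have a2 : ∑ i ∈ S₂, inS F i W (s₂ i) = ∑ i ∈ S₁ ∪ S₂, inS F i W (s₂ i) :=
        Finset.sum_subset Finset.subset_union_right
          (fun i _ hi => by rw [h₂ i hi, map_zero])
      rw [e₁, e₂, a1, a2, ← Finset.sum_add_distrib]
      exact Finset.sum_congr rfl (fun i _ => (map_add _ _ _).symm)
  neg W a := by
    rintro ⟨S, s, h, e⟩
    refine ⟨S, fun i => -(s i), fun i hi => by show -(s i) = 0; rw [h i hi, neg_zero], ?_⟩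
    rw [e, ← Finset.sum_neg_distrib]
    exact Finset.sum_congr rfl (fun i _ => (map_neg _ _).symm)
  res {W W'} k a := by
    rintro ⟨S, s, h, e⟩
    refine ⟨S, fun i => (F i).obj.map k.op (s i),
      fun i hi => by show (F i).obj.map k.op (s i) = 0; rw [h i hi, map_zero], ?_⟩
    rw [e, map_sum]
    exact Finset.sum_congr rfl (fun i _ => inS_res F i k (s i))

theorem isFinSum_inS (i : ι) (W : X.Etale) (s : EtCoh.sect (F i) W) :
    IsFinSum F W (inS F i W s) := by
  classical
  refine ⟨{i}, Pi.single i s, fun j hj => ?_, ?_⟩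
  · rw [Finset.mem_singleton] at hj
    exact Pi.single_eq_of_ne (M := fun j => EtCoh.sect (F j) W) hj s
  · rw [Finset.sum_singleton, Pi.single_eq_same]

/-- a local family of subgroups of the coproduct containing the summands is everything -/
theorem mem_of_inS (D : LocSub (∐ F))
    (h : ∀ (i : ι) (W : X.Etale) (s : EtCoh.sect (F i) W), inS F i W s ∈ D.A W)
    (W : X.Etale) (t : EtCoh.sect (∐ F) W) : t ∈ D.A W := by
  let ι' : ∀ i, F i ⟶ D.sheaf := fun i =>
    ⟨{ app := fun V => AddCommGrpCat.ofHom (AddMonoidHom.mk'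
          (fun s => (⟨inS F i V.unop s, h i V.unop s⟩ : D.A V.unop))
          (by
            intro a b
            apply Subtype.ext
            exact map_add _ a b))
       naturality := by
         intro V V' g
         ext s
         apply Subtype.ext
         exact (inS_res F i g.unop s).symm }⟩
  let Ψ : ∐ F ⟶ D.sheaf := Sigma.desc ι'
  have hΨ : Ψ ≫ D.ι = 𝟙 _ := by
    apply Sigma.hom_ext
    intro i
    rw [← Category.assoc, Sigma.ι_desc, Category.comp_id]
    ext V s
    rfl
  have e : t = D.ι.hom.app (op W) (Ψ.hom.app (op W) t) := by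
    have := congrArg (fun (m : ∐ F ⟶ ∐ F) => m.hom.app (op W) t) hΨ
    exact this.symm
  rw [e]
  exact (show ↥(D.A W) from Ψ.hom.app (op W) t).2

/-- every section of a coproduct is locally a finite sum of sections of the summands -/
theorem exists_cover_isFinSum (W : X.Etale) (t : EtCoh.sect (∐ F) W) :
    ∃ R : Sieve W, R ∈ X.smallEtaleTopology W ∧
      ∀ (W' : X.Etale) (k : W' ⟶ W), R k → IsFinSum F W' ((∐ F).obj.map k.op t) := by
  refine mem_of_inS F (finSumPred F).locSub (fun i V s => ?_) W t
  refine ⟨⊤, X.smallEtaleTopology.top_mem _, fun W' k _ => ?_⟩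
  exact (finSumPred F).res k _ (isFinSum_inS F i V s)

/-- the projections to the summands are jointly injective on sections -/
theorem eq_zero_of_prS_eq_zero (W : X.Etale) (t : EtCoh.sect (∐ F) W)
    (h : ∀ i, prS F i W t = 0) : t = 0 := by
  obtain ⟨R, hR, hP⟩ := exists_cover_isFinSum F W t
  apply SHC.eq_of_equalizerSieve_mem _ W
  refine X.smallEtaleTopology.superset_covering ?_ hR
  intro W' k hk
  change (∐ F).obj.map k.op t = (∐ F).obj.map k.op 0
  rw [map_zero]
  obtain ⟨S, s, hs, e⟩ := hP W' k hk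
  have hs0 : ∀ j, s j = 0 := by
    intro j
    by_cases hj : j ∈ S
    · have h1 := prS_sum_inS F W' S s j
      rw [if_pos hj, ← e, ← prS_res, h j, map_zero] at h1
      exact h1.symm
    · exact hs j hj
  rw [e]
  apply Finset.sum_eq_zero
  intro i _
  rw [hs0 i, map_zero]

theorem eq_of_prS_eq (W : X.Etale) (t t' : EtCoh.sect (∐ F) W)
    (h : ∀ i, prS F i W t = prS F i W t') : t = t' := by
  rw [← sub_eq_zero]
  apply eq_zero_of_prS_eq_zero
  intro i
  rw [map_sub, h i, sub_self]

end Groth.Agent.Helper1.UDL
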