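import Mathlib
import Groth.Prelude.Def_EtShriek2
import Groth.Agent.Lib.Helper1.UD3

/-!
# Direct image with proper support commutes with direct sums (helper1, UD4: large index types)
-/

set_option autoImplicit false
set_option linter.unusedSectionVars false
set_option linter.style.haveILetI false

open CategoryTheory CategoryTheory.Limits AlgebraicGeometry Opposite

namespace Groth.Agent.Helper1.UDL

universe u

open Groth.Agent.Helper1.ES Groth.Agent.Helper1.EZ

variable {X Y : Scheme.{u}} (f : X ⟶ Y) [LocallyOfFiniteType f] {ι : Type (u + 1)}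
  (F : ι → EtCoh.Ab X)

/-- the comparison `⊕ f_! F_i ⟶ f_! (⊕ F_i)` -/
noncomputable abbrev cmp :
    (∐ fun i => (shriekSheaf f).obj (F i)) ⟶ (shriekSheaf f).obj (∐ F) :=
  sigmaComparison (shriekSheaf f) F

theorem valS_sum {H : EtCoh.Ab X} (V : Y.Etale) {κ : Type*} (S : Finset κ)
    (a : κ → EtCoh.sect ((shriekSheaf f).obj H) V) :
    valS f H V (∑ i ∈ S, a i) = ∑ i ∈ S, valS f H V (a i) :=
  map_sum (EtShriek.shriekSubgroup f H V).subtype
    (fun i => (show ↥(EtShriek.shriekSubgroup f H V) from a i)) S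

theorem valS_cmp_inS (i : ι) (V : Y.Etale) (u : EtCoh.sect ((shriekSheaf f).obj (F i)) V) :
    valS f (∐ F) V ((cmp f F).hom.app (op V)
      (inS (fun i => (shriekSheaf f).obj (F i)) i V u)) =
      inS F i ((EtCoh.bc f).obj V) (valS f (F i) V u) := by
  have h := ι_comp_sigmaComparison (shriekSheaf f) F i
  have h' := congrArg (fun (m : (shriekSheaf f).obj (F i) ⟶ (shriekSheaf f).obj (∐ F)) =>
    m.hom.app (op V) u) h
  exact congrArg (valS f (∐ F) V) h'

theorem cmp_res {V V' : Y.Etale} (k : V' ⟶ V)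
    (u : EtCoh.sect (∐ fun i => (shriekSheaf f).obj (F i)) V) :
    (cmp f F).hom.app (op V') ((∐ fun i => (shriekSheaf f).obj (F i)).obj.map k.op u) =
      ((shriekSheaf f).obj (∐ F)).obj.map k.op ((cmp f F).hom.app (op V) u) := by
  have nat := congrArg (fun ψ => ψ u)
    (congrArg AddCommGrpCat.Hom.hom ((cmp f F).hom.naturality k.op))
  simp only [AddCommGrpCat.hom_comp, AddMonoidHom.coe_comp, Function.comp_apply] at nat
  exact nat

theorem injective_cmp (V : Y.Etale) : Function.Injective ((cmp f F).hom.app (op V)).hom := by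
  classical
  rw [injective_iff_map_eq_zero]
  intro u hu
  obtain ⟨R, hR, hP⟩ := exists_cover_isFinSum (fun i => (shriekSheaf f).obj (F i)) V u
  apply SHC.eq_of_equalizerSieve_mem _ V
  refine Y.smallEtaleTopology.superset_covering ?_ hR
  intro V' k hk
  change (∐ fun i => (shriekSheaf f).obj (F i)).obj.map k.op u =
    (∐ fun i => (shriekSheaf f).obj (F i)).obj.map k.op 0
  rw [map_zero]
  obtain ⟨S, s, hs, e⟩ := hP V' k hk
  have h1 : (cmp f F).hom.app (op V')
      ((∐ fun i => (shriekSheaf f).obj (F i)).obj.map k.op u) = 0 := by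
    rw [cmp_res]
    have hu' : (cmp f F).hom.app (op V) u = 0 := hu
    rw [hu', map_zero]
  rw [e] at h1 ⊢
  have h2 : ∑ i ∈ S, inS F i ((EtCoh.bc f).obj V') (valS f (F i) V' (s i)) = 0 := by
    have h1' := congrArg (valS f (∐ F) V') h1
    rw [map_sum, valS_sum] at h1'
    rw [Finset.sum_congr rfl (fun i _ => valS_cmp_inS f F i V' (s i))] at h1'
    exact h1'
  have h3 : ∀ j, valS f (F j) V' (s j) = 0 := by
    intro j
    by_cases hj : j ∈ S
    · have h4 := prS_sum_inS F ((EtCoh.bc f).obj V') S (fun i => valS f (F i) V' (s i)) j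
      rw [if_pos hj, h2, map_zero] at h4
      exact h4.symm
    · rw [hs j hj]
      rfl
  apply Finset.sum_eq_zero
  intro i _
  have h5 : s i = 0 := valS_injective f (F i) V' (h3 i)
  rw [h5, map_zero]

instance mono_cmp : Mono (cmp f F) :=
  mono_of_injective_app _ (injective_cmp f F)

theorem isLocallySurjective_cmp : Sheaf.IsLocallySurjective (cmp f F) := by
  classical
  constructor
  intro V w
  apply SHC.mem_of_pointwise
  intro v
  obtain ⟨O, hO, hvO, -⟩ := exists_isAffineOpen_mem_and_subset (x := v) (U := ⊤) trivial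
  let V' := openObj V O
  let k : V' ⟶ V := openObjι V O
  refine ⟨V', k, ⟨v, hvO⟩, ?_, rfl⟩
  let w' : EtCoh.sect ((shriekSheaf f).obj (∐ F)) V' :=
    ((shriekSheaf f).obj (∐ F)).obj.map k.op w
  let t := valS f (∐ F) V' w'
  have ht : t ∈ EtShriek.shriekSubgroup f (∐ F) V' := valS_mem f (∐ F) V' w'
  have hprop := (mem_shriekSubgroup_iff' f (∐ F) V' t).1 ht
  let B := (EtCoh.bc f).obj V'
  have hZc : IsCompact (EtShriek.sectSupp (∐ F) B t) := by
    obtain ⟨hc, hp⟩ := hprop
    haveI : IsProper ((Scheme.IdealSheafData.vanishingIdeal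
      ⟨EtShriek.sectSupp (∐ F) B t, hc⟩).subschemeι ≫ EtShriek.prV f V') := hp
    haveI : IsAffine V'.left := hO
    haveI : CompactSpace ↥(Scheme.IdealSheafData.vanishingIdeal
        ⟨EtShriek.sectSupp (∐ F) B t, hc⟩).subscheme :=
      QuasiCompact.compactSpace_of_compactSpace ((Scheme.IdealSheafData.vanishingIdeal
        ⟨EtShriek.sectSupp (∐ F) B t, hc⟩).subschemeι ≫ EtShriek.prV f V')
    rw [← Helper2.range_red _ hc]
    exact isCompact_range (Scheme.IdealSheafData.vanishingIdeal
      ⟨EtShriek.sectSupp (∐ F) B t, hc⟩).subschemeι.continuous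
  obtain ⟨R, hR, hP⟩ := exists_cover_isFinSum F B t
  have hpt : ∀ x : B.left, ∃ (P : X.Etale) (g : P ⟶ B) (p : P.left),
      R g ∧ g.left.base p = x := fun x => pointwise_of_mem B R hR x
  choose P g p hRg hgp using hpt
  have hfs : ∀ x, IsFinSum F (P x) ((∐ F).obj.map (g x).op t) := fun x => hP _ _ (hRg x)
  choose S s hs e using hfs
  obtain ⟨A, hA⟩ := hZc.elim_finite_subcover (fun x : B.left => Set.range (g x).left.base)
    (fun x => (g x).left.isOpenMap.isOpen_range)
    (fun x _ => Set.mem_iUnion.2 ⟨x, ⟨p x, hgp x⟩⟩)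
  let S0 : Finset ι := A.biUnion S
  have hvan : ∀ j, j ∉ S0 → prS F j B t = 0 := by
    intro j hj
    apply eq_zero_of_sectSupp_eq_empty
    rw [Set.eq_empty_iff_forall_notMem]
    intro x hx
    have hxZ : x ∈ EtShriek.sectSupp (∐ F) B t :=
      EtShriek.sectSupp_map_subset (comp F j) B t hx
    obtain ⟨a, haA, q, hq⟩ := Set.mem_iUnion₂.1 (hA hxZ)
    apply hx (P a) (g a) ⟨q, hq⟩
    have hja : j ∉ S a := fun h => hj (Finset.mem_biUnion.2 ⟨a, haA, h⟩)
    have h1 := prS_sum_inS F (P a) (S a) (s a) j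
    rw [if_neg hja, ← e a, ← prS_res] at h1
    exact h1
  have hsum : t = ∑ j ∈ S0, inS F j B (prS F j B t) := by
    apply eq_of_prS_eq
    intro i
    rw [prS_sum_inS]
    by_cases hi : i ∈ S0
    · rw [if_pos hi]
    · rw [if_neg hi, hvan i hi]
  have hmem : ∀ j, prS F j B t ∈ EtShriek.shriekSubgroup f (F j) V' := by
    intro j
    rw [mem_shriekSubgroup_iff']
    exact isProperOver_mono _ (SHC.isClosed_sectSupp _ _ _)
      (EtShriek.sectSupp_map_subset (comp F j) B t) hprop
  let u : EtCoh.sect (∐ fun i => (shriekSheaf f).obj (F i)) V' :=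
    ∑ j ∈ S0, inS (fun i => (shriekSheaf f).obj (F i)) j V'
      (mkS f (F j) V' (prS F j B t) (hmem j))
  refine ⟨u, ?_⟩
  apply valS_injective
  have h1 : valS f (∐ F) V' ((cmp f F).hom.app (op V') u) =
      ∑ j ∈ S0, inS F j B (prS F j B t) := by
    change valS f (∐ F) V' (((cmp f F).hom.app (op V')).hom u) = _
    rw [map_sum, valS_sum]
    exact Finset.sum_congr rfl (fun j _ => valS_cmp_inS f F j V' _)
  rw [h1, ← hsum]

instance epi_cmp : Epi (cmp f F) :=
  haveI := isLocallySurjective_cmp f F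
  (Sheaf.isLocallySurjective_iff_epi' _ _).1 inferInstance

instance isIso_cmp : IsIso (sigmaComparison (shriekSheaf f) F) :=
  isIso_of_mono_of_epi (cmp f F)

theorem preservesCoproducts_large (ι : Type (u + 1)) :
    PreservesColimitsOfShape (Discrete ι) (EtShriek.lowerShriek f) := by
  haveI : PreservesColimitsOfShape (Discrete ι) (shriekSheaf f) := by
    haveI : ∀ F : ι → EtCoh.Ab X, PreservesColimit (Discrete.functor F) (shriekSheaf f) :=
      fun F => PreservesCoproduct.of_iso_comparison (shriekSheaf f) F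
    exact preservesColimitsOfShape_of_discrete (shriekSheaf f)
  exact preservesColimitsOfShape_of_natIso (shriekIso f).symm

end Groth.Agent.Helper1.UDL
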