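import Mathlib
import Groth.Prelude.Def_EtShriek2
import Groth.Agent.Lib.Helper1.LQ4
import Groth.Agent.Lib.Helper1.UD4

/-!
# `f_!` is a left adjoint for `f` separated and locally quasi-finite (helper1, LQ5): S0689

By the special adjoint functor theorem: `f_!` preserves all small colimits (coproducts by `UD4`,
finite colimits by `LQ4`) and abelian étale sheaves form a Grothendieck abelian category.
-/

set_option autoImplicit false
set_option linter.unusedSectionVars false
set_option linter.style.haveILetI false

open CategoryTheory CategoryTheory.Limits AlgebraicGeometry Opposite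

namespace Groth.Agent.Helper1.LQ

universe u

variable {X Y : Scheme.{u}} (f : X ⟶ Y) [LocallyOfFiniteType f] [LocallyQuasiFinite f]
  [IsSeparated f]

theorem preservesColimits_lowerShriek :
    PreservesColimitsOfSize.{u + 1, u + 1} (EtShriek.lowerShriek f) := by
  haveI : PreservesFiniteColimits (EtShriek.lowerShriek f) := (main0684 f).2
  haveI : ∀ J : Type (u + 1), PreservesColimitsOfShape (Discrete J) (EtShriek.lowerShriek f) :=
    fun J => UDL.preservesCoproducts_large f J
  haveI := IsGrothendieckAbelian.hasColimits (EtCoh.Ab X)
  exact preservesColimits_of_preservesCoequalizers_and_coproducts.{u + 1} (EtShriek.lowerShriek f)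

theorem main0689 : (EtShriek.lowerShriek f).IsLeftAdjoint := by
  haveI := preservesColimits_lowerShriek f
  haveI := IsGrothendieckAbelian.hasColimits (EtCoh.Ab X)
  haveI : WellPowered.{u + 1} (EtCoh.Ab X)ᵒᵖ := inferInstance
  exact isLeftAdjoint_of_preservesColimits_of_isSeparating
    (isSeparator_separator (EtCoh.Ab X)) (EtShriek.lowerShriek f)

end Groth.Agent.Helper1.LQ
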