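import Mathlib
import Groth.Prelude.Def_EtShriek2
import Groth.Agent.Lib.Helper1.LQ6

/-!
# Stalks of `f_!` for `f` separated and locally quasi-finite: realising a germ at one lift by a
section with proper support vanishing at the other lifts (helper1, LQ7): towards S0683
-/

set_option autoImplicit false
set_option linter.unusedSectionVars false
set_option linter.style.haveILetI false

open CategoryTheory CategoryTheory.Limits AlgebraicGeometry Opposite

namespace Groth.Agent.Helper1.LQ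

universe u

open Groth.Agent.Helper1.ES Groth.Agent.Helper1.ELR Groth.Agent.Helper1.FP

/-- for a finite morphism and a chosen lift `τ0` of a geometric point, with an étale
neighbourhood `U0` of `τ0`: after an étale localisation of the base, every base change splits off
a clopen piece mapping to `U0` which contains exactly the geometric points over `τ0` -/
theorem exists_piece_finite {T B : Scheme.{u}} (π : T ⟶ B) [IsFinite π] {Ω : Type u} [Field Ω]
    [IsAlgClosed Ω] (v1 : Spec (CommRingCat.of Ω) ⟶ B) (τ0 : Spec (CommRingCat.of Ω) ⟶ T)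
    (hτ0 : τ0 ≫ π = v1) (U0 : T.Etale) (ū0 : Spec (CommRingCat.of Ω) ⟶ U0.left)
    (hū0 : ū0 ≫ U0.hom = τ0) :
    ∃ (V₁' : B.Etale) (v : Spec (CommRingCat.of Ω) ⟶ V₁'.left) (_ : v ≫ V₁'.hom = v1),
      ∀ (Z : Scheme.{u}) (p : Z ⟶ V₁'.left) (q : Z ⟶ T), p ≫ V₁'.hom = q ≫ π →
        ∃ (W0 : Z.Opens) (h0 : W0.toScheme ⟶ U0.left), IsClosed (W0 : Set Z) ∧
          h0 ≫ U0.hom = W0.ι ≫ q ∧
          ∀ z : Spec (CommRingCat.of Ω) ⟶ Z, z ≫ p = v →
            (z ≫ q = τ0 → ∃ w : Spec (CommRingCat.of Ω) ⟶ W0.toScheme,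
              w ≫ W0.ι = z ∧ w ≫ h0 = ū0) ∧
            (z ≫ q ≠ τ0 → z.base default ∉ W0) := by
  classical
  let c0 : {τ : Spec (CommRingCat.of Ω) ⟶ T // τ ≫ π = v1} := ⟨τ0, hτ0⟩
  have hdata : ∀ c : {τ : Spec (CommRingCat.of Ω) ⟶ T // τ ≫ π = v1},
      ∃ (Uc : T.Etale) (ūc : Spec (CommRingCat.of Ω) ⟶ Uc.left), ūc ≫ Uc.hom = c.1 ∧
        (c = c0 → ∃ m : Uc.left ⟶ U0.left, m ≫ U0.hom = Uc.hom ∧ ūc ≫ m = ū0) := by
    intro c
    by_cases hc : c = c0
    · refine ⟨U0, ū0, ?_, fun _ => ⟨𝟙 _, Category.id_comp _, Category.comp_id _⟩⟩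
      rw [hc]
      exact hū0
    · exact ⟨EtCoh.top T, c.1, Category.comp_id _, fun h => absurd h hc⟩
  choose Uc ūc hūc hm using hdata
  obtain ⟨hF, V₁', v, hv, H⟩ := FP.exists_decomp_geom π v1 Uc ūc hūc
  refine ⟨V₁', v, hv, ?_⟩
  intro Z p q hpq
  obtain ⟨W, hdis, hcov, hW⟩ := H Z p q hpq
  choose h hh hpts using hW
  obtain ⟨m, hm1, hm2⟩ := hm c0 rfl
  refine ⟨W c0, h c0 ≫ m, ?_, ?_, ?_⟩
  · have hcompl : (W c0 : Set Z)ᶜ = ⋃ c ∈ {c | c ≠ c0}, (W c : Set Z) := by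
      ext y
      simp only [Set.mem_compl_iff, Set.mem_iUnion, Set.mem_setOf_eq, SetLike.mem_coe,
        exists_prop]
      constructor
      · intro hy
        have hy' : y ∈ (⨆ c, W c) := by rw [hcov]; trivial
        obtain ⟨c, hc⟩ := TopologicalSpace.Opens.mem_iSup.1 hy'
        refine ⟨c, ?_, hc⟩
        intro hcc
        rw [hcc] at hc
        exact hy hc
      · rintro ⟨c, hcc, hc⟩ hy
        exact (hdis c c0 hcc).le_bot ⟨hc, hy⟩
    rw [← isOpen_compl_iff, hcompl]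
    exact isOpen_biUnion (fun c _ => (W c).2)
  · calc (h c0 ≫ m) ≫ U0.hom = h c0 ≫ (m ≫ U0.hom) := Category.assoc _ _ _
      _ = h c0 ≫ (Uc c0).hom := congrArg (fun k => h c0 ≫ k) hm1
      _ = (W c0).ι ≫ q := hh c0
  · intro z hzp
    constructor
    · intro hzq
      obtain ⟨w, hw1, hw2⟩ := hpts c0 z hzp hzq
      refine ⟨w, hw1, ?_⟩
      rw [← Category.assoc, hw2, hm2]
    · intro hzq hmem
      have hzc : (z ≫ q) ≫ π = v1 := by
        rw [Category.assoc, ← hpq, ← Category.assoc, hzp, hv]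
      obtain ⟨c, hcdef⟩ : ∃ c : {τ : Spec (CommRingCat.of Ω) ⟶ T // τ ≫ π = v1},
          c = ⟨z ≫ q, hzc⟩ := ⟨_, rfl⟩
      have hc1 : z ≫ q = c.1 := by rw [hcdef]
      obtain ⟨w, hw1, -⟩ := hpts c z hzp hc1
      have hne : c ≠ c0 := by
        intro he
        apply hzq
        rw [hc1, he]
      have e : z.base default = (W c).ι.base (w.base default) :=
        congrArg (fun m => m.base default) hw1.symm
      have hmem' : z.base default ∈ W c := by
        rw [e]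
        exact (w.base default).2
      exact (hdis c c0 hne).le_bot ⟨hmem', hmem⟩

variable {X Y : Scheme.{u}} (f : X ⟶ Y) [LocallyOfFiniteType f] [LocallyQuasiFinite f]
  [IsSeparated f]

/-- the étale local structure at a geometric point of `X` itself -/
theorem exists_local_structure_base {Ω : Type u} [Field Ω] [IsAlgClosed Ω]
    (z0 : Spec (CommRingCat.of Ω) ⟶ X) :
    ∃ (V1 : Y.Etale) (T : ((EtCoh.bc f).obj V1).left.Opens)
      (ζ1 : Spec (CommRingCat.of Ω) ⟶ ((EtCoh.bc f).obj V1).left),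
      IsClosed (T : Set ((EtCoh.bc f).obj V1).left) ∧ IsFinite (T.ι ≫ EtShriek.prV f V1) ∧
      ζ1 ≫ ((EtCoh.bc f).obj V1).hom = z0 ∧ ζ1.base default ∈ T := by
  obtain ⟨U1, g1, hg1, H⟩ := exists_local_structure₀ f z0
  haveI := hg1
  have sq : IsPullback ((EtCoh.bc f).obj (Scheme.Etale.mk g1)).hom
      (EtShriek.prV f (Scheme.Etale.mk g1)) f g1 :=
    (IsPullback.of_hasPullback (Scheme.Etale.mk g1).hom f).flip
  obtain ⟨T, ζ1, h1, h2, h3, h4⟩ := H _ _ _ sq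
  exact ⟨Scheme.Etale.mk g1, T, ζ1, h1, h2, h3, h4⟩

variable (F : EtCoh.Ab X) {Ω : Type u} [Field Ω] [IsAlgClosed Ω]
  (η : Spec (CommRingCat.of Ω) ⟶ Y)

/-- **Realising a germ.** A germ of `F` at a lift `ξ` of `η` is the germ of a section with proper
support, over an étale neighbourhood of `η`, whose support misses all the other lifts. -/
theorem exists_germ_section (ξ : Lifts f η) (U : X.Etale) (l : (Φ ξ.1).fiber.obj U)
    (a : EtCoh.sect F U) :
    ∃ (V : Y.Etale) (x : (Φ η).fiber.obj V) (t : EtCoh.sect F ((EtCoh.bc f).obj V)),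
      t ∈ EtShriek.shriekSubgroup f F V ∧
      (Φ ξ.1).toPresheafFiber _ (liftPt f η ξ V x) F.obj t =
        (Φ ξ.1).toPresheafFiber U l F.obj a ∧
      ∀ ξ' : Lifts f η, ξ' ≠ ξ →
        (pt ξ'.1 _ (liftPt f η ξ' V x)).base default ∉ EtShriek.sectSupp F _ t := by
  obtain ⟨V1, T, ζ1, hTc, hTfin, hζ1, hζT⟩ := exists_local_structure_base f ξ.1
  haveI := hTfin
  let B : X.Etale := (EtCoh.bc f).obj V1
  obtain ⟨τ0, hτ0⟩ := exists_lift_opens T ζ1 hζT
  let π1 : T.toScheme ⟶ V1.left := T.ι ≫ EtShriek.prV f V1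
  haveI : IsFinite π1 := hTfin
  obtain ⟨v1, hv1def⟩ : ∃ v1 : Spec (CommRingCat.of Ω) ⟶ V1.left,
      v1 = ζ1 ≫ EtShriek.prV f V1 := ⟨_, rfl⟩
  have hτ0π : τ0 ≫ π1 = v1 :=
    calc τ0 ≫ π1 = (τ0 ≫ T.ι) ≫ EtShriek.prV f V1 := (Category.assoc _ _ _).symm
      _ = ζ1 ≫ EtShriek.prV f V1 := congrArg (fun m => m ≫ EtShriek.prV f V1) hτ0
      _ = v1 := hv1def.symm
  -- the étale neighbourhood `U ×_X T` of `τ0`
  haveI : Etale (homX U) := U.prop
  have hcondU : pt ξ.1 U l ≫ homX U = τ0 ≫ (T.ι ≫ homX B) :=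
    (pt_comp ξ.1 U l).trans
      ((Category.assoc _ _ _).symm.trans
        ((congrArg (fun m => m ≫ homX B) hτ0).trans hζ1)).symm
  let U0 : T.toScheme.Etale := Scheme.Etale.mk (pullback.snd (homX U) (T.ι ≫ homX B))
  let ū0 : Spec (CommRingCat.of Ω) ⟶ U0.left := pullback.lift (pt ξ.1 U l) τ0 hcondU
  have hū0 : ū0 ≫ U0.hom = τ0 := pullback.lift_snd _ _ _
  have hū0fst : ū0 ≫ pullback.fst (homX U) (T.ι ≫ homX B) = pt ξ.1 U l :=
    pullback.lift_fst _ _ _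
  obtain ⟨V₁', v, hv, H⟩ := exists_piece_finite π1 v1 τ0 hτ0π U0 ū0 hū0
  haveI : Etale V₁'.hom := V₁'.prop
  haveI : Etale V1.hom := V1.prop
  let V3 : Y.Etale := Scheme.Etale.mk (V₁'.hom ≫ V1.hom)
  let k3 : V3 ⟶ V1 := MorphismProperty.Over.homMk V₁'.hom rfl trivial
  let B3 : X.Etale := (EtCoh.bc f).obj V3
  let q3 : B3.left ⟶ B.left := ((EtCoh.bc f).map k3).left
  have sq : IsPullback q3 (EtShriek.prV f V3) (EtShriek.prV f V1) V₁'.hom :=
    EtCoh.isPullback_bc_map f k3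
  let T3 : B3.left.Opens := q3 ⁻¹ᵁ T
  let p : T3.toScheme ⟶ V₁'.left := T3.ι ≫ EtShriek.prV f V3
  let q : T3.toScheme ⟶ T.toScheme := q3 ∣_ T
  have hqι : q ≫ T.ι = T3.ι ≫ q3 := morphismRestrict_ι q3 T
  have hpq : p ≫ V₁'.hom = q ≫ π1 :=
    calc p ≫ V₁'.hom = T3.ι ≫ (EtShriek.prV f V3 ≫ V₁'.hom) := Category.assoc _ _ _
      _ = T3.ι ≫ (q3 ≫ EtShriek.prV f V1) := congrArg (fun m => T3.ι ≫ m) sq.w.symm
      _ = (T3.ι ≫ q3) ≫ EtShriek.prV f V1 := (Category.assoc _ _ _).symm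
      _ = (q ≫ T.ι) ≫ EtShriek.prV f V1 := congrArg (fun m => m ≫ EtShriek.prV f V1) hqι.symm
      _ = q ≫ π1 := Category.assoc _ _ _
  obtain ⟨W0, h0, hW0c, hh0, hpts⟩ := H _ p q hpq
  have hBw : q3 ≫ B.hom = B3.hom := MorphismProperty.Over.w ((EtCoh.bc f).map k3)
  -- the geometric point of `V3`
  have hcond1 : EtShriek.prV f V1 ≫ V1.hom = B.hom ≫ f := pullback.condition
  have hv1η : v1 ≫ V1.hom = η :=
    calc v1 ≫ V1.hom = (ζ1 ≫ EtShriek.prV f V1) ≫ V1.hom :=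
          congrArg (fun m => m ≫ V1.hom) hv1def
      _ = ζ1 ≫ (EtShriek.prV f V1 ≫ V1.hom) := Category.assoc _ _ _
      _ = ζ1 ≫ (B.hom ≫ f) := congrArg (fun m => ζ1 ≫ m) hcond1
      _ = (ζ1 ≫ B.hom) ≫ f := (Category.assoc _ _ _).symm
      _ = ξ.1 ≫ f := congrArg (fun m => m ≫ f) hζ1
      _ = η := ξ.2
  have hx' : v ≫ V3.hom = η :=
    calc v ≫ V3.hom = (v ≫ V₁'.hom) ≫ V1.hom := (Category.assoc _ _ _).symm
      _ = v1 ≫ V1.hom := congrArg (fun m => m ≫ V1.hom) hv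
      _ = η := hv1η
  obtain ⟨x', hx'def⟩ : ∃ x' : (Φ η).fiber.obj V3, x' = mkPt η V3 v hx' := ⟨_, rfl⟩
  have hptx' : pt η V3 x' = v := by rw [hx'def, pt_mkPt]
  -- the objects of the small étale site
  let T3obj : X.Etale := openObj B3 T3
  let γ3 : T3obj ⟶ B3 := openObjι B3 T3
  let Wobj : X.Etale := openObj T3obj W0
  let w0 : Wobj ⟶ T3obj := openObjι T3obj W0
  let γ : Wobj ⟶ B3 := w0 ≫ γ3
  have hγleft : γ.left = W0.ι ≫ T3.ι := rfl
  -- the map to `U`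
  have hleft : (h0 ≫ pullback.snd (homX U) (T.ι ≫ homX B)) ≫ T.ι = W0.ι ≫ (T3.ι ≫ q3) :=
    calc (h0 ≫ pullback.snd (homX U) (T.ι ≫ homX B)) ≫ T.ι = (W0.ι ≫ q) ≫ T.ι :=
          congrArg (fun m => m ≫ T.ι) hh0
      _ = W0.ι ≫ (q ≫ T.ι) := Category.assoc _ _ _
      _ = W0.ι ≫ (T3.ι ≫ q3) := congrArg (fun m => W0.ι ≫ m) hqι
  have hm : (h0 ≫ pullback.fst (homX U) (T.ι ≫ homX B)) ≫ U.hom = Wobj.hom :=
    calc (h0 ≫ pullback.fst (homX U) (T.ι ≫ homX B)) ≫ U.hom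
        = h0 ≫ (pullback.fst (homX U) (T.ι ≫ homX B) ≫ homX U) := Category.assoc _ _ _
      _ = h0 ≫ (pullback.snd (homX U) (T.ι ≫ homX B) ≫ (T.ι ≫ homX B)) :=
          congrArg (fun m => h0 ≫ m) pullback.condition
      _ = ((h0 ≫ pullback.snd (homX U) (T.ι ≫ homX B)) ≫ T.ι) ≫ homX B := by
          simp only [Category.assoc]
      _ = (W0.ι ≫ (T3.ι ≫ q3)) ≫ homX B := congrArg (fun m => m ≫ homX B) hleft
      _ = W0.ι ≫ (T3.ι ≫ (q3 ≫ homX B)) := by
          simp only [Category.assoc]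
      _ = W0.ι ≫ (T3.ι ≫ B3.hom) := congrArg (fun m => W0.ι ≫ (T3.ι ≫ m)) hBw
  let m : Wobj ⟶ U :=
    MorphismProperty.Over.homMk (h0 ≫ pullback.fst (homX U) (T.ι ≫ homX B)) hm trivial
  have hmleft : m.left = h0 ≫ pullback.fst (homX U) (T.ι ≫ homX B) := rfl
  -- the section, extended by zero
  haveI : IsOpenImmersion γ.left := inferInstanceAs (IsOpenImmersion (W0.ι ≫ T3.ι))
  have hT3c : IsClosed (T3 : Set B3.left) := hTc.preimage q3.continuous
  have hemb : Topology.IsClosedEmbedding T3.ι.base :=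
    ⟨T3.ι.isOpenEmbedding.isEmbedding, by rw [Scheme.Opens.range_ι]; exact hT3c⟩
  have hrγ : Set.range γ.left.base = T3.ι.base '' (W0 : Set T3.toScheme) := by
    change Set.range (W0.ι ≫ T3.ι).base = _
    rw [Scheme.Hom.comp_base, TopCat.coe_comp, Set.range_comp, Scheme.Opens.range_ι]
  have hclγ : IsClosed (Set.range γ.left.base) := by
    rw [hrγ]
    exact hemb.isClosedMap _ hW0c
  obtain ⟨t, ht1, ht2⟩ := EZ.exists_extByZero F γ hclγ (F.obj.map m.op a)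
  have hsub : EtShriek.sectSupp F _ t ⊆ (T3 : Set B3.left) := by
    intro y hy
    have hy' := ht2 hy
    rw [hrγ] at hy'
    obtain ⟨z', -, rfl⟩ := hy'
    exact z'.2
  have htmem : t ∈ EtShriek.shriekSubgroup f F V3 := by
    rw [mem_shriekSubgroup_iff']
    haveI : IsFinite (T3.ι ≫ EtShriek.prV f V3) := isFinite_preimage_piece sq T
    exact isProperOver_mono _ (SHC.isClosed_sectSupp F _ t) hsub
      (isProperOver_of_clopen_finite (EtShriek.prV f V3) T3 hT3c)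
  -- general facts on the geometric points of `X ×_Y V3` over `x'`
  have hfacts : ∀ ξ'' : Lifts f η, ∀ lam : Spec (CommRingCat.of Ω) ⟶ B3.left,
      lam = pt ξ''.1 _ (liftPt f η ξ'' V3 x') →
      lam ≫ EtShriek.prV f V3 = v ∧ lam ≫ B3.hom = ξ''.1 ∧
      (lam ≫ q3) ≫ EtShriek.prV f V1 = ζ1 ≫ EtShriek.prV f V1 := by
    intro ξ'' lam hlam
    have e1 : lam ≫ EtShriek.prV f V3 = v := by
      rw [hlam]
      exact (pt_liftPt_fst f η ξ'' V3 x').trans hptx'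
    have e2 : lam ≫ B3.hom = ξ''.1 := by
      rw [hlam]
      exact pt_liftPt_snd f η ξ'' V3 x'
    refine ⟨e1, e2, ?_⟩
    calc (lam ≫ q3) ≫ EtShriek.prV f V1 = lam ≫ (q3 ≫ EtShriek.prV f V1) := Category.assoc _ _ _
      _ = lam ≫ (EtShriek.prV f V3 ≫ V₁'.hom) := congrArg (fun m => lam ≫ m) sq.w
      _ = (lam ≫ EtShriek.prV f V3) ≫ V₁'.hom := (Category.assoc _ _ _).symm
      _ = v ≫ V₁'.hom := congrArg (fun m => m ≫ V₁'.hom) e1
      _ = v1 := hv
      _ = ζ1 ≫ EtShriek.prV f V1 := hv1def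
  refine ⟨V3, x', t, htmem, ?_, ?_⟩
  · -- the germ at `ξ`
    obtain ⟨lam, hlam⟩ : ∃ lam : Spec (CommRingCat.of Ω) ⟶ B3.left,
        lam = pt ξ.1 _ (liftPt f η ξ V3 x') := ⟨_, rfl⟩
    obtain ⟨e1, e2, e3⟩ := hfacts ξ lam hlam
    have hlamq3 : lam ≫ q3 = ζ1 := by
      apply pt_bc_ext f V1
      · exact e3
      · calc (lam ≫ q3) ≫ B.hom = lam ≫ (q3 ≫ B.hom) := Category.assoc _ _ _
          _ = lam ≫ B3.hom := congrArg (fun m => lam ≫ m) hBw
          _ = ξ.1 := e2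
          _ = ζ1 ≫ B.hom := hζ1.symm
    have hlamT3 : lam.base default ∈ T3 := by
      change q3.base (lam.base default) ∈ T
      have e4 : q3.base (lam.base default) = ζ1.base default :=
        congrArg (fun m => m.base default) hlamq3
      rw [e4]
      exact hζT
    obtain ⟨z, hz⟩ := exists_lift_opens T3 lam hlamT3
    have hzp : z ≫ p = v :=
      ((Category.assoc z T3.ι (EtShriek.prV f V3)).symm.trans
        (congrArg (fun m => m ≫ EtShriek.prV f V3) hz)).trans e1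
    have hzq : z ≫ q = τ0 := by
      rw [← cancel_mono T.ι]
      calc (z ≫ q) ≫ T.ι = z ≫ (q ≫ T.ι) := Category.assoc _ _ _
        _ = z ≫ (T3.ι ≫ q3) := congrArg (fun m => z ≫ m) hqι
        _ = (z ≫ T3.ι) ≫ q3 := (Category.assoc _ _ _).symm
        _ = lam ≫ q3 := congrArg (fun m => m ≫ q3) hz
        _ = ζ1 := hlamq3
        _ = τ0 ≫ T.ι := hτ0.symm
    obtain ⟨w, hw1, hw2⟩ := (hpts z hzp).1 hzq
    have hwγ : w ≫ γ.left = lam :=
      calc w ≫ γ.left = w ≫ (W0.ι ≫ T3.ι) := congrArg (fun m => w ≫ m) hγleft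
        _ = (w ≫ W0.ι) ≫ T3.ι := (Category.assoc _ _ _).symm
        _ = z ≫ T3.ι := congrArg (fun m => m ≫ T3.ι) hw1
        _ = lam := hz
    have hwW : w ≫ Wobj.hom = ξ.1 :=
      calc w ≫ Wobj.hom = w ≫ (γ.left ≫ B3.hom) :=
            congrArg (fun m => w ≫ m) (MorphismProperty.Over.w γ).symm
        _ = (w ≫ γ.left) ≫ B3.hom := (Category.assoc _ _ _).symm
        _ = lam ≫ B3.hom := congrArg (fun m => m ≫ B3.hom) hwγ
        _ = ξ.1 := e2
    obtain ⟨zW, hzWdef⟩ : ∃ zW : (Φ ξ.1).fiber.obj Wobj, zW = mkPt ξ.1 Wobj w hwW := ⟨_, rfl⟩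
    have hptzW : pt ξ.1 Wobj zW = w := by rw [hzWdef, pt_mkPt]
    have hfγ : (Φ ξ.1).fiber.map γ zW = liftPt f η ξ V3 x' := by
      apply pt_ext
      rw [pt_map, hptzW, ← hlam]
      exact hwγ
    have hfm : (Φ ξ.1).fiber.map m zW = l := by
      apply pt_ext
      rw [pt_map, hptzW]
      calc w ≫ m.left = w ≫ (h0 ≫ pullback.fst (homX U) (T.ι ≫ homX B)) :=
            congrArg (fun k => w ≫ k) hmleft
        _ = (w ≫ h0) ≫ pullback.fst (homX U) (T.ι ≫ homX B) := (Category.assoc _ _ _).symm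
        _ = ū0 ≫ pullback.fst (homX U) (T.ι ≫ homX B) :=
            congrArg (fun k => k ≫ pullback.fst (homX U) (T.ι ≫ homX B)) hw2
        _ = pt ξ.1 U l := hū0fst
    have g1 := (Φ ξ.1).toPresheafFiber_w_apply γ zW F.obj t
    have g2 := (Φ ξ.1).toPresheafFiber_w_apply m zW F.obj a
    rw [hfγ] at g1
    rw [hfm] at g2
    rw [← g1, ← g2]
    exact congrArg ((Φ ξ.1).toPresheafFiber Wobj zW F.obj) ht1
  · -- the other lifts
    intro ξ' hξ' hmem
    obtain ⟨lam, hlam⟩ : ∃ lam : Spec (CommRingCat.of Ω) ⟶ B3.left,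
        lam = pt ξ'.1 _ (liftPt f η ξ' V3 x') := ⟨_, rfl⟩
    rw [← hlam] at hmem
    obtain ⟨e1, e2, e3⟩ := hfacts ξ' lam hlam
    have hmem' := ht2 hmem
    rw [hrγ] at hmem'
    obtain ⟨y, hyW, hy⟩ := hmem'
    have hlamT3 : lam.base default ∈ T3 := by
      rw [← hy]
      exact y.2
    obtain ⟨z, hz⟩ := exists_lift_opens T3 lam hlamT3
    have hzp : z ≫ p = v :=
      ((Category.assoc z T3.ι (EtShriek.prV f V3)).symm.trans
        (congrArg (fun m => m ≫ EtShriek.prV f V3) hz)).trans e1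
    have hzy : z.base default = y := by
      apply T3.ι.isOpenEmbedding.injective
      have e4 : T3.ι.base (z.base default) = lam.base default :=
        congrArg (fun m => m.base default) hz
      rw [e4, hy]
    have hzq : z ≫ q = τ0 := by
      by_contra hne
      apply (hpts z hzp).2 hne
      rw [hzy]
      exact hyW
    have hlamq3 : lam ≫ q3 = ζ1 :=
      calc lam ≫ q3 = (z ≫ T3.ι) ≫ q3 := congrArg (fun m => m ≫ q3) hz.symm
        _ = z ≫ (T3.ι ≫ q3) := Category.assoc _ _ _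
        _ = z ≫ (q ≫ T.ι) := congrArg (fun m => z ≫ m) hqι.symm
        _ = (z ≫ q) ≫ T.ι := (Category.assoc _ _ _).symm
        _ = τ0 ≫ T.ι := congrArg (fun m => m ≫ T.ι) hzq
        _ = ζ1 := hτ0
    apply hξ'
    apply Subtype.ext
    calc ξ'.1 = lam ≫ B3.hom := e2.symm
      _ = lam ≫ (q3 ≫ B.hom) := congrArg (fun m => lam ≫ m) hBw.symm
      _ = (lam ≫ q3) ≫ B.hom := (Category.assoc _ _ _).symm
      _ = ζ1 ≫ B.hom := congrArg (fun m => m ≫ B.hom) hlamq3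
      _ = ξ.1 := hζ1

end Groth.Agent.Helper1.LQ
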