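import Mathlib
import Groth.Prelude.Def_EtShriek2
import Groth.Agent.Lib.Helper1.LQ7

/-!
# The stalk of `f_!` for `f` separated and locally quasi-finite (helper1, LQ8): S0683
-/

set_option autoImplicit false
set_option linter.unusedSectionVars false
set_option linter.style.haveILetI false

open CategoryTheory CategoryTheory.Limits AlgebraicGeometry Opposite

namespace Groth.Agent.Helper1.LQ

universe u

open Groth.Agent.Helper1.ES Groth.Agent.Helper1.ELR Groth.Agent.Helper1.FP

section Coprod

open DirectSum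

variable {ι : Type u} [DecidableEq ι] (Z : ι → AddCommGrpCat.{u + 1})

/-- the concrete coproduct cofan of abelian groups -/
noncomputable def coprodCofan : Cofan Z :=
  Cofan.mk (AddCommGrpCat.of (⨁ i, Z i)) fun i =>
    AddCommGrpCat.ofHom (DirectSum.of (fun i => (Z i : Type (u + 1))) i)

/-- the concrete coproduct cofan is a colimit -/
noncomputable def coprodCofanIsColimit : IsColimit (coprodCofan Z) :=
  Cofan.IsColimit.mk _
    (fun s => AddCommGrpCat.ofHom (DirectSum.toAddMonoid fun i => (s.inj i).hom))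
    (fun s i => by
      apply AddCommGrpCat.hom_ext
      apply AddMonoidHom.ext
      intro x
      exact DirectSum.toAddMonoid_of (fun i => (s.inj i).hom) i x)
    (fun s m hm => by
      apply AddCommGrpCat.hom_ext
      apply DirectSum.addHom_ext
      intro i x
      have h1 := congrArg (fun k => k.hom x) (hm i)
      refine h1.trans ?_
      exact (DirectSum.toAddMonoid_of (fun i => (s.inj i).hom) i x).symm)

theorem nonempty_coprod_iso [HasCoproduct Z] :
    Nonempty (∐ Z ≅ AddCommGrpCat.of (⨁ i, Z i)) :=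
  ⟨colimit.isoColimitCocone ⟨_, coprodCofanIsColimit Z⟩⟩

end Coprod

section Range

open DirectSum

variable {ι : Type u} [DecidableEq ι] {A : Type (u + 1)} [AddCommGroup A]
  (Z : ι → Type (u + 1)) [∀ i, AddCommGroup (Z i)]

/-- a jointly injective family of homomorphisms with finite supports, hitting every "delta"
element, identifies the source with the direct sum -/
theorem nonempty_addEquiv_directSum (sm : ∀ i, A →+ Z i)
    (hinj : ∀ a : A, (∀ i, sm i a = 0) → a = 0)
    (hfin : ∀ a : A, {i | sm i a ≠ 0}.Finite)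
    (hex : ∀ (i : ι) (g : Z i), ∃ a : A, sm i a = g ∧ ∀ j, j ≠ i → sm j a = 0) :
    Nonempty (A ≃+ ⨁ i, Z i) := by
  let Ψ : A →+ ∀ i, Z i := AddMonoidHom.pi sm
  let c : (⨁ i, Z i) →+ ∀ i, Z i := DFinsupp.coeFnAddMonoidHom
  have hΨ : Function.Injective Ψ := by
    rw [injective_iff_map_eq_zero]
    intro a ha
    exact hinj a (fun i => congrFun ha i)
  have hc : Function.Injective c := DFunLike.coe_injective
  have hrange : Ψ.range = c.range := by
    apply le_antisymm
    · rintro _ ⟨a, rfl⟩
      refine ⟨DFinsupp.mk (hfin a).toFinset (fun i => sm i.1 a), ?_⟩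
      funext i
      change (DFinsupp.mk (hfin a).toFinset (fun i => sm i.1 a)) i = sm i a
      by_cases hi : i ∈ (hfin a).toFinset
      · rw [DFinsupp.mk_of_mem hi]
      · rw [DFinsupp.mk_of_notMem hi]
        by_contra hne
        exact hi ((hfin a).mem_toFinset.2 (fun h => hne h.symm))
    · rintro _ ⟨d, rfl⟩
      induction d using DirectSum.induction_on with
      | zero => exact ⟨0, by rw [map_zero, map_zero]⟩
      | of i g =>
        obtain ⟨a, ha1, ha2⟩ := hex i g
        refine ⟨a, ?_⟩
        funext j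
        change sm j a = (DirectSum.of Z i g) j
        by_cases hj : j = i
        · subst hj
          rw [DirectSum.of_eq_same, ha1]
        · rw [DirectSum.of_eq_of_ne _ _ _ hj, ha2 j hj]
      | add x y hx hy =>
        rw [map_add]
        exact add_mem hx hy
  exact ⟨(AddMonoidHom.ofInjective hΨ).trans
    ((AddEquiv.addSubgroupCongr hrange).trans (AddMonoidHom.ofInjective hc).symm)⟩

end Range

section Main

variable {X Y : Scheme.{u}} (f : X ⟶ Y) [LocallyOfFiniteType f] [LocallyQuasiFinite f]
  [IsSeparated f] (F : EtCoh.Ab X) {Ω : Type u} [Field Ω] [IsAlgClosed Ω]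
  (η : Spec (CommRingCat.of Ω) ⟶ Y)

/-- every germ at one lift is hit by an element vanishing at the other lifts -/
theorem exists_delta (ξ : Lifts f η) (g : (EtCoh.stalk ξ.1).obj F) :
    ∃ a : (EtCoh.stalk η).obj ((shriekSheaf f).obj F), shStalkMap f F η ξ a = g ∧
      ∀ ξ' : Lifts f η, ξ' ≠ ξ → shStalkMap f F η ξ' a = 0 := by
  haveI := SHC.preservesFilteredColimits_forget.{u}
  obtain ⟨U, l, a0, rfl⟩ := (Φ ξ.1).toPresheafFiber_jointly_surjective (P := F.obj) g
  obtain ⟨V, x, t, ht, h1, h2⟩ := exists_germ_section f F η ξ U l a0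
  refine ⟨(Φ η).toPresheafFiber V x ((shriekSheaf f).obj F).obj (mkS f F V t ht), ?_, ?_⟩
  · rw [shStalkMap_germ]
    exact h1
  · intro ξ' hξ'
    rw [shStalkMap_germ]
    exact (germ_eq_zero_iff ξ'.1 F _ (liftPt f η ξ' V x) t).2 (h2 ξ' hξ')

/-- **The stalk of `f_!`** for `f` separated, locally of finite type and locally quasi-finite. -/
theorem main0683 :
    Nonempty ((EtCoh.stalk η).obj ((EtShriek.lowerShriek f).obj F) ≅
      ∐ fun ξ : {ξ : Spec (CommRingCat.of Ω) ⟶ X // ξ ≫ f = η} => (EtCoh.stalk ξ.1).obj F) := by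
  classical
  obtain ⟨e⟩ := nonempty_addEquiv_directSum
    (A := ((EtCoh.stalk η).obj ((shriekSheaf f).obj F) : Type (u + 1)))
    (fun ξ : Lifts f η => ((EtCoh.stalk ξ.1).obj F : Type (u + 1)))
    (fun ξ => (shStalkMap f F η ξ).hom) (fun a h => sh_injective f F η a h)
    (fun a => sh_finite_support f F η a) (fun ξ g => exists_delta f F η ξ g)
  obtain ⟨e2⟩ := nonempty_coprod_iso (fun ξ : Lifts f η => (EtCoh.stalk ξ.1).obj F)
  exact ⟨(EtCoh.stalk η).mapIso ((shriekIso f).app F) ≪≫ e.toAddCommGrpIso ≪≫ e2.symm⟩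

end Main

end Groth.Agent.Helper1.LQ
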