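import Mathlib
import Groth.Prelude.Def_Wider
import Groth.Agent.Lib.Helper1.InjHullIndec

/-!
# Matlis duality, part 1: finite length modules over a local ring
-/

namespace Groth.Agent.Helper1

open Function IsLocalRing

universe u v

/-- Elementwise description of an injective hull `E` of the residue field of a local ring,
with `e₀` the image of `1`. -/
structure IsMatlisHull (R : Type u) [CommRing R] [IsLocalRing R] (E : Type u) [AddCommGroup E]
    [Module R E] (e₀ : E) : Prop where
  injective : Module.Injective R E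
  ann : ∀ r : R, r • e₀ = 0 ↔ r ∈ maximalIdeal R
  ess : ∀ x : E, x ≠ 0 → ∃ r a : R, r • x = a • e₀ ∧ a ∉ maximalIdeal R

theorem isMatlisHull_of_hull {R : Type u} [CommRing R] [IsLocalRing R] {E : Type u}
    [AddCommGroup E] [Module R E] (f : ResidueField R →ₗ[R] E)
    (hf : InjHull.IsInjectiveHull f) : IsMatlisHull R E (f 1) := by
  obtain ⟨h1, h2⟩ := cyclic_data_of_hull (maximalIdeal R) f hf.toIsEssentialInj
  exact ⟨hf.isInjective, h1, h2⟩

/-- A general tool: maps into an injective module with prescribed value at one element. -/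
theorem exists_linearMap_apply_eq {R : Type u} [CommRing R] {E : Type u} [AddCommGroup E]
    [Module R E] (hE : Module.Injective R E) {M : Type v} [AddCommGroup M] [Module R M]
    (x : M) (e : E) (h : ∀ r : R, r • x = 0 → r • e = 0) : ∃ φ : M →ₗ[R] E, φ x = e := by
  have := hE
  let T := LinearMap.toSpanSingleton R M x
  let T' := LinearMap.toSpanSingleton R E e
  have hle : LinearMap.ker T ≤ LinearMap.ker T' := by
    intro r hr
    rw [LinearMap.mem_ker, LinearMap.toSpanSingleton_apply] at hr ⊢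
    exact h r hr
  let ψ : LinearMap.range T →ₗ[R] E :=
    ((LinearMap.ker T).liftQ T' hle) ∘ₗ (LinearMap.quotKerEquivRange T).symm.toLinearMap
  obtain ⟨φ, hφ⟩ := Module.Injective.extension_property R E (LinearMap.range T) M
    (LinearMap.range T).subtype (Submodule.injective_subtype _) ψ
  refine ⟨φ, ?_⟩
  have hT1 : T 1 = x := by
    change LinearMap.toSpanSingleton R M x 1 = x
    rw [LinearMap.toSpanSingleton_apply, one_smul]
  have h1 : φ (T 1) = ψ ⟨T 1, LinearMap.mem_range_self T 1⟩ :=
    LinearMap.congr_fun hφ ⟨T 1, LinearMap.mem_range_self T 1⟩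
  have h2 : ψ ⟨T 1, LinearMap.mem_range_self T 1⟩ = e := by
    change ((LinearMap.ker T).liftQ T' hle)
      ((LinearMap.quotKerEquivRange T).symm ⟨T 1, LinearMap.mem_range_self T 1⟩) = e
    rw [LinearMap.quotKerEquivRange_symm_apply_image, Submodule.mkQ_apply, Submodule.liftQ_apply]
    change LinearMap.toSpanSingleton R E e 1 = e
    rw [LinearMap.toSpanSingleton_apply, one_smul]
  calc φ x = φ (T 1) := by rw [hT1]
    _ = e := h1.trans h2

theorem enat_eq_zero_of_eq_add {a b : ℕ∞} (ha : a ≠ ⊤) (h : a = a + b) : b = 0 := by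
  lift a to ℕ using ha
  cases b with
  | top => simp at h
  | coe b =>
    norm_cast at h ⊢
    omega

theorem surjective_of_injective_of_length_eq {R : Type*} [Ring R] {M P : Type*} [AddCommGroup M]
    [Module R M] [AddCommGroup P] [Module R P] (g : M →ₗ[R] P) (hg : Injective g)
    (hlen : Module.length R M = Module.length R P) (hfin : Module.length R M ≠ ⊤) :
    Surjective g := by
  have h1 := Module.length_eq_add_of_exact g (LinearMap.range g).mkQ hg
    (Submodule.mkQ_surjective _) (LinearMap.exact_map_mkQ_range g)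
  have h2 : Module.length R (P ⧸ LinearMap.range g) = 0 := by
    rw [← hlen] at h1
    exact enat_eq_zero_of_eq_add hfin h1
  rw [Module.length_eq_zero_iff, Submodule.Quotient.subsingleton_iff] at h2
  exact LinearMap.range_eq_top.mp h2

section

variable {R : Type u} [CommRing R] [IsLocalRing R] {E : Type u} [AddCommGroup E] [Module R E]
  {e₀ : E}

theorem IsMatlisHull.e₀_ne_zero (h : IsMatlisHull R E e₀) : e₀ ≠ 0 := by
  intro h0
  have h1 : (1 : R) ∈ maximalIdeal R := (h.ann 1).mp (by rw [h0, smul_zero])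
  exact (IsLocalRing.notMem_maximalIdeal.mpr isUnit_one) h1

/-- The socle of `E` is spanned by `e₀`. -/
theorem IsMatlisHull.exists_smul_eq_of_torsion (h : IsMatlisHull R E e₀) (x : E)
    (hx : ∀ a ∈ maximalIdeal R, a • x = 0) : ∃ c : R, x = c • e₀ := by
  by_cases hx0 : x = 0
  · exact ⟨0, by rw [hx0, zero_smul]⟩
  · obtain ⟨r, a, hra, ha⟩ := h.ess x hx0
    have hr : r ∉ maximalIdeal R := by
      intro hr
      apply ha
      rw [← h.ann, ← hra]
      exact hx r hr
    obtain ⟨u, rfl⟩ := IsLocalRing.notMem_maximalIdeal.mp hr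
    refine ⟨↑u⁻¹ * a, ?_⟩
    rw [mul_smul, ← hra, ← mul_smul, Units.inv_mul, one_smul]

/-- `E` is a cogenerator. -/
theorem IsMatlisHull.exists_apply_ne_zero (h : IsMatlisHull R E e₀) {M : Type v}
    [AddCommGroup M] [Module R M] (x : M) (hx : x ≠ 0) : ∃ φ : M →ₗ[R] E, φ x ≠ 0 := by
  obtain ⟨φ, hφ⟩ := exists_linearMap_apply_eq h.injective x e₀ (by
    intro r hr
    rw [h.ann]
    by_contra hr'
    obtain ⟨u, rfl⟩ := IsLocalRing.notMem_maximalIdeal.mp hr'
    apply hx
    rw [← one_smul R x, ← Units.inv_mul u, mul_smul, hr, smul_zero])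
  refine ⟨φ, ?_⟩
  rw [hφ]
  exact h.e₀_ne_zero

theorem IsMatlisHull.applyₗ_injective (h : IsMatlisHull R E e₀) {M : Type v}
    [AddCommGroup M] [Module R M] :
    Injective (LinearMap.applyₗ : M →ₗ[R] (M →ₗ[R] E) →ₗ[R] E) := by
  rw [← LinearMap.ker_eq_bot, LinearMap.ker_eq_bot']
  intro x hx
  by_contra hx0
  obtain ⟨φ, hφ⟩ := h.exists_apply_ne_zero x hx0
  exact hφ (LinearMap.congr_fun hx φ)

/-- The canonical map `R ⧸ 𝔪 → E`, `1 ↦ e₀`. -/
noncomputable def IsMatlisHull.f₀ (h : IsMatlisHull R E e₀) : (R ⧸ maximalIdeal R) →ₗ[R] E :=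
  (maximalIdeal R).liftQ (LinearMap.toSpanSingleton R E e₀) (by
    intro r hr
    rw [LinearMap.mem_ker, LinearMap.toSpanSingleton_apply]
    exact (h.ann r).mpr hr)

theorem IsMatlisHull.f₀_mk (h : IsMatlisHull R E e₀) (r : R) :
    h.f₀ (Ideal.Quotient.mk (maximalIdeal R) r) = r • e₀ := by
  change (maximalIdeal R).liftQ _ _ (Submodule.Quotient.mk r) = _
  rw [Submodule.liftQ_apply, LinearMap.toSpanSingleton_apply]

theorem IsMatlisHull.f₀_injective (h : IsMatlisHull R E e₀) : Injective h.f₀ := by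
  rw [← LinearMap.ker_eq_bot, LinearMap.ker_eq_bot']
  intro a ha
  obtain ⟨r, rfl⟩ := Ideal.Quotient.mk_surjective a
  rw [h.f₀_mk, h.ann] at ha
  exact Ideal.Quotient.eq_zero_iff_mem.mpr ha

theorem IsMatlisHull.isSimpleModule_hom (h : IsMatlisHull R E e₀) :
    IsSimpleModule R ((R ⧸ maximalIdeal R) →ₗ[R] E) := by
  rw [isSimpleModule_iff_toSpanSingleton_surjective]
  have hmk : ∀ r : R, Ideal.Quotient.mk (maximalIdeal R) r = r • (1 : R ⧸ maximalIdeal R) := by
    intro r
    rw [Algebra.smul_def, mul_one, Ideal.Quotient.algebraMap_eq]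
  have hval : ∀ φ : (R ⧸ maximalIdeal R) →ₗ[R] E, ∃ c : R, φ 1 = c • e₀ := by
    intro φ
    apply h.exists_smul_eq_of_torsion
    intro a ha
    rw [← map_smul, ← hmk, Ideal.Quotient.eq_zero_iff_mem.mpr ha, map_zero]
  have hext : ∀ φ ψ : (R ⧸ maximalIdeal R) →ₗ[R] E, φ 1 = ψ 1 → φ = ψ := by
    intro φ ψ h1
    apply LinearMap.ext
    intro z
    obtain ⟨r, rfl⟩ := Ideal.Quotient.mk_surjective z
    rw [hmk, map_smul, map_smul, h1]
  constructor
  · refine ⟨⟨h.f₀, 0, fun h0 => h.e₀_ne_zero ?_⟩⟩
    have h1 := h.f₀_mk 1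
    rw [one_smul, h0] at h1
    exact h1.symm
  · intro φ hφ ψ
    obtain ⟨c, hc⟩ := hval φ
    obtain ⟨d, hd⟩ := hval ψ
    have hcu : c ∉ maximalIdeal R := by
      intro hcm
      apply hφ
      apply hext
      rw [hc, (h.ann c).mpr hcm, LinearMap.zero_apply]
    obtain ⟨u, rfl⟩ := IsLocalRing.notMem_maximalIdeal.mp hcu
    refine ⟨d * ↑u⁻¹, ?_⟩
    apply hext
    rw [LinearMap.toSpanSingleton_apply, LinearMap.smul_apply, hc, hd, ← mul_smul, mul_assoc,
      Units.inv_mul, mul_one]

theorem IsMatlisHull.length_hom_simple (h : IsMatlisHull R E e₀) (S : Type v) [AddCommGroup S]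
    [Module R S] [IsSimpleModule R S] : Module.length R (S →ₗ[R] E) = 1 := by
  obtain ⟨I, hI, ⟨e⟩⟩ := isSimpleModule_iff_quot_maximal.mp (inferInstance : IsSimpleModule R S)
  have hIm : I = maximalIdeal R := IsLocalRing.eq_maximalIdeal hI
  subst hIm
  have := h.isSimpleModule_hom
  rw [(LinearEquiv.congrLeft E R e).length_eq, Module.length_eq_one]

/-- Matlis duality preserves length. -/
theorem IsMatlisHull.length_hom (h : IsMatlisHull R E e₀) {M : Type v} [AddCommGroup M]
    [Module R M] (hM : IsFiniteLength R M) :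
    Module.length R (M →ₗ[R] E) = Module.length R M := by
  have := h.injective
  induction hM with
  | of_subsingleton =>
    rename_i M _ _ _
    have : Subsingleton (M →ₗ[R] E) :=
      ⟨fun a b => LinearMap.ext fun x => by rw [Subsingleton.elim x 0, map_zero, map_zero]⟩
    rw [Module.length_eq_zero, Module.length_eq_zero]
  | @of_simple_quotient M _ _ N hs hN ih =>
    let a : ((M ⧸ N) →ₗ[R] E) →ₗ[R] (M →ₗ[R] E) := LinearMap.lcomp R E N.mkQ
    let b : (M →ₗ[R] E) →ₗ[R] (N →ₗ[R] E) := LinearMap.lcomp R E N.subtype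
    have ha : Injective a := by
      intro φ ψ hφψ
      apply LinearMap.ext
      intro z
      obtain ⟨m, rfl⟩ := N.mkQ_surjective z
      exact LinearMap.congr_fun hφψ m
    have hb : Surjective b := by
      intro ψ
      obtain ⟨φ, hφ⟩ := Module.Injective.extension_property R E N M N.subtype
        (Submodule.injective_subtype _) ψ
      exact ⟨φ, hφ⟩
    have hab : Function.Exact a b := by
      intro φ
      constructor
      · intro hφ
        have hle : N ≤ LinearMap.ker φ := by
          intro n hn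
          exact LinearMap.congr_fun hφ ⟨n, hn⟩
        exact ⟨N.liftQ φ hle, N.liftQ_mkQ φ hle⟩
      · rintro ⟨ψ, rfl⟩
        apply LinearMap.ext
        intro n
        change ψ (N.mkQ (n : M)) = 0
        rw [Submodule.mkQ_apply, (Submodule.Quotient.mk_eq_zero N).mpr n.2, map_zero]
    have h1 := Module.length_eq_add_of_exact a b ha hb hab
    have h2 := Module.length_eq_add_of_exact N.subtype N.mkQ (Submodule.injective_subtype _)
      (Submodule.mkQ_surjective _) (LinearMap.exact_subtype_mkQ N)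
    have h3 : Module.length R ((M ⧸ N) →ₗ[R] E) = 1 := h.length_hom_simple (M ⧸ N)
    have h4 : Module.length R (M ⧸ N) = 1 := Module.length_eq_one R (M ⧸ N)
    rw [h1, h2, h3, ih, h4, add_comm]

/-- Matlis duality for finite length modules: evaluation into the double dual is bijective. -/
theorem IsMatlisHull.applyₗ_bijective (h : IsMatlisHull R E e₀) {M : Type v} [AddCommGroup M]
    [Module R M] (hM : IsFiniteLength R M) :
    Bijective (LinearMap.applyₗ : M →ₗ[R] (M →ₗ[R] E) →ₗ[R] E) := by
  have hinj : Injective (LinearMap.applyₗ : M →ₗ[R] (M →ₗ[R] E) →ₗ[R] E) := h.applyₗ_injective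
  refine ⟨hinj, ?_⟩
  have hD : IsFiniteLength R (M →ₗ[R] E) := by
    rw [← Module.length_ne_top_iff, h.length_hom hM, Module.length_ne_top_iff]
    exact hM
  have hlen : Module.length R ((M →ₗ[R] E) →ₗ[R] E) = Module.length R M := by
    rw [h.length_hom hD, h.length_hom hM]
  exact surjective_of_injective_of_length_eq _ hinj hlen.symm (Module.length_ne_top_iff.mpr hM)

/-- Power torsion modules are essential extensions of their socle. -/
theorem exists_smul_mem_socle {M : Type v} [AddCommGroup M] [Module R M]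
    (hM : LocCoh.IsPowerTorsion (maximalIdeal R) M) (x : M) (hx : x ≠ 0) :
    ∃ r : R, r • x ≠ 0 ∧ ∀ a ∈ maximalIdeal R, a • r • x = 0 := by
  classical
  have hex := hM x
  have hN0 : Nat.find hex ≠ 0 := by
    intro h0
    have h1 := Nat.find_spec hex
    rw [h0, pow_zero] at h1
    apply hx
    have h2 := h1 1 (by rw [Ideal.one_eq_top]; exact Submodule.mem_top)
    rwa [one_smul] at h2
  obtain ⟨N', hN'⟩ := Nat.exists_eq_succ_of_ne_zero hN0
  have h1 := Nat.find_min hex (m := N') (by omega)
  push Not at h1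
  obtain ⟨r, hr, hrx⟩ := h1
  refine ⟨r, hrx, fun a ha => ?_⟩
  rw [← mul_smul]
  apply Nat.find_spec hex
  rw [hN', pow_succ']
  exact Ideal.mul_mem_mul ha hr

/-- A power torsion module with `n`-dimensional socle embeds into `E ^ n`. -/
theorem IsMatlisHull.exists_embedding_pi (h : IsMatlisHull R E e₀) {M : Type v} [AddCommGroup M]
    [Module R M] (hM : LocCoh.IsPowerTorsion (maximalIdeal R) M) (n : ℕ)
    [Module.Finite (R ⧸ maximalIdeal R) ↥(LocCoh.torsionBy (maximalIdeal R) M)]
    (hn : Module.finrank (R ⧸ maximalIdeal R) ↥(LocCoh.torsionBy (maximalIdeal R) M) = n) :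
    ∃ g : M →ₗ[R] (Fin n → E), Injective g := by
  have := h.injective
  let _ : Field (R ⧸ maximalIdeal R) := Ideal.Quotient.field (maximalIdeal R)
  let V : Submodule R M := LocCoh.torsionBy (maximalIdeal R) M
  have b : Module.Basis (Fin n) (R ⧸ maximalIdeal R) V := Module.finBasisOfFinrankEq _ _ hn
  let g₀ : V →ₗ[R] (Fin n → E) :=
    (h.f₀.compLeft (Fin n)) ∘ₗ (b.equivFun.restrictScalars R).toLinearMap
  have hg₀ : Injective g₀ := by
    intro v w hvw
    apply (b.equivFun.restrictScalars R).injective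
    funext i
    exact h.f₀_injective (congrFun hvw i)
  obtain ⟨g, hg⟩ := Module.Injective.extension_property R (Fin n → E) V M V.subtype
    (Submodule.injective_subtype _) g₀
  refine ⟨g, ?_⟩
  rw [← LinearMap.ker_eq_bot, LinearMap.ker_eq_bot']
  intro x hx
  by_contra hx0
  obtain ⟨r, hrx, hr⟩ := exists_smul_mem_socle hM x hx0
  have hmem : r • x ∈ V := by
    change r • x ∈ Submodule.torsionBySet R M _
    rw [Submodule.mem_torsionBySet_iff]
    intro a
    exact hr a a.2
  have h1 : g₀ ⟨r • x, hmem⟩ = 0 := by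
    have h2 := LinearMap.congr_fun hg ⟨r • x, hmem⟩
    rw [← h2]
    change g (r • x) = 0
    rw [map_smul, hx, smul_zero]
  have h3 : (⟨r • x, hmem⟩ : V) = 0 := hg₀ (h1.trans (map_zero g₀).symm)
  exact hrx (congrArg Subtype.val h3)

end

end Groth.Agent.Helper1
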