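import Mathlib
import Groth.Prelude.Def_Wider
import Groth.Agent.Lib.Helper1.MatlisLib1
import Groth.Agent.Lib.Helper8.Matlis3

/-!
# Base change of the injective hull of the residue field along a flat local homomorphism
-/

namespace Groth.Agent.Helper1

open Function IsLocalRing TensorProduct

universe u v

/-- `Hom(A/J, E)` is the `J`-torsion of `E`. -/
theorem nonempty_homQuot_equiv_torsion {A : Type u} [CommRing A] (J : Ideal A) (E : Type v)
    [AddCommGroup E] [Module A E] :
    Nonempty (((A ⧸ J) →ₗ[A] E) ≃ₗ[A] Submodule.torsionBySet A E (J : Set A)) := by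
  have hmk : ∀ r : A, Ideal.Quotient.mk J r = r • (1 : A ⧸ J) := by
    intro r
    rw [Algebra.smul_def, mul_one, Ideal.Quotient.algebraMap_eq]
  let ev : ((A ⧸ J) →ₗ[A] E) →ₗ[A] Submodule.torsionBySet A E (J : Set A) :=
    (LinearMap.applyₗ (1 : A ⧸ J)).codRestrict _ (fun φ => by
      rw [Submodule.mem_torsionBySet_iff]
      intro a
      change (a : A) • φ 1 = 0
      rw [← map_smul, ← hmk, Ideal.Quotient.eq_zero_iff_mem.mpr a.2, map_zero])
  refine ⟨LinearEquiv.ofBijective ev ⟨?_, ?_⟩⟩
  · intro φ ψ h
    have h1 : φ 1 = ψ 1 := congrArg Subtype.val h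
    apply LinearMap.ext
    intro z
    obtain ⟨r, rfl⟩ := Ideal.Quotient.mk_surjective z
    rw [hmk, map_smul, map_smul, h1]
  · intro x
    have hle : J ≤ LinearMap.ker (LinearMap.toSpanSingleton A E (x : E)) := by
      intro r hr
      rw [LinearMap.mem_ker, LinearMap.toSpanSingleton_apply]
      exact ((Submodule.mem_torsionBySet_iff _ _).mp x.2) ⟨r, hr⟩
    refine ⟨J.liftQ (LinearMap.toSpanSingleton A E (x : E)) hle, Subtype.ext ?_⟩
    change (J.liftQ (LinearMap.toSpanSingleton A E (x : E)) hle) (Submodule.Quotient.mk 1) = x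
    rw [Submodule.liftQ_apply, LinearMap.toSpanSingleton_apply, one_smul]

theorem isInjectiveHull_comp_linearEquiv {R : Type u} [CommRing R] {M E E₂ : Type u}
    [AddCommGroup M] [Module R M] [AddCommGroup E] [Module R E] [AddCommGroup E₂] [Module R E₂]
    (f : M →ₗ[R] E) (hf : InjHull.IsInjectiveHull f) (e : E ≃ₗ[R] E₂) :
    InjHull.IsInjectiveHull (e.toLinearMap ∘ₗ f) := by
  refine ⟨?_, injective_of_linearEquiv e hf.isInjective⟩
  rw [isEssentialInj_iff]
  obtain ⟨h1, h2⟩ := (isEssentialInj_iff f).mp hf.toIsEssentialInj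
  refine ⟨e.injective.comp h1, fun x hx => ?_⟩
  obtain ⟨r, ⟨m, hm⟩, hr0⟩ := h2 (e.symm x)
    (fun h => hx (by rw [← e.apply_symm_apply x, h, map_zero]))
  refine ⟨r, ⟨m, ?_⟩, fun h => hr0 ?_⟩
  · change e (f m) = r • x
    rw [hm, map_smul, e.apply_symm_apply]
  · rw [← map_smul, h, map_zero]

section BaseChangeLength

variable {A : Type u} [CommRing A] [IsLocalRing A] {B : Type u} [CommRing B] [Algebra A B]
  [Module.Flat A B]

theorem length_baseChange (hS : Module.length B (B ⊗[A] (A ⧸ maximalIdeal A)) = 1) {N : Type u}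
    [AddCommGroup N] [Module A N] (hN : IsFiniteLength A N) :
    Module.length B (B ⊗[A] N) = Module.length A N := by
  induction hN with
  | of_subsingleton =>
    rename_i N _ _ _
    have : Subsingleton (B ⊗[A] N) := by
      refine ⟨fun x y => ?_⟩
      have h0 : ∀ z : B ⊗[A] N, z = 0 := by
        intro z
        induction z using TensorProduct.induction_on with
        | zero => rfl
        | tmul b n => rw [Subsingleton.elim n 0, tmul_zero]
        | add x y hx hy => rw [hx, hy, add_zero]
      rw [h0 x, h0 y]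
    rw [Module.length_eq_zero, Module.length_eq_zero]
  | @of_simple_quotient N _ _ N' hs hN' ih =>
    let a : B ⊗[A] N' →ₗ[B] B ⊗[A] N := N'.subtype.baseChange B
    let b : B ⊗[A] N →ₗ[B] B ⊗[A] (N ⧸ N') := N'.mkQ.baseChange B
    have ha : Injective a :=
      Module.Flat.lTensor_preserves_injective_linearMap (M := B) N'.subtype
        (Submodule.injective_subtype _)
    have hb : Surjective b := LinearMap.lTensor_surjective B N'.mkQ_surjective
    have hab : Function.Exact a b :=
      lTensor_exact B (LinearMap.exact_subtype_mkQ N') N'.mkQ_surjective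
    have h1 := Module.length_eq_add_of_exact a b ha hb hab
    have h2 := Module.length_eq_add_of_exact N'.subtype N'.mkQ (Submodule.injective_subtype _)
      (Submodule.mkQ_surjective _) (LinearMap.exact_subtype_mkQ N')
    obtain ⟨I, hI, ⟨e⟩⟩ := isSimpleModule_iff_quot_maximal.mp hs
    have hIm : I = maximalIdeal A := IsLocalRing.eq_maximalIdeal hI
    subst hIm
    have h3 : Module.length B (B ⊗[A] (N ⧸ N')) = 1 := by
      rw [(LinearEquiv.baseChange A B _ _ e).length_eq]
      exact hS
    have h4 : Module.length A (N ⧸ N') = 1 := Module.length_eq_one A (N ⧸ N')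
    rw [h1, h2, h3, ih, h4]

end BaseChangeLength

theorem isInjectiveHull_baseChange
    (A : Type u) [CommRing A] [IsLocalRing A] [IsNoetherianRing A] (B : Type u) [CommRing B]
    [IsLocalRing B] [IsNoetherianRing B] [Algebra A B] [Module.Flat A B]
    (hm : (maximalIdeal A).map (algebraMap A B) = maximalIdeal B)
    (E : Type u) [AddCommGroup E] [Module A E] (f : ResidueField A →ₗ[A] E)
    (hf : InjHull.IsInjectiveHull f) :
    ∃ g : ResidueField B →ₗ[B] B ⊗[A] E, InjHull.IsInjectiveHull g := by
  classical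
  obtain ⟨E', _, _, f', hf'⟩ := exists_injectiveHull (R := B) (ResidueField B)
  have hinjE' : Module.Injective B E' := hf'.isInjective
  let f₁ : (A ⧸ maximalIdeal A) →ₗ[A] E := f
  let f'₁ : (B ⧸ maximalIdeal B) →ₗ[B] E' := f'
  -- the simple module `B ⊗ k_A ≅ k_B`
  let eS : (B ⊗[A] (A ⧸ maximalIdeal A)) ≃ₗ[B] (B ⧸ maximalIdeal B) :=
    (Algebra.TensorProduct.quotIdealMapEquivTensorQuot B (maximalIdeal A)).symm.toLinearEquiv ≪≫ₗ
      Submodule.quotEquivOfEq _ _ hm
  have hsimpleB : IsSimpleModule B (B ⧸ maximalIdeal B) :=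
    isSimpleModule_iff_quot_maximal.mpr ⟨maximalIdeal B, inferInstance, ⟨LinearEquiv.refl _ _⟩⟩
  have hS : Module.length B (B ⊗[A] (A ⧸ maximalIdeal A)) = 1 := by
    rw [eS.length_eq]
    exact Module.length_eq_one B (B ⧸ maximalIdeal B)
  let θ₀ : B ⊗[A] (A ⧸ maximalIdeal A) →ₗ[B] E' := f'₁ ∘ₗ eS.toLinearMap
  have hθ₀inj : Injective θ₀ := hf'.injective.comp eS.injective
  let a : B ⊗[A] (A ⧸ maximalIdeal A) →ₗ[B] B ⊗[A] E := f₁.baseChange B
  have ha : Injective a :=
    Module.Flat.lTensor_preserves_injective_linearMap (M := B) f₁ hf.injective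
  obtain ⟨θ, hθ⟩ := Module.Injective.extension_property B E' _ _ a ha θ₀
  -- killing
  have hkill : ∀ (n : ℕ) (x : E), (∀ r ∈ maximalIdeal A ^ n, r • x = 0) → ∀ (b : B),
      ∀ c ∈ maximalIdeal B ^ n, c • (b ⊗ₜ[A] x : B ⊗[A] E) = 0 := by
    intro n x hx b c hc
    rw [← hm, ← Ideal.map_pow] at hc
    change c ∈ Ideal.span _ at hc
    induction hc using Submodule.span_induction with
    | mem c hc =>
      obtain ⟨r, hr, rfl⟩ := hc
      rw [algebraMap_smul, ← TensorProduct.tmul_smul, hx r hr, tmul_zero]
    | zero => rw [zero_smul]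
    | add c1 c2 _ _ h1 h2 => rw [add_smul, h1, h2, add_zero]
    | smul d c1 _ h1 => rw [smul_eq_mul, mul_smul, h1, smul_zero]
  have hWtors : LocCoh.IsPowerTorsion (maximalIdeal B) (B ⊗[A] E) := by
    intro w
    induction w using TensorProduct.induction_on with
    | zero => exact ⟨0, fun c _ => smul_zero c⟩
    | tmul b x =>
      obtain ⟨n, hn⟩ := Groth.Agent.Helper8.Matlis.isPowerTorsion hf.toIsEssentialInj x
      exact ⟨n, fun c hc => hkill n x hn b c hc⟩
    | add w1 w2 h1 h2 =>
      obtain ⟨n1, hn1⟩ := h1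
      obtain ⟨n2, hn2⟩ := h2
      refine ⟨max n1 n2, fun c hc => ?_⟩
      rw [smul_add, hn1 c (Ideal.pow_le_pow_right (le_max_left _ _) hc),
        hn2 c (Ideal.pow_le_pow_right (le_max_right _ _) hc), add_zero]
  -- the socle
  have hsocle : ∀ w : B ⊗[A] E, (∀ c ∈ maximalIdeal B, c • w = 0) → w ∈ LinearMap.range a := by
    intro w hw
    obtain ⟨s, hs⟩ := (IsNoetherian.noetherian (maximalIdeal A) : (maximalIdeal A).FG)
    have hsmem : ∀ i : s, (i : A) ∈ maximalIdeal A := fun i => by
      rw [← hs]
      exact Ideal.subset_span i.2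
    let g : E →ₗ[A] (s → E) := LinearMap.pi fun i => (i : A) • LinearMap.id
    have hfg : Function.Exact f₁ g := by
      intro x
      constructor
      · intro hx
        have hx' : ∀ r ∈ maximalIdeal A, r • x = 0 := by
          intro r hr
          rw [← hs] at hr
          change r ∈ Ideal.span _ at hr
          induction hr using Submodule.span_induction with
          | mem i hi => exact congrFun hx ⟨i, hi⟩
          | zero => rw [zero_smul]
          | add r1 r2 _ _ h1 h2 => rw [add_smul, h1, h2, add_zero]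
          | smul d r1 _ h1 => rw [smul_eq_mul, mul_smul, h1, smul_zero]
        exact Groth.Agent.Helper8.Matlis.mem_range_of_maximalIdeal_smul_eq_zero
          hf.toIsEssentialInj x hx'
      · rintro ⟨c, rfl⟩
        funext i
        change (i : A) • f c = 0
        rw [← map_smul, Groth.Agent.Helper8.Matlis.residue_smul_eq_zero _ (hsmem i), map_zero]
    have hexact : Function.Exact (f₁.lTensor B) (g.lTensor B) := Module.Flat.lTensor_exact B hfg
    have key : ∀ (w : B ⊗[A] E) (i : s),
        (TensorProduct.piRight A B B (fun _ : s => E)) ((g.lTensor B) w) i =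
          (algebraMap A B (i : A)) • w := by
      intro w i
      induction w using TensorProduct.induction_on with
      | zero => rw [map_zero, map_zero, smul_zero]; rfl
      | tmul b x =>
        rw [LinearMap.lTensor_tmul, TensorProduct.piRight_apply, TensorProduct.piRightHom_tmul,
          algebraMap_smul, ← TensorProduct.tmul_smul]
        rfl
      | add w1 w2 h1 h2 => rw [map_add, map_add, Pi.add_apply, h1, h2, smul_add]
    have hzero : (g.lTensor B) w = 0 := by
      apply (TensorProduct.piRight A B B (fun _ : s => E)).injective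
      rw [map_zero]
      funext i
      rw [key]
      apply hw
      rw [← hm]
      exact Ideal.mem_map_of_mem _ (hsmem i)
    obtain ⟨z, hz⟩ := (hexact w).mp hzero
    exact ⟨z, hz⟩
  have hθinj : Injective θ := by
    rw [← LinearMap.ker_eq_bot, LinearMap.ker_eq_bot']
    intro w hw
    by_contra hw0
    obtain ⟨c, hcw, hc⟩ := exists_smul_mem_socle hWtors w hw0
    obtain ⟨s, hs⟩ := hsocle (c • w) hc
    have h1 : θ₀ s = 0 := by
      rw [← hθ, LinearMap.comp_apply, hs, map_smul, hw, smul_zero]
    have h2 : s = 0 := hθ₀inj (h1.trans (map_zero θ₀).symm)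
    apply hcw
    rw [← hs, h2, map_zero]
  have hθsurj : Surjective θ := by
    intro y
    obtain ⟨n, hn⟩ := Groth.Agent.Helper8.Matlis.isPowerTorsion hf'.toIsEssentialInj y
    let En : Submodule A E := Submodule.torsionBySet A E ((maximalIdeal A ^ n : Ideal A) : Set A)
    let E'n : Submodule B E' :=
      Submodule.torsionBySet B E' ((maximalIdeal B ^ n : Ideal B) : Set B)
    let an : B ⊗[A] En →ₗ[B] B ⊗[A] E := En.subtype.baseChange B
    have han : Injective an :=
      Module.Flat.lTensor_preserves_injective_linearMap (M := B) En.subtype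
        (Submodule.injective_subtype _)
    have hkill' : ∀ (z : B ⊗[A] En) (c : B), c ∈ maximalIdeal B ^ n → c • an z = 0 := by
      intro z c hc
      induction z using TensorProduct.induction_on with
      | zero => rw [map_zero, smul_zero]
      | tmul b x =>
        change c • (b ⊗ₜ[A] (x : E)) = 0
        exact hkill n x (fun r hr => ((Submodule.mem_torsionBySet_iff _ _).mp x.2) ⟨r, hr⟩) b c hc
      | add z1 z2 h1 h2 => rw [map_add, smul_add, h1, h2, add_zero]
    let θn : B ⊗[A] En →ₗ[B] E'n := (θ ∘ₗ an).codRestrict E'n (fun z => by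
      rw [Submodule.mem_torsionBySet_iff]
      intro c
      change (c : B) • θ (an z) = 0
      rw [← map_smul, hkill' z c c.2, map_zero])
    have hθn : Injective θn := by
      intro z1 z2 h
      apply han
      apply hθinj
      exact congrArg Subtype.val h
    have hAfin : IsFiniteLength A (A ⧸ maximalIdeal A ^ n) :=
      Groth.Agent.Helper8.Matlis.isFiniteLength_quotient_pow n
    have hBfin : IsFiniteLength B (B ⧸ maximalIdeal B ^ n) :=
      Groth.Agent.Helper8.Matlis.isFiniteLength_quotient_pow n
    obtain ⟨eA⟩ := nonempty_homQuot_equiv_torsion (maximalIdeal A ^ n) E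
    obtain ⟨eB⟩ := nonempty_homQuot_equiv_torsion (maximalIdeal B ^ n) E'
    have hlenEn : Module.length A En = Module.length A (A ⧸ maximalIdeal A ^ n) := by
      rw [← eA.length_eq, Groth.Agent.Helper8.Matlis.length_hom hf _ hAfin]
    have hEnfin : IsFiniteLength A En := by
      rw [← Module.length_ne_top_iff, hlenEn, Module.length_ne_top_iff]
      exact hAfin
    have hlen1 : Module.length B (B ⊗[A] En) = Module.length A (A ⧸ maximalIdeal A ^ n) := by
      rw [length_baseChange hS hEnfin, hlenEn]
    let eQ : (B ⊗[A] (A ⧸ maximalIdeal A ^ n)) ≃ₗ[B] (B ⧸ maximalIdeal B ^ n) :=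
      (Algebra.TensorProduct.quotIdealMapEquivTensorQuot B
        (maximalIdeal A ^ n)).symm.toLinearEquiv ≪≫ₗ
        Submodule.quotEquivOfEq _ _ (by rw [Ideal.map_pow, hm])
    have hlen2 : Module.length B E'n = Module.length A (A ⧸ maximalIdeal A ^ n) := by
      rw [← eB.length_eq, Groth.Agent.Helper8.Matlis.length_hom hf' _ hBfin, ← eQ.length_eq,
        length_baseChange hS hAfin]
    have hsurj : Surjective θn :=
      surjective_of_injective_of_length_eq θn hθn (hlen1.trans hlen2.symm) (by
        rw [hlen1, Module.length_ne_top_iff]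
        exact hAfin)
    have hy : y ∈ E'n := by
      rw [Submodule.mem_torsionBySet_iff]
      intro c
      exact hn c c.2
    obtain ⟨z, hz⟩ := hsurj ⟨y, hy⟩
    exact ⟨an z, congrArg Subtype.val hz⟩
  let θe : (B ⊗[A] E) ≃ₗ[B] E' := LinearEquiv.ofBijective θ ⟨hθinj, hθsurj⟩
  exact ⟨θe.symm.toLinearMap ∘ₗ f', isInjectiveHull_comp_linearEquiv f' hf' θe.symm⟩

end Groth.Agent.Helper1
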