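import Mathlib
import Groth.Prelude.Def_Flatn

/-!
# From representability of `Mor_S(X, Y)` to the cartesian-monoidal universal property

(helper lemma (MON) requested by helper14 for S16770)
-/

universe u

open CategoryTheory CategoryTheory.Limits AlgebraicGeometry Opposite MonoidalCategory
  CartesianMonoidalCategory

namespace Groth.Agent.Helper1.MorMon

variable {S : Scheme.{u}}

/-- `T ×_S X`, regarded over `S` through `X` (the source of the sections of `morS`). -/
noncomputable abbrev P (X T : Over S) : Over S :=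
  (Over.map X.hom).obj ((Over.pullback X.hom).obj T)

/-- the base change of an `S`-morphism. -/
noncomputable abbrev PM (X : Over S) {T T' : Over S} (v : T' ⟶ T) : P X T' ⟶ P X T :=
  (Over.map X.hom).map ((Over.pullback X.hom).map v)

/-- sections of `morS` as morphisms of `Over S`. -/
noncomputable def toHom (X Y T : Over S) (b : (Flatn.morS X.hom Y.hom).obj (op T)) :
    P X T ⟶ Y := b

/-- morphisms of `Over S` as sections of `morS`. -/
noncomputable def ofHom (X Y T : Over S) (b : P X T ⟶ Y) :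
    (Flatn.morS X.hom Y.hom).obj (op T) := b

theorem toHom_ofHom (X Y T : Over S) (b : P X T ⟶ Y) : toHom X Y T (ofHom X Y T b) = b := rfl

theorem ofHom_toHom (X Y T : Over S) (b : (Flatn.morS X.hom Y.hom).obj (op T)) :
    ofHom X Y T (toHom X Y T b) = b := rfl

theorem toHom_map (X Y : Over S) {T T' : Over S} (v : T' ⟶ T)
    (b : (Flatn.morS X.hom Y.hom).obj (op T)) :
    toHom X Y T' ((Flatn.morS X.hom Y.hom).map v.op b) = PM X v ≫ toHom X Y T b := rfl

/-- the swap `X ×_S T ⟶ T ×_S X` over `S`. -/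
noncomputable def σ (X T : Over S) : X ⊗ T ⟶ P X T :=
  Over.homMk (pullback.lift (pullback.snd X.hom T.hom) (pullback.fst X.hom T.hom)
      pullback.condition.symm)
    (by
      show pullback.lift _ _ _ ≫ (pullback.snd T.hom X.hom ≫ X.hom) =
        pullback.fst X.hom T.hom ≫ X.hom
      rw [pullback.lift_snd_assoc])

/-- the swap `T ×_S X ⟶ X ×_S T` over `S`. -/
noncomputable def σinv (X T : Over S) : P X T ⟶ X ⊗ T :=
  Over.homMk (pullback.lift (pullback.snd T.hom X.hom) (pullback.fst T.hom X.hom)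
      pullback.condition.symm)
    (by
      show pullback.lift _ _ _ ≫ (pullback.fst X.hom T.hom ≫ X.hom) =
        pullback.snd T.hom X.hom ≫ X.hom
      rw [pullback.lift_fst_assoc])

theorem σ_left_fst (X T : Over S) :
    (σ X T).left ≫ pullback.fst T.hom X.hom = pullback.snd X.hom T.hom :=
  pullback.lift_fst _ _ _

theorem σ_left_snd (X T : Over S) :
    (σ X T).left ≫ pullback.snd T.hom X.hom = pullback.fst X.hom T.hom :=
  pullback.lift_snd _ _ _

theorem σinv_left_fst (X T : Over S) :
    (σinv X T).left ≫ pullback.fst X.hom T.hom = pullback.snd T.hom X.hom :=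
  pullback.lift_fst _ _ _

theorem σinv_left_snd (X T : Over S) :
    (σinv X T).left ≫ pullback.snd X.hom T.hom = pullback.fst T.hom X.hom :=
  pullback.lift_snd _ _ _

theorem σ_σinv (X T : Over S) : σ X T ≫ σinv X T = 𝟙 (X ⊗ T) := by
  apply Over.OverMorphism.ext
  show (σ X T).left ≫ (σinv X T).left = 𝟙 (pullback X.hom T.hom)
  apply pullback.hom_ext
  · rw [Category.assoc, σinv_left_fst, σ_left_snd]
    exact (Category.id_comp _).symm
  · rw [Category.assoc, σinv_left_snd, σ_left_fst]
    exact (Category.id_comp _).symm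

theorem σinv_σ (X T : Over S) : σinv X T ≫ σ X T = 𝟙 (P X T) := by
  apply Over.OverMorphism.ext
  show (σinv X T).left ≫ (σ X T).left = 𝟙 (pullback T.hom X.hom)
  apply pullback.hom_ext
  · rw [Category.assoc, σ_left_fst, σinv_left_snd]
    exact (Category.id_comp _).symm
  · rw [Category.assoc, σ_left_snd, σinv_left_fst]
    exact (Category.id_comp _).symm

theorem PM_left_fst (X : Over S) {T T' : Over S} (v : T' ⟶ T) :
    (PM X v).left ≫ pullback.fst T.hom X.hom = pullback.fst T'.hom X.hom ≫ v.left :=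
  pullback.lift_fst _ _ _

theorem PM_left_snd (X : Over S) {T T' : Over S} (v : T' ⟶ T) :
    (PM X v).left ≫ pullback.snd T.hom X.hom = pullback.snd T'.hom X.hom :=
  pullback.lift_snd _ _ _

/-- naturality of the swap. -/
theorem whisker_σ (X : Over S) {T T' : Over S} (v : T' ⟶ T) :
    (X ◁ v) ≫ σ X T = σ X T' ≫ PM X v := by
  apply Over.OverMorphism.ext
  show (X ◁ v).left ≫ (σ X T).left = (σ X T').left ≫ (PM X v).left
  apply pullback.hom_ext
  · rw [Category.assoc, σ_left_fst, Category.assoc, PM_left_fst, ← Category.assoc, σ_left_fst]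
    exact Over.whiskerLeft_left_snd v
  · rw [Category.assoc, σ_left_snd, Category.assoc, PM_left_snd, σ_left_snd]
    exact Over.whiskerLeft_left_fst v

theorem monoidal_of_morS {S : Scheme.{u}} (X Y : Over S)
    (h : ∃ W : Over S, IsAffineHom W.hom ∧ LocallyOfFinitePresentation W.hom ∧
      Nonempty ((Flatn.morS X.hom Y.hom).RepresentableBy W)) :
    ∃ (M : Over S) (ev : X ⊗ M ⟶ Y), IsAffineHom M.hom ∧ LocallyOfFinitePresentation M.hom ∧
      ∀ (T : Over S) (φ : X ⊗ T ⟶ Y), ∃! v : T ⟶ M, (X ◁ v) ≫ ev = φ := by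
  obtain ⟨W, hWa, hWfp, ⟨R⟩⟩ := h
  let ev₀ : P X W ⟶ Y := toHom X Y W (R.homEquiv (𝟙 W))
  have key : ∀ (T : Over S) (v : T ⟶ W), toHom X Y T (R.homEquiv v) = PM X v ≫ ev₀ := by
    intro T v
    have h1 : R.homEquiv (v ≫ 𝟙 W) =
        (Flatn.morS X.hom Y.hom).map v.op (R.homEquiv (𝟙 W)) := R.homEquiv_comp v (𝟙 W)
    rw [Category.comp_id] at h1
    exact (congrArg (toHom X Y T) h1).trans (toHom_map X Y v _)
  have comp : ∀ (T : Over S) (v : T ⟶ W),
      (X ◁ v) ≫ (σ X W ≫ ev₀) = σ X T ≫ toHom X Y T (R.homEquiv v) := by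
    intro T v
    rw [key T v, ← Category.assoc, whisker_σ, Category.assoc]
  refine ⟨W, σ X W ≫ ev₀, hWa, hWfp, fun T φ =>
    ⟨R.homEquiv.symm (ofHom X Y T (σinv X T ≫ φ)), ?_, ?_⟩⟩
  · show (X ◁ _) ≫ (σ X W ≫ ev₀) = φ
    rw [comp, Equiv.apply_symm_apply, toHom_ofHom, ← Category.assoc, σ_σinv, Category.id_comp]
  · intro v hv
    have hv' : σ X T ≫ toHom X Y T (R.homEquiv v) = φ := (comp T v).symm.trans hv
    rw [Equiv.eq_symm_apply]
    have e : toHom X Y T (R.homEquiv v) = σinv X T ≫ φ := by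
      rw [← hv', ← Category.assoc, σinv_σ, Category.id_comp]
    exact (ofHom_toHom X Y T _).symm.trans (congrArg (ofHom X Y T) e)

end Groth.Agent.Helper1.MorMon
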