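import Mathlib
import Groth.Prelude.Def_Flatn
import Groth.Prelude.Def_Mor2
import Groth.Agent.Lib.Helper14.MorGlueDef

/-!
# `Mor_S(Z, X)` is a Zariski sheaf on `Over S`

(helper lemma (S) requested by helper14 for S7194)
-/

universe u

open CategoryTheory CategoryTheory.Limits AlgebraicGeometry Opposite

namespace Groth.Agent.Helper1.MorSheaf

variable {Z X S : Scheme.{u}} (g : Z ⟶ S) (f : X ⟶ S)

/-- sections as morphisms of `Over S`. -/
noncomputable def toHom {T : Over S} (b : (Flatn.morS g f).obj (op T)) :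
    (Over.map g).obj ((Over.pullback g).obj T) ⟶ Over.mk f := b

/-- the underlying scheme morphism `T ×_S Z ⟶ X` of a section. -/
noncomputable def sec {T : Over S} (b : (Flatn.morS g f).obj (op T)) : pullback T.hom g ⟶ X :=
  (toHom g f b).left

/-- the base change `T' ×_S Z ⟶ T ×_S Z` of an `S`-morphism `T' ⟶ T`. -/
noncomputable def lf {T T' : Over S} (φ : T' ⟶ T) : pullback T'.hom g ⟶ pullback T.hom g :=
  ((Over.pullback g).map φ).left

theorem lf_fst {T T' : Over S} (φ : T' ⟶ T) :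
    lf g φ ≫ pullback.fst T.hom g = pullback.fst T'.hom g ≫ φ.left :=
  pullback.lift_fst _ _ _

theorem lf_snd {T T' : Over S} (φ : T' ⟶ T) :
    lf g φ ≫ pullback.snd T.hom g = pullback.snd T'.hom g :=
  pullback.lift_snd _ _ _

theorem sec_map {T T' : Over S} (φ : T' ⟶ T) (b : (Flatn.morS g f).obj (op T)) :
    sec g f ((Flatn.morS g f).map φ.op b) = lf g φ ≫ sec g f b := rfl

theorem sec_w {T : Over S} (b : (Flatn.morS g f).obj (op T)) :
    sec g f b ≫ f = pullback.snd T.hom g ≫ g := Over.w (toHom g f b)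

theorem sec_ext {T : Over S} (b b' : (Flatn.morS g f).obj (op T))
    (h : sec g f b = sec g f b') : b = b' :=
  Over.OverMorphism.ext (f := toHom g f b) (g := toHom g f b') h

theorem isZarSheaf_morS : Groth.Agent.Helper14.MorGlue.IsZarSheaf (Flatn.morS g f) := by
  intro T t 𝒰 x hx
  let 𝒱 : (pullback t g).OpenCover := Scheme.Pullback.openCoverOfLeft 𝒰 t g
  let vf : ∀ i : 𝒰.I₀, pullback (𝒰.f i ≫ t) g ⟶ pullback t g := fun i =>
    pullback.map (𝒰.f i ≫ t) g t g (𝒰.f i) (𝟙 Z) (𝟙 S) (by simp) (by simp)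
  have hVfst : ∀ i : 𝒰.I₀,
      vf i ≫ pullback.fst t g = pullback.fst (𝒰.f i ≫ t) g ≫ 𝒰.f i :=
    fun i => pullback.lift_fst _ _ _
  have hVsnd : ∀ i : 𝒰.I₀, vf i ≫ pullback.snd t g = pullback.snd (𝒰.f i ≫ t) g :=
    fun i => (pullback.lift_snd _ _ _).trans (Category.comp_id _)
  -- the restriction maps are the cover maps
  let φ : ∀ i : 𝒰.I₀, Over.mk (𝒰.f i ≫ t) ⟶ Over.mk t := fun i => Over.homMk (𝒰.f i) rfl
  have hr : ∀ i : 𝒰.I₀, lf g (φ i) = vf i := by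
    intro i
    apply pullback.hom_ext
    · exact (lf_fst g (φ i)).trans (hVfst i).symm
    · exact (lf_snd g (φ i)).trans (hVsnd i).symm
  let β : ∀ i : 𝒰.I₀, pullback (𝒰.f i ≫ t) g ⟶ X := fun i => sec g f (x i)
  have hβw : ∀ i, β i ≫ f = pullback.snd (𝒰.f i ≫ t) g ≫ g := fun i => sec_w g f (x i)
  have hβ : ∀ i j : 𝒰.I₀,
      pullback.fst (vf i) (vf j) ≫ β i = pullback.snd (vf i) (vf j) ≫ β j := by
    intro i j
    let φ₁ : Over.mk (pullback.fst (𝒰.f i) (𝒰.f j) ≫ 𝒰.f i ≫ t) ⟶ Over.mk (𝒰.f i ≫ t) :=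
      Over.homMk (pullback.fst (𝒰.f i) (𝒰.f j)) rfl
    let φ₂ : Over.mk (pullback.fst (𝒰.f i) (𝒰.f j) ≫ 𝒰.f i ≫ t) ⟶ Over.mk (𝒰.f j ≫ t) :=
      Over.homMk (pullback.snd (𝒰.f i) (𝒰.f j))
        (by simp only [Over.mk_hom]
            exact (pullback.condition_assoc _).symm)
    have h3 : lf g φ₁ ≫ β i = lf g φ₂ ≫ β j :=
      congrArg (fun b => sec g f b) (hx i j)
    have hρ1f : lf g φ₁ ≫ pullback.fst (𝒰.f i ≫ t) g =
        pullback.fst (pullback.fst (𝒰.f i) (𝒰.f j) ≫ 𝒰.f i ≫ t) g ≫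
          pullback.fst (𝒰.f i) (𝒰.f j) := lf_fst g φ₁
    have hρ1s : lf g φ₁ ≫ pullback.snd (𝒰.f i ≫ t) g =
        pullback.snd (pullback.fst (𝒰.f i) (𝒰.f j) ≫ 𝒰.f i ≫ t) g := lf_snd g φ₁
    have hρ2f : lf g φ₂ ≫ pullback.fst (𝒰.f j ≫ t) g =
        pullback.fst (pullback.fst (𝒰.f i) (𝒰.f j) ≫ 𝒰.f i ≫ t) g ≫
          pullback.snd (𝒰.f i) (𝒰.f j) := lf_fst g φ₂
    have hρ2s : lf g φ₂ ≫ pullback.snd (𝒰.f j ≫ t) g =
        pullback.snd (pullback.fst (𝒰.f i) (𝒰.f j) ≫ 𝒰.f i ≫ t) g := lf_snd g φ₂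
    have c₁ : (pullback.fst (vf i) (vf j) ≫ pullback.fst (𝒰.f i ≫ t) g) ≫ 𝒰.f i =
        (pullback.snd (vf i) (vf j) ≫ pullback.fst (𝒰.f j ≫ t) g) ≫ 𝒰.f j := by
      simp only [Category.assoc]
      rw [← hVfst i, ← hVfst j]
      exact pullback.condition_assoc _
    let l : pullback (vf i) (vf j) ⟶ pullback (𝒰.f i) (𝒰.f j) := pullback.lift _ _ c₁
    have hl1 : l ≫ pullback.fst (𝒰.f i) (𝒰.f j) =
        pullback.fst (vf i) (vf j) ≫ pullback.fst (𝒰.f i ≫ t) g := pullback.lift_fst _ _ _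
    have hl2 : l ≫ pullback.snd (𝒰.f i) (𝒰.f j) =
        pullback.snd (vf i) (vf j) ≫ pullback.fst (𝒰.f j ≫ t) g := pullback.lift_snd _ _ _
    have c₂ : l ≫ (pullback.fst (𝒰.f i) (𝒰.f j) ≫ 𝒰.f i ≫ t) =
        (pullback.fst (vf i) (vf j) ≫ pullback.snd (𝒰.f i ≫ t) g) ≫ g := by
      rw [← Category.assoc, hl1]
      simp only [Category.assoc]
      rw [pullback.condition]
    let κ : pullback (vf i) (vf j) ⟶
        pullback (pullback.fst (𝒰.f i) (𝒰.f j) ≫ 𝒰.f i ≫ t) g := pullback.lift _ _ c₂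
    have hκf : κ ≫ pullback.fst (pullback.fst (𝒰.f i) (𝒰.f j) ≫ 𝒰.f i ≫ t) g = l :=
      pullback.lift_fst _ _ _
    have hκs : κ ≫ pullback.snd (pullback.fst (𝒰.f i) (𝒰.f j) ≫ 𝒰.f i ≫ t) g =
        pullback.fst (vf i) (vf j) ≫ pullback.snd (𝒰.f i ≫ t) g := pullback.lift_snd _ _ _
    have hκ1 : κ ≫ lf g φ₁ = pullback.fst (vf i) (vf j) := by
      apply pullback.hom_ext
      · show (κ ≫ lf g φ₁) ≫ pullback.fst (𝒰.f i ≫ t) g =
          pullback.fst (vf i) (vf j) ≫ pullback.fst (𝒰.f i ≫ t) g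
        rw [Category.assoc, hρ1f, ← Category.assoc, hκf, hl1]
      · show (κ ≫ lf g φ₁) ≫ pullback.snd (𝒰.f i ≫ t) g =
          pullback.fst (vf i) (vf j) ≫ pullback.snd (𝒰.f i ≫ t) g
        rw [Category.assoc, hρ1s, hκs]
    have hκ2 : κ ≫ lf g φ₂ = pullback.snd (vf i) (vf j) := by
      apply pullback.hom_ext
      · show (κ ≫ lf g φ₂) ≫ pullback.fst (𝒰.f j ≫ t) g =
          pullback.snd (vf i) (vf j) ≫ pullback.fst (𝒰.f j ≫ t) g
        rw [Category.assoc, hρ2f, ← Category.assoc, hκf, hl2]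
      · show (κ ≫ lf g φ₂) ≫ pullback.snd (𝒰.f j ≫ t) g =
          pullback.snd (vf i) (vf j) ≫ pullback.snd (𝒰.f j ≫ t) g
        rw [Category.assoc, hρ2s, hκs, ← hVsnd i, ← hVsnd j]
        exact pullback.condition_assoc _
    have e1 : (κ ≫ lf g φ₁) ≫ β i = pullback.fst (vf i) (vf j) ≫ β i :=
      congrArg (fun z => z ≫ β i) hκ1
    have e2 : (κ ≫ lf g φ₂) ≫ β j = pullback.snd (vf i) (vf j) ≫ β j :=
      congrArg (fun z => z ≫ β j) hκ2
    have e3 : κ ≫ (lf g φ₁ ≫ β i) = κ ≫ (lf g φ₂ ≫ β j) := congrArg (fun z => κ ≫ z) h3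
    exact e1.symm.trans ((Category.assoc _ _ _).trans
      (e3.trans ((Category.assoc _ _ _).symm.trans e2)))
  let G : pullback t g ⟶ X := Scheme.Cover.glueMorphisms 𝒱 β hβ
  have hG : ∀ i : 𝒰.I₀, vf i ≫ G = β i := fun i => Scheme.Cover.ι_glueMorphisms 𝒱 β hβ i
  have hGw : G ≫ f = pullback.snd t g ≫ g := by
    refine Scheme.Cover.hom_ext 𝒱 _ _ (fun (i : 𝒰.I₀) => ?_)
    show vf i ≫ G ≫ f = vf i ≫ pullback.snd t g ≫ g
    have e1 : vf i ≫ G ≫ f = β i ≫ f := by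
      rw [← Category.assoc, hG]
    have e2 : vf i ≫ pullback.snd t g ≫ g = pullback.snd (𝒰.f i ≫ t) g ≫ g := by
      rw [← Category.assoc, hVsnd]
    exact e1.trans ((hβw i).trans e2.symm)
  let y : (Flatn.morS g f).obj (op (Over.mk t)) :=
    (Over.homMk G hGw : (Over.map g).obj ((Over.pullback g).obj (Over.mk t)) ⟶ Over.mk f)
  have hy : sec g f y = G := rfl
  refine ⟨y, fun i => ?_, fun y' hy' => ?_⟩
  · apply sec_ext g f
    have e1 : sec g f ((Flatn.morS g f).map (φ i).op y) = lf g (φ i) ≫ sec g f y :=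
      sec_map g f (φ i) y
    have e2 : lf g (φ i) ≫ sec g f y = vf i ≫ G := by rw [hr i, hy]
    exact e1.trans (e2.trans (hG i))
  · apply sec_ext g f
    rw [hy]
    refine Scheme.Cover.hom_ext 𝒱 _ _ (fun (i : 𝒰.I₀) => ?_)
    show vf i ≫ sec g f y' = vf i ≫ G
    have e1 : sec g f ((Flatn.morS g f).map (φ i).op y') = lf g (φ i) ≫ sec g f y' :=
      sec_map g f (φ i) y'
    have e0 : sec g f ((Flatn.morS g f).map (φ i).op y') = β i :=
      congrArg (fun b => sec g f b) (hy' i)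
    have e2 : vf i ≫ sec g f y' = β i := by
      rw [← hr i]
      exact e1.symm.trans e0
    exact e2.trans (hG i).symm

end Groth.Agent.Helper1.MorSheaf
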