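import Mathlib
import Groth.Prelude.Def_Curv2
import Groth.Prelude.Def_Flat

/-!
# Affine-local structure of the relative normalization
-/

set_option autoImplicit false

namespace Groth.Agent.Helper1.NAff

open CategoryTheory AlgebraicGeometry TopologicalSpace

universe u

section Generic

variable {X Y : Scheme.{u}} (f : X ⟶ Y) [QuasiCompact f] [QuasiSeparated f]

set_option backward.isDefEq.respectTransparency false in
/-- A property local at the target holds for `f.fromNormalization` iff it holds for all the
affine pieces `Spec (integral closure of Γ(Y,U) in Γ(X,f⁻¹U)) ⟶ Spec Γ(Y,U)`. -/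
theorem fromNormalization_iff (P : MorphismProperty Scheme.{u}) [IsZariskiLocalAtTarget P] :
    P f.fromNormalization ↔
      ∀ U : Y.affineOpens, P (Spec.map (f.normalizationDiagramMap.app (.op U.1))) := by
  rw [IsZariskiLocalAtTarget.iff_of_iSup_eq_top (P := P) _ (iSup_affineOpens_eq_top _)]
  refine forall_congr' fun U => ?_
  let e := IsOpenImmersion.isoOfRangeEq (f.fromNormalization ⁻¹ᵁ U).ι
      (f.normalizationOpenCover.f U)
      (by simpa using congr($(f.fromNormalization_preimage U).1))
  rw [← MorphismProperty.cancel_left_of_respectsIso P e.inv,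
    ← MorphismProperty.cancel_right_of_respectsIso P _ U.2.isoSpec.hom]
  have h : (e.inv ≫ (f.fromNormalization ∣_ U)) ≫ U.2.isoSpec.hom =
      Spec.map (f.normalizationDiagramMap.app (.op U)) := by
    rw [← cancel_mono U.2.fromSpec]
    simp [IsAffineOpen.isoSpec_hom, e, Scheme.Hom.ι_fromNormalization]
  rw [h]

end Generic

end Groth.Agent.Helper1.NAff
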