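import Mathlib
import Groth.Prelude.Def_Curv2
import Groth.Prelude.Def_Flat
import Groth.Agent.Lib.Helper1.NAff1

/-!
# The normalization of an integral scheme over an affine open
-/

set_option autoImplicit false

namespace Groth.Agent.Helper1.NAff

open CategoryTheory AlgebraicGeometry TopologicalSpace

universe u

section Integral

variable (X : Scheme.{u}) [IsIntegral X]

theorem genericPoint_mem (U : X.Opens) [h : Nonempty U] : genericPoint X ∈ U :=
  ((genericPoint_spec X).mem_open_set_iff U.isOpen).mpr (by simpa using h)

theorem preimage_eq_top (U : X.Opens) (hη : genericPoint X ∈ U) :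
    (X.fromSpecStalk (genericPoint X)) ⁻¹ᵁ U = ⊤ := by
  rw [eq_top_iff]
  intro y _
  show (X.fromSpecStalk (genericPoint X)) y ∈ U
  have h1 : (X.fromSpecStalk (genericPoint X)) y ∈
      Set.range (X.fromSpecStalk (genericPoint X)) := Set.mem_range_self y
  rw [Scheme.range_fromSpecStalk] at h1
  exact Specializes.mem_open h1 U.2 hη

/-- For a nonempty affine open `U` of an integral scheme, the ring of sections of
`Spec K(X)` over the preimage of `U` is a fraction ring of `Γ(X, U)`. -/
theorem isFractionRing_app (U : X.Opens) (hU : IsAffineOpen U) [Nonempty U] :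
    letI := ((X.fromSpecStalk (genericPoint X)).app U).hom.toAlgebra
    IsFractionRing Γ(X, U) Γ(Spec (X.presheaf.stalk (genericPoint X)),
      (X.fromSpecStalk (genericPoint X)) ⁻¹ᵁ U) := by
  letI := ((X.fromSpecStalk (genericPoint X)).app U).hom.toAlgebra
  have hη := genericPoint_mem X U
  have htop := preimage_eq_top X U hη
  haveI := functionField_isFractionRing_of_isAffineOpen X U hU
  let i : X.functionField ≅ Γ(Spec (X.presheaf.stalk (genericPoint X)),
      (X.fromSpecStalk (genericPoint X)) ⁻¹ᵁ U) :=
    (Scheme.ΓSpecIso (X.presheaf.stalk (genericPoint X))).symm ≪≫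
      (Spec (X.presheaf.stalk (genericPoint X))).presheaf.mapIso (eqToIso htop).op
  have hi : X.germToFunctionField U ≫ i.hom = (X.fromSpecStalk (genericPoint X)).app U := by
    rw [Scheme.fromSpecStalk_app hη]
    rfl
  let e : X.functionField ≃ₐ[Γ(X, U)] Γ(Spec (X.presheaf.stalk (genericPoint X)),
      (X.fromSpecStalk (genericPoint X)) ⁻¹ᵁ U) :=
    { i.commRingCatIsoToRingEquiv with
      commutes' := fun a => by
        have := congrArg (fun φ => φ.hom a) hi
        exact this }
  exact IsLocalization.isLocalization_of_algEquiv (nonZeroDivisors Γ(X, U)) e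

end Integral

end Groth.Agent.Helper1.NAff
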