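import Mathlib
import Groth.Prelude.Def_CAlg2
import Groth.Agent.Lib.Helper1.UB4
import Groth.Agent.Lib.Helper1.SHznUniv

/-!
# Geometrically unibranch local domains and radiciality of the normalization (local part)
-/

set_option autoImplicit false

namespace Groth.Agent.Helper1.NU

open IsLocalRing

universe u

theorem isGeomUnibranch_iff_of_isDomain (D : Type u) [CommRing D] [IsLocalRing D] [IsDomain D] :
    CAlg2.IsGeomUnibranch D ↔
      IsLocalRing (integralClosure D (FractionRing D)) ∧ UB.PIcond D := by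
  haveI := SHzn.isStrictHenselization D
  constructor
  · intro h
    haveI : IsDomain (SHzn.S D) :=
      (UB.reduced_geomUnibranch_iff D (SHzn.S D)).mp ⟨inferInstance, h⟩
    exact UB.isLocalRing_and_PIcond_of_isDomain D (SHzn.S D)
  · rintro ⟨hloc, hPI⟩
    haveI := hloc
    have hdom := UB.isDomain_of_isLocalRing_of_PIcond D (SHzn.S D) hPI
    exact ((UB.reduced_geomUnibranch_iff D (SHzn.S D)).mpr hdom).2

theorem eq_of_PI {D B Ω : Type u} [CommRing D] [IsLocalRing D] [CommRing B] [IsLocalRing B]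
    [Algebra D B] [Algebra.IsIntegral D B] [Field Ω]
    (hPI : ∀ x : B ⧸ maximalIdeal B, ∃ n : ℕ, x ^ (ringExpChar (B ⧸ maximalIdeal B)) ^ n ∈
        ((Ideal.Quotient.mk (maximalIdeal B)).comp (algebraMap D B)).range)
    (φ ψ : B →+* Ω) (hφψ : φ.comp (algebraMap D B) = ψ.comp (algebraMap D B))
    (hker : RingHom.ker (φ.comp (algebraMap D B)) = maximalIdeal D) : φ = ψ := by
  have hkerφ : RingHom.ker φ = maximalIdeal B := by
    haveI : (RingHom.ker φ).IsPrime := RingHom.ker_isPrime φ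
    have hmax : (RingHom.ker φ).IsMaximal := by
      apply Ideal.isMaximal_of_isIntegral_of_isMaximal_comap (R := D)
      rw [RingHom.comap_ker, hker]
      exact maximalIdeal.isMaximal D
    exact IsLocalRing.eq_maximalIdeal hmax
  have hkerψ : RingHom.ker ψ = maximalIdeal B := by
    haveI : (RingHom.ker ψ).IsPrime := RingHom.ker_isPrime ψ
    have hmax : (RingHom.ker ψ).IsMaximal := by
      apply Ideal.isMaximal_of_isIntegral_of_isMaximal_comap (R := D)
      rw [RingHom.comap_ker, ← hφψ, hker]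
      exact maximalIdeal.isMaximal D
    exact IsLocalRing.eq_maximalIdeal hmax
  letI : Field (B ⧸ maximalIdeal B) := Ideal.Quotient.field _
  obtain ⟨q, hq⟩ : ∃ q, q = ringExpChar (B ⧸ maximalIdeal B) := ⟨_, rfl⟩
  haveI hqe : ExpChar (B ⧸ maximalIdeal B) q := by
    rw [hq]; exact ringExpChar.expChar _
  let φ' : (B ⧸ maximalIdeal B) →+* Ω :=
    Ideal.Quotient.lift (maximalIdeal B) φ (fun b hb => by
      rw [← RingHom.mem_ker, hkerφ]; exact hb)
  haveI : ExpChar Ω q := expChar_of_injective_ringHom φ'.injective q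
  refine RingHom.ext fun b => ?_
  obtain ⟨n, hn⟩ := hPI (Ideal.Quotient.mk (maximalIdeal B) b)
  obtain ⟨d, hd⟩ := RingHom.mem_range.mp hn
  rw [← hq] at hd
  have hmem : b ^ q ^ n - algebraMap D B d ∈ maximalIdeal B := by
    rw [← Ideal.Quotient.eq_zero_iff_mem, map_sub, map_pow, sub_eq_zero]
    exact hd.symm
  have h1 : φ b ^ q ^ n = φ (algebraMap D B d) := by
    have h0 : b ^ q ^ n - algebraMap D B d ∈ RingHom.ker φ := by rw [hkerφ]; exact hmem
    rw [RingHom.mem_ker, map_sub, map_pow, sub_eq_zero] at h0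
    exact h0
  have h2 : ψ b ^ q ^ n = ψ (algebraMap D B d) := by
    have h0 : b ^ q ^ n - algebraMap D B d ∈ RingHom.ker ψ := by rw [hkerψ]; exact hmem
    rw [RingHom.mem_ker, map_sub, map_pow, sub_eq_zero] at h0
    exact h0
  have h3 : φ (algebraMap D B d) = ψ (algebraMap D B d) := RingHom.congr_fun hφψ d
  apply iterateFrobenius_inj Ω q n
  rw [iterateFrobenius_def, iterateFrobenius_def, h1, h2, h3]

theorem isLocalRing_and_PI_of_RI {D B : Type u} [CommRing D] [IsLocalRing D] [CommRing B]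
    [IsDomain B] [Algebra D B] [Algebra.IsIntegral D B]
    (hRI : ∀ (Ω : Type u) [Field Ω] (φ ψ : B →+* Ω),
      φ.comp (algebraMap D B) = ψ.comp (algebraMap D B) →
      RingHom.ker (φ.comp (algebraMap D B)) = maximalIdeal D → φ = ψ) :
    IsLocalRing B ∧ ∀ (m' : Ideal B) [m'.IsMaximal] (x : B ⧸ m'), ∃ n : ℕ,
      x ^ (ringExpChar (B ⧸ m')) ^ n ∈
        ((Ideal.Quotient.mk m').comp (algebraMap D B)).range := by
  letI : Field (D ⧸ maximalIdeal D) := Ideal.Quotient.field _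
  have hlies : ∀ (m' : Ideal B) [m'.IsMaximal], m'.LiesOver (maximalIdeal D) := by
    intro m' hm'
    exact ⟨(IsLocalRing.eq_maximalIdeal
      (Ideal.isMaximal_comap_of_isIntegral_of_isMaximal (R := D) m')).symm⟩
  have key : ∀ (m' : Ideal B) [m'.IsMaximal] [m'.LiesOver (maximalIdeal D)] (Ω : Type u)
      [Field Ω] [Algebra (D ⧸ maximalIdeal D) Ω] (τ : (B ⧸ m') →ₐ[D ⧸ maximalIdeal D] Ω),
      (τ.toRingHom.comp (Ideal.Quotient.mk m')).comp (algebraMap D B) =
        (algebraMap (D ⧸ maximalIdeal D) Ω).comp (Ideal.Quotient.mk (maximalIdeal D)) := by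
    intro m' _ _ Ω _ _ τ
    refine RingHom.ext fun d => ?_
    show τ (Ideal.Quotient.mk m' (algebraMap D B d)) =
      algebraMap _ Ω (Ideal.Quotient.mk _ d)
    rw [← Ideal.Quotient.algebraMap_mk_of_liesOver m' (maximalIdeal D), τ.commutes]
  have hker : ∀ (Ω : Type u) [Field Ω] [Algebra (D ⧸ maximalIdeal D) Ω],
      RingHom.ker ((algebraMap (D ⧸ maximalIdeal D) Ω).comp
        (Ideal.Quotient.mk (maximalIdeal D))) = maximalIdeal D := by
    intro Ω _ _
    ext d
    rw [RingHom.mem_ker, RingHom.comp_apply, map_eq_zero, Ideal.Quotient.eq_zero_iff_mem]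
  have huniq : ∀ (m1 m2 : Ideal B) [m1.IsMaximal] [m2.IsMaximal], m1 = m2 := by
    intro m1 m2 h1 h2
    haveI := hlies m1
    haveI := hlies m2
    letI : Field (B ⧸ m1) := Ideal.Quotient.field m1
    letI : Field (B ⧸ m2) := Ideal.Quotient.field m2
    haveI : Algebra.IsAlgebraic (D ⧸ maximalIdeal D) (B ⧸ m1) := Algebra.IsIntegral.isAlgebraic
    haveI : Algebra.IsAlgebraic (D ⧸ maximalIdeal D) (B ⧸ m2) := Algebra.IsIntegral.isAlgebraic
    let τ1 : (B ⧸ m1) →ₐ[D ⧸ maximalIdeal D] AlgebraicClosure (D ⧸ maximalIdeal D) :=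
      IsAlgClosed.lift
    let τ2 : (B ⧸ m2) →ₐ[D ⧸ maximalIdeal D] AlgebraicClosure (D ⧸ maximalIdeal D) :=
      IsAlgClosed.lift
    have h12 := hRI (AlgebraicClosure (D ⧸ maximalIdeal D))
      (τ1.toRingHom.comp (Ideal.Quotient.mk m1)) (τ2.toRingHom.comp (Ideal.Quotient.mk m2))
      ((key m1 _ τ1).trans (key m2 _ τ2).symm) (by rw [key m1 _ τ1]; exact hker _)
    have hk1 : RingHom.ker (τ1.toRingHom.comp (Ideal.Quotient.mk m1)) = m1 := by
      ext b
      rw [RingHom.mem_ker]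
      show τ1 (Ideal.Quotient.mk m1 b) = 0 ↔ _
      rw [map_eq_zero, Ideal.Quotient.eq_zero_iff_mem]
    have hk2 : RingHom.ker (τ2.toRingHom.comp (Ideal.Quotient.mk m2)) = m2 := by
      ext b
      rw [RingHom.mem_ker]
      show τ2 (Ideal.Quotient.mk m2 b) = 0 ↔ _
      rw [map_eq_zero, Ideal.Quotient.eq_zero_iff_mem]
    rw [← hk1, h12, hk2]
  refine ⟨?_, ?_⟩
  · obtain ⟨m0, hm0⟩ := Ideal.exists_maximal B
    exact IsLocalRing.of_unique_max_ideal ⟨m0, hm0, fun m hm => huniq m m0⟩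
  · intro m' hm' x
    haveI := hlies m'
    letI : Field (B ⧸ m') := Ideal.Quotient.field m'
    haveI : Algebra.IsAlgebraic (D ⧸ maximalIdeal D) (B ⧸ m') := Algebra.IsIntegral.isAlgebraic
    haveI : IsPurelyInseparable (D ⧸ maximalIdeal D) (B ⧸ m') := by
      rw [isPurelyInseparable_iff_finSepDegree_eq_one]
      show Nat.card (Field.Emb (D ⧸ maximalIdeal D) (B ⧸ m')) = 1
      rw [Nat.card_eq_one_iff_unique]
      refine ⟨⟨fun (τ₁ τ₂ : (B ⧸ m') →ₐ[D ⧸ maximalIdeal D] AlgebraicClosure (B ⧸ m')) => ?_⟩,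
        ⟨IsScalarTower.toAlgHom _ (B ⧸ m') (AlgebraicClosure (B ⧸ m'))⟩⟩
      have h12 := hRI (AlgebraicClosure (B ⧸ m')) (τ₁.toRingHom.comp (Ideal.Quotient.mk m'))
        (τ₂.toRingHom.comp (Ideal.Quotient.mk m'))
        ((key m' _ τ₁).trans (key m' _ τ₂).symm) (by rw [key m' _ τ₁]; exact hker _)
      apply AlgHom.ext
      intro l
      obtain ⟨b, rfl⟩ := Ideal.Quotient.mk_surjective l
      exact RingHom.congr_fun h12 b
    obtain ⟨q, hq⟩ := ExpChar.exists (D ⧸ maximalIdeal D)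
    haveI := hq
    haveI : ExpChar (B ⧸ m') q :=
      expChar_of_injective_ringHom (algebraMap (D ⧸ maximalIdeal D) (B ⧸ m')).injective q
    rw [ringExpChar.eq (B ⧸ m') q]
    obtain ⟨n, y, hy⟩ := IsPurelyInseparable.pow_mem (D ⧸ maximalIdeal D) q x
    obtain ⟨d, rfl⟩ := Ideal.Quotient.mk_surjective y
    exact ⟨n, RingHom.mem_range.mpr ⟨d, hy⟩⟩

end Groth.Agent.Helper1.NU
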