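import Mathlib

/-!
# The integral closure of `A_p` as a localization of the integral closure of `A`

(`D` is a generic model of `A_p`, to avoid the instance diamond on
`Algebra (Localization.AtPrime p) (FractionRing (Localization.AtPrime p))`.)
-/

set_option autoImplicit false

namespace Groth.Agent.Helper1.NU

universe u

section Loc

variable (A : Type u) [CommRing A] [IsDomain A] (p : Ideal A) [p.IsPrime]
  (D : Type u) [CommRing D] [IsDomain D] [Algebra A D] [IsLocalization.AtPrime D p]

include p

theorem faithfulSMul_D : FaithfulSMul A D :=
  (faithfulSMul_iff_algebraMap_injective A D).mpr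
    (IsLocalization.injective D p.primeCompl_le_nonZeroDivisors)

theorem faithfulSMul_L : FaithfulSMul A (FractionRing D) := by
  haveI := faithfulSMul_D A p D
  infer_instance

/-- the fraction field of `A_p` as an algebra over the fraction field of `A` -/
@[instance_reducible]
noncomputable def algK : Algebra (FractionRing A) (FractionRing D) :=
  haveI := faithfulSMul_L A p D
  FractionRing.liftAlgebra A (FractionRing D)

theorem towerK :
    letI := algK A p D
    IsScalarTower A (FractionRing A) (FractionRing D) :=
  haveI := faithfulSMul_L A p D
  FractionRing.isScalarTower_liftAlgebra A (FractionRing D)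

/-- the canonical map from the integral closure of `A` to that of `A_p` -/
noncomputable def toB : integralClosure A (FractionRing A) →+*
    integralClosure D (FractionRing D) :=
  letI := algK A p D
  haveI := towerK A p D
  ((algebraMap (FractionRing A) (FractionRing D)).comp
    (integralClosure A (FractionRing A)).val.toRingHom).codRestrict
    (integralClosure D (FractionRing D))
    (fun x => by
      have hx : IsIntegral A (x : FractionRing A) := x.2
      have h1 : IsIntegral A (algebraMap (FractionRing A)
          (FractionRing D) (x : FractionRing A)) :=
        hx.map (IsScalarTower.toAlgHom A (FractionRing A) (FractionRing D))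
      exact h1.tower_top)

theorem toB_comp : (toB A p D).comp (algebraMap A (integralClosure A (FractionRing A))) =
    (algebraMap D (integralClosure D (FractionRing D))).comp (algebraMap A D) := by
  letI := algK A p D
  haveI := towerK A p D
  refine RingHom.ext fun a => Subtype.ext ?_
  show algebraMap (FractionRing A) (FractionRing D)
    (algebraMap A (FractionRing A) a) =
    algebraMap D (FractionRing D) (algebraMap A D a)
  rw [← IsScalarTower.algebraMap_apply A (FractionRing A) (FractionRing D),
    ← IsScalarTower.algebraMap_apply A D (FractionRing D)]

theorem isLocalization_K :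
    letI := algK A p D
    IsLocalization
      (Algebra.algebraMapSubmonoid (FractionRing A) p.primeCompl) (FractionRing D) := by
  letI := algK A p D
  haveI := towerK A p D
  haveI := faithfulSMul_L A p D
  have hne : ∀ s ∈ p.primeCompl, algebraMap A (FractionRing D) s ≠ 0 := by
    intro s hs h0
    have hs0 : s = 0 := by
      apply FaithfulSMul.algebraMap_injective A (FractionRing D)
      rw [h0, map_zero]
    exact hs (hs0 ▸ p.zero_mem)
  apply IsLocalization.of_le_isUnit_of_bijective
  · rintro _ ⟨_, ⟨s, hs, rfl⟩, rfl⟩
    apply IsUnit.mk0
    rw [← IsScalarTower.algebraMap_apply A (FractionRing A) (FractionRing D)]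
    exact hne s hs
  · refine ⟨(algebraMap (FractionRing A) (FractionRing D)).injective, ?_⟩
    have hD : ∀ d : D, ∃ k : FractionRing A,
        algebraMap (FractionRing A) (FractionRing D) k = algebraMap D (FractionRing D) d := by
      intro d
      obtain ⟨⟨a, s⟩, rfl⟩ := IsLocalization.mk'_surjective p.primeCompl d
      refine ⟨algebraMap A (FractionRing A) a / algebraMap A (FractionRing A) s, ?_⟩
      rw [map_div₀, ← IsScalarTower.algebraMap_apply A (FractionRing A) (FractionRing D),
        ← IsScalarTower.algebraMap_apply A (FractionRing A) (FractionRing D),
        div_eq_iff (hne s s.2), IsScalarTower.algebraMap_apply A D (FractionRing D) a,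
        IsScalarTower.algebraMap_apply A D (FractionRing D) s, ← map_mul,
        IsLocalization.mk'_spec]
    intro l
    obtain ⟨d1, d2, hd2, rfl⟩ := IsFractionRing.div_surjective (A := D) l
    obtain ⟨k1, hk1⟩ := hD d1
    obtain ⟨k2, hk2⟩ := hD d2
    exact ⟨k1 / k2, by rw [map_div₀, hk1, hk2]⟩

theorem isLocalization_toB :
    letI := (toB A p D).toAlgebra
    IsLocalization
      (Algebra.algebraMapSubmonoid (integralClosure A (FractionRing A)) p.primeCompl)
      (integralClosure D (FractionRing D)) := by
  letI := algK A p D
  haveI := towerK A p D
  letI := (toB A p D).toAlgebra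
  haveI : IsScalarTower (integralClosure A (FractionRing A))
      (integralClosure D (FractionRing D)) (FractionRing D) := .of_algebraMap_eq' rfl
  haveI : IsScalarTower A (integralClosure A (FractionRing A))
      (integralClosure D (FractionRing D)) :=
    .of_algebraMap_eq (fun a => by
      have h := RingHom.congr_fun (toB_comp A p D) a
      exact h.symm)
  haveI := isLocalization_K A p D
  exact IsLocalization.integralClosure (R := A) (S := FractionRing A)
    (Rf := D) (Sf := FractionRing D) p.primeCompl

end Loc

end Groth.Agent.Helper1.NU
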