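import Mathlib
import Groth.Prelude.Def_CAlg2
import Groth.Agent.Lib.Helper1.NU1
import Groth.Agent.Lib.Helper1.NU2

/-!
# Radiciality of the normalization of a domain and geometric unibranchness
-/

set_option autoImplicit false

namespace Groth.Agent.Helper1.NU

open IsLocalRing AlgebraicGeometry CategoryTheory

universe u

section Global

variable (A : Type u) [CommRing A] [IsDomain A]

/-- ring-level radiciality of `A → A'` -/
def RI : Prop := ∀ (Ω : Type u) [Field Ω] (φ ψ : integralClosure A (FractionRing A) →+* Ω),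
    φ.comp (algebraMap A _) = ψ.comp (algebraMap A _) → φ = ψ

theorem isGeomUnibranch_of_RI (h : RI A) (p : Ideal A) [p.IsPrime]
    (D : Type u) [CommRing D] [IsDomain D] [IsLocalRing D] [Algebra A D]
    [IsLocalization.AtPrime D p] :
    CAlg2.IsGeomUnibranch D := by
  rw [isGeomUnibranch_iff_of_isDomain]
  refine isLocalRing_and_PI_of_RI (D := D) (B := integralClosure D (FractionRing D)) ?_
  intro Ω _ φ ψ hφψ _
  letI := (toB A p D).toAlgebra
  haveI := isLocalization_toB A p D
  apply IsLocalization.ringHom_ext
    (Algebra.algebraMapSubmonoid (integralClosure A (FractionRing A)) p.primeCompl)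
  apply h Ω
  show (φ.comp (toB A p D)).comp (algebraMap A _) = (ψ.comp (toB A p D)).comp (algebraMap A _)
  rw [RingHom.comp_assoc, RingHom.comp_assoc, toB_comp, ← RingHom.comp_assoc,
    ← RingHom.comp_assoc, hφψ]

theorem isGeomUnibranch_atPrime_of_RI (h : RI A) (p : Ideal A) [p.IsPrime] :
    CAlg2.IsGeomUnibranch (Localization.AtPrime p) :=
  isGeomUnibranch_of_RI A h p (Localization.AtPrime p)

theorem eq_of_isGeomUnibranch (p : Ideal A) [p.IsPrime]
    (D : Type u) [CommRing D] [IsDomain D] [IsLocalRing D] [Algebra A D]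
    [IsLocalization.AtPrime D p] (h : CAlg2.IsGeomUnibranch D)
    (Ω : Type u) [Field Ω] (φ ψ : integralClosure A (FractionRing A) →+* Ω)
    (hφψ : φ.comp (algebraMap A _) = ψ.comp (algebraMap A _))
    (hp : p = RingHom.ker (φ.comp (algebraMap A _))) : φ = ψ := by
  obtain ⟨hloc, hPI⟩ := (isGeomUnibranch_iff_of_isDomain D).mp h
  haveI := hloc
  letI := (toB A p D).toAlgebra
  haveI := isLocalization_toB A p D
  have hu : ∀ (χ : integralClosure A (FractionRing A) →+* Ω),
      RingHom.ker (χ.comp (algebraMap A _)) = p →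
      ∀ y : Algebra.algebraMapSubmonoid (integralClosure A (FractionRing A)) p.primeCompl,
        IsUnit (χ y) := by
    rintro χ hχ ⟨_, s, hs, rfl⟩
    apply IsUnit.mk0
    intro h0
    apply hs
    rw [← hχ]
    exact h0
  let φB : integralClosure D (FractionRing D) →+* Ω :=
    IsLocalization.lift (hu φ hp.symm)
  let ψB : integralClosure D (FractionRing D) →+* Ω :=
    IsLocalization.lift (hu ψ (by rw [← hφψ]; exact hp.symm))
  have hφB : φB.comp (toB A p D) = φ := IsLocalization.lift_comp _
  have hψB : ψB.comp (toB A p D) = ψ := IsLocalization.lift_comp _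
  have hagree : φB.comp (algebraMap D _) = ψB.comp (algebraMap D _) := by
    apply IsLocalization.ringHom_ext p.primeCompl
    rw [RingHom.comp_assoc, RingHom.comp_assoc, ← toB_comp A p D, ← RingHom.comp_assoc,
      ← RingHom.comp_assoc, hφB, hψB, hφψ]
  have hker : RingHom.ker (φB.comp (algebraMap D (integralClosure D (FractionRing D)))) =
      maximalIdeal D := by
    have hP : (RingHom.ker (φB.comp
        (algebraMap D (integralClosure D (FractionRing D))))).IsPrime :=
      RingHom.ker_isPrime _
    have hcomap : (RingHom.ker (φB.comp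
        (algebraMap D (integralClosure D (FractionRing D))))).comap (algebraMap A D) = p := by
      rw [RingHom.comap_ker, RingHom.comp_assoc, ← toB_comp A p D, ← RingHom.comp_assoc, hφB,
        hp]
    rw [← IsLocalization.map_under p.primeCompl D
      (RingHom.ker (φB.comp (algebraMap D (integralClosure D (FractionRing D))))),
      Ideal.under_def, hcomap, IsLocalization.AtPrime.map_eq_maximalIdeal]
  have := eq_of_PI (hPI (maximalIdeal _)) φB ψB hagree hker
  rw [← hφB, ← hψB, this]

theorem RI_of_isGeomUnibranch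
    (h : ∀ (p : Ideal A) [p.IsPrime], CAlg2.IsGeomUnibranch (Localization.AtPrime p)) :
    RI A := by
  intro Ω _ φ ψ hφψ
  obtain ⟨p, hp⟩ : ∃ p : Ideal A, p = RingHom.ker (φ.comp (algebraMap A _)) := ⟨_, rfl⟩
  haveI : p.IsPrime := by rw [hp]; exact RingHom.ker_isPrime _
  exact eq_of_isGeomUnibranch A p (Localization.AtPrime p) (h p) Ω φ ψ hφψ hp

theorem universallyInjective_iff_RI :
    UniversallyInjective (Spec.map (CommRingCat.ofHom
      (algebraMap A (integralClosure A (FractionRing A))))) ↔ RI A := by
  have htfae := (tfae_universallyInjective (Spec.map (CommRingCat.ofHom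
      (algebraMap A (integralClosure A (FractionRing A)))))).out 0 1
  rw [htfae]
  constructor
  · intro h Ω _ φ ψ hφψ
    have h1 : Spec.map (CommRingCat.ofHom φ) = Spec.map (CommRingCat.ofHom ψ) := by
      apply h Ω
      show Spec.map (CommRingCat.ofHom φ) ≫ Spec.map (CommRingCat.ofHom _) =
        Spec.map (CommRingCat.ofHom ψ) ≫ Spec.map (CommRingCat.ofHom _)
      rw [← Spec.map_comp, ← Spec.map_comp, ← CommRingCat.ofHom_comp, ← CommRingCat.ofHom_comp,
        hφψ]
    have h2 := Spec.map_injective h1
    exact congrArg CommRingCat.Hom.hom h2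
  · intro h Ω _ g₁ g₂ hg
    obtain ⟨φ₁, rfl⟩ : ∃ φ, Spec.map φ = g₁ := ⟨_, Spec.map_preimage _⟩
    obtain ⟨φ₂, rfl⟩ : ∃ φ, Spec.map φ = g₂ := ⟨_, Spec.map_preimage _⟩
    have hg' : Spec.map (CommRingCat.ofHom (algebraMap A _) ≫ φ₁) =
        Spec.map (CommRingCat.ofHom (algebraMap A _) ≫ φ₂) := by
      rw [Spec.map_comp, Spec.map_comp]
      exact hg
    have h3 := Spec.map_injective hg'
    have h4 : φ₁.hom = φ₂.hom := by
      apply h Ω
      exact congrArg CommRingCat.Hom.hom h3
    rw [CommRingCat.hom_ext h4]

theorem main :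
    (UniversallyInjective (Spec.map (CommRingCat.ofHom
        (algebraMap A (integralClosure A (FractionRing A))))) ↔
      ∀ (p : Ideal A) [p.IsPrime], CAlg2.IsGeomUnibranch (Localization.AtPrime p)) ∧
    ((∀ (p : Ideal A) [p.IsPrime], CAlg2.IsGeomUnibranch (Localization.AtPrime p)) →
      IsHomeomorph (PrimeSpectrum.comap
        (algebraMap A (integralClosure A (FractionRing A))))) := by
  have h1 : UniversallyInjective (Spec.map (CommRingCat.ofHom
        (algebraMap A (integralClosure A (FractionRing A))))) ↔
      ∀ (p : Ideal A) [p.IsPrime], CAlg2.IsGeomUnibranch (Localization.AtPrime p) := by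
    rw [universallyInjective_iff_RI]
    exact ⟨fun h p _ => isGeomUnibranch_atPrime_of_RI A h p, RI_of_isGeomUnibranch A⟩
  refine ⟨h1, fun h => ?_⟩
  haveI := h1.mpr h
  rw [isHomeomorph_iff_continuous_isClosedMap_bijective]
  refine ⟨PrimeSpectrum.continuous_comap _,
    PrimeSpectrum.isClosedMap_comap_of_isIntegral _
      (algebraMap_isIntegral_iff.mpr inferInstance), ?_,
    Algebra.IsIntegral.comap_surjective A (integralClosure A (FractionRing A))⟩
  exact (Spec.map (CommRingCat.ofHom
    (algebraMap A (integralClosure A (FractionRing A))))).injective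

end Global

end Groth.Agent.Helper1.NU
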