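import Mathlib
import Groth.Prelude.Def_Curv2
import Groth.Prelude.Def_Flat
import Groth.Prelude.Def_CAlg2
import Groth.Agent.Lib.Helper11.UnivHomeo
import Groth.Agent.Lib.Helper1.NU3
import Groth.Agent.Lib.Helper1.NAff2

/-!
# The normalization of a geometrically unibranch integral scheme is a universal homeomorphism
-/

set_option autoImplicit false

namespace Groth.Agent.Helper1.NAff

open CategoryTheory AlgebraicGeometry TopologicalSpace

universe u

theorem radicial_of_RI (A L : Type u) [CommRing A] [IsDomain A] [CommRing L] [Algebra A L]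
    [IsFractionRing A L] (h : NU.RI A) :
    Groth.Agent.Helper11.UH.Radicial (algebraMap A (integralClosure A L)) := by
  intro K _ g₁ g₂ hg
  let e : integralClosure A (FractionRing A) ≃ₐ[A] integralClosure A L :=
    (FractionRing.algEquiv A L).mapIntegralClosure
  have h1 : (g₁.comp e.toRingEquiv.toRingHom) = (g₂.comp e.toRingEquiv.toRingHom) := by
    apply h K
    ext a
    show g₁ (e (algebraMap A _ a)) = g₂ (e (algebraMap A _ a))
    rw [e.commutes]
    exact RingHom.congr_fun hg a
  ext b
  obtain ⟨b', rfl⟩ := e.surjective b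
  exact RingHom.congr_fun h1 b'

theorem RI_of_forall_exists (A : Type u) [CommRing A] [IsDomain A]
    (h : ∀ (p : Ideal A) [p.IsPrime], ∃ (D : Type u) (_ : CommRing D) (_ : IsDomain D)
      (_ : IsLocalRing D) (_ : Algebra A D) (_ : IsLocalization.AtPrime D p),
      CAlg2.IsGeomUnibranch D) : NU.RI A := by
  intro Ω _ φ ψ hφψ
  obtain ⟨p, hp⟩ : ∃ p : Ideal A, p = RingHom.ker (φ.comp (algebraMap A _)) := ⟨_, rfl⟩
  haveI : p.IsPrime := by rw [hp]; exact RingHom.ker_isPrime _
  obtain ⟨D, _, _, _, _, _, hD⟩ := h p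
  exact NU.eq_of_isGeomUnibranch A p D hD Ω φ ψ hφψ hp

theorem isUnivHomeo_piece (X : Scheme.{u}) [IsIntegral X]
    (hX : ∀ x : X, CAlg2.IsGeomUnibranch (X.presheaf.stalk x)) (U : X.affineOpens) :
    FlatMor.IsUnivHomeo (Spec.map
      ((X.fromSpecStalk (genericPoint X)).normalizationDiagramMap.app (.op U.1))) := by
  rcases isEmpty_or_nonempty U.1 with hemp | hne
  · have hbot : U.1 = ⊥ := by
      rw [eq_bot_iff]
      intro x hx
      exact (hemp.false ⟨x, hx⟩).elim
    haveI : Subsingleton Γ(X, U.1) := by rw [hbot]; infer_instance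
    haveI : IsEmpty (Spec Γ(X, U.1)) := inferInstanceAs (IsEmpty (PrimeSpectrum Γ(X, U.1)))
    haveI : IsIso (Spec.map
      ((X.fromSpecStalk (genericPoint X)).normalizationDiagramMap.app (.op U.1))) :=
      isIso_of_isEmpty _
    rw [Groth.Agent.Helper11.UH.isUnivHomeo_iff]
    exact ⟨inferInstance, inferInstance, inferInstance⟩
  · letI := ((X.fromSpecStalk (genericPoint X)).app U.1).hom.toAlgebra
    haveI := isFractionRing_app X U.1 U.2
    haveI : IsDomain Γ(X, U.1) := inferInstance
    show FlatMor.IsUnivHomeo (Spec.map (CommRingCat.ofHom (algebraMap Γ(X, U.1)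
      (integralClosure Γ(X, U.1) Γ(Spec (X.presheaf.stalk (genericPoint X)),
        (X.fromSpecStalk (genericPoint X)) ⁻¹ᵁ U.1)))))
    rw [Groth.Agent.Helper11.UH.isUnivHomeo_spec_iff]
    refine ⟨algebraMap_isIntegral_iff.mpr inferInstance, ?_,
      radicial_of_RI _ _ (RI_of_forall_exists _ ?_)⟩
    · haveI : FaithfulSMul Γ(X, U.1) (integralClosure Γ(X, U.1)
          Γ(Spec (X.presheaf.stalk (genericPoint X)),
            (X.fromSpecStalk (genericPoint X)) ⁻¹ᵁ U.1)) :=
        (faithfulSMul_iff_algebraMap_injective _ _).mpr (fun a b h =>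
          IsFractionRing.injective Γ(X, U.1) Γ(Spec (X.presheaf.stalk (genericPoint X)),
            (X.fromSpecStalk (genericPoint X)) ⁻¹ᵁ U.1) (congrArg Subtype.val h))
      exact Algebra.IsIntegral.comap_surjective _ _
    · intro p hp
      have hy : U.2.fromSpec ⟨p, hp⟩ ∈ U.1 := (U.2.isoSpec.inv _).2
      exact ⟨X.presheaf.stalk (U.2.fromSpec ⟨p, hp⟩), inferInstance, inferInstance,
        inferInstance,
        TopCat.Presheaf.algebra_section_stalk X.presheaf ⟨_, hy⟩,
        U.2.isLocalization_stalk' ⟨p, hp⟩ hy, hX _⟩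

theorem isUnivHomeo_normalizationι (X : Scheme.{u}) [IsIntegral X]
    [QuasiCompact (X.fromSpecStalk (genericPoint X))]
    [QuasiSeparated (X.fromSpecStalk (genericPoint X))]
    (hX : ∀ x : X, CAlg2.IsGeomUnibranch (X.presheaf.stalk x)) :
    FlatMor.IsUnivHomeo (Curv2.normalizationι X) := by
  show FlatMor.IsUnivHomeo (X.fromSpecStalk (genericPoint X)).fromNormalization
  rw [Groth.Agent.Helper11.UH.isUnivHomeo_iff]
  have hpiece := fun U =>
    (Groth.Agent.Helper11.UH.isUnivHomeo_iff _).mp (isUnivHomeo_piece X hX U)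
  refine ⟨inferInstance, ?_, ?_⟩
  · exact (fromNormalization_iff _ @UniversallyInjective).mpr fun U => (hpiece U).2.1
  · exact (fromNormalization_iff _ @Surjective).mpr fun U => (hpiece U).2.2

end Groth.Agent.Helper1.NAff
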