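import Mathlib
import Groth.Agent.Lib.Helper1.NAff1

/-!
# Sections of `Spec L` over the preimage of an open, for `Spec L ⟶ Spec K(X) ⟶ X`
-/

set_option autoImplicit false

namespace Groth.Agent.Helper1.NAff

open CategoryTheory AlgebraicGeometry TopologicalSpace

universe u

theorem exists_algEquiv_app (X : Scheme.{u}) [IsIntegral X] (L : Type u) [Field L]
    (φ : X.functionField →+* L) (U : X.Opens) [Nonempty U] :
    letI := ((Spec.map (CommRingCat.ofHom φ) ≫ X.fromSpecStalk (genericPoint X)).app U).hom.toAlgebra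
    letI : Algebra Γ(X, U) L := (φ.comp (algebraMap Γ(X, U) X.functionField)).toAlgebra
    Nonempty (L ≃ₐ[Γ(X, U)] Γ(Spec (CommRingCat.of L),
      (Spec.map (CommRingCat.ofHom φ) ≫ X.fromSpecStalk (genericPoint X)) ⁻¹ᵁ U)) := by
  letI := ((Spec.map (CommRingCat.ofHom φ) ≫ X.fromSpecStalk (genericPoint X)).app U).hom.toAlgebra
  letI : Algebra Γ(X, U) L := (φ.comp (algebraMap Γ(X, U) X.functionField)).toAlgebra
  have hη : genericPoint X ∈ U :=
    ((genericPoint_spec X).mem_open_set_iff U.isOpen).mpr (by simpa using ‹Nonempty U›)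
  have hcp : (Spec.map (CommRingCat.ofHom φ) ≫ X.fromSpecStalk (genericPoint X))
      (IsLocalRing.closedPoint (CommRingCat.of L)) = genericPoint X := by
    rw [Scheme.Hom.comp_apply, Spec_closedPoint, Scheme.fromSpecStalk_closedPoint]
  have hU : (Spec.map (CommRingCat.ofHom φ) ≫ X.fromSpecStalk (genericPoint X))
      (IsLocalRing.closedPoint (CommRingCat.of L)) ∈ U := by rw [hcp]; exact hη
  have h1 := Scheme.germ_stalkClosedPointTo_Spec_fromSpecStalk (X := X)
    (x := genericPoint X) (CommRingCat.ofHom φ) U hU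
  have h2 := Scheme.germ_stalkClosedPointTo
    (Spec.map (CommRingCat.ofHom φ) ≫ X.fromSpecStalk (genericPoint X)) U hU
  have h12 := h1.symm.trans h2
  let i := (Spec (CommRingCat.of L)).presheaf.mapIso (eqToIso
    (Scheme.preimage_eq_top_of_closedPoint_mem
      (Spec.map (CommRingCat.ofHom φ) ≫ X.fromSpecStalk (genericPoint X)) hU).symm).op ≪≫
      Scheme.ΓSpecIso (CommRingCat.of L)
  refine ⟨{ i.symm.commRingCatIsoToRingEquiv with
    commutes' := fun a => ?_ }⟩
  have h3 : (X.presheaf.germ U (genericPoint X) hη ≫ CommRingCat.ofHom φ) ≫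
      i.inv = (Spec.map (CommRingCat.ofHom φ) ≫ X.fromSpecStalk (genericPoint X)).app U := by
    rw [h12, Category.assoc, Iso.hom_inv_id, Category.comp_id]
  exact congrArg (fun ψ => ψ.hom a) h3

end Groth.Agent.Helper1.NAff
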