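import Mathlib
import Groth.Prelude.Def_Flat
import Groth.Prelude.Def_CAlg2
import Groth.Prelude.Def_Pi1
import Groth.Agent.Lib.Helper11.UnivHomeo
import Groth.Agent.Lib.Helper1.NAff3
import Groth.Agent.Lib.Helper1.NAff6

/-!
# Normalization in a finite separable / purely inseparable extension of the function field
-/

set_option autoImplicit false

namespace Groth.Agent.Helper1.NAff

open CategoryTheory AlgebraicGeometry TopologicalSpace

universe u

theorem isIntegrallyClosed_sections (X : Scheme.{u}) [IsIntegral X]
    (hX : ∀ x : X, IsIntegrallyClosed (X.presheaf.stalk x)) (U : X.Opens) (hU : IsAffineOpen U)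
    [Nonempty U] : IsIntegrallyClosed Γ(X, U) := by
  exact @IsIntegrallyClosed.of_isLocalization_maximal Γ(X, U) _
    (fun P hP => X.presheaf.stalk (hU.fromSpec ⟨P, hP.isPrime⟩)) (fun P hP => inferInstance)
    (fun P hP => TopCat.Presheaf.algebra_section_stalk X.presheaf ⟨_, (hU.isoSpec.inv _).2⟩)
    (fun P hP => hU.isLocalization_stalk' ⟨P, hP.isPrime⟩ (hU.isoSpec.inv _).2) _
    (fun P _ => hX _)

theorem isIso_piece_of_isEmpty {X Y : Scheme.{u}} (f : X ⟶ Y) (U : Y.Opens) (hemp : IsEmpty U) :
    IsIso (Spec.map (f.normalizationDiagramMap.app (.op U))) := by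
  have hbot : U = ⊥ := by
    rw [eq_bot_iff]
    intro x hx
    exact (hemp.false ⟨x, hx⟩).elim
  haveI : Subsingleton Γ(Y, U) := by rw [hbot]; infer_instance
  haveI : IsEmpty (Spec Γ(Y, U)) := inferInstanceAs (IsEmpty (PrimeSpectrum Γ(Y, U)))
  exact isIso_of_isEmpty _

/-- S18426 -/
theorem isFinite_fromNormalization_of_separable {X : Scheme.{u}} [IsIntegral X] [IsNoetherian X]
    (hX : Pi1.IsNormalScheme X) (L : Type u) [Field L] [Algebra X.functionField L]
    [FiniteDimensional X.functionField L] [Algebra.IsSeparable X.functionField L]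
    [QuasiCompact (Spec.map (CommRingCat.ofHom (algebraMap X.functionField L)) ≫
      X.fromSpecStalk (genericPoint X))]
    [QuasiSeparated (Spec.map (CommRingCat.ofHom (algebraMap X.functionField L)) ≫
      X.fromSpecStalk (genericPoint X))] :
    IsFinite (Spec.map (CommRingCat.ofHom (algebraMap X.functionField L)) ≫
      X.fromSpecStalk (genericPoint X)).fromNormalization := by
  rw [fromNormalization_iff _ @IsFinite]
  intro U
  rcases isEmpty_or_nonempty U.1 with hemp | hne
  · haveI := isIso_piece_of_isEmpty (Spec.map (CommRingCat.ofHom (algebraMap X.functionField L)) ≫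
      X.fromSpecStalk (genericPoint X)) U.1 hemp
    infer_instance
  · letI := ((Spec.map (CommRingCat.ofHom (algebraMap X.functionField L)) ≫
      X.fromSpecStalk (genericPoint X)).app U.1).hom.toAlgebra
    letI algL : Algebra Γ(X, U.1) L :=
      ((algebraMap X.functionField L).comp (algebraMap Γ(X, U.1) X.functionField)).toAlgebra
    haveI : IsScalarTower Γ(X, U.1) X.functionField L := .of_algebraMap_eq' rfl
    haveI := functionField_isFractionRing_of_isAffineOpen X U.1 U.2
    haveI : IsIntegrallyClosed Γ(X, U.1) :=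
      isIntegrallyClosed_sections X (fun x => (hX x).2) U.1 U.2
    haveI : IsNoetherianRing Γ(X, U.1) := IsLocallyNoetherian.component_noetherian U
    haveI : Module.Finite Γ(X, U.1) (integralClosure Γ(X, U.1) L) :=
      IsIntegralClosure.finite Γ(X, U.1) X.functionField L _
    obtain ⟨e⟩ := exists_algEquiv_app X L (algebraMap X.functionField L) U.1
    haveI : Module.Finite Γ(X, U.1) (integralClosure Γ(X, U.1)
        Γ(Spec (CommRingCat.of L), (Spec.map (CommRingCat.ofHom (algebraMap X.functionField L)) ≫
          X.fromSpecStalk (genericPoint X)) ⁻¹ᵁ U.1)) :=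
      Module.Finite.equiv (e.mapIntegralClosure).toLinearEquiv
    show IsFinite (Spec.map (CommRingCat.ofHom (algebraMap Γ(X, U.1)
      (integralClosure Γ(X, U.1) Γ(Spec (CommRingCat.of L),
        (Spec.map (CommRingCat.ofHom (algebraMap X.functionField L)) ≫
          X.fromSpecStalk (genericPoint X)) ⁻¹ᵁ U.1)))))
    rw [IsFinite.SpecMap_iff]
    exact RingHom.finite_algebraMap.mpr inferInstance

theorem radicial_of_algEquiv {A C C' : Type u} [CommRing A] [CommRing C] [CommRing C']
    [Algebra A C] [Algebra A C'] (e : C ≃ₐ[A] C')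
    (h : Groth.Agent.Helper11.UH.Radicial (algebraMap A C)) :
    Groth.Agent.Helper11.UH.Radicial (algebraMap A C') := by
  intro K _ g₁ g₂ hg
  have h1 : (g₁.comp e.toRingEquiv.toRingHom) = (g₂.comp e.toRingEquiv.toRingHom) := by
    apply h K
    ext a
    show g₁ (e (algebraMap A _ a)) = g₂ (e (algebraMap A _ a))
    rw [e.commutes]
    exact RingHom.congr_fun hg a
  ext b
  obtain ⟨b', rfl⟩ := e.surjective b
  exact RingHom.congr_fun h1 b'

theorem radicial_of_purelyInseparable (A K L : Type u) [CommRing A] [IsDomain A] [Field K]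
    [Field L] [Algebra A K] [IsFractionRing A K] [Algebra K L] [Algebra A L]
    [IsScalarTower A K L] [IsPurelyInseparable K L] (h : NU.RI A) :
    Groth.Agent.Helper11.UH.Radicial (algebraMap A (integralClosure A L)) := by
  intro Ω _ g₁ g₂ hg
  let j : integralClosure A K →ₐ[A] integralClosure A L :=
    (IsScalarTower.toAlgHom A K L).mapIntegralClosure
  have hj : g₁.comp j.toRingHom = g₂.comp j.toRingHom := by
    apply radicial_of_RI A K h Ω
    ext a
    show g₁ (j (algebraMap A _ a)) = g₂ (j (algebraMap A _ a))
    rw [j.commutes]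
    exact RingHom.congr_fun hg a
  obtain ⟨q, hq⟩ := ExpChar.exists K
  ext c
  obtain ⟨n, k, hk⟩ := IsPurelyInseparable.pow_mem K q (c : L)
  have hkint : IsIntegral A k := by
    have h1 : IsIntegral A ((c : L) ^ q ^ n) := (c.2 : IsIntegral A (c : L)).pow _
    rw [← hk] at h1
    exact (isIntegral_algHom_iff (IsScalarTower.toAlgHom A K L)
      (algebraMap K L).injective).mp h1
  have hjk : j ⟨k, hkint⟩ = c ^ q ^ n := Subtype.ext hk
  have hpow : g₁ c ^ q ^ n = g₂ c ^ q ^ n := by
    rw [← map_pow, ← map_pow, ← hjk]
    exact RingHom.congr_fun hj ⟨k, hkint⟩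
  cases hq with
  | zero =>
    rw [one_pow, pow_one, pow_one] at hpow
    exact hpow
  | prime hprime =>
    have hqA : ((q : ℕ) : A) = 0 := by
      apply IsFractionRing.injective A K
      rw [map_natCast, map_zero]
      exact CharP.cast_eq_zero K q
    have hqΩ : ((q : ℕ) : Ω) = 0 := by
      have := congrArg (fun a => g₁ (algebraMap A (integralClosure A L) a)) hqA
      simpa using this
    haveI : CharP Ω q := (CharP.charP_iff_prime_eq_zero hprime).mpr hqΩ
    haveI : ExpChar Ω q := ExpChar.prime hprime
    apply iterateFrobenius_inj Ω q n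
    rw [iterateFrobenius_def, iterateFrobenius_def]
    exact hpow

/-- S13836 (no Noetherian, Nagata or finiteness hypotheses needed) -/
theorem isUnivHomeo_fromNormalization_of_purelyInseparable (Y : Scheme.{u}) [IsIntegral Y]
    (hY : ∀ y : Y, CAlg2.IsGeomUnibranch (Y.presheaf.stalk y))
    (L : Type u) [Field L] [Algebra Y.functionField L] [IsPurelyInseparable Y.functionField L]
    [QuasiCompact (Spec.map (CommRingCat.ofHom (algebraMap Y.functionField L)) ≫
      Y.fromSpecStalk (genericPoint Y))]
    [QuasiSeparated (Spec.map (CommRingCat.ofHom (algebraMap Y.functionField L)) ≫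
      Y.fromSpecStalk (genericPoint Y))] :
    FlatMor.IsUnivHomeo (Spec.map (CommRingCat.ofHom (algebraMap Y.functionField L)) ≫
      Y.fromSpecStalk (genericPoint Y)).fromNormalization := by
  have hpiece : ∀ U : Y.affineOpens, FlatMor.IsUnivHomeo (Spec.map
      ((Spec.map (CommRingCat.ofHom (algebraMap Y.functionField L)) ≫
        Y.fromSpecStalk (genericPoint Y)).normalizationDiagramMap.app (.op U.1))) := by
    intro U
    rcases isEmpty_or_nonempty U.1 with hemp | hne
    · haveI := isIso_piece_of_isEmpty
        (Spec.map (CommRingCat.ofHom (algebraMap Y.functionField L)) ≫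
          Y.fromSpecStalk (genericPoint Y)) U.1 hemp
      rw [Groth.Agent.Helper11.UH.isUnivHomeo_iff]
      exact ⟨inferInstance, inferInstance, inferInstance⟩
    · letI := ((Spec.map (CommRingCat.ofHom (algebraMap Y.functionField L)) ≫
        Y.fromSpecStalk (genericPoint Y)).app U.1).hom.toAlgebra
      letI algL : Algebra Γ(Y, U.1) L :=
        ((algebraMap Y.functionField L).comp (algebraMap Γ(Y, U.1) Y.functionField)).toAlgebra
      haveI : IsScalarTower Γ(Y, U.1) Y.functionField L := .of_algebraMap_eq' rfl
      haveI := functionField_isFractionRing_of_isAffineOpen Y U.1 U.2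
      haveI : IsDomain Γ(Y, U.1) := inferInstance
      obtain ⟨e⟩ := exists_algEquiv_app Y L (algebraMap Y.functionField L) U.1
      have hRI : NU.RI Γ(Y, U.1) := by
        apply RI_of_forall_exists
        intro p hp
        have hy : U.2.fromSpec ⟨p, hp⟩ ∈ U.1 := (U.2.isoSpec.inv _).2
        exact ⟨Y.presheaf.stalk (U.2.fromSpec ⟨p, hp⟩), inferInstance, inferInstance,
          inferInstance,
          TopCat.Presheaf.algebra_section_stalk Y.presheaf ⟨_, hy⟩,
          U.2.isLocalization_stalk' ⟨p, hp⟩ hy, hY _⟩
      have hrad := radicial_of_algEquiv (e.mapIntegralClosure)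
        (radicial_of_purelyInseparable Γ(Y, U.1) Y.functionField L hRI)
      have hinjL : Function.Injective (algebraMap Γ(Y, U.1) L) :=
        (algebraMap Y.functionField L).injective.comp
          (IsFractionRing.injective Γ(Y, U.1) Y.functionField)
      show FlatMor.IsUnivHomeo (Spec.map (CommRingCat.ofHom (algebraMap Γ(Y, U.1)
        (integralClosure Γ(Y, U.1) Γ(Spec (CommRingCat.of L),
          (Spec.map (CommRingCat.ofHom (algebraMap Y.functionField L)) ≫
            Y.fromSpecStalk (genericPoint Y)) ⁻¹ᵁ U.1)))))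
      rw [Groth.Agent.Helper11.UH.isUnivHomeo_spec_iff]
      refine ⟨algebraMap_isIntegral_iff.mpr inferInstance, ?_, hrad⟩
      haveI : FaithfulSMul Γ(Y, U.1) (integralClosure Γ(Y, U.1)
          Γ(Spec (CommRingCat.of L),
            (Spec.map (CommRingCat.ofHom (algebraMap Y.functionField L)) ≫
              Y.fromSpecStalk (genericPoint Y)) ⁻¹ᵁ U.1)) :=
        (faithfulSMul_iff_algebraMap_injective _ _).mpr (fun a b hab => by
          apply hinjL
          apply e.injective
          rw [e.commutes, e.commutes]
          exact congrArg Subtype.val hab)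
      exact Algebra.IsIntegral.comap_surjective _ _
  rw [Groth.Agent.Helper11.UH.isUnivHomeo_iff]
  have hp' := fun U => (Groth.Agent.Helper11.UH.isUnivHomeo_iff _).mp (hpiece U)
  refine ⟨inferInstance, ?_, ?_⟩
  · exact (fromNormalization_iff _ @UniversallyInjective).mpr fun U => (hp' U).2.1
  · exact (fromNormalization_iff _ @Surjective).mpr fun U => (hp' U).2.2

end Groth.Agent.Helper1.NAff
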