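import Mathlib
import Groth.Prelude.Def_CAlg2
import Groth.Prelude.Def_Pi1
import Groth.Agent.Lib.Helper1.NM2
import Groth.Agent.Lib.Helper1.UB4
import Groth.Agent.Lib.Helper1.SHznUniv
import Groth.Agent.Lib.Helper1.GU7
import Groth.Agent.Lib.Helper1.NAff6

/-!
# Normalization in a field extension: generic points; unramified implies étale over a normal base
-/

set_option autoImplicit false

namespace Groth.Agent.Helper1.NAff

open CategoryTheory AlgebraicGeometry TopologicalSpace

universe u

theorem isGeomUnibranch_of_isIntegrallyClosed (D : Type u) [CommRing D] [IsLocalRing D]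
    [IsDomain D] [IsIntegrallyClosed D] : CAlg2.IsGeomUnibranch D := by
  haveI := SHzn.isStrictHenselization D
  have h := (HFlat.isNormal_iff_of_isStrictHenselization D (SHzn.S D)).mp
    ⟨inferInstance, inferInstance⟩
  haveI := h.1
  exact ((UB.reduced_geomUnibranch_iff D (SHzn.S D)).mpr inferInstance).2

section Gen

variable (X : Scheme.{u}) [IsIntegral X] (L : Type u) [Field L] (φ : X.functionField →+* L)
  [QuasiCompact (Spec.map (CommRingCat.ofHom φ) ≫ X.fromSpecStalk (genericPoint X))]
  [QuasiSeparated (Spec.map (CommRingCat.ofHom φ) ≫ X.fromSpecStalk (genericPoint X))]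

theorem apply_closedPoint :
    (Spec.map (CommRingCat.ofHom φ) ≫ X.fromSpecStalk (genericPoint X))
      (IsLocalRing.closedPoint (CommRingCat.of L)) = genericPoint X := by
  rw [Scheme.Hom.comp_apply, Spec_closedPoint, Scheme.fromSpecStalk_closedPoint]

theorem toNormalization_closedPoint :
    (Spec.map (CommRingCat.ofHom φ) ≫ X.fromSpecStalk (genericPoint X)).toNormalization
      (IsLocalRing.closedPoint (CommRingCat.of L)) =
      genericPoint (Spec.map (CommRingCat.ofHom φ) ≫
        X.fromSpecStalk (genericPoint X)).normalization := by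
  obtain ⟨cp, hcp⟩ : ∃ cp : ↥(Spec (CommRingCat.of L)),
      cp = IsLocalRing.closedPoint (CommRingCat.of L) := ⟨_, rfl⟩
  rw [← hcp]
  have hdom : DenseRange (Spec.map (CommRingCat.ofHom φ) ≫
      X.fromSpecStalk (genericPoint X)).toNormalization :=
    (Spec.map (CommRingCat.ofHom φ) ≫ X.fromSpecStalk (genericPoint X)).toNormalization.denseRange
  haveI : Subsingleton (Spec (CommRingCat.of L)) :=
    inferInstanceAs (Subsingleton (PrimeSpectrum L))
  have hrange : Set.range (Spec.map (CommRingCat.ofHom φ) ≫
      X.fromSpecStalk (genericPoint X)).toNormalization =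
      {(Spec.map (CommRingCat.ofHom φ) ≫
        X.fromSpecStalk (genericPoint X)).toNormalization cp} := by
    ext y
    constructor
    · rintro ⟨s, rfl⟩
      rw [Set.mem_singleton_iff]
      exact congrArg _ (Subsingleton.elim _ _)
    · rintro rfl
      exact Set.mem_range_self _
  have hcl := hdom.closure_range
  rw [hrange] at hcl
  symm
  exact (genericPoint_spec (Spec.map (CommRingCat.ofHom φ) ≫
    X.fromSpecStalk (genericPoint X)).normalization).eq hcl

theorem fromNormalization_genericPoint :
    (Spec.map (CommRingCat.ofHom φ) ≫ X.fromSpecStalk (genericPoint X)).fromNormalization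
      (genericPoint (Spec.map (CommRingCat.ofHom φ) ≫
        X.fromSpecStalk (genericPoint X)).normalization) = genericPoint X := by
  rw [← toNormalization_closedPoint X L φ, ← Scheme.Hom.comp_apply,
    Scheme.Hom.toNormalization_fromNormalization, apply_closedPoint]

/-- S0288 -/
theorem etale_fromNormalization_of_unramified (hX : Pi1.IsNormalScheme X)
    [FormallyUnramified (Spec.map (CommRingCat.ofHom φ) ≫
      X.fromSpecStalk (genericPoint X)).fromNormalization]
    [LocallyOfFiniteType (Spec.map (CommRingCat.ofHom φ) ≫
      X.fromSpecStalk (genericPoint X)).fromNormalization] :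
    Etale (Spec.map (CommRingCat.ofHom φ) ≫
      X.fromSpecStalk (genericPoint X)).fromNormalization ∧
    IsFinite (Spec.map (CommRingCat.ofHom φ) ≫
      X.fromSpecStalk (genericPoint X)).fromNormalization := by
  refine ⟨?_, (IsFinite.iff_isIntegralHom_and_locallyOfFiniteType _).mpr
    ⟨inferInstance, inferInstance⟩⟩
  have hall : ∀ z : (Spec.map (CommRingCat.ofHom φ) ≫
      X.fromSpecStalk (genericPoint X)).normalization,
      ∃ U : (Spec.map (CommRingCat.ofHom φ) ≫
        X.fromSpecStalk (genericPoint X)).normalization.Opens, z ∈ U ∧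
        Etale (U.ι ≫ (Spec.map (CommRingCat.ofHom φ) ≫
          X.fromSpecStalk (genericPoint X)).fromNormalization) := by
    intro z
    haveI := (hX ((Spec.map (CommRingCat.ofHom φ) ≫
      X.fromSpecStalk (genericPoint X)).fromNormalization z)).2
    apply GU.exists_etale_nhd_of_unrAt _ z (isGeomUnibranch_of_isIntegrallyClosed _)
    · exact ⟨genericPoint _, genericPoint_specializes z, fromNormalization_genericPoint X L φ⟩
    · exact ⟨⊤, trivial, inferInstance⟩
  choose U hxU hU using hall
  have hcov : IsOpenCover U := by
    rw [IsOpenCover, eq_top_iff]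
    intro x _
    exact Opens.mem_iSup.mpr ⟨x, hxU x⟩
  exact IsZariskiLocalAtSource.of_openCover (P := @Etale)
    (Scheme.openCoverOfIsOpenCover _ U hcov) (fun x => hU x)

end Gen

end Groth.Agent.Helper1.NAff
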