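import Mathlib
import Groth.Prelude.Def_Pi1
import Groth.Agent.Lib.Helper1.NAff8

/-!
# Normalization of an integral scheme in an arbitrary field extension: normality, generic fibre
-/

set_option autoImplicit false

namespace Groth.Agent.Helper1.NAff

open CategoryTheory AlgebraicGeometry TopologicalSpace

universe u

theorem isIntegrallyClosed_integralClosure (A L : Type*) [CommRing A] [Field L] [Algebra A L] :
    IsIntegrallyClosed (integralClosure A L) := by
  have hinj : Function.Injective (algebraMap (integralClosure A L) L) := Subtype.val_injective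
  rw [isIntegrallyClosed_iff (FractionRing (integralClosure A L))]
  intro x hx
  have h1 : IsIntegral (integralClosure A L) (IsFractionRing.lift hinj x) := by
    refine IsIntegral.map_of_comp_eq (RingHom.id _) (IsFractionRing.lift hinj) ?_ hx
    ext c
    simp
  have h2 : IsIntegral A (IsFractionRing.lift hinj x) := isIntegral_trans (R := A) _ h1
  refine ⟨⟨IsFractionRing.lift hinj x, h2⟩, ?_⟩
  apply (IsFractionRing.lift hinj).injective
  rw [IsFractionRing.lift_algebraMap]
  rfl

theorem height_le_height_comap_of_isIntegral {A B : Type*} [CommRing A] [CommRing B]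
    [Algebra A B] [Algebra.IsIntegral A B] (Q : PrimeSpectrum B) :
    Q.asIdeal.height ≤ (PrimeSpectrum.comap (algebraMap A B) Q).asIdeal.height := by
  rw [PrimeSpectrum.height_eq_orderHeight, PrimeSpectrum.height_eq_orderHeight]
  apply Order.height_le_height_apply_of_strictMono
  intro P P' hPP'
  exact Ideal.IsIntegral.comap_lt_comap (R := A) hPP'

section Gen

variable (X : Scheme.{u}) [IsIntegral X] (L : Type u) [Field L] (φ : X.functionField →+* L)
  [QuasiCompact (Spec.map (CommRingCat.ofHom φ) ≫ X.fromSpecStalk (genericPoint X))]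
  [QuasiSeparated (Spec.map (CommRingCat.ofHom φ) ≫ X.fromSpecStalk (genericPoint X))]

theorem isIntegrallyClosed_piece_gen (U : X.Opens) [Nonempty U] :
    letI := ((Spec.map (CommRingCat.ofHom φ) ≫ X.fromSpecStalk (genericPoint X)).app U).hom.toAlgebra
    IsIntegrallyClosed (integralClosure Γ(X, U) Γ(Spec (CommRingCat.of L),
      (Spec.map (CommRingCat.ofHom φ) ≫ X.fromSpecStalk (genericPoint X)) ⁻¹ᵁ U)) := by
  letI := ((Spec.map (CommRingCat.ofHom φ) ≫ X.fromSpecStalk (genericPoint X)).app U).hom.toAlgebra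
  letI : Algebra Γ(X, U) L := (φ.comp (algebraMap Γ(X, U) X.functionField)).toAlgebra
  obtain ⟨e⟩ := exists_algEquiv_app X L φ U
  haveI := isIntegrallyClosed_integralClosure Γ(X, U) L
  exact IsIntegrallyClosed.of_equiv (e.mapIntegralClosure).toRingEquiv

theorem isNormalScheme_normalization_gen :
    Pi1.IsNormalScheme (Spec.map (CommRingCat.ofHom φ) ≫
      X.fromSpecStalk (genericPoint X)).normalization := by
  intro z
  refine ⟨inferInstance, ?_⟩
  obtain ⟨_, ⟨U, hU, rfl⟩, hxU, -⟩ := X.isBasis_affineOpens.exists_subset_of_mem_open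
    (Set.mem_univ ((Spec.map (CommRingCat.ofHom φ) ≫
      X.fromSpecStalk (genericPoint X)).fromNormalization z)) isOpen_univ
  haveI : Nonempty U := ⟨⟨_, hxU⟩⟩
  have hW : IsAffineOpen ((Spec.map (CommRingCat.ofHom φ) ≫
      X.fromSpecStalk (genericPoint X)).fromNormalization ⁻¹ᵁ U) :=
    hU.preimage (Spec.map (CommRingCat.ofHom φ) ≫
      X.fromSpecStalk (genericPoint X)).fromNormalization
  have hz : z ∈ (Spec.map (CommRingCat.ofHom φ) ≫
      X.fromSpecStalk (genericPoint X)).fromNormalization ⁻¹ᵁ U := hxU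
  haveI hdomW : IsDomain Γ((Spec.map (CommRingCat.ofHom φ) ≫
      X.fromSpecStalk (genericPoint X)).normalization,
      (Spec.map (CommRingCat.ofHom φ) ≫
        X.fromSpecStalk (genericPoint X)).fromNormalization ⁻¹ᵁ U) :=
    @IsIntegral.component_integral _ _
      ((Spec.map (CommRingCat.ofHom φ) ≫
        X.fromSpecStalk (genericPoint X)).fromNormalization ⁻¹ᵁ U) ⟨⟨z, hz⟩⟩
  letI := ((Spec.map (CommRingCat.ofHom φ) ≫
      X.fromSpecStalk (genericPoint X)).app U).hom.toAlgebra
  haveI := isIntegrallyClosed_piece_gen X L φ U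
  haveI : IsIntegrallyClosed Γ((Spec.map (CommRingCat.ofHom φ) ≫
      X.fromSpecStalk (genericPoint X)).normalization,
      (Spec.map (CommRingCat.ofHom φ) ≫
        X.fromSpecStalk (genericPoint X)).fromNormalization ⁻¹ᵁ U) :=
    IsIntegrallyClosed.of_equiv
      ((Spec.map (CommRingCat.ofHom φ) ≫
        X.fromSpecStalk (genericPoint X)).normalizationObjIso hU).symm.commRingCatIsoToRingEquiv
  letI := ((Spec.map (CommRingCat.ofHom φ) ≫
      X.fromSpecStalk (genericPoint X)).normalization).presheaf.algebra_section_stalk ⟨z, hz⟩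
  haveI := hW.isLocalization_stalk ⟨z, hz⟩
  exact isIntegrallyClosed_of_isLocalization _ (hW.primeIdealOf ⟨z, hz⟩).asIdeal.primeCompl
    (Ideal.primeCompl_le_nonZeroDivisors _)

/-- the fibre of the normalization over the generic point is the generic point -/
theorem eq_genericPoint_of_fromNormalization_eq
    (z : (Spec.map (CommRingCat.ofHom φ) ≫ X.fromSpecStalk (genericPoint X)).normalization)
    (hz : (Spec.map (CommRingCat.ofHom φ) ≫
      X.fromSpecStalk (genericPoint X)).fromNormalization z = genericPoint X) :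
    z = genericPoint (Spec.map (CommRingCat.ofHom φ) ≫
      X.fromSpecStalk (genericPoint X)).normalization := by
  obtain ⟨_, ⟨U, hU, rfl⟩, hxU, -⟩ := X.isBasis_affineOpens.exists_subset_of_mem_open
    (Set.mem_univ ((Spec.map (CommRingCat.ofHom φ) ≫
      X.fromSpecStalk (genericPoint X)).fromNormalization z)) isOpen_univ
  haveI : Nonempty U := ⟨⟨_, hxU⟩⟩
  have hW : IsAffineOpen ((Spec.map (CommRingCat.ofHom φ) ≫
      X.fromSpecStalk (genericPoint X)).fromNormalization ⁻¹ᵁ U) :=
    hU.preimage (Spec.map (CommRingCat.ofHom φ) ≫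
      X.fromSpecStalk (genericPoint X)).fromNormalization
  have hzW : z ∈ (Spec.map (CommRingCat.ofHom φ) ≫
      X.fromSpecStalk (genericPoint X)).fromNormalization ⁻¹ᵁ U := hxU
  haveI hne : Nonempty ↥((Spec.map (CommRingCat.ofHom φ) ≫
      X.fromSpecStalk (genericPoint X)).fromNormalization ⁻¹ᵁ U) := ⟨⟨z, hzW⟩⟩
  haveI hdomW : IsDomain Γ((Spec.map (CommRingCat.ofHom φ) ≫
      X.fromSpecStalk (genericPoint X)).normalization,
      (Spec.map (CommRingCat.ofHom φ) ≫
        X.fromSpecStalk (genericPoint X)).fromNormalization ⁻¹ᵁ U) :=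
    @IsIntegral.component_integral _ _
      ((Spec.map (CommRingCat.ofHom φ) ≫
        X.fromSpecStalk (genericPoint X)).fromNormalization ⁻¹ᵁ U) ⟨⟨z, hzW⟩⟩
  -- the prime of `z` contracts to the prime of the generic point of `X`, i.e. to `⊥`
  have hcomap := IsAffineOpen.comap_primeIdealOf_appLE
    (f := (Spec.map (CommRingCat.ofHom φ) ≫
      X.fromSpecStalk (genericPoint X)).fromNormalization) U hU _ hW le_rfl hzW
  have hηU : genericPoint X ∈ U := hz ▸ hxU
  have hp0 : hU.primeIdealOf ⟨(Spec.map (CommRingCat.ofHom φ) ≫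
      X.fromSpecStalk (genericPoint X)).fromNormalization z, hxU⟩ =
      (⊥ : PrimeSpectrum Γ(X, U)) := by
    have h1 : (⟨(Spec.map (CommRingCat.ofHom φ) ≫
        X.fromSpecStalk (genericPoint X)).fromNormalization z, hxU⟩ : U) =
        ⟨genericPoint X, hηU⟩ := Subtype.ext hz
    rw [h1, hU.primeIdealOf_genericPoint, genericPoint_eq_bot_of_affine]
  have hint : ((Spec.map (CommRingCat.ofHom φ) ≫
      X.fromSpecStalk (genericPoint X)).fromNormalization.appLE U
        ((Spec.map (CommRingCat.ofHom φ) ≫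
          X.fromSpecStalk (genericPoint X)).fromNormalization ⁻¹ᵁ U) le_rfl).hom.IsIntegral := by
    rw [← Scheme.Hom.app_eq_appLE]
    exact Scheme.Hom.isIntegral_app _ U hU
  letI := ((Spec.map (CommRingCat.ofHom φ) ≫
      X.fromSpecStalk (genericPoint X)).fromNormalization.appLE U
        ((Spec.map (CommRingCat.ofHom φ) ≫
          X.fromSpecStalk (genericPoint X)).fromNormalization ⁻¹ᵁ U) le_rfl).hom.toAlgebra
  haveI : Algebra.IsIntegral Γ(X, U) Γ((Spec.map (CommRingCat.ofHom φ) ≫
      X.fromSpecStalk (genericPoint X)).normalization,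
      (Spec.map (CommRingCat.ofHom φ) ≫
        X.fromSpecStalk (genericPoint X)).fromNormalization ⁻¹ᵁ U) := ⟨hint⟩
  have hQ0 : (hW.primeIdealOf ⟨z, hzW⟩).asIdeal = ⊥ := by
    apply Ideal.eq_bot_of_comap_eq_bot (R := Γ(X, U))
    have h2 := congrArg PrimeSpectrum.asIdeal (hcomap.trans hp0)
    exact h2
  have hηW : genericPoint (Spec.map (CommRingCat.ofHom φ) ≫
      X.fromSpecStalk (genericPoint X)).normalization ∈
      (Spec.map (CommRingCat.ofHom φ) ≫
        X.fromSpecStalk (genericPoint X)).fromNormalization ⁻¹ᵁ U :=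
    ((genericPoint_spec _).mem_open_set_iff (Opens.isOpen _)).mpr ⟨z, Set.mem_univ z, hzW⟩
  have hgen := @IsAffineOpen.primeIdealOf_genericPoint _ _ _ hW ⟨⟨z, hzW⟩⟩
  have hQ : hW.primeIdealOf ⟨z, hzW⟩ = hW.primeIdealOf ⟨genericPoint _, hηW⟩ :=
    (PrimeSpectrum.ext hQ0 : hW.primeIdealOf ⟨z, hzW⟩ = ⊥).trans
      ((hgen.trans (genericPoint_eq_bot_of_affine _)).symm)
  have h3 := congrArg hW.fromSpec hQ
  rw [hW.fromSpec_primeIdealOf, hW.fromSpec_primeIdealOf] at h3
  exact h3

theorem preimage_genericPoint :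
    (Spec.map (CommRingCat.ofHom φ) ≫ X.fromSpecStalk (genericPoint X)).fromNormalization.base ⁻¹'
      {genericPoint X} = {genericPoint (Spec.map (CommRingCat.ofHom φ) ≫
        X.fromSpecStalk (genericPoint X)).normalization} := by
  ext z
  constructor
  · intro hz
    exact eq_genericPoint_of_fromNormalization_eq X L φ z hz
  · rintro rfl
    exact fromNormalization_genericPoint X L φ

end Gen

end Groth.Agent.Helper1.NAff
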