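import Mathlib
import Groth.Prelude.Def_Pi1
import Groth.Agent.Lib.Helper7.Mono2
import Groth.Agent.Lib.Helper14.FieldSchemeBridge
import Groth.Agent.Lib.Helper1.NAff7
import Groth.Agent.Lib.Helper1.NAff9

/-!
# Normalization of an integral algebraic curve in a finite extension of its function field
-/

set_option autoImplicit false

namespace Groth.Agent.Helper1.NAff

open CategoryTheory AlgebraicGeometry TopologicalSpace

universe u

theorem eq_genericPoint_of_primeIdealOf_eq_bot {N : Scheme.{u}} [IsIntegral N] {W : N.Opens}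
    (hW : IsAffineOpen W) (z : N) (hz : z ∈ W)
    (h : (hW.primeIdealOf ⟨z, hz⟩).asIdeal = ⊥) : z = genericPoint N := by
  haveI : Nonempty W := ⟨⟨z, hz⟩⟩
  have hηW : genericPoint N ∈ W :=
    ((genericPoint_spec _).mem_open_set_iff (Opens.isOpen _)).mpr ⟨z, Set.mem_univ z, hz⟩
  have hgen := @IsAffineOpen.primeIdealOf_genericPoint _ _ _ hW ⟨⟨z, hz⟩⟩
  have hQ : hW.primeIdealOf ⟨z, hz⟩ = hW.primeIdealOf ⟨genericPoint _, hηW⟩ :=
    (PrimeSpectrum.ext h : hW.primeIdealOf ⟨z, hz⟩ = ⊥).trans
      ((hgen.trans (genericPoint_eq_bot_of_affine _)).symm)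
  have h3 := congrArg hW.fromSpec hQ
  rw [hW.fromSpec_primeIdealOf, hW.fromSpec_primeIdealOf] at h3
  exact h3

section Curve

variable (k : Type u) [Field k] (X : Scheme.{u}) [X.Over (Spec (CommRingCat.of k))]
  [LocallyOfFiniteType (X ↘ (Spec (CommRingCat.of k)))] [IsIntegral X]
  (K : Type u) [Field K] (φ : X.functionField →+* K)
  [QuasiCompact (Spec.map (CommRingCat.ofHom φ) ≫ X.fromSpecStalk (genericPoint X))]
  [QuasiSeparated (Spec.map (CommRingCat.ofHom φ) ≫ X.fromSpecStalk (genericPoint X))]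

include k in
theorem isFinite_fromNormalization_of_finite (hφ : φ.Finite) :
    IsFinite (Spec.map (CommRingCat.ofHom φ) ≫
      X.fromSpecStalk (genericPoint X)).fromNormalization := by
  rw [fromNormalization_iff _ @IsFinite]
  intro U
  rcases isEmpty_or_nonempty U.1 with hemp | hne
  · haveI := isIso_piece_of_isEmpty (Spec.map (CommRingCat.ofHom φ) ≫
      X.fromSpecStalk (genericPoint X)) U.1 hemp
    infer_instance
  · letI := ((Spec.map (CommRingCat.ofHom φ) ≫
      X.fromSpecStalk (genericPoint X)).app U.1).hom.toAlgebra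
    letI algK : Algebra X.functionField K := φ.toAlgebra
    letI algL : Algebra Γ(X, U.1) K :=
      (φ.comp (algebraMap Γ(X, U.1) X.functionField)).toAlgebra
    haveI : IsScalarTower Γ(X, U.1) X.functionField K := .of_algebraMap_eq' rfl
    haveI := functionField_isFractionRing_of_isAffineOpen X U.1 U.2
    haveI : FiniteDimensional X.functionField K := hφ
    letI algk : Algebra k Γ(X, U.1) :=
      (Groth.Agent.Helper14.FieldSchemeBridge.kU k X U.1).toAlgebra
    haveI : Algebra.FiniteType k Γ(X, U.1) :=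
      Groth.Agent.Helper14.FieldSchemeBridge.kU_finiteType k X U.2
    have hNag : CAlg.IsNagata Γ(X, U.1) :=
      Groth.Agent.Helper7.Mono.s0566 k (Groth.Agent.Helper7.Mono.isNagata_of_isField k) Γ(X, U.1)
    have hN2 : CAlg.IsN2 Γ(X, U.1) := Groth.Agent.Helper7.Mono.isN2_of_isNagata hNag
    haveI : Module.Finite Γ(X, U.1) (integralClosure Γ(X, U.1) K) :=
      Groth.Agent.Helper7.Mono.finite_integralClosure_of_isN2 hN2 X.functionField K
    obtain ⟨e⟩ := exists_algEquiv_app X K φ U.1
    haveI : Module.Finite Γ(X, U.1) (integralClosure Γ(X, U.1)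
        Γ(Spec (CommRingCat.of K), (Spec.map (CommRingCat.ofHom φ) ≫
          X.fromSpecStalk (genericPoint X)) ⁻¹ᵁ U.1)) :=
      Module.Finite.equiv (e.mapIntegralClosure).toLinearEquiv
    show IsFinite (Spec.map (CommRingCat.ofHom (algebraMap Γ(X, U.1)
      (integralClosure Γ(X, U.1) Γ(Spec (CommRingCat.of K),
        (Spec.map (CommRingCat.ofHom φ) ≫
          X.fromSpecStalk (genericPoint X)) ⁻¹ᵁ U.1)))))
    rw [IsFinite.SpecMap_iff]
    exact RingHom.finite_algebraMap.mpr inferInstance

omit [X.Over (Spec (CommRingCat.of k))] [LocallyOfFiniteType (X ↘ (Spec (CommRingCat.of k)))] in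
theorem ringKrullDim_stalk_of_closed
    (hX : ∀ x : X, IsClosed ({x} : Set X) → ringKrullDim (X.presheaf.stalk x) = 1)
    (x' : (Spec.map (CommRingCat.ofHom φ) ≫ X.fromSpecStalk (genericPoint X)).normalization)
    (hx' : IsClosed ({x'} : Set (Spec.map (CommRingCat.ofHom φ) ≫
      X.fromSpecStalk (genericPoint X)).normalization)) :
    ringKrullDim ((Spec.map (CommRingCat.ofHom φ) ≫
      X.fromSpecStalk (genericPoint X)).normalization.presheaf.stalk x') = 1 := by
  have hx : IsClosed ({(Spec.map (CommRingCat.ofHom φ) ≫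
      X.fromSpecStalk (genericPoint X)).fromNormalization x'} : Set X) := by
    have := (Spec.map (CommRingCat.ofHom φ) ≫
      X.fromSpecStalk (genericPoint X)).fromNormalization.isClosedMap _ hx'
    rwa [Set.image_singleton] at this
  have hdimx := hX _ hx
  have h0 : ∀ y : X, y = genericPoint X → ringKrullDim (X.presheaf.stalk y) = 0 := by
    rintro y rfl
    exact ringKrullDim_eq_zero_of_field X.functionField
  have hne : (Spec.map (CommRingCat.ofHom φ) ≫
      X.fromSpecStalk (genericPoint X)).fromNormalization x' ≠ genericPoint X := by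
    intro h
    rw [h0 _ h] at hdimx
    exact zero_ne_one hdimx
  obtain ⟨_, ⟨U, hU, rfl⟩, hxU, -⟩ := X.isBasis_affineOpens.exists_subset_of_mem_open
    (Set.mem_univ ((Spec.map (CommRingCat.ofHom φ) ≫
      X.fromSpecStalk (genericPoint X)).fromNormalization x')) isOpen_univ
  haveI : Nonempty U := ⟨⟨_, hxU⟩⟩
  have hW : IsAffineOpen ((Spec.map (CommRingCat.ofHom φ) ≫
      X.fromSpecStalk (genericPoint X)).fromNormalization ⁻¹ᵁ U) :=
    hU.preimage (Spec.map (CommRingCat.ofHom φ) ≫
      X.fromSpecStalk (genericPoint X)).fromNormalization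
  have hzW : x' ∈ (Spec.map (CommRingCat.ofHom φ) ≫
      X.fromSpecStalk (genericPoint X)).fromNormalization ⁻¹ᵁ U := hxU
  haveI hdomW : IsDomain Γ((Spec.map (CommRingCat.ofHom φ) ≫
      X.fromSpecStalk (genericPoint X)).normalization,
      (Spec.map (CommRingCat.ofHom φ) ≫
        X.fromSpecStalk (genericPoint X)).fromNormalization ⁻¹ᵁ U) :=
    @IsIntegral.component_integral _ _
      ((Spec.map (CommRingCat.ofHom φ) ≫
        X.fromSpecStalk (genericPoint X)).fromNormalization ⁻¹ᵁ U) ⟨⟨x', hzW⟩⟩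
  have hcomap := IsAffineOpen.comap_primeIdealOf_appLE
    (f := (Spec.map (CommRingCat.ofHom φ) ≫
      X.fromSpecStalk (genericPoint X)).fromNormalization) U hU _ hW le_rfl hzW
  have hint : ((Spec.map (CommRingCat.ofHom φ) ≫
      X.fromSpecStalk (genericPoint X)).fromNormalization.appLE U
        ((Spec.map (CommRingCat.ofHom φ) ≫
          X.fromSpecStalk (genericPoint X)).fromNormalization ⁻¹ᵁ U) le_rfl).hom.IsIntegral := by
    rw [← Scheme.Hom.app_eq_appLE]
    exact Scheme.Hom.isIntegral_app _ U hU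
  letI := ((Spec.map (CommRingCat.ofHom φ) ≫
      X.fromSpecStalk (genericPoint X)).fromNormalization.appLE U
        ((Spec.map (CommRingCat.ofHom φ) ≫
          X.fromSpecStalk (genericPoint X)).fromNormalization ⁻¹ᵁ U) le_rfl).hom.toAlgebra
  haveI : Algebra.IsIntegral Γ(X, U) Γ((Spec.map (CommRingCat.ofHom φ) ≫
      X.fromSpecStalk (genericPoint X)).normalization,
      (Spec.map (CommRingCat.ofHom φ) ≫
        X.fromSpecStalk (genericPoint X)).fromNormalization ⁻¹ᵁ U) := ⟨hint⟩
  -- dimension of the two stalks as heights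
  have hdimN : ringKrullDim ((Spec.map (CommRingCat.ofHom φ) ≫
      X.fromSpecStalk (genericPoint X)).normalization.presheaf.stalk x') =
      ((hW.primeIdealOf ⟨x', hzW⟩).asIdeal.height : WithBot ℕ∞) := by
    letI := ((Spec.map (CommRingCat.ofHom φ) ≫
      X.fromSpecStalk (genericPoint X)).normalization).presheaf.algebra_section_stalk ⟨x', hzW⟩
    haveI := hW.isLocalization_stalk ⟨x', hzW⟩
    exact IsLocalization.AtPrime.ringKrullDim_eq_height (hW.primeIdealOf ⟨x', hzW⟩).asIdeal _
  have hdimX : ringKrullDim (X.presheaf.stalk ((Spec.map (CommRingCat.ofHom φ) ≫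
      X.fromSpecStalk (genericPoint X)).fromNormalization x')) =
      ((hU.primeIdealOf ⟨_, hxU⟩).asIdeal.height : WithBot ℕ∞) := by
    letI := X.presheaf.algebra_section_stalk ⟨_, hxU⟩
    haveI := hU.isLocalization_stalk ⟨_, hxU⟩
    exact IsLocalization.AtPrime.ringKrullDim_eq_height (hU.primeIdealOf ⟨_, hxU⟩).asIdeal _
  have hp1 : (hU.primeIdealOf ⟨_, hxU⟩).asIdeal.height = 1 := by
    rw [hdimX] at hdimx
    exact_mod_cast hdimx
  have hle : (hW.primeIdealOf ⟨x', hzW⟩).asIdeal.height ≤ 1 := by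
    have h1 := height_le_height_comap_of_isIntegral (A := Γ(X, U)) (hW.primeIdealOf ⟨x', hzW⟩)
    have h2 : PrimeSpectrum.comap (algebraMap Γ(X, U) _) (hW.primeIdealOf ⟨x', hzW⟩) =
        hU.primeIdealOf ⟨_, hxU⟩ := hcomap
    rw [h2, hp1] at h1
    exact h1
  have hge : 1 ≤ (hW.primeIdealOf ⟨x', hzW⟩).asIdeal.height := by
    rw [Order.one_le_iff_pos, pos_iff_ne_zero, Ne, Ideal.height_eq_zero_iff_eq_bot]
    intro hbot
    have hgen := eq_genericPoint_of_primeIdealOf_eq_bot hW x' hzW hbot
    apply hne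
    rw [hgen]
    exact fromNormalization_genericPoint X K φ
  rw [hdimN, le_antisymm hle hge]
  rfl

end Curve

end Groth.Agent.Helper1.NAff
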