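import Mathlib
import Groth.Prelude.Def_Curv2
import Groth.Prelude.Def_Pi1
import Groth.Agent.Lib.Helper1.NAff2

/-!
# Basic properties of the normalization of an integral scheme
-/

set_option autoImplicit false

namespace Groth.Agent.Helper1.NAff

open CategoryTheory AlgebraicGeometry TopologicalSpace

universe u

theorem isIso_stalkClosedPointTo_congr {R : CommRingCat.{u}} [IsLocalRing R] {X : Scheme.{u}}
    {g g' : Spec R ⟶ X} (h : g = g') :
    IsIso (Scheme.stalkClosedPointTo g) ↔ IsIso (Scheme.stalkClosedPointTo g') := by
  subst h; rfl

section Norm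

variable (X : Scheme.{u}) [IsIntegral X] [QuasiCompact (X.fromSpecStalk (genericPoint X))]
  [QuasiSeparated (X.fromSpecStalk (genericPoint X))]

theorem isIntegral_normalization : IsIntegral (Curv2.normalization X) :=
  inferInstanceAs (IsIntegral (X.fromSpecStalk (genericPoint X)).normalization)

theorem surjective_normalizationι : Surjective (Curv2.normalizationι X) := by
  show Surjective (X.fromSpecStalk (genericPoint X)).fromNormalization
  rw [fromNormalization_iff _ @Surjective]
  intro U
  rcases isEmpty_or_nonempty U.1 with hemp | hne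
  · have hbot : U.1 = ⊥ := by
      rw [eq_bot_iff]
      intro x hx
      exact (hemp.false ⟨x, hx⟩).elim
    haveI : Subsingleton Γ(X, U.1) := by rw [hbot]; infer_instance
    haveI : IsEmpty (Spec Γ(X, U.1)) := inferInstanceAs (IsEmpty (PrimeSpectrum Γ(X, U.1)))
    haveI : IsIso (Spec.map
      ((X.fromSpecStalk (genericPoint X)).normalizationDiagramMap.app (.op U.1))) :=
      isIso_of_isEmpty _
    infer_instance
  · letI := ((X.fromSpecStalk (genericPoint X)).app U.1).hom.toAlgebra
    haveI := isFractionRing_app X U.1 U.2
    show Surjective (Spec.map (CommRingCat.ofHom (algebraMap Γ(X, U.1)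
      (integralClosure Γ(X, U.1) Γ(Spec (X.presheaf.stalk (genericPoint X)),
        (X.fromSpecStalk (genericPoint X)) ⁻¹ᵁ U.1)))))
    haveI : FaithfulSMul Γ(X, U.1) (integralClosure Γ(X, U.1)
        Γ(Spec (X.presheaf.stalk (genericPoint X)),
          (X.fromSpecStalk (genericPoint X)) ⁻¹ᵁ U.1)) :=
      (faithfulSMul_iff_algebraMap_injective _ _).mpr (fun a b h =>
        IsFractionRing.injective Γ(X, U.1) Γ(Spec (X.presheaf.stalk (genericPoint X)),
          (X.fromSpecStalk (genericPoint X)) ⁻¹ᵁ U.1) (congrArg Subtype.val h))
    exact ⟨Algebra.IsIntegral.comap_surjective _ _⟩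

theorem isIntegrallyClosed_piece (U : X.Opens) (hU : IsAffineOpen U) [Nonempty U] :
    letI := ((X.fromSpecStalk (genericPoint X)).app U).hom.toAlgebra
    IsIntegrallyClosed (integralClosure Γ(X, U)
      Γ(Spec (X.presheaf.stalk (genericPoint X)),
        (X.fromSpecStalk (genericPoint X)) ⁻¹ᵁ U)) := by
  letI := ((X.fromSpecStalk (genericPoint X)).app U).hom.toAlgebra
  haveI := isFractionRing_app X U hU
  haveI : IsIntegrallyClosed (integralClosure Γ(X, U) (FractionRing Γ(X, U))) :=
    integralClosure.isIntegrallyClosedOfFiniteExtension (FractionRing Γ(X, U))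
  exact IsIntegrallyClosed.of_equiv
    ((FractionRing.algEquiv Γ(X, U) _).mapIntegralClosure).toRingEquiv

theorem isNormalScheme_normalization : Pi1.IsNormalScheme (Curv2.normalization X) := by
  show Pi1.IsNormalScheme (X.fromSpecStalk (genericPoint X)).normalization
  intro z
  refine ⟨inferInstance, ?_⟩
  obtain ⟨_, ⟨U, hU, rfl⟩, hxU, -⟩ := X.isBasis_affineOpens.exists_subset_of_mem_open
    (Set.mem_univ ((X.fromSpecStalk (genericPoint X)).fromNormalization z)) isOpen_univ
  haveI : Nonempty U := ⟨⟨_, hxU⟩⟩
  have hW : IsAffineOpen ((X.fromSpecStalk (genericPoint X)).fromNormalization ⁻¹ᵁ U) :=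
    hU.preimage (X.fromSpecStalk (genericPoint X)).fromNormalization
  have hz : z ∈ (X.fromSpecStalk (genericPoint X)).fromNormalization ⁻¹ᵁ U := hxU
  haveI : Nonempty ↥((X.fromSpecStalk (genericPoint X)).fromNormalization ⁻¹ᵁ U) := ⟨⟨z, hz⟩⟩
  haveI hdomW : IsDomain Γ((X.fromSpecStalk (genericPoint X)).normalization,
      (X.fromSpecStalk (genericPoint X)).fromNormalization ⁻¹ᵁ U) :=
    @IsIntegral.component_integral _ _
      ((X.fromSpecStalk (genericPoint X)).fromNormalization ⁻¹ᵁ U) ⟨⟨z, hz⟩⟩
  letI := ((X.fromSpecStalk (genericPoint X)).app U).hom.toAlgebra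
  haveI := isIntegrallyClosed_piece X U hU
  haveI : IsIntegrallyClosed Γ((X.fromSpecStalk (genericPoint X)).normalization,
      (X.fromSpecStalk (genericPoint X)).fromNormalization ⁻¹ᵁ U) :=
    IsIntegrallyClosed.of_equiv
      ((X.fromSpecStalk (genericPoint X)).normalizationObjIso hU).symm.commRingCatIsoToRingEquiv
  letI := ((X.fromSpecStalk (genericPoint X)).normalization).presheaf.algebra_section_stalk
    ⟨z, hz⟩
  haveI := hW.isLocalization_stalk ⟨z, hz⟩
  exact isIntegrallyClosed_of_isLocalization _ (hW.primeIdealOf ⟨z, hz⟩).asIdeal.primeCompl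
    (Ideal.primeCompl_le_nonZeroDivisors _)

theorem exists_generic' :
    ∃ z : (X.fromSpecStalk (genericPoint X)).normalization,
      z = genericPoint (X.fromSpecStalk (genericPoint X)).normalization ∧
      (X.fromSpecStalk (genericPoint X)).fromNormalization z = genericPoint X ∧
      IsIso ((X.fromSpecStalk (genericPoint X)).fromNormalization.stalkMap z) := by
  have hfac : (X.fromSpecStalk (genericPoint X)).toNormalization ≫
      (X.fromSpecStalk (genericPoint X)).fromNormalization = X.fromSpecStalk (genericPoint X) :=
    (X.fromSpecStalk (genericPoint X)).toNormalization_fromNormalization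
  obtain ⟨cp, hcp⟩ : ∃ cp : ↥(Spec (X.presheaf.stalk (genericPoint X))),
      cp = IsLocalRing.closedPoint (X.presheaf.stalk (genericPoint X)) := ⟨_, rfl⟩
  have hz : (X.fromSpecStalk (genericPoint X)).toNormalization cp =
      genericPoint (X.fromSpecStalk (genericPoint X)).normalization := by
    have hdom : DenseRange (X.fromSpecStalk (genericPoint X)).toNormalization :=
      (X.fromSpecStalk (genericPoint X)).toNormalization.denseRange
    haveI : Subsingleton (Spec (X.presheaf.stalk (genericPoint X))) :=
      inferInstanceAs (Subsingleton (PrimeSpectrum (X.functionField)))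
    have hrange : Set.range (X.fromSpecStalk (genericPoint X)).toNormalization =
        {(X.fromSpecStalk (genericPoint X)).toNormalization cp} := by
      ext y
      constructor
      · rintro ⟨s, rfl⟩
        rw [Set.mem_singleton_iff]
        exact congrArg _ (Subsingleton.elim _ _)
      · rintro rfl
        exact Set.mem_range_self _
    have hcl := hdom.closure_range
    rw [hrange] at hcl
    symm
    exact (genericPoint_spec (X.fromSpecStalk (genericPoint X)).normalization).eq hcl
  refine ⟨_, hz, ?_, ?_⟩
  · rw [← Scheme.Hom.comp_apply, hfac, hcp, Scheme.fromSpecStalk_closedPoint]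
  · subst hcp
    have e1 : IsIso (Scheme.stalkClosedPointTo (X.fromSpecStalk (genericPoint X))) := by
      rw [Scheme.stalkClosedPointTo_fromSpecStalk]
      infer_instance
    have e2 : IsIso (Scheme.stalkClosedPointTo
        ((X.fromSpecStalk (genericPoint X)).toNormalization ≫
          (X.fromSpecStalk (genericPoint X)).fromNormalization)) :=
      (isIso_stalkClosedPointTo_congr hfac).mpr e1
    rw [Scheme.stalkClosedPointTo_comp] at e2
    have hinj : Function.Injective
        (Scheme.stalkClosedPointTo (X.fromSpecStalk (genericPoint X)).toNormalization).hom := by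
      have hF : IsField ((X.fromSpecStalk (genericPoint X)).normalization.presheaf.stalk
          ((X.fromSpecStalk (genericPoint X)).toNormalization
            (IsLocalRing.closedPoint (X.presheaf.stalk (genericPoint X))))) := by
        rw [hz]
        exact Field.toIsField (X.fromSpecStalk (genericPoint X)).normalization.functionField
      letI := hF.toField
      exact RingHom.injective _
    have hsurj : Function.Surjective
        (Scheme.stalkClosedPointTo (X.fromSpecStalk (genericPoint X)).toNormalization).hom := by
      intro r
      obtain ⟨y, hy⟩ := ((ConcreteCategory.isIso_iff_bijective _).mp e2).2 r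
      exact ⟨_, hy⟩
    have e3 : IsIso (Scheme.stalkClosedPointTo
        (X.fromSpecStalk (genericPoint X)).toNormalization) :=
      (ConcreteCategory.isIso_iff_bijective _).mpr ⟨hinj, hsurj⟩
    exact @IsIso.of_isIso_comp_right _ _ _ _ _
      ((X.fromSpecStalk (genericPoint X)).fromNormalization.stalkMap _)
      (Scheme.stalkClosedPointTo (X.fromSpecStalk (genericPoint X)).toNormalization) e3 e2

theorem exists_generic :
    haveI := isIntegral_normalization X
    ∃ z : Curv2.normalization X, z = genericPoint (Curv2.normalization X) ∧
      (Curv2.normalizationι X) z = genericPoint X ∧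
      IsIso ((Curv2.normalizationι X).stalkMap z) :=
  exists_generic' X

theorem main2351 :
    ∃ (_ : IsIntegral (Curv2.normalization X)), Pi1.IsNormalScheme (Curv2.normalization X) ∧
      Surjective (Curv2.normalizationι X) ∧
      ∃ hgen : (Curv2.normalizationι X).base (genericPoint (Curv2.normalization X)) =
          genericPoint X,
        Function.Bijective ((Curv2.normalizationι X).residueFieldMap
          (genericPoint (Curv2.normalization X))).hom := by
  refine ⟨isIntegral_normalization X, isNormalScheme_normalization X,
    surjective_normalizationι X, ?_⟩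
  haveI := isIntegral_normalization X
  obtain ⟨z, rfl, h1, h2⟩ := exists_generic X
  refine ⟨h1, ?_⟩
  haveI := h2
  have h3 : IsIso ((Curv2.normalizationι X).residueFieldMap
      (genericPoint (Curv2.normalization X))) :=
    (IsLocalRing.ResidueField.mapEquiv (asIso ((Curv2.normalizationι X).stalkMap
      (genericPoint (Curv2.normalization X)))).commRingCatIsoToRingEquiv).toCommRingCatIso.isIso_hom
  exact (ConcreteCategory.isIso_iff_bijective _).mp h3

end Norm

end Groth.Agent.Helper1.NAff
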