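import Mathlib
import Groth.Prelude.Def_Curv2
import Groth.Agent.Lib.Helper1.KA4
import Groth.Agent.Lib.Helper1.NAff10
import Groth.Agent.Lib.Helper1.NAff5

/-!
# Normalization of an integral locally Noetherian scheme of dimension one
-/

set_option autoImplicit false

namespace Groth.Agent.Helper1.NAff

open CategoryTheory AlgebraicGeometry TopologicalSpace

universe u

theorem ringKrullDim_le_of_isAffineOpen (X : Scheme.{u}) {U : X.Opens} (hU : IsAffineOpen U) :
    ringKrullDim Γ(X, U) ≤ topologicalKrullDim X := by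
  rw [← PrimeSpectrum.topologicalKrullDim_eq_ringKrullDim]
  exact hU.fromSpec.isOpenEmbedding.isInducing.topologicalKrullDim_le

theorem finite_of_comp_eq {A B kx kz : Type*} [CommRing A] [CommRing B] [CommRing kx]
    [CommRing kz] (φ : A →+* B) (Q : Ideal B) (hfin : ((Ideal.Quotient.mk Q).comp φ).Finite)
    (evx : A →+* kx) (evz : B →+* kz) (ρ : kx →+* kz) (hcomm : ρ.comp evx = evz.comp φ)
    (hsurj : Function.Surjective evz) (hQ : ∀ b ∈ Q, evz b = 0) : ρ.Finite := by
  have h1 : (Ideal.Quotient.lift Q evz hQ).Finite :=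
    RingHom.Finite.of_surjective _ (Ideal.Quotient.lift_surjective_of_surjective Q hQ hsurj)
  have h2 := h1.comp hfin
  have h3 : (Ideal.Quotient.lift Q evz hQ).comp ((Ideal.Quotient.mk Q).comp φ) =
      ρ.comp evx := by
    rw [hcomm]
    ext a
    simp
  rw [h3] at h2
  exact RingHom.Finite.of_comp_finite h2

theorem evaluation_surjective {N : Scheme.{u}} {V : N.Opens} (hV : IsAffineOpen V) (z : N)
    (hz : z ∈ V) (hmax : (hV.primeIdealOf ⟨z, hz⟩).asIdeal.IsMaximal) :
    Function.Surjective (N.evaluation V z hz).hom ∧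
      ∀ b ∈ (hV.primeIdealOf ⟨z, hz⟩).asIdeal, (N.evaluation V z hz).hom b = 0 := by
  letI := N.presheaf.algebra_section_stalk ⟨z, hz⟩
  haveI := hV.isLocalization_stalk ⟨z, hz⟩
  haveI := hmax
  have key : ∀ b : Γ(N, V), (N.evaluation V z hz).hom b =
      IsLocalization.AtPrime.equivQuotMaximalIdeal (hV.primeIdealOf ⟨z, hz⟩).asIdeal
        (N.presheaf.stalk z) (Ideal.Quotient.mk _ b) := fun b => rfl
  constructor
  · intro y
    obtain ⟨q, hq⟩ := (IsLocalization.AtPrime.equivQuotMaximalIdeal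
      (hV.primeIdealOf ⟨z, hz⟩).asIdeal (N.presheaf.stalk z)).surjective y
    obtain ⟨b, rfl⟩ := Ideal.Quotient.mk_surjective q
    exact ⟨b, (key b).trans hq⟩
  · intro b hb
    rw [key, Ideal.Quotient.eq_zero_iff_mem.mpr hb, map_zero]
    rfl

theorem isDedekindDomain_of_forall_dvr (N : Scheme.{u}) [IsIntegral N] [IsLocallyNoetherian N]
    (hdvr : ∀ z : N, z ≠ genericPoint N → IsDiscreteValuationRing (N.presheaf.stalk z))
    (W : N.Opens) (hW : IsAffineOpen W) [hne : Nonempty W] : IsDedekindDomain Γ(N, W) := by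
  haveI : IsDomain Γ(N, W) := @IsIntegral.component_integral _ _ W hne
  haveI : IsNoetherianRing Γ(N, W) := IsLocallyNoetherian.component_noetherian ⟨W, hW⟩
  haveI : IsDedekindDomainDvr Γ(N, W) :=
    { is_dvr_at_nonzero_prime := fun P hP hPp => by
        have hy : hW.fromSpec ⟨P, hPp⟩ ∈ W := by
          have : hW.fromSpec ⟨P, hPp⟩ ∈ Set.range hW.fromSpec := Set.mem_range_self _
          rw [hW.range_fromSpec] at this
          exact this
        have hneη : hW.fromSpec ⟨P, hPp⟩ ≠ genericPoint N := by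
          intro h
          have hηW : genericPoint N ∈ W := h ▸ hy
          have hgen := @IsAffineOpen.primeIdealOf_genericPoint _ _ _ hW hne
          have h2 : hW.fromSpec (hW.primeIdealOf ⟨genericPoint N, hηW⟩) = genericPoint N :=
            hW.fromSpec_primeIdealOf ⟨_, hηW⟩
          have h3 : (⟨P, hPp⟩ : PrimeSpectrum Γ(N, W)) =
              hW.primeIdealOf ⟨genericPoint N, hηW⟩ :=
            hW.fromSpec.isOpenEmbedding.injective (h.trans h2.symm)
          have h4 : hW.primeIdealOf ⟨genericPoint N, hηW⟩ = (⊥ : PrimeSpectrum Γ(N, W)) :=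
            hgen.trans (genericPoint_eq_bot_of_affine _)
          exact hP (congrArg PrimeSpectrum.asIdeal (h3.trans h4))
        letI := N.presheaf.algebra_section_stalk ⟨hW.fromSpec ⟨P, hPp⟩, hy⟩
        have hloc : IsLocalization P.primeCompl (N.presheaf.stalk (hW.fromSpec ⟨P, hPp⟩)) :=
          hW.isLocalization_stalk' ⟨P, hPp⟩ hy
        haveI := hdvr _ hneη
        exact IsDiscreteValuationRing.RingEquivClass.isDiscreteValuationRing
          (IsLocalization.algEquiv P.primeCompl (N.presheaf.stalk (hW.fromSpec ⟨P, hPp⟩))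
            (Localization.AtPrime P)) }
  infer_instance

section Dim1

variable (X : Scheme.{u}) [IsIntegral X] [IsLocallyNoetherian X]
  [QuasiCompact (X.fromSpecStalk (genericPoint X))]
  [QuasiSeparated (X.fromSpecStalk (genericPoint X))]

local notation "𝔤" => Scheme.fromSpecStalk X (genericPoint X)
local notation "𝔑" => Scheme.Hom.normalization (Scheme.fromSpecStalk X (genericPoint X))
local notation "ν" => Scheme.Hom.fromNormalization (Scheme.fromSpecStalk X (genericPoint X))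

theorem props_piece (hdim : topologicalKrullDim X = 1) (U : X.Opens) (hU : IsAffineOpen U)
    [hne : Nonempty U] :
    IsDedekindDomain Γ(𝔑, ν ⁻¹ᵁ U) ∧
      (∀ p : PrimeSpectrum Γ(X, U), (PrimeSpectrum.comap (Scheme.Hom.app ν U).hom ⁻¹' {p}).Finite) ∧
      ∀ Q : Ideal Γ(𝔑, ν ⁻¹ᵁ U), Q.IsMaximal →
        ((Ideal.Quotient.mk Q).comp (Scheme.Hom.app ν U).hom).Finite := by
  have hle : ringKrullDim Γ(X, U) ≤ 1 := hdim ▸ ringKrullDim_le_of_isAffineOpen X hU
  obtain ⟨⟨w, hw⟩⟩ := hne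
  haveI : Nonempty U := ⟨⟨w, hw⟩⟩
  obtain ⟨z, hz⟩ := (show Surjective ν from surjective_normalizationι X).surj w
  have hzW : z ∈ ν ⁻¹ᵁ U := by
    show ν z ∈ U
    rw [hz]; exact hw
  haveI : IsDomain Γ(𝔑, ν ⁻¹ᵁ U) := @IsIntegral.component_integral _ _ (ν ⁻¹ᵁ U) ⟨⟨z, hzW⟩⟩
  haveI : IsNoetherianRing Γ(X, U) := IsLocallyNoetherian.component_noetherian ⟨U, hU⟩
  letI := (Scheme.Hom.app ν U).hom.toAlgebra
  letI := (Scheme.Hom.app 𝔤 U).hom.toAlgebra
  haveI := isFractionRing_app X U hU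
  let σ₁ : Γ(𝔑, ν ⁻¹ᵁ U) ≃ₐ[Γ(X, U)] integralClosure Γ(X, U)
      Γ(Spec (X.presheaf.stalk (genericPoint X)), 𝔤 ⁻¹ᵁ U) :=
    AlgEquiv.ofRingEquiv
      (f := (Scheme.Hom.normalizationObjIso 𝔤 hU).commRingCatIsoToRingEquiv) (fun a => by
        have h := Scheme.Hom.fromNormalization_app 𝔤 hU
        show (Scheme.Hom.normalizationObjIso 𝔤 hU).hom ((Scheme.Hom.app ν U).hom a) = _
        rw [h]
        simp)
  let τ := (FractionRing.algEquiv Γ(X, U)
    Γ(Spec (X.presheaf.stalk (genericPoint X)), 𝔤 ⁻¹ᵁ U)).mapIntegralClosure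
  exact KA.props_of_algEquiv Γ(X, U) Γ(𝔑, ν ⁻¹ᵁ U) hle (FractionRing Γ(X, U))
    (σ₁.trans τ.symm)

theorem isDiscreteValuationRing_stalk (hdim : topologicalKrullDim X = 1) (z : 𝔑)
    (hz : z ≠ genericPoint 𝔑) : IsDiscreteValuationRing ((𝔑).presheaf.stalk z) := by
  obtain ⟨_, ⟨U, hU, rfl⟩, hxU, -⟩ := X.isBasis_affineOpens.exists_subset_of_mem_open
    (Set.mem_univ (ν z)) isOpen_univ
  haveI : Nonempty U := ⟨⟨_, hxU⟩⟩
  have hW : IsAffineOpen (ν ⁻¹ᵁ U) := hU.preimage ν
  have hzW : z ∈ ν ⁻¹ᵁ U := hxU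
  haveI := (props_piece X hdim U hU).1
  letI := (𝔑).presheaf.algebra_section_stalk ⟨z, hzW⟩
  haveI := hW.isLocalization_stalk ⟨z, hzW⟩
  have hne : (hW.primeIdealOf ⟨z, hzW⟩).asIdeal ≠ ⊥ := fun h =>
    hz (eq_genericPoint_of_primeIdealOf_eq_bot hW z hzW h)
  haveI : IsDomain ((𝔑).presheaf.stalk z) := inferInstance
  exact IsLocalization.AtPrime.isDiscreteValuationRing_of_dedekind_domain Γ(𝔑, ν ⁻¹ᵁ U) hne
    ((𝔑).presheaf.stalk z)

theorem isLocallyNoetherian_normalization_dim1 (hdim : topologicalKrullDim X = 1) :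
    IsLocallyNoetherian 𝔑 := by
  apply isLocallyNoetherian_of_affine_cover
    (S := fun U : X.affineOpens => (⟨ν ⁻¹ᵁ U.1, U.2.preimage ν⟩ : (𝔑).affineOpens))
  · show (⨆ U : X.affineOpens, ν ⁻¹ᵁ U.1) = ⊤
    rw [← Scheme.Hom.preimage_iSup, iSup_affineOpens_eq_top]
    rfl
  · intro U
    show IsNoetherianRing Γ(𝔑, ν ⁻¹ᵁ U.1)
    rcases isEmpty_or_nonempty U.1 with hemp | hne
    · have hbot : ν ⁻¹ᵁ U.1 = ⊥ := by
        rw [eq_bot_iff]
        intro x hx
        exact (hemp.false ⟨ν x, hx⟩).elim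
      rw [hbot]
      infer_instance
    · haveI := (props_piece X hdim U.1 U.2).1
      infer_instance

theorem finite_fiber (hdim : topologicalKrullDim X = 1) (x : X) :
    Finite {x' : 𝔑 // ν x' = x} := by
  obtain ⟨_, ⟨U, hU, rfl⟩, hxU, -⟩ := X.isBasis_affineOpens.exists_subset_of_mem_open
    (Set.mem_univ x) isOpen_univ
  haveI : Nonempty U := ⟨⟨_, hxU⟩⟩
  have hW : IsAffineOpen (ν ⁻¹ᵁ U) := hU.preimage ν
  have hfin := (props_piece X hdim U hU).2.1 (hU.primeIdealOf ⟨x, hxU⟩)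
  haveI := hfin.to_subtype
  have hmem : ∀ x' : {x' : 𝔑 // ν x' = x}, x'.1 ∈ ν ⁻¹ᵁ U := fun x' => by
    show ν x'.1 ∈ U
    rw [x'.2]; exact hxU
  have hmem2 : ∀ x' : {x' : 𝔑 // ν x' = x},
      hW.primeIdealOf ⟨x'.1, hmem x'⟩ ∈
        PrimeSpectrum.comap (Scheme.Hom.app ν U).hom ⁻¹' {hU.primeIdealOf ⟨x, hxU⟩} := fun x' => by
    show PrimeSpectrum.comap (Scheme.Hom.app ν U).hom (hW.primeIdealOf ⟨x'.1, hmem x'⟩) =
      hU.primeIdealOf ⟨x, hxU⟩
    have h := IsAffineOpen.comap_primeIdealOf_appLE (f := ν) U hU (ν ⁻¹ᵁ U) hW le_rfl (hmem x')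
    rw [Scheme.Hom.app_eq_appLE, h]
    congr 1
    exact Subtype.ext x'.2
  refine Finite.of_injective (fun x' : {x' : 𝔑 // ν x' = x} =>
    (⟨hW.primeIdealOf ⟨x'.1, hmem x'⟩, hmem2 x'⟩ :
      ↥(PrimeSpectrum.comap (Scheme.Hom.app ν U).hom ⁻¹' {hU.primeIdealOf ⟨x, hxU⟩}))) ?_
  intro a b hab
  have h1 : hW.primeIdealOf ⟨a.1, hmem a⟩ = hW.primeIdealOf ⟨b.1, hmem b⟩ :=
    congrArg Subtype.val hab
  have h2 := congrArg hW.fromSpec h1
  rw [hW.fromSpec_primeIdealOf, hW.fromSpec_primeIdealOf] at h2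
  exact Subtype.ext h2

theorem finite_residueFieldMap (hdim : topologicalKrullDim X = 1) (z : 𝔑) :
    (Scheme.Hom.residueFieldMap ν z).hom.Finite := by
  by_cases hzη : z = genericPoint 𝔑
  · obtain ⟨z', hz', -, hiso⟩ := exists_generic' X
    obtain rfl : z = z' := hzη.trans hz'.symm
    haveI := hiso
    have h3 : IsIso (Scheme.Hom.residueFieldMap ν z) :=
      (IsLocalRing.ResidueField.mapEquiv (asIso (Scheme.Hom.stalkMap ν
        z)).commRingCatIsoToRingEquiv).toCommRingCatIso.isIso_hom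
    exact RingHom.Finite.of_surjective _ ((ConcreteCategory.isIso_iff_bijective _).mp h3).2
  · obtain ⟨_, ⟨U, hU, rfl⟩, hxU, -⟩ := X.isBasis_affineOpens.exists_subset_of_mem_open
      (Set.mem_univ (ν z)) isOpen_univ
    haveI : Nonempty U := ⟨⟨_, hxU⟩⟩
    have hW : IsAffineOpen (ν ⁻¹ᵁ U) := hU.preimage ν
    have hzW : z ∈ ν ⁻¹ᵁ U := hxU
    obtain ⟨hded, -, hfin⟩ := props_piece X hdim U hU
    haveI := hded
    have hne : (hW.primeIdealOf ⟨z, hzW⟩).asIdeal ≠ ⊥ := fun h =>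
      hzη (eq_genericPoint_of_primeIdealOf_eq_bot hW z hzW h)
    have hmax : (hW.primeIdealOf ⟨z, hzW⟩).asIdeal.IsMaximal :=
      (hW.primeIdealOf ⟨z, hzW⟩).isPrime.isMaximal hne
    obtain ⟨hsurj, hker⟩ := evaluation_surjective hW z hzW hmax
    have hcomm : (Scheme.Hom.residueFieldMap ν z).hom.comp (X.evaluation U (ν z) hxU).hom =
        ((𝔑).evaluation (ν ⁻¹ᵁ U) z hzW).hom.comp (Scheme.Hom.app ν U).hom := by
      rw [← CommRingCat.hom_comp, ← CommRingCat.hom_comp, Scheme.evaluation_naturality]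
    exact finite_of_comp_eq (Scheme.Hom.app ν U).hom _ (hfin _ hmax)
      (X.evaluation U (ν z) hxU).hom ((𝔑).evaluation (ν ⁻¹ᵁ U) z hzW).hom
      (Scheme.Hom.residueFieldMap ν z).hom hcomm hsurj hker

theorem main7684 (hdim : topologicalKrullDim X = 1) :
    (∀ x : X, Finite {x' : ↥(Curv2.normalization X) //
        (Curv2.normalizationι X).base x' = x}) ∧
      (∀ x' : ↥(Curv2.normalization X),
        letI := ((Curv2.normalizationι X).residueFieldMap x').hom.toAlgebra
        Module.Finite (X.residueField ((Curv2.normalizationι X).base x'))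
          ((Curv2.normalization X).residueField x')) ∧
      IsLocallyNoetherian (Curv2.normalization X) ∧
      (∀ U : (Curv2.normalization X).affineOpens,
        ((U : (Curv2.normalization X).Opens) : Set ↥(Curv2.normalization X)).Nonempty →
        IsDedekindDomain Γ(Curv2.normalization X, (U : (Curv2.normalization X).Opens))) := by
  haveI hLN : IsLocallyNoetherian 𝔑 := isLocallyNoetherian_normalization_dim1 X hdim
  refine ⟨fun x => finite_fiber X hdim x, fun z => finite_residueFieldMap X hdim z, hLN, ?_⟩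
  intro U hU
  exact @isDedekindDomain_of_forall_dvr 𝔑 _ _ (isDiscreteValuationRing_stalk X hdim) U.1 U.2
    hU.to_subtype

end Dim1

end Groth.Agent.Helper1.NAff
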