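import Mathlib
import Groth.Prelude.Def_Curv2
import Groth.Prelude.Def_Pi1
import Groth.Agent.Lib.Helper7.ZMT1
import Groth.Agent.Lib.Helper1.NAff10
import Groth.Agent.Lib.Helper1.NAff5

/-!
# Characterization of the normalization of an integral scheme
-/

set_option autoImplicit false

namespace Groth.Agent.Helper1.NAff

open CategoryTheory AlgebraicGeometry TopologicalSpace

universe u

/-- For an integral morphism of integral schemes, only the generic point lies over the generic
point. -/
theorem eq_genericPoint_of_isIntegralHom {N X : Scheme.{u}} [IsIntegral N] [IsIntegral X]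
    (f : N ⟶ X) [IsIntegralHom f] (z : N) (hz : f z = genericPoint X) : z = genericPoint N := by
  obtain ⟨_, ⟨U, hU, rfl⟩, hxU, -⟩ := X.isBasis_affineOpens.exists_subset_of_mem_open
    (Set.mem_univ (f z)) isOpen_univ
  haveI : Nonempty U := ⟨⟨_, hxU⟩⟩
  have hW : IsAffineOpen (f ⁻¹ᵁ U) := hU.preimage f
  have hzW : z ∈ f ⁻¹ᵁ U := hxU
  haveI hdomW : IsDomain Γ(N, f ⁻¹ᵁ U) :=
    @IsIntegral.component_integral _ _ (f ⁻¹ᵁ U) ⟨⟨z, hzW⟩⟩
  have hcomap := IsAffineOpen.comap_primeIdealOf_appLE (f := f) U hU _ hW le_rfl hzW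
  have hηU : genericPoint X ∈ U := hz ▸ hxU
  have hp0 : hU.primeIdealOf ⟨f z, hxU⟩ = (⊥ : PrimeSpectrum Γ(X, U)) := by
    have h1 : (⟨f z, hxU⟩ : U) = ⟨genericPoint X, hηU⟩ := Subtype.ext hz
    rw [h1, hU.primeIdealOf_genericPoint, genericPoint_eq_bot_of_affine]
  have hint : (f.appLE U (f ⁻¹ᵁ U) le_rfl).hom.IsIntegral := by
    rw [← Scheme.Hom.app_eq_appLE]
    exact Scheme.Hom.isIntegral_app _ U hU
  letI := (f.appLE U (f ⁻¹ᵁ U) le_rfl).hom.toAlgebra
  haveI : Algebra.IsIntegral Γ(X, U) Γ(N, f ⁻¹ᵁ U) := ⟨hint⟩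
  have hQ0 : (hW.primeIdealOf ⟨z, hzW⟩).asIdeal = ⊥ := by
    apply Ideal.eq_bot_of_comap_eq_bot (R := Γ(X, U))
    have h2 := congrArg PrimeSpectrum.asIdeal (hcomap.trans hp0)
    exact h2
  exact eq_genericPoint_of_primeIdealOf_eq_bot hW z hzW hQ0

theorem isIntegral_of_normal_irreducible {Y : Scheme.{u}} (hY : Pi1.IsNormalScheme Y)
    [IrreducibleSpace Y] : IsIntegral Y := by
  haveI : ∀ y : Y, _root_.IsReduced (Y.presheaf.stalk y) := fun y => by
    haveI := (hY y).1
    infer_instance
  haveI := isReduced_of_isReduced_stalk Y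
  exact isIntegral_of_irreducibleSpace_of_isReduced Y

section Char

variable (X : Scheme.{u}) [IsIntegral X] [QuasiCompact (X.fromSpecStalk (genericPoint X))]
  [QuasiSeparated (X.fromSpecStalk (genericPoint X))]

local notation "𝔤" => Scheme.fromSpecStalk X (genericPoint X)
local notation "𝔑" => Scheme.Hom.normalization (Scheme.fromSpecStalk X (genericPoint X))
local notation "ν" => Scheme.Hom.fromNormalization (Scheme.fromSpecStalk X (genericPoint X))

theorem exists_iso_of_normal_integral_birational {Y : Scheme.{u}} (f : Y ⟶ X)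
    (hY : Pi1.IsNormalScheme Y) [IsIntegralHom f] [IrreducibleSpace Y]
    (hpre : f.base ⁻¹' {genericPoint X} = {genericPoint Y})
    (hiso : IsIso (f.stalkMap (genericPoint Y))) :
    ∃ e : Y ≅ 𝔑, e.hom ≫ ν = f := by
  haveI : IsIntegral Y := isIntegral_of_normal_irreducible hY
  have hfη : f (genericPoint Y) = genericPoint X := by
    have : genericPoint Y ∈ f.base ⁻¹' {genericPoint X} := by
      rw [hpre]; exact Set.mem_singleton _
    exact this
  have hsp : genericPoint X ⤳ f (genericPoint Y) := by rw [hfη]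
  let h : Spec (X.presheaf.stalk (genericPoint X)) ⟶ Y :=
    Spec.map (X.presheaf.stalkSpecializes hsp) ≫
      Spec.map (inv (f.stalkMap (genericPoint Y))) ≫ Y.fromSpecStalk (genericPoint Y)
  have H : 𝔤 = h ≫ f := by
    have h1 := Scheme.SpecMap_stalkMap_fromSpecStalk f (x := genericPoint Y)
    have h2 := Scheme.SpecMap_stalkSpecializes_fromSpecStalk hsp
    have h3 : Spec.map (inv (f.stalkMap (genericPoint Y))) ≫
        Spec.map (f.stalkMap (genericPoint Y)) ≫ X.fromSpecStalk (f (genericPoint Y)) =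
        X.fromSpecStalk (f (genericPoint Y)) := by
      rw [← Spec.map_comp_assoc, IsIso.hom_inv_id, Spec.map_id, Category.id_comp]
    rw [← h2]
    simp only [h, Category.assoc]
    rw [← h1, h3]
  let d : 𝔑 ⟶ Y := Scheme.Hom.normalizationDesc 𝔤 h f H
  have hd : d ≫ f = ν := Scheme.Hom.normalizationDesc_comp 𝔤 h f H
  haveI : IsIntegralHom d := by dsimp only [d]; infer_instance
  obtain ⟨z, rfl, hνz, hνiso⟩ := exists_generic' X
  have hdη : d (genericPoint 𝔑) = genericPoint Y := by
    have h1 : f (d (genericPoint 𝔑)) = genericPoint X := by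
      rw [← Scheme.Hom.comp_apply, hd]; exact hνz
    have : d (genericPoint 𝔑) ∈ f.base ⁻¹' {genericPoint X} := h1
    rw [hpre] at this
    exact this
  have hbir : IsIso (d.stalkMap (genericPoint 𝔑)) := by
    have h2 : IsIso ((d ≫ f).stalkMap (genericPoint 𝔑)) :=
      (Groth.Agent.Helper7.ZMT1.isIso_stalkMap_congr_hom hd _).mpr hνiso
    rw [Scheme.Hom.stalkMap_comp] at h2
    have h3 : IsIso (f.stalkMap (d (genericPoint 𝔑))) :=
      (Groth.Agent.Helper7.ZMT1.isIso_stalkMap_congr_point f hdη).mpr hiso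
    exact @IsIso.of_isIso_comp_left _ _ _ _ _ _ _ h3 h2
  haveI : IsIso d :=
    Groth.Agent.Helper7.ZMT1.isIso_of_integral_birational (fun y => (hY y).2) d hdη hbir
  refine ⟨(asIso d).symm, ?_⟩
  rw [← hd]
  simp

theorem props_of_iso {Y : Scheme.{u}} (e : Y ≅ 𝔑) :
    Pi1.IsNormalScheme Y ∧ IsIntegralHom (e.hom ≫ ν) ∧
      ∃ _ : IrreducibleSpace ↥Y,
        (e.hom ≫ ν).base ⁻¹' {genericPoint X} = {genericPoint Y} ∧
          IsIso ((e.hom ≫ ν).stalkMap (genericPoint Y)) := by
  have hN : Pi1.IsNormalScheme 𝔑 := isNormalScheme_normalization X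
  have hsurj : ∀ y : Y, e.inv (e.hom y) = y := fun y => by
    rw [← Scheme.Hom.comp_apply, e.hom_inv_id]; rfl
  have hsurj' : ∀ z : 𝔑, e.hom (e.inv z) = z := fun z => by
    rw [← Scheme.Hom.comp_apply, e.inv_hom_id]; rfl
  refine ⟨fun y => ?_, inferInstance, ?_⟩
  · let ε : (𝔑).presheaf.stalk (e.hom y) ≃+* Y.presheaf.stalk y :=
      (asIso (e.hom.stalkMap y)).commRingCatIsoToRingEquiv
    haveI := (hN (e.hom y)).1
    haveI := (hN (e.hom y)).2
    exact ⟨MulEquiv.isDomain _ ε.symm.toMulEquiv, IsIntegrallyClosed.of_equiv ε⟩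
  · have hirr : IrreducibleSpace ↥Y := by
      rw [irreducibleSpace_def, Set.top_eq_univ]
      have h1 : IsIrreducible (Set.univ : Set ↥𝔑) := by
        rw [← Set.top_eq_univ, ← irreducibleSpace_def]; infer_instance
      have h2 := h1.image e.inv e.inv.continuous.continuousOn
      have h3 : (e.inv : ↥𝔑 → ↥Y) '' Set.univ = Set.univ :=
        Set.image_univ_of_surjective fun y => ⟨e.hom y, hsurj y⟩
      rwa [h3] at h2
    haveI := hirr
    have hgen : e.hom (genericPoint Y) = genericPoint 𝔑 := genericPoint_eq_of_isOpenImmersion e.hom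
    obtain ⟨z, rfl, hνz, hνiso⟩ := exists_generic' X
    refine ⟨hirr, ?_, ?_⟩
    · ext y
      simp only [Set.mem_preimage, Set.mem_singleton_iff]
      constructor
      · intro hy
        have h1 : ν (e.hom y) = genericPoint X := hy
        have h2 : e.hom y = genericPoint 𝔑 := eq_genericPoint_of_isIntegralHom ν _ h1
        rw [← hgen] at h2
        have h3 := congrArg e.inv h2
        rwa [hsurj, hsurj] at h3
      · rintro rfl
        show ν (e.hom (genericPoint Y)) = genericPoint X
        rw [hgen]; exact hνz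
    · rw [Scheme.Hom.stalkMap_comp]
      have h4 : IsIso (Scheme.Hom.stalkMap ν (e.hom (genericPoint Y))) :=
        (Groth.Agent.Helper7.ZMT1.isIso_stalkMap_congr_point ν hgen).mpr hνiso
      have h5 : IsIso (e.hom.stalkMap (genericPoint Y)) := inferInstance
      exact @IsIso.comp_isIso _ _ _ _ _ _ _ h4 h5

theorem main5949 {Y : Scheme.{u}} (f : Y ⟶ X) :
    (∃ e : Y ≅ Curv2.normalization X, e.hom ≫ Curv2.normalizationι X = f) ↔
      Pi1.IsNormalScheme Y ∧ IsIntegralHom f ∧
        ∃ _ : IrreducibleSpace ↥Y, f.base ⁻¹' {genericPoint X} = {genericPoint Y} ∧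
          IsIso (f.stalkMap (genericPoint Y)) := by
  constructor
  · rintro ⟨e, rfl⟩
    exact props_of_iso X e
  · rintro ⟨hY, hint, hirr, hpre, hiso⟩
    exact exists_iso_of_normal_integral_birational X f hY hpre hiso

end Char

end Groth.Agent.Helper1.NAff
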