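import Mathlib
import Groth.Prelude.Def_Curv2
import Groth.Prelude.Def_Pi1
import Groth.Agent.Lib.Helper7.ZMT1
import Groth.Agent.Lib.Helper1.NAff12

/-!
# Characterization of the normalization of an integral scheme, dense-open form
-/

set_option autoImplicit false

namespace Groth.Agent.Helper1.NAff

open CategoryTheory AlgebraicGeometry TopologicalSpace

universe u

theorem isIntegrallyClosed_sections_of_mem (X : Scheme.{u}) [IsIntegral X] (U : X.Opens)
    (hU : IsAffineOpen U) (hX : ∀ x ∈ U, IsIntegrallyClosed (X.presheaf.stalk x)) [Nonempty U] :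
    IsIntegrallyClosed Γ(X, U) := by
  exact @IsIntegrallyClosed.of_isLocalization_maximal Γ(X, U) _
    (fun P hP => X.presheaf.stalk (hU.fromSpec ⟨P, hP.isPrime⟩)) (fun P hP => inferInstance)
    (fun P hP => TopCat.Presheaf.algebra_section_stalk X.presheaf ⟨_, (hU.isoSpec.inv _).2⟩)
    (fun P hP => hU.isLocalization_stalk' ⟨P, hP.isPrime⟩ (hU.isoSpec.inv _).2) _
    (fun P _ => hX _ (hU.isoSpec.inv _).2)

open Groth.Agent.Helper7.FinBir in
theorem bijective_app_of_isIntegrallyClosed {Y' Y : Scheme.{u}} [IsIntegral Y'] [IsIntegral Y]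
    (f : Y' ⟶ Y) [IsIntegralHom f]
    (hgen : f (genericPoint Y') = genericPoint Y)
    (hbir : IsIso (f.stalkMap (genericPoint Y'))) (U : Y.Opens) (hU : IsAffineOpen U)
    [Nonempty U] (hic : IsIntegrallyClosed Γ(Y, U)) : Function.Bijective (f.app U).hom := by
  have hηU : f (genericPoint Y') ∈ U := by
    rw [hgen]
    exact ((genericPoint_spec Y).mem_open_set_iff U.isOpen).mpr (by simpa using ‹Nonempty U›)
  let σ := f.stalkMap (genericPoint Y')
  have hσ : Function.Bijective σ.hom := ConcreteCategory.bijective_of_isIso σ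
  let gA := Y.presheaf.germ U (f (genericPoint Y')) hηU
  let gB := Y'.presheaf.germ (f ⁻¹ᵁ U) (genericPoint Y') hηU
  have hrel : ∀ a, σ.hom (gA.hom a) = gB.hom ((f.app U).hom a) := fun a =>
    Scheme.Hom.germ_stalkMap_apply f U (genericPoint Y') hηU a
  have hgA : Function.Injective gA.hom := germ_injective_of_isIntegral Y _ hηU
  have hgB : Function.Injective gB.hom := germ_injective_of_isIntegral Y' _ hηU
  let _ := gA.hom.toAlgebra
  have hfr : IsFractionRing Γ(Y, U) (Y.presheaf.stalk (f (genericPoint Y'))) :=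
    isFractionRing_stalk_of_eq_genericPoint U hU _ hgen hηU
  have halg : ∀ a, algebraMap Γ(Y, U) (Y.presheaf.stalk (f (genericPoint Y'))) a = gA.hom a :=
    fun a => rfl
  constructor
  · intro a a' haa
    apply hgA
    apply hσ.injective
    rw [hrel, hrel, haa]
  · intro b
    obtain ⟨k, hk⟩ := hσ.surjective (gB.hom b)
    obtain ⟨p, hp, hpb⟩ := IsIntegralHom.isIntegral_app f U hU b
    have hkint : IsIntegral Γ(Y, U) k := by
      refine ⟨p, hp, ?_⟩
      apply hσ.injective
      rw [map_zero, Polynomial.hom_eval₂, hk]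
      have : σ.hom.comp (algebraMap Γ(Y, U) (Y.presheaf.stalk (f (genericPoint Y')))) =
          gB.hom.comp (f.app U).hom := by
        ext a
        exact hrel a
      rw [this, ← Polynomial.hom_eval₂, hpb, map_zero]
    obtain ⟨a, ha⟩ := IsIntegrallyClosed.algebraMap_eq_of_integral hkint
    refine ⟨a, ?_⟩
    apply hgB
    rw [← hrel, ← halg, ha, hk]

theorem irreducibleSpace_of_isIso {A B : Scheme.{u}} (g : A ⟶ B) [IsIso g]
    [IrreducibleSpace ↥B] : IrreducibleSpace ↥A := by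
  rw [irreducibleSpace_def, Set.top_eq_univ]
  have h1 : IsIrreducible (Set.univ : Set ↥B) := by
    rw [← Set.top_eq_univ, ← irreducibleSpace_def]; infer_instance
  have h2 := h1.image (inv g) (inv g).continuous.continuousOn
  have h3 : ((inv g : B ⟶ A) : ↥B → ↥A) '' Set.univ = Set.univ :=
    Set.image_univ_of_surjective fun y =>
      ⟨g y, by rw [← Scheme.Hom.comp_apply, IsIso.hom_inv_id]; rfl⟩
  rwa [h3] at h2

section Char

variable (X : Scheme.{u}) [IsIntegral X] [QuasiCompact (X.fromSpecStalk (genericPoint X))]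
  [QuasiSeparated (X.fromSpecStalk (genericPoint X))]

local notation "𝔤" => Scheme.fromSpecStalk X (genericPoint X)
local notation "𝔑" => Scheme.Hom.normalization (Scheme.fromSpecStalk X (genericPoint X))
local notation "ν" => Scheme.Hom.fromNormalization (Scheme.fromSpecStalk X (genericPoint X))

theorem exists_dense_open_of_iso
    (hV : ∃ V : X.Opens, (V : Set ↥X).Nonempty ∧
      ∀ x ∈ V, IsIntegrallyClosed (X.presheaf.stalk x))
    {Y : Scheme.{u}} (e : Y ≅ 𝔑) :
    ∃ U : X.Opens, Dense (U : Set ↥X) ∧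
      Dense (((e.hom ≫ ν) ⁻¹ᵁ U : Y.Opens) : Set ↥Y) ∧ IsIso ((e.hom ≫ ν) ∣_ U) := by
  obtain ⟨V, ⟨x, hxV⟩, hVn⟩ := hV
  obtain ⟨_, ⟨W, hW, rfl⟩, hxW, hWV⟩ :=
    X.isBasis_affineOpens.exists_subset_of_mem_open hxV V.isOpen
  haveI : Nonempty W := ⟨⟨x, hxW⟩⟩
  obtain ⟨-, -, hirr, hpre, -⟩ := props_of_iso X e
  haveI := hirr
  have hfη : (e.hom ≫ ν) (genericPoint Y) = genericPoint X := by
    have : genericPoint Y ∈ (e.hom ≫ ν).base ⁻¹' {genericPoint X} := by
      rw [hpre]; exact Set.mem_singleton _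
    exact this
  have hηW : genericPoint X ∈ W := genericPoint_mem X W
  refine ⟨W, W.isOpen.dense ⟨x, hxW⟩, ?_, ?_⟩
  · refine ((e.hom ≫ ν) ⁻¹ᵁ W).isOpen.dense ⟨genericPoint Y, ?_⟩
    show (e.hom ≫ ν) (genericPoint Y) ∈ W
    rw [hfη]; exact hηW
  · rw [isIso_morphismRestrict_iff_isIso_app _ hW, Scheme.Hom.comp_app]
    obtain ⟨z, rfl, hνz, hνiso⟩ := exists_generic' X
    have hic := isIntegrallyClosed_sections_of_mem X W hW (fun y hy => hVn y (hWV hy))
    have hbij := bijective_app_of_isIntegrallyClosed ν hνz hνiso W hW hic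
    have h1 : IsIso (Scheme.Hom.app ν W) := (ConcreteCategory.isIso_iff_bijective _).mpr hbij
    have h2 : IsIso (e.hom.app (ν ⁻¹ᵁ W)) := inferInstance
    exact @IsIso.comp_isIso _ _ _ _ _ _ _ h1 h2

theorem exists_iso_of_dense_open {Y : Scheme.{u}} (f : Y ⟶ X) (hY : Pi1.IsNormalScheme Y)
    [IsIntegralHom f] (U : X.Opens) (hU : Dense (U : Set ↥X))
    (hfU : Dense ((f ⁻¹ᵁ U : Y.Opens) : Set ↥Y)) [IsIso (f ∣_ U)] :
    ∃ e : Y ≅ 𝔑, e.hom ≫ ν = f := by
  obtain ⟨x, hxU⟩ : (U : Set X).Nonempty := hU.nonempty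
  haveI : Nonempty U := ⟨⟨x, hxU⟩⟩
  haveI : IsIntegral U.toScheme := inferInstance
  haveI hirrU : IrreducibleSpace ↥(f ⁻¹ᵁ U).toScheme := irreducibleSpace_of_isIso (f ∣_ U)
  have hirrY : IrreducibleSpace ↥Y := by
    rw [irreducibleSpace_def, Set.top_eq_univ]
    have h0 : IsIrreducible (Set.univ : Set ↥(f ⁻¹ᵁ U).toScheme) := by
      rw [← Set.top_eq_univ, ← irreducibleSpace_def]; infer_instance
    have h1 := h0.image (f ⁻¹ᵁ U).ι (f ⁻¹ᵁ U).ι.continuous.continuousOn
    rw [Set.image_univ, Scheme.Opens.range_ι] at h1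
    have h2 := h1.closure
    rwa [hfU.closure_eq] at h2
  haveI := hirrY
  haveI : IsIntegral Y := isIntegral_of_normal_irreducible hY
  have ha : (f ⁻¹ᵁ U).ι (genericPoint ↥(f ⁻¹ᵁ U).toScheme) = genericPoint Y :=
    genericPoint_eq_of_isOpenImmersion _
  have hb : (f ∣_ U) (genericPoint ↥(f ⁻¹ᵁ U).toScheme) = genericPoint ↥U.toScheme :=
    genericPoint_eq_of_isOpenImmersion _
  have hc : U.ι (genericPoint ↥U.toScheme) = genericPoint X :=
    genericPoint_eq_of_isOpenImmersion _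
  have hfη : f (genericPoint Y) = genericPoint X := by
    rw [← ha, ← Scheme.Hom.comp_apply, ← morphismRestrict_ι, Scheme.Hom.comp_apply, hb, hc]
  have hpre : f.base ⁻¹' {genericPoint X} = {genericPoint Y} := by
    ext y
    simp only [Set.mem_preimage, Set.mem_singleton_iff]
    exact ⟨fun hy => eq_genericPoint_of_isIntegralHom f y hy, fun hy => hy ▸ hfη⟩
  have hiso : IsIso (f.stalkMap (genericPoint Y)) := by
    have h1 : IsIso ((f ∣_ U).stalkMap (genericPoint ↥(f ⁻¹ᵁ U).toScheme)) := inferInstance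
    have h2 : IsIso (f.stalkMap (genericPoint ↥(f ⁻¹ᵁ U).toScheme).1) :=
      ((MorphismProperty.isomorphisms CommRingCat).arrow_mk_iso_iff
        (morphismRestrictStalkMap f U _)).mp h1
    exact (Groth.Agent.Helper7.ZMT1.isIso_stalkMap_congr_point f ha).mp h2
  exact exists_iso_of_normal_integral_birational X f hY hpre hiso

theorem main5950
    (hV : ∃ V : X.Opens, (V : Set ↥X).Nonempty ∧
      ∀ x ∈ V, IsIntegrallyClosed (X.presheaf.stalk x))
    {Y : Scheme.{u}} (f : Y ⟶ X) :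
    (∃ e : Y ≅ Curv2.normalization X, e.hom ≫ Curv2.normalizationι X = f) ↔
      Pi1.IsNormalScheme Y ∧ IsIntegralHom f ∧
        ∃ U : X.Opens, Dense (U : Set ↥X) ∧ Dense ((f ⁻¹ᵁ U : Y.Opens) : Set ↥Y) ∧
          IsIso (f ∣_ U) := by
  constructor
  · rintro ⟨e, rfl⟩
    obtain ⟨h1, h2, -⟩ := props_of_iso X e
    exact ⟨h1, h2, exists_dense_open_of_iso X hV e⟩
  · rintro ⟨hY, hint, U, hU, hfU, hiso⟩
    exact exists_iso_of_dense_open X f hY U hU hfU

end Char

end Groth.Agent.Helper1.NAff
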