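import Mathlib
import Groth.Prelude.Def_Curv2
import Groth.Prelude.Def_Pi1
import Groth.Agent.Lib.Helper1.NAff13

/-!
# Normalization of an integral scheme locally of finite type over a field
-/

set_option autoImplicit false

namespace Groth.Agent.Helper1.NAff

open CategoryTheory AlgebraicGeometry TopologicalSpace

universe u

theorem bijective_awayMap {A B : Type*} [CommRing A] [CommRing B] (φ : A →+* B)
    (hφ : Function.Injective φ) (s : A) (hs : ∀ b : B, ∃ a : A, φ a = φ s * b)
    (As Bs : Type*) [CommRing As] [CommRing Bs] [Algebra A As] [Algebra B Bs]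
    [IsLocalization.Away s As] [IsLocalization.Away (φ s) Bs] :
    Function.Bijective (IsLocalization.Away.map As Bs φ s) := by
  have hmap : ∀ t : A, IsLocalization.Away.map As Bs φ s (algebraMap A As t) =
      algebraMap B Bs (φ t) := fun t => IsLocalization.map_eq _ t
  have hu : IsUnit (algebraMap A As s) := IsLocalization.Away.algebraMap_isUnit s
  have hv : IsUnit (algebraMap B Bs (φ s)) := IsLocalization.Away.algebraMap_isUnit (φ s)
  constructor
  · rw [injective_iff_map_eq_zero]
    intro x hx
    obtain ⟨n, a, ha⟩ := IsLocalization.Away.surj s x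
    have h1 : algebraMap B Bs (φ a) = 0 := by
      rw [← hmap, ← ha, map_mul, hx, zero_mul]
    obtain ⟨m, hm⟩ := (IsLocalization.map_eq_zero_iff (Submonoid.powers (φ s)) Bs (φ a)).mp h1
    obtain ⟨k, hk⟩ := m.2
    have hk' : φ s ^ k = (m : B) := hk
    have h2 : s ^ k * a = 0 := by
      apply hφ
      rw [map_mul, map_pow, map_zero, hk']
      exact hm
    have h3 : algebraMap A As a = 0 :=
      (IsLocalization.map_eq_zero_iff (Submonoid.powers s) As a).mpr ⟨⟨s ^ k, ⟨k, rfl⟩⟩, h2⟩
    rw [h3] at ha
    exact (hu.pow n).mul_left_injective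
      (show x * algebraMap A As s ^ n = 0 * algebraMap A As s ^ n by rw [ha, zero_mul])
  · intro y
    obtain ⟨n, b, hb⟩ := IsLocalization.Away.surj (φ s) y
    obtain ⟨a, ha⟩ := hs b
    refine ⟨IsLocalization.mk' As a (⟨s ^ (n + 1), ⟨n + 1, rfl⟩⟩ : Submonoid.powers s), ?_⟩
    apply (hv.pow (n + 1)).mul_left_injective
    show IsLocalization.Away.map As Bs φ s _ * algebraMap B Bs (φ s) ^ (n + 1) =
      y * algebraMap B Bs (φ s) ^ (n + 1)
    have h1 : algebraMap B Bs (φ s) ^ (n + 1) =
        IsLocalization.Away.map As Bs φ s (algebraMap A As (s ^ (n + 1))) := by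
      rw [hmap, map_pow, map_pow]
    rw [h1, ← map_mul, IsLocalization.mk'_spec, hmap, ← h1, pow_succ, ← mul_assoc, hb, ha,
      map_mul, mul_comm]

theorem exists_isIntegrallyClosed_away (A : Type u) [CommRing A] [IsDomain A]
    [Module.Finite A (integralClosure A (FractionRing A))] :
    ∃ s : A, s ≠ 0 ∧ ∀ (As : Type u) [CommRing As] [Algebra A As] [IsLocalization.Away s As],
      IsIntegrallyClosed As := by
  classical
  obtain ⟨T, hT⟩ := (Module.Finite.fg_top :
    (⊤ : Submodule A (integralClosure A (FractionRing A))).FG)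
  obtain ⟨b, hb⟩ := IsLocalization.exist_integer_multiples_of_finset (nonZeroDivisors A)
    (T.image (fun c : integralClosure A (FractionRing A) => (c : FractionRing A)))
  have hb0 : (b : A) ≠ 0 := nonZeroDivisors.coe_ne_zero b
  have hinj : Function.Injective (algebraMap A (integralClosure A (FractionRing A))) := by
    intro a a' h
    apply IsFractionRing.injective A (FractionRing A)
    exact congrArg Subtype.val h
  have key : ∀ c : integralClosure A (FractionRing A), ∃ a : A,
      algebraMap A (integralClosure A (FractionRing A)) a =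
        algebraMap A (integralClosure A (FractionRing A)) (b : A) * c := by
    have hle : (⊤ : Submodule A (integralClosure A (FractionRing A))) ≤
        (LinearMap.range (Algebra.linearMap A (integralClosure A (FractionRing A)))).comap
          (LinearMap.lsmul A (integralClosure A (FractionRing A)) (b : A)) := by
      rw [← hT, Submodule.span_le]
      intro c hc
      obtain ⟨a, ha⟩ := hb (c : FractionRing A) (Finset.mem_image_of_mem _ hc)
      show (b : A) • c ∈ LinearMap.range _
      exact ⟨a, Subtype.ext ha⟩
    intro c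
    obtain ⟨a, ha⟩ := hle (Submodule.mem_top : c ∈ ⊤)
    refine ⟨a, ?_⟩
    rw [← Algebra.smul_def]
    exact ha
  refine ⟨b, hb0, ?_⟩
  intro As _ _ _
  haveI : IsIntegrallyClosed (integralClosure A (FractionRing A)) :=
    integralClosure.isIntegrallyClosedOfFiniteExtension (FractionRing A)
  have hb0' : algebraMap A (integralClosure A (FractionRing A)) (b : A) ≠ 0 := by
    rw [Ne, map_eq_zero_iff _ hinj]; exact hb0
  haveI : IsIntegrallyClosed
      (Localization.Away (algebraMap A (integralClosure A (FractionRing A)) (b : A))) :=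
    isIntegrallyClosed_of_isLocalization _
      (Submonoid.powers (algebraMap A (integralClosure A (FractionRing A)) (b : A)))
      (powers_le_nonZeroDivisors_of_noZeroDivisors hb0')
  have hbij := bijective_awayMap (algebraMap A (integralClosure A (FractionRing A))) hinj (b : A) key
    As (Localization.Away (algebraMap A (integralClosure A (FractionRing A)) (b : A)))
  exact IsIntegrallyClosed.of_equiv (RingEquiv.ofBijective _ hbij).symm

section Variety

variable (k : Type u) [Field k] (X : Scheme.{u}) [X.Over (Spec (CommRingCat.of k))]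
  [LocallyOfFiniteType (X ↘ (Spec (CommRingCat.of k)))] [IsIntegral X]
  [QuasiCompact (X.fromSpecStalk (genericPoint X))]
  [QuasiSeparated (X.fromSpecStalk (genericPoint X))]

local notation "𝔤" => Scheme.fromSpecStalk X (genericPoint X)
local notation "𝔑" => Scheme.Hom.normalization (Scheme.fromSpecStalk X (genericPoint X))
local notation "ν" => Scheme.Hom.fromNormalization (Scheme.fromSpecStalk X (genericPoint X))

include k in
theorem finite_integralClosure_fractionRing (U : X.Opens) (hU : IsAffineOpen U) [Nonempty U] :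
    Module.Finite Γ(X, U) (integralClosure Γ(X, U) (FractionRing Γ(X, U))) := by
  letI algk : Algebra k Γ(X, U) :=
    (Groth.Agent.Helper14.FieldSchemeBridge.kU k X U).toAlgebra
  haveI : Algebra.FiniteType k Γ(X, U) :=
    Groth.Agent.Helper14.FieldSchemeBridge.kU_finiteType k X hU
  have hNag : CAlg.IsNagata Γ(X, U) :=
    Groth.Agent.Helper7.Mono.s0566 k (Groth.Agent.Helper7.Mono.isNagata_of_isField k) Γ(X, U)
  have hN2 : CAlg.IsN2 Γ(X, U) := Groth.Agent.Helper7.Mono.isN2_of_isNagata hNag
  exact Groth.Agent.Helper7.Mono.finite_integralClosure_of_isN2 hN2 (FractionRing Γ(X, U))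
    (FractionRing Γ(X, U))

include k in
theorem isFinite_normalizationι_of_field : IsFinite ν := by
  rw [fromNormalization_iff _ @IsFinite]
  intro U
  rcases isEmpty_or_nonempty U.1 with hemp | hne
  · haveI := isIso_piece_of_isEmpty 𝔤 U.1 hemp
    infer_instance
  · letI := (Scheme.Hom.app 𝔤 U.1).hom.toAlgebra
    haveI := isFractionRing_app X U.1 U.2
    haveI := finite_integralClosure_fractionRing k X U.1 U.2
    haveI : Module.Finite Γ(X, U.1) (integralClosure Γ(X, U.1)
        Γ(Spec (X.presheaf.stalk (genericPoint X)), 𝔤 ⁻¹ᵁ U.1)) :=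
      Module.Finite.equiv ((FractionRing.algEquiv Γ(X, U.1)
        Γ(Spec (X.presheaf.stalk (genericPoint X)), 𝔤 ⁻¹ᵁ U.1)).mapIntegralClosure).toLinearEquiv
    show IsFinite (Spec.map (CommRingCat.ofHom (algebraMap Γ(X, U.1)
      (integralClosure Γ(X, U.1) Γ(Spec (X.presheaf.stalk (genericPoint X)), 𝔤 ⁻¹ᵁ U.1)))))
    rw [IsFinite.SpecMap_iff]
    exact RingHom.finite_algebraMap.mpr inferInstance

include k in
theorem exists_isIso_morphismRestrict :
    ∃ V : X.Opens, (V : Set X).Nonempty ∧ IsIso (ν ∣_ V) := by
  obtain ⟨_, ⟨U, hU, rfl⟩, hηU, -⟩ := X.isBasis_affineOpens.exists_subset_of_mem_open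
    (Set.mem_univ (genericPoint X)) isOpen_univ
  haveI : Nonempty U := ⟨⟨_, hηU⟩⟩
  haveI := finite_integralClosure_fractionRing k X U hU
  obtain ⟨s, hs0, hs⟩ := exists_isIntegrallyClosed_away Γ(X, U)
  have hV : IsAffineOpen (X.basicOpen s) := hU.basicOpen s
  haveI := hU.isLocalization_basicOpen s
  have hic : IsIntegrallyClosed Γ(X, X.basicOpen s) := hs _
  have hne : (X.basicOpen s : Set X).Nonempty := by
    rw [← Opens.ne_bot_iff_nonempty, Ne, basicOpen_eq_bot_iff]
    exact hs0
  haveI : Nonempty (X.basicOpen s) := hne.to_subtype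
  obtain ⟨z, rfl, hνz, hνiso⟩ := exists_generic' X
  have hbij := bijective_app_of_isIntegrallyClosed ν hνz hνiso (X.basicOpen s) hV hic
  refine ⟨X.basicOpen s, hne, ?_⟩
  rw [isIso_morphismRestrict_iff_isIso_app ν hV]
  exact (ConcreteCategory.isIso_iff_bijective _).mpr hbij

include k in
theorem main1585 :
    IsFinite (Curv2.normalizationι X) ∧ IsDominant (Curv2.normalizationι X) ∧
      (∃ V : X.Opens, (V : Set X).Nonempty ∧ IsIso (Curv2.normalizationι X ∣_ V)) ∧
      IsIntegral (Curv2.normalization X) ∧ Pi1.IsNormalScheme (Curv2.normalization X) := by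
  haveI := surjective_normalizationι X
  exact ⟨isFinite_normalizationι_of_field k X, inferInstance, exists_isIso_morphismRestrict k X,
    isIntegral_normalization X, isNormalScheme_normalization X⟩

end Variety

end Groth.Agent.Helper1.NAff
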