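import Mathlib
import Groth.Prelude.Def_Pi1
import Groth.Agent.Lib.Helper1.NAff9

/-!
# Normalization of an integral scheme in a field extension: the function field
-/

set_option autoImplicit false

namespace Groth.Agent.Helper1.NAff

open CategoryTheory AlgebraicGeometry TopologicalSpace

universe u

theorem isField_stalk_of_eq_genericPoint {N : Scheme.{u}} [IsIntegral N] (z : N)
    (hz : z = genericPoint N) : IsField (N.presheaf.stalk z) := by
  subst hz
  exact Field.toIsField N.functionField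

section Gen

variable (X : Scheme.{u}) [IsIntegral X] (L : Type u) [Field L] (φ : X.functionField →+* L)
  [QuasiCompact (Spec.map (CommRingCat.ofHom φ) ≫ X.fromSpecStalk (genericPoint X))]
  [QuasiSeparated (Spec.map (CommRingCat.ofHom φ) ≫ X.fromSpecStalk (genericPoint X))]

local notation "𝔤" => (Spec.map (CommRingCat.ofHom φ) ≫ Scheme.fromSpecStalk X (genericPoint X))
local notation "𝔑" => Scheme.Hom.normalization
  (Spec.map (CommRingCat.ofHom φ) ≫ Scheme.fromSpecStalk X (genericPoint X))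
local notation "ν" => Scheme.Hom.fromNormalization
  (Spec.map (CommRingCat.ofHom φ) ≫ Scheme.fromSpecStalk X (genericPoint X))
local notation "τ" => Scheme.Hom.toNormalization
  (Spec.map (CommRingCat.ofHom φ) ≫ Scheme.fromSpecStalk X (genericPoint X))
set_option quotPrecheck false in
local notation "cp" => (IsLocalRing.closedPoint (CommRingCat.of L) : ↥(Spec (CommRingCat.of L)))

/-- sections of `Spec L` over the preimage of an open containing the generic point are `L` -/
noncomputable def chi (U : X.Opens) (hU' : 𝔤 cp ∈ U) :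
    Γ(Spec (CommRingCat.of L), 𝔤 ⁻¹ᵁ U) ≅ CommRingCat.of L :=
  (Spec (CommRingCat.of L)).presheaf.mapIso (eqToIso
    (Scheme.preimage_eq_top_of_closedPoint_mem 𝔤 hU').symm).op ≪≫
      Scheme.ΓSpecIso (CommRingCat.of L)

omit [QuasiCompact (Spec.map (CommRingCat.ofHom φ) ≫ X.fromSpecStalk (genericPoint X))]
  [QuasiSeparated (Spec.map (CommRingCat.ofHom φ) ≫ X.fromSpecStalk (genericPoint X))] in
theorem chi_app (U : X.Opens) [Nonempty U] (hU' : 𝔤 cp ∈ U) (a : Γ(X, U)) :
    (chi X L φ U hU').hom ((Scheme.Hom.app 𝔤 U).hom a) =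
      φ (algebraMap Γ(X, U) X.functionField a) := by
  have hcp : 𝔤 cp = genericPoint X := apply_closedPoint X L φ
  have hη : genericPoint X ∈ U := hcp ▸ hU'
  have h1 := Scheme.germ_stalkClosedPointTo_Spec_fromSpecStalk (X := X)
    (x := genericPoint X) (CommRingCat.ofHom φ) U hU'
  have h2 := Scheme.germ_stalkClosedPointTo 𝔤 U hU'
  have h12 := h1.symm.trans h2
  exact (congrArg (fun ψ => ψ.hom a) h12).symm

theorem stalkClosedPointTo_germ (U : X.Opens) (hU : IsAffineOpen U) (hU' : 𝔤 cp ∈ U)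
    (hzV : τ cp ∈ ν ⁻¹ᵁ U) :
    letI := (Scheme.Hom.app 𝔤 U).hom.toAlgebra
    (𝔑).presheaf.germ (ν ⁻¹ᵁ U) _ hzV ≫ Scheme.stalkClosedPointTo τ =
      (Scheme.Hom.normalizationObjIso 𝔤 hU).hom ≫
        CommRingCat.ofHom (integralClosure Γ(X, U)
          Γ(Spec (CommRingCat.of L), 𝔤 ⁻¹ᵁ U)).val.toRingHom ≫ (chi X L φ U hU').hom := by
  letI := (Scheme.Hom.app 𝔤 U).hom.toAlgebra
  rw [Scheme.germ_stalkClosedPointTo τ (ν ⁻¹ᵁ U) hzV, ← Category.assoc,
    Scheme.Hom.normalizationObjIso_hom_val, Scheme.Hom.appLE, Category.assoc]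
  congr 1

theorem main4448 :
    ∃ (_ : IsIntegral 𝔑), Pi1.IsNormalScheme 𝔑 ∧
      (ν).base ⁻¹' {genericPoint X} = {genericPoint 𝔑} ∧
      (τ).base (IsLocalRing.closedPoint L) = genericPoint 𝔑 ∧
      Function.Injective (Scheme.stalkClosedPointTo τ).hom ∧
      Set.range (Scheme.stalkClosedPointTo τ).hom =
        {y : L | ∃ q : Polynomial X.functionField, q.Monic ∧ Polynomial.eval₂ φ y q = 0} := by
  have hz : τ cp = genericPoint 𝔑 := toNormalization_closedPoint X L φ
  have hfield : IsField ((𝔑).presheaf.stalk (τ cp)) := isField_stalk_of_eq_genericPoint _ hz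
  have hcp : 𝔤 cp = genericPoint X := apply_closedPoint X L φ
  obtain ⟨_, ⟨U, hU, rfl⟩, hηU, -⟩ := X.isBasis_affineOpens.exists_subset_of_mem_open
    (Set.mem_univ (genericPoint X)) isOpen_univ
  haveI : Nonempty U := ⟨⟨_, hηU⟩⟩
  have hU' : 𝔤 cp ∈ U := by rw [hcp]; exact hηU
  have hzV : τ cp ∈ ν ⁻¹ᵁ U := by
    show ν (τ cp) ∈ U
    rw [← Scheme.Hom.comp_apply, Scheme.Hom.toNormalization_fromNormalization]; exact hU'
  have hW : IsAffineOpen (ν ⁻¹ᵁ U) := hU.preimage ν
  letI := (Scheme.Hom.app 𝔤 U).hom.toAlgebra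
  letI algL : Algebra Γ(X, U) L := (φ.comp (algebraMap Γ(X, U) X.functionField)).toAlgebra
  letI algK : Algebra X.functionField L := φ.toAlgebra
  haveI : IsScalarTower Γ(X, U) X.functionField L := .of_algebraMap_eq' rfl
  haveI := functionField_isFractionRing_of_isAffineOpen X U hU
  let χ : Γ(Spec (CommRingCat.of L), 𝔤 ⁻¹ᵁ U) ≃ₐ[Γ(X, U)] L :=
    { (chi X L φ U hU').commRingCatIsoToRingEquiv with
      commutes' := fun a => chi_app X L φ U hU' a }
  letI := (𝔑).presheaf.algebra_section_stalk ⟨τ cp, hzV⟩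
  haveI := hW.isLocalization_stalk ⟨τ cp, hzV⟩
  have key : ∀ b : Γ(𝔑, ν ⁻¹ᵁ U), (Scheme.stalkClosedPointTo τ).hom
      (algebraMap Γ(𝔑, ν ⁻¹ᵁ U) ((𝔑).presheaf.stalk (τ cp)) b) =
      χ (((Scheme.Hom.normalizationObjIso 𝔤 hU).hom b :
        integralClosure Γ(X, U) Γ(Spec (CommRingCat.of L), 𝔤 ⁻¹ᵁ U)) :
          Γ(Spec (CommRingCat.of L), 𝔤 ⁻¹ᵁ U)) := fun b =>
    congrArg (fun ψ => ψ.hom b) (stalkClosedPointTo_germ X L φ U hU hU' hzV)
  have hint : ∀ b : Γ(𝔑, ν ⁻¹ᵁ U), IsIntegral Γ(X, U) ((Scheme.stalkClosedPointTo τ).hom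
      (algebraMap Γ(𝔑, ν ⁻¹ᵁ U) ((𝔑).presheaf.stalk (τ cp)) b)) := fun b => by
    rw [key]
    exact (isIntegral_algEquiv χ).mpr ((Scheme.Hom.normalizationObjIso 𝔤 hU).hom b).2
  refine ⟨inferInstance, isNormalScheme_normalization_gen X L φ, preimage_genericPoint X L φ,
    hz, ?_, ?_⟩
  · rw [injective_iff_map_eq_zero]
    intro o ho
    by_contra hne
    obtain ⟨u, hu⟩ := hfield.mul_inv_cancel hne
    have := congrArg (Scheme.stalkClosedPointTo τ).hom hu
    rw [map_mul, ho, zero_mul, map_one] at this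
    exact zero_ne_one this
  · ext y
    simp only [Set.mem_range, Set.mem_setOf_eq]
    constructor
    · rintro ⟨o, rfl⟩
      show IsIntegral X.functionField _
      obtain ⟨⟨b, s'⟩, rfl⟩ := IsLocalization.mk'_surjective
        (hW.primeIdealOf ⟨τ cp, hzV⟩).asIdeal.primeCompl o
      have hspec := IsLocalization.mk'_spec ((𝔑).presheaf.stalk (τ cp)) b s'
      have h1 := congrArg (Scheme.stalkClosedPointTo τ).hom hspec
      rw [map_mul] at h1
      have hunit : IsUnit ((Scheme.stalkClosedPointTo τ).hom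
          (algebraMap Γ(𝔑, ν ⁻¹ᵁ U) ((𝔑).presheaf.stalk (τ cp)) (s' : Γ(𝔑, ν ⁻¹ᵁ U)))) :=
        (IsLocalization.map_units _ s').map _
      have hne := hunit.ne_zero
      have hc : IsIntegral X.functionField ((Scheme.stalkClosedPointTo τ).hom
          (algebraMap Γ(𝔑, ν ⁻¹ᵁ U) ((𝔑).presheaf.stalk (τ cp)) b)) := (hint b).tower_top
      have hc' : IsIntegral X.functionField ((Scheme.stalkClosedPointTo τ).hom
          (algebraMap Γ(𝔑, ν ⁻¹ᵁ U) ((𝔑).presheaf.stalk (τ cp)) (s' : Γ(𝔑, ν ⁻¹ᵁ U)))) :=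
        (hint s').tower_top
      rw [← eq_mul_inv_iff_mul_eq₀ hne] at h1
      rw [h1]
      exact hc.mul hc'.inv
    · intro hy
      have hy' : IsIntegral X.functionField y := hy
      have halg : IsAlgebraic Γ(X, U) y :=
        (IsFractionRing.isAlgebraic_iff Γ(X, U) X.functionField L).mpr hy'.isAlgebraic
      obtain ⟨a, ha0, hay⟩ := halg.exists_integral_multiple
      let x' : integralClosure Γ(X, U) Γ(Spec (CommRingCat.of L), 𝔤 ⁻¹ᵁ U) :=
        ⟨χ.symm (a • y), (isIntegral_algEquiv χ.symm).mpr hay⟩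
      have hb : (Scheme.stalkClosedPointTo τ).hom
          (algebraMap Γ(𝔑, ν ⁻¹ᵁ U) ((𝔑).presheaf.stalk (τ cp))
            ((Scheme.Hom.normalizationObjIso 𝔤 hU).inv x')) = a • y := by
        rw [key]
        have h2 : (Scheme.Hom.normalizationObjIso 𝔤 hU).hom
            ((Scheme.Hom.normalizationObjIso 𝔤 hU).inv x') = x' :=
          congrArg (fun ψ => ψ.hom x') (Scheme.Hom.normalizationObjIso 𝔤 hU).inv_hom_id
        rw [h2]
        exact χ.apply_symm_apply _
      have ha : (Scheme.stalkClosedPointTo τ).hom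
          (algebraMap Γ(𝔑, ν ⁻¹ᵁ U) ((𝔑).presheaf.stalk (τ cp))
            ((Scheme.Hom.app ν U).hom a)) = algebraMap Γ(X, U) L a := by
        rw [key]
        have h := Scheme.Hom.fromNormalization_app 𝔤 hU
        have h2 : (Scheme.Hom.normalizationObjIso 𝔤 hU).hom ((Scheme.Hom.app ν U).hom a) =
            algebraMap Γ(X, U) (integralClosure Γ(X, U)
              Γ(Spec (CommRingCat.of L), 𝔤 ⁻¹ᵁ U)) a := by
          rw [h]
          exact congrArg (fun ψ => ψ.hom (algebraMap Γ(X, U) (integralClosure Γ(X, U)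
            Γ(Spec (CommRingCat.of L), 𝔤 ⁻¹ᵁ U)) a))
            (Scheme.Hom.normalizationObjIso 𝔤 hU).inv_hom_id
        rw [h2]
        exact χ.commutes a
      have ha_ne : algebraMap Γ(X, U) L a ≠ 0 := by
        show φ (algebraMap Γ(X, U) X.functionField a) ≠ 0
        rw [Ne, map_eq_zero, map_eq_zero_iff _ (IsFractionRing.injective Γ(X, U) X.functionField)]
        exact ha0
      have hga : algebraMap Γ(𝔑, ν ⁻¹ᵁ U) ((𝔑).presheaf.stalk (τ cp))
          ((Scheme.Hom.app ν U).hom a) ≠ 0 := by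
        intro h0
        rw [h0, map_zero] at ha
        exact ha_ne ha.symm
      obtain ⟨u, hu⟩ := hfield.mul_inv_cancel hga
      refine ⟨algebraMap Γ(𝔑, ν ⁻¹ᵁ U) ((𝔑).presheaf.stalk (τ cp))
        ((Scheme.Hom.normalizationObjIso 𝔤 hU).inv x') * u, ?_⟩
      have hsu : (Scheme.stalkClosedPointTo τ).hom u = (algebraMap Γ(X, U) L a)⁻¹ := by
        have := congrArg (Scheme.stalkClosedPointTo τ).hom hu
        rw [map_mul, ha, map_one] at this
        exact eq_inv_of_mul_eq_one_right this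
      rw [map_mul, hb, hsu, Algebra.smul_def, mul_comm, ← mul_assoc, inv_mul_cancel₀ ha_ne,
        one_mul]

end Gen

end Groth.Agent.Helper1.NAff
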