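import Mathlib
import Groth.Prelude.Def_Curv2
import Groth.Prelude.Def_Found
import Groth.Agent.Lib.Helper1.NAff2

/-!
# Finiteness of the normalization of a Japanese integral scheme
-/

set_option autoImplicit false

namespace Groth.Agent.Helper1.NAff

open CategoryTheory AlgebraicGeometry TopologicalSpace

universe u

theorem finite_integralClosure_of_isN2 (A L : Type u) [CommRing A] [IsDomain A] [CommRing L]
    [Algebra A L] [IsFractionRing A L] (h : CAlg.IsN2 A) :
    Module.Finite A (integralClosure A L) := by
  haveI : Module.Finite A (integralClosure A (FractionRing A)) :=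
    h (FractionRing A) inferInstance
  let e : integralClosure A (FractionRing A) ≃ₐ[A] integralClosure A L :=
    (FractionRing.algEquiv A L).mapIntegralClosure
  exact Module.Finite.equiv e.toLinearEquiv

theorem isFinite_normalizationι (X : Scheme.{u}) [IsIntegral X]
    [QuasiCompact (X.fromSpecStalk (genericPoint X))]
    [QuasiSeparated (X.fromSpecStalk (genericPoint X))]
    (hJ : ∀ (U : X.Opens), IsAffineOpen U → ∀ (hne : Nonempty ↥U),
      @CAlg.IsN2 ↑Γ(X, U) _ (@IsIntegral.component_integral X _ U hne)) :
    IsFinite (Curv2.normalizationι X) := by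
  show IsFinite (X.fromSpecStalk (genericPoint X)).fromNormalization
  rw [fromNormalization_iff _ @IsFinite]
  intro U
  rcases isEmpty_or_nonempty U.1 with hemp | hne
  · have hbot : U.1 = ⊥ := by
      rw [eq_bot_iff]
      intro x hx
      exact (hemp.false ⟨x, hx⟩).elim
    haveI : Subsingleton Γ(X, U.1) := by rw [hbot]; infer_instance
    haveI : IsEmpty (Spec Γ(X, U.1)) := inferInstanceAs (IsEmpty (PrimeSpectrum Γ(X, U.1)))
    haveI : IsIso (Spec.map
      ((X.fromSpecStalk (genericPoint X)).normalizationDiagramMap.app (.op U.1))) :=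
      isIso_of_isEmpty _
    infer_instance
  · letI := ((X.fromSpecStalk (genericPoint X)).app U.1).hom.toAlgebra
    haveI := isFractionRing_app X U.1 U.2
    haveI : IsDomain Γ(X, U.1) := inferInstance
    show IsFinite (Spec.map (CommRingCat.ofHom (algebraMap Γ(X, U.1)
      (integralClosure Γ(X, U.1) Γ(Spec (X.presheaf.stalk (genericPoint X)),
        (X.fromSpecStalk (genericPoint X)) ⁻¹ᵁ U.1)))))
    rw [IsFinite.SpecMap_iff]
    haveI := finite_integralClosure_of_isN2 Γ(X, U.1) Γ(Spec (X.presheaf.stalk (genericPoint X)),
        (X.fromSpecStalk (genericPoint X)) ⁻¹ᵁ U.1) (hJ U.1 U.2 hne)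
    exact RingHom.finite_algebraMap.mpr inferInstance

end Groth.Agent.Helper1.NAff
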