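import Mathlib
import Groth.Agent.Lib.Helper1.NU2
import Groth.Prelude.Def_Brnch

/-!
# Counting branches: ring-level lemmas
-/

set_option autoImplicit false

namespace Groth.Agent.Helper1.NB

universe u

section General

variable {R S Ω : Type*} [CommRing R] [CommRing S] [Field Ω]

theorem ker_comp_mk (m : MaximalSpectrum S) (σ : S ⧸ m.asIdeal →+* Ω) :
    RingHom.ker (σ.comp (Ideal.Quotient.mk m.asIdeal)) = m.asIdeal := by
  refine (m.isMaximal.eq_of_le (RingHom.ker_ne_top _) ?_).symm
  intro a ha
  rw [RingHom.mem_ker, RingHom.comp_apply, Ideal.Quotient.eq_zero_iff_mem.mpr ha, map_zero]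

/-- decomposition of extensions of `ι` along an integral map according to the kernel -/
theorem card_sigma_maximalSpectrum (f : R →+* S) (hf : f.IsIntegral) (ι : R →+* Ω)
    (hι : (RingHom.ker ι).IsMaximal) :
    ENat.card (Σ m : MaximalSpectrum S, {σ : S ⧸ m.asIdeal →+* Ω //
      σ.comp ((Ideal.Quotient.mk m.asIdeal).comp f) = ι}) =
    ENat.card {τ : S →+* Ω // τ.comp f = ι} := by
  refine ENat.card_congr (Equiv.ofBijective
    (fun x => ⟨x.2.1.comp (Ideal.Quotient.mk x.1.asIdeal), by
      rw [RingHom.comp_assoc]; exact x.2.2⟩) ⟨?_, ?_⟩)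
  · rintro ⟨m₁, σ₁, h₁⟩ ⟨m₂, σ₂, h₂⟩ h
    have h' : σ₁.comp (Ideal.Quotient.mk m₁.asIdeal) =
        σ₂.comp (Ideal.Quotient.mk m₂.asIdeal) := congrArg Subtype.val h
    have hm : m₁ = m₂ := MaximalSpectrum.ext ((ker_comp_mk m₁ σ₁).symm.trans
      ((congrArg (fun g : S →+* Ω => RingHom.ker g) h').trans (ker_comp_mk m₂ σ₂)))
    subst hm
    have hσ : σ₁ = σ₂ := Ideal.Quotient.ringHom_ext h'
    subst hσ
    rfl
  · rintro ⟨τ, hτ⟩
    haveI : (RingHom.ker τ).IsPrime := RingHom.ker_isPrime τ
    have hmax : (RingHom.ker τ).IsMaximal := by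
      apply Ideal.isMaximal_of_isIntegral_of_isMaximal_comap' f hf
      rw [RingHom.comap_ker, hτ]
      exact hι
    refine ⟨⟨⟨RingHom.ker τ, hmax⟩,
      Ideal.Quotient.lift (RingHom.ker τ) τ (fun a ha => ha), ?_⟩, ?_⟩
    · ext a
      simp only [RingHom.comp_apply, Ideal.Quotient.lift_mk]
      exact RingHom.congr_fun hτ a
    · apply Subtype.ext
      ext a
      simp

theorem card_primes_algEquiv {A B B' : Type*} [CommRing A] [CommRing B] [CommRing B']
    [Algebra A B] [Algebra A B'] (σ : B ≃ₐ[A] B') (p : Ideal A) :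
    ENat.card {Q : PrimeSpectrum B' // Q.asIdeal.comap (algebraMap A B') = p} =
    ENat.card {Q : PrimeSpectrum B // Q.asIdeal.comap (algebraMap A B) = p} := by
  have hc : (σ : B →+* B').comp (algebraMap A B) = algebraMap A B' := by
    ext a; simp
  have hc' : (σ.symm : B' →+* B).comp (algebraMap A B') = algebraMap A B := by
    ext a; simp
  refine ENat.card_congr
    { toFun := fun Q => ⟨PrimeSpectrum.comap (σ : B →+* B') Q.1, by
        show (Q.1.asIdeal.comap (σ : B →+* B')).comap (algebraMap A B) = p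
        rw [Ideal.comap_comap, hc]; exact Q.2⟩
      invFun := fun Q => ⟨PrimeSpectrum.comap (σ.symm : B' →+* B) Q.1, by
        show (Q.1.asIdeal.comap (σ.symm : B' →+* B)).comap (algebraMap A B') = p
        rw [Ideal.comap_comap, hc']; exact Q.2⟩
      left_inv := fun Q => by
        apply Subtype.ext
        apply PrimeSpectrum.ext
        show (Q.1.asIdeal.comap (σ : B →+* B')).comap (σ.symm : B' →+* B) = Q.1.asIdeal
        rw [Ideal.comap_comap]
        ext b; simp
      right_inv := fun Q => by
        apply Subtype.ext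
        apply PrimeSpectrum.ext
        show (Q.1.asIdeal.comap (σ.symm : B' →+* B)).comap (σ : B →+* B') = Q.1.asIdeal
        rw [Ideal.comap_comap]
        ext b; simp }

theorem card_ext_algEquiv {A B B' Ω' : Type*} [CommRing A] [CommRing B] [CommRing B']
    [Algebra A B] [Algebra A B'] [CommRing Ω'] (σ : B ≃ₐ[A] B') (j : A →+* Ω') :
    ENat.card {τ : B' →+* Ω' // τ.comp (algebraMap A B') = j} =
    ENat.card {τ : B →+* Ω' // τ.comp (algebraMap A B) = j} := by
  have hc : (σ : B →+* B').comp (algebraMap A B) = algebraMap A B' := by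
    ext a; simp
  have hc' : (σ.symm : B' →+* B).comp (algebraMap A B') = algebraMap A B := by
    ext a; simp
  refine ENat.card_congr
    { toFun := fun τ => ⟨τ.1.comp (σ : B →+* B'), by
        rw [RingHom.comp_assoc, hc]; exact τ.2⟩
      invFun := fun τ => ⟨τ.1.comp (σ.symm : B' →+* B), by
        rw [RingHom.comp_assoc, hc']; exact τ.2⟩
      left_inv := fun τ => by
        apply Subtype.ext
        ext b; simp
      right_inv := fun τ => by
        apply Subtype.ext
        ext b; simp }

/-- the number of embeddings over `K`, in the form used by `Field.Emb` -/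
theorem card_emb_eq {K E Ω' : Type*} [Field K] [Field E] [Field Ω'] [IsAlgClosed Ω']
    (ρ : K →+* E) (hρ : ρ.IsIntegral) (J : K →+* Ω') :
    ENat.card {τ' : E →+* Ω' // τ'.comp ρ = J} =
      (letI := ρ.toAlgebra; ENat.card (Field.Emb K E)) := by
  letI := ρ.toAlgebra
  letI := J.toAlgebra
  haveI : Algebra.IsIntegral K E := ⟨hρ⟩
  haveI : Algebra.IsAlgebraic K E := inferInstance
  show _ = ENat.card (Field.Emb K E)
  refine ENat.card_congr (Equiv.trans ?_ (Field.embEquivOfIsAlgClosed K E Ω').symm)
  exact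
    { toFun := fun τ' => { toRingHom := τ'.1, commutes' := fun k => RingHom.congr_fun τ'.2 k }
      invFun := fun a => ⟨a.toRingHom, a.comp_algebraMap⟩
      left_inv := fun τ' => rfl
      right_inv := fun a => rfl }

theorem card_sigma_eq_tsum {α : Type*} (β : α → Type*) :
    ENat.card (Σ a, β a) = ∑' a, ENat.card (β a) := by
  have hA : ∑' a, ((ENat.card (β a) : ℕ∞) : ENNReal) =
      ((ENat.card (Σ a, β a) : ℕ∞) : ENNReal) := by
    rw [← ENNReal.tsum_one, ENNReal.tsum_sigma' (fun _ => (1 : ENNReal))]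
    exact tsum_congr fun a => ENNReal.tsum_one.symm
  have hS : HasSum (fun a => ENat.card (β a)) (ENat.card (Σ a, β a)) := by
    rw [← ENat.isClosedEmbedding_toENNReal.isInducing.hasSum_iff (g := ENat.toENNRealRingHom)]
    have h := ENNReal.summable (f := fun a => ((ENat.card (β a) : ℕ∞) : ENNReal)) |>.hasSum
    rw [hA] at h
    exact h
  exact hS.tsum_eq.symm

end General

end Groth.Agent.Helper1.NB
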