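import Mathlib
import Groth.Agent.Lib.Helper1.NB1

/-!
# Counting branches: localization of the integral closure
-/

set_option autoImplicit false

namespace Groth.Agent.Helper1.NB

universe u

section Loc

variable (A : Type u) [CommRing A] [IsDomain A] (p : Ideal A) [p.IsPrime]
  (D : Type u) [CommRing D] [IsDomain D] [Algebra A D] [IsLocalization.AtPrime D p]

theorem card_maximalSpectrum_localization :
    ENat.card (MaximalSpectrum (integralClosure D (FractionRing D))) =
    ENat.card {Q : PrimeSpectrum (integralClosure A (FractionRing A)) //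
      Q.asIdeal.comap (algebraMap A (integralClosure A (FractionRing A))) = p} := by
  letI := (NU.toB A p D).toAlgebra
  haveI := NU.isLocalization_toB A p D
  haveI : IsLocalRing D := IsLocalization.AtPrime.isLocalRing D p
  have hsq := NU.toB_comp A p D
  have hint : (algebraMap D (integralClosure D (FractionRing D))).IsIntegral :=
    algebraMap_isIntegral_iff.mpr inferInstance
  have hmD : (IsLocalRing.maximalIdeal D).comap (algebraMap A D) = p :=
    IsLocalization.AtPrime.comap_maximalIdeal D p
  have hcc : ∀ P : Ideal (integralClosure D (FractionRing D)),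
      (P.comap (NU.toB A p D)).comap (algebraMap A (integralClosure A (FractionRing A))) =
      (P.comap (algebraMap D (integralClosure D (FractionRing D)))).comap (algebraMap A D) := by
    intro P
    rw [Ideal.comap_comap, Ideal.comap_comap, hsq]
  have h1 : ∀ m : MaximalSpectrum (integralClosure D (FractionRing D)),
      (m.asIdeal.comap (NU.toB A p D)).comap
        (algebraMap A (integralClosure A (FractionRing A))) = p := by
    intro m
    haveI := m.isMaximal
    rw [hcc, IsLocalRing.eq_maximalIdeal
      (Ideal.isMaximal_comap_of_isIntegral_of_isMaximal' _ hint m.asIdeal), hmD]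
  refine ENat.card_congr (Equiv.ofBijective
    (fun m => ⟨⟨m.asIdeal.comap (NU.toB A p D), by
      haveI := m.isMaximal.isPrime; infer_instance⟩, h1 m⟩) ⟨?_, ?_⟩)
  · intro m₁ m₂ h
    have h' : m₁.asIdeal.comap (NU.toB A p D) = m₂.asIdeal.comap (NU.toB A p D) :=
      congrArg (fun Q => Q.1.asIdeal) h
    have h'' : Ideal.under (integralClosure A (FractionRing A)) m₁.asIdeal =
        Ideal.under (integralClosure A (FractionRing A)) m₂.asIdeal := h'
    have e1 := IsLocalization.map_comap (Algebra.algebraMapSubmonoid
      (integralClosure A (FractionRing A)) p.primeCompl)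
      (integralClosure D (FractionRing D)) m₁.asIdeal
    have e2 := IsLocalization.map_comap (Algebra.algebraMapSubmonoid
      (integralClosure A (FractionRing A)) p.primeCompl)
      (integralClosure D (FractionRing D)) m₂.asIdeal
    apply MaximalSpectrum.ext
    exact e1.symm.trans ((congrArg (Ideal.map (algebraMap _ _)) h'').trans e2)
  · rintro ⟨Q, hQ⟩
    have hdisj : Disjoint ((Algebra.algebraMapSubmonoid
        (integralClosure A (FractionRing A)) p.primeCompl : Submonoid _) : Set _)
        (Q.asIdeal : Set (integralClosure A (FractionRing A))) := by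
      rw [Set.disjoint_left]
      rintro _ ⟨s, hs, rfl⟩ hsQ
      apply hs
      rw [← hQ]
      exact hsQ
    have hP := IsLocalization.isPrime_of_isPrime_disjoint _
      (integralClosure D (FractionRing D)) Q.asIdeal Q.isPrime hdisj
    have hcm := IsLocalization.comap_map_of_isPrime_disjoint _
      (integralClosure D (FractionRing D)) Q.isPrime hdisj
    have hcm' : (Ideal.map (algebraMap (integralClosure A (FractionRing A))
        (integralClosure D (FractionRing D))) Q.asIdeal).comap (NU.toB A p D) = Q.asIdeal := hcm
    have hP0 : (Ideal.map (algebraMap (integralClosure A (FractionRing A))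
        (integralClosure D (FractionRing D))) Q.asIdeal).comap
        (algebraMap D (integralClosure D (FractionRing D))) = IsLocalRing.maximalIdeal D := by
      have e := IsLocalization.map_comap p.primeCompl D ((Ideal.map (algebraMap
        (integralClosure A (FractionRing A))
        (integralClosure D (FractionRing D))) Q.asIdeal).comap
        (algebraMap D (integralClosure D (FractionRing D))))
      have e2 : Ideal.under A ((Ideal.map (algebraMap (integralClosure A (FractionRing A))
          (integralClosure D (FractionRing D))) Q.asIdeal).comap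
          (algebraMap D (integralClosure D (FractionRing D)))) = p := by
        show (Ideal.comap _ _).comap (algebraMap A D) = p
        rw [← hcc, hcm', hQ]
      exact e.symm.trans ((congrArg (Ideal.map (algebraMap A D)) e2).trans
        (IsLocalization.AtPrime.map_eq_maximalIdeal p D))
    have hmax : (Ideal.map (algebraMap (integralClosure A (FractionRing A))
        (integralClosure D (FractionRing D))) Q.asIdeal).IsMaximal := by
      haveI := hP
      apply Ideal.isMaximal_of_isIntegral_of_isMaximal_comap' _ hint
      rw [hP0]
      exact IsLocalRing.maximalIdeal.isMaximal D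
    refine ⟨⟨_, hmax⟩, ?_⟩
    apply Subtype.ext
    apply PrimeSpectrum.ext
    exact hcm'

include p in
theorem card_ext_localization {Ω : Type*} [Field Ω] (ι : D →+* Ω) :
    ENat.card {τ : integralClosure D (FractionRing D) →+* Ω //
      τ.comp (algebraMap D (integralClosure D (FractionRing D))) = ι} =
    ENat.card {τ₀ : integralClosure A (FractionRing A) →+* Ω //
      τ₀.comp (algebraMap A (integralClosure A (FractionRing A))) =
        ι.comp (algebraMap A D)} := by
  letI := (NU.toB A p D).toAlgebra
  haveI := NU.isLocalization_toB A p D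
  have hsq := NU.toB_comp A p D
  refine ENat.card_congr (Equiv.ofBijective
    (fun τ => ⟨τ.1.comp (NU.toB A p D), by
      rw [RingHom.comp_assoc, hsq, ← RingHom.comp_assoc, τ.2]⟩) ⟨?_, ?_⟩)
  · rintro ⟨τ₁, h₁⟩ ⟨τ₂, h₂⟩ h
    have h' : τ₁.comp (NU.toB A p D) = τ₂.comp (NU.toB A p D) := congrArg Subtype.val h
    exact Subtype.ext (IsLocalization.ringHom_ext
      (Algebra.algebraMapSubmonoid (integralClosure A (FractionRing A)) p.primeCompl) h')
  · rintro ⟨τ₀, h₀⟩
    have hun : ∀ y : Algebra.algebraMapSubmonoid (integralClosure A (FractionRing A))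
        p.primeCompl, IsUnit (τ₀ y) := by
      rintro ⟨_, s, hs, rfl⟩
      have h1 : τ₀ (algebraMap A _ s) = ι (algebraMap A D s) := RingHom.congr_fun h₀ s
      show IsUnit (τ₀ (algebraMap A _ s))
      rw [h1]
      exact (IsLocalization.map_units D (⟨s, hs⟩ : p.primeCompl)).map ι
    have hl : (IsLocalization.lift hun).comp (NU.toB A p D) = τ₀ := IsLocalization.lift_comp hun
    refine ⟨⟨IsLocalization.lift hun, ?_⟩, ?_⟩
    · apply IsLocalization.ringHom_ext p.primeCompl
      rw [RingHom.comp_assoc, ← hsq, ← RingHom.comp_assoc, hl, h₀]
    · apply Subtype.ext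
      exact hl

end Loc

section Brn

variable (A₀ : Type u) [CommRing A₀] [IsDomain A₀] (p : Ideal A₀) [p.IsPrime]
  (A : Type u) [CommRing A] [IsLocalRing A] [IsDomain A] [Algebra A₀ A]
  [IsLocalization.AtPrime A p]

theorem nilradical_eq_bot : nilradical A = ⊥ := by
  rw [nilradical_eq_zero]; rfl

theorem isDomain_red : IsDomain (CAlg2.red A) := by
  haveI : (nilradical A).IsPrime := by rw [nilradical_eq_bot]; exact Ideal.isPrime_bot
  infer_instance

theorem isLocalization_red : IsLocalization.AtPrime (CAlg2.red A) p := by
  have hinj : Function.Injective (Ideal.Quotient.mkₐ A₀ (nilradical A)) := by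
    rw [injective_iff_map_eq_zero]
    intro a ha
    have h1 : a ∈ nilradical A := Ideal.Quotient.eq_zero_iff_mem.mp ha
    rw [nilradical_eq_bot] at h1
    exact Ideal.mem_bot.mp h1
  exact IsLocalization.isLocalization_of_algEquiv p.primeCompl
    (AlgEquiv.ofBijective (Ideal.Quotient.mkₐ A₀ (nilradical A))
      ⟨hinj, Ideal.Quotient.mkₐ_surjective A₀ _⟩)

theorem minimalPrimes_finite : (minimalPrimes A).Finite := by
  rw [IsDomain.minimalPrimes_eq_singleton_bot]; exact Set.finite_singleton _

theorem numBranches_eq :
    Brnch.numBranches A = ENat.card {Q : PrimeSpectrum (integralClosure A₀ (FractionRing A₀)) //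
      Q.asIdeal.comap (algebraMap A₀ (integralClosure A₀ (FractionRing A₀))) = p} := by
  haveI := isDomain_red A
  haveI := isLocalization_red A₀ p A
  unfold Brnch.numBranches
  rw [if_pos (minimalPrimes_finite A)]
  exact card_maximalSpectrum_localization A₀ p (CAlg2.red A)

include p in
theorem numGeomBranches_eq :
    Brnch.numGeomBranches A = ENat.card {τ₀ : integralClosure A₀ (FractionRing A₀) →+*
        AlgebraicClosure (IsLocalRing.ResidueField A) //
      τ₀.comp (algebraMap A₀ (integralClosure A₀ (FractionRing A₀))) =
        (Brnch.toClosure A).comp (algebraMap A₀ A)} := by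
  haveI := isDomain_red A
  haveI := isLocalization_red A₀ p A
  unfold Brnch.numGeomBranches
  rw [if_pos (minimalPrimes_finite A)]
  have hker : RingHom.ker (Brnch.toClosure A) = IsLocalRing.maximalIdeal A := by
    unfold Brnch.toClosure
    rw [RingHom.ker_comp_of_injective _ (RingHom.injective _), IsLocalRing.ker_residue]
  have hint : ((algebraMap (CAlg2.red A) (CAlg2.normRed A)).comp
      (Ideal.Quotient.mk (nilradical A))).IsIntegral :=
    RingHom.IsIntegral.trans _ _
      (RingHom.isIntegral_of_surjective _ Ideal.Quotient.mk_surjective)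
      (algebraMap_isIntegral_iff.mpr inferInstance)
  have h1 := card_sigma_maximalSpectrum ((algebraMap (CAlg2.red A) (CAlg2.normRed A)).comp
      (Ideal.Quotient.mk (nilradical A))) hint (Brnch.toClosure A)
      (by rw [hker]; infer_instance)
  have h1' : ENat.card (Σ m' : MaximalSpectrum (CAlg2.normRed A), Brnch.Emb A m') = _ := h1
  refine h1'.trans ?_
  let ιD : CAlg2.red A →+* AlgebraicClosure (IsLocalRing.ResidueField A) :=
    Ideal.Quotient.lift (nilradical A) (Brnch.toClosure A) (fun a ha => by
      rw [nilradical_eq_bot] at ha
      rw [Ideal.mem_bot.mp ha, map_zero])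
  have hιD : ιD.comp (Ideal.Quotient.mk (nilradical A)) = Brnch.toClosure A :=
    RingHom.ext fun a => by
      rw [RingHom.comp_apply]; exact Ideal.Quotient.lift_mk _ _ _
  have h2 : ENat.card {τ : CAlg2.normRed A →+* AlgebraicClosure (IsLocalRing.ResidueField A) //
        τ.comp ((algebraMap (CAlg2.red A) (CAlg2.normRed A)).comp
          (Ideal.Quotient.mk (nilradical A))) = Brnch.toClosure A} =
      ENat.card {τ : CAlg2.normRed A →+* AlgebraicClosure (IsLocalRing.ResidueField A) //
        τ.comp (algebraMap (CAlg2.red A) (CAlg2.normRed A)) = ιD} :=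
    ENat.card_congr (Equiv.subtypeEquivRight fun τ => by
      rw [← RingHom.comp_assoc, ← hιD, RingHom.cancel_right Ideal.Quotient.mk_surjective])
  refine h2.trans ?_
  refine (card_ext_localization A₀ p (CAlg2.red A) ιD).trans ?_
  have h3 : ιD.comp (algebraMap A₀ (CAlg2.red A)) =
      (Brnch.toClosure A).comp (algebraMap A₀ A) := by
    ext a
    show ιD (Ideal.Quotient.mk _ (algebraMap A₀ A a)) = _
    exact Ideal.Quotient.lift_mk _ _ _
  rw [h3]

end Brn

end Groth.Agent.Helper1.NB
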