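import Mathlib
import Groth.Agent.Lib.Helper1.NB2

/-!
# Counting branches: scheme-level lemmas (fibres of an affine morphism over an affine open)
-/

set_option autoImplicit false

namespace Groth.Agent.Helper1.NB

open CategoryTheory AlgebraicGeometry TopologicalSpace

universe u

section Aff

variable {N : Scheme.{u}} {V : N.Opens} (hV : IsAffineOpen V)

include hV

theorem ker_evaluation (z : N) (hz : z ∈ V) :
    RingHom.ker (N.evaluation V z hz).hom = (hV.primeIdealOf ⟨z, hz⟩).asIdeal := by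
  letI := N.presheaf.algebra_section_stalk ⟨z, hz⟩
  haveI := hV.isLocalization_stalk ⟨z, hz⟩
  have h1 : (N.evaluation V z hz).hom = (N.residue z).hom.comp
      (algebraMap Γ(N, V) (N.presheaf.stalk z)) := rfl
  have h2 : RingHom.ker (N.residue z).hom = IsLocalRing.maximalIdeal (N.presheaf.stalk z) :=
    IsLocalRing.ker_residue
  rw [h1, ← RingHom.comap_ker, h2]
  exact IsLocalization.AtPrime.comap_maximalIdeal (N.presheaf.stalk z) _

theorem exists_resLift {Ω : Type*} [Field Ω] (z : N) (hz : z ∈ V) (τ : Γ(N, V) →+* Ω)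
    (hker : RingHom.ker τ = (hV.primeIdealOf ⟨z, hz⟩).asIdeal) :
    ∃ τ' : N.residueField z →+* Ω, τ'.comp (N.evaluation V z hz).hom = τ := by
  letI := N.presheaf.algebra_section_stalk ⟨z, hz⟩
  haveI := hV.isLocalization_stalk ⟨z, hz⟩
  have hun : ∀ y : (hV.primeIdealOf ⟨z, hz⟩).asIdeal.primeCompl, IsUnit (τ y) := by
    intro y
    apply IsUnit.mk0
    intro h0
    have h1 : (y : Γ(N, V)) ∈ RingHom.ker τ := RingHom.mem_ker.mpr h0
    rw [hker] at h1
    exact y.2 h1
  have hl : (IsLocalization.lift hun : N.presheaf.stalk z →+* Ω).comp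
      (algebraMap Γ(N, V) (N.presheaf.stalk z)) = τ := IsLocalization.lift_comp hun
  have hk : ∀ a : N.presheaf.stalk z, a ∈ IsLocalRing.maximalIdeal (N.presheaf.stalk z) →
      (IsLocalization.lift hun : N.presheaf.stalk z →+* Ω) a = 0 := by
    intro a ha
    obtain ⟨⟨b, s⟩, rfl⟩ := IsLocalization.mk'_surjective
      (hV.primeIdealOf ⟨z, hz⟩).asIdeal.primeCompl a
    rw [IsLocalization.AtPrime.mk'_mem_maximal_iff (N.presheaf.stalk z)
      (hV.primeIdealOf ⟨z, hz⟩).asIdeal] at ha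
    rw [IsLocalization.lift_mk']
    have : τ b = 0 := by
      rw [← RingHom.mem_ker, hker]; exact ha
    rw [this, zero_mul]
  haveI : IsLocalHom (IsLocalization.lift hun : N.presheaf.stalk z →+* Ω) := by
    constructor
    intro a ha
    by_contra hna
    have hm : a ∈ IsLocalRing.maximalIdeal (N.presheaf.stalk z) :=
      (IsLocalRing.mem_maximalIdeal a).mpr hna
    rw [hk a hm] at ha
    exact not_isUnit_zero ha
  let τ' : N.residueField z →+* Ω := IsLocalRing.ResidueField.lift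
    (IsLocalization.lift hun : N.presheaf.stalk z →+* Ω)
  have h2 : τ'.comp (N.residue z).hom = IsLocalization.lift hun :=
    IsLocalRing.ResidueField.lift_comp_residue _
  refine ⟨τ', ?_⟩
  have h1 : (N.evaluation V z hz).hom = (N.residue z).hom.comp
      (algebraMap Γ(N, V) (N.presheaf.stalk z)) := rfl
  rw [h1, ← RingHom.comp_assoc, h2, hl]

theorem evaluation_epi {Ω : Type*} [Field Ω] (z : N) (hz : z ∈ V)
    (σ₁ σ₂ : N.residueField z →+* Ω)
    (h : σ₁.comp (N.evaluation V z hz).hom = σ₂.comp (N.evaluation V z hz).hom) : σ₁ = σ₂ := by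
  letI := N.presheaf.algebra_section_stalk ⟨z, hz⟩
  haveI := hV.isLocalization_stalk ⟨z, hz⟩
  have h1 : (σ₁.comp (N.residue z).hom).comp
      (algebraMap Γ(N, V) (N.presheaf.stalk z)) =
      (σ₂.comp (N.residue z).hom).comp
      (algebraMap Γ(N, V) (N.presheaf.stalk z)) := h
  have h2 := IsLocalization.ringHom_ext (hV.primeIdealOf ⟨z, hz⟩).asIdeal.primeCompl h1
  exact (RingHom.cancel_right (N.residue_surjective z)).mp h2

theorem primeIdealOf_injective (a b : V) (h : hV.primeIdealOf a = hV.primeIdealOf b) : a = b := by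
  have h2 := congrArg hV.fromSpec h
  rw [hV.fromSpec_primeIdealOf, hV.fromSpec_primeIdealOf] at h2
  exact Subtype.ext h2

theorem exists_primeIdealOf_eq (Q : PrimeSpectrum Γ(N, V)) :
    ∃ (z : N) (hz : z ∈ V), hV.primeIdealOf ⟨z, hz⟩ = Q := by
  have hz : hV.fromSpec Q ∈ V := by
    have h1 := hV.range_fromSpec
    have h2 : hV.fromSpec Q ∈ Set.range hV.fromSpec := ⟨Q, rfl⟩
    rw [h1] at h2
    exact h2
  refine ⟨hV.fromSpec Q, hz, ?_⟩
  apply hV.fromSpec.isOpenEmbedding.injective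
  rw [hV.fromSpec_primeIdealOf]

end Aff

section Fib

variable {N X : Scheme.{u}} (f : N ⟶ X) {U : X.Opens} (hU : IsAffineOpen U)
  (hV : IsAffineOpen (f ⁻¹ᵁ U)) (x : X) (hx : x ∈ U)

include hx in
theorem mem_preimage (x' : {x' : N // f x' = x}) : x'.1 ∈ f ⁻¹ᵁ U := by
  show f x'.1 ∈ U
  rw [x'.2]; exact hx

theorem comap_primeIdealOf (z : N) (hz : z ∈ f ⁻¹ᵁ U) :
    (hV.primeIdealOf ⟨z, hz⟩).asIdeal.comap (f.app U).hom =
      (hU.primeIdealOf ⟨f z, hz⟩).asIdeal := by
  have h := IsAffineOpen.comap_primeIdealOf_appLE (f := f) U hU (f ⁻¹ᵁ U) hV le_rfl hz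
  have h' : PrimeSpectrum.comap (f.app U).hom (hV.primeIdealOf ⟨z, hz⟩) =
      hU.primeIdealOf ⟨f z, hz⟩ := by
    rw [Scheme.Hom.app_eq_appLE, h]
  exact congrArg PrimeSpectrum.asIdeal h'

include hV in
theorem card_fiber_eq :
    ENat.card {x' : N // f x' = x} =
    ENat.card {Q : PrimeSpectrum Γ(N, f ⁻¹ᵁ U) //
      Q.asIdeal.comap (f.app U).hom = (hU.primeIdealOf ⟨x, hx⟩).asIdeal} := by
  have hpx : ∀ x' : {x' : N // f x' = x},
      hU.primeIdealOf ⟨f x'.1, mem_preimage f x hx x'⟩ = hU.primeIdealOf ⟨x, hx⟩ := fun x' =>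
    congrArg hU.primeIdealOf (Subtype.ext x'.2)
  refine ENat.card_congr (Equiv.ofBijective
    (fun x' => ⟨hV.primeIdealOf ⟨x'.1, mem_preimage f x hx x'⟩, by
      rw [comap_primeIdealOf f hU hV x'.1 (mem_preimage f x hx x'), hpx x']⟩) ⟨?_, ?_⟩)
  · intro a b hab
    have h1 : hV.primeIdealOf ⟨a.1, mem_preimage f x hx a⟩ =
        hV.primeIdealOf ⟨b.1, mem_preimage f x hx b⟩ := congrArg Subtype.val hab
    have h2 := primeIdealOf_injective hV _ _ h1
    exact Subtype.ext (Subtype.mk.inj h2)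
  · rintro ⟨Q, hQ⟩
    obtain ⟨z, hz, rfl⟩ := exists_primeIdealOf_eq hV Q
    have hfz : f z = x := by
      have h3 : hU.primeIdealOf ⟨f z, hz⟩ = hU.primeIdealOf ⟨x, hx⟩ :=
        PrimeSpectrum.ext ((comap_primeIdealOf f hU hV z hz).symm.trans hQ)
      exact congrArg Subtype.val (primeIdealOf_injective hU _ _ h3)
    exact ⟨⟨z, hfz⟩, rfl⟩

include hV in
theorem card_sigma_fiber {Ω : Type*} [Field Ω] (j : Γ(X, U) →+* Ω)
    (hj : RingHom.ker j = (hU.primeIdealOf ⟨x, hx⟩).asIdeal)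
    (J : ∀ x' : {x' : N // f x' = x}, X.residueField (f x'.1) →+* Ω)
    (hJ : ∀ x' : {x' : N // f x' = x},
      (J x').comp (X.evaluation U (f x'.1) (mem_preimage f x hx x')).hom = j) :
    ENat.card (Σ x' : {x' : N // f x' = x}, {τ' : N.residueField x'.1 →+* Ω //
      τ'.comp (f.residueFieldMap x'.1).hom = J x'}) =
    ENat.card {τ : Γ(N, f ⁻¹ᵁ U) →+* Ω // τ.comp (f.app U).hom = j} := by
  have hnat : ∀ (z : N) (hz : z ∈ f ⁻¹ᵁ U),
      (f.residueFieldMap z).hom.comp (X.evaluation U (f z) hz).hom =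
        (N.evaluation (f ⁻¹ᵁ U) z hz).hom.comp (f.app U).hom := by
    intro z hz
    rw [← CommRingCat.hom_comp, ← CommRingCat.hom_comp, Scheme.evaluation_naturality]
  refine ENat.card_congr (Equiv.ofBijective
    (fun y => ⟨y.2.1.comp (N.evaluation (f ⁻¹ᵁ U) y.1.1 (mem_preimage f x hx y.1)).hom, by
      rw [RingHom.comp_assoc, ← hnat, ← RingHom.comp_assoc, y.2.2, hJ]⟩) ⟨?_, ?_⟩)
  · rintro ⟨a, τa, ha⟩ ⟨b, τb, hb⟩ h
    have h' : τa.comp (N.evaluation (f ⁻¹ᵁ U) a.1 (mem_preimage f x hx a)).hom =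
        τb.comp (N.evaluation (f ⁻¹ᵁ U) b.1 (mem_preimage f x hx b)).hom :=
      congrArg Subtype.val h
    have hk : ∀ (c : {x' : N // f x' = x}) (τc : N.residueField c.1 →+* Ω),
        RingHom.ker (τc.comp (N.evaluation (f ⁻¹ᵁ U) c.1 (mem_preimage f x hx c)).hom) =
          (hV.primeIdealOf ⟨c.1, mem_preimage f x hx c⟩).asIdeal := by
      intro c τc
      rw [RingHom.ker_comp_of_injective _ τc.injective, ker_evaluation hV]
    have hab : a = b := by
      have h1 : hV.primeIdealOf ⟨a.1, mem_preimage f x hx a⟩ =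
          hV.primeIdealOf ⟨b.1, mem_preimage f x hx b⟩ :=
        PrimeSpectrum.ext ((hk a τa).symm.trans
          ((congrArg (fun g : Γ(N, f ⁻¹ᵁ U) →+* Ω => RingHom.ker g) h').trans (hk b τb)))
      exact Subtype.ext (Subtype.mk.inj (primeIdealOf_injective hV _ _ h1))
    subst hab
    have hτ : τa = τb := evaluation_epi hV _ _ τa τb h'
    subst hτ
    rfl
  · rintro ⟨τ, hτ⟩
    haveI : (RingHom.ker τ).IsPrime := RingHom.ker_isPrime τ
    obtain ⟨z, hz, hQ⟩ := exists_primeIdealOf_eq hV ⟨RingHom.ker τ, inferInstance⟩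
    have hker : RingHom.ker τ = (hV.primeIdealOf ⟨z, hz⟩).asIdeal :=
      (congrArg PrimeSpectrum.asIdeal hQ).symm
    have hfz : f z = x := by
      have h3 : hU.primeIdealOf ⟨f z, hz⟩ = hU.primeIdealOf ⟨x, hx⟩ := by
        apply PrimeSpectrum.ext
        rw [← comap_primeIdealOf f hU hV z hz, ← hker, RingHom.comap_ker, hτ, hj]
      exact congrArg Subtype.val (primeIdealOf_injective hU _ _ h3)
    obtain ⟨τ', hτ'⟩ := exists_resLift hV z hz τ hker
    refine ⟨⟨⟨z, hfz⟩, τ', ?_⟩, ?_⟩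
    · apply evaluation_epi hU (f z) hz
      rw [RingHom.comp_assoc, hnat z hz, ← RingHom.comp_assoc, hτ', hτ]
      exact (hJ ⟨z, hfz⟩).symm
    · exact Subtype.ext hτ'

theorem isIntegral_residueFieldMap [IsIntegralHom f] (z : N) :
    (f.residueFieldMap z).hom.IsIntegral := by
  obtain ⟨_, ⟨U, hU, rfl⟩, hxU, -⟩ := X.isBasis_affineOpens.exists_subset_of_mem_open
    (Set.mem_univ (f z)) isOpen_univ
  have hV : IsAffineOpen (f ⁻¹ᵁ U) := hU.preimage f
  have hz : z ∈ f ⁻¹ᵁ U := hxU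
  have hφ : (f.app U).hom.IsIntegral := IsIntegralHom.isIntegral_app f U hU
  have hnat : (f.residueFieldMap z).hom.comp (X.evaluation U (f z) hz).hom =
        (N.evaluation (f ⁻¹ᵁ U) z hz).hom.comp (f.app U).hom := by
    rw [← CommRingCat.hom_comp, ← CommRingCat.hom_comp, Scheme.evaluation_naturality]
  letI := (f.app U).hom.toAlgebra
  letI := (f.residueFieldMap z).hom.toAlgebra
  have hb : ∀ b : Γ(N, f ⁻¹ᵁ U), IsIntegral (X.residueField (f z))
      ((N.evaluation (f ⁻¹ᵁ U) z hz).hom b) := by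
    intro b
    exact IsIntegral.map_of_comp_eq (X.evaluation U (f z) hz).hom
      (N.evaluation (f ⁻¹ᵁ U) z hz).hom hnat (hφ b)
  intro y
  show IsIntegral (X.residueField (f z)) y
  letI := N.presheaf.algebra_section_stalk ⟨z, hz⟩
  haveI := hV.isLocalization_stalk ⟨z, hz⟩
  obtain ⟨a, rfl⟩ := N.residue_surjective z y
  obtain ⟨⟨b, s⟩, rfl⟩ := IsLocalization.mk'_surjective
    (hV.primeIdealOf ⟨z, hz⟩).asIdeal.primeCompl a
  have hspec : (N.residue z).hom (IsLocalization.mk' (N.presheaf.stalk z) b s) *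
      (N.evaluation (f ⁻¹ᵁ U) z hz).hom s = (N.evaluation (f ⁻¹ᵁ U) z hz).hom b := by
    have e := IsLocalization.mk'_spec (N.presheaf.stalk z) b s
    have e' := congrArg (N.residue z).hom e
    rw [map_mul] at e'
    exact e'
  have hs0 : (N.evaluation (f ⁻¹ᵁ U) z hz).hom s ≠ 0 := by
    intro h0
    have h1 : (s : Γ(N, f ⁻¹ᵁ U)) ∈ RingHom.ker (N.evaluation (f ⁻¹ᵁ U) z hz).hom :=
      RingHom.mem_ker.mpr h0
    rw [ker_evaluation hV] at h1
    exact s.2 h1
  have hy : (N.residue z).hom (IsLocalization.mk' (N.presheaf.stalk z) b s) =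
      (N.evaluation (f ⁻¹ᵁ U) z hz).hom b * ((N.evaluation (f ⁻¹ᵁ U) z hz).hom s)⁻¹ := by
    rw [← hspec, mul_assoc, mul_inv_cancel₀ hs0, mul_one]
  have h3 := (hb b).mul (hb (s : Γ(N, f ⁻¹ᵁ U))).inv
  rw [← hy] at h3
  exact h3

end Fib

end Groth.Agent.Helper1.NB
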