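import Mathlib
import Groth.Prelude.Def_Curv2
import Groth.Prelude.Def_Brnch
import Groth.Agent.Lib.Helper1.NB3
import Groth.Agent.Lib.Helper1.NAff2

/-!
# The number of (geometric) branches at a point equals the (weighted) number of points of the
normalization over it
-/

set_option autoImplicit false

namespace Groth.Agent.Helper1.NB

open CategoryTheory AlgebraicGeometry TopologicalSpace
open Groth.Agent.Helper1.NAff

universe u

section Main

variable (X : Scheme.{u}) [IsIntegral X]
  [QuasiCompact (X.fromSpecStalk (genericPoint X))]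
  [QuasiSeparated (X.fromSpecStalk (genericPoint X))]

local notation "𝔤" => Scheme.fromSpecStalk X (genericPoint X)
local notation "𝔑" => Scheme.Hom.normalization (Scheme.fromSpecStalk X (genericPoint X))
local notation "ν" => Scheme.Hom.fromNormalization (Scheme.fromSpecStalk X (genericPoint X))

theorem exists_algEquiv_integralClosure (U : X.Opens) (hU : IsAffineOpen U) [Nonempty U] :
    letI := (Scheme.Hom.app ν U).hom.toAlgebra
    Nonempty (Γ(𝔑, ν ⁻¹ᵁ U) ≃ₐ[Γ(X, U)] integralClosure Γ(X, U) (FractionRing Γ(X, U))) := by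
  letI := (Scheme.Hom.app ν U).hom.toAlgebra
  letI := (Scheme.Hom.app 𝔤 U).hom.toAlgebra
  haveI := isFractionRing_app X U hU
  let σ₁ : Γ(𝔑, ν ⁻¹ᵁ U) ≃ₐ[Γ(X, U)] integralClosure Γ(X, U)
      Γ(Spec (X.presheaf.stalk (genericPoint X)), 𝔤 ⁻¹ᵁ U) :=
    AlgEquiv.ofRingEquiv
      (f := (Scheme.Hom.normalizationObjIso 𝔤 hU).commRingCatIsoToRingEquiv) (fun a => by
        have h := Scheme.Hom.fromNormalization_app 𝔤 hU
        show (Scheme.Hom.normalizationObjIso 𝔤 hU).hom ((Scheme.Hom.app ν U).hom a) = _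
        rw [h]
        simp)
  let τ := (FractionRing.algEquiv Γ(X, U)
    Γ(Spec (X.presheaf.stalk (genericPoint X)), 𝔤 ⁻¹ᵁ U)).mapIntegralClosure
  exact ⟨σ₁.trans τ.symm⟩

theorem main7657 (x : X) :
    Brnch.numBranchesAt X x = ENat.card {x' : 𝔑 // ν x' = x} ∧
    Brnch.numGeomBranchesAt X x = ∑' x' : {x' : 𝔑 // ν x' = x},
      (letI := (Scheme.Hom.residueFieldMap ν x'.1).hom.toAlgebra
       ENat.card (Field.Emb (X.residueField (ν x'.1)) ((𝔑).residueField x'.1))) := by
  obtain ⟨_, ⟨U, hU, rfl⟩, hxU, -⟩ := X.isBasis_affineOpens.exists_subset_of_mem_open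
    (Set.mem_univ x) isOpen_univ
  haveI : Nonempty U := ⟨⟨_, hxU⟩⟩
  have hW : IsAffineOpen (ν ⁻¹ᵁ U) := hU.preimage ν
  letI := (Scheme.Hom.app ν U).hom.toAlgebra
  obtain ⟨σ⟩ := exists_algEquiv_integralClosure X U hU
  letI := X.presheaf.algebra_section_stalk ⟨x, hxU⟩
  haveI := hU.isLocalization_stalk ⟨x, hxU⟩
  constructor
  · refine (numBranches_eq Γ(X, U) (hU.primeIdealOf ⟨x, hxU⟩).asIdeal
      (X.presheaf.stalk x)).trans ?_
    refine (card_primes_algEquiv σ _).trans ?_
    exact (card_fiber_eq ν hU hW x hxU).symm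
  · have hk : RingHom.ker (Brnch.toClosure (X.presheaf.stalk x)) =
        IsLocalRing.maximalIdeal (X.presheaf.stalk x) := by
      unfold Brnch.toClosure
      rw [RingHom.ker_comp_of_injective _ (RingHom.injective _), IsLocalRing.ker_residue]
    have hj : RingHom.ker ((Brnch.toClosure (X.presheaf.stalk x)).comp
        (algebraMap Γ(X, U) (X.presheaf.stalk x))) = (hU.primeIdealOf ⟨x, hxU⟩).asIdeal := by
      rw [← RingHom.comap_ker, hk]
      exact IsLocalization.AtPrime.comap_maximalIdeal (X.presheaf.stalk x) _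
    have hJex : ∀ x' : {x' : 𝔑 // ν x' = x}, ∃ J' : X.residueField (ν x'.1) →+*
        AlgebraicClosure (IsLocalRing.ResidueField (X.presheaf.stalk x)),
        J'.comp (X.evaluation U (ν x'.1) (mem_preimage ν x hxU x')).hom =
          (Brnch.toClosure (X.presheaf.stalk x)).comp
            (algebraMap Γ(X, U) (X.presheaf.stalk x)) := by
      intro x'
      apply exists_resLift hU
      rw [hj]
      exact congrArg (fun w => (hU.primeIdealOf w).asIdeal) (Subtype.ext x'.2.symm)
    choose J hJ using hJex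
    refine (numGeomBranches_eq Γ(X, U) (hU.primeIdealOf ⟨x, hxU⟩).asIdeal
      (X.presheaf.stalk x)).trans ?_
    refine (card_ext_algEquiv σ _).trans ?_
    refine (card_sigma_fiber ν hU hW x hxU _ hj J hJ).symm.trans ?_
    rw [card_sigma_eq_tsum]
    exact tsum_congr fun x' => card_emb_eq _ (isIntegral_residueFieldMap ν x'.1) (J x')

end Main

end Groth.Agent.Helper1.NB
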