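import Mathlib
import Groth.Agent.Lib.Helper16.Sch.StalkUnr
import Groth.Agent.Lib.Helper1.LC6
import Groth.Agent.Lib.Helper1.DS1

/-!
# Separated étale schemes over a normal integral scheme with separably closed function field
-/

universe u
set_option linter.unusedSectionVars false
set_option linter.style.haveILetI false
open CategoryTheory CategoryTheory.Limits AlgebraicGeometry TopologicalSpace Opposite

namespace Groth.Agent.Helper1.NE

/-- residue field extensions of étale morphisms over separably closed residue fields are trivial -/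
theorem residueFieldMap_bijective {X P : Scheme.{u}} (c : P ⟶ X) [Etale c] (y : P)
    [IsSepClosed (X.residueField (c.base y))] : Function.Bijective (c.residueFieldMap y).hom := by
  refine ⟨RingHom.injective _, ?_⟩
  have h1 : ∃ U : P.Opens, y ∈ U ∧ FormallyUnramified (U.ι ≫ c) :=
    ⟨⊤, trivial, inferInstance⟩
  obtain ⟨-, -, hsep⟩ := (Groth.Agent.Helper16.StalkUnr.unrAt_iff_local c y).1 h1
  letI := (c.residueFieldMap y).hom.toAlgebra
  exact IsSepClosed.algebraMap_surjective (X.residueField (c.base y)) (P.residueField y)

/-- the residue field at the generic point of an integral scheme with separably closed function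
field is separably closed -/
theorem isSepClosed_residueField_generic {X : Scheme.{u}} [IsIntegral X]
    [IsSepClosed X.functionField] (x : X) (hx : x = genericPoint X) :
    IsSepClosed (X.residueField x) := by
  subst hx
  have hbij : Function.Bijective (IsLocalRing.residue (X.presheaf.stalk (genericPoint X))) := by
    refine ⟨?_, IsLocalRing.residue_surjective⟩
    exact RingHom.injective (IsLocalRing.residue (X.functionField))
  exact DS.isSepClosed_of_ringEquiv (K := X.functionField)
    (RingEquiv.ofBijective (IsLocalRing.residue (X.presheaf.stalk (genericPoint X))) hbij)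

/-- points of a fibre product with the same projections agree when one residue field extension
is trivial -/
theorem eq_of_fst_eq_snd_eq {A B S : Scheme.{u}} (a : A ⟶ S) (b : B ⟶ S)
    (w₁ w₂ : ↑(pullback a b))
    (h1 : (pullback.fst a b).base w₁ = (pullback.fst a b).base w₂)
    (h2 : (pullback.snd a b).base w₁ = (pullback.snd a b).base w₂)
    (hbij : Function.Bijective (a.residueFieldMap ((pullback.fst a b).base w₂)).hom) :
    w₁ = w₂ := by
  apply Scheme.Pullback.carrierEquiv.injective
  rw [Scheme.Pullback.carrierEquiv_eq_iff]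
  have e : (Scheme.Pullback.carrierEquiv w₁).1 = (Scheme.Pullback.carrierEquiv w₂).1 :=
    Scheme.Pullback.Triplet.ext h1 h2
  refine ⟨e, ?_⟩
  let T : Scheme.Pullback.Triplet a b := Scheme.Pullback.Triplet.ofPoint w₂
  haveI : IsIso (a.residueFieldMap T.x) := by
    have : a.residueFieldMap T.x =
        (RingEquiv.ofBijective (a.residueFieldMap T.x).hom hbij).toCommRingCatIso.hom := rfl
    rw [this]
    infer_instance
  haveI : IsIso ((S.residueFieldCongr T.hx).inv ≫ a.residueFieldMap T.x) := inferInstance
  haveI : IsIso (T.tensorInr) :=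
    pushout_inr_iso_of_left_iso ((S.residueFieldCongr T.hx).inv ≫ a.residueFieldMap T.x)
      ((S.residueFieldCongr T.hy).inv ≫ b.residueFieldMap T.y)
  let r : (B.residueField T.y) ≃+* T.tensor := (asIso T.tensorInr).commRingCatIsoToRingEquiv
  haveI : Subsingleton (PrimeSpectrum T.tensor) :=
    (PrimeSpectrum.comapEquiv r).symm.toEquiv.subsingleton
  exact Subsingleton.elim (α := PrimeSpectrum T.tensor) _ _

section Normal

variable {X P : Scheme.{u}} [IsIntegral X] (c : P ⟶ X) [Etale c]
  (hN : ∀ x : X, IsIntegrallyClosed (X.presheaf.stalk x))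

include hN in
/-- the closure of a point over the generic point is open -/
theorem isOpen_closure_generic (ξ : P) (hξ : c.base ξ = genericPoint X) :
    IsOpen (closure {ξ} : Set P) := by
  rw [isOpen_iff_forall_mem_open]
  intro y hy
  obtain ⟨O, ξ', hO, hyO, -, hcξ', hOξ'⟩ := LC.exists_irreducible_nbhd c hN y
  have h1 : ξ' ⤳ y := specializes_iff_mem_closure.2 (hOξ' hyO)
  have h2 : ξ ⤳ y := specializes_iff_mem_closure.2 hy
  have h3 : ξ' = ξ := LC.generic_unique c hN y ξ' ξ h1 h2 hcξ' hξ
  rw [h3] at hOξ'
  exact ⟨O, hOξ', hO, hyO⟩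

/-- an étale separated morphism with a unique point over the generic point (with trivial
residue field extension) is a monomorphism -/
theorem mono_of_unique_generic [IsSeparated c]
    [IsSepClosed (X.residueField (genericPoint X))] (ξ : P)
    (hξ : c.base ξ = genericPoint X) (huniq : ∀ y : P, c.base y = genericPoint X → y = ξ) :
    Mono c := by
  rw [← pullback.isIso_diagonal_iff]
  haveI : IsClosedImmersion (pullback.diagonal c) := IsSeparated.isClosedImmersion_diagonal
  haveI : IsOpenImmersion (pullback.diagonal c) := inferInstance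
  apply isIso_of_isOpenImmersion_of_opensRange_eq_top
  rw [eq_top_iff]
  intro w _
  show w ∈ Set.range (pullback.diagonal c).base
  let d : pullback c c ⟶ X := pullback.fst c c ≫ c
  obtain ⟨ω, hω, hωw⟩ := LC.exists_generic_specializes d w
  have hclosed : IsClosed (Set.range (pullback.diagonal c).base) :=
    (pullback.diagonal c).isClosedEmbedding.isClosed_range
  refine hωw.mem_closed hclosed ?_
  have hf : (pullback.fst c c).base ω = ξ := huniq _ hω
  have hs : (pullback.snd c c).base ω = ξ := by
    apply huniq
    have h := congrArg (fun k => k.base ω) (pullback.condition (f := c) (g := c))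
    have h' : c.base ((pullback.snd c c).base ω) = c.base ((pullback.fst c c).base ω) := h.symm
    rw [h']
    exact hω
  have hdf : (pullback.fst c c).base ((pullback.diagonal c).base ξ) = ξ := by
    have h := congrArg (fun k => k.base ξ) (pullback.diagonal_fst c)
    exact h
  have hds : (pullback.snd c c).base ((pullback.diagonal c).base ξ) = ξ := by
    have h := congrArg (fun k => k.base ξ) (pullback.diagonal_snd c)
    exact h
  refine ⟨ξ, ?_⟩
  symm
  apply eq_of_fst_eq_snd_eq c c ω ((pullback.diagonal c).base ξ) (hf.trans hdf.symm)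
    (hs.trans hds.symm)
  rw [hdf]
  haveI : IsSepClosed (X.residueField (c.base ξ)) := by
    rw [hξ]
    infer_instance
  exact residueFieldMap_bijective c ξ

end Normal

theorem main0089 {U X : Scheme.{u}} [IsIntegral X]
    (hN : ∀ x : X, IsIntegrallyClosed (X.presheaf.stalk x))
    [IsSepClosed X.functionField] (g : U ⟶ X) [Etale g] [IsSeparated g] :
    ∃ (ι : Type u) (V : ι → X.Opens) (e : (∐ fun i => (V i : Scheme.{u})) ≅ U),
      ∀ i, Sigma.ι (fun i => (V i : Scheme.{u})) i ≫ e.hom ≫ g = (V i).ι := by
  classical
  haveI : IsSepClosed (X.residueField (genericPoint X)) :=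
    isSepClosed_residueField_generic _ rfl
  let ι : Type u := {ξ : U // g.base ξ = genericPoint X}
  let O : ι → U.Opens := fun i => ⟨closure {i.1}, isOpen_closure_generic g hN i.1 i.2⟩
  let h : ∀ i : ι, (O i).toScheme ⟶ X := fun i => (O i).ι ≫ g
  have hmono : ∀ i, Mono (h i) := by
    intro i
    let ξ : (O i).toScheme := ⟨i.1, subset_closure rfl⟩
    refine mono_of_unique_generic (h i) ξ i.2 ?_
    intro y hy
    have hy' : g.base y.1 = genericPoint X := hy
    have h1 : i.1 ⤳ y.1 := specializes_iff_mem_closure.2 y.2
    have h2 : y.1 = i.1 := LC.generic_unique g hN y.1 y.1 i.1 specializes_rfl h1 hy' i.2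
    exact Subtype.ext h2
  haveI : ∀ i, IsOpenImmersion (h i) := by
    intro i
    haveI := hmono i
    haveI : Flat (h i) := inferInstance
    exact IsOpenImmersion.of_flat_of_mono (h i)
  let V : ι → X.Opens := fun i => (h i).opensRange
  have hr : ∀ i, Set.range (V i).ι.base = Set.range (h i).base := by
    intro i
    rw [Scheme.Opens.range_ι]
    rfl
  let a : ∀ i, (V i).toScheme ≅ (O i).toScheme :=
    fun i => IsOpenImmersion.isoOfRangeEq (V i).ι (h i) (hr i)
  have ha : ∀ i, (a i).hom ≫ h i = (V i).ι :=
    fun i => IsOpenImmersion.isoOfRangeEq_hom_fac (V i).ι (h i) (hr i)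
  let φ : ∀ i, (V i).toScheme ⟶ U := fun i => (a i).hom ≫ (O i).ι
  haveI : ∀ i, IsOpenImmersion (φ i) := fun i => inferInstance
  have hφ : ∀ i, (φ i).opensRange = O i := by
    intro i
    rw [Scheme.Hom.opensRange_comp_of_isIso, Scheme.Opens.opensRange_ι]
  have hcov : ⨆ i, (φ i).opensRange = ⊤ := by
    rw [eq_top_iff]
    intro y _
    obtain ⟨ξ, hξ, hξy⟩ := LC.exists_generic_specializes g y
    rw [Opens.mem_iSup]
    refine ⟨⟨ξ, hξ⟩, ?_⟩
    rw [hφ]
    exact specializes_iff_mem_closure.1 hξy
  have hdisj : Pairwise (Function.onFun Disjoint fun i => (φ i).opensRange) := by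
    intro i j hij
    show Disjoint (φ i).opensRange (φ j).opensRange
    rw [hφ, hφ, disjoint_iff]
    ext y
    simp only [Opens.coe_inf, Opens.coe_bot, Set.mem_inter_iff, Set.mem_empty_iff_false,
      iff_false, not_and]
    intro hyi hyj
    apply hij
    have h1 : i.1 ⤳ y := specializes_iff_mem_closure.2 hyi
    have h2 : j.1 ⤳ y := specializes_iff_mem_closure.2 hyj
    exact Subtype.ext (LC.generic_unique g hN y i.1 j.1 h1 h2 i.2 j.2)
  obtain ⟨hc⟩ := nonempty_isColimit_cofanMk_of φ hcov hdisj
  let e : (∐ fun i => (V i : Scheme.{u})) ≅ U :=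
    (colimit.isColimit (Discrete.functor fun i => (V i : Scheme.{u}))).coconePointUniqueUpToIso hc
  refine ⟨ι, V, e, ?_⟩
  intro i
  have h1 : Sigma.ι (fun i => (V i : Scheme.{u})) i ≫ e.hom = φ i :=
    IsColimit.comp_coconePointUniqueUpToIso_hom
      (colimit.isColimit (Discrete.functor fun i => (V i : Scheme.{u}))) hc ⟨i⟩
  rw [← Category.assoc, h1]
  show ((a i).hom ≫ (O i).ι) ≫ g = (V i).ι
  rw [Category.assoc]
  exact ha i

end Groth.Agent.Helper1.NE
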