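import Mathlib
import Groth.Prelude.Def_EtCore
import Groth.Agent.Lib.Helper1.NE1
import Groth.Agent.Lib.Helper1.LC7
import Groth.Agent.Lib.Helper1.SZ3
import Groth.Agent.Lib.Helper1.RC2
import Groth.Agent.Lib.Helper10.ExtAdj

/-!
# Étale sheaves on the spectrum of a separably closed field; cohomology of constant sheaves on
normal integral schemes with separably closed function field
-/

universe u
set_option linter.unusedSectionVars false
set_option linter.style.haveILetI false
open CategoryTheory CategoryTheory.Limits AlgebraicGeometry TopologicalSpace Opposite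

namespace Groth.Agent.Helper1.NE

section Discrete

variable {S : Scheme.{u}}

/-- the étale object attached to an open of an étale object -/
noncomputable def oO (T : S.Etale) (O : T.left.Opens) : S.Etale :=
  haveI : Etale T.hom := T.prop
  Scheme.Etale.mk (O.ι ≫ T.hom)

/-- the inclusion -/
noncomputable def oι (T : S.Etale) (O : T.left.Opens) : oO T O ⟶ T :=
  MorphismProperty.Over.homMk O.ι rfl trivial

instance mono_oι (T : S.Etale) (O : T.left.Opens) : Mono (oι T O) := by
  refine ⟨fun {Z} a b hab => ?_⟩
  apply MorphismProperty.Over.Hom.ext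
  have h1 : a.left ≫ O.ι = b.left ≫ O.ι := congrArg (fun m => m.left) hab
  exact (cancel_mono O.ι).1 h1

lemma comp_oι_mem {T : S.Etale} {O : T.left.Opens} {Z : S.Etale} (a : Z ⟶ oO T O) (p : Z.left) :
    (a ≫ oι T O).left.base p ∈ (O : Set T.left) := by
  have h0 : (a ≫ oι T O).left.base p = O.ι.base (a.left.base p) := rfl
  rw [h0]
  exact (a.left.base p).2

theorem exists_lift_of_discrete
    (hdisc : ∀ T : S.Etale, DiscreteTopology T.left)
    (hhens : ∀ (T : S.Etale) (t : T.left), HenselianLocalRing (T.left.presheaf.stalk t))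
    (hsep : ∀ (T : S.Etale) (t : T.left),
      IsSepClosed (IsLocalRing.ResidueField (T.left.presheaf.stalk t)))
    {F G : EtCoh.Ab S} (e : F ⟶ G) [Epi e] (T : S.Etale) (g : G.obj.obj (op T)) :
    ∃ t : F.obj.obj (op T), e.hom.app (op T) t = g := by
  classical
  haveI := SHC.preservesFilteredColimits_forget.{u}
  haveI hls : Sheaf.IsLocallySurjective e :=
    (Sheaf.isLocallySurjective_iff_epi' _ e).2 inferInstance
  haveI := hdisc T
  let D : T.left → T.left.Opens := fun x => ⟨{x}, isOpen_discrete _⟩
  have hloc : ∀ x : T.left, ∃ l : F.obj.obj (op (oO T (D x))),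
      e.hom.app (op (oO T (D x))) l = G.obj.map (oι T (D x)).op g := by
    intro x
    have hmem := hls.imageSieve_mem g
    obtain ⟨V, f, v, hf, hv⟩ := SZ.pointwise_of_mem _ _ hmem x
    obtain ⟨l0, hl0⟩ := hf
    haveI := hhens T (f.left.base v)
    haveI := hsep T (f.left.base v)
    obtain ⟨W, σ, w, hσ, hw⟩ := DS.exists_section_through_general f.left v
    have h1 : W.ι.base w = x := by
      have h2 := congrArg (fun k => k.base w) hσ
      have h3 : f.left.base (σ.base w) = W.ι.base w := h2
      rw [← h3, hw, hv]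
    have hxW : x ∈ (W : Set T.left) := by
      rw [← h1, ← Scheme.Opens.range_ι]
      exact ⟨w, rfl⟩
    have hle : D x ≤ W := by
      intro y hy
      have hyx : y = x := hy
      rw [hyx]
      exact hxW
    let σ' : (D x).toScheme ⟶ V.left := T.left.homOfLE hle ≫ σ
    have hσ' : σ' ≫ f.left = (D x).ι := by
      rw [Category.assoc, hσ, Scheme.homOfLE_ι]
    have hm : σ' ≫ V.hom = (D x).ι ≫ T.hom := by
      rw [← MorphismProperty.Over.w f, ← Category.assoc, hσ']
    let m : oO T (D x) ⟶ V := MorphismProperty.Over.homMk σ' hm trivial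
    have hmf : m ≫ f = oι T (D x) := MorphismProperty.Over.Hom.ext hσ'
    refine ⟨F.obj.map m.op l0, ?_⟩
    rw [NatTrans.naturality_apply e.hom m.op l0, hl0, SZ.map_map, hmf]
  choose l hl using hloc
  have hcov : Sieve.generate (Presieve.ofArrows (fun x => oO T (D x)) (fun x => oι T (D x))) ∈
      S.smallEtaleTopology T := by
    apply SHC.mem_of_pointwise
    intro z
    refine ⟨oO T (D z), oι T (D z), (⟨z, Set.mem_singleton z⟩ : (D z).toScheme), ?_, rfl⟩
    exact ⟨_, 𝟙 _, oι T (D z), Presieve.ofArrows.mk z, Category.id_comp _⟩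
  have hcompat : ∀ (P : EtCoh.Ab S)
      (x : ∀ z : T.left, (P.obj ⋙ forget AddCommGrpCat.{u + 1}).obj (op (oO T (D z)))),
      Presieve.Arrows.Compatible (P.obj ⋙ forget AddCommGrpCat.{u + 1})
        (fun z => oι T (D z)) x := by
    intro P x z z' Z a a' haa'
    by_cases hzz : z = z'
    · subst hzz
      have : a = a' := (cancel_mono (oι T (D z))).1 haa'
      rw [this]
    · haveI : IsEmpty Z.left := by
        refine ⟨fun p => ?_⟩
        have h1 : (a ≫ oι T (D z)).left.base p = z := comp_oι_mem a p
        have h2 : (a' ≫ oι T (D z')).left.base p = z' := comp_oι_mem a' p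
        rw [haa'] at h1
        exact hzz (h1.symm.trans h2)
      haveI := SHC.subsingleton_sections_of_isEmpty P Z
      exact Subsingleton.elim (α := P.obj.obj (op Z)) _ _
  have hSF := (Presieve.isSheafFor_iff_generate _).2 (SZ.presieve_isSheaf F _ hcov)
  rw [Presieve.isSheafFor_arrows_iff] at hSF
  obtain ⟨t, ht, -⟩ := hSF l (hcompat F l)
  refine ⟨t, ?_⟩
  have hSG := (Presieve.isSheafFor_iff_generate _).2 (SZ.presieve_isSheaf G _ hcov)
  refine hSG.isSeparatedFor.ext ?_
  rintro Y f ⟨z⟩
  have h1 := NatTrans.naturality_apply e.hom (oι T (D z)).op t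
  have h2 : F.obj.map (oι T (D z)).op t = l z := ht z
  show G.obj.map (oι T (D z)).op (e.hom.app (op T) t) = G.obj.map (oι T (D z)).op g
  rw [← h1, h2, hl z]

end Discrete

section Field

variable (κ : Type u) [Field κ]

theorem isSepClosed_residueField_spec [IsSepClosed κ] (s : Spec (CommRingCat.of κ)) :
    IsSepClosed ((Spec (CommRingCat.of κ)).residueField s) := by
  haveI : s.asIdeal.IsMaximal := by
    rw [Ideal.eq_bot_of_prime s.asIdeal]
    exact Ideal.bot_isMaximal
  have hbij : Function.Bijective (algebraMap κ s.asIdeal.ResidueField) :=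
    ⟨(algebraMap κ s.asIdeal.ResidueField).injective,
      Ideal.algebraMap_residueField_surjective s.asIdeal⟩
  let e1 : κ ≃+* s.asIdeal.ResidueField := RingEquiv.ofBijective _ hbij
  let e2 : (Spec (CommRingCat.of κ)).residueField s ≃+* s.asIdeal.ResidueField :=
    (Scheme.Spec.residueFieldIso (CommRingCat.of κ) s).commRingCatIsoToRingEquiv
  exact DS.isSepClosed_of_ringEquiv (e1.trans e2.symm)

theorem eq_of_spec_field (a b : Spec (CommRingCat.of κ)) : a = b :=
  Subsingleton.elim (α := PrimeSpectrum κ) a b

variable {κ}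

theorem isOpen_singleton_of_etale_field {T : Scheme.{u}} (c : T ⟶ Spec (CommRingCat.of κ))
    [Etale c] (x : T) : IsOpen ({x} : Set T) := by
  haveI := LC.lqf_of_etale c
  have hdisc := c.isDiscrete_preimage_singleton (c.base x)
  rw [isDiscrete_iff_forall_mem_exists_isOpen] at hdisc
  obtain ⟨O, hO, hOs⟩ := hdisc x rfl
  have huniv : c.base ⁻¹' {c.base x} = Set.univ := by
    ext y
    simp only [Set.mem_preimage, Set.mem_singleton_iff, Set.mem_univ, iff_true]
    exact eq_of_spec_field κ _ _
  rw [huniv, Set.inter_univ] at hOs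
  rw [← hOs]
  exact hO

theorem discreteTopology_of_etale_field {T : Scheme.{u}} (c : T ⟶ Spec (CommRingCat.of κ))
    [Etale c] : DiscreteTopology T :=
  discreteTopology_iff_isOpen_singleton.2 (isOpen_singleton_of_etale_field c)

theorem isSepClosed_residueField_of_etale_field [IsSepClosed κ] {T : Scheme.{u}}
    (c : T ⟶ Spec (CommRingCat.of κ)) [Etale c] (t : T) : IsSepClosed (T.residueField t) := by
  haveI := isSepClosed_residueField_spec κ (c.base t)
  have hbij := residueFieldMap_bijective c t
  exact DS.isSepClosed_of_ringEquiv (RingEquiv.ofBijective _ hbij)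

variable (κ)

/-- epimorphisms of étale sheaves on the spectrum of a separably closed field are surjective on
sections -/
theorem exists_lift_spec [IsSepClosed κ] {F G : EtCoh.Ab (Spec (CommRingCat.of κ))} (e : F ⟶ G)
    [Epi e] (T : (Spec (CommRingCat.of κ)).Etale) (g : G.obj.obj (op T)) :
    ∃ t : F.obj.obj (op T), e.hom.app (op T) t = g := by
  have hdisc : ∀ T : (Spec (CommRingCat.of κ)).Etale, DiscreteTopology T.left := by
    intro T
    let c : T.left ⟶ Spec (CommRingCat.of κ) := T.hom
    haveI : Etale c := T.prop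
    exact discreteTopology_of_etale_field c
  refine exists_lift_of_discrete hdisc ?_ ?_ e T g
  · intro T t
    haveI := hdisc T
    exact SZ.henselian_stalk t
  · intro T t
    let c : T.left ⟶ Spec (CommRingCat.of κ) := T.hom
    haveI : Etale c := T.prop
    exact isSepClosed_residueField_of_etale_field c t

variable {κ}

theorem epi_push_map [IsSepClosed κ] {Y : Scheme.{u}} (j : Spec (CommRingCat.of κ) ⟶ Y)
    {F G : EtCoh.Ab (Spec (CommRingCat.of κ))} (e : F ⟶ G) [Epi e] :
    Epi ((EtCoh.push j).map e) := by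
  haveI := SHC.preservesFilteredColimits_forget.{u}
  have hls : Sheaf.IsLocallySurjective ((EtCoh.push j).map e) :=
    Presheaf.isLocallySurjective_of_surjective _ _ (fun V g =>
      exists_lift_spec κ e ((EtCoh.bc j).obj V.unop) g)
  exact (Sheaf.isLocallySurjective_iff_epi' _ ((EtCoh.push j).map e)).1 hls

theorem preservesFiniteLimits_push {X Y : Scheme.{u}} (j : X ⟶ Y) :
    PreservesFiniteLimits (EtCoh.push j) := by
  have : PreservesLimitsOfSize.{0, 0} (EtCoh.push j) :=
    (EtCoh.pullPushAdj j).rightAdjoint_preservesLimits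
  exact PreservesLimitsOfSize.preservesFiniteLimits _

theorem preservesFiniteColimits_push [IsSepClosed κ] {Y : Scheme.{u}}
    (j : Spec (CommRingCat.of κ) ⟶ Y) : PreservesFiniteColimits (EtCoh.push j) := by
  haveI := preservesFiniteLimits_push j
  rw [Functor.preservesFiniteColimits_iff_forall_exact_map_and_epi]
  intro S hS
  have h1 := (Functor.preservesFiniteLimits_iff_forall_exact_map_and_mono (EtCoh.push j)).1
    inferInstance S hS
  haveI := hS.epi_g
  exact ⟨h1.1, epi_push_map j S.g⟩

/-- cohomology of a direct image from the spectrum of a separably closed field -/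
noncomputable def HpushEquiv [IsSepClosed κ] {Y : Scheme.{u}} (j : Spec (CommRingCat.of κ) ⟶ Y)
    (N : EtCoh.Ab (Spec (CommRingCat.of κ))) (i : ℕ) :
    EtCoh.H (Spec (CommRingCat.of κ)) N i ≃+ EtCoh.H Y ((EtCoh.push j).obj N) i :=
  haveI := preservesFiniteLimits_push j
  haveI := preservesFiniteColimits_push j
  haveI := RC.preservesFiniteLimits_pull j
  (Groth.Agent.Helper10.ExtAdj.extCongrLeft
      ((EtCore.pullConstIso j).app (AddCommGrpCat.of (ULift ℤ))) N i).trans
    (Groth.Agent.Helper10.ExtAdj.extAdjEquiv (EtCoh.pullPushAdj j) _ N i)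

theorem subsingleton_H_spec [IsSepClosed κ] (N : EtCoh.Ab (Spec (CommRingCat.of κ))) (i : ℕ)
    (hi : 1 ≤ i) : Subsingleton (EtCoh.H (Spec (CommRingCat.of κ)) N i) := by
  refine SZ.main0088 (Spec (CommRingCat.of κ)) ?_ (isSepClosed_residueField_spec κ) N i hi
  intro s
  have : ({s} : Set (Spec (CommRingCat.of κ))) = Set.univ := by
    ext y
    simp only [Set.mem_singleton_iff, Set.mem_univ, iff_true]
    exact eq_of_spec_field κ _ _
  rw [this]
  exact isClosed_univ

theorem subsingleton_H_push [IsSepClosed κ] {Y : Scheme.{u}} (j : Spec (CommRingCat.of κ) ⟶ Y)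
    (N : EtCoh.Ab (Spec (CommRingCat.of κ))) (i : ℕ) (hi : 1 ≤ i) :
    Subsingleton (EtCoh.H Y ((EtCoh.push j).obj N) i) := by
  haveI := subsingleton_H_spec N i hi
  exact (HpushEquiv j N i).symm.toEquiv.subsingleton

end Field

section Main

variable {Y : Scheme.{u}} [IsIntegral Y]
  (hN : ∀ y : Y, IsIntegrallyClosed (Y.presheaf.stalk y)) [IsSepClosed Y.functionField]

include hN in
theorem subsingleton_H_const (M : Type) [AddCommGroup M] (i : ℕ) (hi : 1 ≤ i) :
    Subsingleton (EtCoh.H Y (EtCoh.const Y M) i) := by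
  haveI : IsSepClosed (Y.residueField (genericPoint Y)) :=
    isSepClosed_residueField_generic _ rfl
  let j : Spec (CommRingCat.of (Y.residueField (genericPoint Y))) ⟶ Y :=
    Y.fromSpecResidueField (genericPoint Y)
  haveI : IsPreimmersion j :=
    inferInstanceAs (IsPreimmersion (Y.fromSpecResidueField (genericPoint Y)))
  have hj : genericPoint Y ∈ Set.range j.base := by
    have h := Scheme.range_fromSpecResidueField (genericPoint Y)
    have h' : Set.range j.base = {genericPoint Y} := h
    rw [h']
    rfl
  haveI hiso := LC.main_normal hN j hj M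
  let N := (EtCoh.pull j).obj (EtCoh.const Y M)
  let φ : EtCoh.const Y M ≅ (EtCoh.push j).obj N :=
    asIso ((EtCoh.pullPushAdj j).unit.app (EtCoh.const Y M))
  haveI := subsingleton_H_push j N i hi
  exact (Groth.Agent.Helper10.ExtAdj.extCongrRight _ φ i).toEquiv.subsingleton

end Main

end Groth.Agent.Helper1.NE
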