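import Mathlib
import Groth.Prelude.Def_EtCore
import Groth.Agent.Lib.Helper1.NE2

/-!
# Degree zero cohomology of constant sheaves on connected schemes
-/

universe u
set_option linter.unusedSectionVars false
set_option linter.style.haveILetI false
open CategoryTheory CategoryTheory.Limits AlgebraicGeometry TopologicalSpace Opposite

namespace Groth.Agent.Helper1.NE

/-- locally constant functions on a preconnected nonempty space -/
noncomputable def lcEquivOfPreconnected (T : Type*) [TopologicalSpace T] [PreconnectedSpace T]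
    [Nonempty T] (M : Type*) : LocallyConstant T M ≃ M where
  toFun f := f (Classical.arbitrary T)
  invFun m := LocallyConstant.const T m
  left_inv f := by
    refine LocallyConstant.ext fun x => ?_
    exact f.isLocallyConstant.apply_eq_of_preconnectedSpace _ _
  right_inv m := rfl

theorem card_H0_const {Y : Scheme.{u}} [PreconnectedSpace Y] [Nonempty Y] (M : Type)
    [AddCommGroup M] : Nat.card (EtCoh.H Y (EtCoh.const Y M) 0) = Nat.card M := by
  let e1 := Sheaf.H.equiv₀ (EtCoh.const Y M) (EtCore.topIsTerminal Y)
  let c := LC.constIso (LC.etPt Y) (ULift.{u + 1} M)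
  let e2 : (EtCoh.const Y M).obj.obj (op (EtCoh.top Y)) ≅
      (LC.LCs (LC.etPt Y) (ULift.{u + 1} M)).obj.obj (op (EtCoh.top Y)) :=
    ((sheafSections Y.smallEtaleTopology AddCommGrpCat.{u + 1}).obj (op (EtCoh.top Y))).mapIso c
  let e3 : LocallyConstant ((LC.etPt Y).pt.obj (EtCoh.top Y)) (ULift.{u + 1} M) ≃
      ULift.{u + 1} M :=
    haveI : PreconnectedSpace ((LC.etPt Y).pt.obj (EtCoh.top Y)) :=
      (inferInstance : PreconnectedSpace Y)
    haveI : Nonempty ((LC.etPt Y).pt.obj (EtCoh.top Y)) := (inferInstance : Nonempty Y)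
    lcEquivOfPreconnected _ _
  exact (Nat.card_congr e1.toEquiv).trans
    ((Nat.card_congr e2.addCommGroupIsoToAddEquiv.toEquiv).trans
      ((Nat.card_congr e3).trans (Nat.card_congr Equiv.ulift)))

end Groth.Agent.Helper1.NE
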