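import Mathlib
import Groth.Prelude.Def_EtCore
import Groth.Agent.Lib.Helper1.NE2
import Groth.Agent.Lib.Helper24.Horseshoe3

/-!
# Higher direct images of constant sheaves on normal integral schemes with separably closed
function field vanish (S0628)
-/

universe u
set_option linter.unusedSectionVars false
set_option linter.style.haveILetI false
open CategoryTheory CategoryTheory.Limits AlgebraicGeometry TopologicalSpace Opposite

namespace Groth.Agent.Helper1.NE

section

variable {κ : Type u} [Field κ] [IsSepClosed κ] {X Y : Scheme.{u}}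
  (j : Spec (CommRingCat.of κ) ⟶ X) (f : X ⟶ Y)

omit [IsSepClosed κ] in
theorem injective_push_obj (I : EtCoh.Ab (Spec (CommRingCat.of κ))) [Injective I] :
    Injective ((EtCoh.push j).obj I) := by
  haveI := RC.preservesFiniteLimits_pull j
  haveI : (EtCoh.pull j).PreservesMonomorphisms := inferInstance
  exact (EtCoh.pullPushAdj j).map_injective I inferInstance

theorem epi_push_push_map {N N' : EtCoh.Ab (Spec (CommRingCat.of κ))} (π : N ⟶ N') [Epi π] :
    Epi ((EtCoh.push f).map ((EtCoh.push j).map π)) := by
  haveI := epi_push_map (j ≫ f) π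
  let iso := EtCoh.pushComp f j
  have h : (EtCoh.push f).map ((EtCoh.push j).map π) =
      iso.hom.app N ≫ (EtCoh.push (j ≫ f)).map π ≫ iso.inv.app N' := by
    have nat := iso.hom.naturality π
    rw [← Category.assoc, ← nat, Category.assoc, Iso.hom_inv_id_app, Category.comp_id]
    rfl
  rw [h]
  infer_instance

theorem isZero_Rpush_push : ∀ (q : ℕ) (N : EtCoh.Ab (Spec (CommRingCat.of κ))),
    IsZero ((EtCoh.Rpush f (q + 1)).obj ((EtCoh.push j).obj N))
  | 0, N => by
    haveI := preservesFiniteLimits_push j
    haveI := preservesFiniteColimits_push j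
    haveI := preservesFiniteLimits_push f
    let S : ShortComplex (EtCoh.Ab (Spec (CommRingCat.of κ))) :=
      ShortComplex.mk (Injective.ι N) (cokernel.π (Injective.ι N)) (cokernel.condition _)
    have hS : S.ShortExact := { exact := ShortComplex.exact_cokernel (Injective.ι N) }
    have hS' : (S.map (EtCoh.push j)).ShortExact := hS.map_of_exact (EtCoh.push j)
    let Δ := Groth.Agent.Helper24.Horseshoe.derivedLES (EtCoh.push f)
    have ex1 := Δ.exact₁ _ hS' 0 1 rfl
    haveI : Injective ((EtCoh.push j).obj (Injective.under N)) := injective_push_obj j _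
    have hI : IsZero (((EtCoh.push f).rightDerived 1).obj
        ((EtCoh.push j).obj (Injective.under N))) :=
      Functor.isZero_rightDerived_obj_injective_succ (EtCoh.push f) 0 _
    haveI hepi0 : Epi ((EtCoh.push f).map ((EtCoh.push j).map (cokernel.π (Injective.ι N)))) :=
      epi_push_push_map j f _
    have hepi : Epi (((EtCoh.push f).rightDerived 0).map
        ((EtCoh.push j).map (cokernel.π (Injective.ι N)))) := by
      let e := (EtCoh.push f).rightDerivedZeroIsoSelf
      have : ((EtCoh.push f).rightDerived 0).map
          ((EtCoh.push j).map (cokernel.π (Injective.ι N))) =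
          e.hom.app _ ≫ (EtCoh.push f).map ((EtCoh.push j).map (cokernel.π (Injective.ι N))) ≫
            e.inv.app _ := by
        rw [← e.hom.naturality_assoc, Iso.hom_inv_id_app, Category.comp_id]
      rw [this]
      infer_instance
    have hδ : Δ.δ _ hS' 0 1 rfl = 0 := by
      have := Δ.comp_δ _ hS' 0 1 rfl
      exact (cancel_epi (((EtCoh.push f).rightDerived 0).map
        ((EtCoh.push j).map (cokernel.π (Injective.ι N))))).1 (this.trans comp_zero.symm)
    exact ex1.isZero_X₂ hδ (hI.eq_of_tgt _ _)
  | q + 1, N => by
    haveI := preservesFiniteLimits_push j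
    haveI := preservesFiniteColimits_push j
    let S : ShortComplex (EtCoh.Ab (Spec (CommRingCat.of κ))) :=
      ShortComplex.mk (Injective.ι N) (cokernel.π (Injective.ι N)) (cokernel.condition _)
    have hS : S.ShortExact := { exact := ShortComplex.exact_cokernel (Injective.ι N) }
    have hS' : (S.map (EtCoh.push j)).ShortExact := hS.map_of_exact (EtCoh.push j)
    let Δ := Groth.Agent.Helper24.Horseshoe.derivedLES (EtCoh.push f)
    have ex1 := Δ.exact₁ _ hS' (q + 1) (q + 2) rfl
    haveI : Injective ((EtCoh.push j).obj (Injective.under N)) := injective_push_obj j _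
    have hI : IsZero (((EtCoh.push f).rightDerived (q + 2)).obj
        ((EtCoh.push j).obj (Injective.under N))) :=
      Functor.isZero_rightDerived_obj_injective_succ (EtCoh.push f) (q + 1) _
    have IH := isZero_Rpush_push q (cokernel (Injective.ι N))
    exact ex1.isZero_X₂ (IH.eq_of_src _ _) (hI.eq_of_tgt _ _)

end

theorem main0628 {X Y : Scheme.{u}} (f : X ⟶ Y) [IsIntegral X]
    (hN : ∀ x : X, IsIntegrallyClosed (X.presheaf.stalk x)) [IsSepClosed X.functionField]
    (M : Type) [AddCommGroup M] (q : ℕ) (hq : 1 ≤ q) :
    IsZero ((EtCoh.Rpush f q).obj (EtCoh.const X M)) := by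
  obtain ⟨q, rfl⟩ : ∃ q', q = q' + 1 := ⟨q - 1, by omega⟩
  haveI : IsSepClosed (X.residueField (genericPoint X)) :=
    isSepClosed_residueField_generic _ rfl
  let j : Spec (CommRingCat.of (X.residueField (genericPoint X))) ⟶ X :=
    X.fromSpecResidueField (genericPoint X)
  haveI : IsPreimmersion j :=
    inferInstanceAs (IsPreimmersion (X.fromSpecResidueField (genericPoint X)))
  have hj : genericPoint X ∈ Set.range j.base := by
    have h := Scheme.range_fromSpecResidueField (genericPoint X)
    have h' : Set.range j.base = {genericPoint X} := h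
    rw [h']
    rfl
  haveI hiso := LC.main_normal hN j hj M
  let N := (EtCoh.pull j).obj (EtCoh.const X M)
  let φ : EtCoh.const X M ≅ (EtCoh.push j).obj N :=
    asIso ((EtCoh.pullPushAdj j).unit.app (EtCoh.const X M))
  exact (isZero_Rpush_push j f q N).of_iso ((EtCoh.Rpush f (q + 1)).mapIso φ)

end Groth.Agent.Helper1.NE
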