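import Mathlib
import Groth.Agent.Lib.Helper1.NE1
import Groth.Agent.Lib.Helper16.Alg.EtLift
import Groth.Agent.Lib.Helper14.SqZeroEtale

/-!
# Étale affine schemes over closed subschemes of normal schemes with separably closed function field
(helper1, NE5): S0624, S0625.
-/

set_option autoImplicit false
open CategoryTheory CategoryTheory.Limits AlgebraicGeometry Opposite TopologicalSpace
universe u

namespace Groth.Agent.Helper1.NE

theorem disjoint_opens_iff {α : Type*} [TopologicalSpace α] {a b : Opens α} :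
    Disjoint a b ↔ ∀ x, x ∈ a → x ∈ b → False := by
  rw [disjoint_iff]
  constructor
  · intro h x ha hb
    have hx : x ∈ ((a ⊓ b : Opens α) : Set α) := ⟨ha, hb⟩
    rw [h] at hx
    simpa using hx
  · intro h
    ext x
    simp only [Opens.coe_inf, Opens.coe_bot, Set.mem_inter_iff, Set.mem_empty_iff_false,
      iff_false, not_and]
    exact fun ha hb => h x ha hb

/-- Opens version of `main0089`. -/
theorem main0089_opens {U X : Scheme.{u}} [IsIntegral X]
    (hN : ∀ x : X, IsIntegrallyClosed (X.presheaf.stalk x))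
    [IsSepClosed X.functionField] (g : U ⟶ X) [Etale g] [IsSeparated g] :
    ∃ (ι : Type u) (O : ι → U.Opens), (∀ i, IsOpenImmersion ((O i).ι ≫ g)) ∧
      (⨆ i, O i = ⊤) ∧ Pairwise (Function.onFun Disjoint O) := by
  classical
  haveI : IsSepClosed (X.residueField (genericPoint X)) :=
    isSepClosed_residueField_generic _ rfl
  let ι : Type u := {ξ : U // g.base ξ = genericPoint X}
  let O : ι → U.Opens := fun i => ⟨closure {i.1}, isOpen_closure_generic g hN i.1 i.2⟩
  let h : ∀ i : ι, (O i).toScheme ⟶ X := fun i => (O i).ι ≫ g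
  have hmono : ∀ i, Mono (h i) := by
    intro i
    let ξ : (O i).toScheme := ⟨i.1, subset_closure rfl⟩
    refine mono_of_unique_generic (h i) ξ i.2 ?_
    intro y hy
    have hy' : g.base y.1 = genericPoint X := hy
    have h1 : i.1 ⤳ y.1 := specializes_iff_mem_closure.2 y.2
    have h2 : y.1 = i.1 := LC.generic_unique g hN y.1 y.1 i.1 specializes_rfl h1 hy' i.2
    exact Subtype.ext h2
  refine ⟨ι, O, ?_, ?_, ?_⟩
  · intro i
    haveI := hmono i
    haveI : Flat (h i) := inferInstance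
    exact IsOpenImmersion.of_flat_of_mono (h i)
  · rw [eq_top_iff]
    intro y _
    obtain ⟨ξ, hξ, hξy⟩ := LC.exists_generic_specializes g y
    rw [Opens.mem_iSup]
    exact ⟨⟨ξ, hξ⟩, specializes_iff_mem_closure.1 hξy⟩
  · intro i j hij
    show Disjoint (O i) (O j)
    rw [disjoint_opens_iff]
    intro y hyi hyj
    apply hij
    have h1 : i.1 ⤳ y := specializes_iff_mem_closure.2 hyi
    have h2 : j.1 ⤳ y := specializes_iff_mem_closure.2 hyj
    exact Subtype.ext (LC.generic_unique g hN y i.1 j.1 h1 h2 i.2 j.2)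

/-- Assemble a coproduct decomposition from a disjoint open cover by opens mapping by open
immersions. -/
theorem exists_coprod_of_opens {V Z : Scheme.{u}} (φ : V ⟶ Z) {ι : Type u} (O : ι → V.Opens)
    (hO : ∀ i, IsOpenImmersion ((O i).ι ≫ φ)) (hcov : ⨆ i, O i = ⊤)
    (hdisj : Pairwise (Function.onFun Disjoint O)) :
    ∃ (W : ι → Z.Opens) (e : (∐ fun k => (W k : Scheme.{u})) ≅ V),
      ∀ k, Sigma.ι (fun k => (W k : Scheme.{u})) k ≫ e.hom ≫ φ = (W k).ι := by
  classical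
  let h : ∀ i : ι, (O i).toScheme ⟶ Z := fun i => (O i).ι ≫ φ
  haveI : ∀ i, IsOpenImmersion (h i) := hO
  let W : ι → Z.Opens := fun i => (h i).opensRange
  have hr : ∀ i, Set.range (W i).ι.base = Set.range (h i).base := by
    intro i
    rw [Scheme.Opens.range_ι]
    rfl
  let a : ∀ i, (W i).toScheme ≅ (O i).toScheme :=
    fun i => IsOpenImmersion.isoOfRangeEq (W i).ι (h i) (hr i)
  have ha : ∀ i, (a i).hom ≫ h i = (W i).ι :=
    fun i => IsOpenImmersion.isoOfRangeEq_hom_fac (W i).ι (h i) (hr i)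
  let f : ∀ i, (W i).toScheme ⟶ V := fun i => (a i).hom ≫ (O i).ι
  haveI : ∀ i, IsOpenImmersion (f i) := fun i => inferInstance
  have hf : ∀ i, (f i).opensRange = O i := by
    intro i
    rw [Scheme.Hom.opensRange_comp_of_isIso, Scheme.Opens.opensRange_ι]
  have hcov' : ⨆ i, (f i).opensRange = ⊤ := (iSup_congr hf).trans hcov
  have hdisj' : Pairwise (Function.onFun Disjoint fun i => (f i).opensRange) := by
    intro i j hij
    show Disjoint (f i).opensRange (f j).opensRange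
    rw [hf, hf]
    exact hdisj hij
  obtain ⟨hc⟩ := nonempty_isColimit_cofanMk_of f hcov' hdisj'
  let e : (∐ fun i => (W i : Scheme.{u})) ≅ V :=
    (colimit.isColimit (Discrete.functor fun i => (W i : Scheme.{u}))).coconePointUniqueUpToIso hc
  refine ⟨W, e, ?_⟩
  intro i
  have h1 : Sigma.ι (fun i => (W i : Scheme.{u})) i ≫ e.hom = f i :=
    IsColimit.comp_coconePointUniqueUpToIso_hom
      (colimit.isColimit (Discrete.functor fun i => (W i : Scheme.{u}))) hc ⟨i⟩
  rw [← Category.assoc, h1]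
  show ((a i).hom ≫ (O i).ι) ≫ φ = (W i).ι
  rw [Category.assoc]
  exact ha i

/-- Base change of a disjoint open cover by opens mapping by open immersions. -/
theorem pullback_opens {V Z U X : Scheme.{u}} {ψ : V ⟶ U} {φ : V ⟶ Z} {g : U ⟶ X} {i : Z ⟶ X}
    (sq : IsPullback ψ φ g i) {ι : Type u} (O : ι → U.Opens)
    (hO : ∀ k, IsOpenImmersion ((O k).ι ≫ g)) (hcov : ⨆ k, O k = ⊤)
    (hdisj : Pairwise (Function.onFun Disjoint O)) :
    (∀ k, IsOpenImmersion ((ψ ⁻¹ᵁ O k).ι ≫ φ)) ∧ (⨆ k, ψ ⁻¹ᵁ O k = ⊤) ∧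
      Pairwise (Function.onFun Disjoint fun k => ψ ⁻¹ᵁ O k) := by
  refine ⟨?_, ?_, ?_⟩
  · intro k
    have h1 : IsPullback (ψ ∣_ O k) (ψ ⁻¹ᵁ O k).ι (O k).ι ψ := isPullback_morphismRestrict ψ (O k)
    have h2 := h1.paste_vert sq
    exact MorphismProperty.of_isPullback (P := @IsOpenImmersion) h2 (hO k)
  · rw [eq_top_iff]
    intro v _
    have hv : ψ.base v ∈ ⨆ k, O k := by
      rw [hcov]
      exact Opens.mem_top _
    obtain ⟨k, hk⟩ := Opens.mem_iSup.1 hv
    exact Opens.mem_iSup.2 ⟨k, hk⟩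
  · intro j k hjk
    show Disjoint (ψ ⁻¹ᵁ O j) (ψ ⁻¹ᵁ O k)
    rw [disjoint_opens_iff]
    intro v hvj hvk
    exact disjoint_opens_iff.1 (hdisj hjk) (ψ.base v) hvj hvk

theorem finite_nonempty_of_compact {α : Type*} [TopologicalSpace α] [CompactSpace α] {ι : Type*}
    (O : ι → Opens α) (hcov : ⨆ k, O k = ⊤) (hdisj : Pairwise (Function.onFun Disjoint O)) :
    Set.Finite {k | ((O k : Set α)).Nonempty} := by
  classical
  obtain ⟨t, ht⟩ := isCompact_univ.elim_finite_subcover (fun k => (O k : Set α))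
    (fun k => (O k).2) (by
      intro x _
      have hx : x ∈ ⨆ k, O k := by
        rw [hcov]
        exact Opens.mem_top x
      obtain ⟨k, hk⟩ := Opens.mem_iSup.1 hx
      exact Set.mem_iUnion.2 ⟨k, hk⟩)
  refine t.finite_toSet.subset ?_
  rintro k ⟨x, hx⟩
  have hx' := ht (Set.mem_univ x)
  simp only [Set.mem_iUnion] at hx'
  obtain ⟨j, hj, hxj⟩ := hx'
  by_contra hk
  have hne : k ≠ j := by
    rintro rfl
    exact hk hj
  exact disjoint_opens_iff.1 (hdisj hne) x hx hxj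

/-- Global étale lifting along a surjection, Spec form. -/
theorem exists_lift_spec {A B C : CommRingCat.{u}} (a : A ⟶ B) (b : B ⟶ C)
    (ha : Function.Surjective a.hom) (hb : b.hom.Etale) :
    ∃ (D : CommRingCat.{u}) (d : A ⟶ D) (c : D ⟶ C), d.hom.Etale ∧
      IsPullback (Spec.map c) (Spec.map b) (Spec.map d) (Spec.map a) := by
  letI : Algebra A B := a.hom.toAlgebra
  letI : Algebra B C := b.hom.toAlgebra
  letI : Algebra A C := (b.hom.comp a.hom).toAlgebra
  haveI : IsScalarTower A B C := IsScalarTower.of_algebraMap_eq fun _ => rfl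
  haveI : Algebra.Etale B C := hb
  obtain ⟨E, _, _, ψ, hE, hψ, hker⟩ :=
    Groth.Agent.Helper16.Alg.exists_etale_lift (P := A) (A := B) (B := C) ha
  letI : Algebra E C := ψ.toRingHom.toAlgebra
  haveI : IsScalarTower A E C := IsScalarTower.of_algebraMap_eq fun x => (ψ.commutes x).symm
  haveI : Algebra.IsPushout A B E C :=
    Groth.Agent.Helper14.SqZeroEtale.isPushout_of_surjective ha hψ hker
  have hpo := CommRingCat.isPushout_of_isPushout A B E C
  have hpb := isPullback_SpecMap_of_isPushout _ _ _ _ hpo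
  refine ⟨CommRingCat.of E, CommRingCat.ofHom (algebraMap A E),
    CommRingCat.ofHom (algebraMap E C), RingHom.etale_algebraMap.mpr hE, ?_⟩
  exact hpb.flip

/-- Global étale lifting along a closed immersion of affine schemes. -/
theorem exists_lift {V Z X : Scheme.{u}} [IsAffine X] (i : Z ⟶ X) [IsClosedImmersion i]
    (φ : V ⟶ Z) [Etale φ] [IsAffine V] :
    ∃ (U : Scheme.{u}) (g : U ⟶ X) (ψ : V ⟶ U), IsAffine U ∧ Etale g ∧ IsPullback ψ φ g i := by
  obtain ⟨hZ, hsurj⟩ := IsClosedImmersion.isAffine_surjective_of_isAffine i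
  haveI := hZ
  have hb : φ.appTop.hom.Etale :=
    (HasRingHomProperty.iff_of_isAffine (P := @Etale)).1 inferInstance
  obtain ⟨D, d, c, hd, sq⟩ := exists_lift_spec i.appTop φ.appTop hsurj hb
  haveI : Etale (Spec.map d) := (HasRingHomProperty.Spec_iff (P := @Etale)).2 hd
  refine ⟨Spec D, Spec.map d ≫ X.isoSpec.inv, V.isoSpec.hom ≫ Spec.map c, inferInstance,
    inferInstance, ?_⟩
  refine sq.of_iso V.isoSpec.symm (Iso.refl _) Z.isoSpec.symm X.isoSpec.symm ?_ ?_ ?_ ?_
  · simp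
  · exact Scheme.isoSpec_inv_naturality φ
  · simp
  · exact Scheme.isoSpec_inv_naturality i

theorem main0624_opens {V Z X : Scheme.{u}} [IsAffine X] [IsIntegral X]
    (hN : ∀ x : X, IsIntegrallyClosed (X.presheaf.stalk x)) [IsSepClosed X.functionField]
    (i : Z ⟶ X) [IsClosedImmersion i] (φ : V ⟶ Z) [Etale φ] [IsAffine V] :
    ∃ (ι : Type u) (_ : Finite ι) (O : ι → V.Opens), (∀ k, IsOpenImmersion ((O k).ι ≫ φ)) ∧
      (⨆ k, O k = ⊤) ∧ Pairwise (Function.onFun Disjoint O) := by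
  obtain ⟨U, g, ψ, hU, hg, sq⟩ := exists_lift i φ
  haveI := hU
  haveI := hg
  haveI : IsSeparated g := inferInstance
  obtain ⟨ι₀, O₀, h1, h2, h3⟩ := main0089_opens hN g
  obtain ⟨h1', h2', h3'⟩ := pullback_opens sq O₀ h1 h2 h3
  have hfin := finite_nonempty_of_compact (fun k => ψ ⁻¹ᵁ O₀ k) h2' h3'
  let S : Set ι₀ := {k | ((ψ ⁻¹ᵁ O₀ k : V.Opens) : Set V).Nonempty}
  refine ⟨S, hfin.to_subtype, fun k => ψ ⁻¹ᵁ O₀ k.1, fun k => h1' k.1, ?_, ?_⟩
  · rw [eq_top_iff]
    intro v _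
    have hv : v ∈ ⨆ k, ψ ⁻¹ᵁ O₀ k := by
      rw [h2']
      exact Opens.mem_top v
    obtain ⟨k, hk⟩ := Opens.mem_iSup.1 hv
    exact Opens.mem_iSup.2 ⟨⟨k, ⟨v, hk⟩⟩, hk⟩
  · intro j k hjk
    exact h3' (fun h => hjk (Subtype.ext h))

theorem main0624 {V Z X : Scheme.{u}} [IsAffine X] [IsIntegral X]
    (hN : ∀ x : X, IsIntegrallyClosed (X.presheaf.stalk x)) [IsSepClosed X.functionField]
    (i : Z ⟶ X) [IsClosedImmersion i] (φ : V ⟶ Z) [Etale φ] [IsAffine V] :
    ∃ (ι : Type u) (_ : Finite ι) (W : ι → Z.Opens) (e : (∐ fun k => (W k : Scheme.{u})) ≅ V),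
      ∀ k, Sigma.ι (fun k => (W k : Scheme.{u})) k ≫ e.hom ≫ φ = (W k).ι := by
  obtain ⟨ι, hfin, O, hO, hcov, hdisj⟩ := main0624_opens hN i φ
  obtain ⟨W, e, he⟩ := exists_coprod_of_opens φ O hO hcov hdisj
  exact ⟨ι, hfin, W, e, he⟩

theorem main0625 {V Z X : Scheme.{u}} [IsAffine X] [IsIntegral X]
    (hN : ∀ x : X, IsIntegrallyClosed (X.presheaf.stalk x)) [IsSepClosed X.functionField]
    (i : Z ⟶ X) [IsClosedImmersion i] (φ : V ⟶ Z) [Etale φ] [IsFinite φ] [Surjective φ] :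
    ∃ s : Z ⟶ V, s ≫ φ = 𝟙 Z := by
  classical
  haveI : IsAffine Z := isAffine_of_isAffineHom i
  haveI : IsAffine V := isAffine_of_isAffineHom φ
  obtain ⟨ι, hfin, O, hO, hcov, hdisj⟩ := main0624_opens hN i φ
  haveI := hfin
  let h : ∀ k : ι, (O k).toScheme ⟶ Z := fun k => (O k).ι ≫ φ
  haveI : ∀ k, IsOpenImmersion (h k) := hO
  let W : ι → Z.Opens := fun k => (h k).opensRange
  have hr : ∀ k, Set.range (W k).ι.base = Set.range (h k).base := by
    intro k
    rw [Scheme.Opens.range_ι]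
    rfl
  let a : ∀ k, (W k).toScheme ≅ (O k).toScheme :=
    fun k => IsOpenImmersion.isoOfRangeEq (W k).ι (h k) (hr k)
  have ha : ∀ k, (a k).hom ≫ h k = (W k).ι :=
    fun k => IsOpenImmersion.isoOfRangeEq_hom_fac (W k).ι (h k) (hr k)
  have hmemO : ∀ v : V, ∃ k, v ∈ O k := by
    intro v
    have hv : v ∈ ⨆ k, O k := by
      rw [hcov]
      exact Opens.mem_top v
    exact Opens.mem_iSup.1 hv
  have hWmem : ∀ k (z : Z), z ∈ W k ↔ ∃ v, v ∈ O k ∧ φ.base v = z := by
    intro k z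
    show z ∈ Set.range (h k).base ↔ _
    constructor
    · rintro ⟨y, hy⟩
      exact ⟨y.1, y.2, hy⟩
    · rintro ⟨v, hv, hvz⟩
      exact ⟨⟨v, hv⟩, hvz⟩
  have hOcl : ∀ k, IsClosed (O k : Set V) := by
    intro k
    have hc : ((O k : Set V))ᶜ = ⋃ j ∈ {j : ι | j ≠ k}, (O j : Set V) := by
      ext v
      simp only [Set.mem_compl_iff, Set.mem_iUnion, Set.mem_setOf_eq, SetLike.mem_coe,
        exists_prop]
      constructor
      · intro hv
        obtain ⟨j, hj⟩ := hmemO v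
        refine ⟨j, ?_, hj⟩
        rintro rfl
        exact hv hj
      · rintro ⟨j, hjk, hj⟩ hv
        exact disjoint_opens_iff.1 (hdisj hjk) v hj hv
    rw [← isOpen_compl_iff, hc]
    exact isOpen_biUnion fun j _ => (O j).2
  have hWcl : ∀ k, IsClosed (W k : Set Z) := by
    intro k
    have hWk : (W k : Set Z) = φ.base '' (O k : Set V) := by
      ext z
      rw [SetLike.mem_coe, hWmem]
      rfl
    rw [hWk]
    exact φ.isClosedMap _ (hOcl k)
  -- disjointify
  let r : ι → ℕ := fun k => ((Finite.equivFin ι k : Fin (Nat.card ι)) : ℕ)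
  have hr_inj : Function.Injective r := fun j k hjk =>
    (Finite.equivFin ι).injective (Fin.ext hjk)
  let C : ι → Set Z := fun k => ⋃ l ∈ {l : ι | r l < r k}, (W l : Set Z)
  have hC : ∀ k, IsClosed (C k) := fun k =>
    Set.Finite.isClosed_biUnion (Set.toFinite _) (fun l _ => hWcl l)
  let W' : ι → Z.Opens := fun k => ⟨(W k : Set Z) \ C k, (W k).2.sdiff (hC k)⟩
  have hW'mem : ∀ k (z : Z), z ∈ W' k ↔ z ∈ W k ∧ z ∉ C k := fun k z => Iff.rfl
  have hW'le : ∀ k, W' k ≤ W k := fun k => SetLike.le_def.2 fun z hz => ((hW'mem k z).1 hz).1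
  let f' : ∀ k, (W' k).toScheme ⟶ Z := fun k => (W' k).ι
  haveI : ∀ k, IsOpenImmersion (f' k) := fun k => inferInstanceAs (IsOpenImmersion (W' k).ι)
  have hf' : ∀ k, (f' k).opensRange = W' k := fun k => Scheme.Opens.opensRange_ι _
  have hcov' : ⨆ k, (f' k).opensRange = ⊤ := by
    rw [eq_top_iff]
    intro z _
    obtain ⟨v, hv⟩ := φ.surjective z
    obtain ⟨k₀, hk₀⟩ := hmemO v
    have hz₀ : z ∈ W k₀ := (hWmem k₀ z).2 ⟨v, hk₀, hv⟩
    obtain ⟨k, hk, hmin⟩ :=
      Set.exists_min_image {k : ι | z ∈ W k} r (Set.toFinite _) ⟨k₀, hz₀⟩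
    rw [Opens.mem_iSup]
    refine ⟨k, ?_⟩
    rw [hf', hW'mem]
    refine ⟨hk, ?_⟩
    intro hzC
    have hzC' : z ∈ ⋃ l ∈ {l : ι | r l < r k}, (W l : Set Z) := hzC
    simp only [Set.mem_iUnion, Set.mem_setOf_eq, exists_prop] at hzC'
    obtain ⟨l, hl, hzl⟩ := hzC'
    exact absurd (hmin l hzl) (not_le.2 hl)
  have hdisj' : Pairwise (Function.onFun Disjoint fun k => (f' k).opensRange) := by
    intro j k hjk
    show Disjoint (f' j).opensRange (f' k).opensRange
    rw [hf', hf', disjoint_opens_iff]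
    intro z hzj hzk
    rw [hW'mem] at hzj hzk
    rcases lt_or_gt_of_ne (fun h => hjk (hr_inj h)) with hlt | hgt
    · apply hzk.2
      show z ∈ ⋃ l ∈ {l : ι | r l < r k}, (W l : Set Z)
      exact Set.mem_biUnion (show j ∈ {l : ι | r l < r k} from hlt) hzj.1
    · apply hzj.2
      show z ∈ ⋃ l ∈ {l : ι | r l < r j}, (W l : Set Z)
      exact Set.mem_biUnion (show k ∈ {l : ι | r l < r j} from hgt) hzk.1
  obtain ⟨hc⟩ := nonempty_isColimit_cofanMk_of f' hcov' hdisj'
  let t : ∀ k, (W' k).toScheme ⟶ V := fun k => Z.homOfLE (hW'le k) ≫ (a k).hom ≫ (O k).ι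
  have ht : ∀ k, t k ≫ φ = (W' k).ι := by
    intro k
    show (Z.homOfLE (hW'le k) ≫ (a k).hom ≫ (O k).ι) ≫ φ = (W' k).ι
    rw [Category.assoc, Category.assoc]
    have h3 : (a k).hom ≫ (O k).ι ≫ φ = (W k).ι := ha k
    rw [h3, Scheme.homOfLE_ι]
  refine ⟨Cofan.IsColimit.desc hc t, ?_⟩
  refine Cofan.IsColimit.hom_ext hc _ _ (fun k => ?_)
  rw [← Category.assoc, Cofan.IsColimit.fac hc t k, ht k]
  exact (Category.comp_id _).symm

end Groth.Agent.Helper1.NE
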