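import Mathlib
import Groth.Agent.Lib.Helper1.LC7
import Groth.Prelude.Def_Pi1

/-!
# Constant sheaves on a normal scheme and dense quasi-compact open immersions (S3104)
-/

universe u
set_option linter.unusedSectionVars false
set_option linter.style.haveILetI false
open CategoryTheory CategoryTheory.Limits AlgebraicGeometry TopologicalSpace Opposite

namespace Groth.Agent.Helper1.NO

/-- topological extension lemma: restriction of locally constant functions to a dense open
subspace is bijective provided every point has a least generization and closures of clopen subsets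
of the open subspace consist of specializations -/
theorem comap_bijective_of_generic {Q V : Type*} [TopologicalSpace Q] [TopologicalSpace V]
    {M : Type*} (π : C(Q, V)) (hπ : Topology.IsOpenEmbedding π) (hd : DenseRange π)
    (ha : ∀ v : V, ∃ ξ : V, ξ ⤳ v ∧ ∀ z : V, z ⤳ v → ξ ⤳ z)
    (hb : ∀ E : Set V, IsOpen E → E ⊆ Set.range π → IsOpen (Set.range π \ E) →
      ∀ v ∈ closure E, ∃ e ∈ E, e ⤳ v) :
    Function.Bijective (LocallyConstant.comap π : LocallyConstant V M → LocallyConstant Q M) := by
  classical
  constructor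
  · intro F F' h
    letI : TopologicalSpace M := ⊥
    haveI : DiscreteTopology M := ⟨rfl⟩
    have h1 : (F : V → M) ∘ π = (F' : V → M) ∘ π := by
      funext q
      have := congrArg (fun s : LocallyConstant Q M => s q) h
      exact this
    have h2 : (F : V → M) = F' := hd.equalizer F.continuous F'.continuous h1
    exact LocallyConstant.ext (congrFun h2)
  · intro s
    have hSp : ∀ v : V, ∃ q : Q, π q ⤳ v := by
      intro v
      obtain ⟨e, ⟨q, rfl⟩, he⟩ := hb (Set.range π) hπ.isOpen_range subset_rfl
        (by rw [Set.diff_self]; exact isOpen_empty) v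
        (by rw [hd.closure_range]; exact Set.mem_univ v)
      exact ⟨q, he⟩
    choose g hg1 hg2 using ha
    have hgQ : ∀ v, g v ∈ Set.range π := by
      intro v
      obtain ⟨q, hq⟩ := hSp v
      exact (hg2 v _ hq).mem_open hπ.isOpen_range ⟨q, rfl⟩
    choose r hr using hgQ
    have K : ∀ (v : V) (q : Q), π q ⤳ v → s (r v) = s q := by
      intro v q hq
      have h1 : π (r v) ⤳ π q := by rw [hr v]; exact hg2 v _ hq
      have h2 : r v ⤳ q := (hπ.toIsEmbedding.toIsInducing.specializes_iff).1 h1
      exact h2.mem_open (s.isLocallyConstant {s q}) rfl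
    let F : V → M := fun v => s (r v)
    have hF : IsLocallyConstant F := by
      rw [IsLocallyConstant.iff_isOpen_fiber]
      intro m
      rw [← isClosed_compl_iff]
      let E : Set V := π '' {q | s q ≠ m}
      have hEo : IsOpen E := hπ.isOpenMap _ (s.isLocallyConstant {m}ᶜ)
      have hEr : E ⊆ Set.range π := Set.image_subset_range _ _
      have hE' : Set.range π \ E = π '' {q | s q = m} := by
        ext v
        constructor
        · rintro ⟨⟨q, rfl⟩, hv⟩
          refine ⟨q, ?_, rfl⟩
          by_contra hne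
          exact hv ⟨q, hne, rfl⟩
        · rintro ⟨q, hq, rfl⟩
          refine ⟨⟨q, rfl⟩, ?_⟩
          rintro ⟨q', hq', hqq'⟩
          have : q' = q := hπ.injective hqq'
          subst this
          exact hq' hq
      have hE'o : IsOpen (Set.range π \ E) := by
        rw [hE']
        exact hπ.isOpenMap _ (s.isLocallyConstant {m})
      have hEq : (F ⁻¹' {m})ᶜ = closure E := by
        apply Set.Subset.antisymm
        · intro v hv
          have hv' : s (r v) ≠ m := hv
          have h1 : π (r v) ∈ E := ⟨r v, hv', rfl⟩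
          have h2 : π (r v) ⤳ v := by rw [hr v]; exact hg1 v
          exact h2.mem_closed isClosed_closure (subset_closure h1)
        · intro v hv
          obtain ⟨e, ⟨q, hq, rfl⟩, he⟩ := hb E hEo hEr hE'o v hv
          show ¬ (s (r v) = m)
          rw [K v q he]
          exact hq
      rw [hEq]
      exact isClosed_closure
    refine ⟨⟨F, hF⟩, ?_⟩
    refine LocallyConstant.ext fun a => ?_
    show s (r (π a)) = s a
    exact K (π a) a specializes_rfl

/-- a point with domain stalk has a least generization -/
theorem exists_generic {P : Scheme.{u}} (y : P) [IsDomain (P.presheaf.stalk y)] :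
    ∃ ξ : P, ξ ⤳ y ∧ ∀ z : P, z ⤳ y → ξ ⤳ z := by
  let b : Spec (P.presheaf.stalk y) := (⊥ : PrimeSpectrum (P.presheaf.stalk y))
  let ζ : P := (P.fromSpecStalk y).base b
  have hζ : ∀ z : P, z ⤳ y → ζ ⤳ z := by
    intro z hz
    have hmem : z ∈ Set.range (P.fromSpecStalk y).base := by
      rw [Scheme.range_fromSpecStalk]
      exact hz
    obtain ⟨p, rfl⟩ := hmem
    let p' : PrimeSpectrum (P.presheaf.stalk y) := p
    have h1 : (⊥ : PrimeSpectrum (P.presheaf.stalk y)) ⤳ p' := by
      rw [← PrimeSpectrum.le_iff_specializes]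
      exact bot_le
    have h1' : b ⤳ p := h1
    exact h1'.map (P.fromSpecStalk y).continuous
  exact ⟨ζ, hζ y specializes_rfl, hζ⟩

set_option backward.isDefEq.respectTransparency.types false in
/-- in an affine scheme, the closure of a quasi-compact open consists of specializations -/
theorem spec_exists_specializes {A : CommRingCat.{u}} (D : (Spec A).Opens)
    (hD : IsCompact (D : Set (Spec A)))
    (p : Spec A) (hp : p ∈ closure (D : Set (Spec A))) : ∃ q : Spec A, q ∈ D ∧ q ⤳ p := by
  obtain ⟨R, f, hf⟩ := isCompact_iff_exists.mp hD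
  obtain ⟨φ, rfl⟩ := Spec.homEquiv.symm.surjective f
  have hr : Set.range (PrimeSpectrum.comap φ.hom) = (D : Set (Spec A)) := hf
  let p' : PrimeSpectrum A := p
  have hp' : p' ∈ closure (Set.range (PrimeSpectrum.comap φ.hom)) := by
    rw [hr]; exact hp
  rw [PrimeSpectrum.closure_range_comap] at hp'
  have hle : (⊥ : Ideal R).comap φ.hom ≤ p'.asIdeal := by
    rw [← RingHom.ker_eq_comap_bot]
    exact SetLike.coe_subset_coe.1 ((PrimeSpectrum.mem_zeroLocus p' _).1 hp')
  obtain ⟨Q, -, hQ, hQle⟩ := Ideal.exists_ideal_comap_le_prime p'.asIdeal (⊥ : Ideal R) hle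
  let q' : PrimeSpectrum R := ⟨Q, hQ⟩
  refine ⟨PrimeSpectrum.comap φ.hom q', ?_, ?_⟩
  · show PrimeSpectrum.comap φ.hom q' ∈ (D : Set (Spec A))
    rw [← hr]
    exact ⟨q', rfl⟩
  · have : PrimeSpectrum.comap φ.hom q' ≤ p' := hQle
    exact (PrimeSpectrum.le_iff_specializes _ _).1 this

/-- for a quasi-compact open immersion, the closure of a clopen part of the range consists of
specializations -/
theorem exists_specializes_of_mem_closure {V Q : Scheme.{u}} (j : Q ⟶ V) [IsOpenImmersion j]
    [QuasiCompact j] (E : Set V) (hE : IsOpen E) (hEr : E ⊆ Set.range j.base)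
    (hE' : IsOpen (Set.range j.base \ E)) (v : V) (hv : v ∈ closure E) : ∃ e ∈ E, e ⤳ v := by
  obtain ⟨W, hW, hvW⟩ : ∃ W : V.Opens, IsAffineOpen W ∧ v ∈ W := by
    obtain ⟨_, ⟨W, hW, rfl⟩, hy, -⟩ :=
      V.isBasis_affineOpens.exists_subset_of_mem_open (Set.mem_univ v) isOpen_univ
    exact ⟨W, hW, hy⟩
  have hc1 : IsCompact (j.base ⁻¹' (W : Set V)) :=
    QuasiCompact.isCompact_preimage (f := j) _ W.2 hW.isCompact
  have hcl : IsClosed (j.base ⁻¹' E) := by
    rw [← isOpen_compl_iff]
    have : (j.base ⁻¹' E)ᶜ = j.base ⁻¹' (Set.range j.base \ E) := by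
      ext q
      simp only [Set.mem_compl_iff, Set.mem_preimage, Set.mem_sdiff, Set.mem_range_self, true_and]
    rw [this]
    exact hE'.preimage j.continuous
  have hc2 : IsCompact (j.base ⁻¹' E ∩ j.base ⁻¹' (W : Set V)) := hc1.inter_left hcl
  have hc3 : IsCompact (E ∩ (W : Set V)) := by
    have : E ∩ (W : Set V) = j.base '' (j.base ⁻¹' E ∩ j.base ⁻¹' (W : Set V)) := by
      rw [← Set.preimage_inter, Set.image_preimage_eq_inter_range]
      apply Set.Subset.antisymm
      · intro x hx; exact ⟨hx, hEr hx.1⟩
      · intro x hx; exact hx.1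
    rw [this]
    exact hc2.image j.continuous
  have hgo : Topology.IsOpenEmbedding hW.fromSpec.base := hW.fromSpec.isOpenEmbedding
  have hgr : Set.range hW.fromSpec.base = (W : Set V) := hW.range_fromSpec
  obtain ⟨p, hp⟩ : v ∈ Set.range hW.fromSpec.base := by rw [hgr]; exact hvW
  let D : (Spec Γ(V, W)).Opens := hW.fromSpec ⁻¹ᵁ ⟨E, hE⟩
  have hDc : IsCompact (D : Set (Spec Γ(V, W))) := by
    have h1 : (D : Set (Spec Γ(V, W))) = hW.fromSpec.base ⁻¹' (E ∩ (W : Set V)) := by
      ext x
      constructor
      · intro hx; exact ⟨hx, by rw [← hgr]; exact ⟨x, rfl⟩⟩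
      · intro hx; exact hx.1
    rw [h1]
    refine (hgo.toIsEmbedding.toIsInducing.isCompact_preimage_iff ?_).2 hc3
    rw [hgr]; exact Set.inter_subset_right
  have hpD : p ∈ closure (D : Set (Spec Γ(V, W))) := by
    have h1 := hgo.isOpenMap.preimage_closure_eq_closure_preimage hW.fromSpec.continuous E
    have h2 : p ∈ hW.fromSpec.base ⁻¹' closure E := by
      show hW.fromSpec.base p ∈ closure E
      rw [hp]; exact hv
    rw [h1] at h2
    exact h2
  obtain ⟨q, hqD, hqp⟩ := spec_exists_specializes D hDc p hpD
  refine ⟨hW.fromSpec.base q, hqD, ?_⟩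
  rw [← hp]
  exact hqp.map hW.fromSpec.continuous

/-- S3104 -/
theorem main3104 (X U : Scheme.{u}) (hX : Pi1.IsNormalScheme X)
    (j : U ⟶ X) [IsOpenImmersion j] [QuasiCompact j] (hj : Dense (Set.range j))
    (M : Type) [AddCommGroup M] :
    IsIso ((EtCoh.pullPushAdj j).unit.app (EtCoh.const X M)) := by
  apply LC.isIso_unit_const j (ULift.{u + 1} M)
  intro V
  let c : V.left ⟶ X := V.hom
  haveI : Etale c := V.prop
  have hπo : Topology.IsOpenEmbedding (pullback.fst c j).base :=
    (pullback.fst c j).isOpenEmbedding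
  have hd : DenseRange (pullback.fst c j).base := by
    show Dense (Set.range (pullback.fst c j).base)
    rw [Scheme.Pullback.range_fst]
    exact hj.preimage c.isOpenMap
  refine comap_bijective_of_generic (LC.piV j V) hπo hd ?_ ?_
  · intro v
    haveI := (hX (c.base v)).1
    haveI := (hX (c.base v)).2
    haveI : IsDomain (V.left.presheaf.stalk v) :=
      (Groth.Agent.Helper16.NormalEtale.stalk_normal_of_etale c v).1
    exact exists_generic (P := V.left) v
  · intro E hE hEr hE' v hv
    exact exists_specializes_of_mem_closure (pullback.fst c j) E hE hEr hE' v hv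

end Groth.Agent.Helper1.NO
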