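import Mathlib

/-!
# Localizations of a ring integrally closed in a von Neumann regular overring are normal domains
-/

set_option autoImplicit false

namespace Groth.Agent.Helper1.NR

section Abstract

variable {B K : Type*} [CommRing B] [CommRing K] [Algebra B K] [IsIntegrallyClosedIn B K]

theorem algebraMap_inj : Function.Injective (algebraMap B K) :=
  IsIntegralClosure.algebraMap_injective B B K

theorem exists_of_idem (e : K) (he : e * e = e) : ∃ ε : B, algebraMap B K ε = e := by
  have hint : IsIntegral B e := by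
    refine ⟨Polynomial.X * (Polynomial.X - Polynomial.C 1),
      Polynomial.monic_X.mul (Polynomial.monic_X_sub_C 1), ?_⟩
    rw [Polynomial.eval₂_mul, Polynomial.eval₂_X, Polynomial.eval₂_sub, Polynomial.eval₂_X,
      Polynomial.eval₂_C, map_one, mul_sub, mul_one, he, sub_self]
  exact IsIntegrallyClosedIn.isIntegral_iff.mp hint

variable (hvn : ∀ k : K, ∃ e k' : K, e * e = e ∧ e * k = k ∧ k * k' = e)
  (P : Ideal B) [P.IsPrime]

include hvn in
/-- key dichotomy: `x : B` is either killed by an element outside `P`, or divides (in `K`)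
an idempotent of `B` outside `P` -/
theorem dichotomy (x : B) : (∃ w : P.primeCompl, (w : B) * x = 0) ∨
    (∃ (ε : B) (k' : K), ε ∉ P ∧ algebraMap B K x * k' = algebraMap B K ε ∧
      ∀ y : B, x * y = 0 → ε * y = 0) := by
  obtain ⟨e, k', hee, hek, hkk'⟩ := hvn (algebraMap B K x)
  obtain ⟨ε, rfl⟩ := exists_of_idem (B := B) e hee
  by_cases hε : ε ∈ P
  · left
    have h3 : (1 - ε) ∉ P := fun h =>
      (Ideal.IsPrime.ne_top ‹_›) ((Ideal.eq_top_iff_one P).mpr (by
        have := P.add_mem h hε
        rwa [sub_add_cancel] at this))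
    refine ⟨⟨1 - ε, h3⟩, ?_⟩
    apply algebraMap_inj (K := K)
    show algebraMap B K ((1 - ε) * x) = algebraMap B K 0
    rw [map_mul, map_sub, map_one, map_zero, sub_mul, one_mul, hek, sub_self]
  · right
    refine ⟨ε, k', hε, hkk', fun y hy => ?_⟩
    apply algebraMap_inj (K := K)
    rw [map_mul, map_zero, ← hkk', mul_right_comm, ← map_mul, hy, map_zero, zero_mul]

include hvn in
theorem isDomain_localization : IsDomain (Localization.AtPrime P) := by
  haveI : NoZeroDivisors (Localization.AtPrime P) := by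
    refine ⟨fun {X Y} hXY => ?_⟩
    obtain ⟨x, u, rfl⟩ := IsLocalization.exists_mk'_eq P.primeCompl X
    obtain ⟨y, v, rfl⟩ := IsLocalization.exists_mk'_eq P.primeCompl Y
    rw [← IsLocalization.mk'_mul, IsLocalization.mk'_eq_zero_iff] at hXY
    obtain ⟨z, hz⟩ := hXY
    rcases dichotomy hvn P ((z : B) * x) with ⟨w, hw⟩ | ⟨ε, k', hε, -, hy⟩
    · left
      rw [IsLocalization.mk'_eq_zero_iff]
      exact ⟨w * z, by rw [Submonoid.coe_mul, mul_assoc]; exact hw⟩
    · right
      rw [IsLocalization.mk'_eq_zero_iff]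
      exact ⟨⟨ε, hε⟩, hy y (by rw [mul_assoc]; exact hz)⟩
  exact NoZeroDivisors.to_isDomain _

/-- the localization of `K` at the image of `B ∖ P` -/
abbrev Fp : Type _ := Localization (Algebra.algebraMapSubmonoid K P.primeCompl)

theorem isUnit_algebraMap_Fp (u : P.primeCompl) :
    IsUnit (algebraMap B (Fp (K := K) P) u) := by
  rw [IsScalarTower.algebraMap_apply B K (Fp (K := K) P)]
  exact IsLocalization.map_units (Fp (K := K) P)
    (⟨algebraMap B K u, ⟨u, u.2, rfl⟩⟩ : Algebra.algebraMapSubmonoid K P.primeCompl)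

theorem algebraMap_D_Fp (x : B) :
    algebraMap (Localization.AtPrime P) (Fp (K := K) P)
      (algebraMap B (Localization.AtPrime P) x) =
      algebraMap K (Fp (K := K) P) (algebraMap B K x) := by
  rw [← IsScalarTower.algebraMap_apply B (Localization.AtPrime P) (Fp (K := K) P),
    IsScalarTower.algebraMap_apply B K (Fp (K := K) P)]

variable (hfrac : ∀ k : K, ∃ s x : B, IsUnit (algebraMap B K s) ∧
  k * algebraMap B K s = algebraMap B K x)

include hvn hfrac in
theorem isFractionRing_Fp :
    IsFractionRing (Localization.AtPrime P) (Fp (K := K) P) := by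
  haveI := isDomain_localization hvn P
  have hinjD : Function.Injective (algebraMap (Localization.AtPrime P) (Fp (K := K) P)) :=
    localizationAlgebra_injective (Localization.AtPrime P) (Fp (K := K) P) algebraMap_inj
  refine { map_units := fun d => ?_, surj := fun z => ?_, exists_of_eq := fun {a b} h => ?_ }
  · obtain ⟨d, hd⟩ := d
    obtain ⟨x, u, rfl⟩ := IsLocalization.exists_mk'_eq P.primeCompl d
    have hne : IsLocalization.mk' (Localization.AtPrime P) x u ≠ 0 := nonZeroDivisors.ne_zero hd
    have hspec : algebraMap (Localization.AtPrime P) (Fp (K := K) P)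
        (IsLocalization.mk' (Localization.AtPrime P) x u) *
        algebraMap K (Fp (K := K) P) (algebraMap B K u) =
        algebraMap K (Fp (K := K) P) (algebraMap B K x) := by
      rw [← algebraMap_D_Fp, ← algebraMap_D_Fp, ← map_mul, IsLocalization.mk'_spec]
    have hxu : IsUnit (algebraMap K (Fp (K := K) P) (algebraMap B K x)) := by
      rcases dichotomy hvn P x with ⟨w, hw⟩ | ⟨ε, k', hε, hk, -⟩
      · exact absurd ((IsLocalization.mk'_eq_zero_iff x u).mpr ⟨w, hw⟩) hne
      · have h1 : algebraMap K (Fp (K := K) P) (algebraMap B K x) *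
            algebraMap K (Fp (K := K) P) k' = algebraMap B (Fp (K := K) P) ε := by
          rw [← map_mul, hk, ← IsScalarTower.algebraMap_apply]
        have h2 : IsUnit (algebraMap B (Fp (K := K) P) ε) := isUnit_algebraMap_Fp P ⟨ε, hε⟩
        rw [← h1] at h2
        exact isUnit_of_mul_isUnit_left h2
    rw [← hspec] at hxu
    exact isUnit_of_mul_isUnit_left hxu
  · obtain ⟨k, m, rfl⟩ :=
      IsLocalization.exists_mk'_eq (Algebra.algebraMapSubmonoid K P.primeCompl) z
    obtain ⟨mv, u, hu, rfl⟩ := m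
    obtain ⟨s, x, hs, hsx⟩ := hfrac k
    have hne : algebraMap B (Localization.AtPrime P) (s * u) ≠ 0 := by
      intro h0
      rw [IsLocalization.map_eq_zero_iff P.primeCompl] at h0
      obtain ⟨w, hw⟩ := h0
      have h1 : algebraMap B K ((w : B) * u) = 0 := by
        have := congrArg (algebraMap B K) hw
        rw [map_zero, show (w : B) * (s * u) = s * ((w : B) * u) by ring, map_mul] at this
        exact (hs.mul_right_eq_zero).mp this
      have h2 : (w : B) * u = 0 := algebraMap_inj (K := K) (by rw [h1, map_zero])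
      have h3 : (w : B) * u ∈ P := by rw [h2]; exact P.zero_mem
      exact (P.primeCompl.mul_mem w.2 hu) h3
    refine ⟨(algebraMap B (Localization.AtPrime P) x,
      ⟨algebraMap B (Localization.AtPrime P) (s * u), mem_nonZeroDivisors_of_ne_zero hne⟩), ?_⟩
    have e3 := IsLocalization.mk'_spec (Fp (K := K) P) k
      (⟨algebraMap B K u, ⟨u, hu, rfl⟩⟩ : Algebra.algebraMapSubmonoid K P.primeCompl)
    show IsLocalization.mk' (Fp (K := K) P) k
        (⟨algebraMap B K u, ⟨u, hu, rfl⟩⟩ : Algebra.algebraMapSubmonoid K P.primeCompl) *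
      algebraMap (Localization.AtPrime P) (Fp (K := K) P)
        (algebraMap B (Localization.AtPrime P) (s * u)) =
      algebraMap (Localization.AtPrime P) (Fp (K := K) P)
        (algebraMap B (Localization.AtPrime P) x)
    rw [algebraMap_D_Fp, algebraMap_D_Fp, ← hsx, map_mul, map_mul, map_mul, ← e3]
    ring
  · exact ⟨1, by rw [hinjD h]⟩

theorem ring_aux {F : Type*} [CommRing F] (ξ U Kk Bβ M1 M2 W Y : F) (h1 : ξ * U = Kk)
    (h2 : Bβ = M2 * (M1 * Kk)) (h3 : W = M2 * M1 * U) (h4 : Y * W = Bβ) : Y * W = ξ * W := by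
  rw [h4, h2, h3, ← h1]
  ring

theorem ring_aux2 {F : Type*} [CommRing F] (ξ U Kk M1 : F) (h1 : ξ * U = Kk) :
    M1 * Kk = (M1 * ξ) * U := by
  rw [← h1]
  ring

include hvn hfrac in
theorem isIntegrallyClosed_localization : IsIntegrallyClosed (Localization.AtPrime P) := by
  haveI := isDomain_localization hvn P
  haveI := isFractionRing_Fp hvn P hfrac
  rw [isIntegrallyClosed_iff (Fp (K := K) P)]
  intro ξ hξ
  obtain ⟨m₁, hm₁⟩ := IsIntegral.exists_multiple_integral_of_isLocalization P.primeCompl ξ hξ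
  obtain ⟨k, m, rfl⟩ :=
    IsLocalization.exists_mk'_eq (Algebra.algebraMapSubmonoid K P.primeCompl) ξ
  obtain ⟨mv, u, hu, rfl⟩ := m
  have e3 := IsLocalization.mk'_spec (Fp (K := K) P) k
    (⟨algebraMap B K u, ⟨u, hu, rfl⟩⟩ : Algebra.algebraMapSubmonoid K P.primeCompl)
  have h1 : IsIntegral B (algebraMap K (Fp (K := K) P) (algebraMap B K m₁ * k)) := by
    have e : algebraMap K (Fp (K := K) P) (algebraMap B K m₁ * k) =
        (m₁ • IsLocalization.mk' (Fp (K := K) P) k
          (⟨algebraMap B K u, ⟨u, hu, rfl⟩⟩ : Algebra.algebraMapSubmonoid K P.primeCompl)) *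
          algebraMap B (Fp (K := K) P) u := by
      rw [map_mul, Submonoid.smul_def, Algebra.smul_def,
        IsScalarTower.algebraMap_apply B K (Fp (K := K) P),
        IsScalarTower.algebraMap_apply B K (Fp (K := K) P) u]
      exact ring_aux2 _ _ _ _ e3
    rw [e]
    exact hm₁.mul isIntegral_algebraMap
  obtain ⟨m₂, hm₂, h2⟩ := IsLocalization.exists_isIntegral_smul_of_isIntegral_map
    (Sₘ := Fp (K := K) P) P.primeCompl h1
  obtain ⟨β, hβ⟩ := IsIntegrallyClosedIn.isIntegral_iff.mp h2
  refine ⟨IsLocalization.mk' (Localization.AtPrime P) β (⟨m₂, hm₂⟩ * m₁ * ⟨u, hu⟩), ?_⟩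
  have hunit := isUnit_algebraMap_Fp (K := K) P (⟨m₂, hm₂⟩ * m₁ * ⟨u, hu⟩)
  apply hunit.mul_left_injective
  have hW : algebraMap B (Fp (K := K) P) ((⟨m₂, hm₂⟩ * m₁ * ⟨u, hu⟩ : P.primeCompl) : B) =
      algebraMap K (Fp (K := K) P) (algebraMap B K m₂) *
        algebraMap K (Fp (K := K) P) (algebraMap B K m₁) *
        algebraMap K (Fp (K := K) P) (algebraMap B K u) := by
    rw [IsScalarTower.algebraMap_apply B K (Fp (K := K) P), Submonoid.coe_mul, Submonoid.coe_mul,
      map_mul, map_mul, map_mul, map_mul]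
  have hY : algebraMap (Localization.AtPrime P) (Fp (K := K) P)
      (IsLocalization.mk' (Localization.AtPrime P) β (⟨m₂, hm₂⟩ * m₁ * ⟨u, hu⟩)) *
      algebraMap B (Fp (K := K) P) ((⟨m₂, hm₂⟩ * m₁ * ⟨u, hu⟩ : P.primeCompl) : B) =
      algebraMap K (Fp (K := K) P) (algebraMap B K β) := by
    rw [IsScalarTower.algebraMap_apply B (Localization.AtPrime P) (Fp (K := K) P), ← map_mul,
      IsLocalization.mk'_spec, algebraMap_D_Fp]
  have hB : algebraMap K (Fp (K := K) P) (algebraMap B K β) =
      algebraMap K (Fp (K := K) P) (algebraMap B K m₂) *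
        (algebraMap K (Fp (K := K) P) (algebraMap B K m₁) * algebraMap K (Fp (K := K) P) k) := by
    rw [hβ, Algebra.smul_def, map_mul, map_mul]
  exact ring_aux _ _ _ _ _ _ _ _ e3 hB hW hY

end Abstract

end Groth.Agent.Helper1.NR
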