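import Mathlib
import Groth.Prelude.Def_EtCore
import Groth.Prelude.Def_SGA4b
import Groth.Agent.Lib.Helper1.OI1
import Groth.Agent.Lib.Helper1.CI10

/-!
# Direct image of sheaves of sets along an immersion is fully faithful (helper1)
-/

set_option autoImplicit false
set_option linter.unusedSectionVars false
set_option linter.style.haveILetI false

open CategoryTheory CategoryTheory.Limits AlgebraicGeometry Opposite

namespace Groth.Agent.Helper1.OI

universe u

open Groth.Agent.Helper1.CI

theorem full_faithful_pushSh_open {V X : Scheme.{u}} (j : V ⟶ X) [IsOpenImmersion j] :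
    (EtDesc.pushSh j).Full ∧ (EtDesc.pushSh j).Faithful := by
  haveI := isCoverDense_bc_open j
  haveI := isLocallyFull_bc_open j
  exact ⟨Functor.IsCoverDense.full_sheafPushforwardContinuous _ _ _,
    Functor.IsCoverDense.faithful_sheafPushforwardContinuous _ _ _⟩

theorem full_faithful_pushSh_immersion {X Y : Scheme.{u}} (f : X ⟶ Y) [IsImmersion f] :
    (EtDesc.pushSh f).Full ∧ (EtDesc.pushSh f).Faithful := by
  obtain ⟨h1, h2⟩ := full_faithful_pushSh f.liftCoborder
  obtain ⟨h3, h4⟩ := full_faithful_pushSh_open f.coborderRange.ι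
  haveI := h1
  haveI := h2
  haveI := h3
  haveI := h4
  have e := EtDesc.pushCompSh f.coborderRange.ι f.liftCoborder
  haveI : (EtDesc.pushSh (f.liftCoborder ≫ f.coborderRange.ι)).Full := Functor.Full.of_iso e
  haveI : (EtDesc.pushSh (f.liftCoborder ≫ f.coborderRange.ι)).Faithful :=
    Functor.Faithful.of_iso e
  have hfull : ∀ (g : X ⟶ Y), g = f.liftCoborder ≫ f.coborderRange.ι →
      (EtDesc.pushSh g).Full ∧ (EtDesc.pushSh g).Faithful := by
    rintro _ rfl
    exact ⟨inferInstance, inferInstance⟩
  exact hfull f f.liftCoborder_ι.symm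

theorem main3888 {X Y : Scheme.{u}} (f : X ⟶ Y) [IsImmersion f] (F : EtDesc.Sh X) :
    IsIso ((EtDesc.adjSh f).counit.app F) := by
  obtain ⟨h5, h6⟩ := full_faithful_pushSh_immersion f
  haveI := h5
  haveI := h6
  infer_instance

end Groth.Agent.Helper1.OI
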