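import Mathlib
import Groth.Prelude.Def_EtCore
import Groth.Prelude.Def_EtShriek2
import Groth.Agent.Lib.Helper1.OI4
import Groth.Agent.Lib.Helper1.CI6
import Groth.Agent.Lib.Helper1.SHC9

/-!
# Direct images along universally closed maps: vanishing of stalks; base change of
  restriction to an étale (helper1)
-/

set_option autoImplicit false
set_option linter.unusedSectionVars false
set_option linter.style.haveILetI false

open CategoryTheory CategoryTheory.Limits AlgebraicGeometry Opposite

namespace Groth.Agent.Helper1.OI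

universe u

open Groth.Agent.Helper1.SHC Groth.Agent.Helper1.CI

set_option backward.isDefEq.respectTransparency.types false in
/-- if `f` is universally closed and the stalks of `H` vanish at all geometric points over
the image of `ξ`, then the stalk of `f_* H` at `ξ` vanishes -/
theorem isZero_stalk_push_of_fiber {X Y : Scheme.{u}} (f : X ⟶ Y) [UniversallyClosed f]
    (H : EtCoh.Ab X) {Ω : Type u} [Field Ω] [IsSepClosed Ω] (ξ : Spec (CommRingCat.of Ω) ⟶ Y)
    (hH : ∀ (Ω' : Type u) [Field Ω'] [IsSepClosed Ω'] (ξ' : Spec (CommRingCat.of Ω') ⟶ X),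
      f.base (ξ'.base (default : Spec (CommRingCat.of Ω'))) =
        ξ.base (default : Spec (CommRingCat.of Ω)) →
      IsZero ((EtCoh.stalk ξ').obj H)) :
    IsZero ((EtCoh.stalk ξ).obj ((EtCoh.push f).obj H)) := by
  haveI := preservesFilteredColimits_forget.{u}
  suffices h : ∀ p : ToType ((Scheme.pointSmallEtale ξ).presheafFiber.obj
      ((EtCoh.push f).obj H).obj), p = 0 by
    haveI : Subsingleton (ToType ((Scheme.pointSmallEtale ξ).presheafFiber.obj
      ((EtCoh.push f).obj H).obj)) := ⟨fun a b => (h a).trans (h b).symm⟩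
    exact AddCommGrpCat.isZero_of_subsingleton
      ((Scheme.pointSmallEtale ξ).presheafFiber.obj ((EtCoh.push f).obj H).obj)
  intro p
  obtain ⟨W, w, σ, rfl⟩ := (Scheme.pointSmallEtale ξ).toPresheafFiber_jointly_surjective p
  let wl : Spec (CommRingCat.of Ω) ⟶ W.left := w.left
  have hw : wl ≫ W.hom = ξ := Over.w w
  let σ' : EtCoh.sect H ((EtCoh.bc f).obj W) := σ
  obtain ⟨Wo₀, hWo⟩ := exists_vanishing_open H ((EtCoh.bc f).obj W) σ'
  let Wo : (pullback W.hom f).Opens := Wo₀
  let fst : pullback W.hom f ⟶ W.left := pullback.fst W.hom f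
  let snd : pullback W.hom f ⟶ X := pullback.snd W.hom f
  let w₀ : W.left := wl.base (default : Spec (CommRingCat.of Ω))
  have hw₀ : W.hom.base w₀ = ξ.base (default : Spec (CommRingCat.of Ω)) :=
    congrArg (fun φ : Spec (CommRingCat.of Ω) ⟶ Y =>
      φ.base (default : Spec (CommRingCat.of Ω))) hw
  -- the fibre over `w₀` lies in `Wo`
  have hfib : ∀ t : ↥(pullback W.hom f), fst.base t = w₀ →
      t ∈ (Wo : Set ↥(pullback W.hom f)) := by
    intro t ht
    by_contra hnot
    obtain ⟨Ω', i1, i2, ξ', y', hy'⟩ := exists_geom_point ((EtCoh.bc f).obj W) t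
    let yl' : Spec (CommRingCat.of Ω') ⟶ pullback W.hom f := y'.left
    have hyl' : yl' ≫ snd = ξ' := Over.w y'
    have hyt : yl'.base (default : Spec (CommRingCat.of Ω')) = t := hy'
    have e1 : ξ'.base (default : Spec (CommRingCat.of Ω')) = snd.base t := by
      have h2 := congrArg (fun φ : Spec (CommRingCat.of Ω') ⟶ X =>
        φ.base (default : Spec (CommRingCat.of Ω'))) hyl'
      exact h2.symm.trans (congrArg snd.base hyt)
    have e2 : W.hom.base (fst.base t) = f.base (snd.base t) :=
      congrArg (fun φ : pullback W.hom f ⟶ Y => φ.base t)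
        (pullback.condition (f := W.hom) (g := f))
    have hz := hH Ω' ξ' (by
      rw [e1, ← e2, ht]
      exact hw₀)
    haveI : Subsingleton (ToType ((Scheme.pointSmallEtale ξ').presheafFiber.obj H.obj)) :=
      AddCommGrpCat.subsingleton_of_isZero hz
    have h1 : (Scheme.pointSmallEtale ξ').toPresheafFiber ((EtCoh.bc f).obj W) y' H.obj σ' =
        (Scheme.pointSmallEtale ξ').toPresheafFiber ((EtCoh.bc f).obj W) y' H.obj 0 :=
      Subsingleton.elim _ _
    obtain ⟨V, g, v, hv, hg⟩ :=
      ((Scheme.pointSmallEtale ξ').toPresheafFiber_eq_iff' _ y' _ _).1 h1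
    have hsub := (hWo V g).1 (hg.trans (map_zero _))
    apply hnot
    apply hsub
    refine ⟨(v.left : Spec (CommRingCat.of Ω') ⟶ V.left).base
      (default : Spec (CommRingCat.of Ω')), ?_⟩
    rw [← hy', ← hv]
    rfl
  -- the closed image of the complement
  let C : Set W.left := fst.base '' ((Wo : Set ↥(pullback W.hom f))ᶜ)
  have hC : IsClosed C := fst.isClosedMap _ Wo.isOpen.isClosed_compl
  have hw₀C : w₀ ∉ C := by
    rintro ⟨t, ht, hfst⟩
    exact ht (hfib t hfst)
  let O : W.left.Opens := ⟨Cᶜ, hC.isOpen_compl⟩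
  let W' : Y.Etale := Scheme.Etale.mk (O.ι ≫ W.hom)
  let ι : W' ⟶ W := MorphismProperty.Over.homMk O.ι rfl trivial
  have hrange : Set.range wl.base ⊆ Set.range O.ι.base := by
    rintro _ ⟨a, rfl⟩
    rw [Scheme.Opens.range_ι, Subsingleton.elim a (default : Spec (CommRingCat.of Ω))]
    exact hw₀C
  let l : Spec (CommRingCat.of Ω) ⟶ O.toScheme := IsOpenImmersion.lift O.ι wl hrange
  have hl : l ≫ O.ι = wl := IsOpenImmersion.lift_fac _ _ _
  have hl' : l ≫ W'.hom = ξ := by
    change l ≫ (O.ι ≫ W.hom) = ξ
    rw [← Category.assoc, hl, hw]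
  let w' : (Scheme.pointSmallEtale ξ).fiber.obj W' := Over.homMk l hl'
  have hw' : (Scheme.pointSmallEtale ξ).fiber.map ι w' = w := by
    apply Over.OverMorphism.ext
    exact hl
  have hz : ((EtCoh.push f).obj H).obj.map ι.op σ = 0 := by
    change H.obj.map ((EtCoh.bc f).map ι).op σ' = 0
    rw [hWo]
    rintro _ ⟨t', rfl⟩
    let m : pullback W'.hom f ⟶ pullback W.hom f := ((EtCoh.bc f).map ι).left
    have em : m ≫ fst = pullback.fst W'.hom f ≫ O.ι := bc_map_fst f ι
    by_contra hnot
    have h3 : fst.base (m.base t') ∈ C := ⟨m.base t', hnot, rfl⟩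
    have h4 : fst.base (m.base t') = O.ι.base ((pullback.fst W'.hom f).base t') :=
      congrArg (fun φ : pullback W'.hom f ⟶ W.left => φ.base t') em
    rw [h4] at h3
    exact ((pullback.fst W'.hom f).base t').2 h3
  rw [← hw', ← (Scheme.pointSmallEtale ξ).toPresheafFiber_w_apply ι w' _ σ, hz, map_zero]

section BC

variable {U X V Y : Scheme.{u}} (f : X ⟶ Y) (j : V ⟶ Y) [Etale j]
  (j' : U ⟶ X) [Etale j'] (g : U ⟶ V) (h : IsPullback j' g f j)

include h in
theorem isPullback_big (W : V.Etale) :
    IsPullback (pullback.fst W.hom g) (pullback.snd W.hom g ≫ j') (W.hom ≫ j) f :=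
  ((IsPullback.of_hasPullback W.hom g).flip.paste_horiz h).flip

set_option backward.isDefEq.respectTransparency.types false in
/-- the site-level base change isomorphism -/
noncomputable def bcCompIso :
    EtCoh.bc g ⋙ EtShriek.compEtale j' ≅ EtShriek.compEtale j ⋙ EtCoh.bc f :=
  NatIso.ofComponents (fun W =>
    MorphismProperty.Over.isoMk (isPullback_big f j j' g h W).isoPullback
      ((isPullback_big f j j' g h W).isoPullback_hom_snd))
    (by
      intro W W' w
      apply MorphismProperty.Over.Hom.ext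
      let m1 : pullback W.hom g ⟶ pullback W'.hom g := ((EtCoh.bc g).map w).left
      let m2 : pullback (W.hom ≫ j) f ⟶ pullback (W'.hom ≫ j) f :=
        ((EtCoh.bc f).map ((EtShriek.compEtale j).map w)).left
      change m1 ≫ (isPullback_big f j j' g h W').isoPullback.hom =
        (isPullback_big f j j' g h W).isoPullback.hom ≫ m2
      have a1 : m1 ≫ pullback.fst W'.hom g = pullback.fst W.hom g ≫ w.left := bc_map_fst g w
      have a2 : m1 ≫ pullback.snd W'.hom g = pullback.snd W.hom g := bc_map_snd g w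
      have b1 : m2 ≫ pullback.fst (W'.hom ≫ j) f = pullback.fst (W.hom ≫ j) f ≫ w.left :=
        bc_map_fst f ((EtShriek.compEtale j).map w)
      have b2 : m2 ≫ pullback.snd (W'.hom ≫ j) f = pullback.snd (W.hom ≫ j) f :=
        bc_map_snd f ((EtShriek.compEtale j).map w)
      apply pullback.hom_ext
      · rw [Category.assoc, Category.assoc, IsPullback.isoPullback_hom_fst, a1, b1,
          ← Category.assoc, IsPullback.isoPullback_hom_fst]
      · rw [Category.assoc, Category.assoc, IsPullback.isoPullback_hom_snd, b2,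
          IsPullback.isoPullback_hom_snd, ← Category.assoc, a2])

variable [EtShriek.JCont j] [EtShriek.JCont j']

/-- restriction to an étale commutes with direct image -/
noncomputable def pushRestrIso :
    EtCoh.push f ⋙ EtShriek.restrAlong j ≅ EtShriek.restrAlong j' ⋙ EtCoh.push g :=
  haveI : (EtCoh.bc g ⋙ EtShriek.compEtale j').IsContinuous V.smallEtaleTopology
      X.smallEtaleTopology :=
    Functor.isContinuous_comp (EtCoh.bc g) (EtShriek.compEtale j') V.smallEtaleTopology
      U.smallEtaleTopology X.smallEtaleTopology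
  Functor.sheafPushforwardContinuousComp' (F := EtShriek.compEtale j) (G := EtCoh.bc f)
      (FG := EtCoh.bc g ⋙ EtShriek.compEtale j') (bcCompIso f j j' g h).symm
      AddCommGrpCat.{u + 1} V.smallEtaleTopology Y.smallEtaleTopology X.smallEtaleTopology ≪≫
    (Functor.sheafPushforwardContinuousComp' (F := EtCoh.bc g) (G := EtShriek.compEtale j')
      (FG := EtCoh.bc g ⋙ EtShriek.compEtale j') (Iso.refl _)
      AddCommGrpCat.{u + 1} V.smallEtaleTopology U.smallEtaleTopology X.smallEtaleTopology).symm

end BC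

theorem main0653 {U X V Y : Scheme.{u}} (f : X ⟶ Y) [IsFinite f] (j : V ⟶ Y)
    [IsOpenImmersion j] [AlgebraicGeometry.Etale j] [EtShriek.JCont j] (j' : U ⟶ X)
    [IsOpenImmersion j'] [AlgebraicGeometry.Etale j'] [EtShriek.JCont j'] (g : U ⟶ V)
    (h : IsPullback j' g f j) (F : EtCoh.Ab U) :
    Nonempty ((EtCoh.push f).obj ((EtShriek.extZero j').obj F) ≅
      (EtShriek.extZero j).obj ((EtCoh.push g).obj F)) := by
  apply main0652 j ((EtCoh.push g).obj F) ((EtCoh.push f).obj ((EtShriek.extZero j').obj F))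
  · haveI := isIso_unit_extZero j' F
    let e1 : (EtShriek.restrAlong j).obj ((EtCoh.push f).obj ((EtShriek.extZero j').obj F)) ≅
        (EtCoh.push g).obj ((EtShriek.restrAlong j').obj ((EtShriek.extZero j').obj F)) :=
      (pushRestrIso f j j' g h).app _
    exact ⟨e1 ≪≫ (EtCoh.push g).mapIso (asIso ((EtShriek.extZeroAdj j').unit.app F)).symm⟩
  · intro Ω _ _ ξ hξ
    apply isZero_stalk_push_of_fiber f _ ξ
    intro Ω' _ _ ξ' hξ'
    apply isZero_stalk_extZero j' ξ' F
    rintro ⟨u, hu⟩
    apply hξ ⟨(default : Spec (CommRingCat.of Ω)), rfl⟩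
    refine ⟨g.base u, ?_⟩
    have h1 : f.base (j'.base u) = j.base (g.base u) :=
      congrArg (fun φ : U ⟶ Y => φ.base u) h.w
    rw [← h1, hu]
    exact hξ'

end Groth.Agent.Helper1.OI
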