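import Mathlib

/-!
# Descent of a disconnection of the punctured spectrum along `S → S'` for henselian `S`

`S → S'` is a faithfully flat local map of local rings with `S/𝔪ᵏ ≅ S'/𝔪ᵏS'` for all `k`
(e.g. `S'` the completion of `S`), and `S` is henselian.
-/

set_option autoImplicit false

namespace Groth.Agent.Helper1.PC

open IsLocalRing Polynomial

universe u

section F3

variable {S S' : Type*} [CommRing S] [CommRing S'] [Algebra S S'] [Module.Flat S S']

/-- flat descent for a colon condition, via the equational criterion of flatness -/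
theorem exists_decomp_of_flat (𝔞 : Ideal S) (h𝔞 : 𝔞.FG) (g : S) (a : S')
    (ha : ∀ z ∈ 𝔞, ∃ c : S', algebraMap S S' z * a = algebraMap S S' g * c)
    (hdense : ∀ y : S', ∃ s : S, y - algebraMap S S' s ∈ 𝔞.map (algebraMap S S')) :
    ∃ (t : S) (w : S'), a = algebraMap S S' t + algebraMap S S' g * w := by
  classical
  obtain ⟨r, gen, hgen⟩ := Submodule.fg_iff_exists_fin_generating_family.mp h𝔞
  have hgenmem : ∀ i, gen i ∈ 𝔞 := fun i => hgen ▸ Submodule.subset_span ⟨i, rfl⟩
  choose u hu using fun i => ha (gen i) (hgenmem i)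
  let f : (Fin r →₀ S) →ₗ[S] (Option (Fin r) →₀ S) :=
    Finsupp.linearCombination S
      (fun i => Finsupp.single none (gen i) - Finsupp.single (some i) g)
  let x : (Option (Fin r) →₀ S) →ₗ[S] S' :=
    Finsupp.linearCombination S (fun o : Option (Fin r) => o.elim a u)
  have hxf : x ∘ₗ f = 0 := by
    apply Finsupp.lhom_ext
    intro i b
    show x (f (Finsupp.single i b)) = 0
    have h1 : f (Finsupp.single i b) =
        b • (Finsupp.single none (gen i) - Finsupp.single (some i) g) :=
      Finsupp.linearCombination_single S b i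
    have h2 : x (Finsupp.single none (gen i)) = gen i • a :=
      Finsupp.linearCombination_single S (gen i) none
    have h3 : x (Finsupp.single (some i) g) = g • u i :=
      Finsupp.linearCombination_single S g (some i)
    rw [h1, map_smul, map_sub, h2, h3]
    simp only [Algebra.smul_def]
    rw [hu i, sub_self, mul_zero]
  obtain ⟨k, A, y, hxy, hAf⟩ := Module.Flat.exists_factorization_of_comp_eq_zero_of_free hxf
  -- the coefficients
  have hrel : ∀ (i : Fin r) (l : Fin k),
      gen i * A (Finsupp.single none 1) l = g * A (Finsupp.single (some i) 1) l := by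
    intro i l
    have h1 : A (f (Finsupp.single i 1)) = 0 := LinearMap.congr_fun hAf (Finsupp.single i 1)
    have h2 : f (Finsupp.single i 1) =
        (1 : S) • (Finsupp.single none (gen i) - Finsupp.single (some i) g) :=
      Finsupp.linearCombination_single S 1 i
    rw [h2, one_smul, map_sub, ← Finsupp.smul_single_one none (gen i),
      ← Finsupp.smul_single_one (some i) g, map_smul, map_smul] at h1
    have h3 := DFunLike.congr_fun h1 l
    rw [Finsupp.sub_apply, Finsupp.smul_apply, Finsupp.smul_apply, smul_eq_mul, smul_eq_mul,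
      Finsupp.zero_apply, sub_eq_zero] at h3
    exact h3
  have hy : ∀ v : Fin k →₀ S, y v = ∑ l, v l • y (Finsupp.single l 1) := by
    intro v
    conv_lhs => rw [← Finsupp.univ_sum_single v]
    rw [map_sum]
    refine Finset.sum_congr rfl (fun l _ => ?_)
    rw [← Finsupp.smul_single_one l (v l), map_smul]
  have ha' : a = ∑ l, A (Finsupp.single none 1) l • y (Finsupp.single l 1) := by
    have h1 : x (Finsupp.single none 1) = (1 : S) • a :=
      Finsupp.linearCombination_single S 1 none
    rw [one_smul] at h1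
    rw [← h1, hxy, LinearMap.comp_apply, hy]
  choose s hs using fun l : Fin k => hdense (y (Finsupp.single l 1))
  have hcol : ∀ l : Fin k, ∀ z ∈ 𝔞, ∃ c : S, z * A (Finsupp.single none 1) l = c * g := by
    intro l
    have : 𝔞 ≤ (Ideal.span {g}).colon {A (Finsupp.single none 1) l} := by
      rw [← hgen, Submodule.span_le]
      rintro _ ⟨i, rfl⟩
      rw [SetLike.mem_coe, Submodule.mem_colon_singleton, smul_eq_mul, hrel i l,
        Ideal.mem_span_singleton']
      exact ⟨A (Finsupp.single (some i) 1) l, mul_comm _ _⟩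
    intro z hz
    have h1 := this hz
    rw [Submodule.mem_colon_singleton, smul_eq_mul, Ideal.mem_span_singleton'] at h1
    obtain ⟨c, hc⟩ := h1
    exact ⟨c, hc.symm⟩
  have hkey : ∀ l : Fin k, ∀ ρ ∈ 𝔞.map (algebraMap S S'),
      algebraMap S S' (A (Finsupp.single none 1) l) * ρ ∈
        Ideal.span {algebraMap S S' g} := by
    intro l
    have : 𝔞.map (algebraMap S S') ≤ (Ideal.span {algebraMap S S' g}).colon
        {algebraMap S S' (A (Finsupp.single none 1) l)} := by
      rw [Ideal.map_le_iff_le_comap]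
      intro z hz
      rw [Ideal.mem_comap, Submodule.mem_colon_singleton, smul_eq_mul]
      obtain ⟨c, hc⟩ := hcol l z hz
      rw [← map_mul, hc, map_mul]
      exact Ideal.mul_mem_left _ _ (Ideal.mem_span_singleton_self _)
    intro ρ hρ
    have h1 := this hρ
    rw [Submodule.mem_colon_singleton, smul_eq_mul] at h1
    rwa [mul_comm]
  have hdiff : a - algebraMap S S' (∑ l, A (Finsupp.single none 1) l * s l) ∈
      Ideal.span {algebraMap S S' g} := by
    have e : a - algebraMap S S' (∑ l, A (Finsupp.single none 1) l * s l) =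
        ∑ l, algebraMap S S' (A (Finsupp.single none 1) l) *
          (y (Finsupp.single l 1) - algebraMap S S' (s l)) := by
      conv_lhs => rw [ha']
      rw [map_sum, ← Finset.sum_sub_distrib]
      refine Finset.sum_congr rfl (fun l _ => ?_)
      rw [Algebra.smul_def, map_mul, mul_sub]
    rw [e]
    exact Ideal.sum_mem _ (fun l _ => hkey l _ (hs l))
  obtain ⟨w, hw⟩ := Ideal.mem_span_singleton'.mp hdiff
  exact ⟨∑ l, A (Finsupp.single none 1) l * s l, w, by rw [mul_comm, hw]; ring⟩

end F3

section A1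

variable {R : Type*} [CommRing R] [IsLocalRing R]

/-- uniqueness of "idempotents over `G`" congruent modulo the maximal ideal -/
theorem eq_of_idem_congr (G T s₁ s₂ a a₀ μ ν : R) (hG : ∀ y : R, G * y = 0 → y = 0)
    (hquad : T * T = G * T * s₁ + G * G * s₂)
    (haa : a * a = G * a) (ha₀ : a₀ * a₀ = G * a₀)
    (hd : a - a₀ = μ * T + G * ν) (hμ : μ ∈ maximalIdeal R) (hν : ν ∈ maximalIdeal R) :
    a = a₀ := by
  obtain ⟨d, hdd⟩ : ∃ d, d = a - a₀ := ⟨_, rfl⟩
  obtain ⟨ρ, hρ⟩ : ∃ ρ, ρ = μ * μ * s₁ + 2 * μ * ν := ⟨_, rfl⟩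
  obtain ⟨κ, hκ⟩ : ∃ κ, κ = μ * μ * s₂ + ν * ν := ⟨_, rfl⟩
  have hρm : ρ ∈ maximalIdeal R := by
    rw [hρ]
    exact Ideal.add_mem _ (Ideal.mul_mem_right _ _ (Ideal.mul_mem_left _ _ hμ))
      (Ideal.mul_mem_left _ _ hν)
  have hκm : κ ∈ maximalIdeal R := by
    rw [hκ]
    exact Ideal.add_mem _ (Ideal.mul_mem_right _ _ (Ideal.mul_mem_left _ _ hμ))
      (Ideal.mul_mem_left _ _ hν)
  have hdT : d = μ * T + G * ν := by rw [hdd, hd]
  have hd3 : d * d * d = G * G * d := by
    rw [hdd]
    linear_combination (a + G - 3 * a₀) * haa + (3 * a - a₀ - G) * ha₀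
  have hd2 : d * d = G * T * ρ + G * G * κ := by
    rw [hdT, hρ, hκ]
    linear_combination (μ * μ) * hquad
  have hR3 : G * d * (1 - κ) = T * d * ρ := by
    have h : G * (G * d * (1 - κ) - T * d * ρ) = 0 := by
      linear_combination (-1 : R) * hd3 + d * hd2
    exact sub_eq_zero.mp (hG _ h)
  have hR4 : T * d * (1 - κ) = T * d * (s₁ * ρ) + G * d * (s₂ * ρ) := by
    have h : G * (T * d * (1 - κ) - (T * d * (s₁ * ρ) + G * d * (s₂ * ρ))) = 0 := by
      linear_combination T * hR3 + (d * ρ) * hquad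
    exact sub_eq_zero.mp (hG _ h)
  have hΘ : T * d * (1 - (κ + s₁ * ρ + κ - (κ + s₁ * ρ) * κ + ρ * ρ * s₂)) = 0 := by
    linear_combination (1 - κ) * hR4 + (s₂ * ρ) * hR3
  have hξ : κ + s₁ * ρ + κ - (κ + s₁ * ρ) * κ + ρ * ρ * s₂ ∈ maximalIdeal R := by
    refine Ideal.add_mem _ (Ideal.sub_mem _ (Ideal.add_mem _ (Ideal.add_mem _ hκm
      (Ideal.mul_mem_left _ _ hρm)) hκm) (Ideal.mul_mem_left _ _ hκm))
      (Ideal.mul_mem_right _ _ (Ideal.mul_mem_left _ _ hρm))
  have hu1 := IsLocalRing.isUnit_one_sub_self_of_mem_nonunits _ ((mem_maximalIdeal _).mp hξ)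
  have hTd : T * d = 0 := (hu1.mul_left_eq_zero).mp hΘ
  have hu2 := IsLocalRing.isUnit_one_sub_self_of_mem_nonunits _ ((mem_maximalIdeal _).mp hκm)
  have hGd : G * d = 0 := by
    have : G * d * (1 - κ) = 0 := by rw [hR3, hTd, zero_mul]
    exact (hu2.mul_left_eq_zero).mp this
  have hd0 : d = 0 := hG _ hGd
  rw [hdd] at hd0
  exact sub_eq_zero.mp hd0

end A1

section A2

variable {S : Type*} [CommRing S] [HenselianLocalRing S]

/-- a monic quadratic congruent to `Y² - Y` modulo the maximal ideal splits -/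
theorem exists_roots_quadratic (s₁ s₂ : S) (hs₁ : s₁ - 1 ∈ maximalIdeal S)
    (hs₂ : s₂ ∈ maximalIdeal S) :
    ∃ α β : S, α ∈ maximalIdeal S ∧ β - 1 ∈ maximalIdeal S ∧ α + β = s₁ ∧ α * β = -s₂ := by
  have hs₁u : IsUnit s₁ := by
    have e : s₁ = 1 - (-(s₁ - 1)) := by ring
    rw [e]
    exact IsLocalRing.isUnit_one_sub_self_of_mem_nonunits _
      ((mem_maximalIdeal _).mp ((Ideal.neg_mem_iff _).mpr hs₁))
  obtain ⟨G, hGdef⟩ : ∃ G : S[X], G = X ^ 2 - (C s₁ * X + C s₂) := ⟨_, rfl⟩
  have hGmonic : G.Monic := by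
    rw [hGdef]
    apply Polynomial.monic_X_pow_sub
    calc (C s₁ * X + C s₂).degree ≤ 1 := by
          refine (Polynomial.degree_add_le _ _).trans (max_le ?_ ?_)
          · exact Polynomial.degree_C_mul_X_le _
          · exact (Polynomial.degree_C_le).trans (by norm_num)
      _ < ((2 : ℕ) : WithBot ℕ) := by norm_num
  have hGeval : ∀ y : S, G.eval y = y ^ 2 - (s₁ * y + s₂) := by
    intro y
    rw [hGdef]
    simp
  have hG'eval : ∀ y : S, G.derivative.eval y = 2 * y - s₁ := by
    intro y
    rw [hGdef]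
    simp
    ring
  obtain ⟨α, hα, hαm⟩ := HenselianLocalRing.is_henselian G hGmonic 0
    (by
      have e : G.eval 0 = -s₂ := by rw [hGeval]; ring
      rw [e]
      exact (Ideal.neg_mem_iff _).mpr hs₂)
    (by
      have e : G.derivative.eval 0 = -s₁ := by rw [hG'eval]; ring
      rw [e]
      exact hs₁u.neg)
  rw [sub_zero] at hαm
  obtain ⟨β, hβ, hβm⟩ := HenselianLocalRing.is_henselian G hGmonic 1
    (by
      have e : G.eval 1 = -(s₁ - 1) - s₂ := by rw [hGeval]; ring
      rw [e]
      exact Ideal.sub_mem _ ((Ideal.neg_mem_iff _).mpr hs₁) hs₂)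
    (by
      have e : G.derivative.eval 1 = 1 - (s₁ - 1) := by rw [hG'eval]; ring
      rw [e]
      exact IsLocalRing.isUnit_one_sub_self_of_mem_nonunits _ ((mem_maximalIdeal _).mp hs₁))
  have hαeq : α ^ 2 - (s₁ * α + s₂) = 0 := by
    have := hα
    rwa [Polynomial.IsRoot.def, hGeval] at this
  have hβeq : β ^ 2 - (s₁ * β + s₂) = 0 := by
    have := hβ
    rwa [Polynomial.IsRoot.def, hGeval] at this
  have huu : IsUnit (β - α) := by
    have e : β - α = 1 - (α - (β - 1)) := by ring
    rw [e]
    exact IsLocalRing.isUnit_one_sub_self_of_mem_nonunits _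
      ((mem_maximalIdeal _).mp (Ideal.sub_mem _ hαm hβm))
  have hsum : α + β = s₁ := by
    have h : (β - α) * (α + β - s₁) = 0 := by linear_combination hβeq - hαeq
    have := (huu.mul_right_eq_zero).mp h
    linear_combination this
  refine ⟨α, β, hαm, hβm, hsum, ?_⟩
  linear_combination α * hsum - hαeq

end A2

end Groth.Agent.Helper1.PC
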