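import Groth.Agent.Lib.Helper1.PC1

/-!
# Descent of a disconnection of the punctured spectrum: the main algebraic step
-/

set_option autoImplicit false

namespace Groth.Agent.Helper1.PC

open IsLocalRing Polynomial

universe u

section Core

variable {S S' : Type u} [CommRing S] [HenselianLocalRing S] [IsNoetherianRing S] [CommRing S']
  [IsLocalRing S'] [Algebra S S'] [Module.FaithfullyFlat S S']

theorem descend (hmax : (maximalIdeal S).map (algebraMap S S') = maximalIdeal S')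
    (hdense : ∀ (k : ℕ) (y : S'), ∃ s : S, y - algebraMap S S' s ∈ maximalIdeal S' ^ k)
    (x : S) (hxm : x ∈ maximalIdeal S) (hx : x ∈ nonZeroDivisors S)
    (I1 I2 : Ideal S') (h12 : I1 * I2 = ⊥) (n : ℕ) (hn : maximalIdeal S' ^ n ≤ I1 ⊔ I2) :
    ∃ J1 J2 : Ideal S, J1 * J2 = ⊥ ∧ (∃ k, maximalIdeal S ^ k ≤ J1 ⊔ J2) ∧
      J1.map (algebraMap S S') ≤ I1 ∧ J2.map (algebraMap S S') ≤ I2 := by
  classical
  obtain ⟨φ, hφ⟩ : ∃ φ : S →+* S', φ = algebraMap S S' := ⟨_, rfl⟩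
  rw [← hφ] at hmax hdense ⊢
  have hpow : ∀ k, (maximalIdeal S ^ k).map φ = maximalIdeal S' ^ k := fun k => by
    rw [Ideal.map_pow, hmax]
  have hcontr : ∀ I : Ideal S, (I.map φ).comap φ = I := fun I => by
    rw [hφ]; exact Ideal.comap_map_eq_self_of_faithfullyFlat I
  have hmcomap : ∀ s : S, φ s ∈ maximalIdeal S' → s ∈ maximalIdeal S := by
    intro s hs
    have : s ∈ ((maximalIdeal S).map φ).comap φ := by rw [hmax]; exact hs
    rwa [hcontr] at this
  have hmmap : ∀ s : S, s ∈ maximalIdeal S → φ s ∈ maximalIdeal S' := by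
    intro s hs
    rw [← hmax]
    exact Ideal.mem_map_of_mem _ hs
  obtain ⟨g, hg⟩ : ∃ g : S, g = x ^ (n + 1) := ⟨_, rfl⟩
  have hgm : g ∈ maximalIdeal S ^ (n + 1) := hg ▸ Ideal.pow_mem_pow hxm _
  have hgnzd : g ∈ nonZeroDivisors S := hg ▸ pow_mem hx _
  have hgS : ∀ y : S, g * y = 0 → y = 0 := (mem_nonZeroDivisors_iff.mp hgnzd).1
  have hgS' : ∀ y : S', φ g * y = 0 → y = 0 := by
    intro y hy
    have hreg : IsSMulRegular S' g := Module.Flat.isSMulRegular_of_nonZeroDivisors hgnzd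
    apply hreg
    show g • y = g • (0 : S')
    rw [smul_zero, Algebra.smul_def, ← hφ]
    exact hy
  have hmpow : maximalIdeal S' ^ (n + 1) ≤ I1 ⊔ I2 :=
    (Ideal.pow_le_pow_right (Nat.le_succ n)).trans hn
  have hzero : ∀ p ∈ I1, ∀ q ∈ I2, p * q = 0 := by
    intro p hp q hq
    have := Ideal.mul_mem_mul hp hq
    rw [h12] at this
    exact Ideal.mem_bot.mp this
  have hdec : ∀ z ∈ maximalIdeal S ^ (n + 1), ∃ p ∈ I1, ∃ q ∈ I2, p + q = φ z := by
    intro z hz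
    have : φ z ∈ maximalIdeal S' ^ (n + 1) := by
      rw [← hpow]; exact Ideal.mem_map_of_mem _ hz
    exact Submodule.mem_sup.mp (hmpow this)
  obtain ⟨a, haI, b, hbI, hab⟩ := hdec g hgm
  have hab0 : a * b = 0 := hzero a haI b hbI
  have haa : a * a = φ g * a := by linear_combination (-1 : S') * hab0 + a * hab
  have hcondA : ∀ z ∈ maximalIdeal S ^ (n + 1), ∃ c ∈ I1, φ z * a = φ g * c := by
    intro z hz
    obtain ⟨p, hp, q, hq, hpq⟩ := hdec z hz
    refine ⟨p, hp, ?_⟩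
    have h1 : a * q = 0 := hzero a haI q hq
    have h2 : p * b = 0 := hzero p hp b hbI
    linear_combination (-a) * hpq + p * hab + h1 - h2
  have hcondB : ∀ z ∈ maximalIdeal S ^ (n + 1), ∃ c ∈ I2, φ z * b = φ g * c := by
    intro z hz
    obtain ⟨p, hp, q, hq, hpq⟩ := hdec z hz
    refine ⟨q, hq, ?_⟩
    have h1 : a * q = 0 := hzero a haI q hq
    have h2 : p * b = 0 := hzero p hp b hbI
    linear_combination (-b) * hpq + q * hab + h2 - h1
  -- flat descent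
  obtain ⟨t, w₀, htw⟩ := exists_decomp_of_flat (maximalIdeal S ^ (n + 1))
    (IsNoetherian.noetherian _) g a
    (fun z hz => by
      obtain ⟨c, -, hc⟩ := hcondA z hz
      exact ⟨c, by rw [← hφ]; exact hc⟩)
    (fun y => by
      obtain ⟨s, hs⟩ := hdense (n + 1) y
      exact ⟨s, by rw [← hφ, hpow]; exact hs⟩)
  rw [← hφ] at htw
  obtain ⟨s₀, hs₀⟩ := hdense 1 w₀
  rw [pow_one] at hs₀
  obtain ⟨w, hw⟩ : ∃ w, w = w₀ - φ s₀ := ⟨_, rfl⟩
  obtain ⟨τ, hτ⟩ : ∃ τ, τ = t + g * s₀ := ⟨_, rfl⟩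
  have hwm : w ∈ maximalIdeal S' := hw ▸ hs₀
  have haτ : a = φ τ + φ g * w := by
    rw [htw, hτ, hw, map_add, map_mul]
    ring
  have hτg : ∀ z ∈ maximalIdeal S ^ (n + 1), ∃ c : S, z * τ = g * c := by
    intro z hz
    obtain ⟨c, -, hc⟩ := hcondA z hz
    have h1 : φ (z * τ) ∈ (Ideal.span {g}).map φ := by
      rw [Ideal.map_span, Set.image_singleton, Ideal.mem_span_singleton']
      refine ⟨c - φ z * w, ?_⟩
      rw [map_mul]
      linear_combination (-1 : S') * hc + φ z * haτ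
    have h2 : z * τ ∈ ((Ideal.span {g}).map φ).comap φ := h1
    rw [hcontr, Ideal.mem_span_singleton'] at h2
    obtain ⟨c', hc'⟩ := h2
    exact ⟨c', by rw [← hc', mul_comm]⟩
  -- the quadratic relation
  obtain ⟨s₁, hs₁⟩ := hdense (n + 2) (1 - 2 * w)
  obtain ⟨s₂, hs₂⟩ := hdense (n + 2) (w - w * w)
  obtain ⟨r₁, hr₁⟩ : ∃ r₁, r₁ = 1 - 2 * w - φ s₁ := ⟨_, rfl⟩
  obtain ⟨r₂, hr₂⟩ : ∃ r₂, r₂ = w - w * w - φ s₂ := ⟨_, rfl⟩
  have hr₁m : r₁ ∈ maximalIdeal S' ^ (n + 2) := hr₁ ▸ hs₁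
  have hr₂m : r₂ ∈ maximalIdeal S' ^ (n + 2) := hr₂ ▸ hs₂
  have hid : φ (τ * τ - g * τ * s₁ - g * g * s₂) = φ g * φ τ * r₁ + φ g * φ g * r₂ := by
    simp only [map_sub, map_mul]
    have h := haa
    rw [haτ] at h
    rw [hr₁, hr₂]
    linear_combination h
  have hcolon : maximalIdeal S' ^ (n + 1) ≤ (Ideal.span {φ g}).colon {φ τ} := by
    rw [← hpow, Ideal.map_le_iff_le_comap]
    intro z hz
    rw [Ideal.mem_comap, Submodule.mem_colon_singleton, smul_eq_mul]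
    obtain ⟨c, hc⟩ := hτg z hz
    rw [Ideal.mem_span_singleton']
    exact ⟨φ c, by rw [← map_mul, ← map_mul, mul_comm c g, hc]⟩
  have hcolon2 : maximalIdeal S' ^ (n + 1) * maximalIdeal S' ≤
      (Ideal.span {φ g} * maximalIdeal S').colon {φ τ} := by
    rw [Ideal.mul_le]
    intro p hp q hq
    rw [Submodule.mem_colon_singleton, smul_eq_mul]
    have hp' := hcolon hp
    rw [Submodule.mem_colon_singleton, smul_eq_mul] at hp'
    have := Ideal.mul_mem_mul hp' hq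
    have e : p * q * φ τ = p * φ τ * q := by ring
    rw [e]
    exact this
  have h1 : φ τ * r₁ ∈ Ideal.span {φ g} * maximalIdeal S' := by
    have : r₁ ∈ maximalIdeal S' ^ (n + 1) * maximalIdeal S' := by
      rw [← pow_succ]; exact hr₁m
    have h := hcolon2 this
    rw [Submodule.mem_colon_singleton, smul_eq_mul] at h
    rw [mul_comm (φ τ) r₁]
    exact h
  have h2 : φ g * φ τ * r₁ + φ g * φ g * r₂ ∈
      (Ideal.span {g * g} * maximalIdeal S).map φ := by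
    rw [Ideal.map_mul, Ideal.map_span, Set.image_singleton, hmax, map_mul]
    apply Ideal.add_mem
    · obtain ⟨μ, hμ, hμe⟩ := Ideal.mem_span_singleton_mul.mp h1
      rw [Ideal.mem_span_singleton_mul]
      exact ⟨μ, hμ, by rw [mul_assoc (φ g) (φ τ), ← hμe]; ring⟩
    · rw [Ideal.mem_span_singleton_mul]
      exact ⟨r₂, Ideal.pow_le_self (by omega) hr₂m, rfl⟩
  have h3 : τ * τ - g * τ * s₁ - g * g * s₂ ∈ Ideal.span {g * g} * maximalIdeal S := by
    have : τ * τ - g * τ * s₁ - g * g * s₂ ∈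
        ((Ideal.span {g * g} * maximalIdeal S).map φ).comap φ := by
      rw [Ideal.mem_comap, hid]; exact h2
    rwa [hcontr] at this
  obtain ⟨ε, hεm, hε⟩ := Ideal.mem_span_singleton_mul.mp h3
  obtain ⟨s₂', hs₂'⟩ : ∃ s₂', s₂' = s₂ + ε := ⟨_, rfl⟩
  have hquad : τ * τ = g * τ * s₁ + g * g * s₂' := by
    rw [hs₂']
    linear_combination (-1 : S) * hε
  have hs₁m : s₁ - 1 ∈ maximalIdeal S := by
    apply hmcomap
    have e : φ (s₁ - 1) = -(2 * w) - r₁ := by rw [hr₁, map_sub, map_one]; ring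
    rw [e]
    exact Ideal.sub_mem _ ((Ideal.neg_mem_iff _).mpr (Ideal.mul_mem_left _ _ hwm))
      (Ideal.pow_le_self (by omega) hr₁m)
  have hs₂m : s₂' ∈ maximalIdeal S := by
    rw [hs₂']
    refine Ideal.add_mem _ ?_ hεm
    apply hmcomap
    have e : φ s₂ = w - w * w - r₂ := by rw [hr₂]; ring
    rw [e]
    exact Ideal.sub_mem _ (Ideal.sub_mem _ hwm (Ideal.mul_mem_left _ _ hwm))
      (Ideal.pow_le_self (by omega) hr₂m)
  -- the henselian factorization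
  obtain ⟨α, β, hαm, hβm, hsum, hprod⟩ := exists_roots_quadratic s₁ s₂' hs₁m hs₂m
  obtain ⟨u, hu⟩ : ∃ u, u = β - α := ⟨_, rfl⟩
  have huu : IsUnit u := by
    have e : u = 1 - (α - (β - 1)) := by rw [hu]; ring
    rw [e]
    exact IsLocalRing.isUnit_one_sub_self_of_mem_nonunits _
      ((mem_maximalIdeal _).mp (Ideal.sub_mem _ hαm hβm))
  obtain ⟨v, hv⟩ : ∃ v : S, v * u = 1 := ⟨↑huu.unit⁻¹, huu.val_inv_mul⟩
  obtain ⟨τ₁, hτ₁⟩ : ∃ τ₁, τ₁ = τ - α * g := ⟨_, rfl⟩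
  obtain ⟨τ₂, hτ₂⟩ : ∃ τ₂, τ₂ = τ - β * g := ⟨_, rfl⟩
  have hτ12 : τ₁ * τ₂ = 0 := by
    rw [hτ₁, hτ₂]
    linear_combination hquad - (g * τ) * hsum + (g * g) * hprod
  have hτdiff : τ₁ - τ₂ = u * g := by rw [hτ₁, hτ₂, hu]; ring
  -- the idempotent in `S` agrees with the one in `S'`
  obtain ⟨a₀, ha₀def⟩ : ∃ a₀, a₀ = v * τ₁ := ⟨_, rfl⟩
  have ha₀ : a₀ * a₀ = g * a₀ := by
    rw [ha₀def]
    linear_combination (v * v) * hτ12 + (v * v * τ₁) * hτdiff + (v * g * τ₁) * hv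
  have hum : u - 1 ∈ maximalIdeal S := by
    have e : u - 1 = (β - 1) - α := by rw [hu]; ring
    rw [e]
    exact Ideal.sub_mem _ hβm hαm
  have h1v : 1 - v ∈ maximalIdeal S := by
    have e : 1 - v = v * (u - 1) := by linear_combination (-1 : S) * hv
    rw [e]
    exact Ideal.mul_mem_left _ _ hum
  have had : a = φ a₀ := by
    refine eq_of_idem_congr (φ g) (φ τ) (φ s₁) (φ s₂') a (φ a₀) (φ (1 - v)) (w + φ (v * α))
      hgS' ?_ haa ?_ ?_ (hmmap _ h1v) ?_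
    · rw [← map_mul, hquad, map_add, map_mul, map_mul, map_mul, map_mul]
    · rw [← map_mul, ha₀, map_mul]
    · rw [haτ, ha₀def, hτ₁]
      simp only [map_sub, map_mul, map_one]
      ring
    · exact Ideal.add_mem _ hwm (hmmap _ (Ideal.mul_mem_left _ _ hαm))
  have hτ₁a : φ τ₁ = φ u * a := by
    rw [had, ha₀def, ← map_mul]
    congr 1
    linear_combination (-τ₁) * hv
  have hτ₂b : φ τ₂ = -(φ u * b) := by
    have Hdiff : φ τ₁ - φ τ₂ = φ u * φ g := by rw [← map_sub, hτdiff, map_mul]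
    linear_combination (-1 : S') * Hdiff + hτ₁a + φ u * hab
  -- the ideals
  have hJ1 : ∀ l : S, l ∈ (Ideal.span {τ₁} * maximalIdeal S ^ (n + 1)).colon {g} ↔
      ∃ z ∈ maximalIdeal S ^ (n + 1), τ₁ * z = l * g := by
    intro l
    rw [Submodule.mem_colon_singleton, smul_eq_mul, Ideal.mem_span_singleton_mul]
  have hJ2 : ∀ l : S, l ∈ (Ideal.span {τ₂} * maximalIdeal S ^ (n + 1)).colon {g} ↔
      ∃ z ∈ maximalIdeal S ^ (n + 1), τ₂ * z = l * g := by
    intro l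
    rw [Submodule.mem_colon_singleton, smul_eq_mul, Ideal.mem_span_singleton_mul]
  refine ⟨(Ideal.span {τ₁} * maximalIdeal S ^ (n + 1)).colon {g},
    (Ideal.span {τ₂} * maximalIdeal S ^ (n + 1)).colon {g}, ?_, ⟨n + 1, ?_⟩, ?_, ?_⟩
  · rw [eq_bot_iff, Ideal.mul_le]
    intro l hl l' hl'
    obtain ⟨z, hz, e⟩ := (hJ1 l).mp hl
    obtain ⟨z', hz', e'⟩ := (hJ2 l').mp hl'
    rw [Ideal.mem_bot]
    apply hgS
    apply hgS
    have : g * (g * (l * l')) = (τ₁ * τ₂) * (z * z') := by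
      linear_combination (-(l' * g)) * e - (τ₁ * z) * e'
    rw [this, hτ12, zero_mul]
  · intro z hz
    obtain ⟨c, hc⟩ := hτg z hz
    have m1 : c - α * z ∈ (Ideal.span {τ₁} * maximalIdeal S ^ (n + 1)).colon {g} :=
      (hJ1 _).mpr ⟨z, hz, by rw [hτ₁]; linear_combination hc⟩
    have m2 : c - β * z ∈ (Ideal.span {τ₂} * maximalIdeal S ^ (n + 1)).colon {g} :=
      (hJ2 _).mpr ⟨z, hz, by rw [hτ₂]; linear_combination hc⟩
    have e : z = v * ((c - α * z) - (c - β * z)) := by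
      rw [hu] at hv
      linear_combination (-z) * hv
    rw [e]
    exact Ideal.mul_mem_left _ _ (Ideal.sub_mem _ (Ideal.mem_sup_left m1)
      (Ideal.mem_sup_right m2))
  · rw [Ideal.map_le_iff_le_comap]
    intro l hl
    rw [Ideal.mem_comap]
    obtain ⟨z, hz, e⟩ := (hJ1 l).mp hl
    obtain ⟨c, hcI, hc⟩ := hcondA z hz
    have E : φ τ₁ * φ z = φ l * φ g := by rw [← map_mul, e, map_mul]
    have h : φ g * (φ l - φ u * c) = 0 := by
      linear_combination (-1 : S') * E + φ z * hτ₁a + φ u * hc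
    rw [sub_eq_zero.mp (hgS' _ h)]
    exact Ideal.mul_mem_left _ _ hcI
  · rw [Ideal.map_le_iff_le_comap]
    intro l hl
    rw [Ideal.mem_comap]
    obtain ⟨z, hz, e⟩ := (hJ2 l).mp hl
    obtain ⟨c, hcI, hc⟩ := hcondB z hz
    have E : φ τ₂ * φ z = φ l * φ g := by rw [← map_mul, e, map_mul]
    have h : φ g * (φ l - -(φ u * c)) = 0 := by
      linear_combination (-1 : S') * E + φ z * hτ₂b - φ u * hc
    rw [sub_eq_zero.mp (hgS' _ h)]
    exact (Ideal.neg_mem_iff _).mpr (Ideal.mul_mem_left _ _ hcI)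

end Core

end Groth.Agent.Helper1.PC
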