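import Groth.Agent.Lib.Helper1.PC2

/-!
# Preconnectedness of the punctured spectrum, algebraically
-/

set_option autoImplicit false

namespace Groth.Agent.Helper1.PC

open IsLocalRing PrimeSpectrum

universe u

/-- algebraic form of "the punctured spectrum is disconnected" -/
def Disc (R : Type*) [CommRing R] [IsLocalRing R] : Prop :=
  ∃ I1 I2 : Ideal R, I1 * I2 = ⊥ ∧ (∃ n, maximalIdeal R ^ n ≤ I1 ⊔ I2) ∧
    (∀ n, ¬ maximalIdeal R ^ n ≤ I1) ∧ (∀ n, ¬ maximalIdeal R ^ n ≤ I2)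

section T

variable (R : Type*) [CommRing R] [IsLocalRing R]

theorem mem_punctured {p : PrimeSpectrum R} :
    p ∈ ({closedPoint R}ᶜ : Set (PrimeSpectrum R)) ↔ p.asIdeal ≠ maximalIdeal R := by
  rw [Set.mem_compl_iff, Set.mem_singleton_iff, PrimeSpectrum.ext_iff]
  rfl

variable [IsNoetherianRing R]

theorem exists_prime_of_not_pow_le (I : Ideal R) (h : ∀ n, ¬ maximalIdeal R ^ n ≤ I) :
    ∃ p : PrimeSpectrum R, p.asIdeal ≠ maximalIdeal R ∧ I ≤ p.asIdeal := by
  by_contra hcon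
  have hle : maximalIdeal R ≤ I.radical := by
    rw [Ideal.radical_eq_sInf]
    apply le_sInf
    rintro J ⟨hIJ, hJ⟩
    by_contra hne
    apply hcon
    refine ⟨⟨J, hJ⟩, ?_, hIJ⟩
    intro hJm
    exact hne hJm.ge
  obtain ⟨n, hn⟩ := Ideal.exists_pow_le_of_le_radical_of_fg hle (IsNoetherian.noetherian _)
  exact h n hn

theorem exists_pow_le_of_forall_prime (I : Ideal R)
    (h : ∀ p : PrimeSpectrum R, I ≤ p.asIdeal → p.asIdeal = maximalIdeal R) :
    ∃ n, maximalIdeal R ^ n ≤ I := by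
  by_contra hn
  push_neg at hn
  obtain ⟨p, hp1, hp2⟩ := exists_prime_of_not_pow_le R I hn
  exact hp1 (h p hp2)

theorem disc_of_not_isPreconnected
    (h : ¬ IsPreconnected ({closedPoint R}ᶜ : Set (PrimeSpectrum R))) : Disc R := by
  by_contra hD
  apply h
  rw [isPreconnected_closed_iff]
  intro t t' ht ht' hsub hne hne'
  by_contra hemp
  apply hD
  obtain ⟨a1, rfl⟩ := (isClosed_iff_zeroLocus_ideal t).mp ht
  obtain ⟨a2, rfl⟩ := (isClosed_iff_zeroLocus_ideal t').mp ht'
  obtain ⟨p1, hp1U, hp1t⟩ := hne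
  obtain ⟨p2, hp2U, hp2t⟩ := hne'
  rw [mem_punctured] at hp1U hp2U
  rw [mem_zeroLocus, SetLike.coe_subset_coe] at hp1t hp2t
  have hnil : a1 * a2 ≤ nilradical R := by
    rw [nilradical_eq_sInf]
    apply le_sInf
    intro J hJ
    have hJp : J.IsPrime := hJ
    by_cases hJm : J = maximalIdeal R
    · rw [hJm]
      exact (Ideal.mul_le_inf.trans inf_le_left).trans
        (hp1t.trans (le_maximalIdeal p1.isPrime.ne_top))
    · have hmem : (⟨J, hJp⟩ : PrimeSpectrum R) ∈ ({closedPoint R}ᶜ : Set (PrimeSpectrum R)) :=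
        (mem_punctured R).mpr hJm
      rcases hsub hmem with h1 | h1
      · rw [mem_zeroLocus, SetLike.coe_subset_coe] at h1
        exact (Ideal.mul_le_inf.trans inf_le_left).trans h1
      · rw [mem_zeroLocus, SetLike.coe_subset_coe] at h1
        exact (Ideal.mul_le_inf.trans inf_le_right).trans h1
  obtain ⟨N, hN⟩ := IsNoetherianRing.isNilpotent_nilradical R
  refine ⟨a1 ^ (N + 1), a2 ^ (N + 1), ?_, ?_, ?_, ?_⟩
  · rw [← mul_pow, eq_bot_iff]
    calc (a1 * a2) ^ (N + 1) ≤ (nilradical R) ^ (N + 1) := Ideal.pow_right_mono hnil _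
      _ ≤ (nilradical R) ^ N := Ideal.pow_le_pow_right (Nat.le_succ N)
      _ = ⊥ := by rw [hN, Ideal.zero_eq_bot]
  · apply exists_pow_le_of_forall_prime
    intro p hp
    by_contra hpm
    apply hemp
    refine ⟨p, (mem_punctured R).mpr hpm, ?_, ?_⟩
    · rw [mem_zeroLocus, SetLike.coe_subset_coe]
      exact Ideal.IsPrime.le_of_pow_le (le_sup_left.trans hp)
    · rw [mem_zeroLocus, SetLike.coe_subset_coe]
      exact Ideal.IsPrime.le_of_pow_le (le_sup_right.trans hp)
  · intro n hle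
    have h1 : maximalIdeal R ^ n ≤ p1.asIdeal :=
      hle.trans ((Ideal.pow_le_self (Nat.succ_ne_zero N)).trans hp1t)
    have h2 : maximalIdeal R ≤ p1.asIdeal := Ideal.IsPrime.le_of_pow_le h1
    exact hp1U ((maximalIdeal.isMaximal R).eq_of_le p1.isPrime.ne_top h2).symm
  · intro n hle
    have h1 : maximalIdeal R ^ n ≤ p2.asIdeal :=
      hle.trans ((Ideal.pow_le_self (Nat.succ_ne_zero N)).trans hp2t)
    have h2 : maximalIdeal R ≤ p2.asIdeal := Ideal.IsPrime.le_of_pow_le h1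
    exact hp2U ((maximalIdeal.isMaximal R).eq_of_le p2.isPrime.ne_top h2).symm

theorem not_isPreconnected_of_disc (h : Disc R) :
    ¬ IsPreconnected ({closedPoint R}ᶜ : Set (PrimeSpectrum R)) := by
  obtain ⟨I1, I2, h12, ⟨n, hn⟩, h1, h2⟩ := h
  intro hpre
  rw [isPreconnected_closed_iff] at hpre
  obtain ⟨p1, hp1, hp1'⟩ := exists_prime_of_not_pow_le R I1 h1
  obtain ⟨p2, hp2, hp2'⟩ := exists_prime_of_not_pow_le R I2 h2
  have hsub : ({closedPoint R}ᶜ : Set (PrimeSpectrum R)) ⊆ zeroLocus I1 ∪ zeroLocus I2 := by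
    intro p _
    have : I1 * I2 ≤ p.asIdeal := by rw [h12]; exact bot_le
    rcases (p.isPrime.mul_le).mp this with h | h
    · left
      rw [mem_zeroLocus, SetLike.coe_subset_coe]
      exact h
    · right
      rw [mem_zeroLocus, SetLike.coe_subset_coe]
      exact h
  obtain ⟨p, hpU, hpt, hpt'⟩ := hpre (zeroLocus I1) (zeroLocus I2) (isClosed_zeroLocus _)
    (isClosed_zeroLocus _) hsub
    ⟨p1, (mem_punctured R).mpr hp1, by rw [mem_zeroLocus, SetLike.coe_subset_coe]; exact hp1'⟩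
    ⟨p2, (mem_punctured R).mpr hp2, by rw [mem_zeroLocus, SetLike.coe_subset_coe]; exact hp2'⟩
  rw [mem_zeroLocus, SetLike.coe_subset_coe] at hpt hpt'
  rw [mem_punctured] at hpU
  have h3 : maximalIdeal R ^ n ≤ p.asIdeal := hn.trans (sup_le hpt hpt')
  have h4 : maximalIdeal R ≤ p.asIdeal := Ideal.IsPrime.le_of_pow_le h3
  exact hpU ((maximalIdeal.isMaximal R).eq_of_le p.isPrime.ne_top h4).symm

end T

section GT

variable {S S' : Type u} [CommRing S] [HenselianLocalRing S] [IsNoetherianRing S] [CommRing S']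
  [IsLocalRing S'] [IsNoetherianRing S'] [Algebra S S'] [Module.FaithfullyFlat S S']

/-- if the punctured spectrum of the henselian ring `S` is preconnected, so is that of `S'` -/
theorem isPreconnected_punctured (hmax : (maximalIdeal S).map (algebraMap S S') = maximalIdeal S')
    (hdense : ∀ (k : ℕ) (y : S'), ∃ s : S, y - algebraMap S S' s ∈ maximalIdeal S' ^ k)
    (x : S) (hxm : x ∈ maximalIdeal S) (hx : x ∈ nonZeroDivisors S)
    (h : IsPreconnected ({closedPoint S}ᶜ : Set (PrimeSpectrum S))) :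
    IsPreconnected ({closedPoint S'}ᶜ : Set (PrimeSpectrum S')) := by
  by_contra hcon
  obtain ⟨I1, I2, h12, ⟨n, hn⟩, h1, h2⟩ := disc_of_not_isPreconnected S' hcon
  obtain ⟨J1, J2, hJ12, hk, hJ1, hJ2⟩ := descend hmax hdense x hxm hx I1 I2 h12 n hn
  have hpow : ∀ k, (maximalIdeal S ^ k).map (algebraMap S S') = maximalIdeal S' ^ k :=
    fun k => by rw [Ideal.map_pow, hmax]
  refine not_isPreconnected_of_disc S ⟨J1, J2, hJ12, hk, ?_, ?_⟩ h
  · intro k hle
    apply h1 k
    rw [← hpow]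
    exact (Ideal.map_mono hle).trans hJ1
  · intro k hle
    apply h2 k
    rw [← hpow]
    exact (Ideal.map_mono hle).trans hJ2

end GT

end Groth.Agent.Helper1.PC
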