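import Groth.Agent.Lib.Helper1.PC5

/-!
# Preconnectedness of the punctured spectrum for a good pair, in general depth
-/

set_option autoImplicit false

namespace Groth.Agent.Helper1.PC

open IsLocalRing PrimeSpectrum Groth.Agent.Helper1

universe u

theorem sup_pow_le' {R : Type*} [CommRing R] (I N : Ideal R) (j : ℕ) :
    (I ⊔ N) ^ j ≤ I ⊔ N ^ j := by
  induction j with
  | zero => simp
  | succ j ih =>
    rw [pow_succ, pow_succ]
    calc (I ⊔ N) ^ j * (I ⊔ N) ≤ (I ⊔ N ^ j) * (I ⊔ N) := Ideal.mul_mono_left ih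
      _ = I * (I ⊔ N) ⊔ N ^ j * (I ⊔ N) := Ideal.sup_mul _ _ _
      _ ≤ I ⊔ N ^ j * N := by
        apply sup_le
        · exact Ideal.mul_le_left.trans le_sup_left
        · rw [Ideal.mul_sup]
          apply sup_le
          · exact Ideal.mul_le_right.trans le_sup_left
          · exact le_sup_right

section Quot

variable {R : Type*} [CommRing R] [IsLocalRing R] (N : Ideal R) [IsLocalRing (R ⧸ N)]
  (hN : N ≤ maximalIdeal R)

include hN

theorem disc_quotient_of_nilpotent (j : ℕ) (hj : N ^ j = ⊥) (h : Disc R) : Disc (R ⧸ N) := by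
  obtain ⟨I1, I2, h12, ⟨n, hn⟩, h1, h2⟩ := h
  have hm : maximalIdeal (R ⧸ N) = (maximalIdeal R).map (Ideal.Quotient.mk N) :=
    maximalIdeal_quotient R N hN
  have hπ : Function.Surjective (Ideal.Quotient.mk N) := Ideal.Quotient.mk_surjective
  have key : ∀ (I : Ideal R) (k : ℕ), maximalIdeal (R ⧸ N) ^ k ≤ I.map (Ideal.Quotient.mk N) →
      maximalIdeal R ^ (k * j) ≤ I := by
    intro I k hle
    rw [hm, ← Ideal.map_pow] at hle
    have h3 : maximalIdeal R ^ k ≤ I ⊔ N := by
      have h4 := Ideal.comap_mono (f := Ideal.Quotient.mk N) hle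
      rw [Ideal.comap_map_of_surjective _ hπ, Ideal.comap_map_of_surjective _ hπ,
        ← RingHom.ker_eq_comap_bot, Ideal.mk_ker] at h4
      exact le_sup_left.trans h4
    calc maximalIdeal R ^ (k * j) = (maximalIdeal R ^ k) ^ j := pow_mul _ _ _
      _ ≤ (I ⊔ N) ^ j := Ideal.pow_right_mono h3 j
      _ ≤ I ⊔ N ^ j := sup_pow_le' I N j
      _ = I := by rw [hj, sup_bot_eq]
  refine ⟨I1.map (Ideal.Quotient.mk N), I2.map (Ideal.Quotient.mk N), ?_, ⟨n, ?_⟩, ?_, ?_⟩
  · rw [← Ideal.map_mul, h12, Ideal.map_bot]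
  · rw [hm, ← Ideal.map_pow, ← Ideal.map_sup]
    exact Ideal.map_mono hn
  · intro k hle
    exact h1 _ (key I1 k hle)
  · intro k hle
    exact h2 _ (key I2 k hle)

theorem disc_of_disc_quotient (K : ℕ) (hK : N * maximalIdeal R ^ K = ⊥) (h : Disc (R ⧸ N)) :
    Disc R := by
  obtain ⟨I1, I2, h12, ⟨n, hn⟩, h1, h2⟩ := h
  have hm : maximalIdeal (R ⧸ N) = (maximalIdeal R).map (Ideal.Quotient.mk N) :=
    maximalIdeal_quotient R N hN
  have hπ : Function.Surjective (Ideal.Quotient.mk N) := Ideal.Quotient.mk_surjective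
  have hNC : ∀ I : Ideal (R ⧸ N), N ≤ I.comap (Ideal.Quotient.mk N) := by
    intro I
    calc N = RingHom.ker (Ideal.Quotient.mk N) := Ideal.mk_ker.symm
      _ = Ideal.comap (Ideal.Quotient.mk N) ⊥ := RingHom.ker_eq_comap_bot _
      _ ≤ _ := Ideal.comap_mono bot_le
  have key : ∀ (I : Ideal (R ⧸ N)) (k : ℕ),
      maximalIdeal R ^ k ≤ I.comap (Ideal.Quotient.mk N) → maximalIdeal (R ⧸ N) ^ k ≤ I := by
    intro I k hle
    rw [hm, ← Ideal.map_pow]
    exact (Ideal.map_mono hle).trans Ideal.map_comap_le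
  refine ⟨I1.comap (Ideal.Quotient.mk N) * maximalIdeal R ^ K, I2.comap (Ideal.Quotient.mk N),
    ?_, ⟨n + K, ?_⟩, ?_, ?_⟩
  · rw [eq_bot_iff, mul_right_comm]
    calc I1.comap (Ideal.Quotient.mk N) * I2.comap (Ideal.Quotient.mk N) * maximalIdeal R ^ K
        ≤ N * maximalIdeal R ^ K := by
          apply Ideal.mul_mono_left
          refine (Ideal.le_comap_mul _).trans ?_
          rw [h12, ← RingHom.ker_eq_comap_bot, Ideal.mk_ker]
      _ = ⊥ := hK
  · have h3 : maximalIdeal R ^ n ≤
        I1.comap (Ideal.Quotient.mk N) ⊔ I2.comap (Ideal.Quotient.mk N) := by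
      intro z hz
      have hz' : Ideal.Quotient.mk N z ∈ I1 ⊔ I2 := by
        apply hn
        rw [hm, ← Ideal.map_pow]
        exact Ideal.mem_map_of_mem _ hz
      obtain ⟨a, ha, b, hb, hab⟩ := Submodule.mem_sup.mp hz'
      obtain ⟨a', rfl⟩ := hπ a
      obtain ⟨b', rfl⟩ := hπ b
      have hd : z - a' - b' ∈ N := by
        rw [← Ideal.Quotient.eq_zero_iff_mem, map_sub, map_sub, ← hab]
        ring
      have e : z = a' + (b' + (z - a' - b')) := by ring
      rw [e]
      exact Submodule.add_mem_sup (Ideal.mem_comap.mpr ha)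
        (Ideal.add_mem _ (Ideal.mem_comap.mpr hb) (hNC I2 hd))
    rw [pow_add]
    calc maximalIdeal R ^ n * maximalIdeal R ^ K
        ≤ (I1.comap (Ideal.Quotient.mk N) ⊔ I2.comap (Ideal.Quotient.mk N)) *
          maximalIdeal R ^ K := Ideal.mul_mono_left h3
      _ = I1.comap (Ideal.Quotient.mk N) * maximalIdeal R ^ K ⊔
          I2.comap (Ideal.Quotient.mk N) * maximalIdeal R ^ K := Ideal.sup_mul _ _ _
      _ ≤ _ := sup_le_sup le_rfl Ideal.mul_le_left
  · intro k hle
    exact h1 k (key I1 k (hle.trans Ideal.mul_le_left))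
  · intro k hle
    exact h2 k (key I2 k hle)

end Quot

theorem exists_regular_or_socle (D : Type*) [CommRing D] [IsLocalRing D] [IsNoetherianRing D] :
    (∃ x ∈ maximalIdeal D, x ∈ nonZeroDivisors D) ∨
      (∃ y : D, y ≠ 0 ∧ ∀ z ∈ maximalIdeal D, z * y = 0) := by
  classical
  by_cases h : ∃ x ∈ maximalIdeal D, x ∈ nonZeroDivisors D
  · exact Or.inl h
  right
  push_neg at h
  have hfin := associatedPrimes.finite D D
  have hsub : ((maximalIdeal D : Ideal D) : Set D) ⊆
      ⋃ p ∈ ((hfin.toFinset : Finset (Ideal D)) : Set (Ideal D)), ((id p : Ideal D) : Set D) := by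
    rw [Set.Finite.coe_toFinset]
    show _ ⊆ ⋃ p ∈ associatedPrimes D D, (p : Set D)
    rw [biUnion_associatedPrimes_eq_compl_nonZeroDivisors]
    intro x hx hx'
    exact h x hx hx'
  obtain ⟨p, hp, hle⟩ := (Ideal.subset_union_prime (f := id) (⊥ : Ideal D) ⊥
    (fun q hq _ _ => (hfin.mem_toFinset.mp hq).isPrime)).mp hsub
  have hpA : IsAssociatedPrime p D := hfin.mem_toFinset.mp hp
  obtain ⟨hpp, y, hy⟩ := isAssociatedPrime_iff.mp hpA
  have hpm : p = maximalIdeal D := ((maximalIdeal.isMaximal D).eq_of_le hpp.ne_top hle).symm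
  refine ⟨y, ?_, ?_⟩
  · rintro rfl
    apply hpp.ne_top
    rw [hy, eq_top_iff]
    intro r _
    rw [Submodule.mem_colon_singleton, smul_zero]
    exact Submodule.zero_mem _
  · intro z hz
    have : z ∈ (⊥ : Submodule D D).colon {y} := by rw [← hy, hpm]; exact hz
    rw [Submodule.mem_colon_singleton] at this
    exact (Submodule.mem_bot D).mp this

theorem exists_annihilator_stable (R : Type*) [CommRing R] [IsNoetherianRing R] (m : Ideal R) :
    ∃ K, ∀ k, K ≤ k → Submodule.annihilator (m ^ k) = Submodule.annihilator (m ^ K) := by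
  have hmono : Monotone (fun k : ℕ => Submodule.annihilator (m ^ k)) := by
    intro a b hab
    exact Submodule.annihilator_mono (Ideal.pow_le_pow_right hab)
  obtain ⟨K, hK⟩ := monotone_stabilizes_iff_noetherian.mpr
    (inferInstance : IsNoetherian R R) ⟨fun k : ℕ => Submodule.annihilator (m ^ k), hmono⟩
  exact ⟨K, fun k hk => (hK k hk).symm⟩

section Descend

variable {S S' : Type u} [CommRing S] [HenselianLocalRing S] [IsNoetherianRing S] [CommRing S']
  [IsLocalRing S'] [Algebra S S']

theorem disc_descend_of_regular (hG : GoodPair S S') (x : S) (hxm : x ∈ maximalIdeal S)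
    (hx : x ∈ nonZeroDivisors S) (hD : Disc S') : Disc S := by
  haveI := hG.faithfullyFlat
  obtain ⟨I1, I2, h12, ⟨n, hn⟩, h1, h2⟩ := hD
  obtain ⟨J1, J2, hJ12, hk, hJ1, hJ2⟩ := descend hG.map_max hG.dense x hxm hx I1 I2 h12 n hn
  have hpow : ∀ k, (maximalIdeal S ^ k).map (algebraMap S S') = maximalIdeal S' ^ k :=
    fun k => by rw [Ideal.map_pow, hG.map_max]
  refine ⟨J1, J2, hJ12, hk, ?_, ?_⟩
  · intro k hle
    apply h1 k
    rw [← hpow]
    exact (Ideal.map_mono hle).trans hJ1
  · intro k hle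
    apply h2 k
    rw [← hpow]
    exact (Ideal.map_mono hle).trans hJ2

theorem disc_descend (hG : GoodPair S S') (hD : Disc S') : Disc S := by
  classical
  obtain ⟨K, hK⟩ := exists_annihilator_stable S (maximalIdeal S)
  obtain ⟨Γ, hΓ⟩ : ∃ Γ : Ideal S, Γ = Submodule.annihilator (maximalIdeal S ^ K) := ⟨_, rfl⟩
  have hmem : ∀ r : S, r ∈ Γ ↔ ∀ s ∈ maximalIdeal S ^ K, r * s = 0 := by
    intro r
    rw [hΓ, Submodule.mem_annihilator]
    rfl
  by_cases hbot : maximalIdeal S ^ K = ⊥
  · exfalso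
    obtain ⟨I1, I2, h12, ⟨n, hn⟩, h1, h2⟩ := hD
    apply h1 K
    rw [← hG.map_max, ← Ideal.map_pow, hbot, Ideal.map_bot]
    exact bot_le
  have hΓm : Γ ≤ maximalIdeal S := by
    intro r hr
    by_contra hrm
    have hu : IsUnit r := IsLocalRing.notMem_maximalIdeal.mp hrm
    apply hbot
    rw [eq_bot_iff]
    intro s hs
    exact (Submodule.mem_bot S).mpr (hu.mul_right_eq_zero.mp ((hmem r).mp hr s hs))
  have hΓK : Γ * maximalIdeal S ^ K = ⊥ := by
    rw [eq_bot_iff, Ideal.mul_le]
    intro r hr s hs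
    exact (Submodule.mem_bot S).mpr ((hmem r).mp hr s hs)
  have hΓnil : Γ ^ (K + 1) = ⊥ := by
    rw [eq_bot_iff, pow_succ', ← hΓK]
    exact Ideal.mul_mono_right (Ideal.pow_right_mono hΓm K)
  obtain ⟨hl, hl', hG'⟩ := hG.quotient Γ hΓm
  haveI := hl'
  haveI hH : HenselianLocalRing (S ⧸ Γ) := (SHzn.henselianLocalRing_quotient Γ hΓm).1
  have hreg : ∃ x ∈ maximalIdeal (S ⧸ Γ), x ∈ nonZeroDivisors (S ⧸ Γ) := by
    rcases exists_regular_or_socle (S ⧸ Γ) with h | ⟨y, hy0, hy⟩
    · exact h
    · exfalso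
      obtain ⟨y, rfl⟩ := Ideal.Quotient.mk_surjective y
      apply hy0
      rw [Ideal.Quotient.eq_zero_iff_mem, hΓ, ← hK (K + 1) (Nat.le_succ K),
        Submodule.mem_annihilator]
      have hle : maximalIdeal S ^ (K + 1) ≤ Submodule.annihilator (Submodule.span S {y}) := by
        rw [pow_succ', Ideal.mul_le]
        intro r hr s hs
        rw [Submodule.mem_annihilator_span_singleton]
        have h1 : Ideal.Quotient.mk Γ r * Ideal.Quotient.mk Γ y = 0 := by
          apply hy
          rw [maximalIdeal_quotient S Γ hΓm]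
          exact Ideal.mem_map_of_mem _ hr
        rw [← map_mul, Ideal.Quotient.eq_zero_iff_mem, hmem] at h1
        have h2 := h1 s hs
        show (r * s) * y = 0
        linear_combination h2
      intro t ht
      have h3 := (Submodule.mem_annihilator_span_singleton y t).mp (hle ht)
      show y * t = 0
      rw [mul_comm]
      exact h3
  obtain ⟨x, hxm, hx⟩ := hreg
  have hD' : Disc (S' ⧸ Γ.map (algebraMap S S')) := by
    refine disc_quotient_of_nilpotent (Γ.map (algebraMap S S')) ?_ (K + 1) ?_ hD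
    · rw [← hG.map_max]
      exact Ideal.map_mono hΓm
    · rw [← Ideal.map_pow, hΓnil, Ideal.map_bot]
  have hDS : Disc (S ⧸ Γ) := disc_descend_of_regular hG' x hxm hx hD'
  exact disc_of_disc_quotient Γ hΓm K hΓK hDS

/-- the punctured spectra of a good pair `S → S'` with `S` henselian are preconnected together -/
theorem isPreconnected_punctured_iff [IsNoetherianRing S'] (hG : GoodPair S S') :
    IsPreconnected ({closedPoint S'}ᶜ : Set (PrimeSpectrum S')) ↔
      IsPreconnected ({closedPoint S}ᶜ : Set (PrimeSpectrum S)) := by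
  constructor
  · intro h
    haveI := hG.faithfullyFlat
    have himg : PrimeSpectrum.comap (algebraMap S S') '' ({closedPoint S'}ᶜ) =
        ({closedPoint S}ᶜ : Set (PrimeSpectrum S)) := by
      ext p
      constructor
      · rintro ⟨P, hP, rfl⟩
        rw [mem_punctured] at hP ⊢
        intro hcon
        apply hP
        rw [PrimeSpectrum.comap_asIdeal] at hcon
        have hle : maximalIdeal S' ≤ P.asIdeal := by
          rw [← hG.map_max, Ideal.map_le_iff_le_comap]
          exact hcon.ge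
        exact ((maximalIdeal.isMaximal S').eq_of_le P.isPrime.ne_top hle).symm
      · intro hp
        obtain ⟨P, rfl⟩ := PrimeSpectrum.comap_surjective_of_faithfullyFlat (A := S) (B := S') p
        refine ⟨P, ?_, rfl⟩
        rw [mem_punctured] at hp ⊢
        intro hcon
        apply hp
        rw [PrimeSpectrum.comap_asIdeal, hcon, ← hG.map_max]
        exact Ideal.comap_map_eq_self_of_faithfullyFlat _
    rw [← himg]
    exact h.image _ (PrimeSpectrum.continuous_comap _).continuousOn
  · intro h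
    by_contra hcon
    exact not_isPreconnected_of_disc S (disc_descend hG (disc_of_not_isPreconnected S' hcon)) h

end Descend

end Groth.Agent.Helper1.PC
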