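import Mathlib

set_option autoImplicit false
set_option linter.style.haveILetI false
universe u
open CategoryTheory CategoryTheory.Limits AlgebraicGeometry Opposite TopologicalSpace

namespace Groth.Agent.Helper1.PX

/-- ring level: if `A_p` is a domain and `A` is Noetherian, a single `f ∉ p` kills the kernel of
`A → A_p`. -/
theorem exists_kill_ker {A : Type*} [CommRing A] [IsNoetherianRing A] (p : Ideal A) [p.IsPrime]
    (S : Type*) [CommRing S] [Algebra A S] [IsLocalization.AtPrime S p] :
    ∃ f : A, f ∉ p ∧ ∀ a : A, algebraMap A S a = 0 → f * a = 0 := by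
  classical
  let q : Ideal A := RingHom.ker (algebraMap A S)
  obtain ⟨s, hs⟩ := (isNoetherianRing_iff_ideal_fg A).1 inferInstance q
  have key : ∀ t : Finset A, (∀ a ∈ t, a ∈ q) → ∃ f : A, f ∉ p ∧ ∀ a ∈ t, f * a = 0 := by
    intro t
    induction t using Finset.induction_on with
    | empty => intro _; exact ⟨1, fun h => (Ideal.IsPrime.ne_top ‹_›) ((Ideal.eq_top_iff_one p).2 h), by simp⟩
    | insert b t hb ih =>
      intro h
      obtain ⟨f, hf, hft⟩ := ih (fun a ha => h a (Finset.mem_insert_of_mem ha))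
      have hbq : algebraMap A S b = 0 := h b (Finset.mem_insert_self b t)
      rw [IsLocalization.map_eq_zero_iff p.primeCompl] at hbq
      obtain ⟨⟨g, hg⟩, hgb⟩ := hbq
      refine ⟨f * g, fun hfg => ?_, ?_⟩
      · rcases (Ideal.IsPrime.mem_or_mem ‹_› hfg) with h1 | h1
        · exact hf h1
        · exact hg h1
      · intro a ha
        rcases Finset.mem_insert.1 ha with rfl | ha
        · have : g * a = 0 := hgb
          rw [mul_assoc, this, mul_zero]
        · rw [mul_comm f g, mul_assoc, hft a ha, mul_zero]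
  obtain ⟨f, hf, hfs⟩ := key s (fun a ha => by
    have : (a : A) ∈ Ideal.span (s : Set A) := Ideal.subset_span ha
    rw [hs] at this
    exact this)
  refine ⟨f, hf, fun a ha => ?_⟩
  have haq : a ∈ Ideal.span (s : Set A) := by rw [hs]; exact ha
  refine Submodule.span_induction (p := fun a _ => f * a = 0) ?_ ?_ ?_ ?_ haq
  · intro x hx; exact hfs x hx
  · exact mul_zero f
  · intro x y _ _ hx hy; rw [mul_add, hx, hy, add_zero]
  · intro r x _ hx; rw [smul_eq_mul, mul_left_comm, hx, mul_zero]

/-- ring level: under the conclusion of `exists_kill_ker`, the localization away from `f` is a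
domain as soon as `A_p` is. -/
theorem isDomain_away {A : Type*} [CommRing A] (p : Ideal A) [p.IsPrime]
    (S : Type*) [CommRing S] [Algebra A S] [IsLocalization.AtPrime S p] [IsDomain S]
    (f : A) (hf : f ∉ p) (hk : ∀ a : A, algebraMap A S a = 0 → f * a = 0)
    (T : Type*) [CommRing T] [Algebra A T] [IsLocalization.Away f T] : IsDomain T := by
  have hu : IsUnit (algebraMap A S f) :=
    IsLocalization.map_units S (⟨f, hf⟩ : p.primeCompl)
  let g : T →+* S := IsLocalization.Away.lift f hu
  have hg : ∀ a : A, g (algebraMap A T a) = algebraMap A S a := fun a =>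
    IsLocalization.Away.lift_eq f hu a
  have hinj : Function.Injective g := by
    rw [injective_iff_map_eq_zero]
    intro t ht
    obtain ⟨a, ⟨_, n, rfl⟩, rfl⟩ := IsLocalization.exists_mk'_eq (Submonoid.powers f) t
    have h1 : g (IsLocalization.mk' T a (⟨f ^ n, n, rfl⟩ : Submonoid.powers f)) *
        g (algebraMap A T (f ^ n)) = g (algebraMap A T a) := by
      rw [← map_mul, IsLocalization.mk'_spec]
    rw [ht, zero_mul, hg] at h1
    have h2 : f * a = 0 := hk a h1.symm
    have h3 : algebraMap A T f * algebraMap A T a = 0 := by rw [← map_mul, h2, map_zero]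
    have hfu : IsUnit (algebraMap A T f) := IsLocalization.Away.algebraMap_isUnit f
    have h4 : algebraMap A T a = 0 := (hfu.mul_right_eq_zero).1 h3
    rw [IsLocalization.mk'_eq_zero_iff]
    exact (IsLocalization.map_eq_zero_iff (Submonoid.powers f) T a).1 h4
  haveI : Nontrivial T := g.domain_nontrivial
  exact hinj.isDomain g


variable {X : Scheme.{u}}

theorem mem_basicOpen_iff_notMem {U : X.Opens} (hU : IsAffineOpen U) (x : X) (hxU : x ∈ U)
    (c : Γ(X, U)) : x ∈ X.basicOpen c ↔ c ∉ (hU.primeIdealOf ⟨x, hxU⟩).asIdeal := by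
  have h1 : hU.fromSpec (hU.primeIdealOf ⟨x, hxU⟩) = x := hU.fromSpec_primeIdealOf ⟨x, hxU⟩
  have h2 : (hU.primeIdealOf ⟨x, hxU⟩ ∈ hU.fromSpec ⁻¹ᵁ X.basicOpen c) ↔ x ∈ X.basicOpen c := by
    change hU.fromSpec (hU.primeIdealOf ⟨x, hxU⟩) ∈ X.basicOpen c ↔ _
    rw [h1]
  rw [← h2, hU.fromSpec_preimage_basicOpen]
  rfl

/-- on a locally Noetherian scheme, a point whose local ring is a domain has an irreducible open
neighbourhood. -/
theorem exists_irreducible_nbhd (X : Scheme.{u}) [IsLocallyNoetherian X] (x : X)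
    [IsDomain (X.presheaf.stalk x)] : ∃ N : X.Opens, x ∈ N ∧ IsIrreducible (N : Set X) := by
  obtain ⟨_, ⟨V, hV, rfl⟩, hxV, -⟩ :=
    X.isBasis_affineOpens.exists_subset_of_mem_open (Set.mem_univ x) isOpen_univ
  haveI : IsNoetherianRing Γ(X, V) := IsLocallyNoetherian.component_noetherian ⟨V, hV⟩
  letI := X.presheaf.algebra_section_stalk ⟨x, hxV⟩
  haveI := hV.isLocalization_stalk ⟨x, hxV⟩
  obtain ⟨f, hf, hk⟩ := exists_kill_ker (hV.primeIdealOf ⟨x, hxV⟩).asIdeal (X.presheaf.stalk x)
  haveI : IsLocalization.Away f Γ(X, X.basicOpen f) := hV.isLocalization_basicOpen f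
  haveI : IsDomain Γ(X, X.basicOpen f) :=
    isDomain_away (hV.primeIdealOf ⟨x, hxV⟩).asIdeal (X.presheaf.stalk x) f hf hk _
  have hxf : x ∈ X.basicOpen f := (mem_basicOpen_iff_notMem hV x hxV f).2 hf
  refine ⟨X.basicOpen f, hxf, ?_⟩
  haveI : IsAffine ((X.basicOpen f : X.Opens) : Scheme.{u}) := hV.basicOpen f
  haveI : Nonempty ((X.basicOpen f : X.Opens) : Scheme.{u}) := ⟨⟨x, hxf⟩⟩
  haveI : IsDomain Γ(((X.basicOpen f : X.Opens) : Scheme.{u}), ⊤) :=
    ((X.basicOpen f).topIso.commRingCatIsoToRingEquiv).toMulEquiv.isDomain _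
  haveI : IsIntegral ((X.basicOpen f : X.Opens) : Scheme.{u}) := isIntegral_of_isAffine_of_isDomain _
  have : IrreducibleSpace ((X.basicOpen f : X.Opens) : Scheme.{u}) := inferInstance
  exact isIrreducible_iff_irreducibleSpace.2 this

/-- if all points outside the open `U` have domain local rings, the closure of `U` is open. -/
theorem isOpen_closure_of_isDomain (X : Scheme.{u}) [IsLocallyNoetherian X] (U : X.Opens)
    (hdom : ∀ x : X, x ∉ U → IsDomain (X.presheaf.stalk x)) : IsOpen (closure (U : Set X)) := by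
  rw [isOpen_iff_forall_mem_open]
  intro x hx
  by_cases hxU : x ∈ U
  · exact ⟨U, subset_closure, U.isOpen, hxU⟩
  · haveI := hdom x hxU
    obtain ⟨N, hxN, hirr⟩ := exists_irreducible_nbhd X x
    refine ⟨N, ?_, N.isOpen, hxN⟩
    intro y hy
    rw [mem_closure_iff]
    intro o ho hyo
    have h1 : ((N : Set X) ∩ o).Nonempty := ⟨y, hy, hyo⟩
    have h2 : ((N : Set X) ∩ U).Nonempty := mem_closure_iff.1 hx N N.isOpen hxN
    obtain ⟨z, -, hzo, hzU⟩ := hirr.2 o U ho U.isOpen h1 h2
    exact ⟨z, hzo, hzU⟩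

/-- a point of the closure of `U` with domain local ring has a generization in `U`. -/
theorem exists_generization_mem (X : Scheme.{u}) [IsLocallyNoetherian X] (U : X.Opens) (x : X)
    [IsDomain (X.presheaf.stalk x)] (hx : x ∈ closure (U : Set X)) : ∃ ξ : X, ξ ∈ U ∧ ξ ⤳ x := by
  obtain ⟨N, hxN, hirr⟩ := exists_irreducible_nbhd X x
  have hne : ((N : Set X) ∩ U).Nonempty := mem_closure_iff.1 hx N N.isOpen hxN
  have hξ := hirr.isGenericPoint_genericPoint_closure
  refine ⟨hirr.genericPoint, ?_, hξ.specializes (subset_closure hxN)⟩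
  refine (hξ.mem_open_set_iff U.isOpen).2 ?_
  obtain ⟨z, hzN, hzU⟩ := hne
  exact ⟨z, subset_closure hzN, hzU⟩

end Groth.Agent.Helper1.PX
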