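import Groth.Agent.Lib.Lead.PicPunct
import Groth.Agent.Lib.Helper7.NormalSections
import Groth.Agent.Lib.Helper1.PX1

set_option autoImplicit false
set_option linter.style.haveILetI false
universe u
open CategoryTheory CategoryTheory.Limits AlgebraicGeometry Opposite TopologicalSpace
open RefHull IsLocalRing
open Groth.Agent.Helper13.QCoh Groth.Agent.Helper13.QCohLoc Groth.Agent.Helper13.LocFree
open Groth.Agent.Helper13.FinType Groth.Agent.Helper13.Inv Groth.Agent.Helper13.WeakAss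
open Groth.Agent.Lead.HomSh

namespace Groth.Agent.Helper1.PX

/-- ring level: a finitely generated ideal all of whose elements are killed by elements outside
the prime `p` is killed by a single element outside `p`. -/
theorem exists_kill_ideal {A : Type*} [CommRing A] (p : Ideal A) [p.IsPrime] (q : Ideal A)
    (hq : q.FG) (h : ∀ a ∈ q, ∃ t : A, t ∉ p ∧ t * a = 0) :
    ∃ f : A, f ∉ p ∧ ∀ a ∈ q, f * a = 0 := by
  classical
  obtain ⟨s, hs⟩ := hq
  have key : ∀ t : Finset A, (∀ a ∈ t, a ∈ q) → ∃ f : A, f ∉ p ∧ ∀ a ∈ t, f * a = 0 := by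
    intro t
    induction t using Finset.induction_on with
    | empty =>
      intro _
      exact ⟨1, fun h => (Ideal.IsPrime.ne_top ‹_›) ((Ideal.eq_top_iff_one p).2 h), by simp⟩
    | insert b t hb ih =>
      intro h'
      obtain ⟨f, hf, hft⟩ := ih (fun a ha => h' a (Finset.mem_insert_of_mem ha))
      obtain ⟨g, hg, hgb⟩ := h b (h' b (Finset.mem_insert_self b t))
      refine ⟨f * g, fun hfg => ?_, ?_⟩
      · rcases (Ideal.IsPrime.mem_or_mem ‹_› hfg) with h1 | h1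
        · exact hf h1
        · exact hg h1
      · intro a ha
        rcases Finset.mem_insert.1 ha with rfl | ha
        · rw [mul_assoc, hgb, mul_zero]
        · rw [mul_comm f g, mul_assoc, hft a ha, mul_zero]
  obtain ⟨f, hf, hfs⟩ := key s (fun a ha => by
    have : (a : A) ∈ Ideal.span (s : Set A) := Ideal.subset_span ha
    rw [hs] at this
    exact this)
  refine ⟨f, hf, fun a ha => ?_⟩
  have haq : a ∈ Ideal.span (s : Set A) := by rw [hs]; exact ha
  refine Submodule.span_induction (p := fun a _ => f * a = 0) ?_ ?_ ?_ ?_ haq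
  · intro x hx; exact hfs x hx
  · exact mul_zero f
  · intro x y _ _ hx hy; rw [mul_add, hx, hy, add_zero]
  · intro r x _ hx; rw [smul_eq_mul, mul_left_comm, hx, mul_zero]

variable {X : Scheme.{u}}

/-- the rank one identity at `x`, from a free generator at a generization `ξ` of `x`, when the
local ring at `x` is a domain. -/
theorem rank_one_at (F : X.Modules)
    [SheafOfModules.IsFinitePresentation (R := X.ringCatSheaf) F] (x ξ : X) (hξx : ξ ⤳ x)
    [IsDomain (X.presheaf.stalk x)]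
    (hgen : ∃ (W : X.Opens) (hξ : ξ ∈ W) (s₀ : Γ(F, W)), IsGen F s₀ ξ hξ)
    (φ ψ : Module.Dual (X.presheaf.stalk x) (F.presheaf.stalk x)) (m m' : F.presheaf.stalk x) :
    φ m * ψ m' = φ m' * ψ m := by
  obtain ⟨W₀, hηW₀, s₀, hgen⟩ := hgen
  obtain ⟨W₁, hxW₁, g₁, hg₁⟩ := exists_sec_eq (G := Coh.structureModule X) x
    ((unitStalkEquiv x).symm.toLinearMap.comp φ)
  obtain ⟨W₂, hxW₂, g₂, hg₂⟩ := exists_sec_eq (G := Coh.structureModule X) x
    ((unitStalkEquiv x).symm.toLinearMap.comp ψ)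
  obtain ⟨U₁, hxU₁, t, rfl⟩ := TopCat.Presheaf.exists_germ_eq F.presheaf m
  obtain ⟨U₂, hxU₂, t', rfl⟩ := TopCat.Presheaf.exists_germ_eq F.presheaf m'
  obtain ⟨N, hN⟩ : ∃ N : X.Opens, N = W₁ ⊓ W₂ ⊓ U₁ ⊓ U₂ := ⟨_, rfl⟩
  have hxN : x ∈ N := hN ▸ ⟨⟨⟨hxW₁, hxW₂⟩, hxU₁⟩, hxU₂⟩
  have i1 : N ≤ W₁ := hN ▸ (inf_le_left.trans inf_le_left).trans inf_le_left
  have i2 : N ≤ W₂ := hN ▸ (inf_le_left.trans inf_le_left).trans inf_le_right
  have i3 : N ≤ U₁ := hN ▸ inf_le_left.trans inf_le_right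
  have i4 : N ≤ U₂ := hN ▸ inf_le_right
  obtain ⟨G₁, hG₁⟩ : ∃ G₁ : Γ(homSh F (Coh.structureModule X), N),
      G₁ = (homSh F (Coh.structureModule X)).presheaf.map (homOfLE i1).op g₁ := ⟨_, rfl⟩
  obtain ⟨G₂, hG₂⟩ : ∃ G₂ : Γ(homSh F (Coh.structureModule X), N),
      G₂ = (homSh F (Coh.structureModule X)).presheaf.map (homOfLE i2).op g₂ := ⟨_, rfl⟩
  obtain ⟨T, hT⟩ : ∃ T : Γ(F, N), T = F.presheaf.map (homOfLE i3).op t := ⟨_, rfl⟩
  obtain ⟨T', hT'⟩ : ∃ T' : Γ(F, N), T' = F.presheaf.map (homOfLE i4).op t' := ⟨_, rfl⟩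
  obtain ⟨Δ, hΔ⟩ : ∃ Δ : Γ(X, N), Δ = ofO (evalSec G₁ T) * ofO (evalSec G₂ T') -
      ofO (evalSec G₁ T') * ofO (evalSec G₂ T) := ⟨_, rfl⟩
  have hgermΔ : ∀ (y : X) (hy : y ∈ N), X.presheaf.germ N y hy Δ =
      unitStalkEquiv y (G₁.1 ⟨y, hy⟩ (F.presheaf.germ N y hy T)) *
        unitStalkEquiv y (G₂.1 ⟨y, hy⟩ (F.presheaf.germ N y hy T')) -
      unitStalkEquiv y (G₁.1 ⟨y, hy⟩ (F.presheaf.germ N y hy T')) *
        unitStalkEquiv y (G₂.1 ⟨y, hy⟩ (F.presheaf.germ N y hy T)) := by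
    intro y hy
    rw [hΔ, map_sub, map_mul, map_mul, germ_ofO, germ_ofO, germ_ofO, germ_ofO, germ_evalSec,
      germ_evalSec, germ_evalSec, germ_evalSec]
  have hξN : ξ ∈ N := hξx.mem_open N.isOpen hxN
  have hΔξ : X.presheaf.germ N ξ hξN Δ = 0 := by
    rw [hgermΔ]
    obtain ⟨c, hc⟩ := hgen.2 (F.presheaf.germ N ξ hξN T)
    obtain ⟨c', hc'⟩ := hgen.2 (F.presheaf.germ N ξ hξN T')
    dsimp only at hc hc'
    rw [← hc, ← hc']
    simp only [map_smul, smul_eq_mul]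
    ring
  have hΔx : X.presheaf.germ N x hxN Δ = 0 := by
    apply Groth.Agent.Helper7.NormalSections.stalkSpecializes_injective X hξx
    rw [map_zero]
    have := congrArg (fun φ => φ.hom Δ) (X.presheaf.germ_stalkSpecializes hxN hξx)
    simp only [CommRingCat.hom_comp, RingHom.comp_apply] at this
    rw [this]
    exact hΔξ
  have hx0 := hgermΔ x hxN
  rw [hΔx] at hx0
  have e1 : G₁.1 ⟨x, hxN⟩ = (unitStalkEquiv x).symm.toLinearMap.comp φ := by
    rw [hG₁]
    exact hg₁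
  have e2 : G₂.1 ⟨x, hxN⟩ = (unitStalkEquiv x).symm.toLinearMap.comp ψ := by
    rw [hG₂]
    exact hg₂
  have e3 : F.presheaf.germ N x hxN T = F.presheaf.germ U₁ x hxU₁ t := by
    rw [hT, TopCat.Presheaf.germ_res_apply]
  have e4 : F.presheaf.germ N x hxN T' = F.presheaf.germ U₂ x hxU₂ t' := by
    rw [hT', TopCat.Presheaf.germ_res_apply]
  rw [e1, e2, e3, e4] at hx0
  simp only [LinearMap.comp_apply, LinearEquiv.coe_coe, LinearEquiv.apply_symm_apply] at hx0
  exact (sub_eq_zero.1 hx0.symm)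

/-- the stalk at `x` is nonzero as soon as there is a free generator at a generization of `x`. -/
theorem nontrivial_at (F : X.Modules)
    [SheafOfModules.IsFiniteType (R := X.ringCatSheaf) F] (x ξ : X) (hξx : ξ ⤳ x)
    (hgen : ∃ (W : X.Opens) (hξ : ξ ∈ W) (s₀ : Γ(F, W)), IsGen F s₀ ξ hξ) :
    Nontrivial (F.presheaf.stalk x) := by
  by_contra hcon
  rw [not_nontrivial_iff_subsingleton] at hcon
  obtain ⟨W₀, hηW₀, s₀, hgen⟩ := hgen
  obtain ⟨U', hxU', hU'top, hsurj⟩ := surjective_smul_germ_near F (0 : Γ(F, ⊤)) x trivial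
    (fun v => ⟨0, Subsingleton.elim _ _⟩)
  have hηU' : ξ ∈ U' := hξx.mem_open U'.isOpen hxU'
  have hsub : ∀ v : F.presheaf.stalk ξ, v = 0 := by
    intro v
    obtain ⟨r, hr⟩ := hsurj ξ hηU' v
    dsimp only at hr
    rw [← hr, map_zero, smul_zero]
  have h10 : (1 : X.presheaf.stalk ξ) = 0 := by
    apply hgen.1
    dsimp only
    rw [hsub (1 • _), hsub (0 • _)]
  exact one_ne_zero h10

end Groth.Agent.Helper1.PX
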