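import Mathlib
import Groth.Agent.Lib.Helper13.QCohStalk
import Groth.Prelude.Def_Coh

set_option autoImplicit false
set_option linter.style.haveILetI false
universe u
open CategoryTheory CategoryTheory.Limits AlgebraicGeometry Opposite TopologicalSpace

namespace Groth.Agent.Helper1.PX

variable {X : Scheme.{u}}

/-- restriction to an open is additive. -/
theorem additive_restrictFunctor {U : Scheme.{u}} (j : U ⟶ X) [IsOpenImmersion j] :
    (Scheme.Modules.restrictFunctor j).Additive := by
  haveI := preservesBinaryBiproducts_of_preservesBinaryCoproducts (Scheme.Modules.restrictFunctor j)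
  exact Functor.additive_of_preservesBinaryBiproducts _

/-- restricting a pushforward from the open `W` to a smaller open `N ≤ W`. -/
noncomputable def restrictPushforwardIso {N W : X.Opens} (h : N ≤ W) (M : (W : Scheme.{u}).Modules) :
    ((Scheme.Modules.pushforward W.ι).obj M).restrict N.ι ≅ M.restrict (X.homOfLE h) :=
  (Scheme.Modules.restrictFunctorCongr (X.homOfLE_ι h).symm).app _ ≪≫
    (Scheme.Modules.restrictFunctorComp (X.homOfLE h) W.ι).app _ ≪≫
    (Scheme.Modules.restrictFunctor (X.homOfLE h)).mapIso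
      ((Scheme.Modules.restrictFunctorAdjCounitIso W.ι).app M)

/-- restricting a restriction. -/
noncomputable def restrictRestrictIso {N W : X.Opens} (h : N ≤ W) (G : X.Modules) :
    (G.restrict W.ι).restrict (X.homOfLE h) ≅ G.restrict N.ι :=
  ((Scheme.Modules.restrictFunctorComp (X.homOfLE h) W.ι).app G).symm ≪≫
    ((Scheme.Modules.restrictFunctorCongr (X.homOfLE_ι h).symm).app G).symm

/-- the pushforward from `W` vanishes on opens disjoint from `W`. -/
theorem isZero_restrict_pushforward_of_disjoint {N W : X.Opens} (hd : Disjoint N W)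
    (M : (W : Scheme.{u}).Modules) :
    IsZero (((Scheme.Modules.pushforward W.ι).obj M).restrict N.ι) := by
  rw [Groth.Agent.Helper13.QCoh.isZero_iff_sections]
  intro V
  refine ⟨fun a b => ?_⟩
  have key : ∀ a b : Γ(M, W.ι ⁻¹ᵁ (N.ι ''ᵁ V)), a = b := by
    intro a b
    apply TopCat.Presheaf.section_ext ⟨M.presheaf, M.isSheaf⟩ (W.ι ⁻¹ᵁ (N.ι ''ᵁ V))
    intro x hx
    exfalso
    have h1 : W.ι x ∈ N.ι ''ᵁ V := hx
    obtain ⟨y, -, hy⟩ := h1
    have h2 : W.ι x ∈ N := by rw [← hy]; exact y.2
    have h3 : W.ι x ∈ W := x.2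
    exact (Set.disjoint_left.1 (by simpa using hd : Disjoint (N : Set X) (W : Set X))) h2 h3
  exact key a b


/-- a biproduct with a zero object on the right. -/
noncomputable def biprodIsoLeft {C : Type*} [Category C] [Preadditive C] [HasBinaryBiproducts C]
    (A Z : C) (hZ : IsZero Z) : A ⊞ Z ≅ A where
  hom := biprod.fst
  inv := biprod.inl
  hom_inv_id := by
    apply biprod.hom_ext
    · simp
    · exact hZ.eq_of_tgt _ _
  inv_hom_id := by simp

/-- a biproduct with a zero object on the left. -/
noncomputable def biprodIsoRight {C : Type*} [Category C] [Preadditive C] [HasBinaryBiproducts C]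
    (Z A : C) (hZ : IsZero Z) : Z ⊞ A ≅ A where
  hom := biprod.snd
  inv := biprod.inr
  hom_inv_id := by
    apply biprod.hom_ext
    · exact hZ.eq_of_tgt _ _
    · simp
  inv_hom_id := by simp

/-- the module glued from `G` on `X₁` and the structure sheaf on `X₂`. -/
noncomputable def glue (X₁ X₂ : X.Opens) (G : X.Modules) : X.Modules :=
  (Scheme.Modules.pushforward X₁.ι).obj (G.restrict X₁.ι) ⊞
    (Scheme.Modules.pushforward X₂.ι).obj ((Coh.structureModule X).restrict X₂.ι)

/-- on opens inside `X₁` the glued module is `G`. -/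
theorem glue_restrict_left {X₁ X₂ : X.Opens} (hd : Disjoint X₁ X₂) (G : X.Modules) {N : X.Opens}
    (h : N ≤ X₁) : Nonempty ((glue X₁ X₂ G).restrict N.ι ≅ G.restrict N.ι) := by
  haveI : PreservesBinaryBiproducts (Scheme.Modules.restrictFunctor N.ι) :=
    preservesBinaryBiproducts_of_preservesBinaryCoproducts _
  have hz : IsZero (((Scheme.Modules.pushforward X₂.ι).obj
      ((Coh.structureModule X).restrict X₂.ι)).restrict N.ι) :=
    isZero_restrict_pushforward_of_disjoint (hd.mono_left h) _
  exact ⟨(Scheme.Modules.restrictFunctor N.ι).mapBiprod _ _ ≪≫ biprodIsoLeft _ _ hz ≪≫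
    restrictPushforwardIso h _ ≪≫ restrictRestrictIso h G⟩

/-- on opens inside `X₂` the glued module is the structure sheaf. -/
theorem glue_restrict_right {X₁ X₂ : X.Opens} (hd : Disjoint X₁ X₂) (G : X.Modules) {N : X.Opens}
    (h : N ≤ X₂) :
    Nonempty ((glue X₁ X₂ G).restrict N.ι ≅ Coh.structureModule (N : Scheme.{u})) := by
  haveI : PreservesBinaryBiproducts (Scheme.Modules.restrictFunctor N.ι) :=
    preservesBinaryBiproducts_of_preservesBinaryCoproducts _
  have hz : IsZero (((Scheme.Modules.pushforward X₁.ι).obj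
      (G.restrict X₁.ι)).restrict N.ι) :=
    isZero_restrict_pushforward_of_disjoint (hd.symm.mono_left h) _
  exact ⟨(Scheme.Modules.restrictFunctor N.ι).mapBiprod _ _ ≪≫ biprodIsoRight _ _ hz ≪≫
    restrictPushforwardIso h _ ≪≫ restrictRestrictIso h _ ≪≫ Scheme.Modules.restrictUnitIso _⟩

end Groth.Agent.Helper1.PX
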