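import Groth.Agent.Lib.Helper1.PX2

set_option autoImplicit false
set_option linter.style.haveILetI false
universe u
open CategoryTheory CategoryTheory.Limits AlgebraicGeometry Opposite TopologicalSpace
open RefHull IsLocalRing
open Groth.Agent.Helper13.QCoh Groth.Agent.Helper13.QCohLoc Groth.Agent.Helper13.LocFree
open Groth.Agent.Helper13.FinType Groth.Agent.Helper13.Inv Groth.Agent.Helper13.WeakAss
open Groth.Agent.Lead.HomSh

namespace Groth.Agent.Helper1.PX

variable {X : Scheme.{u}}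

/-- the double dual of a coherent module is reflexive at every point whose local ring is a
domain. -/
theorem isReflexiveAt_ddual [IsLocallyNoetherian X] (F : X.Modules) (hF : Coh.IsCoh F) (x : X)
    [IsDomain (X.presheaf.stalk x)] : IsReflexiveAt (ddual F) x := by
  have hO : Coh.IsCoh (Coh.structureModule X) := isCoh_structureModule
  have hD : Coh.IsCoh (dual F) := isCoh_homSh hF hO
  haveI : (dual F).IsQuasicoherent := hD.1
  haveI : SheafOfModules.IsFiniteType (R := X.ringCatSheaf) (dual F) := hD.2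
  haveI : (Coh.structureModule X).IsQuasicoherent := hO.1
  haveI : SheafOfModules.IsFiniteType (R := X.ringCatSheaf) (Coh.structureModule X) := hO.2
  haveI : Module.Finite (X.presheaf.stalk x) ((dual F).presheaf.stalk x) :=
    finite_stalk_of_isFiniteType (dual F) x
  haveI : Module.Finite (X.presheaf.stalk x) ((Coh.structureModule X).presheaf.stalk x) :=
    finite_stalk_of_isFiniteType (Coh.structureModule X) x
  haveI : Module.IsReflexive (X.presheaf.stalk x) ((Coh.structureModule X).presheaf.stalk x) :=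
    Module.equiv (unitStalkEquiv x).symm
  haveI : Module.IsReflexive (X.presheaf.stalk x)
      ((dual F).presheaf.stalk x →ₗ[X.presheaf.stalk x]
        (Coh.structureModule X).presheaf.stalk x) :=
    Groth.Agent.S6875.result (X.presheaf.stalk x) ((dual F).presheaf.stalk x)
      ((Coh.structureModule X).presheaf.stalk x)
  have hbij := Groth.Agent.S16485.result X (dual F) (Coh.structureModule X)
    (isFinitePresentation_of_isCoh hD) x
  unfold IsReflexiveAt
  exact Module.equiv (LinearEquiv.ofBijective (RefHull.evalStalk (dual F)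
    (Coh.structureModule X) x) hbij).symm

/-- a germ vanishes only if the section is killed by a function invertible at the point. -/
theorem exists_kill_of_germ_eq_zero (F : X.Modules) [F.IsQuasicoherent] {V : X.Opens}
    (hV : IsAffineOpen V) (m : Γ(F, V)) (y : X) (hyV : y ∈ V)
    (h1 : F.presheaf.germ V y hyV m = 0) :
    ∃ t' : Γ(X, V), t' ∉ (hV.primeIdealOf ⟨y, hyV⟩).asIdeal ∧ t' • m = 0 := by
  letI := modStalk F (⟨y, hyV⟩ : V)
  haveI := isLocalizedModule_germ F hV (⟨y, hyV⟩ : V)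
  have h2 : germLin F (⟨y, hyV⟩ : V) m = 0 := h1
  obtain ⟨c, hc⟩ := (IsLocalizedModule.eq_zero_iff (hV.primeIdealOf ⟨y, hyV⟩).asIdeal.primeCompl
    (germLin F (⟨y, hyV⟩ : V))).1 h2
  refine ⟨c.1, c.2, ?_⟩
  rw [← hc]
  rfl


/-- injectivity of `r ↦ r • germ s` at points where a killer of the annihilator is invertible. -/
theorem smul_germ_eq_zero_imp (F : X.Modules) [F.IsQuasicoherent] {V : X.Opens}
    (hV : IsAffineOpen V) (s : Γ(F, V)) (f : Γ(X, V))
    (hf : ∀ a : Γ(X, V), a • s = 0 → f * a = 0) (y : X) (hyV : y ∈ V)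
    (hfy : f ∉ (hV.primeIdealOf ⟨y, hyV⟩).asIdeal)
    (d : X.presheaf.stalk y) (hd : d • F.presheaf.germ V y hyV s = 0) : d = 0 := by
  letI := X.presheaf.algebra_section_stalk ⟨y, hyV⟩
  haveI := hV.isLocalization_stalk ⟨y, hyV⟩
  obtain ⟨⟨a, ⟨t, ht⟩⟩, hat⟩ :=
    IsLocalization.surj (hV.primeIdealOf ⟨y, hyV⟩).asIdeal.primeCompl d
  have hat' : d * X.presheaf.germ V y hyV t = X.presheaf.germ V y hyV a := hat
  have htu : IsUnit (X.presheaf.germ V y hyV t) :=
    IsLocalization.map_units (X.presheaf.stalk y)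
      (⟨t, ht⟩ : (hV.primeIdealOf ⟨y, hyV⟩).asIdeal.primeCompl)
  have h1 : F.presheaf.germ V y hyV (a • s) = 0 := by
    rw [Groth.Agent.Helper13.QCoh.germ_smul, ← hat', mul_comm, mul_smul, hd, smul_zero]
  have h2' : ∃ t' : Γ(X, V), t' ∉ (hV.primeIdealOf ⟨y, hyV⟩).asIdeal ∧ (t' * a) • s = 0 := by
    obtain ⟨t', ht', h⟩ := exists_kill_of_germ_eq_zero F hV (a • s) y hyV h1
    exact ⟨t', ht', by rw [mul_smul]; exact h⟩
  obtain ⟨t', ht', h3⟩ := h2'
  have h4 : f * (t' * a) = 0 := hf _ h3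
  have hfu : IsUnit (X.presheaf.germ V y hyV f) :=
    IsLocalization.map_units (X.presheaf.stalk y)
      (⟨f, hfy⟩ : (hV.primeIdealOf ⟨y, hyV⟩).asIdeal.primeCompl)
  have ht'u : IsUnit (X.presheaf.germ V y hyV t') :=
    IsLocalization.map_units (X.presheaf.stalk y)
      (⟨t', ht'⟩ : (hV.primeIdealOf ⟨y, hyV⟩).asIdeal.primeCompl)
  have h5 : X.presheaf.germ V y hyV f * (X.presheaf.germ V y hyV t' *
      X.presheaf.germ V y hyV a) = 0 := by
    rw [← map_mul, ← map_mul, h4, map_zero]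
  have h6 : X.presheaf.germ V y hyV a = 0 :=
    (ht'u.mul_right_eq_zero).1 ((hfu.mul_right_eq_zero).1 h5)
  rw [h6] at hat'
  exact (htu.mul_left_eq_zero).1 hat'


/-- a free generator of the stalk at `x` of a coherent module on a locally Noetherian scheme
spreads out to a neighbourhood. -/
theorem exists_isGen_near [IsLocallyNoetherian X] (F : X.Modules) [F.IsQuasicoherent]
    [SheafOfModules.IsFiniteType (R := X.ringCatSheaf) F] (x : X) (v : F.presheaf.stalk x)
    (hv : Function.Bijective (fun r : X.presheaf.stalk x => r • v)) :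
    ∃ (U' : X.Opens) (_ : x ∈ U') (s : Γ(F, U')), ∀ (y : X) (hy : y ∈ U'), IsGen F s y hy := by
  obtain ⟨U₀, hxU₀, s₀, rfl⟩ := TopCat.Presheaf.exists_germ_eq F.presheaf v
  obtain ⟨V, hV, hxV, hVU₀⟩ := exists_isAffineOpen_mem_and_subset (x := x) (U := U₀) hxU₀
  have hVU : V ≤ U₀ := hVU₀
  obtain ⟨s, hs⟩ : ∃ s : Γ(F, V), s = F.presheaf.map (homOfLE hVU).op s₀ := ⟨_, rfl⟩
  have hgs : F.presheaf.germ V x hxV s = F.presheaf.germ U₀ x hxU₀ s₀ := by
    rw [hs, TopCat.Presheaf.germ_res_apply]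
  rw [← hgs] at hv
  obtain ⟨U₁, hxU₁, hU₁V, hsurj⟩ := surjective_smul_germ_near F s x hxV hv.2
  haveI : IsNoetherianRing Γ(X, V) := IsLocallyNoetherian.component_noetherian ⟨V, hV⟩
  let I : Ideal Γ(X, V) := LinearMap.ker (LinearMap.toSpanSingleton Γ(X, V) Γ(F, V) s)
  have hI : ∀ a : Γ(X, V), a ∈ I ↔ a • s = 0 := fun a => by
    simp only [I, LinearMap.mem_ker, LinearMap.toSpanSingleton_apply]
  -- at `x`
  have hx : ∀ a ∈ I, ∃ t : Γ(X, V), t ∉ (hV.primeIdealOf ⟨x, hxV⟩).asIdeal ∧ t * a = 0 := by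
    intro a ha
    have h1 : X.presheaf.germ V x hxV a • F.presheaf.germ V x hxV s = 0 := by
      rw [← Groth.Agent.Helper13.QCoh.germ_smul, (hI a).1 ha, map_zero]
    have h2 : X.presheaf.germ V x hxV a = 0 := by
      apply hv.1
      dsimp only
      rw [h1, zero_smul]
    letI := X.presheaf.algebra_section_stalk ⟨x, hxV⟩
    haveI := hV.isLocalization_stalk ⟨x, hxV⟩
    have h3 : algebraMap Γ(X, V) (X.presheaf.stalk x) a = 0 := h2
    rw [IsLocalization.map_eq_zero_iff (hV.primeIdealOf ⟨x, hxV⟩).asIdeal.primeCompl] at h3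
    obtain ⟨⟨t, ht⟩, hta⟩ := h3
    exact ⟨t, ht, hta⟩
  obtain ⟨f, hf, hfI⟩ := exists_kill_ideal (hV.primeIdealOf ⟨x, hxV⟩).asIdeal I
    ((isNoetherianRing_iff_ideal_fg _).1 inferInstance I) hx
  have hxf : x ∈ X.basicOpen f := (mem_basicOpen_iff_notMem hV x hxV f).2 hf
  have hU'V : U₁ ⊓ X.basicOpen f ≤ V := inf_le_left.trans hU₁V
  refine ⟨U₁ ⊓ X.basicOpen f, ⟨hxU₁, hxf⟩, F.presheaf.map (homOfLE hU'V).op s, fun y hy => ?_⟩
  rw [isGen_res]
  have hyV : y ∈ V := hU'V hy
  refine ⟨?_, hsurj y hy.1⟩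
  have hfy : f ∉ (hV.primeIdealOf ⟨y, hyV⟩).asIdeal := (mem_basicOpen_iff_notMem hV y hyV f).1 hy.2
  intro r r' h
  dsimp only at h
  have h2 : (r - r') • F.presheaf.germ V y hyV s = 0 := by rw [sub_smul, h, sub_self]
  exact sub_eq_zero.1 (smul_germ_eq_zero_imp F hV s f (fun a ha => hfI a ((hI a).2 ha)) y hyV hfy _ h2)

/-- **local freeness at a boundary point with factorial local ring.** -/
theorem exists_isGen_of_ufd [IsLocallyNoetherian X] (G : X.Modules) (hG : Coh.IsCoh G)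
    (U : X.Opens) (hinv : PicF.IsInvertible (G.restrict U.ι)) (x : X)
    (hx : x ∈ closure (U : Set X)) [IsDomain (X.presheaf.stalk x)]
    [UniqueFactorizationMonoid (X.presheaf.stalk x)] (hrefl : IsReflexiveAt G x) :
    ∃ (U' : X.Opens) (_ : x ∈ U') (s : Γ(G, U')),
      ∀ (y : X) (hy : y ∈ U'), IsGen G s y hy := by
  haveI : G.IsQuasicoherent := hG.1
  haveI : SheafOfModules.IsFiniteType (R := X.ringCatSheaf) G := hG.2
  haveI := isFinitePresentation_of_isCoh hG
  obtain ⟨ξ, hξU, hξx⟩ := exists_generization_mem X U x hx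
  have hgen : ∃ (W : X.Opens) (hξ : ξ ∈ W) (s₀ : Γ(G, W)), IsGen G s₀ ξ hξ := by
    obtain ⟨U', hU', s', hs'⟩ :=
      (isInvertible_iff_exists_isGen (G.restrict U.ι)).1 hinv ⟨ξ, hξU⟩
    let s₀ : Γ(G, U.ι ''ᵁ U') := s'
    refine ⟨U.ι ''ᵁ U', ⟨⟨ξ, hξU⟩, hU', rfl⟩, s₀, ?_⟩
    exact (isGen_restrict_iff U.ι G (U := U') s₀ ⟨ξ, hξU⟩ hU').1 (hs' _ hU')
  haveI : Module.Finite (X.presheaf.stalk x) (G.presheaf.stalk x) :=
    finite_stalk_of_isFiniteType G x
  haveI : Module.IsReflexive (X.presheaf.stalk x) (G.presheaf.stalk x) := hrefl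
  haveI : Nontrivial (G.presheaf.stalk x) := nontrivial_at G x ξ hξx hgen
  obtain ⟨v, hv⟩ := Groth.Agent.Lead.RankOneUFD.exists_generator_of_rank_one
    (G.presheaf.stalk x) (rank_one_at G x ξ hξx hgen)
  exact exists_isGen_near G x v hv

/-- a section generating all stalks over `N` freely trivialises the restriction to `N`. -/
theorem restrict_iso_unit_of_isGen (M : X.Modules) (N : X.Opens) (s : Γ(M, N))
    (hs : ∀ (y : X) (hy : y ∈ N), IsGen M s y hy) :
    Nonempty (M.restrict N.ι ≅ Coh.structureModule (N : Scheme.{u})) := by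
  let s₀ : Γ(M, N.ι ''ᵁ ⊤) := M.presheaf.map (eqToHom (ι_image_top N)).op s
  have hgen : ∀ y : (N : Scheme.{u}), IsGen (M.restrict N.ι) (toRes N.ι M s₀) y trivial := by
    intro y
    rw [isGen_restrict_iff N.ι M (U := ⊤) s₀ y trivial]
    exact (isGen_res M (eqToHom (ι_image_top N)) s (N.ι y) _).2 (hs _ _)
  haveI := isIso_homOfSec (M.restrict N.ι) (toRes N.ι M s₀) hgen
  exact ⟨(asIso (homOfSec (M.restrict N.ι) (toRes N.ι M s₀))).symm⟩

end Groth.Agent.Helper1.PX
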