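import Groth.Agent.Lib.Helper1.PX3
import Groth.Agent.Lib.Helper1.PX4

set_option autoImplicit false
set_option linter.style.haveILetI false
universe u
open CategoryTheory CategoryTheory.Limits AlgebraicGeometry Opposite TopologicalSpace
open RefHull IsLocalRing
open Groth.Agent.Helper13.QCoh Groth.Agent.Helper13.QCohLoc Groth.Agent.Helper13.LocFree
open Groth.Agent.Helper13.FinType Groth.Agent.Helper13.Inv Groth.Agent.Helper13.WeakAss
open Groth.Agent.Lead.HomSh

namespace Groth.Agent.Helper1.PX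

variable {X : Scheme.{u}}

/-- **extension of an invertible module across points with factorial local rings**, given a
coherent module `G` restricting to `L` on `U` and reflexive at the points outside `U`. -/
theorem exists_extension_of_reflexive [IsLocallyNoetherian X] (U : X.Opens)
    (L : (U : Scheme.{u}).Modules) (hL : PicF.IsInvertible L)
    (hufd : ∀ x : X, x ∉ U → UniqueFactorizationMonoid (X.presheaf.stalk x))
    (G : X.Modules) (hG : Coh.IsCoh G) (eG : G.restrict U.ι ≅ L)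
    (hrefl : ∀ x : X, x ∉ U → IsReflexiveAt G x) :
    ∃ L' : X.Modules, PicF.IsInvertible L' ∧ Nonempty (L'.restrict U.ι ≅ L) := by
  classical
  have hinvG : PicF.IsInvertible (G.restrict U.ι) := isInvertible_of_iso eG.symm hL
  have hdom : ∀ x : X, x ∉ U → IsDomain (X.presheaf.stalk x) := by
    intro x hx
    haveI := hufd x hx
    exact { }
  have hopen : IsOpen (closure (U : Set X)) := isOpen_closure_of_isDomain X U hdom
  obtain ⟨X₁, hX₁⟩ : ∃ X₁ : X.Opens, (X₁ : Set X) = closure (U : Set X) := ⟨⟨_, hopen⟩, rfl⟩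
  obtain ⟨X₂, hX₂⟩ : ∃ X₂ : X.Opens, (X₂ : Set X) = (closure (U : Set X))ᶜ :=
    ⟨⟨_, isClosed_closure.isOpen_compl⟩, rfl⟩
  have hmem₁ : ∀ y : X, y ∈ X₁ ↔ y ∈ closure (U : Set X) := fun y => by
    rw [← hX₁]; rfl
  have hmem₂ : ∀ y : X, y ∈ X₂ ↔ y ∉ closure (U : Set X) := fun y => by
    rw [← Set.mem_compl_iff, ← hX₂]; rfl
  have hd : Disjoint X₁ X₂ := by
    rw [disjoint_iff]
    ext y
    simp only [TopologicalSpace.Opens.coe_inf, Set.mem_inter_iff, SetLike.mem_coe,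
      TopologicalSpace.Opens.coe_bot, Set.mem_empty_iff_false, iff_false, not_and]
    intro h1 h2
    exact (hmem₂ y).1 h2 ((hmem₁ y).1 h1)
  have hUX₁ : U ≤ X₁ := fun y hy => (hmem₁ y).2 (subset_closure hy)
  have hloc : ∀ x : X, x ∈ X₁ → ∃ N : X.Opens, x ∈ N ∧ N ≤ X₁ ∧
      Nonempty (G.restrict N.ι ≅ Coh.structureModule (N : Scheme.{u})) := by
    intro x hx
    have hgen : ∃ (U' : X.Opens) (_ : x ∈ U') (s : Γ(G, U')),
        ∀ (y : X) (hy : y ∈ U'), IsGen G s y hy := by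
      by_cases hxU : x ∈ U
      · obtain ⟨U', hU', s', hs'⟩ :=
          (isInvertible_iff_exists_isGen (G.restrict U.ι)).1 hinvG ⟨x, hxU⟩
        let s₀ : Γ(G, U.ι ''ᵁ U') := s'
        refine ⟨U.ι ''ᵁ U', ⟨⟨x, hxU⟩, hU', rfl⟩, s₀, fun y hy => ?_⟩
        obtain ⟨y', hy', rfl⟩ := hy
        exact (isGen_restrict_iff U.ι G (U := U') s₀ y' hy').1 (hs' _ hy')
      · haveI := hufd x hxU
        haveI := hdom x hxU
        exact exists_isGen_of_ufd G hG U hinvG x ((hmem₁ x).1 hx) (hrefl x hxU)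
    obtain ⟨U', hxU', s, hs⟩ := hgen
    refine ⟨U' ⊓ X₁, ⟨hxU', hx⟩, inf_le_right, ?_⟩
    refine restrict_iso_unit_of_isGen G (U' ⊓ X₁)
      (G.presheaf.map (homOfLE inf_le_left).op s) (fun y hy => ?_)
    rw [isGen_res]
    exact hs y hy.1
  refine ⟨glue X₁ X₂ G, ?_, ?_⟩
  · intro y
    by_cases hy : y ∈ X₁
    · obtain ⟨N, hyN, hNX₁, ⟨eN⟩⟩ := hloc y hy
      obtain ⟨e1⟩ := glue_restrict_left hd G hNX₁
      exact ⟨N, hyN, ⟨e1 ≪≫ eN⟩⟩
    · have hy₂ : y ∈ X₂ := (hmem₂ y).2 (fun h => hy ((hmem₁ y).2 h))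
      obtain ⟨e2⟩ := glue_restrict_right hd G (le_refl X₂)
      exact ⟨X₂, hy₂, ⟨e2⟩⟩
  · obtain ⟨e1⟩ := glue_restrict_left hd G hUX₁
    exact ⟨e1 ≪≫ eG⟩

end Groth.Agent.Helper1.PX
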