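import Groth.Agent.Lib.Helper1.PX5

set_option autoImplicit false
set_option linter.style.haveILetI false
universe u
open CategoryTheory CategoryTheory.Limits AlgebraicGeometry Opposite TopologicalSpace
open RefHull IsLocalRing
open Groth.Agent.Helper13.QCoh Groth.Agent.Helper13.QCohLoc Groth.Agent.Helper13.LocFree
open Groth.Agent.Helper13.FinType Groth.Agent.Helper13.Inv Groth.Agent.Helper13.WeakAss
open Groth.Agent.Lead.HomSh

namespace Groth.Agent.Helper1.PX

variable {X : Scheme.{u}}

/-- an invertible module on an open of a locally Noetherian scheme is the restriction of the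
double dual of a coherent module. -/
theorem exists_ddual_extension [IsLocallyNoetherian X] (U : X.Opens)
    (L : (U : Scheme.{u}).Modules) (hL : PicF.IsInvertible L) :
    ∃ F : X.Modules, Coh.IsCoh F ∧ Coh.IsCoh (ddual F) ∧
      Nonempty ((ddual F).restrict U.ι ≅ L) := by
  have hX : ∀ x : X, ∃ U : X.Opens, x ∈ U ∧ TopologicalSpace.NoetherianSpace (U : Set X) := by
    intro x
    obtain ⟨_, ⟨V, hV, rfl⟩, hxV, -⟩ :=
      X.isBasis_affineOpens.exists_subset_of_mem_open (Set.mem_univ x) isOpen_univ
    haveI : IsNoetherianRing Γ(X, V) := IsLocallyNoetherian.component_noetherian ⟨V, hV⟩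
    exact ⟨V, hxV, noetherianSpace_of_isAffineOpen V hV⟩
  haveI : Coh.IsQCoh L := isQuasicoherent_of_isInvertible L hL
  have hft : CohB1.IsFT L := Groth.Agent.Helper13.GlobGen.isFiniteType_of_isInvertible L hL
  obtain ⟨F, hFq, hFft, ⟨e⟩⟩ := Groth.Agent.S2252.result hX U L hft
  have hF : Coh.IsCoh F := ⟨hFq, hFft⟩
  have hO : Coh.IsCoh (Coh.structureModule X) := isCoh_structureModule
  have hD : Coh.IsCoh (dual F) := isCoh_homSh hF hO
  have hG : Coh.IsCoh (ddual F) := isCoh_homSh hD hO
  haveI := isFinitePresentation_of_isCoh hF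
  haveI := isFinitePresentation_of_isCoh hD
  have hinvF : PicF.IsInvertible (F.restrict U.ι) := isInvertible_of_iso e.symm hL
  have hbij : ∀ x : X, x ∈ U → Function.Bijective (stalkMap (bidualMap F) x) := by
    intro x hx
    exact (isReflexiveAt_iff_bijective F x).1
      (Groth.Agent.Lead.PicPunct.isReflexiveAt_of_isInvertible_restrict F U hinvF x hx)
  haveI hiso : IsIso ((Scheme.Modules.restrictFunctor U.ι).map (bidualMap F)) :=
    Groth.Agent.Lead.IsoCodim.isIso_restrict_of_bijective (bidualMap F) U hbij
  exact ⟨F, hF, hG,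
    ⟨(asIso ((Scheme.Modules.restrictFunctor U.ι).map (bidualMap F))).symm ≪≫ e⟩⟩

/-- **S0234**: on a locally Noetherian scheme, an invertible module on an open `U` extends to an
invertible module on `X` when the local rings at the points outside `U` are factorial. -/
theorem exists_invertible_extension_of_ufd (X : Scheme.{u}) [IsLocallyNoetherian X] (U : X.Opens)
    (L : (U : Scheme.{u}).Modules) (hL : PicF.IsInvertible L)
    (hufd : ∀ x : X, x ∉ U → UniqueFactorizationMonoid (X.presheaf.stalk x)) :
    ∃ L' : X.Modules, PicF.IsInvertible L' ∧ Nonempty (L'.restrict U.ι ≅ L) := by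
  obtain ⟨F, hF, hG, ⟨eG⟩⟩ := exists_ddual_extension U L hL
  refine exists_extension_of_reflexive U L hL hufd (ddual F) hG eG (fun x hx => ?_)
  haveI := hufd x hx
  haveI : IsDomain (X.presheaf.stalk x) := { }
  exact isReflexiveAt_ddual F hF x

end Groth.Agent.Helper1.PX
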