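import Mathlib

/-!
# Finiteness conditions via `M ⊗ ∏ Qᵢ → ∏ (M ⊗ Qᵢ)` (Stacks 059K)
-/

set_option autoImplicit false

namespace Groth.Agent.Helper1.PiTensor

open TensorProduct

universe u

variable {R : Type u} [CommRing R] {M : Type u} [AddCommGroup M] [Module R M]

/-- every tensor is a combination of fixed generators -/
theorem exists_sum_tmul_of_span {Q : Type*} [AddCommGroup Q] [Module R Q] {n : ℕ} (m : Fin n → M)
    (hm : Submodule.span R (Set.range m) = ⊤) (z : M ⊗[R] Q) :
    ∃ q : Fin n → Q, z = ∑ a, m a ⊗ₜ[R] q a := by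
  induction z using TensorProduct.induction_on with
  | zero => exact ⟨0, by simp⟩
  | tmul x y =>
    have hx : x ∈ Submodule.span R (Set.range m) := hm ▸ Submodule.mem_top
    obtain ⟨c, rfl⟩ := (Submodule.mem_span_range_iff_exists_fun R).mp hx
    refine ⟨fun a => c a • y, ?_⟩
    rw [TensorProduct.sum_tmul]
    exact Finset.sum_congr rfl fun a _ => by rw [TensorProduct.smul_tmul]
  | add z w hz hw =>
    obtain ⟨q, rfl⟩ := hz
    obtain ⟨q', rfl⟩ := hw
    exact ⟨q + q', by simp [TensorProduct.tmul_add, Finset.sum_add_distrib]⟩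

theorem piRightHom_surjective_of_finite [Module.Finite R M] (ι : Type*) (Q : ι → Type*)
    [∀ i, AddCommGroup (Q i)] [∀ i, Module R (Q i)] :
    Function.Surjective (TensorProduct.piRightHom R R M Q) := by
  obtain ⟨n, m, hm⟩ := Module.Finite.exists_fin (R := R) (M := M)
  intro z
  choose q hq using fun i => exists_sum_tmul_of_span m hm (z i)
  refine ⟨∑ a, m a ⊗ₜ[R] (fun i => q i a), ?_⟩
  funext i
  rw [map_sum, Finset.sum_apply, hq i]
  exact Finset.sum_congr rfl fun a _ => by rw [TensorProduct.piRightHom_tmul]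

theorem finite_of_piRightHom_surjective
    (h : Function.Surjective (TensorProduct.piRightHom R R M (fun _ : M => R))) :
    Module.Finite R M := by
  obtain ⟨w, hw⟩ := h (fun m => m ⊗ₜ[R] (1 : R))
  have key : ∀ w : M ⊗[R] (M → R), ∃ N : Submodule R M, N.FG ∧
      ∀ m, TensorProduct.rid R M (TensorProduct.piRightHom R R M (fun _ : M => R) w m) ∈ N := by
    intro w
    induction w using TensorProduct.induction_on with
    | zero => exact ⟨⊥, Submodule.fg_bot, fun m => by simp⟩
    | tmul x f =>
      refine ⟨Submodule.span R {x}, Submodule.fg_span_singleton x, fun m => ?_⟩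
      rw [TensorProduct.piRightHom_tmul, TensorProduct.rid_tmul]
      exact Submodule.smul_mem _ _ (Submodule.mem_span_singleton_self x)
    | add w₁ w₂ h₁ h₂ =>
      obtain ⟨N₁, hN₁, h₁⟩ := h₁
      obtain ⟨N₂, hN₂, h₂⟩ := h₂
      refine ⟨N₁ ⊔ N₂, hN₁.sup hN₂, fun m => ?_⟩
      rw [map_add, Pi.add_apply, map_add]
      exact Submodule.add_mem _ (Submodule.mem_sup_left (h₁ m)) (Submodule.mem_sup_right (h₂ m))
  obtain ⟨N, hN, hmem⟩ := key w
  have hN' : N = ⊤ := by
    rw [eq_top_iff]
    intro m _
    have := hmem m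
    rw [hw, TensorProduct.rid_tmul, one_smul] at this
    exact this
  exact ⟨hN' ▸ hN⟩

theorem finite_iff_piRightHom_surjective :
    Module.Finite R M ↔ ∀ (ι : Type u) (Q : ι → Type u) [∀ i, AddCommGroup (Q i)]
      [∀ i, Module R (Q i)], Function.Surjective (TensorProduct.piRightHom R R M Q) :=
  ⟨fun _ ι Q _ _ => piRightHom_surjective_of_finite ι Q,
    fun h => finite_of_piRightHom_surjective (h M (fun _ => R))⟩

/-- relations among generators: if `∑ mₐ ⊗ yₐ = 0`, then `y` is a combination of the generating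
relations `k`. -/
theorem exists_of_sum_tmul_eq_zero {Q : Type*} [AddCommGroup Q] [Module R Q] {n t : ℕ}
    (m : Fin n → M) (hm : Submodule.span R (Set.range m) = ⊤) (k : Fin t → Fin n → R)
    (hk : ∀ c : Fin n → R, ∑ a, c a • m a = 0 → c ∈ Submodule.span R (Set.range k))
    (y : Fin n → Q) (hy : ∑ a, m a ⊗ₜ[R] y a = 0) :
    ∃ p : Fin t → Q, ∀ a, y a = ∑ l, k l a • p l := by
  obtain ⟨J, c, y', h1, h2⟩ := TensorProduct.vanishesTrivially_of_sum_tmul_eq_zero R hm hy
  have h3 : ∀ j, ∃ G : Fin t → R, ∀ a, c a j = ∑ l, G l * k l a := by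
    intro j
    have := hk (fun a => c a j) (h2 j)
    obtain ⟨G, hG⟩ := (Submodule.mem_span_range_iff_exists_fun R).mp this
    refine ⟨G, fun a => ?_⟩
    have := congrFun hG a
    rw [Finset.sum_apply] at this
    simp only [Pi.smul_apply, smul_eq_mul] at this
    exact this.symm
  choose G hG using h3
  refine ⟨fun l => ∑ j, G j l • y' j, fun a => ?_⟩
  rw [h1 a]
  simp only [Finset.smul_sum, smul_smul]
  rw [Finset.sum_comm]
  refine Finset.sum_congr rfl fun j _ => ?_
  rw [hG j a, Finset.sum_smul]
  exact Finset.sum_congr rfl fun l _ => by rw [mul_comm]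

theorem piRightHom_injective_of_finitePresentation [Module.FinitePresentation R M] (ι : Type*)
    (Q : ι → Type*) [∀ i, AddCommGroup (Q i)] [∀ i, Module R (Q i)] :
    Function.Injective (TensorProduct.piRightHom R R M Q) := by
  obtain ⟨n, m, hm⟩ := Module.Finite.exists_fin (R := R) (M := M)
  let g : (Fin n → R) →ₗ[R] M := Fintype.linearCombination R m
  have hg : Function.Surjective g := by
    rw [← LinearMap.range_eq_top, Fintype.range_linearCombination, hm]
  obtain ⟨t, k, hk⟩ := Submodule.fg_iff_exists_fin_generating_family.mp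
    (Module.FinitePresentation.fg_ker g hg)
  have hk' : ∀ c : Fin n → R, ∑ a, c a • m a = 0 → c ∈ Submodule.span R (Set.range k) := by
    intro c hc
    rw [hk, LinearMap.mem_ker]
    exact (Fintype.linearCombination_apply R m c).trans hc
  have hk0 : ∀ l, ∑ a, k l a • m a = 0 := by
    intro l
    have : k l ∈ LinearMap.ker g := by
      rw [← hk]; exact Submodule.subset_span (Set.mem_range_self l)
    rw [LinearMap.mem_ker] at this
    exact (Fintype.linearCombination_apply R m (k l)).symm.trans this
  rw [injective_iff_map_eq_zero]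
  intro w hw
  obtain ⟨q, rfl⟩ := exists_sum_tmul_of_span m hm w
  have h1 : ∀ i, ∑ a, m a ⊗ₜ[R] q a i = 0 := by
    intro i
    have := congrFun hw i
    rw [map_sum, Finset.sum_apply, Pi.zero_apply] at this
    rw [← this]
    exact Finset.sum_congr rfl fun a _ => by rw [TensorProduct.piRightHom_tmul]
  choose p hp using fun i => exists_of_sum_tmul_eq_zero m hm k hk' (fun a => q a i) (h1 i)
  have h2 : ∀ a, q a = ∑ l, k l a • (fun i => p i l) := by
    intro a
    funext i
    rw [Finset.sum_apply]
    exact hp i a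
  calc ∑ a, m a ⊗ₜ[R] q a = ∑ a, ∑ l, (k l a • m a) ⊗ₜ[R] (fun i => p i l) := by
        refine Finset.sum_congr rfl fun a _ => ?_
        rw [h2 a, TensorProduct.tmul_sum]
        exact Finset.sum_congr rfl fun l _ => by rw [TensorProduct.tmul_smul, TensorProduct.smul_tmul']
    _ = ∑ l, (∑ a, k l a • m a) ⊗ₜ[R] (fun i => p i l) := by
        rw [Finset.sum_comm]
        exact Finset.sum_congr rfl fun l _ => by rw [TensorProduct.sum_tmul]
    _ = 0 := by
        refine Finset.sum_eq_zero fun l _ => ?_
        rw [hk0 l, TensorProduct.zero_tmul]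

theorem finitePresentation_of_piRightHom_bijective
    (h : ∀ (ι : Type u) (Q : ι → Type u) [∀ i, AddCommGroup (Q i)]
      [∀ i, Module R (Q i)], Function.Bijective (TensorProduct.piRightHom R R M Q)) :
    Module.FinitePresentation R M := by
  have hfin : Module.Finite R M := finite_of_piRightHom_surjective (h M (fun _ => R)).2
  obtain ⟨n, m, hm⟩ := Module.Finite.exists_fin (R := R) (M := M)
  let g : (Fin n → R) →ₗ[R] M := Fintype.linearCombination R m
  have hg : Function.Surjective g := by
    rw [← LinearMap.range_eq_top, Fintype.range_linearCombination, hm]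
  have hgapp : ∀ c : Fin n → R, g c = ∑ a, c a • m a := Fintype.linearCombination_apply R m
  refine Module.finitePresentation_of_surjective g hg ?_
  -- the kernel is finitely generated
  let K := LinearMap.ker g
  let F : Fin n → (K → R) := fun a κ => (κ : Fin n → R) a
  have hw : ∑ a, m a ⊗ₜ[R] F a = 0 := by
    apply (h K (fun _ => R)).1
    rw [map_zero, map_sum]
    funext κ
    rw [Finset.sum_apply, Pi.zero_apply]
    have h1 : ∀ a, TensorProduct.piRightHom R R M (fun _ : K => R) (m a ⊗ₜ[R] F a) κ
        = ((κ : Fin n → R) a • m a) ⊗ₜ[R] (1 : R) := by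
      intro a
      rw [TensorProduct.piRightHom_tmul, TensorProduct.smul_tmul, smul_eq_mul, mul_one]
    rw [Finset.sum_congr rfl (fun a _ => h1 a), ← TensorProduct.sum_tmul, ← hgapp]
    have : g (κ : Fin n → R) = 0 := LinearMap.mem_ker.mp κ.2
    rw [this, TensorProduct.zero_tmul]
  obtain ⟨J, c, y, h1, h2⟩ := TensorProduct.vanishesTrivially_of_sum_tmul_eq_zero R hm hw
  have hcol : ∀ j, (fun a => c a j) ∈ K := fun j => by
    show (fun a => c a j) ∈ LinearMap.ker g
    rw [LinearMap.mem_ker, hgapp]
    exact h2 j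
  have hK : K = Submodule.span R (Set.range fun j : Fin J => (fun a => c a j)) := by
    apply le_antisymm
    · intro κ hκ
      have hκ' : κ = ∑ j, y j ⟨κ, hκ⟩ • (fun a => c a j) := by
        funext a
        have := congrFun (h1 a) ⟨κ, hκ⟩
        rw [Finset.sum_apply] at this
        simp only [Pi.smul_apply, smul_eq_mul] at this
        rw [Finset.sum_apply]
        simp only [Pi.smul_apply, smul_eq_mul]
        rw [show κ a = F a ⟨κ, hκ⟩ from rfl, this]
        exact Finset.sum_congr rfl fun j _ => mul_comm _ _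
      rw [hκ']
      exact Submodule.sum_mem _ fun j _ =>
        Submodule.smul_mem _ _ (Submodule.subset_span (Set.mem_range_self j))
    · rw [Submodule.span_le]
      rintro _ ⟨j, rfl⟩
      exact hcol j
  show K.FG
  rw [hK]
  exact Submodule.fg_span (Set.finite_range _)

theorem finitePresentation_iff_piRightHom_bijective :
    Module.FinitePresentation R M ↔ ∀ (ι : Type u) (Q : ι → Type u) [∀ i, AddCommGroup (Q i)]
      [∀ i, Module R (Q i)], Function.Bijective (TensorProduct.piRightHom R R M Q) :=
  ⟨fun _ ι Q _ _ => ⟨piRightHom_injective_of_finitePresentation ι Q,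
      piRightHom_surjective_of_finite ι Q⟩,
    finitePresentation_of_piRightHom_bijective⟩

end Groth.Agent.Helper1.PiTensor
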