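import Mathlib
import Groth.Agent.Lib.Helper1.FP11

/-!
# Condition (A) for separated locally quasi-finite morphisms
-/

set_option autoImplicit false
set_option linter.unusedSectionVars false
set_option linter.style.haveILetI false
open CategoryTheory CategoryTheory.Limits AlgebraicGeometry Opposite
universe u

namespace Groth.Agent.Helper1.QF

open Groth.Agent.Helper1.FP

theorem propA_of_separated_lqf {X Y : Scheme.{u}} (f : X ⟶ Y) [IsSeparated f]
    [LocallyQuasiFinite f] [LocallyOfFiniteType f] : BigSite.PropA f := by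
  intro U gU _ u
  let x : X := gU.base u
  have hx : f.QuasiFiniteAt x := f.quasiFiniteAt x
  obtain ⟨V₀, g, hg, hs, Vc, Wc, v, hcompl, hfin, hv⟩ :=
    exists_etale_isCompl_of_quasiFiniteAt f (rfl : f.base x = f.base x) hx
  let φ : Vc.toScheme ⟶ V₀ := Vc.ι ≫ pullback.snd f g
  haveI : IsFinite φ := hfin
  haveI : IsIntegralHom φ := inferInstance
  let a : Vc.toScheme ⟶ X := Vc.ι ≫ pullback.fst f g
  let gU' : pullback gU a ⟶ Vc.toScheme := pullback.snd gU a
  haveI : Etale gU' := inferInstanceAs (Etale (pullback.snd gU a))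
  have hxa : gU.base u = a.base v := hv.symm
  obtain ⟨u', hu'1, hu'2⟩ := Scheme.Pullback.exists_preimage_pullback (f := gU) (g := a) u v hxa
  obtain ⟨V₁, v₁, hv₁, W, hWcl, h, hh, w, hw⟩ := propA_of_integral φ (pullback gU a) gU' u'
  haveI : Etale v₁ := hv₁
  haveI : Etale g := hg
  have hcond : a ≫ f = φ ≫ g := by
    show (Vc.ι ≫ pullback.fst f g) ≫ f = (Vc.ι ≫ pullback.snd f g) ≫ g
    rw [Category.assoc, Category.assoc, pullback.condition]
  let j : pullback φ v₁ ⟶ pullback f (v₁ ≫ g) :=
    pullback.lift (pullback.fst φ v₁ ≫ a) (pullback.snd φ v₁) (by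
      rw [Category.assoc, hcond, ← Category.assoc, pullback.condition, Category.assoc])
  have hj1 : j ≫ pullback.fst f (v₁ ≫ g) = pullback.fst φ v₁ ≫ a := pullback.lift_fst _ _ _
  have hj2 : j ≫ pullback.snd f (v₁ ≫ g) = pullback.snd φ v₁ := pullback.lift_snd _ _ _
  let m : pullback f (v₁ ≫ g) ⟶ pullback f g :=
    pullback.map f (v₁ ≫ g) f g (𝟙 X) v₁ (𝟙 Y) (by simp) (by simp)
  have hm1 : m ≫ pullback.fst f g = pullback.fst f (v₁ ≫ g) :=
    (pullback.lift_fst _ _ _).trans (Category.comp_id _)
  have hm2 : m ≫ pullback.snd f g = pullback.snd f (v₁ ≫ g) ≫ v₁ := pullback.lift_snd _ _ _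
  -- the right square
  have sqR : IsPullback m (pullback.snd f (v₁ ≫ g)) (pullback.snd f g) v₁ := by
    have outer : IsPullback (m ≫ pullback.fst f g) (pullback.snd f (v₁ ≫ g)) f (v₁ ≫ g) := by
      rw [hm1]
      exact IsPullback.of_hasPullback f (v₁ ≫ g)
    exact IsPullback.of_right outer hm2 (IsPullback.of_hasPullback f g)
  -- the left square
  have hjm : j ≫ m = pullback.fst φ v₁ ≫ Vc.ι := by
    apply pullback.hom_ext
    · rw [Category.assoc, hm1, hj1, Category.assoc]
    · rw [Category.assoc, hm2, ← Category.assoc, hj2]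
      exact (pullback.condition (f := φ) (g := v₁)).symm.trans (Category.assoc _ _ _).symm
  have sqL : IsPullback (pullback.fst φ v₁) j Vc.ι m := by
    have outer : IsPullback (pullback.fst φ v₁) (j ≫ pullback.snd f (v₁ ≫ g))
        (Vc.ι ≫ pullback.snd f g) v₁ := by
      rw [hj2]
      exact IsPullback.of_hasPullback φ v₁
    exact IsPullback.of_bot outer hjm.symm sqR
  haveI : IsOpenImmersion j := MorphismProperty.of_isPullback (P := @IsOpenImmersion) sqL
    inferInstance
  have hVc_closed : IsClosed (Set.range Vc.ι.base) := by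
    rw [Scheme.Opens.range_ι]
    have h1 : (Vc : Set ↥(pullback f g)) = (Wc : Set ↥(pullback f g))ᶜ := by
      ext z
      constructor
      · intro hz hz'
        have : z ∈ Vc ⊓ Wc := ⟨hz, hz'⟩
        rw [hcompl.inf_eq_bot] at this
        exact this
      · intro hz
        have : z ∈ Vc ⊔ Wc := by
          rw [hcompl.sup_eq_top]
          trivial
        rcases TopologicalSpace.Opens.mem_sup.1 this with h2 | h2
        · exact h2
        · exact (hz h2).elim
    rw [h1]
    exact Wc.isOpen.isClosed_compl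
  haveI : IsClosedImmersion Vc.ι := IsClosedImmersion.of_isPreimmersion _ hVc_closed
  haveI : IsClosedImmersion j := MorphismProperty.of_isPullback (P := @IsClosedImmersion) sqL
    inferInstance
  let W' : (pullback f (v₁ ≫ g)).Opens := j ''ᵁ W
  have hW'cl : IsClosed (W' : Set ↥(pullback f (v₁ ≫ g))) :=
    j.isClosedEmbedding.isClosedMap _ hWcl
  let h' : W'.toScheme ⟶ U := (j.isoImage W).inv ≫ h ≫ pullback.fst gU a
  refine ⟨V₁, v₁ ≫ g, inferInstance, W', hW'cl, h', ?_, ?_⟩
  · have e1 : h ≫ pullback.fst gU a ≫ gU = W.ι ≫ j ≫ pullback.fst f (v₁ ≫ g) := by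
      rw [pullback.condition, ← Category.assoc, hh, Category.assoc, hj1]
    calc h' ≫ gU = (j.isoImage W).inv ≫ (h ≫ pullback.fst gU a ≫ gU) := by
          simp only [h', Category.assoc]
      _ = (j.isoImage W).inv ≫ (W.ι ≫ j ≫ pullback.fst f (v₁ ≫ g)) := by rw [e1]
      _ = ((j.isoImage W).inv ≫ W.ι ≫ j) ≫ pullback.fst f (v₁ ≫ g) := by
          simp only [Category.assoc]
      _ = W'.ι ≫ pullback.fst f (v₁ ≫ g) := by rw [Scheme.Hom.isoImage_inv_ι]
  · refine ⟨(j.isoImage W).hom.base w, ?_⟩
    have e2 : ((j.isoImage W).hom ≫ h').base w = (pullback.fst gU a).base (h.base w) := by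
      have : (j.isoImage W).hom ≫ h' = h ≫ pullback.fst gU a := by
        simp only [h', Iso.hom_inv_id_assoc]
      rw [this]
      rfl
    have e3 : ((j.isoImage W).hom ≫ h').base w = h'.base ((j.isoImage W).hom.base w) := rfl
    rw [← e3, e2, hw, hu'1]

end Groth.Agent.Helper1.QF
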