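import Mathlib.RingTheory.RingHom.QuasiFinite
import Mathlib.RingTheory.RingHom.FaithfullyFlat
import Mathlib.RingTheory.Finiteness.Descent
import Mathlib.AlgebraicGeometry.Morphisms.FlatDescent
import Mathlib.AlgebraicGeometry.Morphisms.QuasiFinite

set_option autoImplicit false
set_option linter.style.haveILetI false

/-! # Faithfully flat descent of quasi-finiteness -/

namespace Groth.Agent.Helper1

open TensorProduct

universe u

/-- Quasi-finiteness descends along faithfully flat base change. -/
theorem quasiFinite_of_faithfullyFlat_baseChange {R S T : Type u} [CommRing R] [CommRing S]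
    [CommRing T] [Algebra R S] [Algebra R T] [Module.FaithfullyFlat R S]
    [Algebra.QuasiFinite S (S ⊗[R] T)] : Algebra.QuasiFinite R T := by
  refine ⟨fun P _ ↦ ?_⟩
  obtain ⟨Q, hQ, hQP⟩ := Ideal.exists_isPrime_liesOver_of_faithfullyFlat (B := S) P
  let φ : P.ResidueField →ₐ[R] Q.ResidueField :=
    Ideal.ResidueField.mapₐ P Q (Algebra.ofId R S) hQP.over
  letI : Algebra P.ResidueField Q.ResidueField := φ.toRingHom.toAlgebra
  haveI : IsScalarTower R P.ResidueField Q.ResidueField :=
    IsScalarTower.of_algebraMap_eq fun r ↦ (φ.commutes r).symm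
  have h1 : Module.Finite Q.ResidueField (Q.ResidueField ⊗[S] (S ⊗[R] T)) :=
    Algebra.QuasiFinite.finite_fiber Q
  let e1 : Q.ResidueField ⊗[S] (S ⊗[R] T) ≃ₗ[Q.ResidueField] Q.ResidueField ⊗[R] T :=
    TensorProduct.AlgebraTensorModule.cancelBaseChange R S Q.ResidueField Q.ResidueField T
  let e2 : Q.ResidueField ⊗[P.ResidueField] (P.ResidueField ⊗[R] T) ≃ₗ[Q.ResidueField]
      Q.ResidueField ⊗[R] T :=
    TensorProduct.AlgebraTensorModule.cancelBaseChange R P.ResidueField Q.ResidueField
      Q.ResidueField T
  have h2 : Module.Finite Q.ResidueField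
      (Q.ResidueField ⊗[P.ResidueField] (P.ResidueField ⊗[R] T)) :=
    Module.Finite.equiv (e1.trans e2.symm)
  exact Module.Finite.of_finite_tensorProduct_of_faithfullyFlat Q.ResidueField

open RingHom in
theorem codescendsAlong_quasiFinite :
    CodescendsAlong.{u} QuasiFinite FaithfullyFlat := by
  refine .mk _ QuasiFinite.respectsIso fun R S T _ _ _ _ _ h h' ↦ ?_
  rw [quasiFinite_algebraMap] at h' ⊢
  rw [faithfullyFlat_algebraMap_iff] at h
  exact quasiFinite_of_faithfullyFlat_baseChange (S := S)

open AlgebraicGeometry CategoryTheory in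
/-- Local quasi-finiteness satisfies fpqc descent. -/
theorem locallyQuasiFinite_descendsAlong :
    MorphismProperty.DescendsAlong @LocallyQuasiFinite
      (@Surjective ⊓ @Flat ⊓ @QuasiCompact : MorphismProperty Scheme.{u}) :=
  HasRingHomProperty.descendsAlong_flat codescendsAlong_quasiFinite

end Groth.Agent.Helper1
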