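import Groth.Agent.Lib.Helper1.SH2

/-!
# Reducedness passes to and from the strict henselization
-/

set_option autoImplicit false

namespace Groth.Agent.Helper1.HFlat

open Polynomial IsLocalRing

universe u

theorem isReduced_Loc_single {B : Type u} [CommRing B] [IsLocalRing B] [IsReduced B]
    (p : PUnit.{u + 1} → B[X]) (hp : (p default).Monic) {K : Type u} [Field K] (φ : Q p →+* K)
    (hφ : φ (Ideal.Quotient.mk _ (ev (default : PUnit.{u + 1}) (derivative (p default)))) ≠ 0) :
    IsReduced (Loc p φ) := by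
  constructor
  intro y hy
  obtain ⟨N, hN⟩ := hy
  obtain ⟨a, s, rfl⟩ := IsLocalization.exists_mk'_eq (RingHom.ker φ).primeCompl y
  have hN1 : (IsLocalization.mk' (Loc p φ) a s) ^ (N + 1) = 0 := by rw [pow_succ, hN, zero_mul]
  rw [← IsLocalization.mk'_pow, IsLocalization.mk'_eq_zero_iff] at hN1
  obtain ⟨t, ht⟩ := hN1
  obtain ⟨P, rfl⟩ := Ideal.Quotient.mk_surjective a
  obtain ⟨f, rfl⟩ := ev_default_surjective (Λ := PUnit.{u + 1}) P
  obtain ⟨Pt, hPt⟩ := Ideal.Quotient.mk_surjective (t : Q p)
  obtain ⟨g, rfl⟩ := ev_default_surjective (Λ := PUnit.{u + 1}) Pt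
  have h1 : Ideal.Quotient.mk (relIdeal p)
      (ev (default : PUnit.{u + 1}) ((g * f) ^ (N + 1))) = 0 := by
    rw [map_pow, map_mul, map_pow, map_mul, mul_pow, hPt]
    have hring : ∀ (x y : Q p), x ^ (N + 1) * y = x ^ N * (x * y) := fun x y => by ring
    rw [hring, ht, mul_zero]
  rw [mk_ev_eq_zero_iff] at h1
  have h2 := dvd_derivative_mul_of_dvd_pow_of_isReduced hp h1
  rw [← mk_ev_eq_zero_iff, map_mul, map_mul, map_mul, map_mul, hPt] at h2
  have h3 := congrArg (algebraMap (Q p) (Loc p φ)) h2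
  rw [map_mul, map_mul, map_zero] at h3
  have hD : IsUnit (algebraMap (Q p) (Loc p φ)
      (Ideal.Quotient.mk _ (ev (default : PUnit.{u + 1}) (derivative (p default))))) := by
    apply IsLocalization.map_units (Loc p φ) (⟨_, ?_⟩ : (RingHom.ker φ).primeCompl)
    show _ ∉ RingHom.ker _
    rw [RingHom.mem_ker]
    exact hφ
  have ht' : IsUnit (algebraMap (Q p) (Loc p φ) (t : Q p)) :=
    IsLocalization.map_units (Loc p φ) t
  have h4 : algebraMap (Q p) (Loc p φ)
      (Ideal.Quotient.mk _ (ev (default : PUnit.{u + 1}) f)) = 0 := by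
    have h5 := (hD.mul_right_eq_zero).mp h3
    exact (ht'.mul_right_eq_zero).mp h5
  have h6 := IsLocalization.mk'_spec (Loc p φ)
    (Ideal.Quotient.mk (relIdeal p) (ev (default : PUnit.{u + 1}) f)) s
  rw [h4] at h6
  exact ((IsLocalization.map_units (Loc p φ) s).mul_left_eq_zero).mp h6

theorem sψ_mk_ev {E S : Type u} [CommRing E] [IsLocalRing E] [CommRing S] [IsLocalRing S]
    {φ : E →+* S} {Λ : Type u} (d : Λ → SData φ) (l : Λ) (f : E[X]) :
    sψ d (Ideal.Quotient.mk _ (ev l f)) = residue S ((f.map φ).eval (sval d l)) := by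
  unfold sψ liftQ
  rw [RingHom.comp_apply, Ideal.Quotient.lift_mk, eval₂Hom_ev, Polynomial.eval_map]

theorem isReduced_SExt1 {E S : Type u} [CommRing E] [IsLocalRing E] [CommRing S] [IsLocalRing S]
    {φ : E →+* S} [IsReduced E] (δ : SData φ) : IsReduced (SExt1 δ) := by
  apply isReduced_Loc_single (spoly fun _ : PUnit.{u + 1} => δ)
    (spoly_monic (fun _ : PUnit.{u + 1} => δ) default) (sψ fun _ : PUnit.{u + 1} => δ)
  rw [sψ_mk_ev, ← Polynomial.derivative_map]
  exact (residue_ne_zero_iff_isUnit _).mpr (spoly_isUnit (fun _ : PUnit.{u + 1} => δ) default)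

theorem SGoodMap.isReduced {R S : Type u} [CommRing R] [IsLocalRing R] [CommRing S]
    [HenselianLocalRing S] {ψ : R →+* S} [IsReduced R] {E : LocRing.{u}} {φ : E.A →+* S}
    (hg : SGoodMap ψ E φ) : IsReduced E.A := by
  induction hg with
  | base => exact ‹IsReduced R›
  | step E φ δ h ih =>
    haveI := ih
    exact isReduced_SExt1 δ

theorem isReduced_iff_of_isStrictHenselization (R : Type u) [CommRing R] [IsLocalRing R]
    (S : Type u) [CommRing S] [IsLocalRing S] [Algebra R S] [IsLocalHom (algebraMap R S)]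
    [Hensel.IsStrictHenselization R S] : IsReduced R ↔ IsReduced S := by
  haveI hS : HenselianLocalRing S := Hensel.IsStrictHenselization.henselian (R := R)
  have hψ : IsSHensHom (algebraMap R S) := IsSHensHom.of_isStrictHenselization R S
  constructor
  · intro hR
    constructor
    intro x hx
    obtain ⟨E, φ, g, ⟨e, rfl⟩⟩ := exists_sgood hψ x
    haveI : IsReduced E.A := g.isReduced
    have hinj : Function.Injective φ := (g.isSHensHom hψ).injective
    obtain ⟨N, hN⟩ := hx
    rw [← map_pow, map_eq_zero_iff φ hinj] at hN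
    have he : e = 0 := IsReduced.eq_zero e ⟨N, hN⟩
    rw [he, map_zero]
  · intro hSr
    exact isReduced_of_injective (algebraMap R S) hψ.injective

end Groth.Agent.Helper1.HFlat
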