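import Groth.Agent.Lib.Helper1.SH4
import Groth.Agent.Lib.Lead.Flat6
import Groth.Agent.Lib.Lead.RLR1

/-!
# Depth and discrete valuation rings under (strict) henselization
-/

set_option autoImplicit false

namespace Groth.Agent.Helper1.HFlat

open IsLocalRing TensorProduct

universe u

/-- a flat local homomorphism of Noetherian local rings with `𝔪_R S = 𝔪_S` preserves depth -/
theorem depth_eq_of_flat_of_map_maximalIdeal {R S : Type u} [CommRing R] [CommRing S]
    [IsLocalRing R] [IsLocalRing S] [IsNoetherianRing R] [IsNoetherianRing S] [Algebra R S]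
    [IsLocalHom (algebraMap R S)] [Module.Flat R S]
    (hm : (maximalIdeal R).map (algebraMap R S) = maximalIdeal S) :
    LocCoh.depth S S = LocCoh.depth R R := by
  have h1 := Groth.Agent.Lead.FlatDepth.depth_tensor_eq_add_fibre (R := R) (S := S) R S
  rw [hm] at h1
  have h2 : LocCoh.depth S (S ⊗[R] R) = LocCoh.depth S S :=
    Groth.Agent.Lead.Depth.depth_congr (TensorProduct.AlgebraTensorModule.rid R S S)
  have hco : IsCoatom (maximalIdeal S • (⊤ : Submodule S S)) := by
    have e : maximalIdeal S • (⊤ : Submodule S S) = maximalIdeal S := by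
      rw [Ideal.smul_eq_mul, Ideal.mul_top]
    rw [e]
    exact Ideal.isMaximal_def.mp (maximalIdeal.isMaximal S)
  haveI : IsSimpleModule S (S ⧸ maximalIdeal S • (⊤ : Submodule S S)) :=
    isSimpleModule_iff_isCoatom.mpr hco
  haveI : Nontrivial (S ⧸ maximalIdeal S • (⊤ : Submodule S S)) := IsSimpleModule.nontrivial S _
  have h3 : LocCoh.depth S (S ⧸ maximalIdeal S • (⊤ : Submodule S S)) = 0 := by
    apply Groth.Agent.Lead.FlatDepth.depth_eq_zero_of_isFiniteLength
    rw [← Module.length_ne_top_iff, Module.length_eq_one]
    exact ENat.one_ne_top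
  rw [h2, h3, add_zero] at h1
  exact h1

theorem depth_eq_of_isHenselization (R S : Type u) [CommRing R] [IsLocalRing R]
    [IsNoetherianRing R] [CommRing S] [IsLocalRing S] [Algebra R S] [IsLocalHom (algebraMap R S)]
    [Hensel.IsHenselization R S] : LocCoh.depth S S = LocCoh.depth R R := by
  haveI : IsNoetherianRing S := (isNoetherianRing_iff_of_isHenselization R S).mp inferInstance
  haveI := faithfullyFlat_of_isHenselization R S
  exact depth_eq_of_flat_of_map_maximalIdeal (Hzn.map_maximalIdeal_eq_of_isHenselization R S)

theorem depth_eq_of_isStrictHenselization (R S : Type u) [CommRing R] [IsLocalRing R]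
    [IsNoetherianRing R] [CommRing S] [IsLocalRing S] [Algebra R S] [IsLocalHom (algebraMap R S)]
    [Hensel.IsStrictHenselization R S] : LocCoh.depth S S = LocCoh.depth R R := by
  haveI : IsNoetherianRing S :=
    (isNoetherianRing_iff_of_isStrictHenselization R S).mp inferInstance
  haveI := faithfullyFlat_of_isStrictHenselization R S
  exact depth_eq_of_flat_of_map_maximalIdeal
    (SHzn.map_maximalIdeal_eq_of_isStrictHenselization R S)

/-- a Noetherian local ring is a discrete valuation ring iff it is regular of dimension one -/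
theorem dvr_iff_regular_dim_one (R : Type u) [CommRing R] [IsLocalRing R] [IsNoetherianRing R] :
    (∃ _ : IsDomain R, IsDiscreteValuationRing R) ↔
      (IsRegularLocalRing R ∧ ringKrullDim R = 1) := by
  constructor
  · rintro ⟨hd, hdvr⟩
    exact ⟨inferInstance,
      IsPrincipalIdealRing.ringKrullDim_eq_one R (IsDiscreteValuationRing.not_isField R)⟩
  · rintro ⟨hreg, hdim⟩
    haveI : IsDomain R := Groth.Agent.Lead.RLR.isDomain R
    refine ⟨inferInstance, ?_⟩
    rw [← IsLocalRing.finrank_CotangentSpace_eq_one_iff,
      ← spanFinrank_maximalIdeal_eq_finrank_cotangentSpace]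
    have h1 := (isRegularLocalRing_iff R).mp hreg
    rw [hdim] at h1
    exact_mod_cast h1

theorem dvr_iff_of_isHenselization_of_isStrictHenselization (R S T : Type u)
    [CommRing R] [IsLocalRing R] [IsNoetherianRing R] [CommRing S] [IsLocalRing S] [Algebra R S]
    [IsLocalHom (algebraMap R S)] [Hensel.IsHenselization R S] [CommRing T] [IsLocalRing T]
    [Algebra R T] [IsLocalHom (algebraMap R T)] [Hensel.IsStrictHenselization R T] :
    ((∃ _ : IsDomain R, IsDiscreteValuationRing R) ↔
        (∃ _ : IsDomain S, IsDiscreteValuationRing S)) ∧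
      ((∃ _ : IsDomain R, IsDiscreteValuationRing R) ↔
        (∃ _ : IsDomain T, IsDiscreteValuationRing T)) := by
  haveI : IsNoetherianRing S := (isNoetherianRing_iff_of_isHenselization R S).mp inferInstance
  haveI : IsNoetherianRing T :=
    (isNoetherianRing_iff_of_isStrictHenselization R T).mp inferInstance
  constructor
  · rw [dvr_iff_regular_dim_one R, dvr_iff_regular_dim_one S,
      isRegularLocalRing_iff_of_isHenselization R S, ringKrullDim_eq_of_isHenselization R S]
  · rw [dvr_iff_regular_dim_one R, dvr_iff_regular_dim_one T,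
      isRegularLocalRing_iff_of_isStrictHenselization R T,
      ringKrullDim_eq_of_isStrictHenselization R T]

end Groth.Agent.Helper1.HFlat
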