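import Groth.Agent.Lib.Helper1.SH3

/-!
# The nilradical of a (strict) henselization is extended from the base
-/

set_option autoImplicit false

namespace Groth.Agent.Helper1.HFlat

open Polynomial IsLocalRing

universe u

theorem coeff_modByMonic_mem_nilradical {B : Type u} [CommRing B] {q f : B[X]} (hq : q.Monic)
    {N : ℕ} (h : q ∣ f ^ N) (j : ℕ) : ((derivative q * f) %ₘ q).coeff j ∈ nilradical B := by
  rw [nilradical_eq_sInf, Ideal.mem_sInf]
  intro 𝔭 h𝔭
  haveI : 𝔭.IsPrime := h𝔭
  obtain ⟨χ, hχ⟩ : ∃ χ : B →+* FractionRing (B ⧸ 𝔭),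
      χ = (algebraMap (B ⧸ 𝔭) (FractionRing (B ⧸ 𝔭))).comp (Ideal.Quotient.mk 𝔭) := ⟨_, rfl⟩
  have hqχ : (q.map χ) ≠ 0 := (hq.map χ).ne_zero
  have h1 : q.map χ ∣ (f.map χ) ^ N := by
    rw [← Polynomial.map_pow]
    exact Polynomial.map_dvd χ h
  have h2 := dvd_derivative_mul_of_dvd_pow hqχ h1
  rw [Polynomial.derivative_map, ← Polynomial.map_mul,
    ← Polynomial.modByMonic_eq_zero_iff_dvd (hq.map χ), ← Polynomial.map_modByMonic χ hq] at h2
  have h3 : χ (((derivative q * f) %ₘ q).coeff j) = 0 := by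
    rw [← Polynomial.coeff_map, h2, coeff_zero]
  rw [hχ, RingHom.comp_apply] at h3
  have h4 : Ideal.Quotient.mk 𝔭 (((derivative q * f) %ₘ q).coeff j) = 0 :=
    (IsFractionRing.injective (B ⧸ 𝔭) (FractionRing (B ⧸ 𝔭))) (by rw [map_zero]; exact h3)
  exact Ideal.Quotient.eq_zero_iff_mem.mp h4

theorem mk_ev_mem_map {B : Type u} [CommRing B] {Λ : Type u} (p : Λ → B[X]) (l : Λ)
    (I : Ideal B) (r : B[X]) (hr : ∀ j, r.coeff j ∈ I) :
    Ideal.Quotient.mk (relIdeal p) (ev l r) ∈ I.map (algebraMap B (Q p)) := by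
  rw [r.as_sum_range, map_sum, map_sum]
  apply Ideal.sum_mem
  intro j _
  have e1 : ev l (Polynomial.monomial j (r.coeff j)) =
      algebraMap B (MvPolynomial Λ B) (r.coeff j) * (MvPolynomial.X l) ^ j := by
    unfold ev
    rw [Polynomial.aeval_monomial]
  rw [e1, map_mul]
  apply Ideal.mul_mem_right
  show algebraMap B (Q p) (r.coeff j) ∈ _
  exact Ideal.mem_map_of_mem (algebraMap B (Q p)) (hr j)

theorem map_nilradical_le {A C : Type*} [CommRing A] [CommRing C] (f : A →+* C) :
    (nilradical A).map f ≤ nilradical C := by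
  rw [Ideal.map_le_iff_le_comap]
  intro b hb
  rw [Ideal.mem_comap, mem_nilradical]
  exact IsNilpotent.map (mem_nilradical.mp hb) f

theorem nilradical_Loc_single {B : Type u} [CommRing B] [IsLocalRing B]
    (p : PUnit.{u + 1} → B[X]) (hp : (p default).Monic) {K : Type u} [Field K] (φ : Q p →+* K)
    (hφ : φ (Ideal.Quotient.mk _ (ev (default : PUnit.{u + 1}) (derivative (p default)))) ≠ 0) :
    nilradical (Loc p φ) = (nilradical B).map (algebraMap B (Loc p φ)) := by
  apply le_antisymm _ (map_nilradical_le (A := B) (C := Loc p φ) (algebraMap B (Loc p φ)))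
  intro y hy
  obtain ⟨N, hN⟩ := mem_nilradical.mp hy
  obtain ⟨a, s, rfl⟩ := IsLocalization.exists_mk'_eq (RingHom.ker φ).primeCompl y
  have hN1 : (IsLocalization.mk' (Loc p φ) a s) ^ (N + 1) = 0 := by rw [pow_succ, hN, zero_mul]
  rw [← IsLocalization.mk'_pow, IsLocalization.mk'_eq_zero_iff] at hN1
  obtain ⟨t, ht⟩ := hN1
  obtain ⟨P, rfl⟩ := Ideal.Quotient.mk_surjective a
  obtain ⟨f, rfl⟩ := ev_default_surjective (Λ := PUnit.{u + 1}) P
  obtain ⟨Pt, hPt⟩ := Ideal.Quotient.mk_surjective (t : Q p)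
  obtain ⟨g, rfl⟩ := ev_default_surjective (Λ := PUnit.{u + 1}) Pt
  have h1 : Ideal.Quotient.mk (relIdeal p)
      (ev (default : PUnit.{u + 1}) ((g * f) ^ (N + 1))) = 0 := by
    rw [map_pow, map_mul, map_pow, map_mul, mul_pow, hPt]
    have hring : ∀ (x y : Q p), x ^ (N + 1) * y = x ^ N * (x * y) := fun x y => by ring
    rw [hring, ht, mul_zero]
  rw [mk_ev_eq_zero_iff] at h1
  have hr := coeff_modByMonic_mem_nilradical hp h1
  have h2 : Ideal.Quotient.mk (relIdeal p)
      (ev (default : PUnit.{u + 1}) (derivative (p default) * (g * f))) =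
      Ideal.Quotient.mk (relIdeal p)
        (ev (default : PUnit.{u + 1}) ((derivative (p default) * (g * f)) %ₘ p default)) := by
    conv_lhs => rw [← Polynomial.modByMonic_add_div (derivative (p default) * (g * f)) (p default)]
    rw [map_add, map_add, map_mul, map_mul, (mk_ev_eq_zero_iff p _).mpr dvd_rfl, zero_mul,
      add_zero]
  have h3 := mk_ev_mem_map p default (nilradical B) _ hr
  rw [← h2, map_mul, map_mul, map_mul, map_mul, hPt] at h3
  have h4 := Ideal.mem_map_of_mem (algebraMap (Q p) (Loc p φ)) h3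
  rw [Ideal.map_map, ← IsScalarTower.algebraMap_eq, map_mul, map_mul] at h4
  have hD : IsUnit (algebraMap (Q p) (Loc p φ)
      (Ideal.Quotient.mk _ (ev (default : PUnit.{u + 1}) (derivative (p default))))) := by
    apply IsLocalization.map_units (Loc p φ) (⟨_, ?_⟩ : (RingHom.ker φ).primeCompl)
    show _ ∉ RingHom.ker _
    rw [RingHom.mem_ker]
    exact hφ
  have ht' : IsUnit (algebraMap (Q p) (Loc p φ) (t : Q p)) :=
    IsLocalization.map_units (Loc p φ) t
  have h5 := (Ideal.unit_mul_mem_iff_mem _ ht').mp ((Ideal.unit_mul_mem_iff_mem _ hD).mp h4)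
  have h6 := IsLocalization.mk'_spec (Loc p φ)
    (Ideal.Quotient.mk (relIdeal p) (ev (default : PUnit.{u + 1}) f)) s
  rw [← h6] at h5
  exact (Ideal.mul_unit_mem_iff_mem _ (IsLocalization.map_units (Loc p φ) s)).mp h5

section Good

variable {R S : Type u} [CommRing R] [IsLocalRing R] [CommRing S] [HenselianLocalRing S]
  {ψ : R →+* S}

theorem GoodMap.exists_nilradical {E : LocRing.{u}} {φ : E.A →+* S} (hg : GoodMap ψ E φ) :
    ∃ ι : R →+* E.A, φ.comp ι = ψ ∧ nilradical E.A = (nilradical R).map ι := by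
  induction hg with
  | base => exact ⟨RingHom.id R, RingHom.comp_id _, (Ideal.map_id _).symm⟩
  | step E φ δ h ih =>
    obtain ⟨ι, hι, hnil⟩ := ih
    refine ⟨(algebraMap E.A (Ext1 δ)).comp ι, ?_, ?_⟩
    · rw [← hι]
      ext r
      exact liftDNext_algebraMap _ φ (ι r)
    · rw [← Ideal.map_map, ← hnil]
      apply nilradical_Loc_single (dpoly fun _ : PUnit.{u + 1} => δ)
        (dpoly_monic (fun _ : PUnit.{u + 1} => δ) default) (dφ fun _ : PUnit.{u + 1} => δ)
      rw [dφ_mk_ev]
      exact (residue_ne_zero_iff_isUnit _).mpr δ.2.2.2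

theorem SGoodMap.exists_nilradical {E : LocRing.{u}} {φ : E.A →+* S} (hg : SGoodMap ψ E φ) :
    ∃ ι : R →+* E.A, φ.comp ι = ψ ∧ nilradical E.A = (nilradical R).map ι := by
  induction hg with
  | base => exact ⟨RingHom.id R, RingHom.comp_id _, (Ideal.map_id _).symm⟩
  | step E φ δ h ih =>
    obtain ⟨ι, hι, hnil⟩ := ih
    refine ⟨(algebraMap E.A (SExt1 δ)).comp ι, ?_, ?_⟩
    · rw [← hι]
      ext r
      exact liftSNext_algebraMap _ (ι r)
    · rw [← Ideal.map_map, ← hnil]
      apply nilradical_Loc_single (spoly fun _ : PUnit.{u + 1} => δ)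
        (spoly_monic (fun _ : PUnit.{u + 1} => δ) default) (sψ fun _ : PUnit.{u + 1} => δ)
      rw [sψ_mk_ev, ← Polynomial.derivative_map]
      exact (residue_ne_zero_iff_isUnit _).mpr
        (spoly_isUnit (fun _ : PUnit.{u + 1} => δ) default)

theorem nilradical_map_of_isHensHom (hψ : IsHensHom ψ) :
    (nilradical R).map ψ = nilradical S := by
  haveI := hψ.isLocalHom
  apply le_antisymm (map_nilradical_le _)
  intro x hx
  obtain ⟨E, φ, g, ⟨e, rfl⟩⟩ := exists_good hψ x
  obtain ⟨ι, hι, hnil⟩ := g.exists_nilradical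
  have hinj : Function.Injective φ := (g.isHensHom hψ).injective
  have he : e ∈ nilradical E.A := by
    rw [mem_nilradical] at hx ⊢
    exact (IsNilpotent.map_iff hinj).mp hx
  rw [hnil] at he
  have h1 := Ideal.mem_map_of_mem φ he
  rwa [Ideal.map_map, hι] at h1

theorem nilradical_map_of_isSHensHom (hψ : IsSHensHom ψ) :
    (nilradical R).map ψ = nilradical S := by
  haveI := hψ.isLocalHom
  apply le_antisymm (map_nilradical_le _)
  intro x hx
  obtain ⟨E, φ, g, ⟨e, rfl⟩⟩ := exists_sgood hψ x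
  obtain ⟨ι, hι, hnil⟩ := g.exists_nilradical
  have hinj : Function.Injective φ := (g.isSHensHom hψ).injective
  have he : e ∈ nilradical E.A := by
    rw [mem_nilradical] at hx ⊢
    exact (IsNilpotent.map_iff hinj).mp hx
  rw [hnil] at he
  have h1 := Ideal.mem_map_of_mem φ he
  rwa [Ideal.map_map, hι] at h1

end Good

theorem nilradical_map_of_isHenselization_or (R S : Type u) [CommRing R] [IsLocalRing R]
    [CommRing S] [IsLocalRing S] [Algebra R S] [IsLocalHom (algebraMap R S)]
    (h : Hensel.IsHenselization R S ∨ Hensel.IsStrictHenselization R S) :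
    (nilradical R).map (algebraMap R S) = nilradical S := by
  rcases h with h | h
  · haveI hS : HenselianLocalRing S := Hensel.IsHenselization.henselian (R := R)
    exact nilradical_map_of_isHensHom (IsHensHom.of_isHenselization R S)
  · haveI hS : HenselianLocalRing S := Hensel.IsStrictHenselization.henselian (R := R)
    exact nilradical_map_of_isSHensHom (IsSHensHom.of_isStrictHenselization R S)

end Groth.Agent.Helper1.HFlat
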