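import Groth.Agent.Lib.Helper1.SH7
import Groth.Agent.Lib.Helper3.AssFlat
import Groth.Agent.Lib.Lead.Flat6

/-!
# Associated primes of a (strict) henselization
-/

set_option autoImplicit false

namespace Groth.Agent.Helper1.HFlat

open IsLocalRing TensorProduct Groth.Agent.Helper4.HensINC

universe u

theorem comap_eq_of_mem_associatedPrimes_fibre {R S : Type u} [CommRing R] [CommRing S]
    [Algebra R S] [Module.Flat R S] [IsNoetherianRing S] (p : Ideal R) [p.IsPrime] (P : Ideal S)
    (hP : P ∈ associatedPrimes S (S ⧸ (p.map (algebraMap R S)) • (⊤ : Submodule S S))) :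
    P.comap (algebraMap R S) = p := by
  obtain ⟨hPp, z, hz⟩ := isAssociatedPrime_iff.mp hP
  have hz0 : z ≠ 0 := by
    rintro rfl
    apply hPp.ne_top
    rw [hz, Ideal.eq_top_iff_one, Submodule.mem_colon_singleton, smul_zero]
    exact Submodule.zero_mem _
  apply le_antisymm
  · intro a ha
    by_contra hap
    have ha' : algebraMap R S a ∈ Submodule.colon (⊥ : Submodule S _) {z} := hz ▸ ha
    rw [Submodule.mem_colon_singleton, Submodule.mem_bot] at ha'
    have hreg : IsSMulRegular (R ⧸ p) a := by
      intro x y hxy
      have hxy' : algebraMap R (R ⧸ p) a * x = algebraMap R (R ⧸ p) a * y := by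
        rw [← Algebra.smul_def, ← Algebra.smul_def]
        exact hxy
      refine mul_left_cancel₀ ?_ hxy'
      rw [Ne, Ideal.Quotient.algebraMap_eq, Ideal.Quotient.eq_zero_iff_mem]
      exact hap
    have hreg2 : IsSMulRegular (S ⊗[R] (R ⧸ p)) (algebraMap R S a) :=
      hreg.of_flat_of_isBaseChange (TensorProduct.isBaseChange R (R ⧸ p) S)
    have h0 : Groth.Agent.Lead.FlatDepth.fibreEquiv (S := S) p S z = 0 := by
      apply hreg2
      show algebraMap R S a • _ = algebraMap R S a • 0
      rw [smul_zero, ← map_smul, ha', map_zero]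
    exact hz0 ((LinearEquiv.map_eq_zero_iff _).mp h0)
  · intro a ha
    rw [Ideal.mem_comap, hz, Submodule.mem_colon_singleton, Submodule.mem_bot]
    obtain ⟨s, rfl⟩ := Submodule.Quotient.mk_surjective _ z
    rw [← Submodule.Quotient.mk_smul, Submodule.Quotient.mk_eq_zero]
    exact Submodule.smul_mem_smul (Ideal.mem_map_of_mem _ ha) Submodule.mem_top

theorem mem_associatedPrimes_iff_of_flat_of_INC (R S : Type u) [CommRing R] [CommRing S]
    [Algebra R S] [Module.Flat R S] [IsNoetherianRing R] [IsNoetherianRing S]
    (hinc : INC (algebraMap R S)) (P : Ideal S) [P.IsPrime] :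
    P ∈ associatedPrimes S S ↔ P.comap (algebraMap R S) ∈ associatedPrimes R R := by
  have key := Groth.Agent.Helper3.AssFlat.s2069 (R := R) (S := S) (N := S) (M := R)
  have e : associatedPrimes S (S ⊗[R] R) = associatedPrimes S S :=
    LinearEquiv.AssociatedPrimes.eq (TensorProduct.AlgebraTensorModule.rid R S S)
  rw [e] at key
  constructor
  · intro hP
    rw [key] at hP
    obtain ⟨p, hp, hPp⟩ := Set.mem_iUnion₂.mp hP
    haveI : p.IsPrime := IsAssociatedPrime.isPrime hp
    rw [comap_eq_of_mem_associatedPrimes_fibre p P hPp]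
    exact hp
  · intro hp
    rw [key]
    refine Set.mem_iUnion₂.mpr ⟨P.comap (algebraMap R S), hp, ?_⟩
    have hmin := hinc.mem_minimalPrimes P
    apply Module.associatedPrimes.minimalPrimes_annihilator_subset_associatedPrimes S _
    have e1 := Ideal.annihilator_quotient
      (I := ((P.comap (algebraMap R S)).map (algebraMap R S)) • (⊤ : Ideal S))
    rw [e1, Ideal.smul_eq_mul, Ideal.mul_top]
    exact hmin

theorem mem_associatedPrimes_iff_of_isHenselization (R S : Type u) [CommRing R] [IsLocalRing R]
    [IsNoetherianRing R] [CommRing S] [IsLocalRing S] [Algebra R S]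
    [IsLocalHom (algebraMap R S)] [Hensel.IsHenselization R S] (P : Ideal S) [P.IsPrime] :
    P ∈ associatedPrimes S S ↔ P.comap (algebraMap R S) ∈ associatedPrimes R R := by
  haveI : IsNoetherianRing S := (isNoetherianRing_iff_of_isHenselization R S).mp inferInstance
  haveI := faithfullyFlat_of_isHenselization R S
  exact mem_associatedPrimes_iff_of_flat_of_INC R S (INC.of_isHenselization R S) P

theorem mem_associatedPrimes_iff_of_isStrictHenselization (R S : Type u) [CommRing R]
    [IsLocalRing R] [IsNoetherianRing R] [CommRing S] [IsLocalRing S] [Algebra R S]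
    [IsLocalHom (algebraMap R S)] [Hensel.IsStrictHenselization R S] (P : Ideal S)
    [P.IsPrime] :
    P ∈ associatedPrimes S S ↔ P.comap (algebraMap R S) ∈ associatedPrimes R R := by
  haveI : IsNoetherianRing S :=
    (isNoetherianRing_iff_of_isStrictHenselization R S).mp inferInstance
  haveI := faithfullyFlat_of_isStrictHenselization R S
  exact mem_associatedPrimes_iff_of_flat_of_INC R S (inc_of_isStrictHenselization R S) P

end Groth.Agent.Helper1.HFlat
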