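import Groth.Agent.Lib.Helper1.SH2

/-!
# A (strict) henselization is formally étale
-/

set_option autoImplicit false

namespace Groth.Agent.Helper1.HFlat

open Polynomial IsLocalRing

universe u

section SqZero

variable {T S : Type u} [CommRing T] [CommRing S] [HenselianLocalRing S] (π : T →+* S)

theorem isLocalHom_of_sqZero (hπ : Function.Surjective π)
    (hker : ∀ x y : T, π x = 0 → π y = 0 → x * y = 0) : IsLocalHom π := by
  constructor
  intro t ht
  obtain ⟨s', hs'⟩ := ht.exists_right_inv
  obtain ⟨t', rfl⟩ := hπ s'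
  have hj : π (t * t' - 1) = 0 := by rw [map_sub, map_mul, hs', map_one, sub_self]
  have hj2 : (t * t' - 1) * (t * t' - 1) = 0 := hker _ _ hj hj
  have hu : IsUnit (t * t') := by
    have e1 : (t * t') * (2 - t * t') = 1 - (t * t' - 1) * (t * t' - 1) := by ring
    rw [hj2, sub_zero] at e1
    exact IsUnit.of_mul_eq_one _ e1
  exact isUnit_of_mul_isUnit_left hu

theorem henselianLocalRing_of_sqZero (hπ : Function.Surjective π)
    (hker : ∀ x y : T, π x = 0 → π y = 0 → x * y = 0) : HenselianLocalRing T := by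
  haveI hloc : IsLocalHom π := isLocalHom_of_sqZero π hπ hker
  haveI hT : IsLocalRing T := RingHom.domain_isLocalRing π
  refine { toIsLocalRing := hT, is_henselian := ?_ }
  intro f hf a₀ h1 h2
  have hg : (f.map π).Monic := hf.map π
  have h1' : (f.map π).eval (π a₀) ∈ maximalIdeal S := by
    rw [← Hzn.map_eval']
    exact map_mem_maximalIdeal π h1
  have h2' : IsUnit ((f.map π).derivative.eval (π a₀)) := by
    rw [← Hzn.map_derivative_eval']
    exact h2.map π
  obtain ⟨b, hb1, hb2⟩ := HenselianLocalRing.is_henselian (f.map π) hg (π a₀) h1' h2'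
  obtain ⟨a₁, rfl⟩ := hπ b
  have hε : π (f.eval a₁) = 0 := by
    rw [Hzn.map_eval']
    exact hb1
  have hu' : IsUnit ((f.map π).derivative.eval (π a₁)) :=
    isUnit_derivative_eval_of_sub_mem _ h2' (by rw [Hzn.jacobson_bot_eq]; exact hb2)
  have hu : IsUnit (f.derivative.eval a₁) := by
    rw [← Hzn.map_derivative_eval'] at hu'
    exact (isUnit_map_iff π _).mp hu'
  obtain ⟨v, hv⟩ := hu.exists_right_inv
  have hy : π (-(f.eval a₁) * v) = 0 := by rw [map_mul, map_neg, hε, neg_zero, zero_mul]
  have hy2 : (-(f.eval a₁) * v) ^ 2 = 0 := by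
    rw [pow_two]
    exact hker _ _ hy hy
  refine ⟨a₁ + -(f.eval a₁) * v, ?_, ?_⟩
  · rw [Polynomial.IsRoot, Polynomial.eval_add_of_sq_eq_zero _ _ _ hy2]
    have e1 : f.eval a₁ + f.derivative.eval a₁ * (-(f.eval a₁) * v) =
        f.eval a₁ - f.eval a₁ * (f.derivative.eval a₁ * v) := by ring
    rw [e1, hv, mul_one, sub_self]
  · apply mem_maximalIdeal_of_map_mem π
    rw [map_sub, map_add, hy, add_zero]
    exact hb2

end SqZero

section Pullback

variable {C S D : Type u} [CommRing C] [CommRing S] [CommRing D] (α : C →+* D) (β : S →+* D)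

/-- the fibre product `C ×_D S` -/
def pb : Subring (C × S) := (α.comp (RingHom.fst C S)).eqLocus (β.comp (RingHom.snd C S))

/-- first projection -/
def pbFst : pb α β →+* C := (RingHom.fst C S).comp (pb α β).subtype

/-- second projection -/
def pbSnd : pb α β →+* S := (RingHom.snd C S).comp (pb α β).subtype

theorem pb_comm (t : pb α β) : α (pbFst α β t) = β (pbSnd α β t) := t.2

theorem pbSnd_surjective (hα : Function.Surjective α) : Function.Surjective (pbSnd α β) := by
  intro s
  obtain ⟨c, hc⟩ := hα (β s)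
  exact ⟨⟨(c, s), hc⟩, rfl⟩

theorem pb_sqZero (hI : ∀ x y : C, α x = 0 → α y = 0 → x * y = 0) (x y : pb α β)
    (hx : pbSnd α β x = 0) (hy : pbSnd α β y = 0) : x * y = 0 := by
  apply Subtype.ext
  apply Prod.ext
  · show pbFst α β x * pbFst α β y = 0
    apply hI
    · rw [pb_comm, hx, map_zero]
    · rw [pb_comm, hy, map_zero]
  · show pbSnd α β x * pbSnd α β y = 0
    rw [hx, zero_mul]

/-- the map into the fibre product -/
def pbLift {A : Type u} [CommRing A] (f : A →+* C) (g : A →+* S)
    (h : ∀ a, α (f a) = β (g a)) : A →+* pb α β :=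
  (f.prod g).codRestrict (pb α β) h

theorem pbFst_pbLift {A : Type u} [CommRing A] (f : A →+* C) (g : A →+* S)
    (h : ∀ a, α (f a) = β (g a)) (a : A) : pbFst α β (pbLift α β f g h a) = f a := rfl

theorem pbSnd_pbLift {A : Type u} [CommRing A] (f : A →+* C) (g : A →+* S)
    (h : ∀ a, α (f a) = β (g a)) (a : A) : pbSnd α β (pbLift α β f g h a) = g a := rfl

theorem pb_ext {x y : pb α β} (h1 : pbFst α β x = pbFst α β y) (h2 : pbSnd α β x = pbSnd α β y) :
    x = y := Subtype.ext (Prod.ext h1 h2)

end Pullback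

/-- unique lifting along square-zero extensions of the target -/
def SqZeroLift {R S : Type u} [CommRing R] [CommRing S] (ψ : R →+* S) : Prop :=
  ∀ (T : Type u) [CommRing T] (π : T →+* S) (ρ : R →+* T), Function.Surjective π →
    (∀ x y : T, π x = 0 → π y = 0 → x * y = 0) → π.comp ρ = ψ →
    ∃! g : S →+* T, g.comp ψ = ρ ∧ π.comp g = RingHom.id S

section Lift

variable {R S : Type u} [CommRing R] [IsLocalRing R] [CommRing S] [HenselianLocalRing S]
  {ψ : R →+* S}

theorem IsHensHom.sqZeroLift (h : IsHensHom ψ) : SqZeroLift ψ := by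
  intro T _ π ρ hπ hker hρ
  haveI hTh : HenselianLocalRing T := henselianLocalRing_of_sqZero π hπ hker
  haveI hπloc : IsLocalHom π := isLocalHom_of_sqZero π hπ hker
  haveI := h.isLocalHom
  have hρloc : IsLocalHom ρ := by
    constructor
    intro r hr
    have h1 := hr.map π
    rw [← RingHom.comp_apply, hρ] at h1
    exact (isUnit_map_iff ψ r).mp h1
  obtain ⟨g, hg, huniq⟩ := h.universal T ρ hρloc
  have hg' : g.comp ψ = ρ := hg
  have hid : π.comp g = RingHom.id S := by
    obtain ⟨k, -, hk⟩ := h.universal S ψ inferInstance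
    have e1 : (π.comp g).comp ψ = ψ := by rw [RingHom.comp_assoc, hg', hρ]
    have e2 : (RingHom.id S).comp ψ = ψ := RingHom.id_comp _
    rw [hk _ e1, hk _ e2]
  exact ⟨g, ⟨hg', hid⟩, fun g' hg'' => huniq g' hg''.1⟩

theorem IsSHensHom.sqZeroLift (h : IsSHensHom ψ) : SqZeroLift ψ := by
  intro T _ π ρ hπ hker hρ
  haveI hTh : HenselianLocalRing T := henselianLocalRing_of_sqZero π hπ hker
  haveI hπloc : IsLocalHom π := isLocalHom_of_sqZero π hπ hker
  haveI := h.isLocalHom
  have hρloc : IsLocalHom ρ := by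
    constructor
    intro r hr
    have h1 := hr.map π
    rw [← RingHom.comp_apply, hρ] at h1
    exact (isUnit_map_iff ψ r).mp h1
  have hbij : Function.Bijective (ResidueField.map π) := by
    refine ⟨RingHom.injective _, ?_⟩
    intro y
    obtain ⟨s, rfl⟩ := residue_surjective y
    obtain ⟨t, rfl⟩ := hπ s
    exact ⟨residue T t, ResidueField.map_residue π t⟩
  obtain ⟨e, he⟩ : ∃ e : ResidueField T ≃+* ResidueField S,
      ∀ y, e y = ResidueField.map π y := ⟨RingEquiv.ofBijective _ hbij, fun _ => rfl⟩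
  have hτ : ∀ t : T, e.symm (residue S (π t)) = residue T t := by
    intro t
    rw [RingEquiv.symm_apply_eq, he, ResidueField.map_residue]
  have hτ' : ∀ r, e.symm.toRingHom (residue S (ψ r)) = residue T (ρ r) := by
    intro r
    rw [← hρ]
    exact hτ (ρ r)
  obtain ⟨g, ⟨hg1, hg2⟩, huniq⟩ := h.universal T ρ hρloc e.symm.toRingHom hτ'
  have hg1' : g.comp ψ = ρ := hg1
  have hg2' : ∀ x : S, residue T (g x) = e.symm (residue S x) := hg2
  have hid : π.comp g = RingHom.id S := by
    obtain ⟨k, -, hk⟩ := h.universal S ψ inferInstance (RingHom.id _) (fun _ => rfl)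
    have e1 : (π.comp g).comp ψ = ψ ∧
        ∀ x : S, residue S ((π.comp g) x) = (RingHom.id _) (residue S x) := by
      refine ⟨by rw [RingHom.comp_assoc, hg1', hρ], fun x => ?_⟩
      rw [RingHom.comp_apply, RingHom.id_apply, ← ResidueField.map_residue π, hg2', ← he,
        RingEquiv.apply_symm_apply]
    have e2 : (RingHom.id S).comp ψ = ψ ∧
        ∀ x : S, residue S ((RingHom.id S) x) = (RingHom.id _) (residue S x) :=
      ⟨RingHom.id_comp _, fun _ => rfl⟩
    rw [hk _ e1, hk _ e2]
  refine ⟨g, ⟨hg1', hid⟩, fun g' hg'' => huniq g' ⟨hg''.1, fun x => ?_⟩⟩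
  have e3 : π (g' x) = x := RingHom.congr_fun hg''.2 x
  show residue T (g' x) = e.symm (residue S x)
  rw [← hτ (g' x), e3]

end Lift

theorem formallyEtale_of_sqZeroLift {R S : Type u} [CommRing R] [CommRing S] [Algebra R S]
    (h : SqZeroLift (algebraMap R S)) : Algebra.FormallyEtale R S := by
  rw [Algebra.FormallyEtale.iff_comp_bijective]
  intro C _ _ I hI
  have hI' : ∀ x y : C, Ideal.Quotient.mk I x = 0 → Ideal.Quotient.mk I y = 0 → x * y = 0 := by
    intro x y hx hy
    rw [Ideal.Quotient.eq_zero_iff_mem] at hx hy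
    have h1 : x * y ∈ I ^ 2 := by
      rw [pow_two]
      exact Ideal.mul_mem_mul hx hy
    rwa [hI, Ideal.mem_bot] at h1
  have hα : Function.Surjective (Ideal.Quotient.mk I) := Ideal.Quotient.mk_surjective
  constructor
  · intro f₁ f₂ hf
    obtain ⟨β, hβ⟩ : ∃ β : S →+* C ⧸ I, β = ((Ideal.Quotient.mkₐ R I).comp f₁).toRingHom :=
      ⟨_, rfl⟩
    have hβ1 : ∀ s, Ideal.Quotient.mk I (f₁ s) = β s := fun s => by rw [hβ]; rfl
    have hβ2 : ∀ s, Ideal.Quotient.mk I (f₂ s) = β s := fun s => by
      rw [hβ, hf]; rfl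
    have hρc : ∀ r, Ideal.Quotient.mk I (algebraMap R C r) = β (algebraMap R S r) := fun r => by
      rw [← hβ1, f₁.commutes]
    obtain ⟨g, -, huniq⟩ := h (pb (Ideal.Quotient.mk I) β) (pbSnd _ β)
      (pbLift (Ideal.Quotient.mk I) β (algebraMap R C) (algebraMap R S) hρc)
      (pbSnd_surjective _ β hα) (pb_sqZero _ β hI') (RingHom.ext fun r => rfl)
    have e1 : pbLift (Ideal.Quotient.mk I) β f₁.toRingHom (RingHom.id S) hβ1 = g :=
      huniq _ ⟨RingHom.ext fun r => pb_ext _ β (f₁.commutes r) rfl, RingHom.ext fun s => rfl⟩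
    have e2 : pbLift (Ideal.Quotient.mk I) β f₂.toRingHom (RingHom.id S) hβ2 = g :=
      huniq _ ⟨RingHom.ext fun r => pb_ext _ β (f₂.commutes r) rfl, RingHom.ext fun s => rfl⟩
    apply AlgHom.ext
    intro s
    have e3 := congrArg (fun k => pbFst (Ideal.Quotient.mk I) β (k s)) (e1.trans e2.symm)
    exact e3
  · intro fb
    have hρc : ∀ r, Ideal.Quotient.mk I (algebraMap R C r) =
        fb.toRingHom (algebraMap R S r) := fun r => (fb.commutes r).symm
    obtain ⟨g, ⟨hg1, hg2⟩, -⟩ := h (pb (Ideal.Quotient.mk I) fb.toRingHom) (pbSnd _ _)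
      (pbLift (Ideal.Quotient.mk I) fb.toRingHom (algebraMap R C) (algebraMap R S) hρc)
      (pbSnd_surjective _ _ hα) (pb_sqZero _ _ hI') (RingHom.ext fun r => rfl)
    refine ⟨{ (pbFst (Ideal.Quotient.mk I) fb.toRingHom).comp g with commutes' := fun r => ?_ },
      ?_⟩
    · show pbFst (Ideal.Quotient.mk I) fb.toRingHom (g (algebraMap R S r)) = algebraMap R C r
      have e1 := RingHom.congr_fun hg1 r
      rw [RingHom.comp_apply] at e1
      rw [e1]
      rfl
    · apply AlgHom.ext
      intro s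
      show Ideal.Quotient.mk I (pbFst (Ideal.Quotient.mk I) fb.toRingHom (g s)) = fb s
      rw [pb_comm]
      have e2 : pbSnd (Ideal.Quotient.mk I) fb.toRingHom (g s) = s := RingHom.congr_fun hg2 s
      rw [e2]
      rfl

theorem formallyEtale_of_isHenselization (R S : Type u) [CommRing R] [IsLocalRing R]
    [CommRing S] [IsLocalRing S] [Algebra R S] [IsLocalHom (algebraMap R S)]
    [Hensel.IsHenselization R S] : Algebra.FormallyEtale R S := by
  haveI hS : HenselianLocalRing S := Hensel.IsHenselization.henselian (R := R)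
  exact formallyEtale_of_sqZeroLift (IsHensHom.of_isHenselization R S).sqZeroLift

theorem formallyEtale_of_isStrictHenselization (R S : Type u) [CommRing R] [IsLocalRing R]
    [CommRing S] [IsLocalRing S] [Algebra R S] [IsLocalHom (algebraMap R S)]
    [Hensel.IsStrictHenselization R S] : Algebra.FormallyEtale R S := by
  haveI hS : HenselianLocalRing S := Hensel.IsStrictHenselization.henselian (R := R)
  exact formallyEtale_of_sqZeroLift (IsSHensHom.of_isStrictHenselization R S).sqZeroLift

end Groth.Agent.Helper1.HFlat
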