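import Mathlib
import Groth.Prelude.Def_EtCore
import Groth.Agent.Lib.Helper1.SHC12

/-!
# Étale sheaves of sets on the spectrum of a separably closed field (helper1)
-/

set_option autoImplicit false
set_option linter.unusedSectionVars false
set_option linter.style.haveILetI false

open CategoryTheory CategoryTheory.Limits AlgebraicGeometry Opposite

namespace Groth.Agent.Helper1.SHC

universe u v' u' w'

section Field

variable (k : Type u) [Field k] [IsSepClosed k]

/-- the canonical geometric point of `Spec k` -/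
noncomputable abbrev pt0 : GrothendieckTopology.Point.{u}
    (Spec (CommRingCat.of k)).smallEtaleTopology :=
  Scheme.pointSmallEtale (𝟙 (Spec (CommRingCat.of k)))

/-- the canonical element of the fibre over the terminal object -/
noncomputable def x0 : (pt0 k).fiber.obj (EtCoh.top (Spec (CommRingCat.of k))) :=
  (Over.homMk (𝟙 (Spec (CommRingCat.of k))) (Category.comp_id _) :
    Over.mk (𝟙 (Spec (CommRingCat.of k))) ⟶
      (Scheme.Etale.forget (Spec (CommRingCat.of k))).obj (EtCoh.top (Spec (CommRingCat.of k))))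

theorem exists_section_fiber_field (Y : (Spec (CommRingCat.of k)).Etale)
    (x₀ : (pt0 k).fiber.obj (EtCoh.top (Spec (CommRingCat.of k))))
    (y : (pt0 k).fiber.obj Y) :
    ∃ σ : EtCoh.top (Spec (CommRingCat.of k)) ⟶ Y, (pt0 k).fiber.map σ x₀ = y := by
  let xl : Spec (CommRingCat.of k) ⟶ Spec (CommRingCat.of k) := x₀.left
  let yl : Spec (CommRingCat.of k) ⟶ Y.left := y.left
  have hx₀ : xl = 𝟙 _ := by
    have h := Over.w x₀
    exact (Category.comp_id xl).symm.trans h
  have hy : yl ≫ Y.hom = 𝟙 _ := Over.w y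
  have hV : yl ≫ Y.hom = (EtCoh.top (Spec (CommRingCat.of k))).hom := hy
  refine ⟨MorphismProperty.Over.homMk yl hV trivial, ?_⟩
  apply Over.OverMorphism.ext
  have : xl ≫ yl = yl := by rw [hx₀, Category.id_comp]
  exact this

theorem exists_point_field (U : (Spec (CommRingCat.of k)).Etale) (x : U.left) :
    ∃ y : (pt0 k).fiber.obj U,
      (y.left : Spec (CommRingCat.of k) ⟶ U.left).base (default : Spec (CommRingCat.of k)) = x := by
  obtain ⟨l, hl, hx⟩ := Scheme.exists_fac_of_etale_of_isSepClosed U.hom
    (𝟙 (Spec (CommRingCat.of k))) x (Subsingleton.elim (α := Spec (CommRingCat.of k)) _ _)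
  exact ⟨(Over.homMk l hl : Over.mk (𝟙 (Spec (CommRingCat.of k))) ⟶
    (Scheme.Etale.forget (Spec (CommRingCat.of k))).obj U), hx⟩

section Concrete

variable {A : Type u'} [Category.{v'} A] [HasColimitsOfSize.{u, u} A]
  {FC : A → A → Type*} {CC : A → Type w'}
  [∀ (X Y : A), FunLike (FC X Y) (CC X) (CC Y)]
  [ConcreteCategory.{w'} A FC]
  [PreservesFilteredColimitsOfSize.{u, u} (forget A)]

theorem bijective_toPresheafFiber_field (P : (Spec (CommRingCat.of k)).Etaleᵒᵖ ⥤ A)
    (x₀ : (pt0 k).fiber.obj (EtCoh.top (Spec (CommRingCat.of k)))) :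
    Function.Bijective ((pt0 k).toPresheafFiber
        (EtCoh.top (Spec (CommRingCat.of k))) x₀ P) := by
  constructor
  · intro z₁ z₂ h
    obtain ⟨Y, f, y, hy, hz⟩ := ((pt0 k).toPresheafFiber_eq_iff' _ x₀ z₁ z₂).1 h
    obtain ⟨σ, -⟩ := exists_section_fiber_field k Y x₀ y
    have hσ : σ ≫ f = 𝟙 _ := (EtCore.topIsTerminal _).hom_ext _ _
    have h1 : ∀ z : ToType (P.obj (op (EtCoh.top (Spec (CommRingCat.of k))))),
        P.map σ.op (P.map f.op z) = z := by
      intro z
      rw [← ConcreteCategory.comp_apply, ← P.map_comp, ← op_comp, hσ, op_id, P.map_id,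
        ConcreteCategory.id_apply]
    rw [← h1 z₁, hz, h1 z₂]
  · intro p
    obtain ⟨Y, y, z, rfl⟩ := (pt0 k).toPresheafFiber_jointly_surjective p
    obtain ⟨σ, hσ⟩ := exists_section_fiber_field k Y x₀ y
    refine ⟨P.map σ.op z, ?_⟩
    rw [← hσ]
    exact (pt0 k).toPresheafFiber_w_apply σ x₀ P z

/-- a morphism of presheaves which is bijective on global sections is bijective on the stalk -/
theorem bijective_stalk_iff {P Q : (Spec (CommRingCat.of k)).Etaleᵒᵖ ⥤ A} (f : P ⟶ Q) :
    Function.Bijective ((pt0 k).presheafFiber.map f) ↔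
      Function.Bijective (f.app (op (EtCoh.top (Spec (CommRingCat.of k))))) := by
  have hP := bijective_toPresheafFiber_field k P (x0 k)
  have hQ := bijective_toPresheafFiber_field k Q (x0 k)
  have hnat : ∀ z, (pt0 k).presheafFiber.map f ((pt0 k).toPresheafFiber _ (x0 k) P z) =
      (pt0 k).toPresheafFiber _ (x0 k) Q (f.app _ z) :=
    fun z => (pt0 k).toPresheafFiber_naturality_apply f _ (x0 k) z
  have hcomp : (fun z => (pt0 k).presheafFiber.map f ((pt0 k).toPresheafFiber _ (x0 k) P z)) =
      (fun z => (pt0 k).toPresheafFiber _ (x0 k) Q (f.app _ z)) := funext hnat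
  constructor
  · intro h
    have h1 : Function.Bijective
        (fun z => (pt0 k).presheafFiber.map f ((pt0 k).toPresheafFiber _ (x0 k) P z)) :=
      h.comp hP
    rw [hcomp] at h1
    exact (Function.Bijective.of_comp_iff' hQ _).1 h1
  · intro h
    have h1 : Function.Bijective
        (fun z => (pt0 k).toPresheafFiber _ (x0 k) Q (f.app _ z)) := hQ.comp h
    rw [← hcomp] at h1
    exact (Function.Bijective.of_comp_iff _ hP).1 h1

end Concrete

end Field

end Groth.Agent.Helper1.SHC
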