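import Mathlib
import Groth.Prelude.Def_EtCore
import Groth.Agent.Lib.Helper1.SHC15

/-!
# Étale sheaves of sets on the spectrum of a separably closed field, II (helper1)
-/

set_option autoImplicit false
set_option linter.unusedSectionVars false
set_option linter.style.haveILetI false

open CategoryTheory CategoryTheory.Limits AlgebraicGeometry Opposite

namespace Groth.Agent.Helper1.SHC

universe u

section Main

variable (k : Type u) [Field k] [IsSepClosed k]

theorem isIso_of_bijective_sections
    {F G : Sheaf (Spec (CommRingCat.of k)).smallEtaleTopology (Type (u + 1))} (v : F ⟶ G)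
    (h : Function.Bijective (v.hom.app (op (EtCoh.top (Spec (CommRingCat.of k)))))) : IsIso v := by
  haveI := preservesFilteredColimits_forget_type.{u}
  have hb : Function.Bijective ((pt0 k).presheafFiber.map v.hom) :=
    (bijective_stalk_iff k v.hom).2 h
  have key : ∀ (U : (Spec (CommRingCat.of k)).Etale) (x : U.left),
      ∃ (Ω : Type u) (_ : Field Ω) (_ : IsSepClosed Ω)
      (ξ : Spec (CommRingCat.of Ω) ⟶ Spec (CommRingCat.of k))
      (y : (Scheme.pointSmallEtale ξ).fiber.obj U),
      (y.left : Spec (CommRingCat.of Ω) ⟶ U.left).base (default : Spec (CommRingCat.of Ω)) = x ∧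
      Function.Bijective ((Scheme.pointSmallEtale ξ).presheafFiber.map v.hom) := by
    intro U x
    obtain ⟨y, hy⟩ := exists_point_field k U x
    exact ⟨k, inferInstance, inferInstance, 𝟙 _, y, hy, hb⟩
  haveI : Sheaf.IsLocallyInjective v := isLocallyInjective_of_enough v.hom (fun U x => by
    obtain ⟨Ω, i1, i2, ξ, y, hy, hb⟩ := key U x
    exact ⟨Ω, i1, i2, ξ, y, hy, hb.1⟩)
  haveI : Sheaf.IsLocallySurjective v := isLocallySurjective_of_enough v.hom (fun U x => by
    obtain ⟨Ω, i1, i2, ξ, y, hy, hb⟩ := key U x
    exact ⟨Ω, i1, i2, ξ, y, hy, hb.2⟩)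
  haveI : Mono v := Sheaf.mono_of_isLocallyInjective v
  haveI : Epi v := (Sheaf.isLocallySurjective_iff_epi v).mp inferInstance
  exact isIso_of_mono_of_epi v

theorem bijective_toSheafify_app_top
    (P : (Spec (CommRingCat.of k)).Etaleᵒᵖ ⥤ Type (u + 1)) :
    Function.Bijective ((toSheafify (Spec (CommRingCat.of k)).smallEtaleTopology P).app
      (op (EtCoh.top (Spec (CommRingCat.of k))))) := by
  haveI := preservesFilteredColimits_forget_type.{u}
  rw [← bijective_stalk_iff k]
  exact (pt0 k).toPresheafFiber_map_bijective _

theorem isIso_unit (S : Type (u + 1)) :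
    IsIso ((constantSheafAdj (Spec (CommRingCat.of k)).smallEtaleTopology (Type (u + 1))
      (EtCore.topIsTerminal (Spec (CommRingCat.of k)))).unit.app S) := by
  change IsIso (((constantPresheafAdj (Type (u + 1))
    (EtCore.topIsTerminal (Spec (CommRingCat.of k)))).comp
    (sheafificationAdjunction (Spec (CommRingCat.of k)).smallEtaleTopology
      (Type (u + 1)))).unit.app S)
  rw [Adjunction.comp_unit_app]
  haveI : IsIso ((constantPresheafAdj (Type (u + 1))
      (EtCore.topIsTerminal (Spec (CommRingCat.of k)))).unit.app S) := by
    change IsIso ((Functor.constCompEvaluationObj (Type (u + 1))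
      (op (EtCoh.top (Spec (CommRingCat.of k))))).hom.app S)
    infer_instance
  haveI : IsIso (((evaluation (Spec (CommRingCat.of k)).Etaleᵒᵖ (Type (u + 1))).obj
      (op (EtCoh.top (Spec (CommRingCat.of k))))).map
      ((sheafificationAdjunction (Spec (CommRingCat.of k)).smallEtaleTopology
        (Type (u + 1))).unit.app ((Functor.const _).obj S))) := by
    rw [isIso_iff_bijective]
    exact bijective_toSheafify_app_top k _
  infer_instance

theorem isEquivalence_gsec_field :
    ((sheafSections (Spec (CommRingCat.of k)).smallEtaleTopology (Type (u + 1))).obj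
      (op (EtCoh.top (Spec (CommRingCat.of k))))).IsEquivalence := by
  let adj := constantSheafAdj (Spec (CommRingCat.of k)).smallEtaleTopology (Type (u + 1))
    (EtCore.topIsTerminal (Spec (CommRingCat.of k)))
  haveI hu : ∀ S, IsIso (adj.unit.app S) := isIso_unit k
  haveI hc : ∀ F, IsIso (adj.counit.app F) := by
    intro F
    apply isIso_of_bijective_sections k
    have h := adj.right_triangle_components F
    haveI : IsIso (adj.unit.app (((sheafSections (Spec (CommRingCat.of k)).smallEtaleTopology
        (Type (u + 1))).obj (op (EtCoh.top (Spec (CommRingCat.of k))))).obj F) ≫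
        ((sheafSections (Spec (CommRingCat.of k)).smallEtaleTopology (Type (u + 1))).obj
          (op (EtCoh.top (Spec (CommRingCat.of k))))).map (adj.counit.app F)) := by
      rw [h]; exact IsIso.id _
    have h2 : IsIso (((sheafSections (Spec (CommRingCat.of k)).smallEtaleTopology
        (Type (u + 1))).obj (op (EtCoh.top (Spec (CommRingCat.of k))))).map
        (adj.counit.app F)) := IsIso.of_isIso_comp_left (adj.unit.app _) _
    exact (isIso_iff_bijective _).1 h2
  exact adj.toEquivalence.isEquivalence_inverse

end Main

end Groth.Agent.Helper1.SHC
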