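import Mathlib
import Groth.Prelude.Def_EtCore
import Groth.Agent.Lib.Helper1.SHC5

/-!
# The support of an étale sheaf of rings is closed (helper1)
-/

set_option autoImplicit false
set_option linter.unusedSectionVars false
set_option linter.style.haveILetI false

open CategoryTheory CategoryTheory.Limits AlgebraicGeometry Opposite

namespace Groth.Agent.Helper1.SHC

universe u

theorem isClosed_support_rings {S : Scheme.{u}} (O : Sheaf S.smallEtaleTopology CommRingCat.{u}) :
    IsClosed {s : ↥S | ∃ (Ω : Type u) (_ : Field Ω) (_ : IsSepClosed Ω)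
      (ξ : Spec (CommRingCat.of Ω) ⟶ S),
      ξ.base default = s ∧ Nontrivial ↑((Scheme.pointSmallEtale ξ).presheafFiber.obj O.obj)} := by
  let W : Set S := ⋃ (U : S.Etale) (_ : (1 : O.obj.obj (op U)) = 0), Set.range U.hom.base
  have hW : IsOpen W := by
    apply isOpen_iUnion; intro U; apply isOpen_iUnion; intro _
    exact U.hom.isOpenMap.isOpen_range
  suffices h : {s : ↥S | ∃ (Ω : Type u) (_ : Field Ω) (_ : IsSepClosed Ω)
      (ξ : Spec (CommRingCat.of Ω) ⟶ S),
      ξ.base default = s ∧ Nontrivial ↑((Scheme.pointSmallEtale ξ).presheafFiber.obj O.obj)} = Wᶜ by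
    rw [h]; exact hW.isClosed_compl
  ext s
  simp only [Set.mem_setOf_eq, Set.mem_compl_iff]
  constructor
  · rintro ⟨Ω, _, _, ξ, hξ, hnt⟩ hs
    obtain ⟨U, hU⟩ := Set.mem_iUnion.1 hs
    obtain ⟨h10, ⟨u₀, hu₀⟩⟩ := Set.mem_iUnion.1 hU
    obtain ⟨l, hl, -⟩ := Scheme.exists_fac_of_etale_of_isSepClosed U.hom ξ u₀ (hu₀.trans hξ.symm)
    let y : (Scheme.pointSmallEtale ξ).fiber.obj U :=
      (Over.homMk l hl : Over.mk ξ ⟶ (Scheme.Etale.forget S).obj U)
    have h1 : (1 : ↑((Scheme.pointSmallEtale ξ).presheafFiber.obj O.obj)) = 0 := by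
      have e1 := map_one ((Scheme.pointSmallEtale ξ).toPresheafFiber U y O.obj).hom
      have e0 := map_zero ((Scheme.pointSmallEtale ξ).toPresheafFiber U y O.obj).hom
      rw [← e1, ← e0, h10]
    exact one_ne_zero h1
  · intro hs
    obtain ⟨Ω, i1, i2, ξ, y, hy⟩ := exists_geom_point (EtCoh.top S) s
    have hξ : (y.left : Spec (CommRingCat.of Ω) ⟶ S) = ξ := by
      have h := Over.w y
      exact (Category.comp_id _).symm.trans h
    have hξs : ξ.base (default : Spec (CommRingCat.of Ω)) = s := by rw [← hξ]; exact hy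
    refine ⟨Ω, i1, i2, ξ, hξs, ?_⟩
    by_contra hnt
    rw [not_nontrivial_iff_subsingleton] at hnt
    have h1 : (Scheme.pointSmallEtale ξ).toPresheafFiber (EtCoh.top S) y O.obj
        (1 : O.obj.obj (op (EtCoh.top S))) =
        (Scheme.pointSmallEtale ξ).toPresheafFiber (EtCoh.top S) y O.obj 0 :=
      Subsingleton.elim _ _
    obtain ⟨V, g, v, hv, hg⟩ :=
      ((Scheme.pointSmallEtale ξ).toPresheafFiber_eq_iff' _ y _ _).1 h1
    apply hs
    refine Set.mem_iUnion.2 ⟨V, Set.mem_iUnion.2 ⟨?_, ?_⟩⟩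
    · have e1 := map_one (O.obj.map g.op).hom
      have e0 := map_zero (O.obj.map g.op).hom
      rw [← e1, ← e0]
      exact hg
    · refine ⟨(v.left : Spec (CommRingCat.of Ω) ⟶ V.left).base
        (default : Spec (CommRingCat.of Ω)), ?_⟩
      have hv2 : (v.left : Spec (CommRingCat.of Ω) ⟶ V.left) ≫ V.hom = ξ := Over.w v
      have hv3 : V.hom.base ((v.left : Spec (CommRingCat.of Ω) ⟶ V.left).base
          (default : Spec (CommRingCat.of Ω))) = ξ.base (default : Spec (CommRingCat.of Ω)) :=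
        congrArg (fun φ : Spec (CommRingCat.of Ω) ⟶ S =>
          φ.base (default : Spec (CommRingCat.of Ω))) hv2
      exact hv3.trans hξs
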