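import Mathlib
import Groth.Prelude.Def_EtCore
import Groth.Agent.Lib.Helper1.SHC5

/-!
# Subsheaves of the final étale sheaf correspond to opens (helper1)
-/

set_option autoImplicit false
set_option linter.unusedSectionVars false
set_option linter.style.haveILetI false

open CategoryTheory CategoryTheory.Limits AlgebraicGeometry Opposite

namespace Groth.Agent.Helper1.SHC

universe u

section SubTerminal

variable (S : Scheme.{u})

theorem nonempty_hom_iff (W : S.Opens) (U : S.Etale) :
    Nonempty (U ⟶ Scheme.Etale.mk W.ι) ↔ Set.range U.hom.base ⊆ (W : Set S) := by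
  constructor
  · rintro ⟨φ⟩ _ ⟨x, rfl⟩
    have hw : φ.left ≫ W.ι = U.hom := Over.w φ.hom
    rw [← hw]
    exact (φ.left.base x).2
  · intro h
    have hr : Set.range U.hom.base ⊆ Set.range W.ι.base := by rwa [Scheme.Opens.range_ι]
    let l : U.left ⟶ W.toScheme := IsOpenImmersion.lift W.ι U.hom hr
    have hl : l ≫ W.ι = U.hom := IsOpenImmersion.lift_fac _ _ _
    have hl' : l ≫ (Scheme.Etale.mk W.ι).hom = U.hom := hl
    exact ⟨MorphismProperty.Over.homMk l hl' trivial⟩

theorem subsingleton_hom (W : S.Opens) (U : S.Etale) :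
    Subsingleton (U ⟶ Scheme.Etale.mk W.ι) := by
  constructor
  intro a b
  apply MorphismProperty.Over.Hom.ext
  let al : U.left ⟶ W.toScheme := a.left
  let bl : U.left ⟶ W.toScheme := b.left
  have ha : al ≫ W.ι = U.hom := Over.w a.hom
  have hb : bl ≫ W.ι = U.hom := Over.w b.hom
  exact (cancel_mono W.ι).1 (ha.trans hb.symm)

variable (F : Sheaf S.smallEtaleTopology (Type u))

/-- the open subset attached to a subsheaf of the final sheaf -/
def suppOpen : S.Opens :=
  ⟨⋃ (U : S.Etale) (_ : Nonempty (F.obj.obj (op U))), Set.range U.hom.base, by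
    apply isOpen_iUnion; intro U; apply isOpen_iUnion; intro _
    exact U.hom.isOpenMap.isOpen_range⟩

variable (hF : ∀ U : S.Etale, Subsingleton (F.obj.obj (op U)))

include hF in
theorem nonempty_iff (U : S.Etale) :
    Nonempty (F.obj.obj (op U)) ↔ Set.range U.hom.base ⊆ (suppOpen S F : Set S) := by
  constructor
  · intro h x hx
    exact Set.mem_iUnion₂.2 ⟨U, h, hx⟩
  · intro h
    let R : Sieve U :=
      { arrows := fun V _ => Nonempty (F.obj.obj (op V))
        downward_closed := by
          intro V V' g hg k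
          exact hg.map (fun x => F.obj.map k.op x) }
    have hR : R ∈ S.smallEtaleTopology U := by
      apply mem_of_pointwise
      intro x
      have hx : U.hom.base x ∈ (suppOpen S F : Set S) := h ⟨x, rfl⟩
      obtain ⟨U', hU', ⟨u', hu'⟩⟩ := Set.mem_iUnion₂.1 hx
      obtain ⟨z, hz1, -⟩ := Scheme.Pullback.exists_preimage_pullback (f := U.hom) (g := U'.hom)
        x u' hu'.symm
      let V : S.Etale := Scheme.Etale.mk (pullback.fst U.hom U'.hom ≫ U.hom)
      let g : V ⟶ U := MorphismProperty.Over.homMk (pullback.fst U.hom U'.hom) rfl trivial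
      let g' : V ⟶ U' := MorphismProperty.Over.homMk (pullback.snd U.hom U'.hom)
        pullback.condition.symm trivial
      exact ⟨V, g, z, hU'.map (fun x => F.obj.map g'.op x), hz1⟩
    have hsh := (isSheaf_iff_isSheaf_of_type _ _).1 F.2 R hR
    let fam : Presieve.FamilyOfElements F.obj R.arrows := fun V g hg => hg.some
    have hcomp : fam.Compatible := by
      intro V₁ V₂ W g₁ g₂ f₁ f₂ h₁ h₂ _
      haveI := hF W
      exact Subsingleton.elim _ _
    obtain ⟨t, -, -⟩ := hsh fam hcomp
    exact ⟨t⟩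

include hF in
theorem iso_of_iff (W : S.Opens)
    (h : ∀ U : S.Etale, Nonempty (F.obj.obj (op U)) ↔ Set.range U.hom.base ⊆ (W : Set S)) :
    Nonempty (F.obj ≅ yoneda.obj (Scheme.Etale.mk W.ι)) := by
  refine ⟨NatIso.ofComponents (fun U => Equiv.toIso ?_) ?_⟩
  · haveI := hF U.unop
    haveI := subsingleton_hom S W U.unop
    exact equivOfSubsingletonOfSubsingleton
      (fun x => Classical.choice ((nonempty_hom_iff S W U.unop).2 ((h U.unop).1 ⟨x⟩)))
      (fun φ => Classical.choice ((h U.unop).2 ((nonempty_hom_iff S W U.unop).1 ⟨φ⟩)))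
  · intro U V k
    haveI := subsingleton_hom S W V.unop
    ext x
    exact Subsingleton.elim _ _

theorem iff_of_iso (W : S.Opens) (e : F.obj ≅ yoneda.obj (Scheme.Etale.mk W.ι)) (U : S.Etale) :
    Nonempty (F.obj.obj (op U)) ↔ Set.range U.hom.base ⊆ (W : Set S) := by
  rw [← nonempty_hom_iff]
  exact ⟨fun ⟨x⟩ => ⟨e.hom.app (op U) x⟩, fun ⟨φ⟩ => ⟨e.inv.app (op U) φ⟩⟩

theorem eq_of_iff (W W' : S.Opens)
    (h : ∀ U : S.Etale, Set.range U.hom.base ⊆ (W : Set S) ↔
      Set.range U.hom.base ⊆ (W' : Set S)) : W = W' := by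
  apply le_antisymm
  · have h1 := (h (Scheme.Etale.mk W.ι)).1 (by
      change Set.range W.ι.base ⊆ _
      rw [Scheme.Opens.range_ι])
    change Set.range W.ι.base ⊆ _ at h1
    rwa [Scheme.Opens.range_ι] at h1
  · have h1 := (h (Scheme.Etale.mk W'.ι)).2 (by
      change Set.range W'.ι.base ⊆ _
      rw [Scheme.Opens.range_ι])
    change Set.range W'.ι.base ⊆ _ at h1
    rwa [Scheme.Opens.range_ι] at h1

include hF in
theorem main0644 : ∃! W : S.Opens, Nonempty (F.obj ≅ yoneda.obj (Scheme.Etale.mk W.ι)) := by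
  refine ⟨suppOpen S F, iso_of_iff S F hF _ (nonempty_iff S F hF), ?_⟩
  rintro W' ⟨e⟩
  apply eq_of_iff
  intro U
  rw [← iff_of_iso S F W' e U, nonempty_iff S F hF U]

end SubTerminal

end Groth.Agent.Helper1.SHC
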