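import Mathlib

/-!
# An integrally closed local domain with separably closed fraction field is strictly henselian
-/

set_option autoImplicit false

namespace Groth.Agent.Helper1.SHN

open Polynomial IsLocalRing

universe u

section

variable (A : Type u) [CommRing A] [IsDomain A] [IsIntegrallyClosed A]
  (K : Type u) [Field K] [Algebra A K] [IsFractionRing A K] [IsSepClosed K]

local notation "𝕃" => AlgebraicClosure K

theorem algebraMap_injective_L : Function.Injective (algebraMap A 𝕃) := by
  rw [IsScalarTower.algebraMap_eq A K 𝕃]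
  exact (algebraMap K 𝕃).injective.comp (IsFractionRing.injective A K)

/-- a root in the algebraic closure of a monic polynomial over `A` at which the derivative does
not vanish lies in `A` -/
theorem exists_of_aeval_derivative_ne_zero (f : A[X]) (hf : f.Monic) (α : 𝕃)
    (hα : aeval α f = 0) (hd : aeval α (derivative f) ≠ 0) :
    ∃ a : A, algebraMap A 𝕃 a = α := by
  have hαK : aeval α (f.map (algebraMap A K)) = 0 := by rw [aeval_map_algebraMap]; exact hα
  have hint : IsIntegral K α := ⟨f.map (algebraMap A K), hf.map _, hαK⟩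
  obtain ⟨v, hv⟩ := minpoly.dvd K α hαK
  have hirr : Irreducible (minpoly K α) := minpoly.irreducible hint
  have hsep : (minpoly K α).Separable := by
    rw [separable_iff_derivative_ne_zero hirr]
    intro h0
    apply hd
    have h1 : aeval α (derivative (f.map (algebraMap A K))) = 0 := by
      rw [hv, derivative_mul, h0, zero_mul, zero_add, map_mul, minpoly.aeval, zero_mul]
    rw [derivative_map, aeval_map_algebraMap] at h1
    exact h1
  have hdeg := IsSepClosed.degree_eq_one_of_irreducible K hirr hsep
  obtain ⟨c, hc⟩ := minpoly.mem_range_of_degree_eq_one K α hdeg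
  have hαA : IsIntegral A α := ⟨f, hf, hα⟩
  have hcA : IsIntegral A c := by
    rw [← hc] at hαA
    exact (isIntegral_algebraMap_iff (algebraMap K 𝕃).injective).mp hαA
  obtain ⟨a, ha⟩ := IsIntegrallyClosed.isIntegral_iff.mp hcA
  exact ⟨a, by rw [IsScalarTower.algebraMap_apply A K 𝕃, ha, hc]⟩

variable [IsLocalRing A]

theorem exists_maximal_over :
    ∃ Q : Ideal (integralClosure A 𝕃), Q.IsMaximal ∧
      Q.comap (algebraMap A (integralClosure A 𝕃)) = maximalIdeal A := by
  apply Ideal.exists_ideal_over_maximal_of_isIntegral (maximalIdeal A)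
  have hinj : Function.Injective (algebraMap A (integralClosure A 𝕃)) := by
    intro x y hxy
    apply algebraMap_injective_L A K
    exact congrArg (fun b : integralClosure A 𝕃 => (b : 𝕃)) hxy
  rw [(RingHom.injective_iff_ker_eq_bot _).mp hinj]
  exact bot_le

include K in
theorem henselianLocalRing : HenselianLocalRing A := by
  obtain ⟨Q, hQmax, hQ⟩ := exists_maximal_over A K
  haveI := hQmax
  refine { toIsLocalRing := inferInstance, is_henselian := ?_ }
  intro f hf a₀ h₁ h₂
  classical
  set fL := f.map (algebraMap A 𝕃) with hfL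
  have hsplit : fL.Splits := IsAlgClosed.splits fL
  have hmon : fL.Monic := hf.map _
  have hne : fL ≠ 0 := hmon.ne_zero
  have hroot_int : ∀ r ∈ fL.roots, IsIntegral A r := by
    intro r hr
    have h := (mem_roots hne).mp hr
    refine ⟨f, hf, ?_⟩
    rw [← eval_map]
    exact h
  let φ : {r // r ∈ fL.roots} → integralClosure A 𝕃 := fun r => ⟨r.1, hroot_int r.1 r.2⟩
  have hprod : (fL.roots.attach.map (fun r =>
      algebraMap A (integralClosure A 𝕃) a₀ - φ r)).prod =
      algebraMap A (integralClosure A 𝕃) (f.eval a₀) := by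
    apply Subtype.ext
    have h1 := map_multiset_prod (integralClosure A 𝕃).val (fL.roots.attach.map (fun r =>
      algebraMap A (integralClosure A 𝕃) a₀ - φ r))
    rw [Multiset.map_map] at h1
    have h2 : (fL.roots.attach.map ((integralClosure A 𝕃).val ∘ fun r =>
        algebraMap A (integralClosure A 𝕃) a₀ - φ r)) =
        fL.roots.map (fun r => algebraMap A 𝕃 a₀ - r) := by
      conv_rhs => rw [← Multiset.attach_map_val fL.roots, Multiset.map_map]
      rfl
    rw [h2] at h1
    refine h1.trans ?_
    rw [← hsplit.eval_eq_prod_roots_of_monic hmon, hfL, eval_map, eval₂_at_apply]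
    rfl
  have hmem : (fL.roots.attach.map (fun r =>
      algebraMap A (integralClosure A 𝕃) a₀ - φ r)).prod ∈ Q := by
    rw [hprod]
    have : f.eval a₀ ∈ Q.comap (algebraMap A (integralClosure A 𝕃)) := by rw [hQ]; exact h₁
    exact this
  obtain ⟨p, hp, hpQ⟩ := (hQmax.isPrime.multiset_prod_mem_iff_exists_mem _).mp hmem
  obtain ⟨r, -, rfl⟩ := Multiset.mem_map.mp hp
  -- the root `r`
  have hbroot : aeval (φ r) f = 0 := by
    apply Subtype.ext
    have h := (mem_roots hne).mp r.2
    have h3 : ((integralClosure A 𝕃).val (aeval (φ r) f)) = aeval r.1 f :=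
      (aeval_algHom_apply (integralClosure A 𝕃).val (φ r) f).symm
    refine h3.trans ?_
    rw [aeval_def, ← eval_map]
    exact h
  -- derivative is a unit at `φ r`
  have hder : aeval (φ r) (derivative f) ∉ Q := by
    intro hmemQ
    have hdvd := sub_dvd_eval_sub (algebraMap A (integralClosure A 𝕃) a₀) (φ r)
      ((derivative f).map (algebraMap A (integralClosure A 𝕃)))
    rw [eval_map_algebraMap, eval_map_algebraMap] at hdvd
    obtain ⟨w, hw⟩ := hdvd
    have h4 : aeval (algebraMap A (integralClosure A 𝕃) a₀) (derivative f) ∈ Q := by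
      have : aeval (algebraMap A (integralClosure A 𝕃) a₀) (derivative f) =
          (algebraMap A (integralClosure A 𝕃) a₀ - φ r) * w + aeval (φ r) (derivative f) := by
        rw [← hw]; ring
      rw [this]
      exact Q.add_mem (Q.mul_mem_right _ hpQ) hmemQ
    rw [aeval_algebraMap_apply_eq_algebraMap_eval] at h4
    have h5 : (derivative f).eval a₀ ∈ maximalIdeal A := by rw [← hQ]; exact h4
    exact (mem_maximalIdeal _).mp h5 h₂
  have hderL : aeval r.1 (derivative f) ≠ 0 := by
    intro h0
    apply hder
    have h3 : ((integralClosure A 𝕃).val (aeval (φ r) (derivative f))) =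
        aeval r.1 (derivative f) :=
      (aeval_algHom_apply (integralClosure A 𝕃).val (φ r) (derivative f)).symm
    have h6 : aeval (φ r) (derivative f) = 0 := Subtype.ext (h3.trans h0)
    rw [h6]
    exact Q.zero_mem
  have hrootL : aeval r.1 f = 0 := by
    have h3 : ((integralClosure A 𝕃).val (aeval (φ r) f)) = aeval r.1 f :=
      (aeval_algHom_apply (integralClosure A 𝕃).val (φ r) f).symm
    rw [← h3, hbroot]
    rfl
  obtain ⟨a, ha⟩ := exists_of_aeval_derivative_ne_zero A K f hf r.1 hrootL hderL
  refine ⟨a, ?_, ?_⟩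
  · apply algebraMap_injective_L A K
    rw [map_zero, ← aeval_algebraMap_apply_eq_algebraMap_eval, ha]
    exact hrootL
  · have h7 : algebraMap A (integralClosure A 𝕃) a = φ r := Subtype.ext ha
    have h8 : algebraMap A (integralClosure A 𝕃) (a - a₀) ∈ Q := by
      rw [map_sub, h7]
      have := Q.neg_mem hpQ
      rwa [neg_sub] at this
    rw [← hQ]
    exact h8

include K in
theorem isSepClosed_residueField : IsSepClosed (ResidueField A) := by
  obtain ⟨Q, hQmax, hQ⟩ := exists_maximal_over A K
  haveI := hQmax
  letI : Field (integralClosure A 𝕃 ⧸ Q) := Ideal.Quotient.field Q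
  apply IsSepClosed.of_exists_root
  intro p hpm hirr hsep
  obtain ⟨g, hgp, hgdeg, hgm⟩ := lifts_and_degree_eq_and_monic
    ((mem_lifts p).mpr (map_surjective (residue A) residue_surjective p)) hpm
  have hdeg : (g.map (algebraMap A 𝕃)).degree ≠ 0 := by
    rw [hgm.degree_map, hgdeg]
    exact (degree_pos_of_irreducible hirr).ne'
  obtain ⟨α, hα⟩ := IsAlgClosed.exists_root (g.map (algebraMap A 𝕃)) hdeg
  have hαroot : aeval α g = 0 := by
    rw [aeval_def, ← eval_map]; exact hα
  let b : integralClosure A 𝕃 := ⟨α, g, hgm, hαroot⟩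
  have hbroot : aeval b g = 0 := by
    apply Subtype.ext
    have h3 : ((integralClosure A 𝕃).val (aeval b g)) = aeval α g :=
      (aeval_algHom_apply (integralClosure A 𝕃).val b g).symm
    exact h3.trans hαroot
  let π : integralClosure A 𝕃 →+* integralClosure A 𝕃 ⧸ Q := Ideal.Quotient.mk Q
  let ι : ResidueField A →+* integralClosure A 𝕃 ⧸ Q :=
    Ideal.quotientMap Q (algebraMap A (integralClosure A 𝕃)) (le_of_eq hQ.symm)
  have hι : ι.comp (residue A) = π.comp (algebraMap A (integralClosure A 𝕃)) := by
    ext a; rfl
  have hpι : p.map ι = g.map (π.comp (algebraMap A (integralClosure A 𝕃))) := by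
    rw [← hgp, map_map, hι]
  have hsep' : (p.map ι).Separable := hsep.map
  have hroot' : (p.map ι).eval (π b) = 0 := by
    rw [hpι, eval_map, ← hom_eval₂]
    have h0 : eval₂ (algebraMap A (integralClosure A 𝕃)) b g = 0 := hbroot
    rw [h0, map_zero]
  have hder' : eval (π b) (derivative (p.map ι)) ≠ 0 := by
    have h1 := hsep'.aeval_derivative_ne_zero (x := π b)
      (by rw [coe_aeval_eq_eval]; exact hroot')
    rwa [coe_aeval_eq_eval] at h1
  have hderb : aeval b (derivative g) ∉ Q := by
    intro hmem
    apply hder'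
    rw [hpι, derivative_map, eval_map, ← hom_eval₂]
    exact Ideal.Quotient.eq_zero_iff_mem.mpr hmem
  have hderL : aeval α (derivative g) ≠ 0 := by
    intro h0
    apply hderb
    have h3 : ((integralClosure A 𝕃).val (aeval b (derivative g))) = aeval α (derivative g) :=
      (aeval_algHom_apply (integralClosure A 𝕃).val b (derivative g)).symm
    have h6 : aeval b (derivative g) = 0 := Subtype.ext (h3.trans h0)
    rw [h6]; exact Q.zero_mem
  obtain ⟨a, ha⟩ := exists_of_aeval_derivative_ne_zero A K g hgm α hαroot hderL
  refine ⟨residue A a, ?_⟩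
  rw [← hgp, eval_map, eval₂_at_apply]
  have h9 : g.eval a = 0 := by
    apply algebraMap_injective_L A K
    rw [map_zero, ← aeval_algebraMap_apply_eq_algebraMap_eval, ha]; exact hαroot
  rw [h9, map_zero]

end

end Groth.Agent.Helper1.SHN
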