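import Mathlib
import Groth.Prelude.Def_SGA4b
import Groth.Prelude.Def_Hens2
import Groth.Agent.Lib.Helper1.SHC4
import Groth.Agent.Lib.Helper1.SHC13

/-!
# The fibre functor at a geometric point is the functor of sections over the strict
localization (helper1)
-/

set_option autoImplicit false
set_option linter.unusedSectionVars false
set_option linter.style.haveILetI false
open CategoryTheory CategoryTheory.Limits AlgebraicGeometry Opposite
universe u

namespace Groth.Agent.Helper1.SL

/-- the closed geometric point as a point of the fibre over the final object -/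
noncomputable def x₀ (R : Type u) [CommRing R] [HenselianLocalRing R]
    [IsSepClosed (IsLocalRing.ResidueField R)] :
    (Scheme.pointSmallEtale (SHC.sR R)).fiber.obj (EtCoh.top (Spec (CommRingCat.of R))) :=
  Over.homMk (SHC.sR R) (Category.comp_id _)

theorem isIso_toFiber (R : Type u) [CommRing R] [HenselianLocalRing R]
    [IsSepClosed (IsLocalRing.ResidueField R)] (F : EtDesc.Sh (Spec (CommRingCat.of R))) :
    IsIso ((Scheme.pointSmallEtale (SHC.sR R)).toPresheafFiber
        (EtCoh.top (Spec (CommRingCat.of R))) (x₀ R) F.obj) := by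
  haveI := SHC.preservesFilteredColimits_forget_type.{u}
  exact (isIso_iff_bijective _).2 (SHC.bijective_toPresheafFiber_gen R F.obj _)

/-- sections over a strictly henselian local scheme are the stalk at the closed geometric point,
naturally -/
noncomputable def sectionsIsoFiber (R : Type u) [CommRing R] [HenselianLocalRing R]
    [IsSepClosed (IsLocalRing.ResidueField R)] :
    (sheafSections (Spec (CommRingCat.of R)).smallEtaleTopology (Type (u + 1))).obj
        (op (EtCoh.top (Spec (CommRingCat.of R)))) ≅
      (Scheme.pointSmallEtale (SHC.sR R)).sheafFiber (A := Type (u + 1)) :=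
  NatIso.ofComponents (fun F =>
    @asIso _ _ _ _ ((Scheme.pointSmallEtale (SHC.sR R)).toPresheafFiber
        (EtCoh.top (Spec (CommRingCat.of R))) (x₀ R) F.obj) (isIso_toFiber R F))
    (by
      intro F G v
      exact ((Scheme.pointSmallEtale (SHC.sR R)).toPresheafFiber_naturality v.hom
        (EtCoh.top (Spec (CommRingCat.of R))) (x₀ R)).symm)

theorem nonempty_fiber_iso (X : Scheme.{u}) (x : X)
    (R : Type u) [CommRing R] [IsLocalRing R] [Algebra (X.presheaf.stalk x) R]
    [IsLocalHom (algebraMap (X.presheaf.stalk x) R)]
    [Hensel.IsStrictHenselization (X.presheaf.stalk x) R]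
    [IsSepClosed (IsLocalRing.ResidueField R)] :
    Nonempty ((Scheme.pointSmallEtale (Hens2.geomPt X x R)).sheafFiber (A := Type (u + 1)) ≅
      EtDesc.pullSh (Hens2.specOf X x R) ⋙
        (sheafSections (Spec (CommRingCat.of R)).smallEtaleTopology (Type (u + 1))).obj
          (op (EtCoh.top (Spec (CommRingCat.of R))))) := by
  haveI : HenselianLocalRing R :=
    Hensel.IsStrictHenselization.henselian (R := X.presheaf.stalk x) (S := R)
  haveI : (EtDesc.pushSh (Hens2.specOf X x R)).IsRightAdjoint :=
    (EtDesc.adjSh (Hens2.specOf X x R)).isRightAdjoint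
  let e1 := SHC.stalkPullIso (Hens2.specOf X x R) (SHC.sR R) (Type (u + 1))
  exact ⟨e1.symm ≪≫ Functor.isoWhiskerLeft (EtDesc.pullSh (Hens2.specOf X x R))
    (sectionsIsoFiber R).symm⟩

end Groth.Agent.Helper1.SL
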