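import Mathlib
import Groth.Prelude.Def_Hensel
import Groth.Prelude.Def_Hens2
import Groth.Agent.Lib.Helper1.SP1

set_option autoImplicit false
set_option linter.unusedSectionVars false
set_option linter.style.haveILetI false
open CategoryTheory CategoryTheory.Limits AlgebraicGeometry Opposite
universe u

namespace Groth.Agent.Helper1.SP

open IsLocalRing

section Pts

variable (X : Scheme.{u}) (x : X) (R : Type u) [CommRing R] [IsLocalRing R]
  [Algebra (X.presheaf.stalk x) R] [IsLocalHom (algebraMap (X.presheaf.stalk x) R)]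

theorem specOf_closedPoint : (Hens2.specOf X x R).base (closedPoint R) = x := by
  have h1 : (Hens2.specOf X x R).base (closedPoint R) =
      (X.fromSpecStalk x).base ((Spec.map (CommRingCat.ofHom
        (algebraMap (X.presheaf.stalk x) R))).base (closedPoint R)) := rfl
  have h2 : (Spec.map (CommRingCat.ofHom (algebraMap (X.presheaf.stalk x) R))).base
      (closedPoint R) = closedPoint (X.presheaf.stalk x) :=
    IsLocalRing.comap_closedPoint (algebraMap (X.presheaf.stalk x) R)
  rw [h1, h2]
  exact Scheme.fromSpecStalk_closedPoint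

theorem geomPt_apply (pt : Spec (CommRingCat.of (ResidueField R))) :
    (Hens2.geomPt X x R).base pt = x := by
  have h1 : (Hens2.geomPt X x R).base pt = (Hens2.specOf X x R).base
      ((Spec.map (CommRingCat.ofHom (residue R))).base pt) := rfl
  have h2 : (Spec.map (CommRingCat.ofHom (residue R))).base pt = closedPoint R :=
    PrimeSpectrum.comap_residue R pt
  rw [h1, h2]
  exact specOf_closedPoint X x R

end Pts

section Main2

variable (X : Scheme.{u}) (x x' : X)
    (R : Type u) [CommRing R] [IsLocalRing R] [Algebra (X.presheaf.stalk x) R]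
    [IsLocalHom (algebraMap (X.presheaf.stalk x) R)]
    [Hensel.IsStrictHenselization (X.presheaf.stalk x) R]
    (R' : Type u) [CommRing R'] [IsLocalRing R'] [Algebra (X.presheaf.stalk x') R']
    [IsLocalHom (algebraMap (X.presheaf.stalk x') R')]
    [Hensel.IsStrictHenselization (X.presheaf.stalk x') R']

/-- cancel the monomorphism `fromSpecStalk` and pass to ring maps. -/
theorem ringHom_eq_of_spec_eq {B : Type u} [CommRing B]
    (a b : X.presheaf.stalk x →+* B)
    (h : Spec.map (CommRingCat.ofHom a) ≫ X.fromSpecStalk x =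
      Spec.map (CommRingCat.ofHom b) ≫ X.fromSpecStalk x) : a = b := by
  have e := (cancel_mono (X.fromSpecStalk x)).1 h
  have e' := Spec.map_injective e
  exact congrArg CommRingCat.Hom.hom e'

theorem restrict_injective (g₁ g₂ : Spec (CommRingCat.of R') ⟶ Spec (CommRingCat.of R))
    (h1 : g₁ ≫ Hens2.specOf X x R = Hens2.specOf X x' R')
    (h2 : g₂ ≫ Hens2.specOf X x R = Hens2.specOf X x' R')
    (h3 : Spec.map (CommRingCat.ofHom (IsLocalRing.residue R')) ≫ g₁ =
        Spec.map (CommRingCat.ofHom (IsLocalRing.residue R')) ≫ g₂) : g₁ = g₂ := by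
  haveI : HenselianLocalRing R' :=
    Hensel.IsStrictHenselization.henselian (R := X.presheaf.stalk x') (S := R')
  obtain ⟨γ₁, rfl⟩ : ∃ γ, g₁ = Spec.map γ := ⟨Spec.preimage g₁, (Spec.map_preimage g₁).symm⟩
  obtain ⟨γ₂, rfl⟩ : ∃ γ, g₂ = Spec.map γ := ⟨Spec.preimage g₂, (Spec.map_preimage g₂).symm⟩
  have e1 : γ₁.hom.comp (algebraMap (X.presheaf.stalk x) R) =
      γ₂.hom.comp (algebraMap (X.presheaf.stalk x) R) := by
    refine ringHom_eq_of_spec_eq X x (B := R') _ _ ?_
    have a1 : Spec.map (CommRingCat.ofHom (γ₁.hom.comp (algebraMap (X.presheaf.stalk x) R))) =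
        Spec.map γ₁ ≫ Spec.map (CommRingCat.ofHom (algebraMap (X.presheaf.stalk x) R)) := by
      rw [← Spec.map_comp]; rfl
    have a2 : Spec.map (CommRingCat.ofHom (γ₂.hom.comp (algebraMap (X.presheaf.stalk x) R))) =
        Spec.map γ₂ ≫ Spec.map (CommRingCat.ofHom (algebraMap (X.presheaf.stalk x) R)) := by
      rw [← Spec.map_comp]; rfl
    rw [a1, a2, Category.assoc, Category.assoc]
    exact h1.trans h2.symm
  have e2 : (residue R').comp γ₁.hom = (residue R').comp γ₂.hom := by
    have a1 : Spec.map (CommRingCat.ofHom ((residue R').comp γ₁.hom)) =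
        Spec.map (CommRingCat.ofHom (IsLocalRing.residue R')) ≫ Spec.map γ₁ := by
      rw [← Spec.map_comp]; rfl
    have a2 : Spec.map (CommRingCat.ofHom ((residue R').comp γ₂.hom)) =
        Spec.map (CommRingCat.ofHom (IsLocalRing.residue R')) ≫ Spec.map γ₂ := by
      rw [← Spec.map_comp]; rfl
    have e := Spec.map_injective (a1.trans (h3.trans a2.symm))
    exact congrArg CommRingCat.Hom.hom e
  have hη : ((residue R').comp γ₁.hom).comp (algebraMap (X.presheaf.stalk x) R) =
      (residue R').comp (γ₁.hom.comp (algebraMap (X.presheaf.stalk x) R)) := by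
    rw [RingHom.comp_assoc]
  obtain ⟨γ, -, hu⟩ := exists_unique_lift (X.presheaf.stalk x) R R'
    (γ₁.hom.comp (algebraMap (X.presheaf.stalk x) R)) ((residue R').comp γ₁.hom) hη
  have u1 : γ₁.hom = γ := hu _ ⟨rfl, rfl⟩
  have u2 : γ₂.hom = γ := hu _ ⟨e1.symm, e2.symm⟩
  have : γ₁ = γ₂ := CommRingCat.hom_ext (u1.trans u2.symm)
  rw [this]

theorem specializes_of_geomPt (h : Spec (CommRingCat.of (IsLocalRing.ResidueField R')) ⟶
      Spec (CommRingCat.of R))
    (hh : h ≫ Hens2.specOf X x R = Hens2.geomPt X x' R') : x' ⤳ x := by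
  let pt : Spec (CommRingCat.of (IsLocalRing.ResidueField R')) :=
    closedPoint (IsLocalRing.ResidueField R')
  have hy : (h ≫ Hens2.specOf X x R).base pt = x' := by
    rw [hh]; exact geomPt_apply X x' R' pt
  have hr : (h ≫ Hens2.specOf X x R).base pt ∈ Set.range (X.fromSpecStalk x).base :=
    ⟨(Spec.map (CommRingCat.ofHom (algebraMap (X.presheaf.stalk x) R))).base (h.base pt), rfl⟩
  rw [hy, Scheme.range_fromSpecStalk] at hr
  exact hr

theorem restrict_surjective (h : Spec (CommRingCat.of (IsLocalRing.ResidueField R')) ⟶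
      Spec (CommRingCat.of R))
    (hh : h ≫ Hens2.specOf X x R = Hens2.geomPt X x' R') :
    ∃ g : Spec (CommRingCat.of R') ⟶ Spec (CommRingCat.of R),
        g ≫ Hens2.specOf X x R = Hens2.specOf X x' R' ∧
        Spec.map (CommRingCat.ofHom (IsLocalRing.residue R')) ≫ g = h := by
  haveI : HenselianLocalRing R' :=
    Hensel.IsStrictHenselization.henselian (R := X.presheaf.stalk x') (S := R')
  have hsp : x' ⤳ x := specializes_of_geomPt X x x' R R' h hh
  let c : X.presheaf.stalk x →+* R' :=
    (algebraMap (X.presheaf.stalk x') R').comp (X.presheaf.stalkSpecializes hsp).hom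
  have hc : Spec.map (CommRingCat.ofHom c) ≫ X.fromSpecStalk x = Hens2.specOf X x' R' := by
    have a1 : Spec.map (CommRingCat.ofHom c) =
        Spec.map (CommRingCat.ofHom (algebraMap (X.presheaf.stalk x') R')) ≫
          Spec.map (X.presheaf.stalkSpecializes hsp) := by
      rw [← Spec.map_comp]; rfl
    rw [a1, Category.assoc, Scheme.SpecMap_stalkSpecializes_fromSpecStalk]
  obtain ⟨η', rfl⟩ : ∃ γ, h = Spec.map γ := ⟨Spec.preimage h, (Spec.map_preimage h).symm⟩
  have hη : η'.hom.comp (algebraMap (X.presheaf.stalk x) R) = (residue R').comp c := by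
    refine ringHom_eq_of_spec_eq X x (B := ResidueField R') _ _ ?_
    have a1 : Spec.map (CommRingCat.ofHom (η'.hom.comp (algebraMap (X.presheaf.stalk x) R))) =
        Spec.map η' ≫ Spec.map (CommRingCat.ofHom (algebraMap (X.presheaf.stalk x) R)) := by
      rw [← Spec.map_comp]; rfl
    have a2 : Spec.map (CommRingCat.ofHom ((residue R').comp c)) =
        Spec.map (CommRingCat.ofHom (residue R')) ≫ Spec.map (CommRingCat.ofHom c) := by
      rw [← Spec.map_comp]; rfl
    rw [a1, a2, Category.assoc, Category.assoc, hc]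
    exact hh
  obtain ⟨γ, ⟨hγ1, hγ2⟩, -⟩ := exists_unique_lift (X.presheaf.stalk x) R R' c η'.hom hη
  refine ⟨Spec.map (CommRingCat.ofHom γ), ?_, ?_⟩
  · have a1 : Spec.map (CommRingCat.ofHom γ) ≫
        Spec.map (CommRingCat.ofHom (algebraMap (X.presheaf.stalk x) R)) =
        Spec.map (CommRingCat.ofHom c) := by
      rw [← Spec.map_comp, ← hγ1]; rfl
    show Spec.map (CommRingCat.ofHom γ) ≫
      (Spec.map (CommRingCat.ofHom (algebraMap (X.presheaf.stalk x) R)) ≫ X.fromSpecStalk x) = _
    rw [← Category.assoc, a1, hc]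
  · rw [← Spec.map_comp]
    congr 1
    exact CommRingCat.hom_ext hγ2

end Main2

end Groth.Agent.Helper1.SP
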