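import Mathlib
import Groth.Prelude.Def_Hensel
import Groth.Prelude.Def_Hens2
import Groth.Agent.Lib.Helper1.SP2
import Groth.Agent.Lib.Helper1.SP3

set_option autoImplicit false
set_option linter.unusedSectionVars false
set_option linter.style.haveILetI false
open CategoryTheory CategoryTheory.Limits AlgebraicGeometry Opposite
universe u

namespace Groth.Agent.Helper1.SP

open IsLocalRing

section Main4

variable (X : Scheme.{u}) (x x' : X)
    (R : Type u) [CommRing R] [IsLocalRing R] [Algebra (X.presheaf.stalk x) R]
    [IsLocalHom (algebraMap (X.presheaf.stalk x) R)]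
    [Hensel.IsStrictHenselization (X.presheaf.stalk x) R]
    (R' : Type u) [CommRing R'] [IsLocalRing R'] [Algebra (X.presheaf.stalk x') R']
    [IsLocalHom (algebraMap (X.presheaf.stalk x') R')]
    [Hensel.IsStrictHenselization (X.presheaf.stalk x') R']

theorem specializes_of_arrow (g : Spec (CommRingCat.of R') ⟶ Spec (CommRingCat.of R))
    (hg : g ≫ Hens2.specOf X x R = Hens2.specOf X x' R') : x' ⤳ x := by
  have hy : (g ≫ Hens2.specOf X x R).base (closedPoint R') = x' := by
    rw [hg]; exact specOf_closedPoint X x' R'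
  have hr : (g ≫ Hens2.specOf X x R).base (closedPoint R') ∈
      Set.range (X.fromSpecStalk x).base :=
    ⟨(Spec.map (CommRingCat.ofHom (algebraMap (X.presheaf.stalk x) R))).base
      (g.base (closedPoint R')), rfl⟩
  rw [hy, Scheme.range_fromSpecStalk] at hr
  exact hr

theorem exists_arrow_of_specializes (hsp : x' ⤳ x) :
    ∃ g : Spec (CommRingCat.of R') ⟶ Spec (CommRingCat.of R),
      g ≫ Hens2.specOf X x R = Hens2.specOf X x' R' := by
  haveI : HenselianLocalRing R' :=
    Hensel.IsStrictHenselization.henselian (R := X.presheaf.stalk x') (S := R')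
  haveI : HenselianLocalRing R :=
    Hensel.IsStrictHenselization.henselian (R := X.presheaf.stalk x) (S := R)
  haveI : IsSepClosed (ResidueField R') :=
    (Hensel.IsStrictHenselization.isSepClosure (R := X.presheaf.stalk x') (S := R')).sep_closed
  let c : X.presheaf.stalk x →+* R' :=
    (algebraMap (X.presheaf.stalk x') R').comp (X.presheaf.stalkSpecializes hsp).hom
  have hc : Spec.map (CommRingCat.ofHom c) ≫ X.fromSpecStalk x = Hens2.specOf X x' R' := by
    have a1 : Spec.map (CommRingCat.ofHom c) =
        Spec.map (CommRingCat.ofHom (algebraMap (X.presheaf.stalk x') R')) ≫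
          Spec.map (X.presheaf.stalkSpecializes hsp) := by
      rw [← Spec.map_comp]; rfl
    rw [a1, Category.assoc, Scheme.SpecMap_stalkSpecializes_fromSpecStalk]
  have hψ : HFlat.IsSHensHom (algebraMap (X.presheaf.stalk x) R) :=
    HFlat.IsSHensHom.of_isStrictHenselization (X.presheaf.stalk x) R
  obtain ⟨η, hη⟩ := exists_ringHom_to_sepClosed hψ (ResidueField R') ((residue R').comp c)
  obtain ⟨γ, ⟨hγ1, -⟩, -⟩ := exists_unique_lift (X.presheaf.stalk x) R R' c η hη
  refine ⟨Spec.map (CommRingCat.ofHom γ), ?_⟩
  have a1 : Spec.map (CommRingCat.ofHom γ) ≫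
      Spec.map (CommRingCat.ofHom (algebraMap (X.presheaf.stalk x) R)) =
      Spec.map (CommRingCat.ofHom c) := by
    rw [← Spec.map_comp, ← hγ1]; rfl
  show Spec.map (CommRingCat.ofHom γ) ≫
    (Spec.map (CommRingCat.ofHom (algebraMap (X.presheaf.stalk x) R)) ≫ X.fromSpecStalk x) = _
  rw [← Category.assoc, a1, hc]

end Main4

end Groth.Agent.Helper1.SP
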