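import Mathlib
import Groth.Prelude.Def_EtOpen
import Groth.Agent.Lib.Helper1.SHC8
import Groth.Agent.Lib.Helper1.ES1

/-!
# Opens of `X` = subobjects of the final object of the étale topos (helper1, SUB1)
-/

set_option autoImplicit false
set_option linter.unusedSectionVars false
set_option linter.style.haveILetI false

open CategoryTheory CategoryTheory.Limits AlgebraicGeometry Opposite

namespace Groth.Agent.Helper1.SUB

universe u

variable (X : Scheme.{u})

/-- the lifted representable presheaf of an open -/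
noncomputable abbrev PW (W : X.Opens) : X.Etaleᵒᵖ ⥤ Type (u+1) :=
  yoneda.obj (Scheme.Etale.mk W.ι) ⋙ uliftFunctor.{u+1, u}

theorem subsingleton_PW (W : X.Opens) (U : X.Etale) : Subsingleton ((PW X W).obj (op U)) := by
  haveI := SHC.subsingleton_hom X W U
  change Subsingleton (ULift.{u+1} (U ⟶ Scheme.Etale.mk W.ι))
  infer_instance

theorem nonempty_PW_iff (W : X.Opens) (U : X.Etale) :
    Nonempty ((PW X W).obj (op U)) ↔ Set.range U.hom.base ⊆ (W : Set X) := by
  rw [← SHC.nonempty_hom_iff]
  exact ⟨fun ⟨x⟩ => ⟨x.down⟩, fun ⟨φ⟩ => ⟨ULift.up φ⟩⟩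

theorem isSheaf_PW (W : X.Opens) : Presheaf.IsSheaf X.smallEtaleTopology (PW X W) := by
  rw [isSheaf_iff_isSheaf_of_type]
  intro U R hR fam _
  have hne : Nonempty ((PW X W).obj (op U)) := by
    rw [nonempty_PW_iff]
    rintro _ ⟨x, rfl⟩
    obtain ⟨V, g, v, hg, hv⟩ := ES.pointwise_of_mem U R hR x
    have h1 : Set.range V.hom.base ⊆ (W : Set X) := (nonempty_PW_iff X W V).1 ⟨fam g hg⟩
    have hw : g.left ≫ U.hom = V.hom := Over.w g.hom
    have h2 : U.hom.base x = V.hom.base v := by
      rw [← hv, ← hw]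
      rfl
    rw [h2]
    exact h1 ⟨v, rfl⟩
  obtain ⟨t⟩ := hne
  refine ⟨t, ?_, ?_⟩
  · intro V g hg
    haveI := subsingleton_PW X W V
    exact Subsingleton.elim _ _
  · intro t' _
    haveI := subsingleton_PW X W U
    exact Subsingleton.elim _ _

/-- the sheaf of an open -/
noncomputable def SW (W : X.Opens) : EtDesc.Sh X := ⟨PW X W, isSheaf_PW X W⟩

noncomputable def repIso (W : X.Opens) : SW X W ≅ EtDesc.repSh (EtDesc.ofOpen W) :=
  sheafificationIso (SW X W)

theorem mono_of_subsingleton {F G : EtDesc.Sh X} (f : F ⟶ G)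
    (h : ∀ U : X.Etale, Subsingleton (F.obj.obj (op U))) : Mono f := by
  haveI : ∀ U : X.Etaleᵒᵖ, Mono (f.hom.app U) := by
    intro U
    rw [mono_iff_injective]
    intro a b _
    haveI := h U.unop
    exact Subsingleton.elim _ _
  haveI : Mono f.hom := NatTrans.mono_of_mono_app _
  exact Sheaf.Hom.mono_of_presheaf_mono _ _ f

theorem subsingleton_terminal (U : X.Etale) :
    Subsingleton ((⊤_ (EtDesc.Sh X)).obj.obj (op U)) := by
  let G : EtDesc.Sh X ⥤ Type (u+1) :=
    sheafToPresheaf X.smallEtaleTopology (Type (u+1)) ⋙ (evaluation _ _).obj (op U)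
  have hT : IsTerminal (G.obj (⊤_ (EtDesc.Sh X))) :=
    IsTerminal.isTerminalObj G _ terminalIsTerminal
  constructor
  intro a b
  have := hT.hom_ext (↾(fun _ : PUnit.{u+2} => a)) (↾(fun _ : PUnit.{u+2} => b))
  exact ConcreteCategory.congr_hom this PUnit.unit

theorem subsingleton_of_mono (F : EtDesc.Sh X) [Mono (terminal.from F)] (U : X.Etale) :
    Subsingleton (F.obj.obj (op U)) := by
  haveI : Mono (terminal.from F).hom := inferInstance
  have hm : Mono ((terminal.from F).hom.app (op U)) :=
    (NatTrans.mono_iff_mono_app _).1 inferInstance (op U)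
  have hinj := (mono_iff_injective ((terminal.from F).hom.app (op U))).1 hm
  constructor
  intro a b
  apply hinj
  haveI := subsingleton_terminal X U
  exact Subsingleton.elim _ _

section Classify

variable (F : EtDesc.Sh X)

/-- the open subset attached to a subsheaf of the final sheaf -/
def suppOpen : X.Opens :=
  ⟨⋃ (U : X.Etale) (_ : Nonempty (F.obj.obj (op U))), Set.range U.hom.base, by
    apply isOpen_iUnion; intro U; apply isOpen_iUnion; intro _
    exact U.hom.isOpenMap.isOpen_range⟩

variable (hF : ∀ U : X.Etale, Subsingleton (F.obj.obj (op U)))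

include hF in
theorem nonempty_iff (U : X.Etale) :
    Nonempty (F.obj.obj (op U)) ↔ Set.range U.hom.base ⊆ (suppOpen X F : Set X) := by
  constructor
  · intro h x hx
    exact Set.mem_iUnion₂.2 ⟨U, h, hx⟩
  · intro h
    let R : Sieve U :=
      { arrows := fun V _ => Nonempty (F.obj.obj (op V))
        downward_closed := by
          intro V V' g hg k
          exact hg.map (fun x => F.obj.map k.op x) }
    have hR : R ∈ X.smallEtaleTopology U := by
      apply SHC.mem_of_pointwise
      intro x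
      have hx : U.hom.base x ∈ (suppOpen X F : Set X) := h ⟨x, rfl⟩
      obtain ⟨U', hU', ⟨u', hu'⟩⟩ := Set.mem_iUnion₂.1 hx
      obtain ⟨z, hz1, -⟩ := Scheme.Pullback.exists_preimage_pullback (f := U.hom) (g := U'.hom)
        x u' hu'.symm
      let V : X.Etale := Scheme.Etale.mk (pullback.fst U.hom U'.hom ≫ U.hom)
      let g : V ⟶ U := MorphismProperty.Over.homMk (pullback.fst U.hom U'.hom) rfl trivial
      let g' : V ⟶ U' := MorphismProperty.Over.homMk (pullback.snd U.hom U'.hom)
        pullback.condition.symm trivial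
      exact ⟨V, g, z, hU'.map (fun x => F.obj.map g'.op x), hz1⟩
    have hsh := (isSheaf_iff_isSheaf_of_type _ _).1 F.2 R hR
    let fam : Presieve.FamilyOfElements F.obj R.arrows := fun V g hg => hg.some
    have hcomp : fam.Compatible := by
      intro V₁ V₂ W g₁ g₂ f₁ f₂ h₁ h₂ _
      haveI := hF W
      exact Subsingleton.elim _ _
    obtain ⟨t, -, -⟩ := hsh fam hcomp
    exact ⟨t⟩

include hF in
theorem nonempty_iso : Nonempty (F ≅ SW X (suppOpen X F)) := by
  have h := nonempty_iff X F hF
  let e : F.obj ≅ PW X (suppOpen X F) := by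
    refine NatIso.ofComponents (fun U => Equiv.toIso ?_) ?_
    · haveI := hF U.unop
      haveI := subsingleton_PW X (suppOpen X F) U.unop
      exact equivOfSubsingletonOfSubsingleton
        (fun x => Classical.choice ((nonempty_PW_iff X _ U.unop).2 ((h U.unop).1 ⟨x⟩)))
        (fun φ => Classical.choice ((h U.unop).2 ((nonempty_PW_iff X _ U.unop).1 ⟨φ⟩)))
    · intro U V k
      haveI := subsingleton_PW X (suppOpen X F) V.unop
      ext x
      exact Subsingleton.elim _ _
  exact ⟨(fullyFaithfulSheafToPresheaf _ _).preimageIso e⟩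

end Classify

theorem main3896 :
    (∀ U : X.Opens, Mono (terminal.from (EtDesc.repSh (EtDesc.ofOpen U)))) ∧
    (∀ U V : X.Opens, U ≤ V ↔
      Nonempty (EtDesc.repSh (EtDesc.ofOpen U) ⟶ EtDesc.repSh (EtDesc.ofOpen V))) ∧
    (∀ F : EtDesc.Sh X, Mono (terminal.from F) →
      ∃ U : X.Opens, Nonempty (F ≅ EtDesc.repSh (EtDesc.ofOpen U))) := by
  refine ⟨fun U => ?_, fun U V => ⟨fun h => ?_, fun ⟨φ⟩ => ?_⟩, fun F hF => ?_⟩
  · apply mono_of_subsingleton
    intro V
    haveI : Subsingleton (((sheafToPresheaf X.smallEtaleTopology (Type (u+1))).obj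
      (SW X U)).obj (op V)) := subsingleton_PW X U V
    exact (((sheafToPresheaf _ _).mapIso (repIso X U)).app (op V)).toEquiv.symm.subsingleton
  · have hr : Set.range (Scheme.Etale.mk U.ι).hom.base ⊆ (V : Set X) := by
      change Set.range U.ι.base ⊆ _
      rw [Scheme.Opens.range_ι]
      exact SetLike.coe_subset_coe.2 h
    obtain ⟨g⟩ := (SHC.nonempty_hom_iff X V (Scheme.Etale.mk U.ι)).2 hr
    exact ⟨(presheafToSheaf _ _).map
      (Functor.whiskerRight (yoneda.map g) uliftFunctor.{u+1, u})⟩
  · let ψ : SW X U ⟶ SW X V := (repIso X U).hom ≫ φ ≫ (repIso X V).inv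
    have x : (PW X V).obj (op (Scheme.Etale.mk U.ι)) :=
      ψ.hom.app (op (Scheme.Etale.mk U.ι)) (ULift.up (𝟙 _))
    have hr := (nonempty_PW_iff X V (Scheme.Etale.mk U.ι)).1 ⟨x⟩
    change Set.range U.ι.base ⊆ _ at hr
    rw [Scheme.Opens.range_ι] at hr
    exact SetLike.coe_subset_coe.1 hr
  · haveI := hF
    obtain ⟨e⟩ := nonempty_iso X F (subsingleton_of_mono X F)
    exact ⟨suppOpen X F, ⟨e ≪≫ repIso X _⟩⟩

end Groth.Agent.Helper1.SUB
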