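import Mathlib
import Groth.Agent.Lib.Helper1.FormsRat
import Groth.Agent.Lib.Helper1.FormsRS

/-!
# The Tsen–Lang theorem (systems version)
-/

set_option autoImplicit false
universe u v
open MvPolynomial

namespace Groth.Agent.Helper1.TsenLang

section Transfer

theorem isCi_succ {K : Type*} [Field K] {i : ℕ} (h : Curves.IsCi K i) :
    Curves.IsCi K (i + 1) := by
  intro r n f d hf hd hlt
  apply h r n f d hf hd
  refine lt_of_le_of_lt (Finset.sum_le_sum fun ρ _ => ?_) hlt
  exact Nat.pow_le_pow_right (hd ρ) (Nat.le_succ i)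

theorem isCi_of_ringEquiv {K : Type u} {L : Type v} [Field K] [Field L] (e : K ≃+* L) {i : ℕ}
    (h : Curves.IsCi K i) : Curves.IsCi L i := by
  let _ : Algebra K L := e.toRingHom.toAlgebra
  have halg : Algebra.IsAlgebraic K L := ⟨fun y => by
    have hy : y = algebraMap K L (e.symm y) := (e.apply_symm_apply y).symm
    rw [hy]
    exact isAlgebraic_algebraMap _⟩
  exact Groth.Agent.Helper1.FormsRS.isCi_of_isAlgebraic K L i h

end Transfer

section Base

variable {k : Type u} [Field k] {n : ℕ}

/-- kill the first `i` variables -/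
noncomputable def killFirst (i : ℕ) : MvPolynomial (Fin n) k →ₐ[k] MvPolynomial (Fin n) k :=
  aeval (fun m : Fin n => if m.val < i then (0 : MvPolynomial (Fin n) k) else X m)

theorem killFirst_X (i : ℕ) (m : Fin n) :
    killFirst i (X m : MvPolynomial (Fin n) k) = if m.val < i then 0 else X m := by
  simp [killFirst]

theorem killFirst_succ_comp (i : ℕ) (p : MvPolynomial (Fin n) k) :
    killFirst (i + 1) (killFirst i p) = killFirst (i + 1) p := by
  have h : ((killFirst (k := k) (n := n) (i + 1)).comp (killFirst i)) = killFirst (i + 1) := by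
    apply MvPolynomial.algHom_ext
    intro m
    rw [AlgHom.comp_apply, killFirst_X]
    by_cases h1 : m.val < i
    · rw [if_pos h1, map_zero, killFirst_X, if_pos (by omega)]
    · rw [if_neg h1]
  exact AlgHom.congr_fun h p

theorem eval_zero_killFirst (i : ℕ) (p : MvPolynomial (Fin n) k) :
    eval (0 : Fin n → k) (killFirst i p) = eval 0 p := by
  have h : (eval (0 : Fin n → k)).comp (killFirst (k := k) (n := n) i).toRingHom =
      eval (0 : Fin n → k) := by
    apply MvPolynomial.ringHom_ext
    · intro r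
      show eval (0 : Fin n → k) (killFirst i (C r)) = eval 0 (C r)
      have : (C r : MvPolynomial (Fin n) k) = algebraMap k _ r := rfl
      rw [this, AlgHom.commutes]
    · intro m
      show eval (0 : Fin n → k) (killFirst i (X m)) = eval 0 (X m)
      rw [killFirst_X]
      split_ifs <;> simp
  exact RingHom.congr_fun h p

theorem le_height_maxZero (k : Type u) [Field k] (n : ℕ) :
    (n : ℕ∞) ≤ (RingHom.ker (eval (0 : Fin n → k))).height := by
  have hprime : ∀ i : ℕ, (RingHom.ker (killFirst (k := k) (n := n) i)).IsPrime :=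
    fun i => RingHom.ker_isPrime _
  have hm₀ : (RingHom.ker (eval (0 : Fin n → k))).IsPrime := RingHom.ker_isPrime _
  obtain ⟨toFun, htoFun⟩ : ∃ toFun : Fin (n + 1) → PrimeSpectrum (MvPolynomial (Fin n) k),
      ∀ i, (toFun i).asIdeal = RingHom.ker (killFirst (k := k) (n := n) i.val) :=
    ⟨fun i => ⟨RingHom.ker (killFirst i.val), hprime i.val⟩, fun _ => rfl⟩
  have hmono : StrictMono toFun := by
    rw [Fin.strictMono_iff_lt_succ]
    intro i
    rw [← PrimeSpectrum.asIdeal_lt_asIdeal, htoFun, htoFun, Fin.val_succ, Fin.val_castSucc]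
    refine lt_of_le_of_ne ?_ ?_
    · intro p hp
      rw [RingHom.mem_ker] at hp ⊢
      rw [← killFirst_succ_comp, hp, map_zero]
    · intro heq
      have h1 : (X i : MvPolynomial (Fin n) k) ∈ RingHom.ker (killFirst (k := k) (n := n) (i.val + 1)) := by
        rw [RingHom.mem_ker, killFirst_X, if_pos (Nat.lt_succ_self _)]
      rw [← heq, RingHom.mem_ker, killFirst_X, if_neg (lt_irrefl _)] at h1
      exact X_ne_zero i h1
  have hlast : (LTSeries.mk n toFun hmono).last ≤
      (⟨RingHom.ker (eval (0 : Fin n → k)), hm₀⟩ : PrimeSpectrum (MvPolynomial (Fin n) k)) := by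
    rw [← PrimeSpectrum.asIdeal_le_asIdeal]
    show (toFun (Fin.last n)).asIdeal ≤ _
    rw [htoFun]
    intro p hp
    rw [RingHom.mem_ker] at hp ⊢
    rw [← eval_zero_killFirst (Fin.last n).val, hp, map_zero]
  have h := Order.length_le_height hlast
  rw [← PrimeSpectrum.height_eq_orderHeight] at h
  exact h

theorem isCi_zero_of_isAlgClosed (k : Type u) [Field k] [IsAlgClosed k] : Curves.IsCi k 0 := by
  intro r n f d hf hd hlt
  have hrn : r < n := by simpa using hlt
  by_contra hcon
  push Not at hcon
  obtain ⟨I, hI⟩ : ∃ I : Ideal (MvPolynomial (Fin n) k), I = Ideal.span (Set.range f) := ⟨_, rfl⟩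
  obtain ⟨m₀, hm₀⟩ : ∃ m₀ : Ideal (MvPolynomial (Fin n) k),
      m₀ = RingHom.ker (eval (0 : Fin n → k)) := ⟨_, rfl⟩
  have hm₀prime : m₀.IsPrime := by rw [hm₀]; exact RingHom.ker_isPrime _
  have hmem : ∀ p, p ∈ m₀ ↔ eval (0 : Fin n → k) p = 0 := fun p => by
    rw [hm₀, RingHom.mem_ker]
  have haeval : ∀ (a : Fin n → k) (p : MvPolynomial (Fin n) k), aeval a p = eval a p :=
    fun a p => rfl
  have hfm : ∀ ρ, f ρ ∈ m₀ := by
    intro ρ
    rw [hmem, eval_zero, constantCoeff_eq]
    apply (hf ρ).coeff_eq_zero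
    rw [map_zero]
    exact (hd ρ).ne
  have hIm : I ≤ m₀ := by
    rw [hI]
    exact Ideal.span_le.mpr (by rintro _ ⟨ρ, rfl⟩; exact hfm ρ)
  have hzero : zeroLocus k I = {0} := by
    ext a
    constructor
    · intro ha
      by_contra hne
      obtain ⟨ρ, hρ⟩ := hcon a hne
      apply hρ
      have h1 := ha (f ρ) (by rw [hI]; exact Ideal.subset_span (Set.mem_range_self ρ))
      rw [haeval] at h1
      exact h1
    · intro ha
      rw [Set.mem_singleton_iff] at ha
      rw [ha]
      intro p hp
      rw [haeval]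
      exact (hmem p).mp (hIm hp)
  have hrad : m₀ ≤ I.radical := by
    rw [← vanishingIdeal_zeroLocus_eq_radical (K := k) I, hzero]
    intro p hp a ha
    rw [Set.mem_singleton_iff] at ha
    rw [ha, haeval]
    exact (hmem p).mp hp
  have hmin : m₀ ∈ I.minimalPrimes := by
    refine ⟨⟨hm₀prime, hIm⟩, ?_⟩
    rintro q ⟨hqprime, hIq⟩ _
    exact hrad.trans (hqprime.radical_le_iff.mpr hIq)
  have hht : m₀.height ≤ (Set.range f).ncard := by
    rw [hI] at hmin
    exact Ideal.height_le_card_of_mem_minimalPrimes_span (Set.finite_range f) hmin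
  have hcard : (Set.range f).ncard ≤ r := by
    have h1 := Set.ncard_image_le (f := f) (s := Set.univ) Set.finite_univ
    rw [Set.image_univ, Set.ncard_univ, Nat.card_eq_fintype_card, Fintype.card_fin] at h1
    exact h1
  have hn : (n : ℕ∞) ≤ m₀.height := by
    rw [hm₀]
    exact le_height_maxZero k n
  have h2 : (n : ℕ∞) ≤ (r : ℕ∞) := hn.trans (hht.trans (by exact_mod_cast hcard))
  have h3 : n ≤ r := by exact_mod_cast h2
  omega

end Base

section Tower

theorem isCi_adjoin_range (k : Type u) [Field k] [IsAlgClosed k] (F : Type u) [Field F]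
    [Algebra k F] : ∀ (j : ℕ) (x : Fin j → F),
    Curves.IsCi ↥(IntermediateField.adjoin k (Set.range x)) j := by
  intro j
  induction j with
  | zero =>
    intro x
    have h : IntermediateField.adjoin k (Set.range x) = ⊥ := by
      rw [Set.range_eq_empty, IntermediateField.adjoin_empty]
    rw [h]
    exact isCi_of_ringEquiv (IntermediateField.botEquiv k F).symm.toRingEquiv
      (isCi_zero_of_isAlgClosed k)
  | succ j ih =>
    intro x
    obtain ⟨x', hx'⟩ : ∃ x' : Fin j → F, x' = fun i => x i.castSucc := ⟨_, rfl⟩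
    obtain ⟨t, ht⟩ : ∃ t : F, t = x (Fin.last j) := ⟨_, rfl⟩
    have hrange : Set.range x = Set.range x' ∪ {t} := by
      ext y
      constructor
      · rintro ⟨i, rfl⟩
        rcases Fin.eq_castSucc_or_eq_last i with ⟨i', rfl⟩ | rfl
        · left; exact ⟨i', by rw [hx']⟩
        · right; rw [Set.mem_singleton_iff, ht]
      · rintro (⟨i', rfl⟩ | hy)
        · exact ⟨i'.castSucc, by rw [hx']⟩
        · rw [Set.mem_singleton_iff] at hy
          exact ⟨Fin.last j, by rw [hy, ht]⟩
    have IH := ih x'
    have h1 := IntermediateField.adjoin_adjoin_left k (Set.range x') ({t} : Set F)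
    rw [hrange, ← h1]
    show Curves.IsCi ↥(IntermediateField.adjoin
      (↥(IntermediateField.adjoin k (Set.range x'))) ({t} : Set F)) (j + 1)
    by_cases htr : Transcendental (↥(IntermediateField.adjoin k (Set.range x'))) t
    · exact isCi_of_ringEquiv (RatFunc.algEquivOfTranscendental t htr).toRingEquiv
        (Groth.Agent.Helper1.FormsRat.isCi_succ_ratFunc _ j IH)
    · have halg : IsAlgebraic (↥(IntermediateField.adjoin k (Set.range x'))) t := by
        rwa [Transcendental, not_not] at htr
      have := IntermediateField.isAlgebraic_adjoin_simple halg.isIntegral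
      exact isCi_succ (Groth.Agent.Helper1.FormsRS.isCi_of_isAlgebraic _ _ j IH)

theorem tsen_lang (k : Type u) [Field k] [IsAlgClosed k] (K : Type u) [Field K] [Algebra k K]
    (j : ℕ) (hj : Algebra.trdeg k K = j) : Curves.IsCi K j := by
  obtain ⟨s, hs⟩ := exists_isTranscendenceBasis k K
  have hcard : Cardinal.mk s = j := by rw [hs.cardinalMk_eq_trdeg, hj]
  obtain ⟨e⟩ := Cardinal.mk_eq_nat_iff.mp hcard
  have halg := hs.isAlgebraic_field
  have hrange : Set.range (fun i : Fin j => ((e.symm i : s) : K)) =
      Set.range (Subtype.val : s → K) := e.symm.surjective.range_comp _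
  rw [← hrange] at halg
  exact Groth.Agent.Helper1.FormsRS.isCi_of_isAlgebraic _ K j
    (isCi_adjoin_range k K j (fun i => ((e.symm i : s) : K)))

end Tower

end Groth.Agent.Helper1.TsenLang
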