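import Mathlib
import Groth.Agent.S2680
import Groth.Agent.S0212
import Groth.Agent.S0214
import Groth.Agent.Lib.Helper1.TsenLang

/-!
# Tsen's theorem for function fields of curves over algebraically closed fields
-/

namespace Groth.Agent.Helper1.TC1

universe u

open AlgebraicGeometry CategoryTheory

theorem isCi_one_of_trdeg_le (k : Type u) [Field k] [IsAlgClosed k] (K : Type u) [Field K]
    [Algebra k K] (n : ℕ) (hn : Algebra.trdeg k K = n) (h : n ≤ 1) : Curves.IsCi K 1 := by
  interval_cases n
  · exact Groth.Agent.Helper1.TsenLang.isCi_succ (Groth.Agent.S0212.result k K 0 hn)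
  · exact Groth.Agent.S0212.result k K 1 hn

theorem isCr_of_isCi {K : Type*} [Field K] {i : ℕ} (h : Curves.IsCi K i) : Curves.IsCr K i := by
  intro n d f hf hd hlt
  obtain ⟨a, ha, hz⟩ := h 1 n (fun _ => f) (fun _ => d) (fun _ => hf) (fun _ => hd) (by simpa using hlt)
  exact ⟨a, ha, hz 0⟩

theorem ringKrullDim_le_of_isAffineOpen {X : Scheme.{u}} {U : X.Opens} (hU : IsAffineOpen U) :
    ringKrullDim Γ(X, U) ≤ topologicalKrullDim X := by
  rw [← PrimeSpectrum.topologicalKrullDim_eq_ringKrullDim]
  have h1 : topologicalKrullDim (PrimeSpectrum Γ(X, U)) = topologicalKrullDim U :=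
    (IsHomeomorph.topologicalKrullDim_eq _ (hU.isoSpec.hom.homeomorph).isHomeomorph).symm
  rw [h1]
  exact U.ι.isOpenEmbedding.toIsEmbedding.isInducing.topologicalKrullDim_le

theorem main6649 (k : Type u) [Field k] [IsAlgClosed k] (C : Scheme.{u})
    (f : C ⟶ Spec (CommRingCat.of k)) [LocallyOfFiniteType f] [IsIntegral C]
    (hdim : topologicalKrullDim ↥C = 1)
    (D : Type u) [DivisionRing D] [Algebra ↑C.functionField D] [Algebra.IsCentral ↑C.functionField D]
    [FiniteDimensional ↑C.functionField D] : Module.finrank ↑C.functionField D = 1 := by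
  obtain ⟨U, hU, hx, -⟩ :=
    exists_isAffineOpen_mem_and_subset (X := C) (x := genericPoint C) (U := ⊤) trivial
  haveI : Nonempty U := ⟨⟨genericPoint C, hx⟩⟩
  let φ : k →+* Γ(C, U) :=
    (f.appLE ⊤ U le_top).hom.comp (Scheme.ΓSpecIso (CommRingCat.of k)).inv.hom
  have hφ : φ.FiniteType := by
    have h1 := Scheme.Hom.finiteType_appLE f (isAffineOpen_top (Spec (CommRingCat.of k))) hU le_top
    refine RingHom.FiniteType.comp h1 (RingHom.FiniteType.of_surjective _ ?_)
    exact (ConcreteCategory.bijective_of_isIso (Scheme.ΓSpecIso (CommRingCat.of k)).inv).2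
  letI : Algebra k Γ(C, U) := φ.toAlgebra
  haveI : Algebra.FiniteType k Γ(C, U) := hφ
  obtain ⟨n, hn1, hn2, -⟩ := Groth.Agent.S2680.result k Γ(C, U)
  have hle : ringKrullDim Γ(C, U) ≤ 1 := hdim ▸ ringKrullDim_le_of_isAffineOpen hU
  have hn : n ≤ 1 := by
    rw [hn2] at hle
    exact_mod_cast hle
  have hCi : Curves.IsCi (FractionRing Γ(C, U)) 1 :=
    isCi_one_of_trdeg_le k (FractionRing Γ(C, U)) n hn1 hn
  haveI : IsFractionRing Γ(C, U) C.functionField :=
    functionField_isFractionRing_of_isAffineOpen C U hU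
  have e : FractionRing Γ(C, U) ≃+* C.functionField :=
    (FractionRing.algEquiv Γ(C, U) C.functionField).toRingEquiv
  have hCi' : Curves.IsCi C.functionField 1 := Groth.Agent.Helper1.TsenLang.isCi_of_ringEquiv e hCi
  exact Groth.Agent.S0214.result C.functionField (isCr_of_isCi hCi') D

end Groth.Agent.Helper1.TC1
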