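import Mathlib
import Groth.Agent.Lib.Helper1.TH1
import Groth.Prelude.Def_FEt
import Groth.Prelude.Def_EtBase

/-!
# Topological invariance of the small étale site for thickenings: S0118, S0238
-/

universe u
set_option autoImplicit false
set_option linter.unusedSectionVars false
set_option linter.style.haveILetI false
open CategoryTheory CategoryTheory.Limits AlgebraicGeometry TopologicalSpace Opposite

namespace Groth.Agent.Helper1.TH

open Groth.Agent.Helper16.UHLift

section Fin

variable {S S₀ Z : Scheme.{u}} (i : S₀ ⟶ S) (y : Z ⟶ S₀) [IsClosedImmersion i] [Surjective i]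

omit [Surjective i] in
theorem Lift.isClosedImmersion_j {V : Z.Opens} (D : Lift i y V) : IsClosedImmersion D.j :=
  MorphismProperty.of_isPullback (P := @IsClosedImmersion) D.pb.flip inferInstance

omit [IsClosedImmersion i] in
theorem Lift.surjective_j {V : Z.Opens} (D : Lift i y V) : Surjective D.j :=
  MorphismProperty.of_isPullback (P := @Surjective) D.pb.flip inferInstance

/-- two lifts of the same open are isomorphic -/
theorem lift_iso {V : Z.Opens} (D D' : Lift i y V) : Nonempty (D.T ≅ D'.T) := by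
  haveI := D.et
  haveI := D'.et
  haveI := D.isClosedImmersion_j i y
  haveI := D.surjective_j i y
  haveI := D'.isClosedImmersion_j i y
  haveI := D'.surjective_j i y
  have w : D.j ≫ D.g = D'.j ≫ D'.g := D.pb.w.trans D'.pb.w.symm
  obtain ⟨a, ⟨ha1, ha2⟩, -⟩ := exists_unique_lift_univHomeo D'.g D.j D'.j D.g w
  obtain ⟨b, ⟨hb1, hb2⟩, -⟩ := exists_unique_lift_univHomeo D.g D'.j D.j D'.g w.symm
  obtain ⟨c, -, hc⟩ := exists_unique_lift_univHomeo D.g D.j D.j D.g rfl
  obtain ⟨c', -, hc'⟩ := exists_unique_lift_univHomeo D'.g D'.j D'.j D'.g rfl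
  refine ⟨⟨a, b, ?_, ?_⟩⟩
  · rw [hc (a ≫ b) ⟨by rw [← Category.assoc, ha1, hb1], by rw [Category.assoc, hb2, ha2]⟩,
      hc (𝟙 _) ⟨Category.comp_id _, Category.id_comp _⟩]
  · rw [hc' (b ≫ a) ⟨by rw [← Category.assoc, hb1, ha1], by rw [Category.assoc, ha2, hb2]⟩,
      hc' (𝟙 _) ⟨Category.comp_id _, Category.id_comp _⟩]

variable [Etale y]

theorem surjective_jY : Surjective (jY i y) := by
  refine ⟨fun t => ?_⟩
  obtain ⟨k, x, hx⟩ := Scheme.IsLocallyDirected.ι_jointly_surjective (F i y) t
  obtain ⟨w, rfl⟩ := j_surjective k x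
  exact ⟨w.1, (jY_apply i y k w).trans hx⟩

theorem gY_preimage (k : J i y) (W : S.Opens) (hk : k.1 = (y ≫ i) ⁻¹ᵁ W) :
    gY i y ⁻¹ᵁ W = (ιY i y k).opensRange := by
  ext t
  obtain ⟨z, rfl⟩ := (surjective_jY i y).surj t
  have h1 : (gY i y) (jY i y z) = (y ≫ i) z := by
    rw [← Scheme.Hom.comp_apply, jY_gY]
  have h2 : jY i y z ∈ (ιY i y k).opensRange ↔ z ∈ k.1 := by
    have := congrArg (fun O : Z.Opens => z ∈ O) (jY_preimage_opensRange i y k)
    exact Iff.of_eq this
  constructor
  · intro ht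
    have h3 : (y ≫ i) z ∈ W := by rw [← h1]; exact ht
    have h4 : z ∈ k.1 := by rw [hk]; exact h3
    exact h2.2 h4
  · intro ht
    have h4 : z ∈ k.1 := h2.1 ht
    rw [hk] at h4
    have h3 : (y ≫ i) z ∈ W := h4
    show gY i y (jY i y z) ∈ W
    rw [h1]
    exact h3

theorem isAffineHom_gY [IsAffineHom y] : IsAffineHom (gY i y) := by
  constructor
  intro W hW
  let V : Z.Opens := (y ≫ i) ⁻¹ᵁ W
  have hV : IsAffineOpen V := hW.preimage (y ≫ i)
  obtain ⟨D, hD⟩ := exists_affine_lift (i := i) (y := y) W hW V hV le_rfl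
  let k : J i y := ⟨V, ⟨D⟩⟩
  obtain ⟨e⟩ := lift_iso i y (lt k) D
  haveI : IsAffine (lt k).T := IsAffine.of_isIso e.hom
  rw [gY_preimage i y k W rfl]
  exact isAffineOpen_opensRange (ιY i y k)

theorem isFinite_gY [IsFinite y] : IsFinite (gY i y) := by
  haveI := etale_gY i y
  haveI := surjective_jY i y
  haveI : UniversallyClosed (jY i y ≫ gY i y) := by rw [jY_gY]; infer_instance
  haveI : UniversallyClosed (gY i y) := UniversallyClosed.of_comp_surjective (jY i y) (gY i y)
  haveI := isAffineHom_gY i y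
  haveI : IsIntegralHom (gY i y) :=
    IsIntegralHom.iff_universallyClosed_and_isAffineHom.2 ⟨inferInstance, inferInstance⟩
  exact (IsFinite.iff_isIntegralHom_and_locallyOfFiniteType _).2 ⟨inferInstance, inferInstance⟩

end Fin

section Equiv

variable {S S₀ : Scheme.{u}} (i : S₀ ⟶ S) [IsClosedImmersion i] [Surjective i]

theorem full_faithful_comp (P : MorphismProperty Scheme.{u}) (hP : P ≤ @Etale) :
    (MorphismProperty.Over.forget P ⊤ S ⋙ Over.pullback i).Full ∧
      (MorphismProperty.Over.forget P ⊤ S ⋙ Over.pullback i).Faithful := by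
  constructor
  · constructor
    intro U V h
    haveI : Etale ((MorphismProperty.Over.forget P ⊤ S).obj V).hom := hP _ V.prop
    obtain ⟨φ, hφ⟩ := (Groth.Agent.S0117.result i ((MorphismProperty.Over.forget P ⊤ S).obj V)
      ((MorphismProperty.Over.forget P ⊤ S).obj U)).2 h
    obtain ⟨f, rfl⟩ := (MorphismProperty.Over.forget P ⊤ S).map_surjective φ
    exact ⟨f, hφ⟩
  · constructor
    intro U V f g h
    haveI : Etale ((MorphismProperty.Over.forget P ⊤ S).obj V).hom := hP _ V.prop
    have h' := (Groth.Agent.S0117.result i ((MorphismProperty.Over.forget P ⊤ S).obj V)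
      ((MorphismProperty.Over.forget P ⊤ S).obj U)).1 h
    exact (MorphismProperty.Over.forget P ⊤ S).map_injective h'

set_option backward.isDefEq.respectTransparency.types false in
theorem full_pullback (P : MorphismProperty Scheme.{u}) [P.IsStableUnderBaseChange]
    (hP : P ≤ @Etale) : (MorphismProperty.Over.pullback P ⊤ i).Full := by
  let e : MorphismProperty.Over.pullback P ⊤ i ⋙ MorphismProperty.Over.forget P ⊤ S₀ ≅
      MorphismProperty.Over.forget P ⊤ S ⋙ Over.pullback i :=
    MorphismProperty.Over.pullbackCompForgetIso (P := P) (Q := ⊤) i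
  haveI := (full_faithful_comp i P hP).1
  haveI : (MorphismProperty.Over.pullback P ⊤ i ⋙ MorphismProperty.Over.forget P ⊤ S₀).Full :=
    Functor.Full.of_iso e.symm
  exact Functor.Full.of_comp_faithful (MorphismProperty.Over.pullback P ⊤ i)
    (MorphismProperty.Over.forget P ⊤ S₀)

set_option backward.isDefEq.respectTransparency.types false in
theorem faithful_pullback (P : MorphismProperty Scheme.{u}) [P.IsStableUnderBaseChange]
    (hP : P ≤ @Etale) : (MorphismProperty.Over.pullback P ⊤ i).Faithful := by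
  let e : MorphismProperty.Over.pullback P ⊤ i ⋙ MorphismProperty.Over.forget P ⊤ S₀ ≅
      MorphismProperty.Over.forget P ⊤ S ⋙ Over.pullback i :=
    MorphismProperty.Over.pullbackCompForgetIso (P := P) (Q := ⊤) i
  haveI := (full_faithful_comp i P hP).2
  haveI : (MorphismProperty.Over.pullback P ⊤ i ⋙ MorphismProperty.Over.forget P ⊤ S₀).Faithful :=
    Functor.Faithful.of_iso e.symm
  exact Functor.Faithful.of_comp (MorphismProperty.Over.pullback P ⊤ i)
    (MorphismProperty.Over.forget P ⊤ S₀)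

theorem essSurj_bc : (EtCoh.bc i).EssSurj := by
  constructor
  intro Y₀
  haveI : Etale Y₀.hom := Y₀.prop
  have hp := isPullback_glued i Y₀.hom
  haveI : Etale (gY i Y₀.hom) := etale_gY i Y₀.hom
  let Y : S.Etale := Scheme.Etale.mk (gY i Y₀.hom)
  refine ⟨Y, ⟨?_⟩⟩
  exact MorphismProperty.Over.isoMk hp.isoPullback.symm hp.isoPullback_inv_snd

/-- S0118 -/
theorem main0118 : (EtCoh.bc i).IsEquivalence := by
  haveI : (EtCoh.bc i).Full := full_pullback i EtCoh.etaleMP le_rfl
  haveI : (EtCoh.bc i).Faithful := faithful_pullback i EtCoh.etaleMP le_rfl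
  haveI := essSurj_bc i
  exact {}

theorem essSurj_restrict : (FEt.restrict i).EssSurj := by
  constructor
  intro Y₀
  haveI : IsFinite Y₀.hom := Y₀.prop.1
  haveI : Etale Y₀.hom := Y₀.prop.2
  have hp := isPullback_glued i Y₀.hom
  have h1 : Etale (gY i Y₀.hom) := etale_gY i Y₀.hom
  have h2 : IsFinite (gY i Y₀.hom) := isFinite_gY i Y₀.hom
  let Y : FEt.Cat S := MorphismProperty.Over.mk ⊤ (gY i Y₀.hom) ⟨h2, h1⟩
  refine ⟨Y, ⟨?_⟩⟩
  exact MorphismProperty.Over.isoMk hp.isoPullback.symm hp.isoPullback_inv_snd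

/-- S0238 -/
theorem main0238 : (FEt.restrict i).IsEquivalence := by
  haveI : (FEt.restrict i).Full := full_pullback i FEt.prop inf_le_right
  haveI : (FEt.restrict i).Faithful := faithful_pullback i FEt.prop inf_le_right
  haveI := essSurj_restrict i
  exact {}

end Equiv

end Groth.Agent.Helper1.TH
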