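import Groth.Agent.Lib.Helper1.IH3
import Groth.Agent.Lib.Helper1.SHznUniv

/-!
# The (strict) henselization of `(Rʰ ⊗[R] S)_Q`
-/

set_option autoImplicit false

namespace Groth.Agent.Helper1.TP

open IsLocalRing TensorProduct Groth.Agent.Helper1

universe u

section Uniq

variable (L S₁ S₂ : Type u) [CommRing L] [IsLocalRing L] [CommRing S₁] [IsLocalRing S₁]
  [Algebra L S₁] [IsLocalHom (algebraMap L S₁)] [CommRing S₂] [IsLocalRing S₂]
  [Algebra L S₂] [IsLocalHom (algebraMap L S₂)]

/-- two henselizations are isomorphic -/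
theorem exists_ringEquiv_of_isHenselization [Hensel.IsHenselization L S₁]
    [Hensel.IsHenselization L S₂] :
    ∃ e : S₁ ≃+* S₂, ∀ x, e (algebraMap L S₁ x) = algebraMap L S₂ x := by
  haveI h1 : HenselianLocalRing S₁ := Hensel.IsHenselization.henselian (R := L)
  haveI h2 : HenselianLocalRing S₂ := Hensel.IsHenselization.henselian (R := L)
  obtain ⟨g, hg, -⟩ := Hensel.IsHenselization.universal (R := L) (S := S₁) S₂
    (algebraMap L S₂) inferInstance
  obtain ⟨h, hh, -⟩ := Hensel.IsHenselization.universal (R := L) (S := S₂) S₁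
    (algebraMap L S₁) inferInstance
  have hhg : h.comp g = RingHom.id S₁ := by
    obtain ⟨k, -, hk⟩ := Hensel.IsHenselization.universal (R := L) (S := S₁) S₁
      (algebraMap L S₁) inferInstance
    rw [hk (h.comp g) (by
        show (h.comp g).comp (algebraMap L S₁) = algebraMap L S₁
        rw [RingHom.comp_assoc, hg, hh]),
      hk (RingHom.id S₁) (RingHom.id_comp _)]
  have hgh : g.comp h = RingHom.id S₂ := by
    obtain ⟨k, -, hk⟩ := Hensel.IsHenselization.universal (R := L) (S := S₂) S₂
      (algebraMap L S₂) inferInstance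
    rw [hk (g.comp h) (by
        show (g.comp h).comp (algebraMap L S₂) = algebraMap L S₂
        rw [RingHom.comp_assoc, hh, hg]),
      hk (RingHom.id S₂) (RingHom.id_comp _)]
  exact ⟨RingEquiv.ofRingHom g h hgh hhg, fun x => RingHom.congr_fun hg x⟩

/-- two strict henselizations are isomorphic -/
theorem exists_ringEquiv_of_isStrictHenselization [Hensel.IsStrictHenselization L S₁]
    [Hensel.IsStrictHenselization L S₂] :
    ∃ e : S₁ ≃+* S₂, ∀ x, e (algebraMap L S₁ x) = algebraMap L S₂ x := by
  haveI h1 : HenselianLocalRing S₁ := Hensel.IsStrictHenselization.henselian (R := L)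
  haveI h2 : HenselianLocalRing S₂ := Hensel.IsStrictHenselization.henselian (R := L)
  haveI c1 : IsSepClosure (ResidueField L) (ResidueField S₁) :=
    Hensel.IsStrictHenselization.isSepClosure
  haveI c2 : IsSepClosure (ResidueField L) (ResidueField S₂) :=
    Hensel.IsStrictHenselization.isSepClosure
  obtain ⟨τ⟩ : Nonempty (ResidueField S₁ ≃ₐ[ResidueField L] ResidueField S₂) :=
    ⟨IsSepClosure.equiv (ResidueField L) (ResidueField S₁) (ResidueField S₂)⟩
  have hτ : (τ : ResidueField S₁ →+* ResidueField S₂).comp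
      (ResidueField.map (algebraMap L S₁)) = ResidueField.map (algebraMap L S₂) :=
    RingHom.ext (fun x => τ.commutes x)
  have hτ' : (τ.symm : ResidueField S₂ →+* ResidueField S₁).comp
      (ResidueField.map (algebraMap L S₂)) = ResidueField.map (algebraMap L S₁) :=
    RingHom.ext (fun x => τ.symm.commutes x)
  obtain ⟨g, ⟨hg, hgres⟩, -⟩ := Hensel.IsStrictHenselization.universal (R := L) (S := S₁) S₂
    (algebraMap L S₂) (τ : ResidueField S₁ →+* ResidueField S₂) hτ
  obtain ⟨h, ⟨hh, hhres⟩, -⟩ := Hensel.IsStrictHenselization.universal (R := L) (S := S₂) S₁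
    (algebraMap L S₁) (τ.symm : ResidueField S₂ →+* ResidueField S₁) hτ'
  have hhg : h.comp g = RingHom.id S₁ := by
    obtain ⟨k, -, hk⟩ := Hensel.IsStrictHenselization.universal (R := L) (S := S₁) S₁
      (algebraMap L S₁) (RingHom.id _) (RingHom.id_comp _)
    rw [hk (h.comp g) ⟨by
        show (h.comp g).comp (algebraMap L S₁) = algebraMap L S₁
        rw [RingHom.comp_assoc, hg, hh], fun x => by
        rw [RingHom.comp_apply, hhres, hgres]
        exact τ.symm_apply_apply _⟩,
      hk (RingHom.id S₁) ⟨RingHom.id_comp _, fun x => rfl⟩]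
  have hgh : g.comp h = RingHom.id S₂ := by
    obtain ⟨k, -, hk⟩ := Hensel.IsStrictHenselization.universal (R := L) (S := S₂) S₂
      (algebraMap L S₂) (RingHom.id _) (RingHom.id_comp _)
    rw [hk (g.comp h) ⟨by
        show (g.comp h).comp (algebraMap L S₂) = algebraMap L S₂
        rw [RingHom.comp_assoc, hh, hg], fun x => by
        rw [RingHom.comp_apply, hgres, hhres]
        exact τ.apply_symm_apply _⟩,
      hk (RingHom.id S₂) ⟨RingHom.id_comp _, fun x => rfl⟩]
  exact ⟨RingEquiv.ofRingHom g h hgh hhg, fun x => RingHom.congr_fun hg x⟩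

end Uniq

section Generated

variable (R₀ R₁ S₀ S₁ L : Type u) [CommRing R₀] [IsLocalRing R₀] [CommRing R₁] [IsLocalRing R₁]
  [Algebra R₀ R₁] [IsLocalHom (algebraMap R₀ R₁)]
  [CommRing S₀] [IsLocalRing S₀] [CommRing S₁] [IsLocalRing S₁] [Algebra S₀ S₁]
  [IsLocalHom (algebraMap S₀ S₁)] [CommRing L] [IsLocalRing L]

theorem isHenselization_of_generated [Hensel.IsHenselization R₀ R₁]
    [Hensel.IsHenselization S₀ S₁]
    (u : R₀ →+* S₀) [IsLocalHom u] (v : R₁ →+* S₁)
    (huv : v.comp (algebraMap R₀ R₁) = (algebraMap S₀ S₁).comp u)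
    (a : R₁ →+* L) (b : S₀ →+* L) [IsLocalHom b] (c : L →+* S₁) [hc : IsLocalHom c]
    (hab : a.comp (algebraMap R₀ R₁) = b.comp u)
    (hca : c.comp a = v) (hcb : c.comp b = algebraMap S₀ S₁)
    (hepi : ∀ (X : Type u) [CommRing X] (g₁ g₂ : L →+* X), g₁.comp a = g₂.comp a →
      g₁.comp b = g₂.comp b → g₁ = g₂) :
    letI : Algebra L S₁ := c.toAlgebra
    ∃ (_ : IsLocalHom (algebraMap L S₁)), Hensel.IsHenselization L S₁ := by
  letI : Algebra L S₁ := c.toAlgebra
  refine ⟨hc, Hensel.IsHenselization.henselian (R := S₀), ?_⟩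
  intro T' _ _ f hf
  haveI := hf
  haveI : IsLocalHom (f.comp b) := RingHom.isLocalHom_comp f b
  obtain ⟨g, hg, hguniq⟩ := Hensel.IsHenselization.universal (R := S₀) (S := S₁) T'
    (f.comp b) inferInstance
  haveI : IsLocalHom ((f.comp b).comp u) := RingHom.isLocalHom_comp (f.comp b) u
  obtain ⟨k, hk, hkuniq⟩ := Hensel.IsHenselization.universal (R := R₀) (S := R₁) T'
    ((f.comp b).comp u) inferInstance
  have h1 : g.comp v = k :=
    hkuniq _ (RingHom.ext (fun r => by
      show g (v (algebraMap R₀ R₁ r)) = f (b (u r))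
      rw [show v (algebraMap R₀ R₁ r) = algebraMap S₀ S₁ (u r) from RingHom.congr_fun huv r]
      exact RingHom.congr_fun hg (u r)))
  have h2 : f.comp a = k :=
    hkuniq _ (RingHom.ext (fun r => by
      show f (a (algebraMap R₀ R₁ r)) = f (b (u r))
      rw [show a (algebraMap R₀ R₁ r) = b (u r) from RingHom.congr_fun hab r]))
  refine ⟨g, ?_, ?_⟩
  · show g.comp c = f
    apply hepi
    · rw [RingHom.comp_assoc, hca, h1, h2]
    · rw [RingHom.comp_assoc, hcb, hg]
  · intro g' hg'
    apply hguniq
    have hg'' : g'.comp c = f := hg'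
    rw [← hcb, ← RingHom.comp_assoc, hg'']

theorem isStrictHenselization_of_generated [Hensel.IsStrictHenselization R₀ R₁]
    [Hensel.IsStrictHenselization S₀ S₁]
    (u : R₀ →+* S₀) [IsLocalHom u] (v : R₁ →+* S₁) [IsLocalHom v]
    (huv : v.comp (algebraMap R₀ R₁) = (algebraMap S₀ S₁).comp u)
    (a : R₁ →+* L) (b : S₀ →+* L) [IsLocalHom b] (c : L →+* S₁) [hc : IsLocalHom c]
    (hab : a.comp (algebraMap R₀ R₁) = b.comp u)
    (hca : c.comp a = v) (hcb : c.comp b = algebraMap S₀ S₁)
    (hepi : ∀ (X : Type u) [CommRing X] (g₁ g₂ : L →+* X), g₁.comp a = g₂.comp a →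
      g₁.comp b = g₂.comp b → g₁ = g₂) :
    letI : Algebra L S₁ := c.toAlgebra
    ∃ (_ : IsLocalHom (algebraMap L S₁)), Hensel.IsStrictHenselization L S₁ := by
  letI : Algebra L S₁ := c.toAlgebra
  haveI hcl : IsLocalHom (algebraMap L S₁) := hc
  refine ⟨hc, Hensel.IsStrictHenselization.henselian (R := S₀), ?_, ?_⟩
  · haveI hsc : IsSepClosure (ResidueField S₀) (ResidueField S₁) :=
      Hensel.IsStrictHenselization.isSepClosure
    haveI := hsc.separable
    letI : Algebra (ResidueField S₀) (ResidueField L) := (ResidueField.map b).toAlgebra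
    haveI := IsScalarTower.of_algebraMap_eq (R := ResidueField S₀) (S := ResidueField L)
      (A := ResidueField S₁) (fun x => by
        obtain ⟨s, rfl⟩ := residue_surjective x
        show ResidueField.map (algebraMap S₀ S₁) (residue S₀ s) =
          ResidueField.map c (ResidueField.map b (residue S₀ s))
        rw [ResidueField.map_residue, ResidueField.map_residue, ResidueField.map_residue,
          ← hcb]
        rfl)
    exact ⟨hsc.sep_closed, Algebra.isSeparable_tower_top_of_isSeparable (ResidueField S₀)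
      (ResidueField L) (ResidueField S₁)⟩
  · intro T' _ _ f _ τ hτ
    haveI : IsLocalHom (f.comp b) := RingHom.isLocalHom_comp f b
    have hτc : ∀ x : L, τ (residue S₁ (c x)) = residue T' (f x) := by
      intro x
      have h := RingHom.congr_fun hτ (residue L x)
      rw [RingHom.comp_apply, ResidueField.map_residue, ResidueField.map_residue] at h
      exact h
    have hcb' : ∀ s : S₀, algebraMap S₀ S₁ s = c (b s) := fun s =>
      (RingHom.congr_fun hcb s).symm
    have hτb : τ.comp (ResidueField.map (algebraMap S₀ S₁)) = ResidueField.map (f.comp b) := by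
      refine RingHom.ext (fun x => ?_)
      obtain ⟨s, rfl⟩ := residue_surjective x
      rw [RingHom.comp_apply, ResidueField.map_residue, ResidueField.map_residue, hcb', hτc]
      rfl
    obtain ⟨g, ⟨hg, hgres⟩, hguniq⟩ := Hensel.IsStrictHenselization.universal (R := S₀)
      (S := S₁) T' (f.comp b) τ hτb
    haveI : IsLocalHom ((f.comp b).comp u) := RingHom.isLocalHom_comp (f.comp b) u
    have hτu : (τ.comp (ResidueField.map v)).comp (ResidueField.map (algebraMap R₀ R₁)) =
        ResidueField.map ((f.comp b).comp u) := by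
      refine RingHom.ext (fun x => ?_)
      obtain ⟨r, rfl⟩ := residue_surjective x
      rw [RingHom.comp_apply, RingHom.comp_apply, ResidueField.map_residue,
        ResidueField.map_residue, ResidueField.map_residue]
      have e : v (algebraMap R₀ R₁ r) = c (b (u r)) := by
        have h := RingHom.congr_fun huv r
        rw [RingHom.comp_apply, RingHom.comp_apply, hcb'] at h
        exact h
      rw [e, hτc]
      rfl
    obtain ⟨k, ⟨hk, hkres⟩, hkuniq⟩ := Hensel.IsStrictHenselization.universal (R := R₀)
      (S := R₁) T' ((f.comp b).comp u) (τ.comp (ResidueField.map v)) hτu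
    have h1 : g.comp v = k :=
      hkuniq _ ⟨RingHom.ext (fun r => by
        show g (v (algebraMap R₀ R₁ r)) = f (b (u r))
        rw [show v (algebraMap R₀ R₁ r) = algebraMap S₀ S₁ (u r) from RingHom.congr_fun huv r]
        exact RingHom.congr_fun hg (u r)), fun x => by
        show residue T' (g (v x)) = τ (ResidueField.map v (residue R₁ x))
        rw [hgres, ResidueField.map_residue]⟩
    have h2 : f.comp a = k :=
      hkuniq _ ⟨RingHom.ext (fun r => by
        show f (a (algebraMap R₀ R₁ r)) = f (b (u r))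
        rw [show a (algebraMap R₀ R₁ r) = b (u r) from RingHom.congr_fun hab r]), fun x => by
        have e : c (a x) = v x := RingHom.congr_fun hca x
        show residue T' (f (a x)) = τ (ResidueField.map v (residue R₁ x))
        rw [ResidueField.map_residue, ← hτc, e]⟩
    refine ⟨g, ⟨?_, hgres⟩, ?_⟩
    · show g.comp c = f
      apply hepi
      · rw [RingHom.comp_assoc, hca, h1, h2]
      · rw [RingHom.comp_assoc, hcb, hg]
    · rintro g' ⟨hg', hg'res⟩
      apply hguniq
      have hg'' : g'.comp c = f := hg'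
      refine ⟨?_, hg'res⟩
      rw [← hcb, ← RingHom.comp_assoc, hg'']

end Generated

end Groth.Agent.Helper1.TP
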