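import Groth.Agent.Lib.Helper1.TP1
import Groth.Agent.Lib.Helper1.SHznMax

/-!
# The (strict) henselization of `(Rʰ ⊗[R] S)_Q` : plumbing
-/

set_option autoImplicit false

namespace Groth.Agent.Helper1.TP

open IsLocalRing TensorProduct Groth.Agent.Helper1

universe u

/-- a map out of a strict henselization compatible with a local map is local -/
theorem isLocalHom_of_comp_eq (R₀ R₁ S₀ S₁ : Type u) [CommRing R₀] [IsLocalRing R₀]
    [CommRing R₁] [IsLocalRing R₁] [Algebra R₀ R₁] [IsLocalHom (algebraMap R₀ R₁)]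
    [CommRing S₀] [IsLocalRing S₀] [CommRing S₁] [IsLocalRing S₁] [Algebra S₀ S₁]
    [IsLocalHom (algebraMap S₀ S₁)] [Hensel.IsStrictHenselization R₀ R₁]
    (u : R₀ →+* S₀) [IsLocalHom u] (v : R₁ →+* S₁)
    (huv : v.comp (algebraMap R₀ R₁) = (algebraMap S₀ S₁).comp u) : IsLocalHom v := by
  apply ((IsLocalRing.local_hom_TFAE v).out 2 0).mp
  rw [← SHzn.map_maximalIdeal_eq_of_isStrictHenselization R₀ R₁, Ideal.map_map, huv,
    Ideal.map_le_iff_le_comap]
  intro x hx
  exact map_nonunit (algebraMap S₀ S₁) _ (map_nonunit u x hx)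

section Plumbing

variable (R S : Type u) [CommRing R] [CommRing S] [Algebra R S] (p : Ideal R) [p.IsPrime]
  (q : Ideal S) [q.IsPrime] [q.LiesOver p]
  (Rh : Type u) [CommRing Rh] [IsLocalRing Rh] [Algebra (Localization.AtPrime p) Rh]
  [Algebra R Rh] [IsScalarTower R (Localization.AtPrime p) Rh]
  (Sh : Type u) [CommRing Sh] [IsLocalRing Sh] [Algebra (Localization.AtPrime q) Sh]
  [IsLocalHom (algebraMap (Localization.AtPrime q) Sh)] [Algebra S Sh]
  [IsScalarTower S (Localization.AtPrime q) Sh] [Algebra R Sh] [IsScalarTower R S Sh]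
  [Algebra Rh Sh] [IsScalarTower R Rh Sh]

/-- the map `Rh ⊗[R] S → Sh` -/
noncomputable abbrev phi : Rh ⊗[R] S →ₐ[R] Sh :=
  Algebra.TensorProduct.lift (IsScalarTower.toAlgHom R Rh Sh) (IsScalarTower.toAlgHom R S Sh)
    (fun _ _ => Commute.all _ _)

omit [IsLocalRing Rh] [IsLocalRing Sh] in
theorem phi_tmul (x : Rh) (s : S) :
    phi R S Rh Sh (x ⊗ₜ[R] s) = algebraMap Rh Sh x * algebraMap S Sh s := by
  show Algebra.TensorProduct.lift (IsScalarTower.toAlgHom R Rh Sh)
    (IsScalarTower.toAlgHom R S Sh) (fun _ _ => Commute.all _ _) (x ⊗ₜ[R] s) = _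
  rw [Algebra.TensorProduct.lift_tmul]
  rfl

omit [IsLocalRing Rh] [IsLocalRing Sh] in
theorem phi_algebraMap (x : Rh) :
    phi R S Rh Sh (algebraMap Rh (Rh ⊗[R] S) x) = algebraMap Rh Sh x := by
  show phi R S Rh Sh (x ⊗ₜ[R] (1 : S)) = _
  rw [phi_tmul, map_one, mul_one]

omit [IsLocalRing Rh] [IsLocalRing Sh] in
theorem phi_incR (s : S) :
    phi R S Rh Sh (IH.incR R Rh S s) = algebraMap S Sh s := by
  show phi R S Rh Sh ((1 : Rh) ⊗ₜ[R] s) = _
  rw [phi_tmul, map_one, one_mul]

/-- the local map `R_p → S_q` -/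
noncomputable def uMap : Localization.AtPrime p →+* Localization.AtPrime q :=
  Localization.localRingHom p q (algebraMap R S) (q.over_def p)

theorem isLocalHom_uMap : IsLocalHom (uMap R S p q) :=
  Localization.isLocalHom_localRingHom p q (algebraMap R S) (q.over_def p)

theorem uMap_algebraMap (r : R) :
    uMap R S p q (algebraMap R (Localization.AtPrime p) r) =
      algebraMap S (Localization.AtPrime q) (algebraMap R S r) :=
  Localization.localRingHom_to_map p q (algebraMap R S) (q.over_def p) r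

omit [IsLocalRing Rh] [IsLocalRing Sh] [IsLocalHom (algebraMap (Localization.AtPrime q) Sh)] in
theorem v_comp :
    (algebraMap Rh Sh).comp (algebraMap (Localization.AtPrime p) Rh) =
      (algebraMap (Localization.AtPrime q) Sh).comp (uMap R S p q) := by
  apply IsLocalization.ringHom_ext p.primeCompl
  refine RingHom.ext (fun r => ?_)
  show algebraMap Rh Sh (algebraMap (Localization.AtPrime p) Rh
      (algebraMap R (Localization.AtPrime p) r)) =
    algebraMap (Localization.AtPrime q) Sh (uMap R S p q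
      (algebraMap R (Localization.AtPrime p) r))
  rw [uMap_algebraMap, ← IsScalarTower.algebraMap_apply R (Localization.AtPrime p) Rh,
    ← IsScalarTower.algebraMap_apply R Rh Sh,
    ← IsScalarTower.algebraMap_apply S (Localization.AtPrime q) Sh,
    ← IsScalarTower.algebraMap_apply R S Sh]

variable (Q : Ideal (Rh ⊗[R] S)) [Q.IsPrime]
  (hQ : Q = Ideal.comap (phi R S Rh Sh) (maximalIdeal Sh))

include hQ

omit [IsLocalRing Rh] in
theorem under_eq : q = Q.comap (IH.incR R Rh S) := by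
  ext s
  rw [Ideal.mem_comap, hQ, Ideal.mem_comap, phi_incR,
    IsScalarTower.algebraMap_apply S (Localization.AtPrime q) Sh]
  have h4 := ((IsLocalRing.local_hom_TFAE (algebraMap (Localization.AtPrime q) Sh)).out 0 4).mp
    (inferInstance : IsLocalHom (algebraMap (Localization.AtPrime q) Sh))
  rw [← Ideal.mem_comap, h4,
    IsLocalization.AtPrime.to_map_mem_maximal_iff (Localization.AtPrime q) q s]

/-- the local map `S_q → (Rh ⊗ S)_Q` -/
noncomputable def bMap : Localization.AtPrime q →+* Localization.AtPrime Q :=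
  Localization.localRingHom q Q (IH.incR R Rh S) (under_eq R S q Rh Sh Q hQ)

theorem isLocalHom_bMap : IsLocalHom (bMap R S q Rh Sh Q hQ) :=
  Localization.isLocalHom_localRingHom q Q (IH.incR R Rh S) (under_eq R S q Rh Sh Q hQ)

theorem bMap_algebraMap (s : S) :
    bMap R S q Rh Sh Q hQ (algebraMap S (Localization.AtPrime q) s) =
      algebraMap (Rh ⊗[R] S) (Localization.AtPrime Q) (IH.incR R Rh S s) :=
  Localization.localRingHom_to_map q Q (IH.incR R Rh S) (under_eq R S q Rh Sh Q hQ) s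

omit hQ in
/-- the map `Rh → (Rh ⊗ S)_Q` -/
noncomputable def aMap : Rh →+* Localization.AtPrime Q :=
  (algebraMap (Rh ⊗[R] S) (Localization.AtPrime Q)).comp (algebraMap Rh (Rh ⊗[R] S))

theorem isUnit_phi (y : Q.primeCompl) : IsUnit ((phi R S Rh Sh).toRingHom y) := by
  obtain ⟨y, hy⟩ := y
  show IsUnit (phi R S Rh Sh y)
  have hy' : y ∉ Q := hy
  rw [hQ, Ideal.mem_comap] at hy'
  exact IsLocalRing.notMem_maximalIdeal.mp hy'

/-- the map `(Rh ⊗ S)_Q → Sh` -/
noncomputable def cMap : Localization.AtPrime Q →+* Sh :=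
  IsLocalization.lift (M := Q.primeCompl) (g := (phi R S Rh Sh).toRingHom)
    (isUnit_phi R S Rh Sh Q hQ)

theorem cMap_algebraMap (d : Rh ⊗[R] S) :
    cMap R S Rh Sh Q hQ (algebraMap (Rh ⊗[R] S) (Localization.AtPrime Q) d) =
      phi R S Rh Sh d :=
  IsLocalization.lift_eq (isUnit_phi R S Rh Sh Q hQ) d

theorem isLocalHom_cMap : IsLocalHom (cMap R S Rh Sh Q hQ) := by
  refine ⟨fun z hz => ?_⟩
  obtain ⟨x, y, rfl⟩ := IsLocalization.exists_mk'_eq Q.primeCompl z
  have h1 : IsLocalization.mk' (Localization.AtPrime Q) x y *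
      algebraMap (Rh ⊗[R] S) (Localization.AtPrime Q) (y : Rh ⊗[R] S) =
      algebraMap (Rh ⊗[R] S) (Localization.AtPrime Q) x := IsLocalization.mk'_spec _ x y
  have h2 : IsUnit (phi R S Rh Sh x) := by
    rw [← cMap_algebraMap R S Rh Sh Q hQ x, ← h1, map_mul, cMap_algebraMap]
    exact hz.mul (isUnit_phi R S Rh Sh Q hQ y)
  have h3 : x ∉ Q := by
    rw [hQ, Ideal.mem_comap]
    exact IsLocalRing.notMem_maximalIdeal.mpr h2
  have h4 : IsUnit (algebraMap (Rh ⊗[R] S) (Localization.AtPrime Q) x) :=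
    IsLocalization.map_units (Localization.AtPrime Q) (⟨x, h3⟩ : Q.primeCompl)
  rw [← h1] at h4
  exact isUnit_of_mul_isUnit_left h4

omit hQ in
omit [IsLocalRing Rh] in
theorem hepi_aux (X : Type u) [CommRing X] (g₁ g₂ : Localization.AtPrime Q →+* X)
    (h1 : g₁.comp (aMap R S Rh Q) = g₂.comp (aMap R S Rh Q))
    (h2 : ∀ s : S, g₁ (algebraMap (Rh ⊗[R] S) (Localization.AtPrime Q) (IH.incR R Rh S s)) =
      g₂ (algebraMap (Rh ⊗[R] S) (Localization.AtPrime Q) (IH.incR R Rh S s))) : g₁ = g₂ := by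
  apply IsLocalization.ringHom_ext Q.primeCompl
  apply IH.ringHom_ext_tensor
  · intro x
    exact RingHom.congr_fun h1 x
  · intro s
    exact h2 s

theorem hepi (X : Type u) [CommRing X] (g₁ g₂ : Localization.AtPrime Q →+* X)
    (h1 : g₁.comp (aMap R S Rh Q) = g₂.comp (aMap R S Rh Q))
    (h2 : g₁.comp (bMap R S q Rh Sh Q hQ) = g₂.comp (bMap R S q Rh Sh Q hQ)) :
    g₁ = g₂ := by
  apply hepi_aux R S Rh Q X g₁ g₂ h1
  intro s
  have h := RingHom.congr_fun h2 (algebraMap S (Localization.AtPrime q) s)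
  rw [RingHom.comp_apply, RingHom.comp_apply, bMap_algebraMap] at h
  exact h

theorem hab :
    (aMap R S Rh Q).comp (algebraMap (Localization.AtPrime p) Rh) =
      (bMap R S q Rh Sh Q hQ).comp (uMap R S p q) := by
  apply IsLocalization.ringHom_ext p.primeCompl
  refine RingHom.ext (fun r => ?_)
  show algebraMap (Rh ⊗[R] S) (Localization.AtPrime Q) (algebraMap Rh (Rh ⊗[R] S)
      (algebraMap (Localization.AtPrime p) Rh (algebraMap R (Localization.AtPrime p) r))) =
    bMap R S q Rh Sh Q hQ (uMap R S p q (algebraMap R (Localization.AtPrime p) r))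
  rw [uMap_algebraMap, bMap_algebraMap, IH.incR_algebraMap R Rh S r,
    ← IsScalarTower.algebraMap_apply R (Localization.AtPrime p) Rh]

theorem hca : (cMap R S Rh Sh Q hQ).comp (aMap R S Rh Q) = algebraMap Rh Sh := by
  refine RingHom.ext (fun x => ?_)
  show cMap R S Rh Sh Q hQ (algebraMap (Rh ⊗[R] S) (Localization.AtPrime Q)
    (algebraMap Rh (Rh ⊗[R] S) x)) = _
  rw [cMap_algebraMap, phi_algebraMap]

theorem hcb : (cMap R S Rh Sh Q hQ).comp (bMap R S q Rh Sh Q hQ) =
    algebraMap (Localization.AtPrime q) Sh := by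
  apply IsLocalization.ringHom_ext q.primeCompl
  refine RingHom.ext (fun s => ?_)
  show cMap R S Rh Sh Q hQ (bMap R S q Rh Sh Q hQ
      (algebraMap S (Localization.AtPrime q) s)) =
    algebraMap (Localization.AtPrime q) Sh (algebraMap S (Localization.AtPrime q) s)
  rw [bMap_algebraMap, cMap_algebraMap, phi_incR,
    ← IsScalarTower.algebraMap_apply S (Localization.AtPrime q) Sh]

/-- `Sh` is the henselization of `(Rh ⊗ S)_Q` -/
theorem exists_equiv_hens [IsLocalHom (algebraMap (Localization.AtPrime p) Rh)]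
    [Hensel.IsHenselization (Localization.AtPrime p) Rh]
    [Hensel.IsHenselization (Localization.AtPrime q) Sh]
    (E : Type u) [CommRing E] [IsLocalRing E] [Algebra (Localization.AtPrime Q) E]
    [IsLocalHom (algebraMap (Localization.AtPrime Q) E)]
    [Hensel.IsHenselization (Localization.AtPrime Q) E] :
    ∃ e : E ≃+* Sh, ∀ d : Rh ⊗[R] S,
      e (algebraMap (Localization.AtPrime Q) E
        (algebraMap (Rh ⊗[R] S) (Localization.AtPrime Q) d)) = phi R S Rh Sh d := by
  haveI := isLocalHom_uMap R S p q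
  haveI := isLocalHom_bMap R S q Rh Sh Q hQ
  haveI := isLocalHom_cMap R S Rh Sh Q hQ
  obtain ⟨hloc, hH⟩ := isHenselization_of_generated (Localization.AtPrime p) Rh
    (Localization.AtPrime q) Sh (Localization.AtPrime Q) (uMap R S p q) (algebraMap Rh Sh)
    (v_comp R S p q Rh Sh) (aMap R S Rh Q) (bMap R S q Rh Sh Q hQ) (cMap R S Rh Sh Q hQ)
    (hab R S p q Rh Sh Q hQ) (hca R S Rh Sh Q hQ) (hcb R S q Rh Sh Q hQ)
    (hepi R S q Rh Sh Q hQ)
  letI : Algebra (Localization.AtPrime Q) Sh := (cMap R S Rh Sh Q hQ).toAlgebra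
  haveI := hloc
  haveI := hH
  obtain ⟨e, he⟩ := exists_ringEquiv_of_isHenselization (Localization.AtPrime Q) E Sh
  refine ⟨e, fun d => ?_⟩
  rw [he]
  exact cMap_algebraMap R S Rh Sh Q hQ d

/-- `Sh` is the strict henselization of `(Rh ⊗ S)_Q` -/
theorem exists_equiv_shens [IsLocalHom (algebraMap (Localization.AtPrime p) Rh)]
    [Hensel.IsStrictHenselization (Localization.AtPrime p) Rh]
    [Hensel.IsStrictHenselization (Localization.AtPrime q) Sh]
    (E : Type u) [CommRing E] [IsLocalRing E] [Algebra (Localization.AtPrime Q) E]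
    [IsLocalHom (algebraMap (Localization.AtPrime Q) E)]
    [Hensel.IsStrictHenselization (Localization.AtPrime Q) E] :
    ∃ e : E ≃+* Sh, ∀ d : Rh ⊗[R] S,
      e (algebraMap (Localization.AtPrime Q) E
        (algebraMap (Rh ⊗[R] S) (Localization.AtPrime Q) d)) = phi R S Rh Sh d := by
  haveI := isLocalHom_uMap R S p q
  haveI := isLocalHom_bMap R S q Rh Sh Q hQ
  haveI := isLocalHom_cMap R S Rh Sh Q hQ
  haveI : IsLocalHom (algebraMap Rh Sh) :=
    isLocalHom_of_comp_eq (Localization.AtPrime p) Rh (Localization.AtPrime q) Sh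
      (uMap R S p q) (algebraMap Rh Sh) (v_comp R S p q Rh Sh)
  obtain ⟨hloc, hH⟩ := isStrictHenselization_of_generated (Localization.AtPrime p) Rh
    (Localization.AtPrime q) Sh (Localization.AtPrime Q) (uMap R S p q) (algebraMap Rh Sh)
    (v_comp R S p q Rh Sh) (aMap R S Rh Q) (bMap R S q Rh Sh Q hQ) (cMap R S Rh Sh Q hQ)
    (hab R S p q Rh Sh Q hQ) (hca R S Rh Sh Q hQ) (hcb R S q Rh Sh Q hQ)
    (hepi R S q Rh Sh Q hQ)
  letI : Algebra (Localization.AtPrime Q) Sh := (cMap R S Rh Sh Q hQ).toAlgebra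
  haveI := hloc
  haveI := hH
  obtain ⟨e, he⟩ := exists_ringEquiv_of_isStrictHenselization (Localization.AtPrime Q) E Sh
  refine ⟨e, fun d => ?_⟩
  rw [he]
  exact cMap_algebraMap R S Rh Sh Q hQ d

end Plumbing

end Groth.Agent.Helper1.TP
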