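import Groth.Agent.Lib.Helper1.TP4

/-!
# Integral algebras: the map of strict henselizations is integral
-/

set_option autoImplicit false

namespace Groth.Agent.Helper1.TP

open IsLocalRing TensorProduct Groth.Agent.Helper1

universe u

section Surj

variable (T : Type u) [CommRing T] (Q : Ideal T) [Q.IsPrime]

theorem surjective_of_exists
    (H : ∀ s : T, s ∉ Q → ∃ w t : T, t ∉ Q ∧ t * (s * w - 1) = 0) :
    Function.Surjective (algebraMap T (Localization.AtPrime Q)) := by
  intro z
  obtain ⟨x, ⟨s, hs⟩, rfl⟩ := IsLocalization.exists_mk'_eq Q.primeCompl z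
  obtain ⟨w, t, ht, htw⟩ := H s hs
  have hu : IsUnit (algebraMap T (Localization.AtPrime Q) t) :=
    IsLocalization.map_units _ (⟨t, ht⟩ : Q.primeCompl)
  have h1 : algebraMap T (Localization.AtPrime Q) s * algebraMap T (Localization.AtPrime Q) w
      = 1 := by
    have h2 : algebraMap T (Localization.AtPrime Q) t *
        (algebraMap T (Localization.AtPrime Q) s * algebraMap T (Localization.AtPrime Q) w - 1)
        = 0 := by
      rw [← map_mul, ← map_one (algebraMap T (Localization.AtPrime Q)), ← map_sub, ← map_mul,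
        htw, map_zero]
    exact sub_eq_zero.mp ((hu.mul_right_eq_zero).mp h2)
  refine ⟨x * w, ?_⟩
  have h4 := IsLocalization.mk'_spec (Localization.AtPrime Q) x (⟨s, hs⟩ : Q.primeCompl)
  calc algebraMap T (Localization.AtPrime Q) (x * w)
      = algebraMap T (Localization.AtPrime Q) x * algebraMap T (Localization.AtPrime Q) w :=
        map_mul _ _ _
    _ = IsLocalization.mk' (Localization.AtPrime Q) x (⟨s, hs⟩ : Q.primeCompl) *
        (algebraMap T (Localization.AtPrime Q) s * algebraMap T (Localization.AtPrime Q) w) := by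
        rw [← h4, mul_assoc]
    _ = IsLocalization.mk' (Localization.AtPrime Q) x (⟨s, hs⟩ : Q.primeCompl) := by
        rw [h1, mul_one]

end Surj

section Integral

theorem exists_mul_sub_one_eq_zero_of_isIntegral (R : Type u) [CommRing R] [HenselianLocalRing R]
    (T : Type u) [CommRing T] [Algebra R T]
    [Algebra.IsIntegral R T] (Q : Ideal T) [Q.IsPrime] [hQR : Q.LiesOver (maximalIdeal R)]
    (s : T) (hs : s ∉ Q) :
    ∃ w t : T, t ∉ Q ∧ t * (s * w - 1) = 0 := by
  haveI hfin : Module.Finite R (Algebra.adjoin R ({s} : Set T)) :=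
    Algebra.finite_adjoin_simple_of_isIntegral (Algebra.IsIntegral.isIntegral (R := R) s)
  haveI hQ'p : (Q.comap (Algebra.adjoin R ({s} : Set T)).val.toRingHom).IsPrime :=
    Ideal.comap_isPrime _ _
  haveI hQ'l : (Q.comap (Algebra.adjoin R ({s} : Set T)).val.toRingHom).LiesOver
      (maximalIdeal R) := by
    refine ⟨?_⟩
    rw [Ideal.under_def, Ideal.comap_comap]
    exact Q.over_def (maximalIdeal R)
  haveI : Module.Finite R ((Algebra.adjoin R ({s} : Set T)) ⧸
      Ideal.span ({1 - 1} : Set (Algebra.adjoin R ({s} : Set T)))) :=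
    Module.Finite.of_surjective (Ideal.Quotient.mkₐ R _).toLinearMap
      (Ideal.Quotient.mkₐ_surjective R _)
  have h1 : (1 : Algebra.adjoin R ({s} : Set T)) ∉
      Q.comap (Algebra.adjoin R ({s} : Set T)).val.toRingHom := fun h =>
    hQ'p.ne_top ((Ideal.eq_top_iff_one _).mpr h)
  obtain ⟨w, t, ht, htw⟩ := exists_mul_sub_one_eq_zero R (Algebra.adjoin R ({s} : Set T))
    (Q.comap (Algebra.adjoin R ({s} : Set T)).val.toRingHom) 1 IsIdempotentElem.one h1
    ⟨s, Algebra.self_mem_adjoin_singleton R s⟩ hs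
  refine ⟨w.1, t.1, ht, ?_⟩
  have h := congrArg (Algebra.adjoin R ({s} : Set T)).val htw
  rw [map_mul, map_sub, map_mul, map_one, map_zero] at h
  exact h

theorem isIntegral_localization_of_isIntegral (R : Type u) [CommRing R] [HenselianLocalRing R]
    (T : Type u) [CommRing T] [Algebra R T]
    [Algebra.IsIntegral R T] (Q : Ideal T) [Q.IsPrime] [hQR : Q.LiesOver (maximalIdeal R)] :
    Algebra.IsIntegral R (Localization.AtPrime Q) := by
  refine ⟨fun z => ?_⟩
  obtain ⟨y, rfl⟩ := surjective_of_exists T Q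
    (exists_mul_sub_one_eq_zero_of_isIntegral R T Q) z
  exact (Algebra.IsIntegral.isIntegral (R := R) y).algebraMap

end Integral

section Plumbing

variable (R S : Type u) [CommRing R] [CommRing S] [Algebra R S] (p : Ideal R) [p.IsPrime]
  (q : Ideal S) [q.IsPrime] [q.LiesOver p]
  (Rh : Type u) [CommRing Rh] [IsLocalRing Rh] [Algebra (Localization.AtPrime p) Rh]
  [Algebra R Rh] [IsScalarTower R (Localization.AtPrime p) Rh]
  (Sh : Type u) [CommRing Sh] [IsLocalRing Sh] [Algebra (Localization.AtPrime q) Sh]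
  [IsLocalHom (algebraMap (Localization.AtPrime q) Sh)] [Algebra S Sh]
  [IsScalarTower S (Localization.AtPrime q) Sh] [Algebra R Sh] [IsScalarTower R S Sh]
  [Algebra Rh Sh] [IsScalarTower R Rh Sh]
  (Q : Ideal (Rh ⊗[R] S)) [Q.IsPrime]
  (hQ : Q = Ideal.comap (phi R S Rh Sh) (maximalIdeal Sh))

include hQ in
theorem isIntegral_L [HenselianLocalRing Rh] [IsLocalHom (algebraMap Rh Sh)]
    [Algebra.IsIntegral R S] :
    Algebra.IsIntegral Rh (Localization.AtPrime Q) := by
  haveI := liesOver_Q R S Rh Sh Q hQ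
  exact isIntegral_localization_of_isIntegral Rh (Rh ⊗[R] S) Q

theorem isIntegral_of_equiv [Algebra.IsIntegral Rh (Localization.AtPrime Q)]
    (e : Localization.AtPrime Q ≃+* Sh)
    (he : ∀ d : Rh ⊗[R] S, e (algebraMap (Rh ⊗[R] S) (Localization.AtPrime Q) d) =
      phi R S Rh Sh d) : Algebra.IsIntegral Rh Sh := by
  have h4 : (e : Localization.AtPrime Q →+* Sh).comp (algebraMap Rh (Localization.AtPrime Q)) =
      algebraMap Rh Sh := by
    refine RingHom.ext (fun x => ?_)
    show e (algebraMap Rh (Localization.AtPrime Q) x) = _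
    rw [IsScalarTower.algebraMap_apply Rh (Rh ⊗[R] S) (Localization.AtPrime Q), he,
      phi_algebraMap]
  refine ⟨fun z => ?_⟩
  obtain ⟨l, rfl⟩ := e.surjective z
  obtain ⟨P, hP, hPl⟩ := Algebra.IsIntegral.isIntegral (R := Rh) l
  refine ⟨P, hP, ?_⟩
  have h5 := Polynomial.hom_eval₂ P (algebraMap Rh (Localization.AtPrime Q))
    (e : Localization.AtPrime Q →+* Sh) l
  rw [h4, hPl, map_zero] at h5
  exact h5.symm

end Plumbing

section Main

variable (R S : Type u) [CommRing R] [CommRing S] [Algebra R S] (p : Ideal R) [p.IsPrime]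
  (q : Ideal S) [q.IsPrime] [q.LiesOver p]
  (Rh : Type u) [CommRing Rh] [IsLocalRing Rh] [Algebra (Localization.AtPrime p) Rh]
  [Algebra R Rh] [IsScalarTower R (Localization.AtPrime p) Rh]
  (Sh : Type u) [CommRing Sh] [IsLocalRing Sh] [Algebra (Localization.AtPrime q) Sh]
  [IsLocalHom (algebraMap (Localization.AtPrime q) Sh)] [Algebra S Sh]
  [IsScalarTower S (Localization.AtPrime q) Sh] [Algebra R Sh] [IsScalarTower R S Sh]
  [Algebra Rh Sh] [IsScalarTower R Rh Sh]
  [Algebra.IsIntegral R S]
  [IsLocalHom (algebraMap (Localization.AtPrime p) Rh)]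

theorem isIntegral_of_isStrictHenselization
    [Hensel.IsStrictHenselization (Localization.AtPrime p) Rh]
    [Hensel.IsStrictHenselization (Localization.AtPrime q) Sh] : Algebra.IsIntegral Rh Sh := by
  haveI hRh : HenselianLocalRing Rh :=
    Hensel.IsStrictHenselization.henselian (R := Localization.AtPrime p)
  haveI := isLocalHom_uMap R S p q
  haveI hloc : IsLocalHom (algebraMap Rh Sh) :=
    isLocalHom_of_comp_eq (Localization.AtPrime p) Rh (Localization.AtPrime q) Sh
      (uMap R S p q) (algebraMap Rh Sh) (v_comp R S p q Rh Sh)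
  have hQ : Ideal.comap (phi R S Rh Sh) (maximalIdeal Sh) =
    Ideal.comap (phi R S Rh Sh) (maximalIdeal Sh) := rfl
  haveI hint : Algebra.IsIntegral Rh (Localization.AtPrime
      (Ideal.comap (phi R S Rh Sh) (maximalIdeal Sh))) := isIntegral_L R S Rh Sh _ hQ
  haveI : HenselianLocalRing (Localization.AtPrime
      (Ideal.comap (phi R S Rh Sh) (maximalIdeal Sh))) :=
    IH.henselianLocalRing_of_isIntegral Rh _
  haveI hlocL : IsLocalHom (algebraMap Rh (Localization.AtPrime
      (Ideal.comap (phi R S Rh Sh) (maximalIdeal Sh)))) :=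
    isLocalHom_algebraMap_L R S Rh Sh _ hQ
  haveI : IsSepClosed (ResidueField Rh) :=
    (Hensel.IsStrictHenselization.isSepClosure (R := Localization.AtPrime p) (S := Rh)).sep_closed
  haveI := isIntegral_residueField Rh (Localization.AtPrime
      (Ideal.comap (phi R S Rh Sh) (maximalIdeal Sh)))
  haveI : IsSepClosed (ResidueField (Localization.AtPrime
      (Ideal.comap (phi R S Rh Sh) (maximalIdeal Sh)))) :=
    IH.isSepClosed_of_isPurelyInseparable (ResidueField Rh) _
  haveI : Hensel.IsStrictHenselization (Localization.AtPrime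
      (Ideal.comap (phi R S Rh Sh) (maximalIdeal Sh))) (Localization.AtPrime
      (Ideal.comap (phi R S Rh Sh) (maximalIdeal Sh))) := isStrictHenselization_self _
  obtain ⟨e, he⟩ := exists_equiv_shens R S p q Rh Sh _ hQ (Localization.AtPrime
      (Ideal.comap (phi R S Rh Sh) (maximalIdeal Sh)))
  exact isIntegral_of_equiv R S Rh Sh _ e he

end Main

end Groth.Agent.Helper1.TP
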