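import Groth.Agent.Lib.Helper1.TP5

/-!
# Directed unions of quasi-finite algebras: the map of strict henselizations is integral
-/

set_option autoImplicit false

namespace Groth.Agent.Helper1.TP

open IsLocalRing TensorProduct Groth.Agent.Helper1

universe u

/-- a local algebra over a henselian local ring, every element of which is a fraction coming
from a quasi-finite algebra of finite type, is integral -/
theorem isIntegral_of_forall_exists_quasiFinite (R : Type u) [CommRing R] [HenselianLocalRing R]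
    (L : Type u) [CommRing L] [IsLocalRing L] [Algebra R L] [IsLocalHom (algebraMap R L)]
    (H : ∀ z : L, ∃ (T₀ : Type u) (_ : CommRing T₀) (_ : Algebra R T₀)
      (_ : Algebra.FiniteType R T₀) (_ : Algebra.QuasiFinite R T₀) (ψ : T₀ →ₐ[R] L)
      (x₀ s₀ : T₀), IsUnit (ψ s₀) ∧ z * ψ s₀ = ψ x₀) :
    Algebra.IsIntegral R L := by
  refine ⟨fun z => ?_⟩
  obtain ⟨T₀, _, _, _, _, ψ, x₀, s₀, hu, hz⟩ := H z
  haveI hQ₀ : (Ideal.comap ψ.toRingHom (maximalIdeal L)).IsPrime := Ideal.comap_isPrime _ _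
  haveI hl : (Ideal.comap ψ.toRingHom (maximalIdeal L)).LiesOver (maximalIdeal R) := by
    refine ⟨?_⟩
    rw [Ideal.under_def, Ideal.comap_comap]
    have h : ψ.toRingHom.comp (algebraMap R T₀) = algebraMap R L := ψ.comp_algebraMap
    rw [h]
    have h4 : Ideal.comap (algebraMap R L) (maximalIdeal L) = maximalIdeal R :=
      ((IsLocalRing.local_hom_TFAE (algebraMap R L)).out 0 4).mp
        (inferInstance : IsLocalHom (algebraMap R L))
    exact h4.symm
  haveI hfin : Module.Finite R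
      (Localization.AtPrime (Ideal.comap ψ.toRingHom (maximalIdeal L))) :=
    finite_localization_of_quasiFiniteAt R T₀ _
  have hunit : ∀ y : (Ideal.comap ψ.toRingHom (maximalIdeal L)).primeCompl,
      IsUnit (ψ.toRingHom y) := by
    rintro ⟨y, hy⟩
    have hy' : y ∉ Ideal.comap ψ.toRingHom (maximalIdeal L) := hy
    rw [Ideal.mem_comap] at hy'
    exact IsLocalRing.notMem_maximalIdeal.mp hy'
  have hs₀ : s₀ ∈ (Ideal.comap ψ.toRingHom (maximalIdeal L)).primeCompl := by
    show s₀ ∉ Ideal.comap ψ.toRingHom (maximalIdeal L)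
    rw [Ideal.mem_comap]
    exact IsLocalRing.notMem_maximalIdeal.mpr hu
  have hz' : IsLocalization.lift (M := (Ideal.comap ψ.toRingHom (maximalIdeal L)).primeCompl)
      (S := Localization.AtPrime (Ideal.comap ψ.toRingHom (maximalIdeal L))) hunit
      (IsLocalization.mk' _ x₀ ⟨s₀, hs₀⟩) = z :=
    (IsLocalization.lift_mk'_spec _ _ _ _).mpr (by
      show ψ x₀ = ψ s₀ * z
      rw [mul_comm]; exact hz.symm)
  have hcomp : (IsLocalization.lift (M := (Ideal.comap ψ.toRingHom (maximalIdeal L)).primeCompl)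
      (S := Localization.AtPrime (Ideal.comap ψ.toRingHom (maximalIdeal L))) hunit).comp
      (algebraMap R (Localization.AtPrime (Ideal.comap ψ.toRingHom (maximalIdeal L)))) =
      algebraMap R L := by
    refine RingHom.ext (fun r => ?_)
    rw [RingHom.comp_apply, IsScalarTower.algebraMap_apply R T₀
      (Localization.AtPrime (Ideal.comap ψ.toRingHom (maximalIdeal L))), IsLocalization.lift_eq]
    exact ψ.commutes r
  obtain ⟨P, hP, hPl⟩ := Algebra.IsIntegral.isIntegral (R := R)
    (IsLocalization.mk' (Localization.AtPrime (Ideal.comap ψ.toRingHom (maximalIdeal L)))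
      x₀ ⟨s₀, hs₀⟩)
  refine ⟨P, hP, ?_⟩
  have h5 := Polynomial.hom_eval₂ P
    (algebraMap R (Localization.AtPrime (Ideal.comap ψ.toRingHom (maximalIdeal L))))
    (IsLocalization.lift (M := (Ideal.comap ψ.toRingHom (maximalIdeal L)).primeCompl)
      (S := Localization.AtPrime (Ideal.comap ψ.toRingHom (maximalIdeal L))) hunit)
    (IsLocalization.mk' _ x₀ ⟨s₀, hs₀⟩)
  rw [hcomp, hPl, map_zero, hz'] at h5
  exact h5.symm

/-- an element of `Rh ⊗[R] S` comes from `Rh ⊗[R] B₀` for every large enough subalgebra -/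
theorem exists_finset_range (R S Rh : Type u) [CommRing R] [CommRing S] [Algebra R S]
    [CommRing Rh] [Algebra R Rh] (x : Rh ⊗[R] S) :
    ∃ F : Finset S, ∀ B₀ : Subalgebra R S, (↑F : Set S) ⊆ ↑B₀ →
      x ∈ (Algebra.TensorProduct.map (AlgHom.id Rh Rh) B₀.val).range := by
  classical
  induction x using TensorProduct.induction_on with
  | zero => exact ⟨∅, fun B₀ _ => Subalgebra.zero_mem _⟩
  | tmul a b =>
    refine ⟨{b}, fun B₀ h => ⟨a ⊗ₜ[R] (⟨b, h (by simp)⟩ : B₀), ?_⟩⟩
    show Algebra.TensorProduct.map (AlgHom.id Rh Rh) B₀.val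
      (a ⊗ₜ[R] (⟨b, h (by simp)⟩ : B₀)) = _
    rw [Algebra.TensorProduct.map_tmul]
    rfl
  | add x y hx hy =>
    obtain ⟨F₁, h₁⟩ := hx
    obtain ⟨F₂, h₂⟩ := hy
    refine ⟨F₁ ∪ F₂, fun B₀ h => Subalgebra.add_mem _ (h₁ B₀ ?_) (h₂ B₀ ?_)⟩
    · exact (Finset.coe_subset.mpr Finset.subset_union_left).trans h
    · exact (Finset.coe_subset.mpr Finset.subset_union_right).trans h

section Plumbing

variable (R S : Type u) [CommRing R] [CommRing S] [Algebra R S] (p : Ideal R) [p.IsPrime]
  (q : Ideal S) [q.IsPrime] [q.LiesOver p]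
  (Rh : Type u) [CommRing Rh] [IsLocalRing Rh] [Algebra (Localization.AtPrime p) Rh]
  [Algebra R Rh] [IsScalarTower R (Localization.AtPrime p) Rh]
  (Sh : Type u) [CommRing Sh] [IsLocalRing Sh] [Algebra (Localization.AtPrime q) Sh]
  [IsLocalHom (algebraMap (Localization.AtPrime q) Sh)] [Algebra S Sh]
  [IsScalarTower S (Localization.AtPrime q) Sh] [Algebra R Sh] [IsScalarTower R S Sh]
  [Algebra Rh Sh] [IsScalarTower R Rh Sh]
  (Q : Ideal (Rh ⊗[R] S)) [Q.IsPrime]
  (hQ : Q = Ideal.comap (phi R S Rh Sh) (maximalIdeal Sh))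

include hQ in
theorem isIntegral_L_of_union [HenselianLocalRing Rh] [IsLocalHom (algebraMap Rh Sh)]
    (hB : ∀ s : Finset S, ∃ B₀ : Subalgebra R S, (↑s : Set S) ⊆ ↑B₀ ∧
      Algebra.FiniteType R ↥B₀ ∧ Algebra.QuasiFinite R ↥B₀) :
    Algebra.IsIntegral Rh (Localization.AtPrime Q) := by
  classical
  haveI := isLocalHom_algebraMap_L R S Rh Sh Q hQ
  apply isIntegral_of_forall_exists_quasiFinite
  intro z
  obtain ⟨x, ⟨s, hs⟩, rfl⟩ := IsLocalization.exists_mk'_eq Q.primeCompl z
  obtain ⟨F₁, h₁⟩ := exists_finset_range R S Rh x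
  obtain ⟨F₂, h₂⟩ := exists_finset_range R S Rh s
  obtain ⟨B₀, hB₀, hft, hqf⟩ := hB (F₁ ∪ F₂)
  obtain ⟨x₀, hx₀'⟩ := h₁ B₀ ((Finset.coe_subset.mpr Finset.subset_union_left).trans hB₀)
  obtain ⟨s₀, hs₀'⟩ := h₂ B₀ ((Finset.coe_subset.mpr Finset.subset_union_right).trans hB₀)
  have hx₀ : Algebra.TensorProduct.map (AlgHom.id Rh Rh) B₀.val x₀ = x := hx₀'
  have hs₀ : Algebra.TensorProduct.map (AlgHom.id Rh Rh) B₀.val s₀ = s := hs₀'
  refine ⟨Rh ⊗[R] B₀, inferInstance, inferInstance, inferInstance, inferInstance,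
    (IsScalarTower.toAlgHom Rh (Rh ⊗[R] S) (Localization.AtPrime Q)).comp
      (Algebra.TensorProduct.map (AlgHom.id Rh Rh) B₀.val), x₀, s₀, ?_, ?_⟩
  · show IsUnit (algebraMap (Rh ⊗[R] S) (Localization.AtPrime Q)
      (Algebra.TensorProduct.map (AlgHom.id Rh Rh) B₀.val s₀))
    rw [hs₀]
    exact IsLocalization.map_units _ (⟨s, hs⟩ : Q.primeCompl)
  · show _ * algebraMap (Rh ⊗[R] S) (Localization.AtPrime Q)
      (Algebra.TensorProduct.map (AlgHom.id Rh Rh) B₀.val s₀) =
      algebraMap (Rh ⊗[R] S) (Localization.AtPrime Q)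
      (Algebra.TensorProduct.map (AlgHom.id Rh Rh) B₀.val x₀)
    rw [hs₀, hx₀]
    exact IsLocalization.mk'_spec _ x (⟨s, hs⟩ : Q.primeCompl)

end Plumbing

section Main

variable (R S : Type u) [CommRing R] [CommRing S] [Algebra R S] (p : Ideal R) [p.IsPrime]
  (q : Ideal S) [q.IsPrime] [q.LiesOver p]
  (Rh : Type u) [CommRing Rh] [IsLocalRing Rh] [Algebra (Localization.AtPrime p) Rh]
  [Algebra R Rh] [IsScalarTower R (Localization.AtPrime p) Rh]
  (Sh : Type u) [CommRing Sh] [IsLocalRing Sh] [Algebra (Localization.AtPrime q) Sh]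
  [IsLocalHom (algebraMap (Localization.AtPrime q) Sh)] [Algebra S Sh]
  [IsScalarTower S (Localization.AtPrime q) Sh] [Algebra R Sh] [IsScalarTower R S Sh]
  [Algebra Rh Sh] [IsScalarTower R Rh Sh]
  [IsLocalHom (algebraMap (Localization.AtPrime p) Rh)]

/-- generic version: if `(Rh ⊗ S)_Q` is integral over `Rh` then so is `Sh` -/
theorem isIntegral_of_isIntegral_L
    [Hensel.IsStrictHenselization (Localization.AtPrime p) Rh]
    [Hensel.IsStrictHenselization (Localization.AtPrime q) Sh]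
    (hint : Algebra.IsIntegral Rh (Localization.AtPrime
      (Ideal.comap (phi R S Rh Sh) (maximalIdeal Sh)))) : Algebra.IsIntegral Rh Sh := by
  haveI hRh : HenselianLocalRing Rh :=
    Hensel.IsStrictHenselization.henselian (R := Localization.AtPrime p)
  haveI := isLocalHom_uMap R S p q
  haveI hloc : IsLocalHom (algebraMap Rh Sh) :=
    isLocalHom_of_comp_eq (Localization.AtPrime p) Rh (Localization.AtPrime q) Sh
      (uMap R S p q) (algebraMap Rh Sh) (v_comp R S p q Rh Sh)
  have hQ : Ideal.comap (phi R S Rh Sh) (maximalIdeal Sh) =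
    Ideal.comap (phi R S Rh Sh) (maximalIdeal Sh) := rfl
  haveI := hint
  haveI : HenselianLocalRing (Localization.AtPrime
      (Ideal.comap (phi R S Rh Sh) (maximalIdeal Sh))) :=
    IH.henselianLocalRing_of_isIntegral Rh _
  haveI hlocL : IsLocalHom (algebraMap Rh (Localization.AtPrime
      (Ideal.comap (phi R S Rh Sh) (maximalIdeal Sh)))) :=
    isLocalHom_algebraMap_L R S Rh Sh _ hQ
  haveI : IsSepClosed (ResidueField Rh) :=
    (Hensel.IsStrictHenselization.isSepClosure (R := Localization.AtPrime p) (S := Rh)).sep_closed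
  haveI := isIntegral_residueField Rh (Localization.AtPrime
      (Ideal.comap (phi R S Rh Sh) (maximalIdeal Sh)))
  haveI : IsSepClosed (ResidueField (Localization.AtPrime
      (Ideal.comap (phi R S Rh Sh) (maximalIdeal Sh)))) :=
    IH.isSepClosed_of_isPurelyInseparable (ResidueField Rh) _
  haveI : Hensel.IsStrictHenselization (Localization.AtPrime
      (Ideal.comap (phi R S Rh Sh) (maximalIdeal Sh))) (Localization.AtPrime
      (Ideal.comap (phi R S Rh Sh) (maximalIdeal Sh))) := isStrictHenselization_self _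
  obtain ⟨e, he⟩ := exists_equiv_shens R S p q Rh Sh _ hQ (Localization.AtPrime
      (Ideal.comap (phi R S Rh Sh) (maximalIdeal Sh)))
  exact isIntegral_of_equiv R S Rh Sh _ e he

theorem isIntegral_of_isStrictHenselization_of_union
    [Hensel.IsStrictHenselization (Localization.AtPrime p) Rh]
    [Hensel.IsStrictHenselization (Localization.AtPrime q) Sh]
    (hB : ∀ s : Finset S, ∃ B₀ : Subalgebra R S, (↑s : Set S) ⊆ ↑B₀ ∧
      Algebra.FiniteType R ↥B₀ ∧ Algebra.QuasiFinite R ↥B₀) : Algebra.IsIntegral Rh Sh := by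
  haveI hRh : HenselianLocalRing Rh :=
    Hensel.IsStrictHenselization.henselian (R := Localization.AtPrime p)
  haveI := isLocalHom_uMap R S p q
  haveI hloc : IsLocalHom (algebraMap Rh Sh) :=
    isLocalHom_of_comp_eq (Localization.AtPrime p) Rh (Localization.AtPrime q) Sh
      (uMap R S p q) (algebraMap Rh Sh) (v_comp R S p q Rh Sh)
  exact isIntegral_of_isIntegral_L R S p q Rh Sh (isIntegral_L_of_union R S Rh Sh _ rfl hB)

end Main

end Groth.Agent.Helper1.TP
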