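import Groth.Agent.Lib.Helper1.TP6

/-!
# Directed unions of quasi-finite algebras, local version
-/

set_option autoImplicit false

namespace Groth.Agent.Helper1.TP

open IsLocalRing TensorProduct Groth.Agent.Helper1

universe u

section Plumbing

variable (R S : Type u) [CommRing R] [CommRing S] [Algebra R S] (p : Ideal R) [p.IsPrime]
  (q : Ideal S) [q.IsPrime] [q.LiesOver p]
  (Rh : Type u) [CommRing Rh] [IsLocalRing Rh] [Algebra (Localization.AtPrime p) Rh]
  [Algebra R Rh] [IsScalarTower R (Localization.AtPrime p) Rh]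
  (Sh : Type u) [CommRing Sh] [IsLocalRing Sh] [Algebra (Localization.AtPrime q) Sh]
  [IsLocalHom (algebraMap (Localization.AtPrime q) Sh)] [Algebra S Sh]
  [IsScalarTower S (Localization.AtPrime q) Sh] [Algebra R Sh] [IsScalarTower R S Sh]
  [Algebra Rh Sh] [IsScalarTower R Rh Sh]
  (Q : Ideal (Rh ⊗[R] S)) [Q.IsPrime]
  (hQ : Q = Ideal.comap (phi R S Rh Sh) (maximalIdeal Sh))

include hQ in
theorem isIntegral_L_of_union_loc [HenselianLocalRing Rh] [IsLocalHom (algebraMap Rh Sh)]
    [Algebra (Localization.AtPrime p) (Localization.AtPrime q)]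
    [IsScalarTower R (Localization.AtPrime p) (Localization.AtPrime q)]
    (hB : ∀ s : Finset (Localization.AtPrime q),
      ∃ B₀ : Subalgebra (Localization.AtPrime p) (Localization.AtPrime q),
        (↑s : Set (Localization.AtPrime q)) ⊆ ↑B₀ ∧
          Algebra.FiniteType (Localization.AtPrime p) ↥B₀ ∧
            Algebra.QuasiFinite (Localization.AtPrime p) ↥B₀) :
    Algebra.IsIntegral Rh (Localization.AtPrime Q) := by
  classical
  haveI := isLocalHom_algebraMap_L R S Rh Sh Q hQ
  haveI : IsScalarTower (Localization.AtPrime p) Rh (Localization.AtPrime Q) :=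
    IsScalarTower.of_algebraMap_eq (fun r => by
      rw [IsScalarTower.algebraMap_apply (Localization.AtPrime p) (Rh ⊗[R] S)
          (Localization.AtPrime Q),
        IsScalarTower.algebraMap_apply (Localization.AtPrime p) Rh (Rh ⊗[R] S),
        ← IsScalarTower.algebraMap_apply Rh (Rh ⊗[R] S) (Localization.AtPrime Q)])
  have hu : algebraMap (Localization.AtPrime p) (Localization.AtPrime q) = uMap R S p q := by
    apply IsLocalization.ringHom_ext p.primeCompl
    refine RingHom.ext (fun a => ?_)
    show algebraMap (Localization.AtPrime p) (Localization.AtPrime q)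
        (algebraMap R (Localization.AtPrime p) a) =
      uMap R S p q (algebraMap R (Localization.AtPrime p) a)
    rw [uMap_algebraMap, ← IsScalarTower.algebraMap_apply R (Localization.AtPrime p)
      (Localization.AtPrime q), IsScalarTower.algebraMap_apply R S (Localization.AtPrime q)]
  let j : Localization.AtPrime q →ₐ[Localization.AtPrime p] Localization.AtPrime Q :=
    { bMap R S q Rh Sh Q hQ with
      commutes' := fun r => by
        show bMap R S q Rh Sh Q hQ
            (algebraMap (Localization.AtPrime p) (Localization.AtPrime q) r) =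
          algebraMap (Localization.AtPrime p) (Localization.AtPrime Q) r
        rw [IsScalarTower.algebraMap_apply (Localization.AtPrime p) Rh (Localization.AtPrime Q),
          hu]
        have h := RingHom.congr_fun (hab R S p q Rh Sh Q hQ) r
        rw [RingHom.comp_apply, RingHom.comp_apply] at h
        rw [← h, IsScalarTower.algebraMap_apply Rh (Rh ⊗[R] S) (Localization.AtPrime Q)]
        rfl }
  have hj : ∀ b : S, j (algebraMap S (Localization.AtPrime q) b) =
      algebraMap (Rh ⊗[R] S) (Localization.AtPrime Q) (IH.incR R Rh S b) :=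
    fun b => bMap_algebraMap R S q Rh Sh Q hQ b
  have key : ∀ x : Rh ⊗[R] S, ∃ F : Finset (Localization.AtPrime q),
      ∀ B₀ : Subalgebra (Localization.AtPrime p) (Localization.AtPrime q),
        (↑F : Set (Localization.AtPrime q)) ⊆ ↑B₀ →
      algebraMap (Rh ⊗[R] S) (Localization.AtPrime Q) x ∈
        (Algebra.TensorProduct.lift (Algebra.ofId Rh (Localization.AtPrime Q))
          (j.comp B₀.val) (fun _ _ => Commute.all _ _)).range := by
    intro x
    induction x using TensorProduct.induction_on with
    | zero => exact ⟨∅, fun B₀ _ => by rw [map_zero]; exact Subalgebra.zero_mem _⟩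
    | tmul a b =>
      refine ⟨{algebraMap S (Localization.AtPrime q) b}, fun B₀ h =>
        ⟨a ⊗ₜ[Localization.AtPrime p]
          (⟨algebraMap S (Localization.AtPrime q) b, h (by simp)⟩ : B₀), ?_⟩⟩
      show Algebra.TensorProduct.lift (Algebra.ofId Rh (Localization.AtPrime Q))
          (j.comp B₀.val) (fun _ _ => Commute.all _ _)
          (a ⊗ₜ[Localization.AtPrime p]
            (⟨algebraMap S (Localization.AtPrime q) b, h (by simp)⟩ : B₀)) = _
      rw [Algebra.TensorProduct.lift_tmul, IH.tmul_eq_mul, map_mul]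
      have e1 : Algebra.ofId Rh (Localization.AtPrime Q) a =
          algebraMap (Rh ⊗[R] S) (Localization.AtPrime Q) (algebraMap Rh (Rh ⊗[R] S) a) :=
        IsScalarTower.algebraMap_apply Rh (Rh ⊗[R] S) (Localization.AtPrime Q) a
      have e2 : (j.comp B₀.val)
          (⟨algebraMap S (Localization.AtPrime q) b, h (by simp)⟩ : B₀) =
          algebraMap (Rh ⊗[R] S) (Localization.AtPrime Q) (IH.incR R Rh S b) := hj b
      rw [e1, e2]
    | add x y hx hy =>
      obtain ⟨F₁, h₁⟩ := hx
      obtain ⟨F₂, h₂⟩ := hy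
      refine ⟨F₁ ∪ F₂, fun B₀ h => ?_⟩
      rw [map_add]
      exact Subalgebra.add_mem _
        (h₁ B₀ ((Finset.coe_subset.mpr Finset.subset_union_left).trans h))
        (h₂ B₀ ((Finset.coe_subset.mpr Finset.subset_union_right).trans h))
  apply isIntegral_of_forall_exists_quasiFinite
  intro z
  obtain ⟨x, ⟨s, hs⟩, rfl⟩ := IsLocalization.exists_mk'_eq Q.primeCompl z
  obtain ⟨F₁, h₁⟩ := key x
  obtain ⟨F₂, h₂⟩ := key s
  obtain ⟨B₀, hB₀, hft, hqf⟩ := hB (F₁ ∪ F₂)
  obtain ⟨x₀, hx₀'⟩ := h₁ B₀ ((Finset.coe_subset.mpr Finset.subset_union_left).trans hB₀)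
  obtain ⟨s₀, hs₀'⟩ := h₂ B₀ ((Finset.coe_subset.mpr Finset.subset_union_right).trans hB₀)
  have hx₀ : Algebra.TensorProduct.lift (Algebra.ofId Rh (Localization.AtPrime Q))
      (j.comp B₀.val) (fun _ _ => Commute.all _ _) x₀ =
      algebraMap (Rh ⊗[R] S) (Localization.AtPrime Q) x := hx₀'
  have hs₀ : Algebra.TensorProduct.lift (Algebra.ofId Rh (Localization.AtPrime Q))
      (j.comp B₀.val) (fun _ _ => Commute.all _ _) s₀ =
      algebraMap (Rh ⊗[R] S) (Localization.AtPrime Q) s := hs₀'
  haveI := hft
  haveI := hqf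
  refine ⟨Rh ⊗[Localization.AtPrime p] B₀, inferInstance, inferInstance, inferInstance,
    inferInstance, Algebra.TensorProduct.lift (Algebra.ofId Rh (Localization.AtPrime Q))
      (j.comp B₀.val) (fun _ _ => Commute.all _ _), x₀, s₀, ?_, ?_⟩
  · rw [hs₀]
    exact IsLocalization.map_units _ (⟨s, hs⟩ : Q.primeCompl)
  · rw [hs₀, hx₀]
    exact IsLocalization.mk'_spec _ x (⟨s, hs⟩ : Q.primeCompl)

end Plumbing

section Main

variable (R S : Type u) [CommRing R] [CommRing S] [Algebra R S] (p : Ideal R) [p.IsPrime]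
  (q : Ideal S) [q.IsPrime] [q.LiesOver p]
  (Rh : Type u) [CommRing Rh] [IsLocalRing Rh] [Algebra (Localization.AtPrime p) Rh]
  [Algebra R Rh] [IsScalarTower R (Localization.AtPrime p) Rh]
  (Sh : Type u) [CommRing Sh] [IsLocalRing Sh] [Algebra (Localization.AtPrime q) Sh]
  [IsLocalHom (algebraMap (Localization.AtPrime q) Sh)] [Algebra S Sh]
  [IsScalarTower S (Localization.AtPrime q) Sh] [Algebra R Sh] [IsScalarTower R S Sh]
  [Algebra Rh Sh] [IsScalarTower R Rh Sh]
  [IsLocalHom (algebraMap (Localization.AtPrime p) Rh)]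

theorem isIntegral_of_isStrictHenselization_of_union_loc
    [Hensel.IsStrictHenselization (Localization.AtPrime p) Rh]
    [Hensel.IsStrictHenselization (Localization.AtPrime q) Sh]
    [Algebra (Localization.AtPrime p) (Localization.AtPrime q)]
    [IsScalarTower R (Localization.AtPrime p) (Localization.AtPrime q)]
    (hB : ∀ s : Finset (Localization.AtPrime q),
      ∃ B₀ : Subalgebra (Localization.AtPrime p) (Localization.AtPrime q),
        (↑s : Set (Localization.AtPrime q)) ⊆ ↑B₀ ∧
          Algebra.FiniteType (Localization.AtPrime p) ↥B₀ ∧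
            Algebra.QuasiFinite (Localization.AtPrime p) ↥B₀) : Algebra.IsIntegral Rh Sh := by
  haveI hRh : HenselianLocalRing Rh :=
    Hensel.IsStrictHenselization.henselian (R := Localization.AtPrime p)
  haveI := isLocalHom_uMap R S p q
  haveI hloc : IsLocalHom (algebraMap Rh Sh) :=
    isLocalHom_of_comp_eq (Localization.AtPrime p) Rh (Localization.AtPrime q) Sh
      (uMap R S p q) (algebraMap Rh Sh) (v_comp R S p q Rh Sh)
  exact isIntegral_of_isIntegral_L R S p q Rh Sh
    (isIntegral_L_of_union_loc R S p q Rh Sh _ rfl hB)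

end Main

end Groth.Agent.Helper1.TP
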