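import Groth.Agent.Lib.Helper1.TP5

/-!
# The strict henselization of a finite local algebra: `Bˢʰ ≃ (B ⊗[A] Aˢʰ)_q`
-/

set_option autoImplicit false

namespace Groth.Agent.Helper1.TP

open IsLocalRing TensorProduct Groth.Agent.Helper1

universe u

theorem incR_finite (A B S : Type u) [CommRing A] [CommRing B] [Algebra A B] [CommRing S]
    [Algebra A S] [Module.Finite A B] : (IH.incR A B S).Finite := by
  have h1 : (algebraMap S (S ⊗[A] B)).Finite := RingHom.finite_algebraMap.mpr inferInstance
  have h2 : ((Algebra.TensorProduct.comm A S B : S ⊗[A] B ≃ₐ[A] B ⊗[A] S) :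
      S ⊗[A] B →+* B ⊗[A] S).Finite :=
    RingHom.Finite.of_surjective _ (Algebra.TensorProduct.comm A S B).surjective
  have h3 := h2.comp h1
  have h4 : ((Algebra.TensorProduct.comm A S B : S ⊗[A] B ≃ₐ[A] B ⊗[A] S) :
      S ⊗[A] B →+* B ⊗[A] S).comp (algebraMap S (S ⊗[A] B)) = IH.incR A B S :=
    RingHom.ext (fun s => by
      show Algebra.TensorProduct.comm A S B (s ⊗ₜ[A] (1 : B)) = (1 : B) ⊗ₜ[A] s
      exact Algebra.TensorProduct.comm_tmul A s 1)
  rw [h4] at h3
  exact h3

section Main

variable (A B S T : Type u) [CommRing A] [IsLocalRing A] [CommRing B] [IsLocalRing B]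
  [Algebra A B] [Module.Finite A B]
  [CommRing S] [IsLocalRing S] [Algebra A S] [IsLocalHom (algebraMap A S)]
  [Hensel.IsStrictHenselization A S]
  [CommRing T] [IsLocalRing T] [Algebra B T] [IsLocalHom (algebraMap B T)]
  [Hensel.IsStrictHenselization B T]

/-- a map `Aˢʰ → Bˢʰ` over `A → B` -/
theorem exists_v [IsLocalHom (algebraMap A B)] : ∃ v : S →+* T,
    v.comp (algebraMap A S) = (algebraMap B T).comp (algebraMap A B) := by
  haveI hT : HenselianLocalRing T := Hensel.IsStrictHenselization.henselian (R := B)
  haveI : IsSepClosed (ResidueField T) :=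
    (Hensel.IsStrictHenselization.isSepClosure (R := B) (S := T)).sep_closed
  haveI : Algebra.IsSeparable (ResidueField A) (ResidueField S) :=
    (Hensel.IsStrictHenselization.isSepClosure (R := A) (S := S)).separable
  haveI hloc : IsLocalHom ((algebraMap B T).comp (algebraMap A B)) :=
    RingHom.isLocalHom_comp _ _
  letI : Algebra (ResidueField A) (ResidueField T) :=
    (ResidueField.map ((algebraMap B T).comp (algebraMap A B))).toAlgebra
  let τ₀ : ResidueField S →ₐ[ResidueField A] ResidueField T := IsSepClosed.lift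
  obtain ⟨v, ⟨hv, -⟩, -⟩ := Hensel.IsStrictHenselization.universal (R := A) (S := S) T
    ((algebraMap B T).comp (algebraMap A B)) (τ₀ : ResidueField S →+* ResidueField T)
    τ₀.comp_algebraMap
  exact ⟨v, hv⟩

theorem exists_equiv_finite_local :
    ∃ (q : Ideal (B ⊗[A] S)) (_ : q.IsMaximal), Nonempty (Localization.AtPrime q ≃ₐ[B] T) := by
  haveI hAB : IsLocalHom (algebraMap A B) :=
    ((IsLocalRing.local_hom_TFAE (algebraMap A B)).out 4 0).mp
      (IsLocalRing.eq_maximalIdeal
        (Ideal.isMaximal_comap_of_isIntegral_of_isMaximal (R := A) (maximalIdeal B)))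
  haveI hS : HenselianLocalRing S := Hensel.IsStrictHenselization.henselian (R := A)
  haveI hT : HenselianLocalRing T := Hensel.IsStrictHenselization.henselian (R := B)
  obtain ⟨v, hv⟩ := exists_v A B S T
  haveI hvl : IsLocalHom v := isLocalHom_of_comp_eq A S B T (algebraMap A B) v hv
  letI algAT : Algebra A T := ((algebraMap B T).comp (algebraMap A B)).toAlgebra
  haveI : IsScalarTower A B T := IsScalarTower.of_algebraMap_eq (fun _ => rfl)
  let vₐ : S →ₐ[A] T := { v with commutes' := fun a => RingHom.congr_fun hv a }
  let phi : B ⊗[A] S →ₐ[A] T :=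
    Algebra.TensorProduct.lift (IsScalarTower.toAlgHom A B T) vₐ (fun _ _ => Commute.all _ _)
  have hphi : ∀ (x : B) (s : S), phi (x ⊗ₜ[A] s) = algebraMap B T x * v s := by
    intro x s
    show Algebra.TensorProduct.lift (IsScalarTower.toAlgHom A B T) vₐ
      (fun _ _ => Commute.all _ _) (x ⊗ₜ[A] s) = _
    rw [Algebra.TensorProduct.lift_tmul]
    rfl
  have hphiB : ∀ x : B, phi (algebraMap B (B ⊗[A] S) x) = algebraMap B T x := by
    intro x
    show phi (x ⊗ₜ[A] (1 : S)) = _
    rw [hphi, map_one, mul_one]
  have hphiS : ∀ s : S, phi (IH.incR A B S s) = v s := by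
    intro s
    show phi ((1 : B) ⊗ₜ[A] s) = _
    rw [hphi, map_one, one_mul]
  letI algSC : Algebra S (B ⊗[A] S) := (IH.incR A B S).toAlgebra
  haveI hfinC : Module.Finite S (B ⊗[A] S) := incR_finite A B S
  haveI hQp : (Ideal.comap phi.toRingHom (maximalIdeal T)).IsPrime := Ideal.comap_isPrime _ _
  have hcomapS : (Ideal.comap phi.toRingHom (maximalIdeal T)).comap
      (algebraMap S (B ⊗[A] S)) = maximalIdeal S := by
    rw [Ideal.comap_comap]
    have h : phi.toRingHom.comp (algebraMap S (B ⊗[A] S)) = v :=
      RingHom.ext (fun s => hphiS s)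
    rw [h]
    exact ((IsLocalRing.local_hom_TFAE v).out 0 4).mp hvl
  haveI hQl : (Ideal.comap phi.toRingHom (maximalIdeal T)).LiesOver (maximalIdeal S) :=
    ⟨by rw [Ideal.under_def, hcomapS]⟩
  have hQmax : (Ideal.comap phi.toRingHom (maximalIdeal T)).IsMaximal := by
    apply Ideal.isMaximal_of_isIntegral_of_isMaximal_comap (R := S)
    rw [hcomapS]
    exact maximalIdeal.isMaximal S
  haveI hfinL : Module.Finite S (Localization.AtPrime
      (Ideal.comap phi.toRingHom (maximalIdeal T))) :=
    finite_localization_of_finite S (B ⊗[A] S) _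
  haveI hLh : HenselianLocalRing (Localization.AtPrime
      (Ideal.comap phi.toRingHom (maximalIdeal T))) := IH.henselianLocalRing_of_finite S _
  -- the map `c`
  have hunit : ∀ y : (Ideal.comap phi.toRingHom (maximalIdeal T)).primeCompl,
      IsUnit (phi.toRingHom y) := by
    rintro ⟨y, hy⟩
    have hy' : y ∉ Ideal.comap phi.toRingHom (maximalIdeal T) := hy
    rw [Ideal.mem_comap] at hy'
    exact IsLocalRing.notMem_maximalIdeal.mp hy'
  obtain ⟨c, hc⟩ : ∃ c : Localization.AtPrime (Ideal.comap phi.toRingHom (maximalIdeal T)) →+* T,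
      ∀ d, c (algebraMap (B ⊗[A] S) _ d) = phi d :=
    ⟨IsLocalization.lift (M := (Ideal.comap phi.toRingHom (maximalIdeal T)).primeCompl) hunit,
      fun d => IsLocalization.lift_eq hunit d⟩
  haveI hcl : IsLocalHom c := by
    refine ⟨fun z hz => ?_⟩
    obtain ⟨x, y, rfl⟩ := IsLocalization.exists_mk'_eq
      (Ideal.comap phi.toRingHom (maximalIdeal T)).primeCompl z
    have h1 := IsLocalization.mk'_spec (Localization.AtPrime
      (Ideal.comap phi.toRingHom (maximalIdeal T))) x y
    have h2 : IsUnit (phi x) := by
      rw [← hc x, ← h1, map_mul, hc]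
      exact hz.mul (hunit y)
    have h3 : x ∉ Ideal.comap phi.toRingHom (maximalIdeal T) := by
      rw [Ideal.mem_comap]
      exact IsLocalRing.notMem_maximalIdeal.mpr h2
    have h4 : IsUnit (algebraMap (B ⊗[A] S) (Localization.AtPrime
        (Ideal.comap phi.toRingHom (maximalIdeal T))) x) :=
      IsLocalization.map_units _ (⟨x, h3⟩ : (Ideal.comap phi.toRingHom (maximalIdeal T)).primeCompl)
    rw [← h1] at h4
    exact isUnit_of_mul_isUnit_left h4
  have hcb : c.comp (algebraMap B (Localization.AtPrime
      (Ideal.comap phi.toRingHom (maximalIdeal T)))) = algebraMap B T := by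
    refine RingHom.ext (fun x => ?_)
    rw [RingHom.comp_apply, IsScalarTower.algebraMap_apply B (B ⊗[A] S)
      (Localization.AtPrime (Ideal.comap phi.toRingHom (maximalIdeal T))), hc, hphiB]
  have hca : c.comp (algebraMap S (Localization.AtPrime
      (Ideal.comap phi.toRingHom (maximalIdeal T)))) = v := by
    refine RingHom.ext (fun s => ?_)
    rw [RingHom.comp_apply, IsScalarTower.algebraMap_apply S (B ⊗[A] S)
      (Localization.AtPrime (Ideal.comap phi.toRingHom (maximalIdeal T))), hc]
    exact hphiS s
  haveI hbl : IsLocalHom (algebraMap B (Localization.AtPrime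
      (Ideal.comap phi.toRingHom (maximalIdeal T)))) := by
    haveI : IsLocalHom (c.comp (algebraMap B (Localization.AtPrime
        (Ideal.comap phi.toRingHom (maximalIdeal T))))) := by
      rw [hcb]; infer_instance
    exact isLocalHom_of_comp _ c
  haveI hal : IsLocalHom (algebraMap S (Localization.AtPrime
      (Ideal.comap phi.toRingHom (maximalIdeal T)))) := by
    haveI : IsLocalHom (c.comp (algebraMap S (Localization.AtPrime
        (Ideal.comap phi.toRingHom (maximalIdeal T))))) := by
      rw [hca]; exact hvl
    exact isLocalHom_of_comp _ c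
  haveI : IsSepClosed (ResidueField S) :=
    (Hensel.IsStrictHenselization.isSepClosure (R := A) (S := S)).sep_closed
  haveI hLs : IsSepClosed (ResidueField (Localization.AtPrime
      (Ideal.comap phi.toRingHom (maximalIdeal T)))) :=
    IH.isSepClosed_of_isPurelyInseparable (ResidueField S) _
  have hepi : ∀ (X : Type u) [CommRing X] [HenselianLocalRing X]
      (g₁ g₂ : Localization.AtPrime (Ideal.comap phi.toRingHom (maximalIdeal T)) →+* X),
      IsLocalHom g₁ → IsLocalHom g₂ →
      g₁.comp (algebraMap B (Localization.AtPrime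
        (Ideal.comap phi.toRingHom (maximalIdeal T)))) =
      g₂.comp (algebraMap B (Localization.AtPrime
        (Ideal.comap phi.toRingHom (maximalIdeal T)))) →
      (∀ l, residue X (g₁ l) = residue X (g₂ l)) → g₁ = g₂ := by
    intro X _ _ g₁ g₂ hg₁ hg₂ hgb hres
    haveI := hg₁
    have hgB : ∀ x : B, g₁ (algebraMap (B ⊗[A] S) _ (algebraMap B (B ⊗[A] S) x)) =
        g₂ (algebraMap (B ⊗[A] S) _ (algebraMap B (B ⊗[A] S) x)) := by
      intro x
      have h := RingHom.congr_fun hgb x
      rw [RingHom.comp_apply, RingHom.comp_apply, IsScalarTower.algebraMap_apply B (B ⊗[A] S)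
        (Localization.AtPrime (Ideal.comap phi.toRingHom (maximalIdeal T)))] at h
      exact h
    apply IsLocalization.ringHom_ext (Ideal.comap phi.toRingHom (maximalIdeal T)).primeCompl
    apply IH.ringHom_ext_tensor
    · exact hgB
    · haveI : IsLocalHom (g₁.comp (algebraMap S (Localization.AtPrime
          (Ideal.comap phi.toRingHom (maximalIdeal T))))) := RingHom.isLocalHom_comp _ _
      have h := ringHom_ext_of_isStrictHenselization A S X
        (g₁.comp (algebraMap S (Localization.AtPrime
          (Ideal.comap phi.toRingHom (maximalIdeal T)))))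
        (g₂.comp (algebraMap S (Localization.AtPrime
          (Ideal.comap phi.toRingHom (maximalIdeal T)))))
        (by
          refine RingHom.ext (fun a => ?_)
          show g₁ (algebraMap S (Localization.AtPrime
              (Ideal.comap phi.toRingHom (maximalIdeal T))) (algebraMap A S a)) =
            g₂ (algebraMap S (Localization.AtPrime
              (Ideal.comap phi.toRingHom (maximalIdeal T))) (algebraMap A S a))
          rw [IsScalarTower.algebraMap_apply S (B ⊗[A] S)
            (Localization.AtPrime (Ideal.comap phi.toRingHom (maximalIdeal T)))]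
          have e : algebraMap S (B ⊗[A] S) (algebraMap A S a) =
              algebraMap B (B ⊗[A] S) (algebraMap A B a) := IH.incR_algebraMap A B S a
          rw [e]
          exact hgB _)
        (fun x => hres _)
      intro s
      have h' := RingHom.congr_fun h s
      rw [RingHom.comp_apply, RingHom.comp_apply, IsScalarTower.algebraMap_apply S (B ⊗[A] S)
        (Localization.AtPrime (Ideal.comap phi.toRingHom (maximalIdeal T)))] at h'
      exact h'
  have hbij : Function.Bijective c :=
    bijective_of_epi B T (Localization.AtPrime (Ideal.comap phi.toRingHom (maximalIdeal T)))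
      (algebraMap B (Localization.AtPrime (Ideal.comap phi.toRingHom (maximalIdeal T)))) c
      hcb hepi
  refine ⟨Ideal.comap phi.toRingHom (maximalIdeal T), hQmax, ?_⟩
  exact ⟨AlgEquiv.ofRingEquiv (f := RingEquiv.ofBijective c hbij)
    (fun x => RingHom.congr_fun hcb x)⟩

end Main

end Groth.Agent.Helper1.TP
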