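import Mathlib
import Groth.Prelude.Def_EtTens2
import Groth.Agent.Lib.Helper1.LQ8

/-!
# Stalks of tensor products of presheaves of abelian groups on the small étale site
(helper1, TS1): towards S0780
-/

set_option autoImplicit false
set_option linter.unusedSectionVars false
set_option linter.style.haveILetI false

open CategoryTheory CategoryTheory.Limits AlgebraicGeometry Opposite TensorProduct

namespace Groth.Agent.Helper1.TS

universe u

open Groth.Agent.Helper1.ELR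

section Stalk

variable {X : Scheme.{u}} {Ω : Type u} [Field Ω] [IsSepClosed Ω]
  (ξ : Spec (CommRingCat.of Ω) ⟶ X) (A B : X.Etaleᵒᵖ ⥤ AddCommGrpCat.{u + 1})

/-- the stalk, as a type -/
noncomputable abbrev St (P : X.Etaleᵒᵖ ⥤ AddCommGrpCat.{u + 1}) : Type (u + 1) :=
  ((Φ ξ).presheafFiber.obj P : AddCommGrpCat.{u + 1})

/-- an element of the category of elements of the fibre functor -/
noncomputable abbrev el (U : X.Etale) (x : (Φ ξ).fiber.obj U) : (Φ ξ).fiber.Elements :=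
  Functor.elementsMk (Φ ξ).fiber U x

/-- a common refinement -/
noncomputable abbrev mn (U : X.Etale) (x : (Φ ξ).fiber.obj U) (V : X.Etale)
    (y : (Φ ξ).fiber.obj V) : (Φ ξ).fiber.Elements :=
  IsCofiltered.min (el ξ U x) (el ξ V y)

noncomputable abbrev mnl (U : X.Etale) (x : (Φ ξ).fiber.obj U) (V : X.Etale)
    (y : (Φ ξ).fiber.obj V) : mn ξ U x V y ⟶ el ξ U x :=
  IsCofiltered.minToLeft _ _

noncomputable abbrev mnr (U : X.Etale) (x : (Φ ξ).fiber.obj U) (V : X.Etale)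
    (y : (Φ ξ).fiber.obj V) : mn ξ U x V y ⟶ el ξ V y :=
  IsCofiltered.minToRight _ _

theorem map_map_apply (P : X.Etaleᵒᵖ ⥤ AddCommGrpCat.{u + 1}) {U V W : X.Etale} (f : W ⟶ V)
    (g : V ⟶ U) (a : P.obj (op U)) : P.map f.op (P.map g.op a) = P.map (f ≫ g).op a := by
  rw [op_comp, P.map_comp]
  rfl

theorem germ_map (P : X.Etaleᵒᵖ ⥤ AddCommGrpCat.{u + 1}) {W U : X.Etale} (p : W ⟶ U)
    (w : (Φ ξ).fiber.obj W) (x : (Φ ξ).fiber.obj U) (hp : (Φ ξ).fiber.map p w = x)
    (a : P.obj (op U)) :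
    (Φ ξ).toPresheafFiber W w P (P.map p.op a) = (Φ ξ).toPresheafFiber U x P a := by
  subst hp
  exact (Φ ξ).toPresheafFiber_w_apply p w P a

/-- the pairing of a section with a germ, computed on a common refinement -/
noncomputable def mu (U : X.Etale) (x : (Φ ξ).fiber.obj U) (a : A.obj (op U))
    (V : X.Etale) (y : (Φ ξ).fiber.obj V) :
    B.obj (op V) →+ St ξ (EtTens.tensorObj A B) :=
  (((Φ ξ).toPresheafFiber (mn ξ U x V y).1
      (mn ξ U x V y).2
      (EtTens.tensorObj A B)).hom.comp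
    (TensorProduct.mk ℤ _ _
      (A.map (mnl ξ U x V y).1.op
        a)).toAddMonoidHom).comp
      (B.map (mnr ξ U x V y).1.op).hom

theorem mu_apply (U : X.Etale) (x : (Φ ξ).fiber.obj U) (a : A.obj (op U))
    (V : X.Etale) (y : (Φ ξ).fiber.obj V) (b : B.obj (op V)) :
    mu ξ A B U x a V y b =
      (Φ ξ).toPresheafFiber (mn ξ U x V y).1
        (mn ξ U x V y).2
        (EtTens.tensorObj A B)
        (A.map (mnl ξ U x V y).1.op a ⊗ₜ[ℤ]
          B.map (mnr ξ U x V y).1.op b) :=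
  rfl

/-- independence of the refinement -/
theorem germ_tmul_eq_mu (U : X.Etale) (x : (Φ ξ).fiber.obj U) (a : A.obj (op U))
    (V : X.Etale) (y : (Φ ξ).fiber.obj V) (b : B.obj (op V))
    (W : X.Etale) (w : (Φ ξ).fiber.obj W) (p : W ⟶ U) (q : W ⟶ V)
    (hp : (Φ ξ).fiber.map p w = x) (hq : (Φ ξ).fiber.map q w = y) :
    (Φ ξ).toPresheafFiber W w (EtTens.tensorObj A B) (A.map p.op a ⊗ₜ[ℤ] B.map q.op b) =
      mu ξ A B U x a V y b := by
  obtain ⟨n, α, β, h1, h2⟩ := IsCofiltered.bowtie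
    (mnl ξ U x V y)
    (⟨p, hp⟩ : el ξ W w ⟶ el ξ U x)
    (mnr ξ U x V y)
    (⟨q, hq⟩ : el ξ W w ⟶ el ξ V y)
  have h1' : α.1 ≫ (mnl ξ U x V y).1 =
      β.1 ≫ p := congrArg Subtype.val h1
  have h2' : α.1 ≫ (mnr ξ U x V y).1 =
      β.1 ≫ q := congrArg Subtype.val h2
  have e1 := germ_map ξ (EtTens.tensorObj A B) β.1 n.2 w β.2 (A.map p.op a ⊗ₜ[ℤ] B.map q.op b)
  have e2 := germ_map ξ (EtTens.tensorObj A B) α.1 n.2
    (mn ξ U x V y).2 α.2
    (A.map (mnl ξ U x V y).1.op a ⊗ₜ[ℤ]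
      B.map (mnr ξ U x V y).1.op b)
  rw [mu_apply, ← e1, ← e2]
  apply congrArg
  rw [EtTens.tensorObj_map_tmul, EtTens.tensorObj_map_tmul, map_map_apply, map_map_apply,
    map_map_apply, map_map_apply, h1', h2']

theorem mu_compat (U : X.Etale) (x : (Φ ξ).fiber.obj U) (a : A.obj (op U)) :
    ∀ ⦃V V' : X.Etale⦄ (f : V ⟶ V') (y : (Φ ξ).fiber.obj V),
      B.map f.op ≫ AddCommGrpCat.ofHom (mu ξ A B U x a V y) =
        AddCommGrpCat.ofHom (mu ξ A B U x a V' ((Φ ξ).fiber.map f y)) := by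
  intro V V' f y
  refine AddCommGrpCat.hom_ext (AddMonoidHom.ext fun b => ?_)
  have h := germ_tmul_eq_mu ξ A B U x a V' ((Φ ξ).fiber.map f y) b
    (mn ξ U x V y).1
    (mn ξ U x V y).2
    (mnl ξ U x V y).1
    ((mnr ξ U x V y).1 ≫ f)
    (mnl ξ U x V y).2
    (by
      rw [FunctorToTypes.map_comp_apply]
      exact congrArg ((Φ ξ).fiber.map f)
        (mnr ξ U x V y).2)
  refine Eq.trans ?_ h
  change mu ξ A B U x a V y (B.map f.op b) = _
  rw [mu_apply, map_map_apply]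

/-- pairing a section of `A` with the stalk of `B` -/
noncomputable def bwInner (U : X.Etale) (x : (Φ ξ).fiber.obj U) (a : A.obj (op U)) :
    (Φ ξ).presheafFiber.obj B ⟶ (Φ ξ).presheafFiber.obj (EtTens.tensorObj A B) :=
  (Φ ξ).presheafFiberDesc (P := B) (fun V y => AddCommGrpCat.ofHom (mu ξ A B U x a V y))
    (mu_compat ξ A B U x a)

theorem bwInner_germ (U : X.Etale) (x : (Φ ξ).fiber.obj U) (a : A.obj (op U))
    (V : X.Etale) (y : (Φ ξ).fiber.obj V) (b : B.obj (op V)) :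
    bwInner ξ A B U x a ((Φ ξ).toPresheafFiber V y B b) = mu ξ A B U x a V y b := by
  have h := (Φ ξ).toPresheafFiber_presheafFiberDesc (P := B)
    (fun V y => AddCommGrpCat.ofHom (mu ξ A B U x a V y)) (mu_compat ξ A B U x a) V y
  exact congrArg (fun k => k b) h

theorem bwInner_add (U : X.Etale) (x : (Φ ξ).fiber.obj U) (a a' : A.obj (op U))
    (z : St ξ B) :
    bwInner ξ A B U x (a + a') z = bwInner ξ A B U x a z + bwInner ξ A B U x a' z := by
  haveI := SHC.preservesFilteredColimits_forget.{u}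
  obtain ⟨V, y, b, rfl⟩ := (Φ ξ).toPresheafFiber_jointly_surjective (P := B) z
  rw [bwInner_germ, bwInner_germ, bwInner_germ, mu_apply, mu_apply, mu_apply, map_add,
    TensorProduct.add_tmul]
  exact map_add _ _ _

/-- the curried pairing, on sections of `A` -/
noncomputable def bwOuter (U : X.Etale) (x : (Φ ξ).fiber.obj U) :
    A.obj (op U) →+ (St ξ B →+
      St ξ (EtTens.tensorObj A B)) :=
  AddMonoidHom.mk' (fun a => (bwInner ξ A B U x a).hom)
    (fun a a' => AddMonoidHom.ext fun z => bwInner_add ξ A B U x a a' z)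

theorem bwOuter_apply (U : X.Etale) (x : (Φ ξ).fiber.obj U) (a : A.obj (op U))
    (z : St ξ B) :
    bwOuter ξ A B U x a z = bwInner ξ A B U x a z := rfl

theorem bwOuter_compat :
    ∀ ⦃U U' : X.Etale⦄ (f : U ⟶ U') (x : (Φ ξ).fiber.obj U),
      A.map f.op ≫ AddCommGrpCat.ofHom (bwOuter ξ A B U x) =
        AddCommGrpCat.ofHom (bwOuter ξ A B U' ((Φ ξ).fiber.map f x)) := by
  intro U U' f x
  haveI := SHC.preservesFilteredColimits_forget.{u}
  refine AddCommGrpCat.hom_ext (AddMonoidHom.ext fun a => ?_)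
  refine AddMonoidHom.ext fun z => ?_
  obtain ⟨V, y, b, rfl⟩ := (Φ ξ).toPresheafFiber_jointly_surjective (P := B) z
  change bwInner ξ A B U x (A.map f.op a) ((Φ ξ).toPresheafFiber V y B b) =
    bwInner ξ A B U' ((Φ ξ).fiber.map f x) a ((Φ ξ).toPresheafFiber V y B b)
  rw [bwInner_germ, bwInner_germ]
  have h := germ_tmul_eq_mu ξ A B U' ((Φ ξ).fiber.map f x) a V y b
    (mn ξ U x V y).1
    (mn ξ U x V y).2
    ((mnl ξ U x V y).1 ≫ f)
    (mnr ξ U x V y).1
    (by
      rw [FunctorToTypes.map_comp_apply]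
      exact congrArg ((Φ ξ).fiber.map f)
        (mnl ξ U x V y).2)
    (mnr ξ U x V y).2
  refine Eq.trans ?_ h
  rw [mu_apply, map_map_apply]

/-- the curried pairing on stalks -/
noncomputable def bwCurry : (Φ ξ).presheafFiber.obj A ⟶
    AddCommGrpCat.of (St ξ B →+
      St ξ (EtTens.tensorObj A B)) :=
  (Φ ξ).presheafFiberDesc (P := A) (fun U x => AddCommGrpCat.ofHom (bwOuter ξ A B U x))
    (bwOuter_compat ξ A B)

theorem bwCurry_germ (U : X.Etale) (x : (Φ ξ).fiber.obj U) (a : A.obj (op U)) :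
    bwCurry ξ A B ((Φ ξ).toPresheafFiber U x A a) = bwOuter ξ A B U x a := by
  have h := (Φ ξ).toPresheafFiber_presheafFiberDesc (P := A)
    (fun U x => AddCommGrpCat.ofHom (bwOuter ξ A B U x)) (bwOuter_compat ξ A B) U x
  exact congrArg (fun k => k a) h

/-- the map from the tensor product of the stalks to the stalk of the tensor product -/
noncomputable def bw : St ξ A ⊗[ℤ]
    St ξ B →+
      St ξ (EtTens.tensorObj A B) :=
  TensorProduct.liftAddHom (bwCurry ξ A B).hom (fun r α β => by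
    rw [map_zsmul, map_zsmul]
    rfl)

theorem bw_tmul_germ (U : X.Etale) (x : (Φ ξ).fiber.obj U) (a : A.obj (op U))
    (V : X.Etale) (y : (Φ ξ).fiber.obj V) (b : B.obj (op V)) :
    bw ξ A B ((Φ ξ).toPresheafFiber U x A a ⊗ₜ[ℤ] (Φ ξ).toPresheafFiber V y B b) =
      mu ξ A B U x a V y b := by
  have h1 : bw ξ A B ((Φ ξ).toPresheafFiber U x A a ⊗ₜ[ℤ] (Φ ξ).toPresheafFiber V y B b) =
      (bwCurry ξ A B ((Φ ξ).toPresheafFiber U x A a)) ((Φ ξ).toPresheafFiber V y B b) := rfl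
  rw [h1, bwCurry_germ, bwOuter_apply, bwInner_germ]

theorem bw_tmul_germ_same (U : X.Etale) (x : (Φ ξ).fiber.obj U) (a : A.obj (op U))
    (b : B.obj (op U)) :
    bw ξ A B ((Φ ξ).toPresheafFiber U x A a ⊗ₜ[ℤ] (Φ ξ).toPresheafFiber U x B b) =
      (Φ ξ).toPresheafFiber U x (EtTens.tensorObj A B) (a ⊗ₜ[ℤ] b) := by
  rw [bw_tmul_germ, ← germ_tmul_eq_mu ξ A B U x a U x b U x (𝟙 U) (𝟙 U)
    (FunctorToTypes.map_id_apply _ _) (FunctorToTypes.map_id_apply _ _)]
  rw [op_id, A.map_id, B.map_id]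
  rfl

/-- components of the map from the stalk of the tensor product -/
noncomputable def fwU (U : X.Etale) (x : (Φ ξ).fiber.obj U) :
    (EtTens.tensorObj A B).obj (op U) ⟶
      AddCommGrpCat.of (St ξ A ⊗[ℤ]
        St ξ B) :=
  AddCommGrpCat.ofHom (TensorProduct.map ((Φ ξ).toPresheafFiber U x A).hom.toIntLinearMap
    ((Φ ξ).toPresheafFiber U x B).hom.toIntLinearMap).toAddMonoidHom

theorem fwU_tmul (U : X.Etale) (x : (Φ ξ).fiber.obj U) (a : A.obj (op U)) (b : B.obj (op U)) :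
    fwU ξ A B U x (a ⊗ₜ[ℤ] b) =
      (Φ ξ).toPresheafFiber U x A a ⊗ₜ[ℤ] (Φ ξ).toPresheafFiber U x B b := rfl

theorem fwU_compat : ∀ ⦃U U' : X.Etale⦄ (f : U ⟶ U') (x : (Φ ξ).fiber.obj U),
    (EtTens.tensorObj A B).map f.op ≫ fwU ξ A B U x =
      fwU ξ A B U' ((Φ ξ).fiber.map f x) := by
  intro U U' f x
  refine EtTens.hom_ext_tmul fun a b => ?_
  show (Φ ξ).toPresheafFiber U x A (A.map f.op a) ⊗ₜ[ℤ]
      (Φ ξ).toPresheafFiber U x B (B.map f.op b) =
    (Φ ξ).toPresheafFiber U' ((Φ ξ).fiber.map f x) A a ⊗ₜ[ℤ]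
      (Φ ξ).toPresheafFiber U' ((Φ ξ).fiber.map f x) B b
  rw [germ_map ξ A f x _ rfl, germ_map ξ B f x _ rfl]

/-- the map from the stalk of the tensor product to the tensor product of the stalks -/
noncomputable def fw : (Φ ξ).presheafFiber.obj (EtTens.tensorObj A B) ⟶
    AddCommGrpCat.of (St ξ A ⊗[ℤ]
      St ξ B) :=
  (Φ ξ).presheafFiberDesc (P := EtTens.tensorObj A B) (fwU ξ A B) (fwU_compat ξ A B)

theorem fw_germ (U : X.Etale) (x : (Φ ξ).fiber.obj U)
    (t : (EtTens.tensorObj A B).obj (op U)) :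
    fw ξ A B ((Φ ξ).toPresheafFiber U x (EtTens.tensorObj A B) t) = fwU ξ A B U x t := by
  have h := (Φ ξ).toPresheafFiber_presheafFiberDesc (P := EtTens.tensorObj A B)
    (fwU ξ A B) (fwU_compat ξ A B) U x
  exact congrArg (fun k => k t) h

theorem bw_fw_aux (U : X.Etale) (x : (Φ ξ).fiber.obj U) :
    (Φ ξ).toPresheafFiber U x (EtTens.tensorObj A B) ≫ fw ξ A B ≫
        AddCommGrpCat.ofHom (bw ξ A B) =
      (Φ ξ).toPresheafFiber U x (EtTens.tensorObj A B) := by
  refine EtTens.hom_ext_tmul fun a b => ?_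
  show bw ξ A B (fw ξ A B ((Φ ξ).toPresheafFiber U x (EtTens.tensorObj A B) (a ⊗ₜ[ℤ] b))) =
    (Φ ξ).toPresheafFiber U x (EtTens.tensorObj A B) (a ⊗ₜ[ℤ] b)
  rw [fw_germ, fwU_tmul, bw_tmul_germ_same]

theorem bw_fw (z : St ξ (EtTens.tensorObj A B)) :
    bw ξ A B (fw ξ A B z) = z := by
  haveI := SHC.preservesFilteredColimits_forget.{u}
  obtain ⟨U, x, t, rfl⟩ :=
    (Φ ξ).toPresheafFiber_jointly_surjective (P := EtTens.tensorObj A B) z
  exact congrArg (fun k => k t) (bw_fw_aux ξ A B U x)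

theorem fw_bw (t : St ξ A ⊗[ℤ] St ξ B) : fw ξ A B (bw ξ A B t) = t := by
  haveI := SHC.preservesFilteredColimits_forget.{u}
  induction t using TensorProduct.induction_on with
  | zero => rw [map_zero, map_zero]
  | tmul α β =>
    obtain ⟨U, x, a, rfl⟩ := (Φ ξ).toPresheafFiber_jointly_surjective (P := A) α
    obtain ⟨V, y, b, rfl⟩ := (Φ ξ).toPresheafFiber_jointly_surjective (P := B) β
    rw [bw_tmul_germ, mu_apply, fw_germ, fwU_tmul,
      germ_map ξ A _ _ x (mnl ξ U x V y).2,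
      germ_map ξ B _ _ y (mnr ξ U x V y).2]
  | add t t' h h' => rw [map_add, map_add, h, h']

theorem bw_bijective : Function.Bijective (bw ξ A B) :=
  ⟨Function.LeftInverse.injective (fw_bw ξ A B),
    Function.RightInverse.surjective (bw_fw ξ A B)⟩

/-- the map from the tensor product of the stalks to the stalk of the sheafified tensor
product -/
noncomputable def tau : St ξ A ⊗[ℤ]
    St ξ B →+
      St ξ (sheafify X.smallEtaleTopology (EtTens.tensorObj A B)) :=
  ((Φ ξ).presheafFiber.map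
    (toSheafify X.smallEtaleTopology (EtTens.tensorObj A B))).hom.comp (bw ξ A B)

theorem tau_bijective : Function.Bijective (tau ξ A B) := by
  haveI := SHC.preservesFilteredColimits_forget.{u}
  exact ((Φ ξ).toPresheafFiber_map_bijective
    (toSheafify X.smallEtaleTopology (EtTens.tensorObj A B))).comp (bw_bijective ξ A B)

theorem tau_tmul_germ (U : X.Etale) (x : (Φ ξ).fiber.obj U) (a : A.obj (op U))
    (b : B.obj (op U)) :
    tau ξ A B ((Φ ξ).toPresheafFiber U x A a ⊗ₜ[ℤ] (Φ ξ).toPresheafFiber U x B b) =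
      (Φ ξ).toPresheafFiber U x (sheafify X.smallEtaleTopology (EtTens.tensorObj A B))
        ((toSheafify X.smallEtaleTopology (EtTens.tensorObj A B)).app (op U) (a ⊗ₜ[ℤ] b)) := by
  have h1 : tau ξ A B ((Φ ξ).toPresheafFiber U x A a ⊗ₜ[ℤ] (Φ ξ).toPresheafFiber U x B b) =
      (Φ ξ).presheafFiber.map (toSheafify X.smallEtaleTopology (EtTens.tensorObj A B))
        (bw ξ A B ((Φ ξ).toPresheafFiber U x A a ⊗ₜ[ℤ] (Φ ξ).toPresheafFiber U x B b)) := rfl
  rw [h1, bw_tmul_germ_same]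
  exact (Φ ξ).toPresheafFiber_naturality_apply _ U x _

end Stalk

end Groth.Agent.Helper1.TS
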