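import Mathlib
import Groth.Prelude.Def_EtTens2
import Groth.Agent.Lib.Helper1.TS1

/-!
# The projection formula map `f_! F ⊗ G ⟶ f_! (F ⊗ f⁻¹ G)` (helper1, TS2): towards S0780
-/

set_option autoImplicit false
set_option linter.unusedSectionVars false
set_option linter.style.haveILetI false

open CategoryTheory CategoryTheory.Limits AlgebraicGeometry Opposite TensorProduct

namespace Groth.Agent.Helper1.TS

universe u

open Groth.Agent.Helper1.ES Groth.Agent.Helper1.ELR Groth.Agent.Helper1.FP

section Theta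

variable {X Y : Scheme.{u}} (f : X ⟶ Y) [LocallyOfFiniteType f] (F : EtCoh.Ab X)
  (G : EtCoh.Ab Y)

/-- the presheaf tensor product `F ⊗ f⁻¹ G` on `X` -/
noncomputable abbrev TF : X.Etaleᵒᵖ ⥤ AddCommGrpCat.{u + 1} :=
  EtTens.tensorObj F.obj ((EtCoh.pull f).obj G).obj

/-- the sheaf `F ⊗ f⁻¹ G` on `X` -/
noncomputable abbrev HH : EtCoh.Ab X := (EtTens.tensorBi.obj F).obj ((EtCoh.pull f).obj G)

/-- the unit `G(V) ⟶ (f⁻¹ G)(X ×_Y V)` -/
noncomputable def unitV (V : Y.Etale) :
    G.obj.obj (op V) →+ ((EtCoh.pull f).obj G).obj.obj (op ((EtCoh.bc f).obj V)) :=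
  (((EtCoh.pullPushAdj f).unit.app G).hom.app (op V)).hom

theorem unitV_naturality {V V' : Y.Etale} (φ : V' ⟶ V) (g : G.obj.obj (op V)) :
    unitV f G V' (G.obj.map φ.op g) =
      ((EtCoh.pull f).obj G).obj.map ((EtCoh.bc f).map φ).op (unitV f G V g) :=
  ConcreteCategory.congr_hom (((EtCoh.pullPushAdj f).unit.app G).hom.naturality φ.op) g

/-- the underlying map of the projection formula map, before restricting the codomain -/
noncomputable def psiV (V : Y.Etale) :
    (↥(EtShriek.shriekSubgroup f F V)) ⊗[ℤ] (G.obj.obj (op V) : AddCommGrpCat.{u + 1}) →+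
      (HH f F G).obj.obj (op ((EtCoh.bc f).obj V)) :=
  ((toSheafify X.smallEtaleTopology (TF f F G)).app (op ((EtCoh.bc f).obj V))).hom.comp
    (TensorProduct.map (EtShriek.shriekSubgroup f F V).subtype.toIntLinearMap
      (unitV f G V).toIntLinearMap).toAddMonoidHom

theorem psiV_tmul (V : Y.Etale) (s : ↥(EtShriek.shriekSubgroup f F V))
    (g : G.obj.obj (op V)) :
    psiV f F G V (s ⊗ₜ[ℤ] g) =
      (toSheafify X.smallEtaleTopology (TF f F G)).app (op ((EtCoh.bc f).obj V))
        (s.1 ⊗ₜ[ℤ] unitV f G V g) := rfl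

theorem toSheafify_map {U W : X.Etale} (k : W ⟶ U) (z : (TF f F G).obj (op U)) :
    (HH f F G).obj.map k.op ((toSheafify X.smallEtaleTopology (TF f F G)).app (op U) z) =
      (toSheafify X.smallEtaleTopology (TF f F G)).app (op W) ((TF f F G).map k.op z) :=
  (ConcreteCategory.congr_hom
    ((toSheafify X.smallEtaleTopology (TF f F G)).naturality k.op) z).symm

theorem psiV_mem (V : Y.Etale)
    (t : (↥(EtShriek.shriekSubgroup f F V)) ⊗[ℤ] (G.obj.obj (op V) : AddCommGrpCat.{u + 1})) :
    psiV f F G V t ∈ EtShriek.shriekSubgroup f (HH f F G) V := by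
  induction t using TensorProduct.induction_on with
  | zero =>
    rw [map_zero]
    exact zero_mem _
  | tmul s g =>
    rw [mem_shriekSubgroup_iff']
    have hs := (mem_shriekSubgroup_iff' f F V s.1).1 s.2
    refine isProperOver_mono _ (SHC.isClosed_sectSupp (HH f F G) _ _) ?_ hs
    intro x hx
    by_contra hcon
    obtain ⟨W, k, hw, h0⟩ := (not_mem_sectSupp_iff F _ s.1 x).1 hcon
    apply hx W k hw
    rw [psiV_tmul, toSheafify_map, EtTens.tensorObj_map_tmul, h0, TensorProduct.zero_tmul]
    exact map_zero _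
  | add t t' h h' =>
    rw [map_add]
    exact add_mem h h'

/-- components of the projection formula map on presheaves -/
noncomputable def thetaApp (V : Y.Etale) :
    (↥(EtShriek.shriekSubgroup f F V)) ⊗[ℤ] (G.obj.obj (op V) : AddCommGrpCat.{u + 1}) →+
      ↥(EtShriek.shriekSubgroup f (HH f F G) V) :=
  (psiV f F G V).codRestrict (EtShriek.shriekSubgroup f (HH f F G) V) (psiV_mem f F G V)

theorem thetaApp_val (V : Y.Etale)
    (t : (↥(EtShriek.shriekSubgroup f F V)) ⊗[ℤ] (G.obj.obj (op V) : AddCommGrpCat.{u + 1})) :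
    (thetaApp f F G V t).1 = psiV f F G V t := rfl

/-- the projection formula map on presheaves -/
noncomputable def theta :
    EtTens.tensorObj ((shriekSheaf f).obj F).obj G.obj ⟶
      ((shriekSheaf f).obj (HH f F G)).obj where
  app V := AddCommGrpCat.ofHom (thetaApp f F G V.unop)
  naturality V V' φ := by
    refine EtTens.hom_ext_tmul fun s g => ?_
    apply Subtype.ext
    show (toSheafify X.smallEtaleTopology (TF f F G)).app (op ((EtCoh.bc f).obj V'.unop))
        (F.obj.map ((EtCoh.bc f).map φ.unop).op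
          (show ↥(EtShriek.shriekSubgroup f F V.unop) from s).1 ⊗ₜ[ℤ]
          unitV f G V'.unop (G.obj.map φ.unop.op g)) =
      (HH f F G).obj.map ((EtCoh.bc f).map φ.unop).op
        ((toSheafify X.smallEtaleTopology (TF f F G)).app (op ((EtCoh.bc f).obj V.unop))
          ((show ↥(EtShriek.shriekSubgroup f F V.unop) from s).1 ⊗ₜ[ℤ] unitV f G V.unop g))
    rw [unitV_naturality, toSheafify_map, EtTens.tensorObj_map_tmul]

theorem theta_app_tmul (V : Y.Etale) (s : ↥(EtShriek.shriekSubgroup f F V))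
    (g : G.obj.obj (op V)) :
    valS f (HH f F G) V ((theta f F G).app (op V) (s ⊗ₜ[ℤ] g)) =
      (toSheafify X.smallEtaleTopology (TF f F G)).app (op ((EtCoh.bc f).obj V))
        (s.1 ⊗ₜ[ℤ] unitV f G V g) := rfl

/-- the projection formula map `f_! F ⊗ G ⟶ f_! (F ⊗ f⁻¹ G)` -/
noncomputable def Theta :
    (EtTens.tensorBi.obj ((shriekSheaf f).obj F)).obj G ⟶ (shriekSheaf f).obj (HH f F G) :=
  ⟨sheafifyLift Y.smallEtaleTopology (theta f F G) ((shriekSheaf f).obj (HH f F G)).property⟩

theorem Theta_toSheafify (V : Y.Etale)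
    (t : (EtTens.tensorObj ((shriekSheaf f).obj F).obj G.obj).obj (op V)) :
    (Theta f F G).hom.app (op V)
      ((toSheafify Y.smallEtaleTopology
        (EtTens.tensorObj ((shriekSheaf f).obj F).obj G.obj)).app (op V) t) =
      (theta f F G).app (op V) t := by
  have h := toSheafify_sheafifyLift Y.smallEtaleTopology (theta f F G)
    ((shriekSheaf f).obj (HH f F G)).property
  exact ConcreteCategory.congr_hom (congrArg (fun m => m.app (op V)) h) t

end Theta

end Groth.Agent.Helper1.TS
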