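import Mathlib
import Groth.Prelude.Def_EtTens2
import Groth.Agent.Lib.Helper1.TS2
import Groth.Agent.Lib.Helper1.FP12

/-!
# The projection formula map on stalks (helper1, TS3): towards S0780
-/

set_option autoImplicit false
set_option linter.unusedSectionVars false
set_option linter.style.haveILetI false

open CategoryTheory CategoryTheory.Limits AlgebraicGeometry Opposite TensorProduct

namespace Groth.Agent.Helper1.TS

universe u

open Groth.Agent.Helper1.ES Groth.Agent.Helper1.ELR Groth.Agent.Helper1.FP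
  Groth.Agent.Helper1.LQ

section Rho

variable {X Y : Scheme.{u}} (f : X ⟶ Y) [LocallyOfFiniteType f] (G : EtCoh.Ab Y) {Ω : Type u}
  [Field Ω] [IsSepClosed Ω] (η : Spec (CommRingCat.of Ω) ⟶ Y)

/-- components of the comparison `G_η ⟶ (f⁻¹ G)_ξ` -/
noncomputable def rhoU (ξ : Lifts f η) (V : Y.Etale) (x : (Φ η).fiber.obj V) :
    G.obj.obj (op V) ⟶ (Φ ξ.1).presheafFiber.obj ((EtCoh.pull f).obj G).obj :=
  (((EtCoh.pullPushAdj f).unit.app G).hom.app (op V) :
      G.obj.obj (op V) ⟶ ((EtCoh.pull f).obj G).obj.obj (op ((EtCoh.bc f).obj V))) ≫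
    (Φ ξ.1).toPresheafFiber ((EtCoh.bc f).obj V) (liftPt f η ξ V x) ((EtCoh.pull f).obj G).obj

theorem rhoU_apply (ξ : Lifts f η) (V : Y.Etale) (x : (Φ η).fiber.obj V)
    (σ : G.obj.obj (op V)) :
    rhoU f G η ξ V x σ =
      (Φ ξ.1).toPresheafFiber ((EtCoh.bc f).obj V) (liftPt f η ξ V x)
        ((EtCoh.pull f).obj G).obj (unitV f G V σ) := rfl

theorem rhoU_compat (ξ : Lifts f η) :
    ∀ ⦃V' V : Y.Etale⦄ (g : V' ⟶ V) (x' : (Φ η).fiber.obj V'),
      G.obj.map g.op ≫ rhoU f G η ξ V' x' = rhoU f G η ξ V ((Φ η).fiber.map g x') := by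
  intro V' V g x'
  refine AddCommGrpCat.hom_ext (AddMonoidHom.ext fun σ => ?_)
  show rhoU f G η ξ V' x' (G.obj.map g.op σ) = rhoU f G η ξ V ((Φ η).fiber.map g x') σ
  rw [rhoU_apply, rhoU_apply, unitV_naturality]
  exact germ_map ξ.1 ((EtCoh.pull f).obj G).obj ((EtCoh.bc f).map g) _ _
    (liftPt_map f η ξ g x') _

/-- the comparison `G_η ⟶ (f⁻¹ G)_ξ` -/
noncomputable def rho (ξ : Lifts f η) :
    (Φ η).presheafFiber.obj G.obj ⟶ (Φ ξ.1).presheafFiber.obj ((EtCoh.pull f).obj G).obj :=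
  (Φ η).presheafFiberDesc (P := G.obj) (rhoU f G η ξ) (rhoU_compat f G η ξ)

theorem rho_germ (ξ : Lifts f η) (V : Y.Etale) (x : (Φ η).fiber.obj V) (σ : G.obj.obj (op V)) :
    rho f G η ξ ((Φ η).toPresheafFiber V x G.obj σ) =
      (Φ ξ.1).toPresheafFiber ((EtCoh.bc f).obj V) (liftPt f η ξ V x)
        ((EtCoh.pull f).obj G).obj (unitV f G V σ) := by
  have h := (Φ η).toPresheafFiber_presheafFiberDesc (P := G.obj) (rhoU f G η ξ)
    (rhoU_compat f G η ξ) V x
  exact congrArg (fun k => k σ) h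

/-- the comparison of the stalk at `η` with the stalk at the induced point -/
noncomputable def kappa (ξ : Lifts f η) :
    (Φ η).presheafFiber.obj G.obj ⟶ (SHC.comapPoint f ξ.1).presheafFiber.obj G.obj :=
  (Φ η).presheafFiberDesc (P := G.obj)
    (fun V x => (SHC.comapPoint f ξ.1).toPresheafFiber V (liftPt f η ξ V x) G.obj)
    (by
      intro V' V g x'
      rw [← liftPt_map]
      exact (SHC.comapPoint f ξ.1).toPresheafFiber_w g (liftPt f η ξ V' x') G.obj)

theorem kappa_germ (ξ : Lifts f η) (V : Y.Etale) (x : (Φ η).fiber.obj V)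
    (σ : G.obj.obj (op V)) :
    kappa f G η ξ ((Φ η).toPresheafFiber V x G.obj σ) =
      (SHC.comapPoint f ξ.1).toPresheafFiber V (liftPt f η ξ V x) G.obj σ := by
  have h := (Φ η).toPresheafFiber_presheafFiberDesc (P := G.obj)
    (fun V x => (SHC.comapPoint f ξ.1).toPresheafFiber V (liftPt f η ξ V x) G.obj)
    (by
      intro V' V g x'
      rw [← liftPt_map]
      exact (SHC.comapPoint f ξ.1).toPresheafFiber_w g (liftPt f η ξ V' x') G.obj) V x
  exact congrArg (fun k => k σ) h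

/-- a point of `X ×_Y V` over `ξ` gives a point of `V` over `η` -/
noncomputable def dnPt (ξ : Lifts f η) (V : Y.Etale)
    (l : (Φ ξ.1).fiber.obj ((EtCoh.bc f).obj V)) : (Φ η).fiber.obj V :=
  mkPt η V (pt ξ.1 _ l ≫ EtShriek.prV f V) (by
    have hc : ((EtCoh.bc f).obj V).hom ≫ f = EtShriek.prV f V ≫ V.hom := pullback.condition.symm
    calc (pt ξ.1 _ l ≫ EtShriek.prV f V) ≫ V.hom
        = pt ξ.1 _ l ≫ (EtShriek.prV f V ≫ V.hom) := Category.assoc _ _ _
      _ = pt ξ.1 _ l ≫ (((EtCoh.bc f).obj V).hom ≫ f) :=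
          congrArg (fun k => pt ξ.1 _ l ≫ k) hc.symm
      _ = (pt ξ.1 _ l ≫ ((EtCoh.bc f).obj V).hom) ≫ f := (Category.assoc _ _ _).symm
      _ = ξ.1 ≫ f := congrArg (fun k => k ≫ f) (pt_comp ξ.1 _ l)
      _ = η := ξ.2)

theorem liftPt_dnPt (ξ : Lifts f η) (V : Y.Etale)
    (l : (Φ ξ.1).fiber.obj ((EtCoh.bc f).obj V)) :
    liftPt f η ξ V (dnPt f η ξ V l) = l := by
  apply pt_ext
  apply pt_bc_ext f V
  · rw [pt_liftPt_fst]
    rfl
  · rw [pt_liftPt_snd, pt_comp]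

theorem dnPt_liftPt (ξ : Lifts f η) (V : Y.Etale) (x : (Φ η).fiber.obj V) :
    dnPt f η ξ V (liftPt f η ξ V x) = x := by
  apply pt_ext
  exact pt_liftPt_fst f η ξ V x

theorem dnPt_map (ξ : Lifts f η) {V' V : Y.Etale} (e : V' ⟶ V)
    (l : (Φ ξ.1).fiber.obj ((EtCoh.bc f).obj V')) :
    (Φ η).fiber.map e (dnPt f η ξ V' l) =
      dnPt f η ξ V ((Φ ξ.1).fiber.map ((EtCoh.bc f).map e) l) := by
  apply pt_ext
  have h1 : ((EtCoh.bc f).map e).left ≫ EtShriek.prV f V = EtShriek.prV f V' ≫ e.left :=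
    (EtCoh.isPullback_bc_map f e).w
  show (pt ξ.1 _ l ≫ EtShriek.prV f V') ≫ e.left =
    (pt ξ.1 _ l ≫ ((EtCoh.bc f).map e).left) ≫ EtShriek.prV f V
  rw [Category.assoc, Category.assoc, h1]

theorem kappa_surjective (ξ : Lifts f η) : Function.Surjective (kappa f G η ξ) := by
  haveI := SHC.preservesFilteredColimits_forget.{u}
  intro z
  obtain ⟨V, l, σ, rfl⟩ :=
    (SHC.comapPoint f ξ.1).toPresheafFiber_jointly_surjective (P := G.obj) z
  refine ⟨(Φ η).toPresheafFiber V (dnPt f η ξ V l) G.obj σ, ?_⟩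
  rw [kappa_germ, liftPt_dnPt]

theorem kappa_injective (ξ : Lifts f η) : Function.Injective (kappa f G η ξ) := by
  haveI := SHC.preservesFilteredColimits_forget.{u}
  intro z1 z2 h
  obtain ⟨V, x, σ1, σ2, rfl, rfl⟩ :=
    (Φ η).toPresheafFiber_jointly_surjective₂ (P := G.obj) z1 z2
  rw [kappa_germ, kappa_germ] at h
  obtain ⟨V', e, l, hl, he⟩ := ((SHC.comapPoint f ξ.1).toPresheafFiber_eq_iff' (P := G.obj)
    V (liftPt f η ξ V x) σ1 σ2).1 h
  have hl' : (Φ ξ.1).fiber.map ((EtCoh.bc f).map e) l = liftPt f η ξ V x := hl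
  have hx : (Φ η).fiber.map e (dnPt f η ξ V' l) = x := by
    rw [dnPt_map, hl', dnPt_liftPt]
  rw [← germ_map η G.obj e (dnPt f η ξ V' l) x hx σ1,
    ← germ_map η G.obj e (dnPt f η ξ V' l) x hx σ2]
  exact congrArg _ he

theorem rho_eq (ξ : Lifts f η) :
    rho f G η ξ = kappa f G η ξ ≫ (cmp f ξ.1 G).hom := by
  apply (Φ η).presheafFiber_hom_ext
  intro V x
  refine AddCommGrpCat.hom_ext (AddMonoidHom.ext fun σ => ?_)
  show rho f G η ξ ((Φ η).toPresheafFiber V x G.obj σ) =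
    (cmp f ξ.1 G).hom (kappa f G η ξ ((Φ η).toPresheafFiber V x G.obj σ))
  rw [rho_germ, kappa_germ, cmp_germ]
  rfl

theorem rho_bijective (ξ : Lifts f η) : Function.Bijective (rho f G η ξ) := by
  rw [rho_eq]
  have h1 : Function.Bijective (kappa f G η ξ) := ⟨kappa_injective f G η ξ, kappa_surjective f G η ξ⟩
  have h2 : Function.Bijective (cmp f ξ.1 G).hom :=
    ⟨cmp_hom_injective f ξ.1 G, cmp_hom_surjective f ξ.1 G⟩
  exact h2.comp h1

end Rho

section Key

variable {X Y : Scheme.{u}} (f : X ⟶ Y) [LocallyOfFiniteType f] [LocallyQuasiFinite f]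
  [IsSeparated f] (F : EtCoh.Ab X) (G : EtCoh.Ab Y) {Ω : Type u} [Field Ω] [IsAlgClosed Ω]
  (η : Spec (CommRingCat.of Ω) ⟶ Y)

/-- the comparison maps for `f_! F`, as homomorphisms of stalks -/
noncomputable def smMap (ξ : Lifts f η) :
    St η ((shriekSheaf f).obj F).obj →+ St ξ.1 F.obj :=
  (shStalkMap f F η ξ).hom

/-- the comparison maps for `f_! (F ⊗ f⁻¹ G)`, as homomorphisms of stalks -/
noncomputable def sigmaMap (ξ : Lifts f η) :
    St η ((shriekSheaf f).obj (HH f F G)).obj →+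
      St ξ.1 (sheafify X.smallEtaleTopology (TF f F G)) :=
  (shStalkMap f (HH f F G) η ξ).hom

/-- the projection formula map on stalks -/
noncomputable def ThetaEta :
    St η (sheafify Y.smallEtaleTopology
      (EtTens.tensorObj ((shriekSheaf f).obj F).obj G.obj)) →+
      St η ((shriekSheaf f).obj (HH f F G)).obj :=
  ((Φ η).presheafFiber.map (Theta f F G).hom).hom

theorem key_formula_germ (ξ : Lifts f η) (V : Y.Etale) (x : (Φ η).fiber.obj V)
    (s : EtCoh.sect ((shriekSheaf f).obj F) V) (g : G.obj.obj (op V)) :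
    sigmaMap f F G η ξ (ThetaEta f F G η (tau η ((shriekSheaf f).obj F).obj G.obj
      ((Φ η).toPresheafFiber V x ((shriekSheaf f).obj F).obj s ⊗ₜ[ℤ]
        (Φ η).toPresheafFiber V x G.obj g))) =
    tau ξ.1 F.obj ((EtCoh.pull f).obj G).obj
      (smMap f F η ξ ((Φ η).toPresheafFiber V x ((shriekSheaf f).obj F).obj s) ⊗ₜ[ℤ]
        rho f G η ξ ((Φ η).toPresheafFiber V x G.obj g)) := by
  have e1 := tau_tmul_germ η ((shriekSheaf f).obj F).obj G.obj V x s g
  have e2 := (Φ η).toPresheafFiber_naturality_apply (Theta f F G).hom V x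
    ((toSheafify Y.smallEtaleTopology
      (EtTens.tensorObj ((shriekSheaf f).obj F).obj G.obj)).app (op V) (s ⊗ₜ[ℤ] g))
  have e3 := Theta_toSheafify f F G V (s ⊗ₜ[ℤ] g)
  have e4 := shStalkMap_germ f (HH f F G) η ξ V x ((theta f F G).app (op V) (s ⊗ₜ[ℤ] g))
  have e5 := theta_app_tmul f F G V s g
  have e6 := shStalkMap_germ f F η ξ V x s
  have e7 := rho_germ f G η ξ V x g
  have e8 := tau_tmul_germ ξ.1 F.obj ((EtCoh.pull f).obj G).obj ((EtCoh.bc f).obj V)
    (liftPt f η ξ V x) (valS f F V s) (unitV f G V g)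
  have L : sigmaMap f F G η ξ (ThetaEta f F G η (tau η ((shriekSheaf f).obj F).obj G.obj
      ((Φ η).toPresheafFiber V x ((shriekSheaf f).obj F).obj s ⊗ₜ[ℤ]
        (Φ η).toPresheafFiber V x G.obj g))) =
      (Φ ξ.1).toPresheafFiber ((EtCoh.bc f).obj V) (liftPt f η ξ V x)
        (sheafify X.smallEtaleTopology (TF f F G))
        ((toSheafify X.smallEtaleTopology (TF f F G)).app (op ((EtCoh.bc f).obj V))
          (valS f F V s ⊗ₜ[ℤ] unitV f G V g)) := by
    rw [e1]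
    refine (congrArg (sigmaMap f F G η ξ) (e2.trans
      (congrArg ((Φ η).toPresheafFiber V x ((shriekSheaf f).obj (HH f F G)).obj) e3))).trans ?_
    refine e4.trans ?_
    exact congrArg ((Φ ξ.1).toPresheafFiber ((EtCoh.bc f).obj V) (liftPt f η ξ V x)
      (HH f F G).obj) e5
  have R : tau ξ.1 F.obj ((EtCoh.pull f).obj G).obj
      (smMap f F η ξ ((Φ η).toPresheafFiber V x ((shriekSheaf f).obj F).obj s) ⊗ₜ[ℤ]
        rho f G η ξ ((Φ η).toPresheafFiber V x G.obj g)) =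
      (Φ ξ.1).toPresheafFiber ((EtCoh.bc f).obj V) (liftPt f η ξ V x)
        (sheafify X.smallEtaleTopology (TF f F G))
        ((toSheafify X.smallEtaleTopology (TF f F G)).app (op ((EtCoh.bc f).obj V))
          (valS f F V s ⊗ₜ[ℤ] unitV f G V g)) := by
    have e6' : smMap f F η ξ ((Φ η).toPresheafFiber V x ((shriekSheaf f).obj F).obj s) =
        (Φ ξ.1).toPresheafFiber ((EtCoh.bc f).obj V) (liftPt f η ξ V x) F.obj (valS f F V s) := e6
    rw [e6', e7]
    exact e8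
  exact L.trans R.symm

theorem key_formula (ξ : Lifts f η) (α : St η ((shriekSheaf f).obj F).obj) (β : St η G.obj) :
    sigmaMap f F G η ξ (ThetaEta f F G η (tau η ((shriekSheaf f).obj F).obj G.obj
      (α ⊗ₜ[ℤ] β))) =
    tau ξ.1 F.obj ((EtCoh.pull f).obj G).obj (smMap f F η ξ α ⊗ₜ[ℤ] rho f G η ξ β) := by
  haveI := SHC.preservesFilteredColimits_forget.{u}
  obtain ⟨V1, x1, s1, rfl⟩ :=
    (Φ η).toPresheafFiber_jointly_surjective (P := ((shriekSheaf f).obj F).obj) α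
  obtain ⟨V2, x2, g2, rfl⟩ := (Φ η).toPresheafFiber_jointly_surjective (P := G.obj) β
  rw [← germ_map η ((shriekSheaf f).obj F).obj (mnl η V1 x1 V2 x2).1 (mn η V1 x1 V2 x2).2 x1
      (mnl η V1 x1 V2 x2).2 s1,
    ← germ_map η G.obj (mnr η V1 x1 V2 x2).1 (mn η V1 x1 V2 x2).2 x2 (mnr η V1 x1 V2 x2).2 g2]
  exact key_formula_germ f F G η ξ _ _ _ _

end Key

end Groth.Agent.Helper1.TS
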