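import Mathlib
import Groth.Prelude.Def_EtTens2
import Groth.Agent.Lib.Helper1.TS3
import Groth.Agent.Lib.Helper1.FP16

/-!
# The projection formula for `f_!`, `f` separated and locally quasi-finite (helper1, TS4): S0780
-/

set_option autoImplicit false
set_option linter.unusedSectionVars false
set_option linter.style.haveILetI false

open CategoryTheory CategoryTheory.Limits AlgebraicGeometry Opposite TensorProduct

namespace Groth.Agent.Helper1.TS

universe u

open Groth.Agent.Helper1.ES Groth.Agent.Helper1.ELR Groth.Agent.Helper1.FP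
  Groth.Agent.Helper1.LQ

section Algebra

open DirectSum

theorem map_id_bijective {M N N' : Type*} [AddCommGroup M] [AddCommGroup N] [AddCommGroup N']
    (g : N →+ N') (hg : Function.Bijective g) :
    Function.Bijective (TensorProduct.map (LinearMap.id : M →ₗ[ℤ] M) g.toIntLinearMap) := by
  have h := (TensorProduct.congr (LinearEquiv.refl ℤ M)
    (LinearEquiv.ofBijective g.toIntLinearMap hg)).bijective
  exact h

variable {ι : Type u} [DecidableEq ι] {A B R : Type (u + 1)} [AddCommGroup A] [AddCommGroup B]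
  [AddCommGroup R] (Z C : ι → Type (u + 1)) [∀ i, AddCommGroup (Z i)]
  [∀ i, AddCommGroup (C i)]

/-- a jointly injective family with finite supports and deltas gives an explicit isomorphism
with the direct sum -/
theorem exists_addEquiv_directSum (sm : ∀ i, A →+ Z i)
    (hinj : ∀ a : A, (∀ i, sm i a = 0) → a = 0)
    (hfin : ∀ a : A, {i | sm i a ≠ 0}.Finite)
    (hex : ∀ (i : ι) (g : Z i), ∃ a : A, sm i a = g ∧ ∀ j, j ≠ i → sm j a = 0) :
    ∃ e : A ≃+ ⨁ i, Z i, ∀ a i, (e a) i = sm i a := by
  let Ψ : A →+ ∀ i, Z i := AddMonoidHom.pi sm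
  let c : (⨁ i, Z i) →+ ∀ i, Z i := DFinsupp.coeFnAddMonoidHom
  have hΨ : Function.Injective Ψ := by
    rw [injective_iff_map_eq_zero]
    intro a ha
    exact hinj a (fun i => congrFun ha i)
  have hc : Function.Injective c := DFunLike.coe_injective
  have hrange : Ψ.range = c.range := by
    apply le_antisymm
    · rintro _ ⟨a, rfl⟩
      refine ⟨DFinsupp.mk (hfin a).toFinset (fun i => sm i.1 a), ?_⟩
      funext i
      change (DFinsupp.mk (hfin a).toFinset (fun i => sm i.1 a)) i = sm i a
      by_cases hi : i ∈ (hfin a).toFinset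
      · rw [DFinsupp.mk_of_mem hi]
      · rw [DFinsupp.mk_of_notMem hi]
        by_contra hne
        exact hi ((hfin a).mem_toFinset.2 (fun h => hne h.symm))
    · rintro _ ⟨d, rfl⟩
      induction d using DirectSum.induction_on with
      | zero => exact ⟨0, by rw [map_zero, map_zero]⟩
      | of i g =>
        obtain ⟨a, ha1, ha2⟩ := hex i g
        refine ⟨a, ?_⟩
        funext j
        change sm j a = (DirectSum.of Z i g) j
        by_cases hj : j = i
        · subst hj
          rw [DirectSum.of_eq_same, ha1]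
        · rw [DirectSum.of_eq_of_ne _ _ _ hj, ha2 j hj]
      | add x y hx hy =>
        rw [map_add]
        exact add_mem hx hy
  let e : A ≃+ ⨁ i, Z i := (AddMonoidHom.ofInjective hΨ).trans
    ((AddEquiv.addSubgroupCongr hrange).trans (AddMonoidHom.ofInjective hc).symm)
  refine ⟨e, fun a i => ?_⟩
  have h1 : (AddMonoidHom.ofInjective hc) (e a) =
      (AddEquiv.addSubgroupCongr hrange) ((AddMonoidHom.ofInjective hΨ) a) :=
    AddEquiv.apply_symm_apply _ _
  have h2 : c (e a) = Ψ a := congrArg Subtype.val h1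
  exact congrFun h2 i

/-- the abstract form of the stalkwise projection formula -/
theorem bijective_of_families (sm : ∀ i, A →+ Z i)
    (hinj : ∀ a : A, (∀ i, sm i a = 0) → a = 0)
    (hfin : ∀ a : A, {i | sm i a ≠ 0}.Finite)
    (hex : ∀ (i : ι) (g : Z i), ∃ a : A, sm i a = g ∧ ∀ j, j ≠ i → sm j a = 0)
    (σ : ∀ i, R →+ C i)
    (hσinj : ∀ r : R, (∀ i, σ i r = 0) → r = 0)
    (hσfin : ∀ r : R, {i | σ i r ≠ 0}.Finite)
    (c : ∀ i, Z i ⊗[ℤ] B →+ C i) (hc : ∀ i, Function.Bijective (c i))
    (θ : A ⊗[ℤ] B →+ R)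
    (hθ : ∀ i a b, σ i (θ (a ⊗ₜ[ℤ] b)) = c i (sm i a ⊗ₜ[ℤ] b)) :
    Function.Bijective θ := by
  classical
  let m : ∀ i, A ⊗[ℤ] B →ₗ[ℤ] Z i ⊗[ℤ] B := fun i =>
    TensorProduct.map (sm i).toIntLinearMap LinearMap.id
  have hm : ∀ i a b, m i (a ⊗ₜ[ℤ] b) = sm i a ⊗ₜ[ℤ] b := fun i a b => rfl
  have step0 : ∀ i (t : A ⊗[ℤ] B), σ i (θ t) = c i (m i t) := by
    intro i t
    induction t using TensorProduct.induction_on with
    | zero => rw [map_zero, map_zero, map_zero, map_zero]
    | tmul a b => rw [hθ, hm]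
    | add t t' h h' => rw [map_add, map_add, map_add, map_add, h, h']
  constructor
  · -- injectivity
    obtain ⟨e, he⟩ := exists_addEquiv_directSum Z sm hinj hfin hex
    let E : A ⊗[ℤ] B ≃ₗ[ℤ] (⨁ i, Z i) ⊗[ℤ] B :=
      TensorProduct.congr e.toIntLinearEquiv (LinearEquiv.refl ℤ B)
    let D : (⨁ i, Z i) ⊗[ℤ] B ≃ₗ[ℤ] ⨁ i, Z i ⊗[ℤ] B := TensorProduct.directSumLeft ℤ ℤ Z B
    have hE : ∀ a b, E (a ⊗ₜ[ℤ] b) = e a ⊗ₜ[ℤ] b := fun a b => rfl
    have hD : ∀ (x : ⨁ i, Z i) (b : B) (i : ι), (D (x ⊗ₜ[ℤ] b)) i = x i ⊗ₜ[ℤ] b :=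
      fun x b i => TensorProduct.directSumLeft_tmul (R := ℤ) (S := ℤ) x b i
    have comp : ∀ (t : A ⊗[ℤ] B) (i : ι), (D (E t)) i = m i t := by
      intro t i
      induction t using TensorProduct.induction_on with
      | zero => rw [map_zero, map_zero, map_zero, DirectSum.zero_apply]
      | tmul a b => rw [hE, hD, he, hm]
      | add t t' h h' => rw [map_add, map_add, map_add, DirectSum.add_apply, h, h']
    rw [injective_iff_map_eq_zero]
    intro t ht
    have h0 : ∀ i, m i t = 0 := by
      intro i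
      apply (hc i).1
      rw [← step0, ht, map_zero, map_zero]
    have h1 : D (E t) = 0 := by
      apply DFinsupp.ext
      intro i
      rw [comp, h0]
      rfl
    have h2 : E t = 0 := (LinearEquiv.map_eq_zero_iff D).1 h1
    exact (LinearEquiv.map_eq_zero_iff E).1 h2
  · -- surjectivity
    have claimA : ∀ i (y : Z i ⊗[ℤ] B), ∃ t : A ⊗[ℤ] B, m i t = y ∧ ∀ j, j ≠ i → m j t = 0 := by
      intro i y
      induction y using TensorProduct.induction_on with
      | zero => exact ⟨0, map_zero _, fun j _ => map_zero _⟩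
      | tmul z b =>
        obtain ⟨a, ha1, ha2⟩ := hex i z
        refine ⟨a ⊗ₜ[ℤ] b, ?_, ?_⟩
        · rw [hm, ha1]
        · intro j hj
          rw [hm, ha2 j hj, TensorProduct.zero_tmul]
      | add y y' h h' =>
        obtain ⟨t, ht1, ht2⟩ := h
        obtain ⟨t', ht1', ht2'⟩ := h'
        refine ⟨t + t', ?_, ?_⟩
        · rw [map_add, ht1, ht1']
        · intro j hj
          rw [map_add, ht2 j hj, ht2' j hj, add_zero]
    intro r
    choose y hy using fun i => (hc i).2 (σ i r)
    choose t ht1 ht2 using fun i => claimA i (y i)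
    refine ⟨∑ i ∈ (hσfin r).toFinset, t i, ?_⟩
    have hsub : θ (∑ i ∈ (hσfin r).toFinset, t i) - r = 0 := by
      apply hσinj
      intro j
      rw [map_sub, step0, map_sum]
      by_cases hj : j ∈ (hσfin r).toFinset
      · rw [Finset.sum_eq_single_of_mem j hj (fun i _ hij => ht2 i j (Ne.symm hij)), ht1, hy,
          sub_self]
      · rw [Finset.sum_eq_zero (fun i hi => ht2 i j (by rintro rfl; exact hj hi)), map_zero]
        have h0 : σ j r = 0 := by
          by_contra h
          exact hj ((hσfin r).mem_toFinset.2 h)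
        rw [h0, sub_zero]
    exact sub_eq_zero.1 hsub

end Algebra

section Main

variable {X Y : Scheme.{u}} (f : X ⟶ Y) [LocallyOfFiniteType f] [LocallyQuasiFinite f]
  [IsSeparated f] (F : EtCoh.Ab X) (G : EtCoh.Ab Y)

theorem ThetaEta_bijective {Ω : Type u} [Field Ω] [IsAlgClosed Ω]
    (η : Spec (CommRingCat.of Ω) ⟶ Y) : Function.Bijective (ThetaEta f F G η) := by
  classical
  let c : ∀ ξ : Lifts f η, St ξ.1 F.obj ⊗[ℤ] St η G.obj →+
      St ξ.1 (sheafify X.smallEtaleTopology (TF f F G)) := fun ξ =>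
    (tau ξ.1 F.obj ((EtCoh.pull f).obj G).obj).comp
      (TensorProduct.map (LinearMap.id : St ξ.1 F.obj →ₗ[ℤ] St ξ.1 F.obj)
        (rho f G η ξ).hom.toIntLinearMap).toAddMonoidHom
  have hc : ∀ ξ, Function.Bijective (c ξ) := by
    intro ξ
    have h1 := tau_bijective ξ.1 F.obj ((EtCoh.pull f).obj G).obj
    have h2 := map_id_bijective (M := St ξ.1 F.obj) (rho f G η ξ).hom (rho_bijective f G η ξ)
    exact h1.comp h2
  let θ : St η ((shriekSheaf f).obj F).obj ⊗[ℤ] St η G.obj →+
      St η ((shriekSheaf f).obj (HH f F G)).obj :=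
    (ThetaEta f F G η).comp (tau η ((shriekSheaf f).obj F).obj G.obj)
  have hθ : Function.Bijective θ :=
    bijective_of_families (ι := Lifts f η) (fun ξ : Lifts f η => St ξ.1 F.obj)
      (fun ξ : Lifts f η => St ξ.1 (sheafify X.smallEtaleTopology (TF f F G)))
      (fun ξ => smMap f F η ξ) (fun a h => sh_injective f F η a h)
      (fun a => sh_finite_support f F η a) (fun ξ g => exists_delta f F η ξ g)
      (fun ξ => sigmaMap f F G η ξ) (fun r h => sh_injective f (HH f F G) η r h)
      (fun r => sh_finite_support f (HH f F G) η r) c hc θ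
      (fun ξ a b => key_formula f F G η ξ a b)
  have hτ := tau_bijective η ((shriekSheaf f).obj F).obj G.obj
  have hθ' : Function.Bijective (⇑(ThetaEta f F G η) ∘
      ⇑(tau η ((shriekSheaf f).obj F).obj G.obj)) := hθ
  exact (Function.Bijective.of_comp_iff _ hτ).1 hθ'

theorem Theta_isIso : IsIso (Theta f F G) :=
  isIso_of_stalkwise (Theta f F G) (fun _ _ _ η => ThetaEta_bijective f F G η)

/-- **Projection formula for `f_!`**, `f` separated, locally of finite type and locally
quasi-finite. -/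
theorem main0780 :
    Nonempty ((EtTens.tensorBi.obj ((EtShriek.lowerShriek f).obj F)).obj G ≅
      (EtShriek.lowerShriek f).obj ((EtTens.tensorBi.obj F).obj ((EtCoh.pull f).obj G))) := by
  haveI := Theta_isIso f F G
  exact ⟨(EtTens.tensorBi.mapIso ((shriekIso f).app F)).app G ≪≫ asIso (Theta f F G) ≪≫
    ((shriekIso f).app (HH f F G)).symm⟩

end Main

end Groth.Agent.Helper1.TS
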