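import Groth.Agent.Lib.Helper1.IH2
import Groth.Agent.Lib.Helper1.NM2

/-!
# Unibranch local rings and domain-ness of the henselization
-/

set_option autoImplicit false

namespace Groth.Agent.Helper1.UB

open IsLocalRing TensorProduct Groth.Agent.Helper1

universe u

/-- the henselization of a quotient by an ideal dying in the henselization -/
theorem isHenselization_quotient (R S : Type u) [CommRing R] [IsLocalRing R] [CommRing S]
    [IsLocalRing S] [Algebra R S] [IsLocalHom (algebraMap R S)] [Hensel.IsHenselization R S]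
    (I : Ideal R) [IsLocalRing (R ⧸ I)] (hI : ∀ a ∈ I, algebraMap R S a = 0) :
    letI : Algebra (R ⧸ I) S := (Ideal.Quotient.lift I (algebraMap R S) hI).toAlgebra
    ∃ (_ : IsLocalHom (algebraMap (R ⧸ I) S)), Hensel.IsHenselization (R ⧸ I) S := by
  letI : Algebra (R ⧸ I) S := (Ideal.Quotient.lift I (algebraMap R S) hI).toAlgebra
  have hmk : ∀ r : R, algebraMap (R ⧸ I) S (Ideal.Quotient.mk I r) = algebraMap R S r :=
    fun r => rfl
  haveI hlh : IsLocalHom (algebraMap (R ⧸ I) S) := by
    constructor
    intro d hd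
    obtain ⟨r, rfl⟩ := Ideal.Quotient.mk_surjective d
    rw [hmk] at hd
    exact (isUnit_of_map_unit (algebraMap R S) r hd).map _
  refine ⟨hlh, Hensel.IsHenselization.henselian (R := R), ?_⟩
  intro T _ _ f hf
  haveI := hf
  haveI : IsLocalHom (Ideal.Quotient.mk I) :=
    IsLocalHom.of_surjective _ Ideal.Quotient.mk_surjective
  haveI : IsLocalHom (f.comp (Ideal.Quotient.mk I)) :=
    RingHom.isLocalHom_comp f (Ideal.Quotient.mk I)
  obtain ⟨g, hg, huniq⟩ := Hensel.IsHenselization.universal (R := R) (S := S) T
    (f.comp (Ideal.Quotient.mk I)) inferInstance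
  refine ⟨g, ?_, ?_⟩
  · refine RingHom.ext (fun d => ?_)
    obtain ⟨r, rfl⟩ := Ideal.Quotient.mk_surjective d
    show g (algebraMap (R ⧸ I) S (Ideal.Quotient.mk I r)) = f (Ideal.Quotient.mk I r)
    rw [hmk]
    exact RingHom.congr_fun hg r
  · intro g' hg'
    apply huniq
    refine RingHom.ext (fun r => ?_)
    show g' (algebraMap R S r) = f (Ideal.Quotient.mk I r)
    rw [← hmk]
    exact RingHom.congr_fun hg' (Ideal.Quotient.mk I r)

section Domain

variable (D S : Type u) [CommRing D] [IsLocalRing D] [IsDomain D] [CommRing S] [IsLocalRing S]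
  [Algebra D S] [IsLocalHom (algebraMap D S)] [Hensel.IsHenselization D S]

/-- if the normalization of the local domain `D` is local then the henselization is a domain -/
theorem isDomain_of_isLocalRing_integralClosure
    [hB : IsLocalRing (integralClosure D (FractionRing D))] : IsDomain S := by
  haveI : IsLocalHom (algebraMap D (integralClosure D (FractionRing D))) :=
    Algebra.IsIntegral.isLocalHom D _
  obtain ⟨hloc, hlh, hH⟩ := IH.isHenselization_tensor D (integralClosure D (FractionRing D)) S
  haveI : IsIntegrallyClosed (integralClosure D (FractionRing D)) :=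
    integralClosure.isIntegrallyClosedOfFiniteExtension (FractionRing D)
  have hdom := ((HFlat.isNormal_iff_of_isHenselization (integralClosure D (FractionRing D))
    ((integralClosure D (FractionRing D)) ⊗[D] S)).mp ⟨inferInstance, inferInstance⟩).1
  haveI : Module.Flat D S := (HFlat.faithfullyFlat_of_isHenselization D S).toFlat
  have hinj : Function.Injective (Algebra.TensorProduct.includeRight :
      S →ₐ[D] (integralClosure D (FractionRing D)) ⊗[D] S) :=
    Algebra.TensorProduct.includeRight_injective
      (FaithfulSMul.algebraMap_injective D (integralClosure D (FractionRing D)))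
  exact hinj.isDomain (Algebra.TensorProduct.includeRight :
      S →ₐ[D] (integralClosure D (FractionRing D)) ⊗[D] S).toRingHom

/-- a subalgebra of the fraction field becomes a domain after base change to a henselization
which is a domain -/
theorem isDomain_tensor_subalgebra [IsDomain S] (D'' : Subalgebra D (FractionRing D)) :
    IsDomain (S ⊗[D] D'') := by
  haveI hS : HenselianLocalRing S := Hensel.IsHenselization.henselian (R := D)
  haveI : Module.Flat D S := (HFlat.faithfullyFlat_of_isHenselization D S).toFlat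
  have hinjDS : Function.Injective (algebraMap D S) :=
    (HFlat.IsHensHom.of_isHenselization D S).injective
  haveI hlocz : IsLocalization (Algebra.algebraMapSubmonoid S (nonZeroDivisors D))
      (S ⊗[D] FractionRing D) := IsLocalization.tensor (FractionRing D) (nonZeroDivisors D)
  haveI hdomK : IsDomain (S ⊗[D] FractionRing D) := by
    apply IsLocalization.isDomain_of_le_nonZeroDivisors (S ⊗[D] FractionRing D)
      (M := Algebra.algebraMapSubmonoid S (nonZeroDivisors D))
    rintro _ ⟨d, hd, rfl⟩
    apply mem_nonZeroDivisors_of_ne_zero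
    rw [Ne, map_eq_zero_iff _ hinjDS]
    exact nonZeroDivisors.ne_zero hd
  have hinj : Function.Injective (Algebra.TensorProduct.map (AlgHom.id D S) D''.val) := by
    have h1 := Module.Flat.lTensor_preserves_injective_linearMap (M := S) D''.val.toLinearMap
      Subtype.val_injective
    have e : ∀ z, (LinearMap.lTensor S D''.val.toLinearMap) z =
        Algebra.TensorProduct.map (AlgHom.id D S) D''.val z := by
      intro z
      induction z using TensorProduct.induction_on with
      | zero => rw [map_zero, map_zero]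
      | tmul s d => rfl
      | add a b ha hb => rw [map_add, map_add, ha, hb]
    intro x y hxy
    apply h1
    rw [e, e, hxy]
  exact hinj.isDomain (Algebra.TensorProduct.map (AlgHom.id D S) D''.val)

theorem isLocalRing_subalgebra_of_finite [IsDomain S] (D'' : Subalgebra D (FractionRing D))
    [Module.Finite D D''] : IsLocalRing D'' := by
  haveI hS : HenselianLocalRing S := Hensel.IsHenselization.henselian (R := D)
  haveI hff : Module.FaithfullyFlat D S := HFlat.faithfullyFlat_of_isHenselization D S
  haveI : IsDomain (S ⊗[D] D'') := isDomain_tensor_subalgebra D S D''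
  have hC : ∀ (Q₁ Q₂ : Ideal (S ⊗[D] D'')), Q₁.IsMaximal → Q₂.IsMaximal → Q₁ = Q₂ := by
    intro Q₁ Q₂ h₁ h₂
    by_contra hne
    obtain ⟨e, he, he1, he2⟩ := exists_isIdempotentElem_mem_notMem (R := S) Q₁ Q₂ hne
    rcases IsIdempotentElem.iff_eq_zero_or_one.mp he with h0 | h1
    · exact he2 (h0 ▸ Q₂.zero_mem)
    · exact h₁.ne_top ((Ideal.eq_top_iff_one _).mpr (h1 ▸ he1))
  obtain ⟨ι, hι⟩ : ∃ ι : D'' →+* S ⊗[D] D'',
      ι = (Algebra.TensorProduct.includeRight : D'' →ₐ[D] S ⊗[D] D'').toRingHom := ⟨_, rfl⟩
  have hne_top : ∀ n : Ideal D'', n ≠ ⊤ → n.map ι ≠ ⊤ := by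
    intro n hn htop
    haveI : Nontrivial (D'' ⧸ n) := Ideal.Quotient.nontrivial_iff.mpr hn
    haveI : Nontrivial (S ⊗[D] (D'' ⧸ n)) :=
      Module.FaithfullyFlat.lTensor_nontrivial D S (D'' ⧸ n)
    obtain ⟨Ψ, hΨ⟩ : ∃ Ψ : S ⊗[D] D'' →ₐ[D] S ⊗[D] (D'' ⧸ n),
        Ψ = Algebra.TensorProduct.map (AlgHom.id D S) (Ideal.Quotient.mkₐ D n) := ⟨_, rfl⟩
    have hle : n.map ι ≤ RingHom.ker Ψ.toRingHom := by
      rw [Ideal.map_le_iff_le_comap]
      intro y hy
      rw [Ideal.mem_comap, RingHom.mem_ker, hι]
      show Ψ ((1 : S) ⊗ₜ[D] y) = 0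
      rw [hΨ, Algebra.TensorProduct.map_tmul, Ideal.Quotient.mkₐ_eq_mk,
        Ideal.Quotient.eq_zero_iff_mem.mpr hy, TensorProduct.tmul_zero]
    have h1 : (1 : S ⊗[D] D'') ∈ RingHom.ker Ψ.toRingHom := hle (htop ▸ Submodule.mem_top)
    rw [RingHom.mem_ker, map_one] at h1
    have hs : Subsingleton (S ⊗[D] (D'' ⧸ n)) := subsingleton_of_zero_eq_one h1.symm
    exact not_subsingleton _ hs
  apply IsLocalRing.of_unique_max_ideal
  obtain ⟨n₀, hn₀⟩ := Ideal.exists_maximal D''
  refine ⟨n₀, hn₀, ?_⟩
  intro n hn
  obtain ⟨Q, hQ, hnQ⟩ := Ideal.exists_le_maximal _ (hne_top n hn.ne_top)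
  obtain ⟨Q₀, hQ₀, hnQ₀⟩ := Ideal.exists_le_maximal _ (hne_top n₀ hn₀.ne_top)
  have hQQ : Q = Q₀ := hC Q Q₀ hQ hQ₀
  have h1 : n = Q.comap ι :=
    hn.eq_of_le (Ideal.comap_ne_top ι hQ.ne_top) (Ideal.map_le_iff_le_comap.mp hnQ)
  have h2 : n₀ = Q₀.comap ι :=
    hn₀.eq_of_le (Ideal.comap_ne_top ι hQ₀.ne_top) (Ideal.map_le_iff_le_comap.mp hnQ₀)
  rw [h1, h2, hQQ]

/-- if the henselization of the local domain `D` is a domain, the normalization of `D` is local -/
theorem isLocalRing_integralClosure_of_isDomain [IsDomain S] :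
    IsLocalRing (integralClosure D (FractionRing D)) := by
  apply IsLocalRing.of_isUnit_or_isUnit_one_sub_self
  intro x
  haveI : Module.Finite D (Algebra.adjoin D {(x : FractionRing D)}) :=
    Algebra.finite_adjoin_simple_of_isIntegral x.2
  haveI := isLocalRing_subalgebra_of_finite D S (Algebra.adjoin D {(x : FractionRing D)})
  have hle : Algebra.adjoin D {(x : FractionRing D)} ≤ integralClosure D (FractionRing D) :=
    Algebra.adjoin_le (Set.singleton_subset_iff.mpr x.2)
  obtain ⟨x'', hx''⟩ : ∃ x'' : Algebra.adjoin D {(x : FractionRing D)},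
      x'' = ⟨x, Algebra.subset_adjoin (Set.mem_singleton _)⟩ := ⟨_, rfl⟩
  have hx : Subalgebra.inclusion hle x'' = x := by
    rw [hx'']
    exact Subtype.ext rfl
  rcases IsLocalRing.isUnit_or_isUnit_one_sub_self x'' with h | h
  · left
    rw [← hx]
    exact h.map (Subalgebra.inclusion hle)
  · right
    have h3 := h.map (Subalgebra.inclusion hle)
    rwa [map_sub, map_one, hx] at h3

end Domain

/-- a local ring is reduced and unibranch iff its henselization is a domain -/
theorem reduced_unibranch_iff (R S : Type u) [CommRing R] [IsLocalRing R] [CommRing S]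
    [IsLocalRing S] [Algebra R S] [IsLocalHom (algebraMap R S)] [Hensel.IsHenselization R S] :
    (IsReduced R ∧ CAlg2.IsUnibranch R) ↔ IsDomain S := by
  haveI hS : HenselianLocalRing S := Hensel.IsHenselization.henselian (R := R)
  have hinjRS : Function.Injective (algebraMap R S) :=
    (HFlat.IsHensHom.of_isHenselization R S).injective
  constructor
  · rintro ⟨hred, hdom, hloc⟩
    have hI : ∀ a ∈ nilradical R, algebraMap R S a = 0 := by
      intro a ha
      rw [nilradical_eq_zero R] at ha
      rw [Ideal.mem_bot.mp ha, map_zero]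
    haveI : IsDomain (R ⧸ nilradical R) := hdom
    haveI : IsLocalRing (R ⧸ nilradical R) :=
      IsLocalRing.of_surjective' (Ideal.Quotient.mk _) Ideal.Quotient.mk_surjective
    letI : Algebra (R ⧸ nilradical R) S :=
      (Ideal.Quotient.lift (nilradical R) (algebraMap R S) hI).toAlgebra
    obtain ⟨hlh, hH⟩ := isHenselization_quotient R S (nilradical R) hI
    haveI : IsLocalRing (integralClosure (R ⧸ nilradical R)
      (FractionRing (R ⧸ nilradical R))) := hloc
    exact isDomain_of_isLocalRing_integralClosure (R ⧸ nilradical R) S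
  · intro hdomS
    haveI : IsDomain R := hinjRS.isDomain (algebraMap R S)
    have hred : IsReduced R := inferInstance
    have hI : ∀ a ∈ nilradical R, algebraMap R S a = 0 := by
      intro a ha
      rw [nilradical_eq_zero R] at ha
      rw [Ideal.mem_bot.mp ha, map_zero]
    haveI : (nilradical R).IsPrime := by
      rw [nilradical_eq_zero R]
      exact Ideal.bot_prime
    haveI hdom : IsDomain (R ⧸ nilradical R) := Ideal.Quotient.isDomain _
    haveI : IsLocalRing (R ⧸ nilradical R) :=
      IsLocalRing.of_surjective' (Ideal.Quotient.mk _) Ideal.Quotient.mk_surjective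
    letI : Algebra (R ⧸ nilradical R) S :=
      (Ideal.Quotient.lift (nilradical R) (algebraMap R S) hI).toAlgebra
    obtain ⟨hlh, hH⟩ := isHenselization_quotient R S (nilradical R) hI
    exact ⟨hred, hdom, isLocalRing_integralClosure_of_isDomain (R ⧸ nilradical R) S⟩

end Groth.Agent.Helper1.UB
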