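import Mathlib
import Groth.Prelude.Def_EtCore
import Groth.Agent.Lib.Helper1.US1
import Groth.Agent.Lib.Helper1.SHC14

/-!
# Universally submersive morphisms with connected geometric fibres: sections of inverse images
-/

set_option autoImplicit false
set_option linter.unusedSectionVars false
set_option linter.style.haveILetI false
open CategoryTheory CategoryTheory.Limits AlgebraicGeometry Opposite
universe u

namespace Groth.Agent.Helper1.US

open Groth.Agent.Helper1.ELR Groth.Agent.Helper1.FP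

theorem inj_of_mono {X : Scheme.{u}} {F G : EtCoh.Ab X} (φ : F ⟶ G) [Mono φ] (U : X.Etale) :
    Function.Injective (φ.hom.app (op U)) := by
  have h1 : Mono φ.hom := (Sheaf.Hom.mono_iff_presheaf_mono _ _ φ).1 inferInstance
  have h2 : Mono (φ.hom.app (op U)) := (NatTrans.mono_iff_mono_app φ.hom).1 h1 (op U)
  exact (AddCommGrpCat.mono_iff_injective _).1 h2

section Sub

variable {X S : Scheme.{u}} (f : X ⟶ S) (F : EtCoh.Ab S)
  (hc : ∀ (Ω : Type u) [Field Ω] [IsAlgClosed Ω] (s : Spec (CommRingCat.of Ω) ⟶ S),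
    ConnectedSpace ↥(pullback f s))

include hc in
theorem isPreconnected_fibre (V : S.Etale) (v₀ : V.left) :
    _root_.IsPreconnected ((prV f V).base ⁻¹' {v₀}) := by
  obtain ⟨Ω, hΩ1, hΩ2, vb₀, hvb₀⟩ := exists_geomPoint v₀
  letI := hΩ1
  haveI := hΩ2
  haveI := hc Ω (vb₀ ≫ V.hom)
  let fV : pullback V.hom f ⟶ V.left := pullback.fst V.hom f
  let iso : pullback vb₀ fV ≅ pullback f (vb₀ ≫ V.hom) :=
    pullbackRightPullbackFstIso V.hom f vb₀ ≪≫ pullbackSymmetry _ _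
  let e := Scheme.homeoOfIso iso
  haveI : ConnectedSpace ↥(pullback vb₀ fV) :=
    e.symm.surjective.connectedSpace e.symm.continuous
  have hr : Set.range (pullback.snd vb₀ fV) = fV ⁻¹' {v₀} := by
    rw [Scheme.Pullback.range_snd]
    congr 1
    rw [Set.range_unique, hvb₀]
  have h1 := isPreconnected_range (pullback.snd vb₀ fV).continuous
  rw [hr] at h1
  exact h1

theorem exists_open_disagree (V : S.Etale) (α : (pG f F).obj.obj (op ((EtCoh.bc f).obj V)))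
    (a : F.obj.obj (op V)) (w : ((EtCoh.bc f).obj V).left)
    (hw : ¬ AgreeAt (pG f F) ((EtCoh.bc f).obj V) α (uA f F V a) w) :
    ∃ O : Set ((EtCoh.bc f).obj V).left, IsOpen O ∧ w ∈ O ∧
      ∀ p ∈ O, (prV f V).base p = (prV f V).base w →
        ¬ AgreeAt (pG f F) ((EtCoh.bc f).obj V) α (uA f F V a) p := by
  obtain ⟨Ω, hΩ1, hΩ2, wb, hwb⟩ := exists_geomPoint w
  letI := hΩ1
  haveI := hΩ2
  let xb : Spec (CommRingCat.of Ω) ⟶ X := wb ≫ ((EtCoh.bc f).obj V).hom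
  let yb : (Φ xb).fiber.obj ((EtCoh.bc f).obj V) := mkPt xb _ wb rfl
  obtain ⟨V₂, ψ, y₂, a₂, hy₂, N, ν, n₀, hn₀, hN⟩ := exists_local_rep f F xb V yb α
  let b₂ := F.obj.map ψ.op a
  let v₂ : V₂.left := (prV f V₂).base ((pt xb _ y₂).base default)
  have hsq : ((EtCoh.bc f).map ψ).left ≫ prV f V = prV f V₂ ≫ ψ.left :=
    (EtCoh.isPullback_bc_map f ψ).w
  have hsq' : ∀ t : ((EtCoh.bc f).obj V₂).left,
      (prV f V).base (((EtCoh.bc f).map ψ).left.base t) = ψ.left.base ((prV f V₂).base t) :=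
    fun t => congrArg (fun k => k.base t) hsq
  haveI : LocallyQuasiFinite ψ.left := LC.lqf_of_etale ψ.left
  have hdisc := ψ.left.isDiscrete_preimage_singleton (ψ.left.base v₂)
  have hv₂s : v₂ ∈ ψ.left ⁻¹' {ψ.left.base v₂} := rfl
  have h1 : ({v₂} : Set V₂.left) ∈ nhdsWithin v₂ (ψ.left ⁻¹' {ψ.left.base v₂}) := by
    rw [hdisc.nhdsWithin v₂ hv₂s]
    exact Filter.mem_pure.2 rfl
  obtain ⟨B, hBo, hvB, hBs⟩ := mem_nhdsWithin.1 h1
  let φ : N ⟶ (EtCoh.bc f).obj V := ν ≫ (EtCoh.bc f).map ψ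
  have hφn₀ : φ.left.base n₀ = w := by
    have e1 : φ.left.base n₀ = ((EtCoh.bc f).map ψ).left.base (ν.left.base n₀) := rfl
    rw [e1, hn₀]
    have e2 : ((EtCoh.bc f).map ψ).left.base ((pt xb _ y₂).base default) =
        (pt xb _ ((Φ xb).fiber.map ((EtCoh.bc f).map ψ) y₂)).base default := rfl
    rw [e2, hy₂]
    exact hwb
  have hn₀v : (prV f V₂).base (ν.left.base n₀) = v₂ := by rw [hn₀]
  refine ⟨φ.left.base '' (ν.left.base ⁻¹' ((prV f V₂).base ⁻¹' B)), ?_, ?_, ?_⟩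
  · exact φ.left.isOpenMap _ ((hBo.preimage (prV f V₂).continuous).preimage ν.left.continuous)
  · refine ⟨n₀, ?_, hφn₀⟩
    show (prV f V₂).base (ν.left.base n₀) ∈ B
    rw [hn₀v]
    exact hvB
  · rintro p ⟨n', hn'B, rfl⟩ hp hag
    have hn'B' : (prV f V₂).base (ν.left.base n') ∈ B := hn'B
    have hψ : ψ.left.base ((prV f V₂).base (ν.left.base n')) = ψ.left.base v₂ := by
      have e1 : φ.left.base n' = ((EtCoh.bc f).map ψ).left.base (ν.left.base n') := rfl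
      have e0 : φ.left.base n₀ = ((EtCoh.bc f).map ψ).left.base (ν.left.base n₀) := rfl
      rw [← hsq', ← e1, hp, ← hφn₀, e0, hsq', hn₀v]
    have hn'v : (prV f V₂).base (ν.left.base n') = v₂ := hBs ⟨hn'B', hψ⟩
    have hag' := agreeAt_map (pG f F) φ α (uA f F V a) n' hag
    have e1 : (pG f F).obj.map φ.op α = (pG f F).obj.map ν.op (uA f F V₂ a₂) :=
      (map_map' (pG f F) ν ((EtCoh.bc f).map ψ) α).symm.trans hN
    have e2 : (pG f F).obj.map φ.op (uA f F V a) = (pG f F).obj.map ν.op (uA f F V₂ b₂) :=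
      (map_map' (pG f F) ν ((EtCoh.bc f).map ψ) (uA f F V a)).symm.trans
        (congrArg ((pG f F).obj.map ν.op) (uA_map f F ψ a).symm)
    rw [e1, e2] at hag'
    have hK := agreeAt_of_same_image f F V₂ a₂ b₂ N ν n₀ n' (hn₀v.trans hn'v.symm) hag'
    rw [← e1, ← e2] at hK
    have hfin := agreeAt_of_map (pG f F) φ α (uA f F V a) n₀ hK
    rw [hφn₀] at hfin
    exact hw hfin

include hc in
theorem saturated (V : S.Etale) (α : (pG f F).obj.obj (op ((EtCoh.bc f).obj V)))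
    (a : F.obj.obj (op V)) (z z₂ : ((EtCoh.bc f).obj V).left)
    (hz : AgreeAt (pG f F) ((EtCoh.bc f).obj V) α (uA f F V a) z)
    (hzz : (prV f V).base z₂ = (prV f V).base z) :
    AgreeAt (pG f F) ((EtCoh.bc f).obj V) α (uA f F V a) z₂ := by
  by_contra hz₂
  let E' : Set ((EtCoh.bc f).obj V).left :=
    {w | AgreeAt (pG f F) ((EtCoh.bc f).obj V) α (uA f F V a) w}
  have hE' : IsOpen E' := isOpen_agreeAt _ _ _ _
  have hb := fun (w : ((EtCoh.bc f).obj V).left) (hw : w ∉ E') =>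
    exists_open_disagree f F V α a w hw
  choose O hO1 hO2 hO3 using hb
  let O₂ : Set ((EtCoh.bc f).obj V).left :=
    ⋃ (w : ((EtCoh.bc f).obj V).left) (hw : w ∉ E')
      (_ : (prV f V).base w = (prV f V).base z), O w hw
  have hO₂ : IsOpen O₂ :=
    isOpen_iUnion fun w => isOpen_iUnion fun hw => isOpen_iUnion fun _ => hO1 w hw
  have hpre := isPreconnected_fibre f hc V ((prV f V).base z)
  have hcov : (prV f V).base ⁻¹' {(prV f V).base z} ⊆ E' ∪ O₂ := by
    intro t ht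
    by_cases htE : t ∈ E'
    · exact Or.inl htE
    · exact Or.inr (Set.mem_iUnion.2 ⟨t, Set.mem_iUnion.2 ⟨htE, Set.mem_iUnion.2 ⟨ht, hO2 t htE⟩⟩⟩)
  obtain ⟨p, hpF, hpE, hpO⟩ := hpre E' O₂ hE' hO₂ hcov ⟨z, rfl, hz⟩
    ⟨z₂, hzz, Set.mem_iUnion.2 ⟨z₂, Set.mem_iUnion.2 ⟨hz₂, Set.mem_iUnion.2 ⟨hzz, hO2 z₂ hz₂⟩⟩⟩⟩
  obtain ⟨w, hpw⟩ := Set.mem_iUnion.1 hpO
  obtain ⟨hw, hpw⟩ := Set.mem_iUnion.1 hpw
  obtain ⟨hwF, hpw⟩ := Set.mem_iUnion.1 hpw
  have hpF' : (prV f V).base p = (prV f V).base z := hpF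
  exact hO3 w hw p hpw (hpF'.trans hwF.symm) hpE

end Sub

end Groth.Agent.Helper1.US
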