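import Mathlib
import Groth.Prelude.Def_EtCore
import Groth.Agent.Lib.Helper1.US2

/-!
# Universally submersive morphisms with connected geometric fibres: the main statement
-/

set_option autoImplicit false
set_option linter.unusedSectionVars false
set_option linter.style.haveILetI false
open CategoryTheory CategoryTheory.Limits AlgebraicGeometry Opposite
universe u

namespace Groth.Agent.Helper1.US

open Groth.Agent.Helper1.ELR Groth.Agent.Helper1.FP

theorem surjective_of_connected_fibres {X S : Scheme.{u}} (f : X ⟶ S)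
    (hc : ∀ (Ω : Type u) [Field Ω] [IsAlgClosed Ω] (s : Spec (CommRingCat.of Ω) ⟶ S),
      ConnectedSpace ↥(pullback f s)) : Surjective f := by
  refine ⟨fun s => ?_⟩
  obtain ⟨Ω, hΩ1, hΩ2, sb, hsb⟩ := exists_geomPoint s
  letI := hΩ1
  haveI := hΩ2
  haveI := hc Ω sb
  obtain ⟨w⟩ := (inferInstance : Nonempty ↥(pullback f sb))
  refine ⟨(pullback.fst f sb).base w, ?_⟩
  have h1 : f.base ((pullback.fst f sb).base w) = sb.base ((pullback.snd f sb).base w) :=
    congrArg (fun k => k.base w) (pullback.condition (f := f) (g := sb))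
  rw [Subsingleton.elim ((pullback.snd f sb).base w) default] at h1
  exact h1.trans hsb

/-- **Sections of the inverse image along a universally submersive morphism with connected
geometric fibres.** -/
theorem unit_top_bijective {X S : Scheme.{u}} (f : X ⟶ S)
    (hsub : ∀ (S' : Scheme.{u}) (g : S' ⟶ S), Topology.IsQuotientMap (pullback.snd f g).base)
    (hc : ∀ (Ω : Type u) [Field Ω] [IsAlgClosed Ω] (s : Spec (CommRingCat.of Ω) ⟶ S),
      ConnectedSpace ↥(pullback f s))
    (F : EtCoh.Ab S) :
    Function.Bijective (((EtCoh.pullPushAdj f).unit.app F).hom.app (op (EtCoh.top S))) := by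
  haveI hsurj : Surjective f := surjective_of_connected_fibres f hc
  haveI := SHC.mono_unit_of_surjective f F
  have hinj : ∀ V : S.Etale,
      Function.Injective (((EtCoh.pullPushAdj f).unit.app F).hom.app (op V)) :=
    fun V => inj_of_mono _ V
  refine ⟨hinj _, ?_⟩
  intro τ
  let P : EtCoh.Ab S := (EtCoh.push f).obj (pG f F)
  let R : Sieve (EtCoh.top S) :=
    { arrows := fun V φ => ∃ a : F.obj.obj (op V), uA f F V a = P.obj.map φ.op τ
      downward_closed := by
        rintro V W φ ⟨a, ha⟩ ψ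
        refine ⟨F.obj.map ψ.op a, ?_⟩
        rw [uA_map, ha]
        exact map_map' P ψ φ τ }
  have hR : R ∈ S.smallEtaleTopology (EtCoh.top S) := by
    apply SHC.mem_of_pointwise
    intro s
    obtain ⟨x, hx⟩ := hsurj.surj s
    obtain ⟨Ω, hΩ1, hΩ2, xb, hxb⟩ := exists_geomPoint x
    letI := hΩ1
    haveI := hΩ2
    have hc0 : (xb ≫ f) ≫ (EtCoh.top S).hom = xb ≫ f := Category.comp_id _
    let zb : Spec (CommRingCat.of Ω) ⟶ ((EtCoh.bc f).obj (EtCoh.top S)).left :=
      pullback.lift (xb ≫ f) xb hc0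
    have hzb1 : zb ≫ prV f (EtCoh.top S) = xb ≫ f := pullback.lift_fst _ _ _
    let yb : (Φ xb).fiber.obj ((EtCoh.bc f).obj (EtCoh.top S)) :=
      mkPt xb _ zb (pullback.lift_snd _ _ _)
    obtain ⟨V₂, ψ, y₂, a₂, hy₂, hag⟩ := exists_local_rep f F xb (EtCoh.top S) yb τ
    let α₂ : (pG f F).obj.obj (op ((EtCoh.bc f).obj V₂)) :=
      (pG f F).obj.map ((EtCoh.bc f).map ψ).op τ
    let E' : Set ((EtCoh.bc f).obj V₂).left :=
      {z | AgreeAt (pG f F) ((EtCoh.bc f).obj V₂) α₂ (uA f F V₂ a₂) z}
    have hE' : IsOpen E' := isOpen_agreeAt _ _ _ _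
    have hsat : ∀ z z₂, z ∈ E' → (prV f V₂).base z₂ = (prV f V₂).base z → z₂ ∈ E' :=
      fun z z₂ hz hzz => saturated f F hc V₂ α₂ a₂ z z₂ hz hzz
    let E : Set V₂.left := (prV f V₂).base '' E'
    have hpre : (prV f V₂).base ⁻¹' E = E' := by
      ext t
      constructor
      · rintro ⟨z, hz, hzt⟩
        exact hsat z t hz hzt.symm
      · intro ht
        exact ⟨t, ht, rfl⟩
    have hE : IsOpen E := by
      have hq := hsub V₂.left V₂.hom
      have hsym : (pullbackSymmetry f V₂.hom).hom ≫ prV f V₂ = pullback.snd f V₂.hom :=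
        pullbackSymmetry_hom_comp_fst _ _
      rw [← hq.isCoinducing.isOpen_preimage]
      have h1 : (pullback.snd f V₂.hom).base ⁻¹' E =
          (pullbackSymmetry f V₂.hom).hom.base ⁻¹' E' := by
        rw [← hpre, ← hsym]
        rfl
      rw [h1]
      exact hE'.preimage (pullbackSymmetry f V₂.hom).hom.continuous
    let EO : V₂.left.Opens := ⟨E, hE⟩
    haveI : Etale (homX V₂) := V₂.prop
    let VE : S.Etale := Scheme.Etale.mk (EO.ι ≫ homX V₂)
    let j : VE ⟶ V₂ := MorphismProperty.Over.homMk EO.ι rfl trivial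
    have hz₀ : (pt xb _ y₂).base default ∈ E' := hag
    let v₀ : V₂.left := (prV f V₂).base ((pt xb _ y₂).base default)
    have hv₀ : v₀ ∈ E := ⟨_, hz₀, rfl⟩
    refine ⟨VE, j ≫ ψ, (⟨v₀, hv₀⟩ : EO), ?_, ?_⟩
    · refine ⟨F.obj.map j.op a₂, ?_⟩
      rw [uA_map]
      have h2 : P.obj.map (j ≫ ψ).op τ = (pG f F).obj.map ((EtCoh.bc f).map j).op α₂ :=
        (map_map' P j ψ τ).symm
      rw [h2]
      symm
      apply eq_of_forall_agreeAt
      intro z'
      apply agreeAt_map
      have hsq := (EtCoh.isPullback_bc_map f j).w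
      have h3 : (prV f V₂).base (((EtCoh.bc f).map j).left.base z') =
          j.left.base ((prV f VE).base z') := congrArg (fun k => k.base z') hsq
      have hz'E : (prV f V₂).base (((EtCoh.bc f).map j).left.base z') ∈ E := by
        rw [h3]
        exact ((prV f VE).base z').2
      have h4 : ((EtCoh.bc f).map j).left.base z' ∈ (prV f V₂).base ⁻¹' E := hz'E
      rw [hpre] at h4
      exact h4
    · have hsq := (EtCoh.isPullback_bc_map f ψ).w
      have h3 : (prV f (EtCoh.top S)).base (((EtCoh.bc f).map ψ).left.base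
          ((pt xb _ y₂).base default)) = ψ.left.base v₀ :=
        congrArg (fun k => k.base ((pt xb _ y₂).base default)) hsq
      have h4 : ((EtCoh.bc f).map ψ).left.base ((pt xb _ y₂).base default) =
          (pt xb _ ((Φ xb).fiber.map ((EtCoh.bc f).map ψ) y₂)).base default := rfl
      rw [h4, hy₂] at h3
      have h5 : (prV f (EtCoh.top S)).base ((pt xb _ yb).base default) =
          (xb ≫ f).base default := congrArg (fun k => k.base default) hzb1
      have h6 : (xb ≫ f).base default = f.base (xb.base default) := rfl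
      have h7 : xb.base default = x := hxb
      have h8 : (j ≫ ψ).left.base (⟨v₀, hv₀⟩ : EO) = ψ.left.base v₀ := rfl
      rw [h8, ← h3, h5, h6, h7]
      exact hx
  have hSF := SZ.presieve_isSheaf F R hR
  let xfam : Presieve.FamilyOfElements (F.obj ⋙ forget AddCommGrpCat.{u + 1}) R.arrows :=
    fun V φ h => h.choose
  have hspec : ∀ (V : S.Etale) (φ : V ⟶ EtCoh.top S) (h : R φ),
      uA f F V (xfam φ h) = P.obj.map φ.op τ := fun V φ h => h.choose_spec
  have hcompat : xfam.SieveCompatible := by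
    intro V W φ ψ hφ
    apply hinj W
    show uA f F W (xfam (ψ ≫ φ) _) = uA f F W (F.obj.map ψ.op (xfam φ hφ))
    rw [hspec, uA_map, hspec]
    exact (map_map' P ψ φ τ).symm
  have hcompat' := (Presieve.compatible_iff_sieveCompatible xfam).2 hcompat
  refine ⟨hSF.amalgamate xfam hcompat', ?_⟩
  have hglue : ∀ (V : S.Etale) (φ : V ⟶ EtCoh.top S) (hφ : R φ),
      (F.obj ⋙ forget AddCommGrpCat.{u + 1}).map φ.op (hSF.amalgamate xfam hcompat') =
        xfam φ hφ := fun V φ hφ => hSF.valid_glue hcompat' φ hφ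
  refine ((SZ.presieve_isSheaf P) R hR).isSeparatedFor.ext ?_
  intro V φ hφ
  show P.obj.map φ.op (uA f F (EtCoh.top S) (hSF.amalgamate xfam hcompat')) = P.obj.map φ.op τ
  have h1 := (uA_map f F φ (hSF.amalgamate xfam hcompat')).symm
  have h2 : F.obj.map φ.op (hSF.amalgamate xfam hcompat') = xfam φ hφ := hglue V φ hφ
  exact h1.trans ((congrArg (uA f F V) h2).trans (hspec V φ hφ))

end Groth.Agent.Helper1.US
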