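import Mathlib

/-!
# Lifting units modulo all maximal ideals of a semilocal base along an integral extension

(helper lemma requested by helper14; Mathlib-only)
-/

universe u

open TensorProduct

namespace Groth.Agent.Helper1.USL

/-- `B → (A ⧸ I) ⊗[A] B`, `b ↦ 1 ⊗ b` is surjective. -/
theorem includeRight_surjective (A B : Type u) [CommRing A] [CommRing B] [Algebra A B]
    (I : Ideal A) :
    Function.Surjective
      (Algebra.TensorProduct.includeRight (R := A) (A := A ⧸ I) (B := B)) := by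
  intro x
  induction x using TensorProduct.induction_on with
  | zero => exact ⟨0, map_zero _⟩
  | tmul q b =>
    obtain ⟨a, rfl⟩ := Ideal.Quotient.mk_surjective q
    refine ⟨a • b, ?_⟩
    rw [Algebra.TensorProduct.includeRight_apply, ← TensorProduct.smul_tmul]
    congr 1
    rw [Algebra.smul_def, mul_one]
    rfl
  | add x y hx hy =>
    obtain ⟨bx, rfl⟩ := hx
    obtain ⟨by', rfl⟩ := hy
    exact ⟨bx + by', map_add _ _ _⟩

theorem exists_unit_lift_semilocal (A B : Type u) [CommRing A] [CommRing B] [Algebra A B]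
    [Algebra.IsIntegral A B] [Finite (MaximalSpectrum A)]
    (c : ∀ m : MaximalSpectrum A, ((A ⧸ m.asIdeal) ⊗[A] B)ˣ) :
    ∃ b : Bˣ, ∀ m : MaximalSpectrum A,
      (Algebra.TensorProduct.includeRight (R := A) (A := A ⧸ m.asIdeal) (b : B)) =
        (c m : (A ⧸ m.asIdeal) ⊗[A] B) := by
  classical
  let φ : ∀ m : MaximalSpectrum A, B →+* (A ⧸ m.asIdeal) ⊗[A] B := fun m =>
    (Algebra.TensorProduct.includeRight (R := A) (A := A ⧸ m.asIdeal) (B := B)).toRingHom
  have hφ : ∀ m, Function.Surjective (φ m) := fun m =>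
    includeRight_surjective A B m.asIdeal
  have hker : ∀ (m : MaximalSpectrum A) (a : A), a ∈ m.asIdeal →
      algebraMap A B a ∈ RingHom.ker (φ m) := by
    intro m a ha
    rw [RingHom.mem_ker]
    show Algebra.TensorProduct.includeRight (R := A) (A := A ⧸ m.asIdeal)
      (algebraMap A B a) = 0
    rw [AlgHom.commutes, Algebra.TensorProduct.algebraMap_apply, Ideal.Quotient.algebraMap_eq,
      Ideal.Quotient.eq_zero_iff_mem.mpr ha, TensorProduct.zero_tmul]
  have hcop : Pairwise (Function.onFun IsCoprime (fun m : MaximalSpectrum A => RingHom.ker (φ m))) := by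
    intro m m' hne
    have hsup : m.asIdeal ⊔ m'.asIdeal = ⊤ := by
      apply Ideal.IsMaximal.coprime_of_ne m.isMaximal m'.isMaximal
      intro h
      exact hne (MaximalSpectrum.ext h)
    show IsCoprime (RingHom.ker (φ m)) (RingHom.ker (φ m'))
    rw [Ideal.isCoprime_iff_sup_eq, Ideal.eq_top_iff_one]
    have h1 : (1 : A) ∈ m.asIdeal ⊔ m'.asIdeal := by rw [hsup]; trivial
    obtain ⟨x, hx, y, hy, hxy⟩ := Submodule.mem_sup.mp h1
    have h1B : (1 : B) = algebraMap A B x + algebraMap A B y := by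
      rw [← map_add, hxy, map_one]
    rw [h1B]
    exact Submodule.add_mem_sup (hker m x hx) (hker m' y hy)
  choose x hx using fun m => hφ m (c m : (A ⧸ m.asIdeal) ⊗[A] B)
  obtain ⟨b₀, hb₀⟩ := Ideal.exists_forall_sub_mem_ideal hcop x
  have hb : ∀ m, φ m b₀ = (c m : (A ⧸ m.asIdeal) ⊗[A] B) := by
    intro m
    have h := hb₀ m
    rw [RingHom.mem_ker, map_sub, sub_eq_zero] at h
    rw [h, hx]
  have hunit : IsUnit b₀ := by
    by_contra hnu
    obtain ⟨n, hnmax, hbn⟩ := exists_max_ideal_of_mem_nonunits (mem_nonunits_iff.mpr hnu)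
    haveI := hnmax
    let m : MaximalSpectrum A :=
      ⟨n.comap (algebraMap A B), Ideal.isMaximal_comap_of_isIntegral_of_isMaximal n⟩
    let f0 : A ⧸ m.asIdeal →ₐ[A] B ⧸ n :=
      Ideal.Quotient.liftₐ m.asIdeal (Algebra.ofId A (B ⧸ n)) (by
        intro a ha
        show algebraMap A (B ⧸ n) a = 0
        rw [← Ideal.Quotient.mk_algebraMap]
        exact Ideal.Quotient.eq_zero_iff_mem.mpr ha)
    let ψ : (A ⧸ m.asIdeal) ⊗[A] B →ₐ[A] B ⧸ n :=
      Algebra.TensorProduct.lift f0 (Ideal.Quotient.mkₐ A n) (fun _ _ => Commute.all _ _)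
    have hψ : ∀ b : B, ψ (φ m b) = Ideal.Quotient.mk n b := by
      intro b
      show ψ ((1 : A ⧸ m.asIdeal) ⊗ₜ[A] b) = _
      rw [Algebra.TensorProduct.lift_tmul, map_one, one_mul]
      rfl
    have h0 : Ideal.Quotient.mk n b₀ = 0 := Ideal.Quotient.eq_zero_iff_mem.mpr hbn
    have hu : IsUnit (ψ (φ m b₀)) := by
      rw [hb m]
      exact (c m).isUnit.map ψ
    rw [hψ, h0] at hu
    haveI : Nontrivial (B ⧸ n) := Ideal.Quotient.nontrivial_iff.mpr hnmax.ne_top
    exact not_isUnit_zero hu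
  exact ⟨hunit.unit, fun m => hb m⟩

end Groth.Agent.Helper1.USL
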