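import Groth.Prelude.Def_Pi1
import Mathlib.LinearAlgebra.TensorProduct.Finiteness
import Mathlib.LinearAlgebra.TensorProduct.RightExactness
import Mathlib.RingTheory.TensorProduct.Finite

set_option autoImplicit false
universe u
open scoped TensorProduct

namespace Groth.Agent.Helper1

/-- For a universally injective ring map, a module whose base change vanishes is zero. -/
theorem subsingleton_of_univInjective {R S : Type u} [CommRing R] [CommRing S] [Algebra R S]
    (h : Pi1.UnivInjective R S) (Q : Type u) [AddCommGroup Q] [Module R Q]
    (hQ : Subsingleton (S ⊗[R] Q)) : Subsingleton Q := by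
  have h1 : Function.Injective (LinearMap.lTensor Q (Algebra.linearMap R S)) := h Q
  have h2 : Subsingleton (Q ⊗[R] S) := (TensorProduct.comm R Q S).toEquiv.subsingleton
  have h3 : Subsingleton (Q ⊗[R] R) := h1.subsingleton
  exact (TensorProduct.rid R Q).symm.toEquiv.subsingleton

/-- For a universally injective ring map, the canonical map `Q → S ⊗ Q` is injective. -/
theorem injective_mk_of_univInjective {R S : Type u} [CommRing R] [CommRing S] [Algebra R S]
    (h : Pi1.UnivInjective R S) (Q : Type u) [AddCommGroup Q] [Module R Q] :
    Function.Injective (fun q : Q => (1 : S) ⊗ₜ[R] q) := by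
  have h1 : Function.Injective (LinearMap.lTensor Q (Algebra.linearMap R S)) := h Q
  intro a b hab
  have h2 : (TensorProduct.comm R Q S).symm ((1 : S) ⊗ₜ[R] a) =
      (TensorProduct.comm R Q S).symm ((1 : S) ⊗ₜ[R] b) := by
    simpa using congrArg (TensorProduct.comm R Q S).symm hab
  have h3 : LinearMap.lTensor Q (Algebra.linearMap R S) (a ⊗ₜ[R] (1 : R)) =
      LinearMap.lTensor Q (Algebra.linearMap R S) (b ⊗ₜ[R] (1 : R)) := by
    simpa using h2
  have h4 := h1 h3
  have h5 := congrArg (TensorProduct.rid R Q) h4
  simpa using h5

/-- If the base change of a submodule inclusion is surjective then, for a universally injective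
ring map, the submodule is everything. -/
theorem eq_top_of_lTensor_surjective {R S : Type u} [CommRing R] [CommRing S] [Algebra R S]
    (h : Pi1.UnivInjective R S) {M : Type u} [AddCommGroup M] [Module R M] (N : Submodule R M)
    (hN : Function.Surjective (LinearMap.lTensor S N.subtype)) : N = ⊤ := by
  have hex : Function.Exact (LinearMap.lTensor S N.subtype) (LinearMap.lTensor S N.mkQ) :=
    lTensor_exact S (LinearMap.exact_subtype_mkQ N) (Submodule.mkQ_surjective N)
  have hsurj : Function.Surjective (LinearMap.lTensor S N.mkQ) :=
    LinearMap.lTensor_surjective S (Submodule.mkQ_surjective N)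
  have hsub : Subsingleton (S ⊗[R] (M ⧸ N)) := by
    refine ⟨fun a b => ?_⟩
    obtain ⟨a', rfl⟩ := hsurj a
    obtain ⟨b', rfl⟩ := hsurj b
    obtain ⟨a'', rfl⟩ := hN a'
    obtain ⟨b'', rfl⟩ := hN b'
    rw [hex.apply_apply_eq_zero, hex.apply_apply_eq_zero]
  have := subsingleton_of_univInjective h (M ⧸ N) hsub
  exact Submodule.Quotient.subsingleton_iff.mp this

end Groth.Agent.Helper1
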