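import Groth.Prelude.Def_Pi1
import Mathlib.RingTheory.Flat.Tensor
import Mathlib.Algebra.Module.CharacterModule

/-!
# Flatness descends along universally injective ring maps

The proof is by character modules: if `R → S` is universally injective then `C(S) → C(R)` has an
`R`-linear section, which yields *natural* sections `C(Y) → C(S ⊗ Y)` of the restriction maps.
If `S ⊗ M` is `S`-flat, `C(S ⊗ M)` is an injective `S`-module, hence a retract of `C(S ⊗ F)` for a
free cover `F → M`; combining, `C(M)` is a retract of the injective module `C(F)`.
-/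

set_option autoImplicit false
universe u
open scoped TensorProduct

namespace Groth.Agent.Helper1

section
variable {R S : Type u} [CommRing R] [CommRing S] [Algebra R S]

/-- For a universally injective ring map, restriction `C(S) → C(R)` of characters has an
`R`-linear section. -/
theorem exists_characterModule_section (h : Pi1.UnivInjective R S) :
    ∃ σ : CharacterModule R →ₗ[R] CharacterModule S,
      ∀ (c : CharacterModule R) (r : R), σ c (algebraMap R S r) = c r := by
  have hinj := h (CharacterModule R)
  let ε : CharacterModule (CharacterModule R ⊗[R] R) := CharacterModule.uncurry LinearMap.id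
  obtain ⟨ε', hε'⟩ := CharacterModule.dual_surjective_of_injective _ hinj ε
  refine ⟨CharacterModule.curry ε', fun c r => ?_⟩
  exact congrArg (fun e : CharacterModule (CharacterModule R ⊗[R] R) => e (c ⊗ₜ r)) hε'

/-- The natural map `C(Y) → C(S ⊗ Y)` induced by a map `C(R) → C(S)`. -/
noncomputable def charSection (σ : CharacterModule R →ₗ[R] CharacterModule S) (Y : Type u)
    [AddCommGroup Y] [Module R Y] : CharacterModule Y →ₗ[R] CharacterModule (S ⊗[R] Y) :=
  CharacterModule.dual (TensorProduct.comm R S Y).toLinearMap ∘ₗ CharacterModule.uncurry ∘ₗ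
    LinearMap.compRight R σ ∘ₗ CharacterModule.curry ∘ₗ
      CharacterModule.dual (TensorProduct.rid R Y).toLinearMap

theorem charSection_apply_tmul (σ : CharacterModule R →ₗ[R] CharacterModule S) (Y : Type u)
    [AddCommGroup Y] [Module R Y] (c : CharacterModule Y) (s : S) (y : Y) :
    charSection σ Y c (s ⊗ₜ y) =
      σ (CharacterModule.curry (CharacterModule.dual (TensorProduct.rid R Y).toLinearMap c) y) s := by
  rfl

theorem curry_dual_rid_apply (Y : Type u) [AddCommGroup Y] [Module R Y] (c : CharacterModule Y)
    (y : Y) (r : R) :
    CharacterModule.curry (CharacterModule.dual (TensorProduct.rid R Y).toLinearMap c) y r =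
      c (r • y) := by
  rfl

theorem charSection_one_tmul (σ : CharacterModule R →ₗ[R] CharacterModule S)
    (hσ : ∀ (c : CharacterModule R) (r : R), σ c (algebraMap R S r) = c r) (Y : Type u)
    [AddCommGroup Y] [Module R Y] (c : CharacterModule Y) (y : Y) :
    charSection σ Y c ((1 : S) ⊗ₜ y) = c y := by
  rw [charSection_apply_tmul, ← map_one (algebraMap R S), hσ, curry_dual_rid_apply, one_smul]

theorem charSection_natural (σ : CharacterModule R →ₗ[R] CharacterModule S) {Y Y' : Type u}
    [AddCommGroup Y] [Module R Y] [AddCommGroup Y'] [Module R Y'] (q : Y →ₗ[R] Y')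
    (c : CharacterModule Y') :
    charSection σ Y (CharacterModule.dual q c) =
      CharacterModule.dual (LinearMap.lTensor S q) (charSection σ Y' c) := by
  ext x
  induction x using TensorProduct.induction_on with
  | zero => simp
  | add a b ha hb => rw [map_add, map_add, ha, hb]
  | tmul s y =>
    rw [charSection_apply_tmul]
    change _ = charSection σ Y' c (LinearMap.lTensor S q (s ⊗ₜ y))
    rw [LinearMap.lTensor_tmul, charSection_apply_tmul]
    congr 2
    ext r
    rw [curry_dual_rid_apply, curry_dual_rid_apply, ← map_smul]
    rfl

end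

/-- **Descent of flatness along universally injective ring maps.** -/
theorem flat_of_univInjective {R S : Type u} [CommRing R] [CommRing S] [Algebra R S]
    (h : Pi1.UnivInjective R S) (M : Type u) [AddCommGroup M] [Module R M]
    [Module.Flat S (S ⊗[R] M)] : Module.Flat R M := by
  obtain ⟨σ, hσ⟩ := exists_characterModule_section h
  let q : (M →₀ R) →ₗ[R] M := Finsupp.linearCombination R id
  have hq : Function.Surjective q := Finsupp.linearCombination_id_surjective R M
  have hJ : Module.Injective S (CharacterModule (S ⊗[R] M)) :=
    Module.Flat.iff_characterModule_injective.mp inferInstance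
  let qS : S ⊗[R] (M →₀ R) →ₗ[S] S ⊗[R] M := LinearMap.baseChange S q
  have hqS : Function.Surjective qS := by
    intro x
    obtain ⟨y, hy⟩ := LinearMap.lTensor_surjective S hq x
    exact ⟨y, by rw [← hy]; rfl⟩
  let ι : CharacterModule (S ⊗[R] M) →ₗ[S] CharacterModule (S ⊗[R] (M →₀ R)) :=
    CharacterModule.dual qS
  have hι : Function.Injective ι := CharacterModule.dual_injective_of_surjective _ hqS
  obtain ⟨π, hπ⟩ := hJ.out ι hι LinearMap.id
  rw [Module.Flat.iff_characterModule_baer]
  have hF : Module.Baer R (CharacterModule (M →₀ R)) :=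
    Module.Flat.iff_characterModule_baer.mp inferInstance
  intro I g
  obtain ⟨g', hg'⟩ := hF I ((CharacterModule.dual q) ∘ₗ g)
  let πR : CharacterModule (S ⊗[R] (M →₀ R)) →ₗ[R] CharacterModule (S ⊗[R] M) :=
    { toFun := π
      map_add' := map_add π
      map_smul' := fun r c => by
        have h1 : r • c = (algebraMap R S r) • c := by
          ext a
          simp [CharacterModule.smul_apply]
        rw [h1, map_smul, RingHom.id_apply]
        ext a
        simp [CharacterModule.smul_apply] }
  let ϱ : CharacterModule (M →₀ R) →ₗ[R] CharacterModule M :=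
    CharacterModule.dual (TensorProduct.mk R S M 1) ∘ₗ πR ∘ₗ charSection σ (M →₀ R)
  refine ⟨ϱ ∘ₗ g', fun x hx => ?_⟩
  rw [LinearMap.comp_apply, hg' x hx, LinearMap.comp_apply]
  have h2 : charSection σ (M →₀ R) (CharacterModule.dual q (g ⟨x, hx⟩)) =
      ι (charSection σ M (g ⟨x, hx⟩)) := by
    rw [charSection_natural]
    rfl
  change CharacterModule.dual (TensorProduct.mk R S M 1)
    (π (charSection σ (M →₀ R) (CharacterModule.dual q (g ⟨x, hx⟩)))) = _
  rw [h2, hπ]
  ext m
  exact charSection_one_tmul σ hσ M _ m

end Groth.Agent.Helper1
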