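import Mathlib

/-!
# Maps from projective modules to flat modules over a local ring which are injective modulo the
maximal ideal are universally injective.
-/

namespace Groth.Agent.Helper1

open TensorProduct Function IsLocalRing

section Prod

variable {R : Type*} [CommRing R]

/-- A product of two flat modules is flat. -/
theorem flat_prod (N F : Type*) [AddCommGroup N] [Module R N] [AddCommGroup F] [Module R F]
    [Module.Flat R N] [Module.Flat R F] : Module.Flat R (N × F) := by
  rw [Module.Flat.iff_lTensor_injective']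
  intro I
  rw [injective_iff_map_eq_zero]
  intro z hz
  have h1 : (LinearMap.fst R N F).rTensor I z = 0 := by
    apply Module.Flat.lTensor_preserves_injective_linearMap (M := N) I.subtype
      (Submodule.injective_subtype _)
    rw [map_zero, ← LinearMap.comp_apply, LinearMap.lTensor_comp_rTensor,
      ← LinearMap.rTensor_comp_lTensor, LinearMap.comp_apply, hz, map_zero]
  have h2 : (LinearMap.snd R N F).rTensor I z = 0 := by
    apply Module.Flat.lTensor_preserves_injective_linearMap (M := F) I.subtype
      (Submodule.injective_subtype _)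
    rw [map_zero, ← LinearMap.comp_apply, LinearMap.lTensor_comp_rTensor,
      ← LinearMap.rTensor_comp_lTensor, LinearMap.comp_apply, hz, map_zero]
  have h3 : (LinearMap.inl R N F ∘ₗ LinearMap.fst R N F +
      LinearMap.inr R N F ∘ₗ LinearMap.snd R N F) = LinearMap.id := by
    ext x <;> simp
  have : z = (LinearMap.id : N × F →ₗ[R] N × F).rTensor I z := by simp
  rw [this, ← h3, LinearMap.rTensor_add, LinearMap.add_apply, LinearMap.rTensor_comp,
    LinearMap.rTensor_comp, LinearMap.comp_apply, LinearMap.comp_apply, h1, h2, map_zero,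
    map_zero, add_zero]

end Prod

section Local

variable {R : Type*} [CommRing R] [IsLocalRing R]

/-- Finite free source. -/
theorem lTensor_injective_of_finite_free {N : Type*} [AddCommGroup N] [Module R N]
    [Module.Flat R N] {ι : Type*} [Fintype ι] (u : (ι →₀ R) →ₗ[R] N)
    (h : Injective (u.lTensor (ResidueField R)))
    (Q : Type*) [AddCommGroup Q] [Module R Q] : Injective (u.lTensor Q) := by
  classical
  rw [injective_iff_map_eq_zero]
  intro x hx
  obtain ⟨c, rfl⟩ := TensorProduct.eq_repr_basis_right (Finsupp.basisSingleOne (R := R) (ι := ι)) x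
  rw [Finsupp.sum_fintype _ _ (fun i => by simp)] at hx ⊢
  simp only [map_sum, LinearMap.lTensor_tmul, Finsupp.coe_basisSingleOne] at hx
  -- equational criterion
  have hm : Injective (LinearMap.rTensor N (Submodule.span R (Set.range (c : ι → Q))).subtype) :=
    Module.Flat.rTensor_preserves_injective_linearMap _ (Submodule.injective_subtype _)
  obtain ⟨k, a, y, hy, ha⟩ :=
    vanishesTrivially_of_sum_tmul_eq_zero_of_rTensor_injective R hm hx
  -- the maps A and Y
  let A : (ι →₀ R) →ₗ[R] (Fin k →₀ R) :=
    Finsupp.linearCombination R (fun i => Finsupp.equivFunOnFinite.symm (a i))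
  let Y : (Fin k →₀ R) →ₗ[R] N := Finsupp.linearCombination R y
  have hYA : u = Y ∘ₗ A := by
    apply Finsupp.basisSingleOne.ext
    intro i
    simp only [Finsupp.coe_basisSingleOne, LinearMap.comp_apply, A, Y,
      Finsupp.linearCombination_single, one_smul]
    have hy' : ∀ i, u (Finsupp.single i 1) = ∑ j, a i j • y j := hy
    rw [hy' i, Finsupp.linearCombination_apply, Finsupp.sum_fintype _ _ (fun i => by simp)]
    simp
  have hA : Injective (A.lTensor (ResidueField R)) := by
    have : u.lTensor (ResidueField R) = Y.lTensor (ResidueField R) ∘ₗ A.lTensor (ResidueField R) := by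
      rw [hYA, LinearMap.lTensor_comp]
    rw [this] at h
    exact Injective.of_comp h
  obtain ⟨B, hB⟩ := (IsLocalRing.split_injective_iff_lTensor_residueField_injective A).mpr hA
  -- A ⊗ Q kills x
  have hAx : A.lTensor Q (∑ i, c i ⊗ₜ[R] (Finsupp.basisSingleOne (R := R) (ι := ι)) i) = 0 := by
    simp only [map_sum, LinearMap.lTensor_tmul, Finsupp.coe_basisSingleOne, A,
      Finsupp.linearCombination_single, one_smul]
    have : ∀ i, (Finsupp.equivFunOnFinite.symm (a i) : Fin k →₀ R) =
        ∑ j, a i j • Finsupp.single j (1 : R) := by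
      intro i
      ext j'
      simp [Finsupp.single_apply]
    simp_rw [this, tmul_sum, tmul_smul, smul_tmul']
    rw [Finset.sum_comm]
    simp_rw [← sum_tmul, ha, zero_tmul, Finset.sum_const_zero]
  have : (B.lTensor Q) (A.lTensor Q
      (∑ i, c i ⊗ₜ[R] (Finsupp.basisSingleOne (R := R) (ι := ι)) i)) =
      ∑ i, c i ⊗ₜ[R] (Finsupp.basisSingleOne (R := R) (ι := ι)) i := by
    rw [← LinearMap.comp_apply, ← LinearMap.lTensor_comp, hB, LinearMap.lTensor_id,
      LinearMap.id_apply]
  rw [← this, hAx, map_zero]

/-- Free source of arbitrary rank. -/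
theorem lTensor_injective_of_free {N : Type*} [AddCommGroup N] [Module R N]
    [Module.Flat R N] {ι : Type*} (u : (ι →₀ R) →ₗ[R] N)
    (h : Injective (u.lTensor (ResidueField R)))
    (Q : Type*) [AddCommGroup Q] [Module R Q] : Injective (u.lTensor Q) := by
  classical
  rw [injective_iff_map_eq_zero]
  intro x hx
  obtain ⟨c, rfl⟩ := TensorProduct.eq_repr_basis_right (Finsupp.basisSingleOne (R := R) (ι := ι)) x
  set s := c.support with hs
  -- the inclusion of the coordinates in `s`
  let φ : (s →₀ R) →ₗ[R] (ι →₀ R) := Finsupp.lmapDomain R R (Subtype.val : s → ι)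
  let ρ : (ι →₀ R) →ₗ[R] (s →₀ R) := Finsupp.lcomapDomain (Subtype.val : s → ι)
    Subtype.val_injective
  have hρφ : ρ ∘ₗ φ = LinearMap.id := by
    ext i : 1
    apply LinearMap.ext
    intro r
    exact Finsupp.leftInverse_lcomapDomain_mapDomain (R := R) (M := R) (Subtype.val : s → ι)
      Subtype.val_injective _
  have hφk : Injective (φ.lTensor (ResidueField R)) := by
    apply Function.LeftInverse.injective (g := ρ.lTensor (ResidueField R))
    intro z
    rw [← LinearMap.comp_apply, ← LinearMap.lTensor_comp, hρφ, LinearMap.lTensor_id,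
      LinearMap.id_apply]
  have huφ : Injective ((u ∘ₗ φ).lTensor (ResidueField R)) := by
    rw [LinearMap.lTensor_comp]
    exact h.comp hφk
  set x₀ : Q ⊗[R] (s →₀ R) := ∑ i : s, c i ⊗ₜ[R] Finsupp.single i (1 : R) with hx₀
  have hφx₀ : φ.lTensor Q x₀ = c.sum fun i m => m ⊗ₜ[R] (Finsupp.basisSingleOne (R := R)) i := by
    rw [hx₀, map_sum, Finsupp.sum]
    rw [← Finset.sum_coe_sort (s := c.support)]
    refine Finset.sum_congr rfl ?_
    intro i _
    simp [φ]
  have h0 : (u ∘ₗ φ).lTensor Q x₀ = 0 := by
    rw [LinearMap.lTensor_comp, LinearMap.comp_apply, hφx₀, hx]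
  have hx₀0 : x₀ = 0 := by
    have := lTensor_injective_of_finite_free (u ∘ₗ φ) huφ Q
    exact this (by rw [h0, map_zero])
  rw [← hφx₀, hx₀0, map_zero]

/-- Projective source. -/
theorem lTensor_injective_of_projective {M N : Type*} [AddCommGroup M] [Module R M]
    [Module.Projective R M] [AddCommGroup N] [Module R N]
    [Module.Flat R N] (u : M →ₗ[R] N)
    (h : Injective (u.lTensor (ResidueField R)))
    (Q : Type*) [AddCommGroup Q] [Module R Q] : Injective (u.lTensor Q) := by
  classical
  obtain ⟨i, hi⟩ := Module.projective_def'.mp (inferInstance : Module.Projective R M)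
  set p : (M →₀ R) →ₗ[R] M := Finsupp.linearCombination R id with hp
  have hpi : p ∘ₗ i = LinearMap.id := hi
  have : Module.Flat R (N × (M →₀ R)) := flat_prod N (M →₀ R)
  let u' : (M →₀ R) →ₗ[R] N × (M →₀ R) :=
    LinearMap.prod (u ∘ₗ p) (LinearMap.id - i ∘ₗ p)
  have hfst : LinearMap.fst R N (M →₀ R) ∘ₗ u' = u ∘ₗ p := by ext; simp [u']
  have hsnd : LinearMap.snd R N (M →₀ R) ∘ₗ u' = LinearMap.id - i ∘ₗ p := by ext; simp [u']
  have hu' : Injective (u'.lTensor (ResidueField R)) := by
    rw [injective_iff_map_eq_zero]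
    intro z hz
    have h1 : (u ∘ₗ p).lTensor (ResidueField R) z = 0 := by
      rw [← hfst, LinearMap.lTensor_comp, LinearMap.comp_apply, hz, map_zero]
    have h2 : (LinearMap.id - i ∘ₗ p).lTensor (ResidueField R) z = 0 := by
      rw [← hsnd, LinearMap.lTensor_comp, LinearMap.comp_apply, hz, map_zero]
    rw [LinearMap.lTensor_comp, LinearMap.comp_apply] at h1
    have h3 : p.lTensor (ResidueField R) z = 0 := h (by rw [h1, map_zero])
    rw [LinearMap.lTensor_sub, LinearMap.sub_apply, LinearMap.lTensor_id, LinearMap.id_apply,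
      LinearMap.lTensor_comp, LinearMap.comp_apply, h3, map_zero, sub_zero] at h2
    exact h2
  have hinj := lTensor_injective_of_free u' hu' Q
  rw [injective_iff_map_eq_zero]
  intro x hx
  have h1 : u'.lTensor Q (i.lTensor Q x) = 0 := by
    have e1 : (LinearMap.fst R N (M →₀ R)).lTensor Q (u'.lTensor Q (i.lTensor Q x)) = 0 := by
      rw [← LinearMap.comp_apply, ← LinearMap.lTensor_comp, hfst, ← LinearMap.comp_apply,
        ← LinearMap.lTensor_comp, LinearMap.comp_assoc, hpi, LinearMap.comp_id, hx]
    have e2 : (LinearMap.snd R N (M →₀ R)).lTensor Q (u'.lTensor Q (i.lTensor Q x)) = 0 := by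
      rw [← LinearMap.comp_apply, ← LinearMap.lTensor_comp, hsnd, ← LinearMap.comp_apply,
        ← LinearMap.lTensor_comp, LinearMap.sub_comp, LinearMap.id_comp, LinearMap.comp_assoc,
        hpi, LinearMap.comp_id, show (i - i : M →ₗ[R] M →₀ R) = 0 from sub_self i,
        LinearMap.lTensor_zero, LinearMap.zero_apply]
    have h3 : (LinearMap.inl R N (M →₀ R) ∘ₗ LinearMap.fst R N (M →₀ R) +
        LinearMap.inr R N (M →₀ R) ∘ₗ LinearMap.snd R N (M →₀ R)) = LinearMap.id := by
      ext x <;> simp
    have : ∀ w : Q ⊗[R] (N × (M →₀ R)),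
        w = (LinearMap.id : N × (M →₀ R) →ₗ[R] N × (M →₀ R)).lTensor Q w := by simp
    rw [this (u'.lTensor Q (i.lTensor Q x)), ← h3, LinearMap.lTensor_add, LinearMap.add_apply,
      LinearMap.lTensor_comp, LinearMap.lTensor_comp, LinearMap.comp_apply, LinearMap.comp_apply,
      e1, e2, map_zero, map_zero, add_zero]
  have h2 : i.lTensor Q x = 0 := hinj (by rw [h1, map_zero])
  have : x = p.lTensor Q (i.lTensor Q x) := by
    rw [← LinearMap.comp_apply, ← LinearMap.lTensor_comp, hpi, LinearMap.lTensor_id,
      LinearMap.id_apply]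
  rw [this, h2, map_zero]

end Local

end Groth.Agent.Helper1
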