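import Groth.Agent.Lib.Helper1.WE1

/-!
# `Spec` of a strict henselization of a stalk is weakly étale over the scheme
-/

set_option autoImplicit false

open CategoryTheory CategoryTheory.Limits Opposite TopologicalSpace AlgebraicGeometry

universe u

namespace Groth.Agent.Helper1.WE

theorem weaklyEtale_Spec_map (A R : Type u) [CommRing A] [CommRing R] [Algebra A R]
    [Algebra.WeaklyEtale A R] :
    WeaklyEtale (Spec.map (CommRingCat.ofHom (algebraMap A R))) := by
  haveI h1 : Flat (Spec.map (CommRingCat.ofHom (algebraMap A R))) := by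
    rw [HasRingHomProperty.Spec_iff (P := @Flat)]
    exact RingHom.flat_algebraMap_iff.mpr inferInstance
  haveI h2 : Flat (Spec.map (CommRingCat.ofHom
      (Algebra.TensorProduct.lmul' A : TensorProduct A R R →ₐ[A] R).toRingHom)) := by
    rw [HasRingHomProperty.Spec_iff (P := @Flat)]
    exact Algebra.WeaklyEtale.flat_lmul' A R
  refine ⟨h1, ?_⟩
  rw [AlgebraicGeometry.diagonal_SpecMap A R]
  exact MorphismProperty.comp_mem _ _ _ h2 inferInstance

theorem flat_fromSpecStalk (X : Scheme.{u}) (x : X) : Flat (X.fromSpecStalk x) := by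
  obtain ⟨U, hU, hxU, -⟩ :=
    Opens.isBasis_iff_nbhd.mp X.isBasis_affineOpens (show x ∈ (⊤ : X.Opens) from trivial)
  have hU : IsAffineOpen U := hU
  rw [← hU.fromSpecStalk_eq_fromSpecStalk hxU]
  unfold IsAffineOpen.fromSpecStalk
  haveI h1 : Flat (Spec.map (X.presheaf.germ U x hxU)) := by
    letI : Algebra Γ(X, U) (X.presheaf.stalk x) := (X.presheaf.germ U x hxU).hom.toAlgebra
    haveI := hU.isLocalization_stalk ⟨x, hxU⟩
    rw [HasRingHomProperty.Spec_iff (P := @Flat)]
    exact RingHom.flat_algebraMap_iff.mpr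
      (IsLocalization.flat _ (hU.primeIdealOf ⟨x, hxU⟩).asIdeal.primeCompl)
  exact MorphismProperty.comp_mem _ _ _ h1 inferInstance

theorem weaklyEtale_fromSpecStalk (X : Scheme.{u}) (x : X) : WeaklyEtale (X.fromSpecStalk x) := by
  haveI : Flat (X.fromSpecStalk x) := flat_fromSpecStalk X x
  haveI : Mono (X.fromSpecStalk x) := inferInstance
  haveI : IsIso (pullback.diagonal (X.fromSpecStalk x)) := inferInstance
  exact ⟨inferInstance, inferInstance⟩

/-- S0754 -/
theorem weaklyEtale_specOf (X : Scheme.{u}) (x : ↥X) (R : Type u) [CommRing R]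
    [IsLocalRing R] [Algebra (X.presheaf.stalk x) R]
    [IsLocalHom (algebraMap (X.presheaf.stalk x) R)]
    [Hensel.IsStrictHenselization (X.presheaf.stalk x) R] :
    WeaklyEtale (Hens2.specOf X x R) := by
  haveI : Algebra.WeaklyEtale (X.presheaf.stalk x) R :=
    weaklyEtale_of_isStrictHenselization (X.presheaf.stalk x) R
  haveI h1 := weaklyEtale_Spec_map (X.presheaf.stalk x) R
  haveI h2 := weaklyEtale_fromSpecStalk X x
  exact MorphismProperty.comp_mem _ _ _ h1 h2

end Groth.Agent.Helper1.WE
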