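import Mathlib
import Groth.Prelude.Def_Flat

/-!
# A weakly étale universal homeomorphism is an isomorphism
-/

set_option autoImplicit false
set_option linter.style.haveILetI false

open CategoryTheory Limits AlgebraicGeometry MorphismProperty

namespace Groth.Agent.Helper1.WEU

universe u

theorem isIso_of_flat_surj_qc_mono {A B : Scheme.{u}} (g : A ⟶ B) [Flat g] [Surjective g]
    [QuasiCompact g] [Mono g] : IsIso g := by
  have h1 : IsIso (pullback.fst g g) := inferInstance
  exact MorphismProperty.of_pullback_fst_of_descendsAlong (P := MorphismProperty.isomorphisms Scheme.{u})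
    (Q := @Surjective ⊓ @Flat ⊓ @QuasiCompact) (f := g) (g := g)
    ⟨⟨inferInstance, inferInstance⟩, inferInstance⟩ h1

theorem main0425 {X Y : Scheme.{u}} (f : X ⟶ Y) [WeaklyEtale f] (h : FlatMor.IsUnivHomeo f) : IsIso f := by
  have hhomeo : IsHomeomorph f.base := MorphismProperty.universally_le _ _ h
  haveI : UniversallyInjective f := by
    rw [universallyInjective_eq]
    exact MorphismProperty.universally_mono (fun _ _ g hg => IsHomeomorph.injective hg) _ h
  haveI : Surjective f := ⟨hhomeo.surjective⟩
  haveI : QuasiCompact f := by
    rw [quasiCompact_iff]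
    intro U hU hc
    exact hhomeo.homeomorph.isCompact_preimage.mpr hc
  haveI : Flat f := WeaklyEtale.flat
  haveI hΔs : Surjective (pullback.diagonal f) := (UniversallyInjective.iff_diagonal f).mp inferInstance
  haveI : IsClosedImmersion (pullback.diagonal f) :=
    .of_isPreimmersion _ (by rw [Set.range_eq_univ.mpr hΔs.surj]; exact isClosed_univ)
  haveI : Flat (pullback.diagonal f) := WeaklyEtale.flat_diagonal
  haveI : IsIso (pullback.diagonal f) := isIso_of_flat_surj_qc_mono _
  haveI : Mono f := (pullback.isIso_diagonal_iff f).mp inferInstance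
  exact isIso_of_flat_surj_qc_mono f

end Groth.Agent.Helper1.WEU
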