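import Mathlib
import Groth.Agent.Lib.Helper14.WeilRingDef
import Groth.Agent.Lib.Helper1.WFT

/-!
# The counit `C' → B' ⊗[B] AR` of a ring-theoretic Weil restriction of a formally smooth
algebra is formally smooth

(helper lemma requested by helper14)
-/

universe u

open TensorProduct Groth.Agent.Helper14.WeilRing

namespace Groth.Agent.Helper1.WFS

section mu

variable (B B' E : Type u) [CommRing B] [CommRing B'] [CommRing E]
  [Algebra B B'] [Algebra B E] [Algebra B' E] [IsScalarTower B B' E]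

/-- multiplication `B' ⊗[B] E → E`, `b' ⊗ e ↦ b' • e`. -/
noncomputable def mu : B' ⊗[B] E →ₐ[B'] E :=
  Algebra.TensorProduct.lift (Algebra.ofId B' E) (AlgHom.id B E) (fun _ _ => Commute.all _ _)

variable {B B' E}

theorem mu_tmul (b : B') (e : E) : mu B B' E (b ⊗ₜ[B] e) = b • e := by
  simp only [mu, Algebra.TensorProduct.lift_tmul, Algebra.ofId_apply, AlgHom.coe_id, id_eq,
    Algebra.smul_def]

theorem mk_mu (J : Ideal E) (x : B' ⊗[B] E) :
    Ideal.Quotient.mk J (mu B B' E x) =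
      mu B B' (E ⧸ J)
        (Algebra.TensorProduct.map (AlgHom.id B' B') (Ideal.Quotient.mkₐ B J) x) := by
  induction x using TensorProduct.induction_on with
  | zero => simp only [map_zero]
  | tmul b e =>
    rw [Algebra.TensorProduct.map_tmul, mu_tmul, mu_tmul]
    rfl
  | add x y hx hy => simp only [map_add, hx, hy]

theorem map_mk_surjective (J : Ideal E) :
    Function.Surjective
      (Algebra.TensorProduct.map (AlgHom.id B' B') (Ideal.Quotient.mkₐ B J)) := by
  intro x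
  induction x using TensorProduct.induction_on with
  | zero => exact ⟨0, map_zero _⟩
  | tmul b q =>
    obtain ⟨e, rfl⟩ := Ideal.Quotient.mk_surjective q
    exact ⟨b ⊗ₜ[B] e, rfl⟩
  | add x y hx hy =>
    obtain ⟨x', rfl⟩ := hx
    obtain ⟨y', rfl⟩ := hy
    exact ⟨x' + y', map_add _ _ _⟩

theorem ker_map_mk_sq (J : Ideal E) (hJ : J ^ 2 = ⊥) (x y : B' ⊗[B] E)
    (hx : Algebra.TensorProduct.map (AlgHom.id B' B') (Ideal.Quotient.mkₐ B J) x = 0)
    (hy : Algebra.TensorProduct.map (AlgHom.id B' B') (Ideal.Quotient.mkₐ B J) y = 0) :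
    x * y = 0 := by
  have hsame : ∀ z : B' ⊗[B] E,
      Algebra.TensorProduct.map (AlgHom.id B B') (Ideal.Quotient.mkₐ B J) z =
        Algebra.TensorProduct.map (AlgHom.id B' B') (Ideal.Quotient.mkₐ B J) z := by
    intro z
    induction z using TensorProduct.induction_on with
    | zero => simp only [map_zero]
    | tmul b e => rfl
    | add x y hx hy => simp only [map_add, hx, hy]
  have hker : RingHom.ker
      (Algebra.TensorProduct.map (AlgHom.id B B') (Ideal.Quotient.mkₐ B J)) =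
      (RingHom.ker (Ideal.Quotient.mkₐ B J)).map
        (Algebra.TensorProduct.includeRight : E →ₐ[B] B' ⊗[B] E) :=
    Algebra.TensorProduct.lTensor_ker _ (Ideal.Quotient.mkₐ_surjective B J)
  have hkJ : RingHom.ker (Ideal.Quotient.mkₐ B J) ≤ J := by
    intro e he
    rw [RingHom.mem_ker] at he
    exact Ideal.Quotient.eq_zero_iff_mem.mp he
  have hmem : ∀ z : B' ⊗[B] E,
      Algebra.TensorProduct.map (AlgHom.id B' B') (Ideal.Quotient.mkₐ B J) z = 0 →
      z ∈ J.map (Algebra.TensorProduct.includeRight : E →ₐ[B] B' ⊗[B] E) := by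
    intro z hz
    have h1 : z ∈ RingHom.ker
        (Algebra.TensorProduct.map (AlgHom.id B B') (Ideal.Quotient.mkₐ B J)) := by
      rw [RingHom.mem_ker, hsame, hz]
    exact Ideal.map_mono hkJ (hker.le h1)
  have hsq : (J.map (Algebra.TensorProduct.includeRight : E →ₐ[B] B' ⊗[B] E)) ^ 2 = ⊥ := by
    rw [← Ideal.map_pow, hJ, Ideal.map_bot]
  have hxy : x * y ∈ (J.map (Algebra.TensorProduct.includeRight : E →ₐ[B] B' ⊗[B] E)) ^ 2 := by
    rw [pow_two]
    exact Ideal.mul_mem_mul (hmem x hx) (hmem y hy)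
  rw [hsq] at hxy
  exact Ideal.mem_bot.mp hxy

end mu

theorem exists_lift_of_range {R A T S : Type u} [CommRing R] [CommRing A] [Algebra R A]
    [CommRing T] [Algebra R T] [CommRing S] [Algebra R S] [Algebra.FormallySmooth R A]
    (Φ : T →ₐ[R] S) (f₀ : A →ₐ[R] S) (hf₀ : ∀ a, f₀ a ∈ Φ.range)
    (hsq : ∀ x y, Φ x = 0 → Φ y = 0 → x * y = 0) :
    ∃ θ : A →ₐ[R] T, ∀ a, Φ (θ a) = f₀ a := by
  have hnil : IsNilpotent (RingHom.ker (Φ.rangeRestrict : T →+* Φ.range)) := by
    refine ⟨2, ?_⟩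
    rw [pow_two, Ideal.zero_eq_bot, eq_bot_iff, Ideal.mul_le]
    intro x hx y hy
    rw [Ideal.mem_bot]
    exact hsq x y (congrArg Subtype.val (RingHom.mem_ker.mp hx))
      (congrArg Subtype.val (RingHom.mem_ker.mp hy))
  refine ⟨Algebra.FormallySmooth.liftOfSurjective (f₀.codRestrict Φ.range hf₀) Φ.rangeRestrict
    Φ.rangeRestrict_surjective hnil, fun a => ?_⟩
  have h1 := Algebra.FormallySmooth.liftOfSurjective_apply (f₀.codRestrict Φ.range hf₀)
    Φ.rangeRestrict Φ.rangeRestrict_surjective hnil a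
  exact congrArg Subtype.val h1

section clean

variable {B B' C' AR : Type u} [CommRing B] [CommRing B'] [CommRing C'] [CommRing AR]
  [Algebra B B'] [Algebra B' C'] [Algebra B AR]

theorem exists_lift_aux [Algebra.FormallySmooth B' C'] (ψ : C' →ₐ[B'] B' ⊗[B] AR)
    (h : IsWeil B B' C' AR ψ)
    (E : Type u) [CommRing E] [Algebra B E] [Algebra B' E] [Algebra C' E]
    [IsScalarTower B B' E] [IsScalarTower B' C' E] (J : Ideal E) (hJ : J ^ 2 = ⊥)
    (rbar : AR →ₐ[B] E ⧸ J)
    (hrbar : ∀ c : C',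
      mu B B' (E ⧸ J) (Algebra.TensorProduct.map (AlgHom.id B' B') rbar (ψ c)) =
        algebraMap C' (E ⧸ J) c) :
    ∃ r : AR →ₐ[B] E, (Ideal.Quotient.mkₐ B J).comp r = rbar ∧
      ∀ c : C', mu B B' E (Algebra.TensorProduct.map (AlgHom.id B' B') r (ψ c)) =
        algebraMap C' E c := by
  let π : E →ₐ[B] E ⧸ J := Ideal.Quotient.mkₐ B J
  let P : B' ⊗[B] E →ₐ[B'] B' ⊗[B] (E ⧸ J) := Algebra.TensorProduct.map (AlgHom.id B' B') π
  let Φ : B' ⊗[B] E →ₐ[B'] (B' ⊗[B] (E ⧸ J)) × E := AlgHom.prod P (mu B B' E)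
  let θbar : C' →ₐ[B'] B' ⊗[B] (E ⧸ J) :=
    (Algebra.TensorProduct.map (AlgHom.id B' B') rbar).comp ψ
  -- the image of `Φ` contains the fibre product
  have hrange : ∀ (x : B' ⊗[B] (E ⧸ J)) (e : E),
      mu B B' (E ⧸ J) x = Ideal.Quotient.mk J e → (x, e) ∈ Φ.range := by
    intro x e hxe
    obtain ⟨x', rfl⟩ := map_mk_surjective (B := B) (B' := B') J x
    have hj : mu B B' E x' - e ∈ J := by
      rw [← Ideal.Quotient.eq_zero_iff_mem, map_sub, mk_mu, hxe, sub_self]
    refine (AlgHom.mem_range _).mpr ⟨x' - (1 : B') ⊗ₜ[B] (mu B B' E x' - e), ?_⟩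
    apply Prod.ext
    · show P (x' - (1 : B') ⊗ₜ[B] (mu B B' E x' - e)) = P x'
      rw [map_sub]
      have h0 : P ((1 : B') ⊗ₜ[B] (mu B B' E x' - e)) = 0 := by
        show (AlgHom.id B' B' 1) ⊗ₜ[B] (π (mu B B' E x' - e)) = 0
        have h00 : π (mu B B' E x' - e) = 0 := Ideal.Quotient.eq_zero_iff_mem.mpr hj
        rw [h00, TensorProduct.tmul_zero]
      rw [h0, sub_zero]
    · show mu B B' E (x' - (1 : B') ⊗ₜ[B] (mu B B' E x' - e)) = e
      rw [map_sub, mu_tmul, one_smul, sub_sub_cancel]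
  have hsq : ∀ x y, Φ x = 0 → Φ y = 0 → x * y = 0 := fun x y hx1 hy1 =>
    ker_map_mk_sq J hJ x y (congrArg Prod.fst hx1) (congrArg Prod.fst hy1)
  let f₀ : C' →ₐ[B'] (B' ⊗[B] (E ⧸ J)) × E :=
    AlgHom.prod θbar (IsScalarTower.toAlgHom B' C' E)
  have hf₀ : ∀ c, f₀ c ∈ Φ.range := by
    intro c
    have hc : mu B B' (E ⧸ J) (θbar c) = Ideal.Quotient.mk J (algebraMap C' E c) := by
      show mu B B' (E ⧸ J)
        (Algebra.TensorProduct.map (AlgHom.id B' B') rbar (ψ c)) = _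
      rw [hrbar c]
      rfl
    exact hrange (θbar c) (algebraMap C' E c) hc
  obtain ⟨θ, hθ⟩ := exists_lift_of_range Φ f₀ hf₀ hsq
  obtain ⟨r, hr⟩ := (h E).2 θ
  have hr' : (Algebra.TensorProduct.map (AlgHom.id B' B') r).comp ψ = θ := hr
  have hrc : ∀ c, Algebra.TensorProduct.map (AlgHom.id B' B') r (ψ c) = θ c :=
    fun c => AlgHom.congr_fun hr' c
  refine ⟨r, ?_, ?_⟩
  · apply (h (E ⧸ J)).1
    show (Algebra.TensorProduct.map (AlgHom.id B' B') (π.comp r)).comp ψ =
      (Algebra.TensorProduct.map (AlgHom.id B' B') rbar).comp ψ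
    refine AlgHom.ext fun c => ?_
    rw [AlgHom.comp_apply, AlgHom.comp_apply, WFT.map_id_comp_apply, hrc]
    exact congrArg Prod.fst (hθ c)
  · intro c
    rw [hrc]
    exact congrArg Prod.snd (hθ c)

theorem formallySmooth_of_isWeil [Algebra.FormallySmooth B' C'] (ψ : C' →ₐ[B'] B' ⊗[B] AR)
    (h : IsWeil B B' C' AR ψ) : ψ.toRingHom.FormallySmooth := by
  letI algT : Algebra C' (B' ⊗[B] AR) := ψ.toRingHom.toAlgebra
  show Algebra.FormallySmooth C' (B' ⊗[B] AR)
  refine Algebra.FormallySmooth.of_comp_surjective ?_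
  intro E _ _ J hJ gbar
  letI algB'E : Algebra B' E := ((algebraMap C' E).comp (algebraMap B' C')).toAlgebra
  letI algBE : Algebra B E := ((algebraMap B' E).comp (algebraMap B B')).toAlgebra
  haveI : IsScalarTower B' C' E := IsScalarTower.of_algebraMap_eq (fun _ => rfl)
  haveI : IsScalarTower B B' E := IsScalarTower.of_algebraMap_eq (fun _ => rfl)
  have hg1 : ∀ b : B', gbar (algebraMap B' (B' ⊗[B] AR) b) = algebraMap B' (E ⧸ J) b := by
    intro b
    have h1 : algebraMap B' (B' ⊗[B] AR) b =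
        algebraMap C' (B' ⊗[B] AR) (algebraMap B' C' b) := (ψ.commutes b).symm
    rw [h1, gbar.commutes]
    rfl
  let gB' : (B' ⊗[B] AR) →ₐ[B'] E ⧸ J := { gbar.toRingHom with commutes' := hg1 }
  let rbar : AR →ₐ[B] E ⧸ J :=
    (gB'.restrictScalars B).comp (Algebra.TensorProduct.includeRight : AR →ₐ[B] B' ⊗[B] AR)
  have hkey : ∀ t : B' ⊗[B] AR,
      mu B B' (E ⧸ J) (Algebra.TensorProduct.map (AlgHom.id B' B') rbar t) = gbar t := by
    intro t
    induction t using TensorProduct.induction_on with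
    | zero => simp only [map_zero]
    | tmul b a =>
      rw [Algebra.TensorProduct.map_tmul, mu_tmul]
      have h2 : b ⊗ₜ[B] a = b • ((1 : B') ⊗ₜ[B] a) := by
        rw [TensorProduct.smul_tmul', smul_eq_mul, mul_one]
      have h3 : gbar (b ⊗ₜ[B] a) = gB' (b ⊗ₜ[B] a) := rfl
      rw [h3, h2, map_smul]
      rfl
    | add x y hx hy => simp only [map_add, hx, hy]
  obtain ⟨r, hr1, hr2⟩ := exists_lift_aux ψ h E J hJ rbar (fun c => by
    rw [hkey]; exact gbar.commutes c)
  let g₀ : (B' ⊗[B] AR) →ₐ[B'] E :=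
    (mu B B' E).comp (Algebra.TensorProduct.map (AlgHom.id B' B') r)
  let g : (B' ⊗[B] AR) →ₐ[C'] E := { g₀.toRingHom with commutes' := fun c => hr2 c }
  refine ⟨g, ?_⟩
  refine AlgHom.ext fun t => ?_
  show Ideal.Quotient.mk J
    (mu B B' E (Algebra.TensorProduct.map (AlgHom.id B' B') r t)) = gbar t
  rw [mk_mu, ← WFT.map_id_comp_apply, hr1, hkey]

end clean

end Groth.Agent.Helper1.WFS
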