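import Mathlib

/-!
# Abstract core of the "change one residue coordinate" homotopy lemma (L5 of helper14's S8214)

Mathlib-only.
-/

universe u

namespace Groth.Agent.Helper1.WL5

/-- lifting along an algebra map onto its range with nilpotent kernel. -/
theorem exists_lift_of_range_nilpotent {R A T S : Type u} [CommRing R] [CommRing A] [Algebra R A]
    [CommRing T] [Algebra R T] [CommRing S] [Algebra R S] [Algebra.FormallySmooth R A]
    (Φ : T →ₐ[R] S) (f₀ : A →ₐ[R] S) (hf₀ : ∀ a, f₀ a ∈ Φ.range)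
    (I : Ideal T) (hI : IsNilpotent I) (hker : ∀ x, Φ x = 0 → x ∈ I) :
    ∃ θ : A →ₐ[R] T, ∀ a, Φ (θ a) = f₀ a := by
  have hnil : IsNilpotent (RingHom.ker (Φ.rangeRestrict : T →+* Φ.range)) := by
    obtain ⟨n, hn⟩ := hI
    refine ⟨n, ?_⟩
    have hle : RingHom.ker (Φ.rangeRestrict : T →+* Φ.range) ≤ I := fun x hx =>
      hker x (congrArg Subtype.val (RingHom.mem_ker.mp hx))
    have h2 := Ideal.pow_right_mono hle n
    rw [hn, Ideal.zero_eq_bot] at h2
    rw [Ideal.zero_eq_bot]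
    exact le_bot_iff.mp h2
  refine ⟨Algebra.FormallySmooth.liftOfSurjective (f₀.codRestrict Φ.range hf₀) Φ.rangeRestrict
    Φ.rangeRestrict_surjective hnil, fun a => ?_⟩
  have h1 := Algebra.FormallySmooth.liftOfSurjective_apply (f₀.codRestrict Φ.range hf₀)
    Φ.rangeRestrict Φ.rangeRestrict_surjective hnil a
  exact congrArg Subtype.val h1

theorem exists_lift_change {k' C' Λ T : Type u} [CommRing k'] [CommRing C'] [CommRing Λ]
    [CommRing T] [Algebra k' C'] [Algebra k' Λ] [Algebra k' T] [Algebra.FormallySmooth k' C']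
    (c_ : Λ →ₐ[k'] T) (e₀ e₁ : T →ₐ[k'] Λ) (h₀ : ∀ x, e₀ (c_ x) = x) (h₁ : ∀ x, e₁ (c_ x) = x)
    (N : Ideal Λ) (hN : IsNilpotent N) (ε : Λ) (hε : IsIdempotentElem ε)
    (θ : C' →ₐ[k'] Λ) (G₁ : C' →+* T)
    (ha : ∀ b : k', c_ ε * (G₁ (algebraMap k' C' b) - algebraMap k' T b) ∈ N.map c_)
    (hb : ∀ c : C', ε * (θ c - e₀ (G₁ c)) ∈ N) :
    ∃ H : C' →ₐ[k'] T, (∀ c, e₀ (H c) = θ c) ∧
      ∀ c, e₁ (H c) - (ε * e₁ (G₁ c) + (1 - ε) * θ c) ∈ N := by
  have hεT : c_ ε * c_ ε = c_ ε := by rw [← map_mul, hε.eq]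
  have hNT : IsNilpotent (N.map c_) := by
    obtain ⟨n, hn⟩ := hN
    refine ⟨n, ?_⟩
    rw [← Ideal.map_pow, hn, Ideal.zero_eq_bot, Ideal.map_bot]
    rfl
  -- the prescribed map `G`, a ring homomorphism
  let G : C' →+* T :=
    { toFun := fun c => c_ ε * G₁ c + (1 - c_ ε) * c_ (θ c)
      map_one' := by
        simp only [map_one]
        ring
      map_mul' := fun x y => by
        simp only [map_mul]
        linear_combination
          (-(G₁ x * G₁ y - G₁ x * c_ (θ y) - c_ (θ x) * G₁ y + c_ (θ x) * c_ (θ y))) * hεT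
      map_zero' := by
        simp only [map_zero]
        ring
      map_add' := fun x y => by
        simp only [map_add]
        ring }
  have hG : ∀ c, G c = c_ ε * G₁ c + (1 - c_ ε) * c_ (θ c) := fun _ => rfl
  let Gb : C' →ₐ[k'] T ⧸ N.map c_ :=
    { (Ideal.Quotient.mk (N.map c_)).comp G with
      commutes' := fun b => by
        show Ideal.Quotient.mk (N.map c_) (G (algebraMap k' C' b)) =
          algebraMap k' (T ⧸ N.map c_) b
        rw [← Ideal.Quotient.mk_algebraMap, Ideal.Quotient.eq]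
        have h1 : G (algebraMap k' C' b) - algebraMap k' T b =
            c_ ε * (G₁ (algebraMap k' C' b) - algebraMap k' T b) := by
          rw [hG, AlgHom.commutes, AlgHom.commutes]
          ring
        rw [h1]
        exact ha b }
  have hGb : ∀ c, Gb c = Ideal.Quotient.mk (N.map c_) (G c) := fun _ => rfl
  let Φ : T →ₐ[k'] (T ⧸ N.map c_) × Λ := AlgHom.prod (Ideal.Quotient.mkₐ k' (N.map c_)) e₀
  have hΦ : ∀ t, Φ t = (Ideal.Quotient.mk (N.map c_) t, e₀ t) := fun _ => rfl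
  have hker : ∀ x, Φ x = 0 → x ∈ N.map c_ := by
    intro x hx
    have h1 : Ideal.Quotient.mk (N.map c_) x = 0 := congrArg Prod.fst hx
    exact Ideal.Quotient.eq_zero_iff_mem.mp h1
  let f₀ : C' →ₐ[k'] (T ⧸ N.map c_) × Λ := AlgHom.prod Gb θ
  have hf₀v : ∀ c, f₀ c = (Ideal.Quotient.mk (N.map c_) (G c), θ c) := fun _ => rfl
  have hf₀ : ∀ c, f₀ c ∈ Φ.range := by
    intro c
    have hδ : θ c - e₀ (G c) = ε * (θ c - e₀ (G₁ c)) := by
      rw [hG]
      simp only [map_add, map_mul, map_sub, map_one, h₀]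
      ring
    refine (AlgHom.mem_range _).mpr ⟨G c + c_ (θ c - e₀ (G c)), ?_⟩
    rw [hΦ, hf₀v]
    apply Prod.ext
    · show Ideal.Quotient.mk (N.map c_) (G c + c_ (θ c - e₀ (G c))) =
        Ideal.Quotient.mk (N.map c_) (G c)
      rw [Ideal.Quotient.eq, add_sub_cancel_left, hδ]
      exact Ideal.mem_map_of_mem c_ (hb c)
    · show e₀ (G c + c_ (θ c - e₀ (G c))) = θ c
      rw [map_add, h₀, add_sub_cancel]
  obtain ⟨H, hH⟩ := exists_lift_of_range_nilpotent Φ f₀ hf₀ (N.map c_) hNT hker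
  have he1N : ∀ t ∈ N.map c_, e₁ t ∈ N := by
    have hle : N.map c_ ≤ N.comap e₁ := Ideal.map_le_iff_le_comap.mpr (fun x hx => by
      show e₁ (c_ x) ∈ N
      rw [h₁]
      exact hx)
    exact fun t ht => hle ht
  refine ⟨H, fun c => ?_, fun c => ?_⟩
  · have h1 := hH c
    rw [hΦ, hf₀v] at h1
    exact congrArg Prod.snd h1
  · have h1 := hH c
    rw [hΦ, hf₀v] at h1
    have h2 : Ideal.Quotient.mk (N.map c_) (H c) = Ideal.Quotient.mk (N.map c_) (G c) :=
      congrArg Prod.fst h1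
    have hmem : H c - G c ∈ N.map c_ := Ideal.Quotient.eq.mp h2
    have h3 : e₁ (H c) - (ε * e₁ (G₁ c) + (1 - ε) * θ c) = e₁ (H c - G c) := by
      rw [hG]
      simp only [map_add, map_mul, map_sub, map_one, h₁]
    rw [h3]
    exact he1N _ hmem

end Groth.Agent.Helper1.WL5
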