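import Mathlib
import Groth.Agent.Lib.Helper14.WeilConnDef
import Groth.Agent.Lib.Helper12.WeilConnL5a
import Groth.Agent.Lib.Helper1.WL5

/-!
# Changing one residue coordinate of a point of a Weil restriction along an elementary homotopy

(lemma L5 of helper14's S8214 project)
-/

universe u

open TensorProduct Groth.Agent.Helper14.WeilConn Groth.Agent.Helper12.WeilConnL5

namespace Groth.Agent.Helper1.WL5c

section core

variable {k k' K C' : Type u} [Field k] [Field k'] [Field K] [CommRing C']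
  [Algebra k k'] [Algebra k K] [Algebra k' C']

theorem pHtpy_core [Algebra.FormallySmooth k' C']
    (D : Type u) [CommRing D] [Algebra K D] [Algebra k D] [IsScalarTower k K D]
    (hD : ∀ e : D, IsIdempotentElem e → e = 0 ∨ e = 1)
    (Hb : C' →+* D) (d₀ d₁ : D →ₐ[K] K)
    (N : Ideal (k' ⊗[k] K)) (hN : IsNilpotent N) (ε : k' ⊗[k] K) (hε : IsIdempotentElem ε)
    (θ : C' →ₐ[k'] k' ⊗[k] K)
    (j : k' → K)
    (hj1 : ∀ b : k', Hb (algebraMap k' C' b) = algebraMap K D (j b))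
    (hj2 : ∀ b : k', ε * ((1 : k') ⊗ₜ[k] j b - b ⊗ₜ[k] (1 : K)) ∈ N)
    (h2 : ∀ c : C', ε * (θ c - (1 : k') ⊗ₜ[k] d₀ (Hb c)) ∈ N) :
    ∃ θ' : C' →ₐ[k'] k' ⊗[k] K, PHtpy k k' K C' θ θ' ∧
      ∀ c : C', θ' c - (ε * ((1 : k') ⊗ₜ[k] d₁ (Hb c)) + (1 - ε) * θ c) ∈ N := by
  let cK : K →ₐ[k] D := (Algebra.ofId K D).restrictScalars k
  let c_ : k' ⊗[k] K →ₐ[k'] k' ⊗[k] D := Algebra.TensorProduct.map (AlgHom.id k' k') cK
  let e₀ : k' ⊗[k] D →ₐ[k'] k' ⊗[k] K :=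
    Algebra.TensorProduct.map (AlgHom.id k' k') (d₀.restrictScalars k)
  let e₁ : k' ⊗[k] D →ₐ[k'] k' ⊗[k] K :=
    Algebra.TensorProduct.map (AlgHom.id k' k') (d₁.restrictScalars k)
  have hec : ∀ (d : D →ₐ[K] K) (x : k' ⊗[k] K),
      Algebra.TensorProduct.map (AlgHom.id k' k') (d.restrictScalars k) (c_ x) = x := by
    intro d x
    induction x using TensorProduct.induction_on with
    | zero => simp only [map_zero]
    | tmul b a =>
      show b ⊗ₜ[k] d (algebraMap K D a) = b ⊗ₜ[k] a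
      rw [d.commutes]
      rfl
    | add x y hx hy => simp only [map_add, hx, hy]
  have h₀ : ∀ x, e₀ (c_ x) = x := hec d₀
  have h₁ : ∀ x, e₁ (c_ x) = x := hec d₁
  let G₁ : C' →+* k' ⊗[k] D :=
    ((Algebra.TensorProduct.includeRight : D →ₐ[k] k' ⊗[k] D) : D →+* k' ⊗[k] D).comp Hb
  have ha : ∀ b : k',
      c_ ε * (G₁ (algebraMap k' C' b) - algebraMap k' (k' ⊗[k] D) b) ∈ N.map c_ := by
    intro b
    have h1 : G₁ (algebraMap k' C' b) - algebraMap k' (k' ⊗[k] D) b =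
        c_ ((1 : k') ⊗ₜ[k] j b - b ⊗ₜ[k] (1 : K)) := by
      rw [map_sub]
      congr 1
      · show (1 : k') ⊗ₜ[k] Hb (algebraMap k' C' b) = (1 : k') ⊗ₜ[k] (algebraMap K D (j b))
        rw [hj1]
      · show algebraMap k' (k' ⊗[k] D) b = b ⊗ₜ[k] cK 1
        rw [map_one]
        rfl
    rw [h1, ← map_mul]
    exact Ideal.mem_map_of_mem c_ (hj2 b)
  have hb : ∀ c : C', ε * (θ c - e₀ (G₁ c)) ∈ N := fun c => h2 c
  obtain ⟨H, hH0, hH1⟩ :=
    Groth.Agent.Helper1.WL5.exists_lift_change c_ e₀ e₁ h₀ h₁ N hN ε hε θ G₁ ha hb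
  refine ⟨e₁.comp H, ?_, fun c => hH1 c⟩
  exact ⟨D, inferInstance, inferInstance, inferInstance, inferInstance, hD, H, d₀, d₁,
    AlgHom.ext hH0, rfl⟩

end core

section concrete

variable {k k' K : Type u} [Field k] [Field k'] [Field K] [Algebra k k'] [Algebra k K]
  (n : Ideal (k' ⊗[k] K)) (C' : Type u) [CommRing C'] [Algebra k' C']

/-- `F ⊗[k'] C'` with `F = (k' ⊗[k] K) ⧸ n`, as an opaque type carrying its own `K`-algebra
structure. -/
def DD : Type u := ((k' ⊗[k] K) ⧸ n) ⊗[k'] C'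

noncomputable instance : CommRing (DD n C') :=
  inferInstanceAs (CommRing (((k' ⊗[k] K) ⧸ n) ⊗[k'] C'))

/-- `F → D`. -/
noncomputable def inclF : ((k' ⊗[k] K) ⧸ n) →+* DD n C' :=
  (Algebra.TensorProduct.includeLeftRingHom :
    ((k' ⊗[k] K) ⧸ n) →+* ((k' ⊗[k] K) ⧸ n) ⊗[k'] C')

noncomputable instance algKD : Algebra K (DD n C') := ((inclF n C').comp (iota n)).toAlgebra

noncomputable instance algkD : Algebra k (DD n C') :=
  ((algebraMap K (DD n C')).comp (algebraMap k K)).toAlgebra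

instance : IsScalarTower k K (DD n C') := IsScalarTower.of_algebraMap_eq (fun _ => rfl)

/-- `C' → D`, `c ↦ 1 ⊗ c`. -/
noncomputable def Hb : C' →+* DD n C' :=
  show C' →+* ((k' ⊗[k] K) ⧸ n) ⊗[k'] C' from
    (Algebra.TensorProduct.includeRight : C' →ₐ[k'] ((k' ⊗[k] K) ⧸ n) ⊗[k'] C').toRingHom

/-- `f ⊗ c ↦ f * z c`. -/
noncomputable def pz (z : C' →ₐ[k'] (k' ⊗[k] K) ⧸ n) :
    ((k' ⊗[k] K) ⧸ n) ⊗[k'] C' →ₐ[k'] (k' ⊗[k] K) ⧸ n :=
  Algebra.TensorProduct.lift (AlgHom.id k' ((k' ⊗[k] K) ⧸ n)) z (fun _ _ => Commute.all _ _)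

variable [Module.Finite k k'] [IsAlgClosed K] [hn : n.IsMaximal]

/-- `ι : K ≃ F`. -/
noncomputable def iotaEquiv : K ≃+* (k' ⊗[k] K) ⧸ n :=
  RingEquiv.ofBijective (iota n) (iota_bijective n)

/-- the `K`-point `f ⊗ c ↦ ι⁻¹ (f * z c)` of `D`. -/
noncomputable def dz (z : C' →ₐ[k'] (k' ⊗[k] K) ⧸ n) : DD n C' →ₐ[K] K :=
  { toRingHom := show (((k' ⊗[k] K) ⧸ n) ⊗[k'] C') →+* K from
      RingHom.comp ((iotaEquiv n).symm.toRingHom) (pz n C' z).toRingHom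
    commutes' := fun a => by
      show (iotaEquiv n).symm (pz n C' z ((iota n a) ⊗ₜ[k'] (1 : C'))) = a
      rw [pz, Algebra.TensorProduct.lift_tmul, map_one, mul_one]
      exact (iotaEquiv n).symm_apply_apply a }

theorem iota_dz_Hb (z : C' →ₐ[k'] (k' ⊗[k] K) ⧸ n) (c : C') :
    iota n (dz n C' z (Hb n C' c)) = z c := by
  have h1 : dz n C' z (Hb n C' c) = (iotaEquiv n).symm (z c) := by
    show (iotaEquiv n).symm (pz n C' z ((1 : (k' ⊗[k] K) ⧸ n) ⊗ₜ[k'] c)) = _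
    rw [pz, Algebra.TensorProduct.lift_tmul, map_one, one_mul]
  rw [h1]
  exact (iotaEquiv n).apply_symm_apply (z c)

end concrete

variable {k k' K C' AR : Type u} [Field k] [Field k'] [Field K] [CommRing C'] [CommRing AR]
  [Algebra k k'] [Algebra k K] [Algebra k' C'] [Algebra k AR]

theorem exists_pHtpy_change_coordinate [Module.Finite k k'] [IsAlgClosed K]
    [Algebra.IsAlgebraic k K] [Algebra.FormallySmooth k' C']
    (hconn : ConnectedSpace (PrimeSpectrum (AlgebraicClosure k' ⊗[k'] C')))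
    (n : Ideal (k' ⊗[k] K)) [n.IsMaximal] (θ : C' →ₐ[k'] k' ⊗[k] K)
    (y : C' →ₐ[k'] (k' ⊗[k] K) ⧸ n) :
    ∃ θ' : C' →ₐ[k'] k' ⊗[k] K, PHtpy k k' K C' θ θ' ∧
      (Ideal.Quotient.mkₐ k' n).comp θ' = y ∧
      ∀ n' : Ideal (k' ⊗[k] K), n'.IsMaximal → n' ≠ n →
        (Ideal.Quotient.mkₐ k' n').comp θ' = (Ideal.Quotient.mkₐ k' n').comp θ := by
  haveI : IsArtinianRing (k' ⊗[k] K) := isArtinianRing_tensor
  obtain ⟨ε, hε, hε1, hε2, hε3⟩ := exists_idempotent_of_isMaximal n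
  let z₀ : C' →ₐ[k'] (k' ⊗[k] K) ⧸ n := (Ideal.Quotient.mkₐ k' n).comp θ
  let j : k' → K := fun b => (iotaEquiv n).symm (algebraMap k' ((k' ⊗[k] K) ⧸ n) b)
  have hj1 : ∀ b : k', Hb n C' (algebraMap k' C' b) = algebraMap K (DD n C') (j b) := by
    intro b
    show ((1 : (k' ⊗[k] K) ⧸ n) ⊗ₜ[k'] (algebraMap k' C' b) :
      ((k' ⊗[k] K) ⧸ n) ⊗[k'] C') = (iota n (j b)) ⊗ₜ[k'] (1 : C')
    have h1 : iota n (j b) = algebraMap k' ((k' ⊗[k] K) ⧸ n) b :=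
      (iotaEquiv n).apply_symm_apply _
    rw [h1, Algebra.algebraMap_eq_smul_one, Algebra.algebraMap_eq_smul_one,
      TensorProduct.smul_tmul]
  have hj2 : ∀ b : k', ε * ((1 : k') ⊗ₜ[k] j b - b ⊗ₜ[k] (1 : K)) ∈
      nilradical (k' ⊗[k] K) := by
    intro b
    apply hε3
    rw [← Ideal.Quotient.eq]
    have h1 : Ideal.Quotient.mk n ((1 : k') ⊗ₜ[k] j b) =
        algebraMap k' ((k' ⊗[k] K) ⧸ n) b := (iotaEquiv n).apply_symm_apply _
    rw [h1]
    rfl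
  have h2 : ∀ c : C', ε * (θ c - (1 : k') ⊗ₜ[k] (dz n C' z₀ (Hb n C' c))) ∈
      nilradical (k' ⊗[k] K) := by
    intro c
    apply hε3
    rw [← Ideal.Quotient.eq]
    have h1 : Ideal.Quotient.mk n ((1 : k') ⊗ₜ[k] (dz n C' z₀ (Hb n C' c))) = z₀ c :=
      iota_dz_Hb n C' z₀ c
    rw [h1]
    rfl
  obtain ⟨θ', hP, hθ'⟩ := pHtpy_core (DD n C')
    (fun e he => eq_zero_or_one_of_tensor_quotient n hconn e he)
    (Hb n C') (dz n C' z₀) (dz n C' y) (nilradical (k' ⊗[k] K))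
    IsArtinianRing.isNilpotent_nilradical ε hε θ j hj1 hj2 h2
  have hmod : ∀ (P : Ideal (k' ⊗[k] K)) [P.IsPrime] (c : C'),
      Ideal.Quotient.mk P (θ' c) =
        Ideal.Quotient.mk P ε * Ideal.Quotient.mk P ((1 : k') ⊗ₜ[k] (dz n C' y (Hb n C' c))) +
          (1 - Ideal.Quotient.mk P ε) * Ideal.Quotient.mk P (θ c) := by
    intro P _ c
    have h1 : Ideal.Quotient.mk P (θ' c) = Ideal.Quotient.mk P
        (ε * ((1 : k') ⊗ₜ[k] (dz n C' y (Hb n C' c))) + (1 - ε) * θ c) :=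
      Ideal.Quotient.eq.mpr (nilradical_le_prime P (hθ' c))
    rw [h1, map_add, map_mul, map_mul, map_sub, map_one]
  refine ⟨θ', hP, ?_, ?_⟩
  · refine AlgHom.ext fun c => ?_
    show Ideal.Quotient.mk n (θ' c) = y c
    have hε' : Ideal.Quotient.mk n ε = 1 := by
      rw [← map_one (Ideal.Quotient.mk n)]
      exact Ideal.Quotient.eq.mpr hε1
    rw [hmod n c, hε', sub_self, zero_mul, add_zero, one_mul]
    exact iota_dz_Hb n C' y c
  · intro n' hn' hne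
    haveI := hn'
    refine AlgHom.ext fun c => ?_
    show Ideal.Quotient.mk n' (θ' c) = Ideal.Quotient.mk n' (θ c)
    have hε' : Ideal.Quotient.mk n' ε = 0 :=
      Ideal.Quotient.eq_zero_iff_mem.mpr (hε2 n' hn' hne)
    rw [hmod n' c, hε', zero_mul, zero_add, sub_zero, one_mul]

end Groth.Agent.Helper1.WL5c
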