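import Mathlib
import Groth.Agent.Lib.Helper1.TorFree

/-!
# Weakly étale field extensions are separable algebraic
-/

namespace Groth.Agent.Helper1

open TensorProduct Function IntermediateField

universe u

/-- If `A → B → C` with `C` flat over `A` and faithfully flat over `B`, then `B` is flat
over `A`. -/
theorem flat_of_flat_of_faithfullyFlat (A B C : Type u) [CommRing A] [CommRing B] [CommRing C]
    [Algebra A B] [Algebra B C] [Algebra A C] [IsScalarTower A B C] [Module.Flat A C]
    [Module.FaithfullyFlat B C] : Module.Flat A B := by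
  rw [Module.Flat.iff_lTensor_preserves_injective_linearMap]
  intro N P _ _ _ _ f hf
  have h1 : Injective (f.lTensor C) := Module.Flat.lTensor_preserves_injective_linearMap f hf
  have h2 : Injective ((f.baseChange B).lTensor C) := by
    intro x y hxy
    apply (AlgebraTensorModule.cancelBaseChange A B B C N).injective
    apply h1
    rw [← cancelBaseChange_lTensor, ← cancelBaseChange_lTensor, hxy]
  have h3 : Injective (f.baseChange B) :=
    (Module.FaithfullyFlat.lTensor_injective_iff_injective B C (f.baseChange B)).mp h2
  exact h3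

/-- Ring hom version. -/
theorem RingHom.flat_of_comp_flat_of_faithfullyFlat {A B C : Type u} [CommRing A] [CommRing B]
    [CommRing C] (f : A →+* B) (g : B →+* C) (hgf : (g.comp f).Flat) (hg : g.FaithfullyFlat) :
    f.Flat := by
  algebraize [f, g, g.comp f]
  have : Module.FaithfullyFlat B C := hg
  exact flat_of_flat_of_faithfullyFlat A B C

/-- If `A ⧸ I` is flat over `A`, then `I` is idempotent. -/
theorem isIdempotentElem_of_flat_quotient {A : Type u} [CommRing A] (I : Ideal A)
    [Module.Flat A (A ⧸ I)] : IsIdempotentElem I := by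
  apply le_antisymm Ideal.mul_le_left
  intro x hx
  have h1 : Injective (I.subtype.lTensor (A ⧸ I)) :=
    Module.Flat.lTensor_preserves_injective_linearMap _ (Submodule.injective_subtype _)
  have h2 : (1 : A ⧸ I) ⊗ₜ[A] (⟨x, hx⟩ : I) = 0 := by
    apply h1
    rw [LinearMap.lTensor_tmul, map_zero, Submodule.subtype_apply]
    have : (1 : A ⧸ I) ⊗ₜ[A] x = (x • (1 : A ⧸ I)) ⊗ₜ[A] (1 : A) := by
      rw [TensorProduct.smul_tmul, smul_eq_mul, mul_one]
    rw [this]
    have : x • (1 : A ⧸ I) = 0 := by
      rw [Algebra.smul_def, mul_one, Ideal.Quotient.algebraMap_eq, Ideal.Quotient.eq_zero_iff_mem]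
      exact hx
    rw [this, TensorProduct.zero_tmul]
  rw [one_tmul_eq_zero_iff, Submodule.mem_smul_top_iff] at h2
  exact h2

/-- A flat surjective ring map has idempotent kernel. -/
theorem isIdempotentElem_ker_of_flat_of_surjective {A B : Type u} [CommRing A] [CommRing B]
    (f : A →+* B) (hf : f.Flat) (hs : Surjective f) : IsIdempotentElem (RingHom.ker f) := by
  algebraize [f]
  let e : (A ⧸ RingHom.ker f) ≃ₐ[A] B :=
    Ideal.quotientKerAlgEquivOfSurjective (f := Algebra.ofId A B) hs
  have : Module.Flat A (A ⧸ RingHom.ker f) := Module.Flat.of_linearEquiv e.toLinearEquiv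
  exact isIdempotentElem_of_flat_quotient _

/-- A weakly étale algebra is formally unramified. -/
theorem formallyUnramified_of_weaklyEtale (R S : Type u) [CommRing R] [CommRing S] [Algebra R S]
    [Algebra.WeaklyEtale R S] : Algebra.FormallyUnramified R S := by
  constructor
  have h1 : IsIdempotentElem (KaehlerDifferential.ideal R S) :=
    isIdempotentElem_ker_of_flat_of_surjective _ (Algebra.WeaklyEtale.flat_lmul' R S)
      (fun s => ⟨s ⊗ₜ 1, by simp⟩)
  exact (Ideal.cotangent_subsingleton_iff _).mpr h1

/-- If `L/K` is a weakly étale field extension, so is every intermediate field over `K`. -/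
theorem weaklyEtale_intermediateField {K L : Type u} [Field K] [Field L] [Algebra K L]
    [Algebra.WeaklyEtale K L] (E : IntermediateField K L) : Algebra.WeaklyEtale K E := by
  refine ⟨inferInstance, ?_⟩
  have hval : (E.val : E →ₐ[K] L).Flat := RingHom.Flat.of_isField (Field.toIsField E) _
  have h1 : (Algebra.TensorProduct.map E.val E.val).Flat := RingHom.Flat.tensorProductMap hval hval
  have h2 : ((Algebra.TensorProduct.lmul' K (S := L)).toRingHom.comp
      (Algebra.TensorProduct.map E.val E.val).toRingHom).Flat :=
    RingHom.Flat.comp h1 (Algebra.WeaklyEtale.flat_lmul' K L)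
  have h3 : (Algebra.TensorProduct.lmul' K (S := L)).toRingHom.comp
      (Algebra.TensorProduct.map E.val E.val).toRingHom =
      (algebraMap E L).comp (Algebra.TensorProduct.lmul' K (S := E)).toRingHom := by
    have : (Algebra.TensorProduct.lmul' K (S := L)).comp (Algebra.TensorProduct.map E.val E.val) =
        (E.val).comp (Algebra.TensorProduct.lmul' K (S := E)) := by
      ext <;> simp
    exact congrArg AlgHom.toRingHom this
  rw [h3] at h2
  refine RingHom.flat_of_comp_flat_of_faithfullyFlat _ (algebraMap E L) h2 ?_
  rw [RingHom.faithfullyFlat_algebraMap_iff]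
  infer_instance

/-- A weakly étale field extension is separable (in particular algebraic). -/
theorem isSeparable_of_weaklyEtale {K L : Type u} [Field K] [Field L] [Algebra K L]
    [Algebra.WeaklyEtale K L] : Algebra.IsSeparable K L := by
  refine ⟨fun x => ?_⟩
  have h1 : Algebra.WeaklyEtale K K⟮x⟯ := weaklyEtale_intermediateField _
  have h2 : Algebra.FormallyUnramified K K⟮x⟯ := formallyUnramified_of_weaklyEtale _ _
  have h3 : Algebra.EssFiniteType K K⟮x⟯ :=
    IntermediateField.essFiniteType_iff.mpr ⟨{x}, by simp⟩
  have h4 : Algebra.IsSeparable K K⟮x⟯ := Algebra.FormallyUnramified.isSeparable K K⟮x⟯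
  have h5 := Algebra.IsSeparable.isSeparable K (IntermediateField.AdjoinSimple.gen K x)
  have h6 := h5.map (K⟮x⟯).val (K⟮x⟯).val.injective
  simpa using h6

end Groth.Agent.Helper1
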