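import Mathlib
import Groth.Agent.Lib.Helper1.WeaklyEtaleField

/-!
# Weakly étale morphisms of schemes are formally unramified
-/

open CategoryTheory CategoryTheory.Limits Opposite TopologicalSpace AlgebraicGeometry

universe u

namespace Groth.Agent.Helper1

theorem formallyUnramified_of_weaklyEtale_scheme {X Y : Scheme.{u}} (f : X ⟶ Y) [WeaklyEtale f] :
    FormallyUnramified f := by
  wlog hY : ∃ R, Y = Spec R
  · rw [IsZariskiLocalAtTarget.iff_of_openCover (P := @FormallyUnramified) Y.affineCover]
    intro i
    have inst : WeaklyEtale (pullback.snd f (Y.affineCover.f i)) := inferInstance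
    exact this (pullback.snd _ _) ⟨_, rfl⟩
  obtain ⟨R, rfl⟩ := hY
  wlog hX : ∃ S, X = Spec S generalizing X
  · rw [IsZariskiLocalAtSource.iff_of_openCover (P := @FormallyUnramified) X.affineCover]
    intro i
    have inst : WeaklyEtale (X.affineCover.f i ≫ f) := inferInstance
    exact this (_ ≫ _) ⟨_, rfl⟩
  obtain ⟨S, rfl⟩ := hX
  obtain ⟨φ, rfl : Spec.map φ = f⟩ := Spec.homEquiv.symm.surjective f
  rw [HasRingHomProperty.Spec_iff (P := @FormallyUnramified)]
  have hflat : φ.hom.Flat :=
    (HasRingHomProperty.Spec_iff (P := @Flat)).mp (inferInstance : Flat (Spec.map φ))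
  algebraize [φ.hom]
  let F := (Algebra.TensorProduct.lmul' R (S := S)).toRingHom
  have hΔ : Flat (pullback.diagonal (Spec.map φ)) := inferInstance
  have : Flat (Spec.map (CommRingCat.ofHom F)) := by
    rwa [← MorphismProperty.cancel_right_of_respectsIso (P := @Flat) _
      (pullbackSpecIso R S S).inv, ← AlgebraicGeometry.diagonal_SpecMap R S]
  have hF : F.Flat := (HasRingHomProperty.Spec_iff (P := @Flat)).mp this
  have : Algebra.WeaklyEtale R S := ⟨RingHom.flat_algebraMap_iff.mp hflat, hF⟩
  have := formallyUnramified_of_weaklyEtale R S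
  exact RingHom.formallyUnramified_algebraMap.mpr this

end Groth.Agent.Helper1
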